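import Mathlib

set_option autoImplicit false
set_option linter.unusedSectionVars false
set_option linter.unusedVariables false

/-!
# Explicit Möbius action of `SL₂(F)` on `OnePoint F` (helper9)
-/

namespace Cfsg.Agent.Lib.Helper9.Mobius

open OnePoint Matrix

variable {F : Type*} [Field F] [DecidableEq F]

/-- explicit element of `SL₂` -/
def mkSL (a b c d : F) (h : a * d - b * c = 1) : Matrix.SpecialLinearGroup (Fin 2) F :=
  ⟨!![a, b; c, d], by rw [Matrix.det_fin_two_of]; exact h⟩

theorem mkSL_smul_infty (a b c d : F) (h : a * d - b * c = 1) :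
    (Matrix.SpecialLinearGroup.toGL (mkSL a b c d h)) • (∞ : OnePoint F) =
      if c = 0 then ∞ else ((a / c : F) : OnePoint F) := by
  rw [OnePoint.smul_infty_eq_ite]
  rfl

theorem mkSL_smul_coe (a b c d : F) (h : a * d - b * c = 1) (k : F) :
    (Matrix.SpecialLinearGroup.toGL (mkSL a b c d h)) • (k : OnePoint F) =
      if c * k + d = 0 then ∞ else (((a * k + b) / (c * k + d) : F) : OnePoint F) := by
  rw [OnePoint.smul_some_eq_ite]
  rfl

/-- the permutation representation of `SL₂(F)` on the projective line -/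
noncomputable def rhoS : Matrix.SpecialLinearGroup (Fin 2) F →* Equiv.Perm (OnePoint F) :=
  (MulAction.toPermHom (GL (Fin 2) F) (OnePoint F)).comp Matrix.SpecialLinearGroup.toGL

theorem rhoS_apply (S : Matrix.SpecialLinearGroup (Fin 2) F) (p : OnePoint F) :
    rhoS S p = (Matrix.SpecialLinearGroup.toGL S) • p := rfl

theorem card_onePoint [Finite F] : Nat.card (OnePoint F) = Nat.card F + 1 := by
  show Nat.card (Option F) = _
  exact Finite.card_option

end Cfsg.Agent.Lib.Helper9.Mobius

namespace Cfsg.Agent.Lib.Helper9.Mobius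

open OnePoint Matrix

section Recognize

variable {F : Type*} [Field F] [DecidableEq F]
variable {G : Type*} [Group G] {Ω : Type*} [MulAction G Ω]

/-- the elements of `G` acting as Möbius transformations w.r.t. the coordinate `ι` -/
def mobiusSubgroup (ι : Ω → OnePoint F) : Subgroup G where
  carrier := {g | ∃ S : Matrix.SpecialLinearGroup (Fin 2) F,
    ∀ x : Ω, (Matrix.SpecialLinearGroup.toGL S) • ι x = ι (g • x)}
  mul_mem' := by
    rintro g h ⟨S, hS⟩ ⟨S', hS'⟩
    refine ⟨S * S', fun x => ?_⟩
    rw [map_mul, mul_smul, hS', hS, mul_smul]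
  one_mem' := ⟨1, fun x => by rw [map_one, one_smul, one_smul]⟩
  inv_mem' := by
    rintro g ⟨S, hS⟩
    refine ⟨S⁻¹, fun x => ?_⟩
    have h1 := hS (g⁻¹ • x)
    rw [← mul_smul, mul_inv_cancel, one_smul] at h1
    rw [← h1, ← mul_smul, map_inv, inv_mul_cancel, one_smul]

theorem mem_mobiusSubgroup {ι : Ω → OnePoint F} {g : G} :
    g ∈ mobiusSubgroup (F := F) ι ↔ ∃ S : Matrix.SpecialLinearGroup (Fin 2) F,
      ∀ x : Ω, (Matrix.SpecialLinearGroup.toGL S) • ι x = ι (g • x) := Iff.rfl

/-- **Recognition**: a faithful action all of whose elements act as Möbius transformations, of the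
right order, is `SL₂(F)`. -/
theorem nonempty_mulEquiv_SL [Finite G] [Finite F] (ι : Ω → OnePoint F) (hι : Function.Bijective ι)
    (hfaith : ∀ g : G, (∀ x : Ω, g • x = x) → g = 1)
    (hall : ∀ g : G, ∃ S : Matrix.SpecialLinearGroup (Fin 2) F,
      ∀ x : Ω, (Matrix.SpecialLinearGroup.toGL S) • ι x = ι (g • x))
    (hcard : Nat.card (Matrix.SpecialLinearGroup (Fin 2) F) ≤ Nat.card G) :
    Nonempty (G ≃* Matrix.SpecialLinearGroup (Fin 2) F) := by
  classical
  have : Fintype F := Fintype.ofFinite F
  let ιe : Ω ≃ OnePoint F := Equiv.ofBijective ι hι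
  let ρG : G →* Equiv.Perm (OnePoint F) :=
    (ιe.permCongrHom.toMonoidHom).comp (MulAction.toPermHom G Ω)
  have hρG : ∀ (g : G) (p : OnePoint F), ρG g p = ι (g • ιe.symm p) := fun g p => rfl
  have hρG_inj : Function.Injective ρG := by
    rw [injective_iff_map_eq_one]
    intro g hg
    apply hfaith
    intro x
    have h1 := congrArg (fun σ : Equiv.Perm (OnePoint F) => σ (ι x)) hg
    simp only [hρG, Equiv.Perm.coe_one, id_eq] at h1
    have h2 : ιe.symm (ι x) = x := ιe.symm_apply_apply x
    rw [h2] at h1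
    exact hι.1 h1
  have hle : ρG.range ≤ (rhoS (F := F)).range := by
    rintro σ ⟨g, rfl⟩
    obtain ⟨S, hS⟩ := hall g
    refine ⟨S, ?_⟩
    ext p
    rw [rhoS_apply, hρG]
    have h2 : ι (ιe.symm p) = p := ιe.apply_symm_apply p
    have := hS (ιe.symm p)
    rw [h2] at this
    exact this
  have hcA : Nat.card ρG.range = Nat.card G :=
    (Nat.card_congr (MonoidHom.ofInjective hρG_inj).toEquiv).symm
  have hcB : Nat.card (rhoS (F := F)).range ≤ Nat.card (Matrix.SpecialLinearGroup (Fin 2) F) :=
    Nat.card_le_card_of_surjective _ (rhoS (F := F)).rangeRestrict_surjective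
  have hAB : ρG.range = (rhoS (F := F)).range :=
    Subgroup.eq_of_le_of_card_ge hle (by rw [hcA]; exact hcB.trans hcard)
  have hcB' : Nat.card (rhoS (F := F)).range = Nat.card (Matrix.SpecialLinearGroup (Fin 2) F) := by
    apply le_antisymm hcB
    rw [← hAB, hcA]; exact hcard
  have hρS_inj : Function.Injective (rhoS (F := F)) := by
    have h1 : Function.Bijective (rhoS (F := F)).rangeRestrict :=
      (Nat.bijective_iff_surjective_and_card _).mpr
        ⟨(rhoS (F := F)).rangeRestrict_surjective, hcB'.symm⟩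
    intro a b hab
    apply h1.1
    exact Subtype.ext hab
  exact ⟨(MonoidHom.ofInjective hρG_inj).trans
    ((MulEquiv.subgroupCongr hAB).trans (MonoidHom.ofInjective hρS_inj).symm)⟩

end Recognize

end Cfsg.Agent.Lib.Helper9.Mobius
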