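import Mathlib.GroupTheory.Sylow
import Mathlib.GroupTheory.Subgroup.Centralizer
import Mathlib.Tactic
import Cfsg.Prelude.Def_Transfer

set_option autoImplicit false

namespace Cfsg.Agent.Lib.Helper9

open scoped Pointwise

variable {G : Type*} [Group G]

theorem mem_conjMap {W : Subgroup G} {g x : G} :
    x ∈ W.map (MulAut.conj g).toMonoidHom ↔ g⁻¹ * x * g ∈ W := by
  constructor
  · rintro ⟨w, hw, rfl⟩
    simp only [MulEquiv.coe_toMonoidHom, MulAut.conj_apply]
    have : g⁻¹ * (g * w * g⁻¹) * g = w := by group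
    rw [this]; exact hw
  · intro h
    refine ⟨g⁻¹ * x * g, h, ?_⟩
    simp only [MulEquiv.coe_toMonoidHom, MulAut.conj_apply]
    group

theorem conj_mem_conjMap {W : Subgroup G} {g w : G} (hw : w ∈ W) :
    g * w * g⁻¹ ∈ W.map (MulAut.conj g).toMonoidHom :=
  ⟨w, hw, by simp [MulAut.conj_apply]⟩

theorem conjMap_mul (W : Subgroup G) (g h : G) :
    W.map (MulAut.conj (g * h)).toMonoidHom =
      (W.map (MulAut.conj h).toMonoidHom).map (MulAut.conj g).toMonoidHom := by
  ext x
  simp only [mem_conjMap]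
  have : (g * h)⁻¹ * x * (g * h) = h⁻¹ * (g⁻¹ * x * g) * h := by group
  rw [this]

theorem conjMap_one (W : Subgroup G) : W.map (MulAut.conj (1 : G)).toMonoidHom = W := by
  ext x; simp

theorem conjMap_inv_conjMap (W : Subgroup G) (g : G) :
    (W.map (MulAut.conj g).toMonoidHom).map (MulAut.conj g⁻¹).toMonoidHom = W := by
  rw [← conjMap_mul, inv_mul_cancel, conjMap_one]

theorem conjMap_conjMap_inv (W : Subgroup G) (g : G) :
    (W.map (MulAut.conj g⁻¹).toMonoidHom).map (MulAut.conj g).toMonoidHom = W := by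
  rw [← conjMap_mul, mul_inv_cancel, conjMap_one]

theorem conjMap_mono {W V : Subgroup G} (h : W ≤ V) (g : G) :
    W.map (MulAut.conj g).toMonoidHom ≤ V.map (MulAut.conj g).toMonoidHom :=
  Subgroup.map_mono h

theorem conjMap_eq_smul (W : Subgroup G) (g : G) :
    W.map (MulAut.conj g).toMonoidHom = MulAut.conj g • W := rfl

theorem conjMap_le_iff {W V : Subgroup G} {g : G} :
    W.map (MulAut.conj g).toMonoidHom ≤ V ↔ W ≤ V.map (MulAut.conj g⁻¹).toMonoidHom := by
  constructor
  · intro h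
    have := conjMap_mono h g⁻¹
    rwa [conjMap_inv_conjMap] at this
  · intro h
    have := conjMap_mono h g
    rwa [conjMap_conjMap_inv] at this

theorem card_conjMap (W : Subgroup G) (g : G) :
    Nat.card (W.map (MulAut.conj g).toMonoidHom) = Nat.card W :=
  (Nat.card_congr (W.equivMapOfInjective _ (MulAut.conj g).injective).toEquiv).symm

/-- a conjugate contained in `W` (finite) equals `W` -/
theorem conjMap_eq_of_le [Finite G] {W : Subgroup G} {g : G}
    (h : W.map (MulAut.conj g).toMonoidHom ≤ W) : W.map (MulAut.conj g).toMonoidHom = W :=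
  Subgroup.eq_of_le_of_card_ge h (by rw [card_conjMap])

theorem conjMap_eq_self_of_mem_normalizer {W : Subgroup G} {g : G}
    (hg : g ∈ Subgroup.normalizer (W : Set G)) : W.map (MulAut.conj g).toMonoidHom = W := by
  ext x
  rw [mem_conjMap]
  have := (Subgroup.mem_normalizer_iff.mp ((Subgroup.normalizer (W : Set G)).inv_mem hg)) x
  rw [inv_inv] at this
  exact this.symm

theorem mem_normalizer_of_conjMap_eq_self {W : Subgroup G} {g : G}
    (h : W.map (MulAut.conj g).toMonoidHom = W) : g ∈ Subgroup.normalizer (W : Set G) := by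
  rw [Subgroup.mem_normalizer_iff]
  intro x
  constructor
  · intro hx
    rw [← h]; exact conj_mem_conjMap hx
  · intro hx
    rw [← h, mem_conjMap] at hx
    have : g⁻¹ * (g * x * g⁻¹) * g = x := by group
    rwa [this] at hx

theorem isPGroup_conjMap {p : ℕ} {W : Subgroup G} (hW : IsPGroup p W) (g : G) :
    IsPGroup p (W.map (MulAut.conj g).toMonoidHom) :=
  hW.map _

/-- Sylow: any `p`-subgroup lies in a conjugate of a given Sylow `p`-subgroup. -/
theorem exists_le_conjMap_sylow [Finite G] {p : ℕ} [Fact p.Prime] (T : Sylow p G)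
    {X : Subgroup G} (hX : IsPGroup p X) :
    ∃ k : G, X ≤ (T : Subgroup G).map (MulAut.conj k).toMonoidHom := by
  obtain ⟨Q, hQ⟩ := hX.exists_le_sylow
  obtain ⟨k, hk⟩ := MulAction.exists_smul_eq G T Q
  refine ⟨k, ?_⟩
  rw [conjMap_eq_smul, ← Sylow.coe_subgroup_smul, hk]
  exact hQ

/-- Sylow inside a subgroup `H`: two `p`-subgroups of `H` can be put in a common `p`-subgroup
of `H` after conjugating one of them by an element of `H`. -/
theorem exists_pgroup_conj_le [Finite G] {p : ℕ} [Fact p.Prime]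
    (H X Y : Subgroup G) (hX : IsPGroup p X) (hY : IsPGroup p Y) (hXH : X ≤ H) (hYH : Y ≤ H) :
    ∃ P : Subgroup G, IsPGroup p P ∧ P ≤ H ∧ X ≤ P ∧
      ∃ h ∈ H, Y.map (MulAut.conj h).toMonoidHom ≤ P := by
  have hX' : IsPGroup p (X.subgroupOf H) := hX.comap_subtype
  have hY' : IsPGroup p (Y.subgroupOf H) := hY.comap_subtype
  obtain ⟨P₁, hP₁⟩ := hX'.exists_le_sylow
  obtain ⟨P₂, hP₂⟩ := hY'.exists_le_sylow
  obtain ⟨h, hh⟩ := MulAction.exists_smul_eq H P₂ P₁
  refine ⟨(P₁ : Subgroup H).map H.subtype, P₁.2.map _, Subgroup.map_subtype_le _, ?_, h, h.2, ?_⟩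
  · intro x hx
    exact ⟨⟨x, hXH hx⟩, hP₁ (by simpa [Subgroup.mem_subgroupOf] using hx), rfl⟩
  · rintro _ ⟨y, hy, rfl⟩
    refine ⟨h * ⟨y, hYH hy⟩ * h⁻¹, ?_, ?_⟩
    · have hy2 : (⟨y, hYH hy⟩ : H) ∈ (P₂ : Subgroup H) :=
        hP₂ (by simpa [Subgroup.mem_subgroupOf] using hy)
      have : h * ⟨y, hYH hy⟩ * h⁻¹ ∈ ((h • P₂ : Sylow p H) : Subgroup H) := by
        rw [Sylow.coe_subgroup_smul, ← conjMap_eq_smul]
        exact conj_mem_conjMap hy2
      rw [hh] at this
      exact this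
    · simp [MulAut.conj_apply]


/-- A weakly closed subgroup of a Sylow subgroup: two conjugates inside a subgroup `H` are
conjugate in `H`. -/
theorem weaklyClosed_conj_in_subgroup [Finite G] {p : ℕ} [Fact p.Prime] (T : Sylow p G)
    (W : Subgroup G) (hW : Cfsg.IsWeaklyClosed W (T : Subgroup G)) (H : Subgroup G)
    (hWH : W ≤ H) (g : G) (hgH : W.map (MulAut.conj g).toMonoidHom ≤ H) :
    ∃ h ∈ H, W.map (MulAut.conj h).toMonoidHom = W.map (MulAut.conj g).toMonoidHom := by
  have hWp : IsPGroup p W := T.2.to_le hW.1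
  obtain ⟨P, hP, -, hWP, h, hh, hhP⟩ :=
    exists_pgroup_conj_le H W (W.map (MulAut.conj g).toMonoidHom) hWp
      (isPGroup_conjMap hWp g) hWH hgH
  obtain ⟨k, hk⟩ := exists_le_conjMap_sylow T hP
  -- W^(k⁻¹) ≤ T and W^(k⁻¹ h g) ≤ T
  have h1 : W.map (MulAut.conj k⁻¹).toMonoidHom ≤ T := by
    have := conjMap_mono (hWP.trans hk) k⁻¹
    rwa [conjMap_inv_conjMap] at this
  have h2 : W.map (MulAut.conj (k⁻¹ * (h * g))).toMonoidHom ≤ T := by
    rw [conjMap_mul, conjMap_mul]
    have := conjMap_mono (hhP.trans hk) k⁻¹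
    rwa [conjMap_inv_conjMap] at this
  have e1 := hW.2 _ h1
  have e2 := hW.2 _ h2
  -- so W^(h g) = W^k = W
  have e1' : W.map (MulAut.conj k).toMonoidHom = W := by
    conv_lhs => rw [← e1]
    rw [conjMap_conjMap_inv]
  have e3 : W.map (MulAut.conj (h * g)).toMonoidHom = W := by
    have : (W.map (MulAut.conj (k⁻¹ * (h * g))).toMonoidHom).map (MulAut.conj k).toMonoidHom
        = W.map (MulAut.conj k).toMonoidHom := by rw [e2]
    rw [conjMap_mul, conjMap_conjMap_inv, e1'] at this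
    exact this
  refine ⟨h⁻¹, H.inv_mem hh, ?_⟩
  have : (W.map (MulAut.conj (h * g)).toMonoidHom).map (MulAut.conj h⁻¹).toMonoidHom
      = W.map (MulAut.conj h⁻¹).toMonoidHom := by rw [e3]
  rw [conjMap_mul, conjMap_inv_conjMap] at this
  exact this.symm

end Cfsg.Agent.Lib.Helper9
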