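import Mathlib
import Cfsg.Prelude.Def_Local

set_option autoImplicit false

/-!
# LayerCore (helper9): quasisimple groups, components, the layer, the generalized Fitting subgroup
-/

namespace Cfsg.Agent.Lib.Helper9

open Subgroup
open scoped commutatorElement

section Quasisimple

variable {H : Type*} [Group H]

theorem qs_perfect (h : Cfsg.IsQuasisimple H) : Group.IsPerfect H := h.1

theorem qs_commutator_eq_top (h : Cfsg.IsQuasisimple H) : commutator H = ⊤ :=
  h.1.commutator_eq_top

theorem qs_simple (h : Cfsg.IsQuasisimple H) : IsSimpleGroup (H ⧸ center H) := h.2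

theorem commutatorElement_mul_center_left {a b z : H} (hz : z ∈ center H) :
    ⁅a * z, b⁆ = ⁅a, b⁆ := by
  have h := (Subgroup.mem_center_iff.mp hz) b
  simp only [commutatorElement_def]
  calc a * z * b * (a * z)⁻¹ * b⁻¹ = a * (z * b) * z⁻¹ * a⁻¹ * b⁻¹ := by group
    _ = a * (b * z) * z⁻¹ * a⁻¹ * b⁻¹ := by rw [h]
    _ = a * b * a⁻¹ * b⁻¹ := by group

theorem commutatorElement_mul_center_right {a b z : H} (hz : z ∈ center H) :
    ⁅a, b * z⁆ = ⁅a, b⁆ := by
  have h := (Subgroup.mem_center_iff.mp hz) a⁻¹
  simp only [commutatorElement_def]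
  calc a * (b * z) * a⁻¹ * (b * z)⁻¹ = a * b * (z * a⁻¹) * z⁻¹ * b⁻¹ := by group
    _ = a * b * (a⁻¹ * z) * z⁻¹ * b⁻¹ := by rw [h]
    _ = a * b * a⁻¹ * b⁻¹ := by group

/-- commutators of elements of `N ⊔ Z(H)` are commutators of elements of `N`. -/
theorem commutator_sup_center_le (N M : Subgroup H) [N.Normal] (hM : ∀ n ∈ N, ∀ m ∈ N, ⁅n, m⁆ ∈ M) :
    ⁅N ⊔ center H, N ⊔ center H⁆ ≤ M := by
  rw [Subgroup.commutator_le]
  intro a ha b hb
  obtain ⟨n₁, hn₁, z₁, hz₁, rfl⟩ := Subgroup.mem_sup_of_normal_left.mp ha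
  obtain ⟨n₂, hn₂, z₂, hz₂, rfl⟩ := Subgroup.mem_sup_of_normal_left.mp hb
  rw [commutatorElement_mul_center_left hz₁, commutatorElement_mul_center_right hz₂]
  exact hM _ hn₁ _ hn₂

/-- In a quasisimple group, a normal subgroup is central or everything. -/
theorem qs_normal_le_center_or_eq_top (h : Cfsg.IsQuasisimple H) (N : Subgroup H) [hN : N.Normal] :
    N ≤ center H ∨ N = ⊤ := by
  have hs := h.2
  have hmap : (N.map (QuotientGroup.mk' (center H))).Normal :=
    hN.map _ (QuotientGroup.mk'_surjective _)
  rcases hs.eq_bot_or_eq_top_of_normal _ hmap with h1 | h1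
  · left
    rw [Subgroup.map_eq_bot_iff, QuotientGroup.ker_mk'] at h1
    exact h1
  · right
    have h2 : N ⊔ center H = ⊤ := by
      have := Subgroup.comap_map_eq (QuotientGroup.mk' (center H)) N
      rw [h1, Subgroup.comap_top, QuotientGroup.ker_mk'] at this
      exact this.symm
    have h3 : ⁅N ⊔ center H, N ⊔ center H⁆ ≤ N :=
      commutator_sup_center_le N N (fun n _ m hm => by
        rw [commutatorElement_def]
        exact N.mul_mem (hN.conj_mem m hm n) (N.inv_mem hm))
    rw [h2, ← commutator_def, qs_commutator_eq_top h] at h3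
    exact top_le_iff.mp h3


theorem qs_center_ne_top (h : Cfsg.IsQuasisimple H) : center H ≠ ⊤ := by
  intro hc
  have := h.2.toNontrivial
  have hsub : Subsingleton (H ⧸ center H) := by
    rw [hc]; exact QuotientGroup.subsingleton_quotient_top
  exact not_subsingleton _ hsub

theorem qs_nontrivial (h : Cfsg.IsQuasisimple H) : Nontrivial H := by
  by_contra hn
  rw [not_nontrivial_iff_subsingleton] at hn
  exact qs_center_ne_top h (Subsingleton.elim _ _)

/-- **S1259**: in a quasisimple group, a subnormal subgroup is everything or central. -/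
theorem qs_subnormal_eq_top_or_le_center (h : Cfsg.IsQuasisimple H) (K : Subgroup H)
    (hK : K.IsSubnormal) : K = ⊤ ∨ K ≤ center H := by
  induction hK with
  | top => left; rfl
  | step A B hle _ hN ih =>
    rcases ih with h1 | h1
    · subst h1
      have hA : A.Normal := by
        rw [Subgroup.normal_subgroupOf_iff_le_normalizer le_top] at hN
        exact Subgroup.normalizer_eq_top_iff.mp (top_le_iff.mp hN)
      exact (qs_normal_le_center_or_eq_top h A).symm
    · right; exact hle.trans h1

theorem qs_of_mulEquiv {K : Type*} [Group K] (e : H ≃* K) (h : Cfsg.IsQuasisimple H) :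
    Cfsg.IsQuasisimple K := by
  have := h.1
  refine ⟨Group.IsPerfect.ofSurjective (f := e.toMonoidHom) e.surjective, ?_⟩
  have hc : (center H).map e.toMonoidHom = center K := by
    ext x
    constructor
    · rintro ⟨z, hz, rfl⟩
      rw [Subgroup.mem_center_iff]
      intro g
      obtain ⟨g', rfl⟩ := e.surjective g
      have := (Subgroup.mem_center_iff.mp hz) g'
      simp only [MulEquiv.coe_toMonoidHom, ← map_mul, this]
    · intro hx
      refine ⟨e.symm x, ?_, by simp⟩
      rw [SetLike.mem_coe, Subgroup.mem_center_iff]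
      intro g
      have := (Subgroup.mem_center_iff.mp hx) (e g)
      apply e.injective
      simp only [map_mul, MulEquiv.apply_symm_apply, this]
  have e' : H ⧸ center H ≃* K ⧸ center K :=
    QuotientGroup.congr (center H) (center K) e hc
  exact (e'.isSimpleGroup_congr).mp h.2

theorem qs_not_isSolvable (h : Cfsg.IsQuasisimple H) : ¬ Group.IsSolvable H := by
  have := h.1
  have := qs_nontrivial h
  exact Group.IsPerfect.not_isSolvable H


/-- **S1258**: if `X / Z(X)` is non-abelian simple then `X = X' Z(X)` and `X'` is quasisimple. -/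
theorem commutator_sup_center_eq_top_of_simple (hs : IsSimpleGroup (H ⧸ center H))
    (hna : ¬ IsMulCommutative (H ⧸ center H)) : commutator H ⊔ center H = ⊤ := by
  have hmap : ((commutator H).map (QuotientGroup.mk' (center H))).Normal :=
    (inferInstance : (commutator H).Normal).map _ (QuotientGroup.mk'_surjective _)
  rcases hs.eq_bot_or_eq_top_of_normal _ hmap with h1 | h1
  · exfalso
    rw [Subgroup.map_eq_bot_iff, QuotientGroup.ker_mk'] at h1
    apply hna
    refine ⟨⟨fun a b => ?_⟩⟩
    obtain ⟨x, rfl⟩ := QuotientGroup.mk_surjective a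
    obtain ⟨y, rfl⟩ := QuotientGroup.mk_surjective b
    rw [← QuotientGroup.mk_mul, ← QuotientGroup.mk_mul, QuotientGroup.eq]
    apply h1
    have : (x * y)⁻¹ * (y * x) = ⁅y⁻¹, x⁻¹⁆ := by
      rw [commutatorElement_def]; group
    rw [this]
    exact Subgroup.commutator_mem_commutator (Subgroup.mem_top _) (Subgroup.mem_top _)
  · have := Subgroup.comap_map_eq (QuotientGroup.mk' (center H)) (commutator H)
    rw [h1, Subgroup.comap_top, QuotientGroup.ker_mk'] at this
    exact this.symm

theorem qs_commutator_of_simple (hs : IsSimpleGroup (H ⧸ center H))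
    (hna : ¬ IsMulCommutative (H ⧸ center H)) : Cfsg.IsQuasisimple ↥(commutator H) := by
  have htop := commutator_sup_center_eq_top_of_simple hs hna
  -- perfect
  have hperf : ⁅commutator H, commutator H⁆ = commutator H := by
    apply le_antisymm (Subgroup.commutator_le_left _ _)
    have h3 : ⁅commutator H ⊔ center H, commutator H ⊔ center H⁆ ≤ ⁅commutator H, commutator H⁆ :=
      commutator_sup_center_le (commutator H) _ (fun n hn m hm =>
        Subgroup.commutator_mem_commutator hn hm)
    rw [htop, ← commutator_def] at h3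
    exact h3
  refine ⟨Subgroup.isPerfect_iff.mpr hperf, ?_⟩
  -- the map D → H/Z
  let f : ↥(commutator H) →* H ⧸ center H :=
    (QuotientGroup.mk' (center H)).comp (commutator H).subtype
  have hf : Function.Surjective f := by
    intro xbar
    obtain ⟨x, rfl⟩ := QuotientGroup.mk_surjective xbar
    have hx : x ∈ commutator H ⊔ center H := by rw [htop]; trivial
    obtain ⟨d, hd, z, hz, rfl⟩ := Subgroup.mem_sup_of_normal_left.mp hx
    refine ⟨⟨d, hd⟩, ?_⟩
    simp only [f, MonoidHom.comp_apply, Subgroup.coe_subtype, QuotientGroup.mk'_apply,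
      QuotientGroup.mk_mul, (QuotientGroup.eq_one_iff z).mpr hz, mul_one]
  have hker : f.ker = center ↥(commutator H) := by
    ext ⟨c, hc⟩
    rw [MonoidHom.mem_ker]
    simp only [f, MonoidHom.comp_apply, Subgroup.coe_subtype, QuotientGroup.mk'_apply,
      QuotientGroup.eq_one_iff, Subgroup.mem_center_iff]
    constructor
    · intro h g
      ext
      exact h g
    · intro h g
      have hg : g ∈ commutator H ⊔ center H := by rw [htop]; trivial
      obtain ⟨d, hd, z, hz, rfl⟩ := Subgroup.mem_sup_of_normal_left.mp hg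
      have h1 := congrArg Subtype.val (h ⟨d, hd⟩)
      simp only [Subgroup.coe_mul] at h1
      have h2 := (Subgroup.mem_center_iff.mp hz) c
      calc d * z * c = d * (z * c) := by group
        _ = d * (c * z) := by rw [h2]
        _ = (d * c) * z := by group
        _ = (c * d) * z := by rw [h1]
        _ = c * (d * z) := by group
  have e1 : ↥(commutator H) ⧸ f.ker ≃* H ⧸ center H :=
    QuotientGroup.quotientKerEquivOfSurjective f hf
  have e2 : ↥(commutator H) ⧸ center ↥(commutator H) ≃* ↥(commutator H) ⧸ f.ker :=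
    QuotientGroup.quotientMulEquivOfEq hker.symm
  exact ((e2.trans e1).isSimpleGroup_congr).mpr hs

end Quasisimple


section Component

variable {G : Type*} [Group G]

theorem comp_subnormal {L : Subgroup G} (h : Cfsg.IsComponent L) : L.IsSubnormal := h.1

theorem comp_qs {L : Subgroup G} (h : Cfsg.IsComponent L) : Cfsg.IsQuasisimple ↥L := h.2

theorem comp_perfect {L : Subgroup G} (h : Cfsg.IsComponent L) : ⁅L, L⁆ = L :=
  Subgroup.isPerfect_iff.mp h.2.1

theorem comp_ne_bot {L : Subgroup G} (h : Cfsg.IsComponent L) : L ≠ ⊥ := by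
  have := qs_nontrivial h.2
  exact (Subgroup.nontrivial_iff_ne_bot L).mp this

/-- **S1260**: components of a subnormal subgroup are the components of `G` inside it. -/
theorem isComponent_map_subtype_iff {H : Subgroup G} (hH : H.IsSubnormal) (K : Subgroup ↥H) :
    Cfsg.IsComponent K ↔ Cfsg.IsComponent (K.map H.subtype) := by
  have e : ↥K ≃* ↥(K.map H.subtype) := K.equivMapOfInjective _ H.subtype_injective
  constructor
  · rintro ⟨h1, h2⟩
    exact ⟨h1.trans' hH, qs_of_mulEquiv e h2⟩
  · rintro ⟨h1, h2⟩
    refine ⟨?_, qs_of_mulEquiv e.symm h2⟩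
    have := h1.subgroupOf (K := H)
    have e2 : (K.map H.subtype).subgroupOf H = K := by
      rw [Subgroup.subgroupOf, Subgroup.comap_map_eq_self_of_injective H.subtype_injective]
    rwa [e2] at this

theorem isComponent_subgroupOf {L Y : Subgroup G} (hL : Cfsg.IsComponent L) (hLY : L ≤ Y) :
    Cfsg.IsComponent (L.subgroupOf Y) :=
  ⟨hL.1.subgroupOf, qs_of_mulEquiv (Subgroup.subgroupOfEquivOfLe hLY).symm hL.2⟩

/-- images of components under isomorphisms are components -/
theorem isComponent_map_equiv {G' : Type*} [Group G'] (e : G ≃* G') {L : Subgroup G}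
    (hL : Cfsg.IsComponent L) : Cfsg.IsComponent (L.map e.toMonoidHom) :=
  ⟨hL.1.map e.surjective, qs_of_mulEquiv (L.equivMapOfInjective _ e.injective) hL.2⟩

theorem isComponent_conj {L : Subgroup G} (hL : Cfsg.IsComponent L) (g : G) :
    Cfsg.IsComponent (L.map (MulAut.conj g).toMonoidHom) :=
  isComponent_map_equiv (MulAut.conj g) hL

end Component


section Component31_4

universe u

theorem card_lt_of_lt_top {G : Type*} [Group G] [Finite G] {X : Subgroup G} (h : X < ⊤) :
    Nat.card X < Nat.card G := by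
  by_contra hc
  rw [not_lt] at hc
  exact h.ne (Subgroup.eq_top_of_le_card X hc)

theorem commutator_eq_bot_of_subgroupOf {G : Type*} [Group G] {A B Y : Subgroup G}
    (hA : A ≤ Y) (hB : B ≤ Y) (h : ⁅A.subgroupOf Y, B.subgroupOf Y⁆ = ⊥) : ⁅A, B⁆ = ⊥ := by
  have := congrArg (Subgroup.map Y.subtype) h
  rw [Subgroup.map_commutator, Subgroup.map_subgroupOf_eq_of_le hA,
    Subgroup.map_subgroupOf_eq_of_le hB, Subgroup.map_bot] at this
  exact this

theorem le_of_subgroupOf_le {G : Type*} [Group G] {A B Y : Subgroup G}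
    (hA : A ≤ Y) (h : A.subgroupOf Y ≤ B.subgroupOf Y) : A ≤ B := by
  intro x hx
  have := h (x := ⟨x, hA hx⟩) (by rw [Subgroup.mem_subgroupOf]; exact hx)
  rwa [Subgroup.mem_subgroupOf] at this

theorem comp_le_or_commutator_eq_bot_aux (n : ℕ) : ∀ (G : Type u) [Group G] [Finite G],
    Nat.card G = n → ∀ L H : Subgroup G, Cfsg.IsComponent L → H.IsSubnormal →
      L ≤ H ∨ ⁅L, H⁆ = ⊥ := by
  induction n using Nat.strong_induction_on with
  | _ n ih =>
  intro G _ _ hn L H hL hH
  by_cases hLtop : L = ⊤
  · subst hLtop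
    have hG : Cfsg.IsQuasisimple G := qs_of_mulEquiv Subgroup.topEquiv hL.2
    rcases qs_subnormal_eq_top_or_le_center hG H hH with h | h
    · left; rw [h]
    · right
      rw [eq_bot_iff, Subgroup.commutator_le]
      intro a _ b hb
      rw [Subgroup.mem_bot, commutatorElement_def]
      have := (Subgroup.mem_center_iff.mp (h hb)) a
      rw [this]; group
  by_cases hHtop : H = ⊤
  · left; rw [hHtop]; exact le_top
  obtain ⟨X, hXn, hLX, hXlt⟩ := hL.1.exists_normal_and_le_and_lt_top_of_ne hLtop
  obtain ⟨Y, hYn, hHY, hYlt⟩ := hH.exists_normal_and_le_and_lt_top_of_ne hHtop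
  by_cases hLY : L ≤ Y
  · have hcard : Nat.card Y < n := hn ▸ card_lt_of_lt_top hYlt
    rcases ih (Nat.card Y) hcard Y rfl (L.subgroupOf Y) (H.subgroupOf Y)
      (isComponent_subgroupOf hL hLY) hH.subgroupOf with h | h
    · left; exact le_of_subgroupOf_le hLY h
    · right; exact commutator_eq_bot_of_subgroupOf hLY hHY h
  · have hcard : Nat.card X < n := hn ▸ card_lt_of_lt_top hXlt
    have hXY : (X ⊓ Y).Normal := inferInstance
    rcases ih (Nat.card X) hcard X rfl (L.subgroupOf X) ((X ⊓ Y).subgroupOf X)
      (isComponent_subgroupOf hL hLX) (hXY.isSubnormal.subgroupOf) with h | h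
    · exfalso
      exact hLY ((le_of_subgroupOf_le hLX h).trans inf_le_right)
    · have h1 : ⁅L, X ⊓ Y⁆ = ⊥ := commutator_eq_bot_of_subgroupOf hLX inf_le_left h
      have h2 : ⁅L, Y⁆ ≤ X ⊓ Y :=
        le_inf ((Subgroup.commutator_mono hLX le_rfl).trans (Subgroup.commutator_le_left X Y))
          (Subgroup.commutator_le_right L Y)
      have h3 : ⁅⁅L, Y⁆, L⁆ = ⊥ := by
        rw [eq_bot_iff, ← h1, Subgroup.commutator_comm]
        exact Subgroup.commutator_mono le_rfl h2
      have h4 : ⁅⁅Y, L⁆, L⁆ = ⊥ := by rw [Subgroup.commutator_comm Y L]; exact h3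
      have h5 : ⁅⁅L, L⁆, Y⁆ = ⊥ := Subgroup.commutator_commutator_eq_bot_of_rotate h3 h4
      rw [comp_perfect hL] at h5
      right
      rw [eq_bot_iff, ← h5]
      exact Subgroup.commutator_mono le_rfl hHY

/-- **S1261** (Aschbacher 31.4): a component `L` and a subnormal subgroup `H` of a finite group:
`L ≤ H` or `[L, H] = 1`. -/
theorem comp_le_or_commutator_eq_bot {G : Type u} [Group G] [Finite G] {L H : Subgroup G}
    (hL : Cfsg.IsComponent L) (hH : H.IsSubnormal) : L ≤ H ∨ ⁅L, H⁆ = ⊥ :=
  comp_le_or_commutator_eq_bot_aux _ G rfl L H hL hH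

end Component31_4


section Component2

variable {G : Type*} [Group G]

theorem comp_not_le_of_isSolvable {L H : Subgroup G} (hL : Cfsg.IsComponent L)
    (hH : Group.IsSolvable ↥H) : ¬ L ≤ H := by
  intro hle
  have : Group.IsSolvable ↥L :=
    Group.isSolvable_of_isSolvable_injective (f := Subgroup.inclusion hle) (Subgroup.inclusion_injective hle)
  exact qs_not_isSolvable hL.2 this

/-- **S1262**: a component commutes with every solvable subgroup it normalizes. -/
theorem comp_commutator_solvable_eq_bot [Finite G] {L H : Subgroup G} (hL : Cfsg.IsComponent L)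
    (hsolv : Group.IsSolvable ↥H) (hinv : L ≤ Subgroup.normalizer (H : Set G)) : ⁅L, H⁆ = ⊥ := by
  have hLM : L ≤ L ⊔ H := le_sup_left
  have hHM : H ≤ L ⊔ H := le_sup_right
  have hHn : (H.subgroupOf (L ⊔ H)).Normal := by
    rw [Subgroup.normal_subgroupOf_iff_le_normalizer hHM]
    exact sup_le hinv Subgroup.le_normalizer
  rcases comp_le_or_commutator_eq_bot (isComponent_subgroupOf hL hLM) hHn.isSubnormal with h | h
  · exact absurd (le_of_subgroupOf_le hLM h) (comp_not_le_of_isSolvable hL hsolv)
  · exact commutator_eq_bot_of_subgroupOf hLM hHM h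

end Component2

end Cfsg.Agent.Lib.Helper9
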