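import Mathlib
import Cfsg.Prelude.Def_Local
import Cfsg.Agent.Lib.Helper9.Layer
import Cfsg.Agent.Lib.Helper1.Cores

set_option autoImplicit false

/-!
# LayerCore part 2 (helper9): the layer, the generalized Fitting subgroup
-/

namespace Cfsg.Agent.Lib.Helper9

open Subgroup
open scoped commutatorElement

section SubnormalNilpotent

universe u

theorem subnormal_nilpotent_le_fitting_aux (n : ℕ) : ∀ (G : Type u) [Group G] [Finite G],
    Nat.card G = n → ∀ K : Subgroup G, K.IsSubnormal → Group.IsNilpotent ↥K →
      K ≤ Cfsg.fittingSubgroup G := by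
  induction n using Nat.strong_induction_on with
  | _ n ih =>
  intro G _ _ hn K hK hKn
  by_cases hKtop : K = ⊤
  · subst hKtop
    exact Cfsg.Agent.Lib.Helper1.le_fittingSubgroup inferInstance hKn
  obtain ⟨M, hMn, hKM, hMlt⟩ := hK.exists_normal_and_le_and_lt_top_of_ne hKtop
  have hcard : Nat.card M < n := hn ▸ card_lt_of_lt_top hMlt
  have hK' : Group.IsNilpotent ↥(K.subgroupOf M) :=
    (Group.isNilpotent_congr (Subgroup.subgroupOfEquivOfLe hKM)).mpr hKn
  have h1 := ih (Nat.card M) hcard M rfl (K.subgroupOf M) hK.subgroupOf hK'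
  have h2 : K ≤ (Cfsg.fittingSubgroup ↥M).map M.subtype := by
    have := Subgroup.map_mono (f := M.subtype) h1
    rwa [Subgroup.map_subgroupOf_eq_of_le hKM] at this
  refine h2.trans ?_
  have := Cfsg.Agent.Lib.Helper1.fittingSubgroup_characteristic (G := ↥M)
  apply Cfsg.Agent.Lib.Helper1.le_fittingSubgroup
  · exact ConjAct.normal_of_characteristic_of_normal
  · have e : ↥(Cfsg.fittingSubgroup ↥M) ≃* ↥((Cfsg.fittingSubgroup ↥M).map M.subtype) :=
      (Cfsg.fittingSubgroup ↥M).equivMapOfInjective _ M.subtype_injective
    exact (Group.isNilpotent_congr e).mp Cfsg.Agent.Lib.Helper1.fittingSubgroup_isNilpotent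

/-- A subnormal nilpotent subgroup of a finite group lies in the Fitting subgroup. -/
theorem subnormal_nilpotent_le_fitting {G : Type u} [Group G] [Finite G] {K : Subgroup G}
    (hK : K.IsSubnormal) (hKn : Group.IsNilpotent ↥K) : K ≤ Cfsg.fittingSubgroup G :=
  subnormal_nilpotent_le_fitting_aux _ G rfl K hK hKn

end SubnormalNilpotent


section LayerBasics

variable {G : Type*} [Group G]

theorem comp_le_layer {L : Subgroup G} (hL : Cfsg.IsComponent L) : L ≤ Cfsg.layer G :=
  le_sSup hL

theorem layer_characteristic : (Cfsg.layer G).Characteristic := by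
  apply Cfsg.Agent.Lib.Helper1.sSup_characteristic_of_stable
  intro φ N hN
  exact isComponent_map_equiv φ hN

instance layer_normal : (Cfsg.layer G).Normal :=
  have := layer_characteristic (G := G)
  inferInstance

/-- a component is not abelian: it is not contained in its own centralizer -/
theorem comp_not_le_centralizer {L : Subgroup G} (hL : Cfsg.IsComponent L) :
    ¬ L ≤ Subgroup.centralizer (L : Set G) := by
  intro h
  have h1 : ⁅L, L⁆ = ⊥ := Subgroup.commutator_eq_bot_iff_le_centralizer.mpr h
  rw [comp_perfect hL] at h1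
  exact comp_ne_bot hL h1

/-- distinct components commute -/
theorem comp_commutator_eq_bot_of_ne [Finite G] {L₁ L₂ : Subgroup G} (h₁ : Cfsg.IsComponent L₁)
    (h₂ : Cfsg.IsComponent L₂) (hne : L₁ ≠ L₂) : ⁅L₁, L₂⁆ = ⊥ := by
  rcases comp_le_or_commutator_eq_bot h₁ h₂.1 with h | h
  · exfalso
    rcases qs_subnormal_eq_top_or_le_center h₂.2 (L₁.subgroupOf L₂) h₁.1.subgroupOf with h3 | h3
    · apply hne
      apply le_antisymm h
      intro x hx
      have : (⟨x, hx⟩ : ↥L₂) ∈ L₁.subgroupOf L₂ := by rw [h3]; trivial
      rwa [Subgroup.mem_subgroupOf] at this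
    · apply comp_not_le_centralizer h₁
      intro x hx
      rw [Subgroup.mem_centralizer_iff]
      intro y hy
      have hxc : (⟨x, h hx⟩ : ↥L₂) ∈ center ↥L₂ := h3 (by rw [Subgroup.mem_subgroupOf]; exact hx)
      have := (Subgroup.mem_center_iff.mp hxc) ⟨y, h hy⟩
      exact congrArg Subtype.val this
  · exact h

/-- the layer normalizes every component -/
theorem layer_le_normalizer_comp [Finite G] {L : Subgroup G} (hL : Cfsg.IsComponent L) :
    Cfsg.layer G ≤ Subgroup.normalizer (L : Set G) := by
  apply sSup_le
  intro K hK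
  by_cases h : K = L
  · rw [h]; exact Subgroup.le_normalizer
  · have h1 := comp_commutator_eq_bot_of_ne hK hL h
    exact (Subgroup.commutator_eq_bot_iff_le_centralizer.mp h1).trans
      (Subgroup.centralizer_le_normalizer _)

theorem comp_normal_in_layer [Finite G] {L : Subgroup G} (hL : Cfsg.IsComponent L) :
    (L.subgroupOf (Cfsg.layer G)).Normal := by
  rw [Subgroup.normal_subgroupOf_iff_le_normalizer (comp_le_layer hL)]
  exact layer_le_normalizer_comp hL

/-- the layer centralizes every solvable normal subgroup -/
theorem layer_le_centralizer_of_solvable_normal [Finite G] {N : Subgroup G} (hN : N.Normal)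
    (hs : Group.IsSolvable ↥N) : Cfsg.layer G ≤ Subgroup.centralizer (N : Set G) := by
  apply sSup_le
  intro L hL
  apply Subgroup.commutator_eq_bot_iff_le_centralizer.mp
  apply comp_commutator_solvable_eq_bot hL hs
  rw [Subgroup.normalizer_eq_top_iff.mpr hN]
  exact le_top

theorem commutator_layer_fitting [Finite G] : ⁅Cfsg.layer G, Cfsg.fittingSubgroup G⁆ = ⊥ := by
  apply Subgroup.commutator_eq_bot_iff_le_centralizer.mpr
  have hF : (Cfsg.fittingSubgroup G).Normal := Cfsg.Agent.Lib.Helper1.fittingSubgroup_normal
  have hFn : Group.IsNilpotent ↥(Cfsg.fittingSubgroup G) :=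
    Cfsg.Agent.Lib.Helper1.fittingSubgroup_isNilpotent
  exact layer_le_centralizer_of_solvable_normal hF inferInstance

/-- the layer is perfect -/
theorem layer_perfect : ⁅Cfsg.layer G, Cfsg.layer G⁆ = Cfsg.layer G := by
  apply le_antisymm (Subgroup.commutator_le_left _ _)
  apply sSup_le
  intro L hL
  calc L = ⁅L, L⁆ := (comp_perfect hL).symm
    _ ≤ ⁅Cfsg.layer G, Cfsg.layer G⁆ :=
      Subgroup.commutator_mono (comp_le_layer hL) (comp_le_layer hL)

theorem gfs_characteristic : (Cfsg.generalizedFittingSubgroup G).Characteristic := by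
  have h1 := layer_characteristic (G := G)
  have h2 := Cfsg.Agent.Lib.Helper1.fittingSubgroup_characteristic (G := G)
  rw [Subgroup.characteristic_iff_map_le]
  intro φ
  unfold Cfsg.generalizedFittingSubgroup
  rw [Subgroup.map_sup]
  exact sup_le_sup ((Subgroup.characteristic_iff_map_le.mp h1) φ)
    ((Subgroup.characteristic_iff_map_le.mp h2) φ)

instance gfs_normal : (Cfsg.generalizedFittingSubgroup G).Normal :=
  have := gfs_characteristic (G := G)
  inferInstance

theorem layer_le_gfs : Cfsg.layer G ≤ Cfsg.generalizedFittingSubgroup G := le_sup_left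

theorem fitting_le_gfs : Cfsg.fittingSubgroup G ≤ Cfsg.generalizedFittingSubgroup G := le_sup_right

end LayerBasics


section GFS

/-- criterion for quasisimplicity -/
theorem qs_of_perfect_of_normal {H : Type*} [Group H] (hperf : commutator H = ⊤)
    (hnt : Nontrivial H) (hN : ∀ N : Subgroup H, N.Normal → N = ⊤ ∨ N ≤ center H) :
    Cfsg.IsQuasisimple H := by
  refine ⟨⟨hperf⟩, ?_⟩
  have hcne : center H ≠ ⊤ := by
    intro hc
    -- then H abelian, so commutator trivial
    have : commutator H = ⊥ := by
      rw [commutator_def, Subgroup.commutator_eq_bot_iff_le_centralizer, Subgroup.coe_top,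
        Subgroup.centralizer_univ, hc]
    rw [hperf] at this
    exact (Subgroup.nontrivial_iff_ne_bot (⊤ : Subgroup H)).mp
      ((Subgroup.topEquiv.toEquiv.nontrivial_congr).mpr hnt) this
  have hnt' : Nontrivial (H ⧸ center H) := by
    by_contra hcon
    rw [not_nontrivial_iff_subsingleton] at hcon
    exact hcne (QuotientGroup.subgroup_eq_top_of_subsingleton _ hcon)
  refine { toNontrivial := hnt', eq_bot_or_eq_top_of_normal := ?_ }
  intro Nbar hNbar
  have hcomap : (Nbar.comap (QuotientGroup.mk' (center H))).Normal := hNbar.comap _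
  rcases hN _ hcomap with h | h
  · right
    have := congrArg (Subgroup.map (QuotientGroup.mk' (center H))) h
    rw [Subgroup.map_comap_eq_self_of_surjective (QuotientGroup.mk'_surjective _),
      Subgroup.map_top_of_surjective _ (QuotientGroup.mk'_surjective _)] at this
    exact this
  · left
    have := Subgroup.map_mono (f := QuotientGroup.mk' (center H)) h
    rw [Subgroup.map_comap_eq_self_of_surjective (QuotientGroup.mk'_surjective _)] at this
    rw [eq_bot_iff]
    refine this.trans ?_
    rw [Subgroup.map_le_iff_le_comap, MonoidHom.comap_bot, QuotientGroup.ker_mk']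

variable {G : Type*} [Group G] [Finite G]

theorem le_gfs_of_subnormal_le_centralizer_aux (n : ℕ) : ∀ K : Subgroup G, Nat.card K = n →
    K.IsSubnormal → K ≤ Subgroup.centralizer (Cfsg.generalizedFittingSubgroup G : Set G) →
    K ≤ Cfsg.generalizedFittingSubgroup G := by
  induction n using Nat.strong_induction_on with
  | _ n ih =>
  intro K hn hK hKC
  -- proper normal subgroups of K are central in K
  have key : ∀ M : Subgroup G, M ≤ K → (M.subgroupOf K).Normal → M ≠ K →
      M ≤ Subgroup.centralizer (K : Set G) := by
    intro M hMK hMn hne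
    have hlt : M < K := lt_of_le_of_ne hMK hne
    have hcard : Nat.card M < n := by
      rw [← hn]
      by_contra hc
      rw [not_lt] at hc
      exact hne (Subgroup.eq_of_le_of_card_ge hMK hc)
    have hMF := ih (Nat.card M) hcard M rfl (Subgroup.IsSubnormal.step M K hMK hK hMn)
      (hMK.trans hKC)
    -- K centralizes F* ⊇ M
    rw [Subgroup.le_centralizer_iff]
    exact hKC.trans (Subgroup.centralizer_le hMF)
  by_cases hperf : ⁅K, K⁆ = K
  · by_cases hbot : K = ⊥
    · rw [hbot]; exact bot_le
    · -- K is quasisimple
      have hqs : Cfsg.IsQuasisimple ↥K := by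
        apply qs_of_perfect_of_normal
        · exact (Subgroup.isPerfect_iff.mpr hperf).commutator_eq_top
        · exact (Subgroup.nontrivial_iff_ne_bot K).mpr hbot
        · intro N hN
          by_cases hNtop : N = ⊤
          · left; exact hNtop
          · right
            have hMK : N.map K.subtype ≤ K := Subgroup.map_subtype_le N
            have hsub : (N.map K.subtype).subgroupOf K = N := by
              rw [Subgroup.subgroupOf, Subgroup.comap_map_eq_self_of_injective K.subtype_injective]
            have hne : N.map K.subtype ≠ K := by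
              intro h
              apply hNtop
              rw [← hsub, h]
              exact Subgroup.subgroupOf_self K
            have := key (N.map K.subtype) hMK (by rw [hsub]; exact hN) hne
            intro x hx
            rw [Subgroup.mem_center_iff]
            intro y
            have hx' : (x : G) ∈ N.map K.subtype := ⟨x, hx, rfl⟩
            have h1 := (Subgroup.mem_centralizer_iff.mp (this hx')) y y.2
            exact Subtype.ext h1
      exact (comp_le_layer ⟨hK, hqs⟩).trans layer_le_gfs
  · -- K' < K is central, so K is nilpotent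
    have h1 : ⁅K, K⁆ ≤ Subgroup.centralizer (K : Set G) := by
      apply key _ (Subgroup.commutator_le_self K) _ hperf
      have e : ⁅K, K⁆.subgroupOf K = commutator ↥K := by
        rw [← Subgroup.map_subtype_commutator, Subgroup.subgroupOf,
          Subgroup.comap_map_eq_self_of_injective K.subtype_injective]
      rw [e]
      infer_instance
    have h2 : ⁅⁅K, K⁆, K⁆ = ⊥ := Subgroup.commutator_eq_bot_iff_le_centralizer.mpr h1
    have h3 : Group.IsNilpotent ↥K :=
      Subgroup.isNilpotent_of_lowerCentralSeries_eq_bot (n := 2) h2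
    exact (subnormal_nilpotent_le_fitting hK h3).trans fitting_le_gfs

/-- **S1265**: `C_G(F*(G)) ≤ F*(G)` for a finite group. -/
theorem centralizer_gfs_le :
    Subgroup.centralizer (Cfsg.generalizedFittingSubgroup G : Set G) ≤
      Cfsg.generalizedFittingSubgroup G := by
  have hn : (Subgroup.centralizer (Cfsg.generalizedFittingSubgroup G : Set G)).Normal :=
    Subgroup.normal_centralizer
  exact le_gfs_of_subnormal_le_centralizer_aux _ _ rfl hn.isSubnormal le_rfl

end GFS


section CenterLayer

variable {G : Type*} [Group G] [Finite G]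

open scoped IsMulCommutative in
theorem isNilpotent_of_isMulCommutative {A : Type*} [Group A] [IsMulCommutative A] :
    Group.IsNilpotent A := inferInstance

/-- the image in `G` of the centre of a subgroup -/
theorem map_center_eq_inf_centralizer {G : Type*} [Group G] (E : Subgroup G) :
    (center ↥E).map E.subtype = E ⊓ Subgroup.centralizer (E : Set G) := by
  ext x
  rw [Subgroup.mem_map, Subgroup.mem_inf]
  constructor
  · rintro ⟨⟨y, hy⟩, hyc, rfl⟩
    refine ⟨hy, ?_⟩
    rw [Subgroup.coe_subtype, Subgroup.mem_centralizer_iff]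
    intro g hg
    have := (Subgroup.mem_center_iff.mp hyc) ⟨g, hg⟩
    exact congrArg Subtype.val this
  · rintro ⟨hxE, hxC⟩
    refine ⟨⟨x, hxE⟩, ?_, rfl⟩
    rw [Subgroup.mem_center_iff]
    intro g
    exact Subtype.ext ((Subgroup.mem_centralizer_iff.mp hxC) g g.2)

/-- **S1317**: `Z(E(G)) = F(G) ∩ E(G)`. -/
theorem map_center_layer_eq :
    (center ↥(Cfsg.layer G)).map (Cfsg.layer G).subtype =
      Cfsg.fittingSubgroup G ⊓ Cfsg.layer G := by
  apply le_antisymm
  · apply le_inf
    · apply Cfsg.Agent.Lib.Helper1.le_fittingSubgroup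
      · exact ConjAct.normal_of_characteristic_of_normal
      · have e : ↥(center ↥(Cfsg.layer G)) ≃* ↥((center ↥(Cfsg.layer G)).map (Cfsg.layer G).subtype) :=
          (center ↥(Cfsg.layer G)).equivMapOfInjective _ (Cfsg.layer G).subtype_injective
        exact (Group.isNilpotent_congr e).mp isNilpotent_of_isMulCommutative
    · exact Subgroup.map_subtype_le _
  · rw [map_center_eq_inf_centralizer]
    apply le_inf inf_le_right
    have h := Subgroup.commutator_eq_bot_iff_le_centralizer.mp (commutator_layer_fitting (G := G))
    exact inf_le_left.trans (Subgroup.le_centralizer_iff.mp h)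

end CenterLayer

end Cfsg.Agent.Lib.Helper9
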