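import Mathlib
import Cfsg.Prelude.Def_Local
import Cfsg.Agent.Lib.Helper9.Layer2
import Cfsg.Agent.Lib.Helper9.Conj

set_option autoImplicit false

/-!
# LayerCore part 3 (helper9): consequences of `C_G(F*(G)) ≤ F*(G)`
-/

namespace Cfsg.Agent.Lib.Helper9

open Subgroup
open scoped commutatorElement

section Factorial

theorem card_ne_one_subtype {A : Type*} [Group A] [Finite A] :
    Nat.card {x : A // x ≠ 1} = Nat.card A - 1 := by
  classical
  have := Fintype.ofFinite A
  rw [Nat.card_eq_fintype_card, Nat.card_eq_fintype_card]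
  exact Set.card_ne_eq (1 : A)

/-- an automorphism restricted to the non-identity elements -/
noncomputable def autRestrict {A : Type*} [Group A] (α : MulAut A) : Equiv.Perm {x : A // x ≠ 1} :=
  α.toEquiv.subtypeEquiv (fun a => by
    constructor
    · intro h h'
      apply h
      have : α a = α 1 := by rw [map_one]; exact h'
      exact α.injective this
    · intro h h'
      apply h
      rw [h']; exact map_one α)

theorem autRestrict_injective {A : Type*} [Group A] :
    Function.Injective (autRestrict : MulAut A → Equiv.Perm {x : A // x ≠ 1}) := by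
  intro α β h
  ext a
  by_cases ha : a = 1
  · rw [ha, map_one, map_one]
  · have := congrArg (fun σ : Equiv.Perm {x : A // x ≠ 1} => (σ ⟨a, ha⟩ : A)) h
    simpa [autRestrict] using this

theorem card_mulAut_le {A : Type*} [Group A] [Finite A] :
    Nat.card (MulAut A) ≤ (Nat.card A - 1).factorial := by
  have h1 := Nat.card_le_card_of_injective _ (autRestrict_injective (A := A))
  rw [Nat.card_perm, card_ne_one_subtype] at h1
  exact h1

/-- **S1313**: `|H| ≤ |F*(H)|!`. -/
theorem card_le_factorial_card_gfs {H : Type*} [Group H] [Finite H] :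
    Nat.card H ≤ (Nat.card ↥(Cfsg.generalizedFittingSubgroup H)).factorial := by
  let φ : H →* MulAut ↥(Cfsg.generalizedFittingSubgroup H) := MulAut.conjNormal
  have hker : φ.ker ≤ Cfsg.generalizedFittingSubgroup H := by
    refine le_trans ?_ centralizer_gfs_le
    intro x hx
    rw [MonoidHom.mem_ker] at hx
    rw [Subgroup.mem_centralizer_iff]
    intro y hy
    have := congrArg (fun α : MulAut ↥(Cfsg.generalizedFittingSubgroup H) => ((α ⟨y, hy⟩ : ↥(Cfsg.generalizedFittingSubgroup H)) : H)) hx
    simp only [φ, MulAut.conjNormal_apply, MulAut.one_apply] at this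
    -- x * y * x⁻¹ = y
    calc y * x = (x * y * x⁻¹) * x := by rw [this]
      _ = x * y := by group
  have h1 : Nat.card φ.ker ≤ Nat.card ↥(Cfsg.generalizedFittingSubgroup H) :=
    Subgroup.card_le_of_le hker
  have h2 : φ.ker.index ≤ (Nat.card ↥(Cfsg.generalizedFittingSubgroup H) - 1).factorial := by
    rw [Subgroup.index_ker]
    exact (Subgroup.card_le_card_group _).trans card_mulAut_le
  have hpos : Nat.card ↥(Cfsg.generalizedFittingSubgroup H) ≠ 0 := Nat.card_pos.ne'
  calc Nat.card H = Nat.card φ.ker * φ.ker.index := (Subgroup.card_mul_index _).symm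
    _ ≤ Nat.card ↥(Cfsg.generalizedFittingSubgroup H) *
        (Nat.card ↥(Cfsg.generalizedFittingSubgroup H) - 1).factorial := Nat.mul_le_mul h1 h2
    _ = (Nat.card ↥(Cfsg.generalizedFittingSubgroup H)).factorial := Nat.mul_factorial_pred hpos

end Factorial


section DerivedGFS

variable {G : Type*} [Group G] [Finite G]

/-- **S1316**: `E(G)` is the last term of the derived series of `F*(G)`. -/
theorem iInf_derivedSeries_gfs_eq_layer :
    (⨅ n : ℕ, (derivedSeries ↥(Cfsg.generalizedFittingSubgroup G) n).map
      (Cfsg.generalizedFittingSubgroup G).subtype) = Cfsg.layer G := by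
  set Fs := Cfsg.generalizedFittingSubgroup G with hFs
  have hEF : Cfsg.layer G ≤ Fs := layer_le_gfs
  set E' : Subgroup ↥Fs := (Cfsg.layer G).subgroupOf Fs with hE'
  have hE'n : E'.Normal := by
    rw [hE']; exact Subgroup.normal_subgroupOf
  have hmapE' : E'.map Fs.subtype = Cfsg.layer G := Subgroup.map_subgroupOf_eq_of_le hEF
  apply le_antisymm
  · -- the quotient Fs / E' is solvable
    have hF : Group.IsSolvable ↥(Cfsg.fittingSubgroup G) := by
      have : Group.IsNilpotent ↥(Cfsg.fittingSubgroup G) :=
        Cfsg.Agent.Lib.Helper1.fittingSubgroup_isNilpotent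
      infer_instance
    let f : ↥(Cfsg.fittingSubgroup G) →* ↥Fs ⧸ E' :=
      (QuotientGroup.mk' E').comp (Subgroup.inclusion fitting_le_gfs)
    have hf : Function.Surjective f := by
      intro xbar
      obtain ⟨⟨x, hx⟩, rfl⟩ := QuotientGroup.mk_surjective xbar
      have hx' : x ∈ Cfsg.layer G ⊔ Cfsg.fittingSubgroup G := hx
      obtain ⟨e, he, y, hy, rfl⟩ := Subgroup.mem_sup_of_normal_left.mp hx'
      refine ⟨⟨y, hy⟩, ?_⟩
      simp only [f, MonoidHom.comp_apply, QuotientGroup.mk'_apply]
      rw [QuotientGroup.eq]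
      -- (incl y)⁻¹ * ⟨e*y, _⟩ ∈ E'
      rw [hE', Subgroup.mem_subgroupOf]
      simp only [Subgroup.coe_mul, Subgroup.coe_inv, Subgroup.coe_inclusion]
      have : y⁻¹ * (e * y) ∈ Cfsg.layer G := by
        rw [← mul_assoc]
        exact (inferInstance : (Cfsg.layer G).Normal).conj_mem' e he y
      exact this
    have hsolv : Group.IsSolvable (↥Fs ⧸ E') := Group.isSolvable_of_surjective hf
    obtain ⟨n, hn⟩ := hsolv.solvable
    have h1 := map_derivedSeries_le_derivedSeries (QuotientGroup.mk' E') n
    rw [hn, le_bot_iff, Subgroup.map_eq_bot_iff, QuotientGroup.ker_mk'] at h1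
    refine (iInf_le _ n).trans ?_
    rw [← hmapE']
    exact Subgroup.map_mono h1
  · apply le_iInf
    intro n
    have hperf : ⁅E', E'⁆ = E' := by
      apply Subgroup.map_injective Fs.subtype_injective
      rw [Subgroup.map_commutator, hmapE', layer_perfect]
    have hle : E' ≤ derivedSeries ↥Fs n := by
      induction n with
      | zero => exact le_top
      | succ n ih =>
        rw [derivedSeries_succ]
        calc E' = ⁅E', E'⁆ := hperf.symm
          _ ≤ _ := Subgroup.commutator_mono ih ih
    rw [← hmapE']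
    exact Subgroup.map_mono hle

end DerivedGFS


section SolvableInCentralizer

variable {G : Type*} [Group G]

theorem commutator_lt_of_ne_bot_of_solvable {H : Subgroup G} (hs : Group.IsSolvable ↥H)
    (hH : H ≠ ⊥) : ⁅H, H⁆ < H := by
  rw [← Subgroup.nontrivial_iff_ne_bot] at hH
  have h1 := Group.IsSolvable.commutator_lt_top_of_nontrivial ↥H
  have h2 : (commutator ↥H).map H.subtype < (⊤ : Subgroup ↥H).map H.subtype :=
    Subgroup.map_subtype_lt_map_subtype.mpr h1
  rw [Subgroup.map_subtype_commutator, ← MonoidHom.range_eq_map, H.range_subtype] at h2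
  exact h2

theorem commutator_self_le_normalizer {M : Subgroup G} {C : Subgroup G}
    (h : C ≤ Subgroup.normalizer (M : Set G)) : C ≤ Subgroup.normalizer ((⁅M, M⁆ : Subgroup G) : Set G) := by
  intro c hc
  have hM : M.map (MulAut.conj c).toMonoidHom = M :=
    conjMap_eq_self_of_mem_normalizer (h hc)
  apply mem_normalizer_of_conjMap_eq_self
  rw [Subgroup.map_commutator, hM]

variable [Finite G]

theorem le_fitting_of_solvable_aux (n : ℕ) : ∀ M : Subgroup G, Nat.card M = n →
    M ≤ Subgroup.centralizer (Cfsg.fittingSubgroup G : Set G) →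
    Subgroup.centralizer (Cfsg.fittingSubgroup G : Set G) ≤ Subgroup.normalizer (M : Set G) →
    Group.IsSolvable ↥M → M ≤ Cfsg.fittingSubgroup G := by
  induction n using Nat.strong_induction_on with
  | _ n ih =>
  intro M hn hMC hCM hs
  by_cases hbot : M = ⊥
  · rw [hbot]; exact bot_le
  have hlt : ⁅M, M⁆ < M := commutator_lt_of_ne_bot_of_solvable hs hbot
  have hcard : Nat.card ↥⁅M, M⁆ < n := by
    rw [← hn]
    by_contra hc
    rw [not_lt] at hc
    exact hlt.ne (Subgroup.eq_of_le_of_card_ge hlt.le hc)
  have hs' : Group.IsSolvable ↥⁅M, M⁆ :=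
    Group.isSolvable_of_isSolvable_injective (f := Subgroup.inclusion hlt.le)
      (Subgroup.inclusion_injective hlt.le)
  have h1 : ⁅M, M⁆ ≤ Cfsg.fittingSubgroup G :=
    ih _ hcard ⁅M, M⁆ rfl (hlt.le.trans hMC) (commutator_self_le_normalizer hCM) hs'
  -- M centralizes ⁅M, M⁆
  have h2 : ⁅⁅M, M⁆, M⁆ = ⊥ := by
    rw [Subgroup.commutator_eq_bot_iff_le_centralizer]
    exact h1.trans (Subgroup.le_centralizer_iff.mp hMC)
  have h3 : Group.IsNilpotent ↥M :=
    Subgroup.isNilpotent_of_lowerCentralSeries_eq_bot (n := 2) h2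
  -- M is subnormal: normal in the centralizer, which is normal
  have hF : (Cfsg.fittingSubgroup G).Normal := Cfsg.Agent.Lib.Helper1.fittingSubgroup_normal
  have hCn : (Subgroup.centralizer (Cfsg.fittingSubgroup G : Set G)).Normal :=
    Subgroup.normal_centralizer
  have hsub : M.IsSubnormal :=
    Subgroup.IsSubnormal.step M _ hMC hCn.isSubnormal
      ((Subgroup.normal_subgroupOf_iff_le_normalizer hMC).mpr hCM)
  exact subnormal_nilpotent_le_fitting hsub h3

/-- **S1264**: a solvable normal subgroup of `C_G(F(G))` lies in `Z(F(G))`. -/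
theorem le_center_fitting_of_solvable {N : Subgroup G}
    (hN : N ≤ Subgroup.centralizer (Cfsg.fittingSubgroup G : Set G))
    (hnorm : Subgroup.centralizer (Cfsg.fittingSubgroup G : Set G) ≤
      Subgroup.normalizer (N : Set G))
    (hsolv : Group.IsSolvable ↥N) :
    N ≤ (Subgroup.center ↥(Cfsg.fittingSubgroup G)).map (Cfsg.fittingSubgroup G).subtype := by
  rw [map_center_eq_inf_centralizer]
  exact le_inf (le_fitting_of_solvable_aux _ N rfl hN hnorm hsolv) hN

end SolvableInCentralizer


section CenterLayerComponents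

variable {G : Type*} [Group G]

theorem mem_sup_of_commute {A B : Subgroup G} (h : ∀ a ∈ A, ∀ b ∈ B, a * b = b * a) {x : G} :
    x ∈ A ⊔ B ↔ ∃ a ∈ A, ∃ b ∈ B, a * b = x := by
  constructor
  · intro hx
    rw [Subgroup.sup_eq_closure] at hx
    refine Subgroup.closure_induction ?_ ?_ ?_ ?_ hx
    · rintro y (hy | hy)
      · exact ⟨y, hy, 1, B.one_mem, mul_one y⟩
      · exact ⟨1, A.one_mem, y, hy, one_mul y⟩
    · exact ⟨1, A.one_mem, 1, B.one_mem, mul_one 1⟩
    · rintro _ _ _ _ ⟨a₁, ha₁, b₁, hb₁, rfl⟩ ⟨a₂, ha₂, b₂, hb₂, rfl⟩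
      refine ⟨a₁ * a₂, A.mul_mem ha₁ ha₂, b₁ * b₂, B.mul_mem hb₁ hb₂, ?_⟩
      have := h a₂ ha₂ b₁ hb₁
      calc a₁ * a₂ * (b₁ * b₂) = a₁ * (a₂ * b₁) * b₂ := by group
        _ = a₁ * (b₁ * a₂) * b₂ := by rw [this]
        _ = a₁ * b₁ * (a₂ * b₂) := by group
    · rintro _ _ ⟨a, ha, b, hb, rfl⟩
      refine ⟨a⁻¹, A.inv_mem ha, b⁻¹, B.inv_mem hb, ?_⟩
      have := h a⁻¹ (A.inv_mem ha) b⁻¹ (B.inv_mem hb)
      rw [this, mul_inv_rev]
  · rintro ⟨a, ha, b, hb, rfl⟩
    exact Subgroup.mul_mem_sup ha hb

variable [Finite G]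

theorem center_sup_components_aux (s : Finset (Subgroup G)) :
    (∀ K ∈ s, Cfsg.IsComponent K) → ∀ z ∈ s.sup id, (∀ y ∈ s.sup id, y * z = z * y) →
      z ∈ s.sup (fun L => L ⊓ Subgroup.centralizer (L : Set G)) := by
  classical
  induction s using Finset.induction_on with
  | empty =>
    intro _ z hz _
    simpa using hz
  | insert L s hL ih =>
    intro hcomp z hz hzc
    rw [Finset.sup_insert] at hz hzc ⊢
    simp only [id] at hz hzc
    have hLc : Cfsg.IsComponent L := hcomp L (Finset.mem_insert_self L s)
    have hsc : ∀ K ∈ s, Cfsg.IsComponent K := fun K hK => hcomp K (Finset.mem_insert_of_mem hK)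
    -- L commutes with s.sup id
    have hcomm : ∀ a ∈ L, ∀ b ∈ s.sup id, a * b = b * a := by
      have : s.sup id ≤ Subgroup.centralizer (L : Set G) := by
        apply Finset.sup_le
        intro K hK
        have hne : K ≠ L := fun h => hL (h ▸ hK)
        exact Subgroup.commutator_eq_bot_iff_le_centralizer.mp
          (comp_commutator_eq_bot_of_ne (hsc K hK) hLc hne)
      intro a ha b hb
      exact (Subgroup.mem_centralizer_iff.mp (this hb)) a ha
    obtain ⟨l, hl, e, he, rfl⟩ := (mem_sup_of_commute hcomm).mp hz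
    have hl' : l ∈ L ⊓ Subgroup.centralizer (L : Set G) := by
      refine Subgroup.mem_inf.mpr ⟨hl, ?_⟩
      rw [Subgroup.mem_centralizer_iff]
      intro x hx
      have h1 := hzc x (Subgroup.mem_sup_left hx)
      have h2 := hcomm x hx e he
      -- x * (l * e) = l * e * x, e x = x e
      have : x * l * e = l * x * e := by
        calc x * l * e = x * (l * e) := by group
          _ = l * e * x := h1
          _ = l * (e * x) := by group
          _ = l * (x * e) := by rw [h2]
          _ = l * x * e := by group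
      exact mul_right_cancel this
    have he' : e ∈ s.sup (fun L => L ⊓ Subgroup.centralizer (L : Set G)) := by
      apply ih hsc e he
      intro y hy
      have h1 := hzc y (Subgroup.mem_sup_right hy)
      have h2 := hcomm l hl y hy
      have : l * (y * e) = l * (e * y) := by
        calc l * (y * e) = (l * y) * e := by group
          _ = (y * l) * e := by rw [h2]
          _ = y * (l * e) := by group
          _ = l * e * y := h1
          _ = l * (e * y) := by group
      exact mul_left_cancel this
    exact Subgroup.mul_mem_sup hl' he'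

/-- **S1263**: `Z(E(G))` is generated by the centres of the components. -/
theorem map_center_layer_eq_iSup :
    (Subgroup.center ↥(Cfsg.layer G)).map (Cfsg.layer G).subtype =
      ⨆ L : {K : Subgroup G // Cfsg.IsComponent K},
        (Subgroup.center ↥(L : Subgroup G)).map (L : Subgroup G).subtype := by
  classical
  apply le_antisymm
  · set s : Finset (Subgroup G) := (Set.toFinite {K : Subgroup G | Cfsg.IsComponent K}).toFinset
      with hs
    have hs' : ∀ K, K ∈ s ↔ Cfsg.IsComponent K := by
      intro K; rw [hs, Set.Finite.mem_toFinset]; rfl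
    have hE : Cfsg.layer G = s.sup id := by
      rw [Finset.sup_id_eq_sSup, hs, Set.Finite.coe_toFinset]; rfl
    rw [map_center_eq_inf_centralizer]
    intro z hz
    have hz1 : z ∈ s.sup id := by rw [← hE]; exact hz.1
    have hz2 : ∀ y ∈ s.sup id, y * z = z * y := by
      intro y hy
      rw [← hE] at hy
      exact (Subgroup.mem_centralizer_iff.mp hz.2) y hy
    have := center_sup_components_aux s (fun K hK => (hs' K).mp hK) z hz1 hz2
    refine (Finset.sup_le ?_ : s.sup (fun L => L ⊓ Subgroup.centralizer (L : Set G)) ≤ _) this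
    intro L hL
    rw [← map_center_eq_inf_centralizer]
    exact le_iSup (fun L : {K : Subgroup G // Cfsg.IsComponent K} =>
      (Subgroup.center ↥(L : Subgroup G)).map (L : Subgroup G).subtype) ⟨L, (hs' L).mp hL⟩
  · apply iSup_le
    rintro ⟨L, hL⟩
    rw [map_center_eq_inf_centralizer, map_center_eq_inf_centralizer]
    intro z hz
    rw [Subgroup.mem_inf] at hz
    refine Subgroup.mem_inf.mpr ⟨comp_le_layer hL hz.1, ?_⟩
    -- every component centralizes z
    have : Cfsg.layer G ≤ Subgroup.centralizer ({z} : Set G) := by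
      apply sSup_le
      intro K hK
      intro k hk
      rw [Subgroup.mem_centralizer_iff]
      intro y hy
      rw [Set.mem_singleton_iff] at hy; subst hy
      by_cases hKL : K = L
      · subst hKL
        exact ((Subgroup.mem_centralizer_iff.mp hz.2) k hk).symm
      · have h1 := Subgroup.commutator_eq_bot_iff_le_centralizer.mp
          (comp_commutator_eq_bot_of_ne hK hL hKL)
        exact ((Subgroup.mem_centralizer_iff.mp (h1 hk)) y hz.1)
    rw [Subgroup.mem_centralizer_iff]
    intro y hy
    exact ((Subgroup.mem_centralizer_iff.mp (this hy)) z rfl).symm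

end CenterLayerComponents

end Cfsg.Agent.Lib.Helper9
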