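import Mathlib
import Cfsg.Prelude.Def_Local
import Cfsg.Agent.Lib.Helper1.Cores
import Cfsg.Agent.Lib.Helper10.PComponent2
import Cfsg.Agent.Lib.Helper9.Layer
import Cfsg.Agent.Lib.Helper9.Layer2

set_option autoImplicit false
set_option linter.unusedSectionVars false
set_option linter.unusedVariables false

/-!
# Actions on components, part 1 (helper9): general lemmas

* `sylow_not_le_center`: if `O_{p'}(G) = 1`, no component has a central Sylow `p`-subgroup.
* `le_of_forall_commutator_mem`: descending-central-series argument in a `p`-group.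
* `commute_of_mem_iSup`, conjugation helpers.
-/

namespace Cfsg.Agent.Lib.Helper9.CompAct

open Cfsg Subgroup
open scoped commutatorElement

variable {G : Type*} [Group G]

/-- `gLg⁻¹` -/
abbrev cj (g : G) (L : Subgroup G) : Subgroup G := L.map (MulAut.conj g).toMonoidHom

theorem mem_cj {g x : G} {L : Subgroup G} : x ∈ cj g L ↔ g⁻¹ * x * g ∈ L := by
  constructor
  · rintro ⟨y, hy, rfl⟩
    have : g⁻¹ * (MulAut.conj g).toMonoidHom y * g = y := by
      simp [MulAut.conj_apply, mul_assoc]
    rw [this]; exact hy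
  · intro h
    refine ⟨g⁻¹ * x * g, h, ?_⟩
    simp [MulAut.conj_apply, mul_assoc]

theorem conj_mem_cj {g x : G} {L : Subgroup G} (hx : x ∈ L) : g * x * g⁻¹ ∈ cj g L :=
  ⟨x, hx, by simp [MulAut.conj_apply]⟩

theorem cj_mul (g h : G) (L : Subgroup G) : cj (g * h) L = cj g (cj h L) := by
  ext x
  simp only [mem_cj]
  have e : h⁻¹ * (g⁻¹ * x * g) * h = (g * h)⁻¹ * x * (g * h) := by group
  rw [e]

theorem cj_one (L : Subgroup G) : cj (1 : G) L = L := by
  ext x
  rw [mem_cj]; simp

theorem cj_pow (g : G) (L : Subgroup G) (h : cj g L = L) (n : ℕ) : cj (g ^ n) L = L := by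
  induction n with
  | zero => rw [pow_zero, cj_one]
  | succ n ih => rw [pow_succ, cj_mul, h, ih]

theorem cj_inv_of_eq {g : G} {L : Subgroup G} (h : cj g L = L) : cj g⁻¹ L = L := by
  conv_lhs => rw [← h]
  rw [← cj_mul, inv_mul_cancel, cj_one]

theorem cj_mono {g : G} {L K : Subgroup G} (h : L ≤ K) : cj g L ≤ cj g K := Subgroup.map_mono h

theorem cj_injective (g : G) : Function.Injective (cj g : Subgroup G → Subgroup G) :=
  Subgroup.map_injective (MulAut.conj g).injective

theorem cj_iSup {ι : Sort*} (g : G) (f : ι → Subgroup G) : cj g (⨆ i, f i) = ⨆ i, cj g (f i) :=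
  Subgroup.map_iSup _ _

theorem cj_eq_self_of_normal {N : Subgroup G} [hN : N.Normal] (g : G) : cj g N = N := by
  ext x
  rw [mem_cj]
  constructor
  · intro h
    have := hN.conj_mem _ h g
    simpa [mul_assoc] using this
  · intro h
    have := hN.conj_mem _ h g⁻¹
    simpa [mul_assoc] using this

theorem cj_eq_self_of_mem {g : G} {L : Subgroup G} (hg : g ∈ L) : cj g L = L := by
  ext x
  rw [mem_cj]
  constructor
  · intro h
    have := L.mul_mem (L.mul_mem hg h) (L.inv_mem hg)
    simpa [mul_assoc] using this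
  · intro h
    exact L.mul_mem (L.mul_mem (L.inv_mem hg) h) hg

/-- elementwise commuting of two suprema -/
theorem commute_of_mem_iSup {ι κ : Sort*} {A : ι → Subgroup G} {B : κ → Subgroup G}
    (h : ∀ i j, ∀ x ∈ A i, ∀ y ∈ B j, x * y = y * x) :
    ∀ x ∈ ⨆ i, A i, ∀ y ∈ ⨆ j, B j, x * y = y * x := by
  have h1 : (⨆ j, B j) ≤ Subgroup.centralizer ((⨆ i, A i : Subgroup G) : Set G) := by
    apply iSup_le
    intro j
    rw [Subgroup.le_centralizer_iff]
    apply iSup_le
    intro i x hx
    rw [Subgroup.mem_centralizer_iff]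
    intro y hy
    exact (h i j x hx y hy).symm
  intro x hx y hy
  exact ((Subgroup.mem_centralizer_iff.mp (h1 hy)) x hx)

section Finite
variable [Finite G] (p : ℕ) [Fact p.Prime]

/-- If `O_{p'}(G) = 1`, no component of `G` has a central Sylow `p`-subgroup. -/
theorem sylow_not_le_center (hO : pPrimeCore p G = ⊥) {L : Subgroup G} (hL : IsComponent L)
    (S : Sylow p ↥L) : ¬ (S : Subgroup ↥L) ≤ Subgroup.center ↥L := by
  intro hS
  have hperf : commutator ↥L = ⊤ := qs_commutator_eq_top hL.2
  have hcop := Cfsg.Agent.Lib.Helper10.coprime_card_of_sylow_le_center hperf S hS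
  have hle := Cfsg.Agent.Lib.Helper10.subnormal_coprime_le_pPrimeCore p hL.1 hcop
  rw [hO, le_bot_iff] at hle
  exact comp_ne_bot hL hle

/-- a Sylow `p`-subgroup of `G` meets every subnormal subgroup in a Sylow `p`-subgroup -/
theorem not_dvd_relIndex_of_subnormal (S : Sylow p G) (H : Subgroup G) (hH : H.IsSubnormal) :
    ¬ p ∣ (S : Subgroup G).relIndex H := by
  induction hH with
  | top =>
    rw [Subgroup.relIndex_top_right]
    exact S.not_dvd_index
  | step H K h_le hSubn hN ih =>
    have hp : IsPGroup p ((S : Subgroup G).subgroupOf K) := S.isPGroup'.comap_subtype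
    let SK : Sylow p K := hp.toSylow ih
    have h1 : ((S : Subgroup G).subgroupOf K).relIndex (H.subgroupOf K) ∣
        ((S : Subgroup G).subgroupOf K).index := by
      set S' := (S : Subgroup G).subgroupOf K
      set N := H.subgroupOf K
      have e1 : (S' ⊓ N).relIndex N * N.relIndex (S' ⊔ N) = (S' ⊓ N).relIndex (S' ⊔ N) :=
        Subgroup.relIndex_mul_relIndex _ _ _ inf_le_right le_sup_right
      have e2 : (S' ⊓ N).relIndex S' * S'.relIndex (S' ⊔ N) = (S' ⊓ N).relIndex (S' ⊔ N) :=
        Subgroup.relIndex_mul_relIndex _ _ _ inf_le_left le_sup_left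
      have e3 : N.relIndex (S' ⊔ N) = N.relIndex S' := Subgroup.relIndex_sup_right S' N
      have e4 : (S' ⊓ N).relIndex S' = N.relIndex S' := Subgroup.inf_relIndex_left S' N
      have e5 : (S' ⊓ N).relIndex N = S'.relIndex N := Subgroup.inf_relIndex_right S' N
      have e6 : N.relIndex S' ≠ 0 := by
        unfold Subgroup.relIndex
        exact Subgroup.index_ne_zero_of_finite
      rw [e3, e5] at e1
      rw [e4] at e2
      have e7 : S'.relIndex N = S'.relIndex (S' ⊔ N) := by
        have : S'.relIndex N * N.relIndex S' = N.relIndex S' * S'.relIndex (S' ⊔ N) := by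
          rw [e1, e2]
        rw [mul_comm] at this
        exact Nat.eq_of_mul_eq_mul_left (Nat.pos_of_ne_zero e6) this
      rw [e7]
      exact Subgroup.relIndex_dvd_index_of_le le_sup_left
    rw [Subgroup.relIndex_subgroupOf h_le] at h1
    intro h2
    exact ih (h2.trans h1)

/-- the Sylow subgroup of a subnormal subgroup cut out by a Sylow subgroup of `G` -/
noncomputable def sylowInf (S : Sylow p G) (H : Subgroup G) (hH : H.IsSubnormal) : Sylow p ↥H :=
  (S.isPGroup'.comap_subtype : IsPGroup p ((S : Subgroup G).subgroupOf H)).toSylow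
    (not_dvd_relIndex_of_subnormal p S H hH)

theorem coe_sylowInf (S : Sylow p G) (H : Subgroup G) (hH : H.IsSubnormal) :
    ((sylowInf p S H hH : Sylow p ↥H) : Subgroup ↥H) = (S : Subgroup G).subgroupOf H := rfl

/-- **Descending argument in a `p`-group**: if `R` is normalized by the `p`-group `S ≥ R` and every
element of `R` that is central modulo `Z` (w.r.t. `S`) lies in `Z`, then `R ≤ Z`. -/
theorem le_of_forall_commutator_mem {S R Z : Subgroup G} (hS : IsPGroup p S) (hRS : R ≤ S)
    (hRn : ∀ s ∈ S, ∀ r ∈ R, s * r * s⁻¹ ∈ R)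
    (h : ∀ c ∈ R, (∀ s ∈ S, ⁅c, s⁆ ∈ Z) → c ∈ Z) : R ≤ Z := by
  classical
  have : Group.IsNilpotent ↥S := hS.isNilpotent
  -- chain
  let γ : ℕ → Subgroup G := fun n => Nat.rec R (fun _ X => ⁅X, S⁆) n
  have hγ0 : γ 0 = R := rfl
  have hγs : ∀ n, γ (n + 1) = ⁅γ n, S⁆ := fun n => rfl
  have hγR : ∀ n, γ n ≤ R := by
    intro n
    induction n with
    | zero => exact le_rfl
    | succ n ih =>
      rw [hγs, Subgroup.commutator_le]
      intro x hx s hs
      have hxR := ih hx
      -- x s x⁻¹ s⁻¹ = x * (s x⁻¹ s⁻¹)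
      have : ⁅x, s⁆ = x * (s * x⁻¹ * s⁻¹) := by simp [commutatorElement_def, mul_assoc]
      rw [this]
      exact R.mul_mem hxR (hRn s hs _ (R.inv_mem hxR))
  have hγL : ∀ n, γ n ≤ Subgroup.lowerCentralSeries S n := by
    intro n
    induction n with
    | zero =>
      rw [Subgroup.lowerCentralSeries_zero]
      exact hRS
    | succ n ih =>
      rw [hγs, Subgroup.lowerCentralSeries_succ]
      exact Subgroup.commutator_mono ih le_rfl
  obtain ⟨N, hN⟩ := (Subgroup.isNilpotent_iff_lowerCentralSeries S).mp inferInstance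
  have hN' : γ N ≤ Z := by
    have := hγL N
    rw [hN] at this
    exact this.trans bot_le
  have hstep : ∀ m, γ (m + 1) ≤ Z → γ m ≤ Z := by
    intro m h1 c hc
    apply h c (hγR m hc)
    intro s hs
    apply h1
    rw [hγs]
    exact Subgroup.commutator_mem_commutator hc hs
  have hall : ∀ k, k ≤ N → γ (N - k) ≤ Z := by
    intro k
    induction k with
    | zero => intro _; simpa using hN'
    | succ k ih =>
      intro hk
      apply hstep
      have e : N - (k + 1) + 1 = N - k := by omega
      rw [e]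
      exact ih (by omega)
  have := hall N le_rfl
  rw [Nat.sub_self] at this
  exact this

end Finite

end Cfsg.Agent.Lib.Helper9.CompAct
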