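import Mathlib

set_option autoImplicit false
set_option linter.unusedSectionVars false
set_option linter.unusedVariables false
set_option linter.style.haveILetI false

/-!
# A finite field from a commutative regular family of endomorphisms (helper9)

`A` a finite abelian group, `𝒟` a commutative multiplicatively closed set of endomorphisms such
that `φ ↦ φ e` is a bijection from `𝒟` onto `A \ {0}`. Then `𝒟 ∪ {0}` is a finite field and `A` is a
one-dimensional vector space over it: for every finite field `F` of the same cardinality there is an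
additive bijection `θ : A → F` with `θ (φ a) = χ φ * θ a`.
-/

namespace Cfsg.Agent.Lib.Helper9.FieldOfAction

variable {A : Type*} [AddCommGroup A]

/-- the hypotheses -/
structure Hyp (𝒟 : Set (AddMonoid.End A)) (e : A) : Prop where
  one_mem : (1 : AddMonoid.End A) ∈ 𝒟
  mul_mem : ∀ φ ∈ 𝒟, ∀ ψ ∈ 𝒟, φ * ψ ∈ 𝒟
  comm : ∀ φ ∈ 𝒟, ∀ ψ ∈ 𝒟, φ * ψ = ψ * φ
  e_ne : e ≠ 0
  ev_inj : ∀ φ ∈ 𝒟, ∀ ψ ∈ 𝒟, φ e = ψ e → φ = ψ
  ev_ne : ∀ φ ∈ 𝒟, φ e ≠ 0
  ev_surj : ∀ a : A, a ≠ 0 → ∃ φ ∈ 𝒟, φ e = a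

variable {𝒟 : Set (AddMonoid.End A)} {e : A}

theorem eq_of_ev (h : Hyp 𝒟 e) {φ ψ : AddMonoid.End A} (hφ : ∀ χ ∈ 𝒟, φ * χ = χ * φ)
    (hψ : ∀ χ ∈ 𝒟, ψ * χ = χ * ψ) (he : φ e = ψ e) : φ = ψ := by
  refine DFunLike.ext _ _ (fun x => ?_)
  by_cases hx : x = 0
  · rw [hx, map_zero, map_zero]
  · obtain ⟨χ, hχ, rfl⟩ := h.ev_surj x hx
    have h1 : φ (χ e) = (φ * χ) e := rfl
    have h2 : ψ (χ e) = (ψ * χ) e := rfl
    rw [h1, h2, hφ χ hχ, hψ χ hχ]
    show χ (φ e) = χ (ψ e)
    rw [he]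

/-- the field, as a subring of the endomorphism ring -/
def K (h : Hyp 𝒟 e) : Subring (AddMonoid.End A) where
  carrier := {φ | φ = 0 ∨ φ ∈ 𝒟}
  mul_mem' := by
    rintro a b (rfl | ha) (rfl | hb)
    · left; rw [mul_zero]
    · left; rw [zero_mul]
    · left; rw [mul_zero]
    · right; exact h.mul_mem a ha b hb
  one_mem' := Or.inr h.one_mem
  zero_mem' := Or.inl rfl
  add_mem' := by
    rintro a b (rfl | ha) (rfl | hb)
    · left; rw [add_zero]
    · right; rw [zero_add]; exact hb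
    · right; rw [add_zero]; exact ha
    · have hs : ∀ χ ∈ 𝒟, (a + b) * χ = χ * (a + b) := by
        intro χ hχ
        rw [add_mul, mul_add, h.comm a ha χ hχ, h.comm b hb χ hχ]
      by_cases h0 : (a + b) e = 0
      · left
        apply eq_of_ev h hs (fun χ _ => by rw [zero_mul, mul_zero])
        rw [h0]; rfl
      · right
        obtain ⟨ρ, hρ, hρe⟩ := h.ev_surj _ h0
        have : a + b = ρ := eq_of_ev h hs (fun χ hχ => h.comm ρ hρ χ hχ) hρe.symm
        rw [this]; exact hρ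
  neg_mem' := by
    rintro a (rfl | ha)
    · left; rw [neg_zero]
    · right
      have hs : ∀ χ ∈ 𝒟, (-a) * χ = χ * (-a) := by
        intro χ hχ
        rw [neg_mul, mul_neg, h.comm a ha χ hχ]
      have h0 : (-a) e ≠ 0 := by
        show -(a e) ≠ 0
        exact neg_ne_zero.mpr (h.ev_ne a ha)
      obtain ⟨ρ, hρ, hρe⟩ := h.ev_surj _ h0
      have : -a = ρ := eq_of_ev h hs (fun χ hχ => h.comm ρ hρ χ hχ) hρe.symm
      rw [this]; exact hρ

theorem mem_K (h : Hyp 𝒟 e) {φ : AddMonoid.End A} : φ ∈ K h ↔ φ = 0 ∨ φ ∈ 𝒟 := Iff.rfl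

theorem K_comm (h : Hyp 𝒟 e) (a b : K h) : a * b = b * a := by
  apply Subtype.ext
  show a.1 * b.1 = b.1 * a.1
  rcases a.2 with ha | ha
  · rw [ha, zero_mul, mul_zero]
  · rcases b.2 with hb | hb
    · rw [hb, zero_mul, mul_zero]
    · exact h.comm _ ha _ hb

theorem K_eq_zero_iff (h : Hyp 𝒟 e) (a : K h) : a = 0 ↔ a.1 e = 0 := by
  constructor
  · intro ha; rw [ha]; rfl
  · intro ha
    rcases a.2 with h0 | hD
    · exact Subtype.ext h0
    · exact absurd ha (h.ev_ne _ hD)

theorem K_mem_of_ne (h : Hyp 𝒟 e) {a : K h} (ha : a ≠ 0) : a.1 ∈ 𝒟 := by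
  rcases a.2 with h0 | hD
  · exact absurd (Subtype.ext h0) ha
  · exact hD

/-- commutative ring structure -/
@[reducible] def commRing (h : Hyp 𝒟 e) : CommRing (K h) :=
  { (inferInstance : Ring (K h)) with mul_comm := K_comm h }

theorem isDomain (h : Hyp 𝒟 e) : @IsDomain (K h) (commRing h).toSemiring := by
  letI := commRing h
  haveI : Nontrivial (K h) := by
    refine ⟨⟨1, 0, ?_⟩⟩
    intro h10
    have := (K_eq_zero_iff h 1).mp h10
    exact h.e_ne this
  haveI : NoZeroDivisors (K h) := by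
    refine ⟨fun {a b} hab => ?_⟩
    by_contra hcon
    push Not at hcon
    have ha := K_mem_of_ne h hcon.1
    have hb := K_mem_of_ne h hcon.2
    have hab' : (a * b).1 e = 0 := (K_eq_zero_iff h _).mp hab
    exact h.ev_ne _ (h.mul_mem _ ha _ hb) hab'
  exact NoZeroDivisors.to_isDomain _

variable [Finite A]

instance finite_End : Finite (AddMonoid.End A) := by
  have : Finite (A →+ A) := DFunLike.finite _
  exact this

instance finite_K (h : Hyp 𝒟 e) : Finite (K h) := Subtype.finite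

/-- the field structure -/
@[instance_reducible] noncomputable def field (h : Hyp 𝒟 e) : Field (K h) := by
  classical
  letI := commRing h
  haveI := isDomain h
  haveI : Fintype (K h) := Fintype.ofFinite _
  exact Fintype.fieldOfDomain (K h)

theorem field_coe_add (h : Hyp 𝒟 e) (a b : K h) :
    (letI := field h; ((a + b : K h) : AddMonoid.End A)) = a.1 + b.1 := rfl

theorem field_coe_mul (h : Hyp 𝒟 e) (a b : K h) :
    (letI := field h; ((a * b : K h) : AddMonoid.End A)) = a.1 * b.1 := rfl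

theorem field_coe_one (h : Hyp 𝒟 e) :
    (letI := field h; ((1 : K h) : AddMonoid.End A)) = 1 := rfl

theorem field_coe_zero (h : Hyp 𝒟 e) :
    (letI := field h; ((0 : K h) : AddMonoid.End A)) = 0 := rfl

theorem ev_bijective (h : Hyp 𝒟 e) : Function.Bijective (fun κ : K h => κ.1 e) := by
  constructor
  · intro κ κ' hk
    have hk' : κ.1 e = κ'.1 e := hk
    rcases κ.2 with h0 | hD
    · have hκ : κ = 0 := Subtype.ext h0
      have : κ'.1 e = 0 := by rw [← hk', h0]; rfl
      rw [hκ, (K_eq_zero_iff h κ').mpr this]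
    · rcases κ'.2 with h0' | hD'
      · have hκ' : κ' = 0 := Subtype.ext h0'
        have : κ.1 e = 0 := by rw [hk', h0']; rfl
        rw [hκ', (K_eq_zero_iff h κ).mpr this]
      · exact Subtype.ext (h.ev_inj _ hD _ hD' hk')
  · intro a
    by_cases ha : a = 0
    · exact ⟨0, by rw [ha]; rfl⟩
    · obtain ⟨φ, hφ, hφe⟩ := h.ev_surj a ha
      exact ⟨⟨φ, Or.inr hφ⟩, hφe⟩

/-- **Coordinatization.** -/
theorem exists_coordinatization (h : Hyp 𝒟 e) {F : Type*} [Field F] [Fintype F]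
    (hF : Fintype.card F = Nat.card A) :
    ∃ (θ : A → F) (χ : AddMonoid.End A → F), Function.Bijective θ ∧
      (∀ a b, θ (a + b) = θ a + θ b) ∧ θ e = 1 ∧ ∀ φ ∈ 𝒟, ∀ a, θ (φ a) = χ φ * θ a := by
  classical
  letI := field h
  haveI : Fintype (K h) := Fintype.ofFinite _
  let ev : K h ≃ A := Equiv.ofBijective _ (ev_bijective h)
  have hev : ∀ κ : K h, ev κ = κ.1 e := fun κ => rfl
  have hcard : Fintype.card (K h) = Fintype.card F := by
    rw [hF, ← Nat.card_eq_fintype_card]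
    exact Nat.card_congr ev
  let ψ : K h ≃+* F := FiniteField.ringEquivOfCardEq hcard
  refine ⟨fun a => ψ (ev.symm a), fun φ => if hφ : φ ∈ K h then ψ ⟨φ, hφ⟩ else 0, ?_, ?_, ?_, ?_⟩
  · exact ψ.bijective.comp ev.symm.bijective
  · intro a b
    show ψ (ev.symm (a + b)) = ψ (ev.symm a) + ψ (ev.symm b)
    rw [← map_add]
    congr 1
    rw [Equiv.symm_apply_eq, hev, field_coe_add]
    show a + b = (ev.symm a).1 e + (ev.symm b).1 e
    rw [← hev, ← hev, Equiv.apply_symm_apply, Equiv.apply_symm_apply]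
  · show ψ (ev.symm e) = 1
    have : ev.symm e = 1 := by
      rw [Equiv.symm_apply_eq, hev, field_coe_one]
      rfl
    rw [this, map_one]
  · intro φ hφ a
    have hφK : φ ∈ K h := Or.inr hφ
    show ψ (ev.symm (φ a)) = (if hφ : φ ∈ K h then ψ ⟨φ, hφ⟩ else 0) * ψ (ev.symm a)
    rw [dif_pos hφK, ← map_mul]
    congr 1
    rw [Equiv.symm_apply_eq, hev, field_coe_mul]
    show φ a = φ ((ev.symm a).1 e)
    rw [← hev, Equiv.apply_symm_apply]

end Cfsg.Agent.Lib.Helper9.FieldOfAction
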