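import Mathlib
import Cfsg.Prelude
import Cfsg.Agent.Lib.Helper10.PComponent2
import Cfsg.Agent.Lib.Helper9.Layer3

/-!
# `p`-components: basic properties (perfect, order divisible by `p`, minimality, `O_{p'}(K)`).
-/

set_option autoImplicit false

namespace Cfsg.Agent.Lib.Helper9

open Cfsg Cfsg.Agent.Lib.Helper10 Cfsg.Agent.Lib.Helper1

universe u

variable {G : Type u} [Group G]

theorem commutator_self_le (K : Subgroup G) : ⁅K, K⁆ ≤ K := by
  rw [Subgroup.commutator_le]
  intro a ha b hb
  exact K.mul_mem (K.mul_mem (K.mul_mem ha hb) (K.inv_mem ha)) (K.inv_mem hb)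

theorem commutator_self_isSubnormal {K : Subgroup G} (hK : K.IsSubnormal) : (⁅K, K⁆).IsSubnormal := by
  have hle := commutator_self_le K
  have hn : ((⁅K, K⁆).subgroupOf K).Normal := by
    rw [Subgroup.normal_subgroupOf_iff_le_normalizer hle]
    exact commutator_self_le_normalizer Subgroup.le_normalizer
  exact Subgroup.IsSubnormal.trans hle hn.isSubnormal hK

variable [Finite G]

/-- a `p`-component is perfect -/
theorem pcomp_perfect {p : ℕ} {K : Subgroup G} (hK : IsPComponent p K) : ⁅K, K⁆ = K := by
  apply hK.2.2 _ (commutator_self_isSubnormal hK.1) (commutator_self_le K)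
  rw [Subgroup.map_commutator, comp_perfect hK.2.1]

/-- a subgroup with trivial image in `G / O_{p'}(G)` has order prime to `p` -/
theorem coprime_card_of_map_mk_eq_bot {p : ℕ} {H : Subgroup G}
    (h : H.map (QuotientGroup.mk' (pPrimeCore p G)) = ⊥) : (Nat.card H).Coprime p := by
  have hle : H ≤ pPrimeCore p G := by
    intro x hx
    have : QuotientGroup.mk' (pPrimeCore p G) x ∈ H.map (QuotientGroup.mk' (pPrimeCore p G)) :=
      Subgroup.mem_map_of_mem _ hx
    rw [h, Subgroup.mem_bot] at this
    exact (QuotientGroup.eq_one_iff x).mp this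
  exact Nat.Coprime.coprime_dvd_left (Subgroup.card_dvd_of_le hle) (pPrimeCore_coprime p)

theorem map_mk_eq_bot_of_coprime {p : ℕ} {H : Subgroup G} (hH : H.IsSubnormal)
    (h : (Nat.card H).Coprime p) : H.map (QuotientGroup.mk' (pPrimeCore p G)) = ⊥ := by
  have hle := subnormal_coprime_le_pPrimeCore p hH h
  rw [eq_bot_iff]
  rintro _ ⟨x, hx, rfl⟩
  rw [Subgroup.mem_bot]
  exact (QuotientGroup.eq_one_iff x).mpr (hle hx)

/-- a `p`-component has order divisible by `p` -/
theorem pcomp_dvd_card {p : ℕ} [Fact p.Prime] {K : Subgroup G} (hK : IsPComponent p K) :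
    p ∣ Nat.card K := by
  by_contra h
  have hc : (Nat.card K).Coprime p :=
    ((Nat.Prime.coprime_iff_not_dvd Fact.out).mpr h).symm
  exact comp_ne_bot hK.2.1 (map_mk_eq_bot_of_coprime hK.1 hc)

/-- a subnormal subgroup of a `p`-component has full image or central image -/
theorem pcomp_subnormal_image {p : ℕ} {K H : Subgroup G} (hK : IsPComponent p K)
    (hH : H.IsSubnormal) (hHK : H ≤ K) :
    H = K ∨ (H.map (QuotientGroup.mk' (pPrimeCore p G))).subgroupOf
      (K.map (QuotientGroup.mk' (pPrimeCore p G))) ≤
        Subgroup.center ↥(K.map (QuotientGroup.mk' (pPrimeCore p G))) := by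
  have hsn : ((H.map (QuotientGroup.mk' (pPrimeCore p G))).subgroupOf
      (K.map (QuotientGroup.mk' (pPrimeCore p G)))).IsSubnormal :=
    (hH.map (QuotientGroup.mk'_surjective _)).subgroupOf
  rcases qs_subnormal_eq_top_or_le_center hK.2.1.2 _ hsn with h | h
  · left
    apply hK.2.2 H hH hHK
    apply le_antisymm (Subgroup.map_mono hHK)
    rw [← Subgroup.subgroupOf_eq_top]
    exact h
  · right; exact h

/-- minimality of `p`-components among perfect subnormal subgroups of order divisible by `p` -/
theorem pcomp_minimal {p : ℕ} [Fact p.Prime] {K H : Subgroup G} (hK : IsPComponent p K)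
    (hHK : H ≤ K) (hH : H.IsSubnormal) (hperf : ⁅H, H⁆ = H) (hp : p ∣ Nat.card H) : H = K := by
  rcases pcomp_subnormal_image hK hH hHK with h | h
  · exact h
  · exfalso
    -- the image of H is abelian and perfect hence trivial
    have hbot : H.map (QuotientGroup.mk' (pPrimeCore p G)) = ⊥ := by
      have h1 : ⁅H.map (QuotientGroup.mk' (pPrimeCore p G)),
          H.map (QuotientGroup.mk' (pPrimeCore p G))⁆ = ⊥ := by
        rw [Subgroup.commutator_eq_bot_iff_le_centralizer]
        intro x hx
        rw [Subgroup.mem_centralizer_iff]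
        intro y hy
        have hxK : x ∈ K.map (QuotientGroup.mk' (pPrimeCore p G)) := Subgroup.map_mono hHK hx
        have hyK : y ∈ K.map (QuotientGroup.mk' (pPrimeCore p G)) := Subgroup.map_mono hHK hy
        have hxc := h (x := ⟨x, hxK⟩) (Subgroup.mem_subgroupOf.mpr hx)
        have := (Subgroup.mem_center_iff.mp hxc) ⟨y, hyK⟩
        exact congrArg Subtype.val this
      rw [← Subgroup.map_commutator, hperf] at h1
      exact h1
    have := coprime_card_of_map_mk_eq_bot hbot
    exact (Nat.Prime.coprime_iff_not_dvd Fact.out).mp this.symm hp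

end Cfsg.Agent.Lib.Helper9
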