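import Mathlib
import Cfsg.Prelude
import Cfsg.Agent.Lib.Helper9.PComp

/-!
# `p`-components, part 2: `O_{p'}(K) = K ∩ O_{p'}(G)`, `K / O_{p'}(K)` quasisimple,
central extensions of quasisimple groups, commutators of distinct `p`-components.
-/

set_option autoImplicit false

namespace Cfsg.Agent.Lib.Helper9

open Cfsg Cfsg.Agent.Lib.Helper10 Cfsg.Agent.Lib.Helper1

universe u

open scoped commutatorElement

section General

variable {H : Type*} [Group H]

/-- In a perfect group, a subgroup `M` with `⁅M, H⁆` central is central. -/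
theorem le_center_of_commutator_le_center (hperf : commutator H = ⊤) (M : Subgroup H)
    (h : ⁅M, (⊤ : Subgroup H)⁆ ≤ Subgroup.center H) : M ≤ Subgroup.center H := by
  have h1 : ⁅⁅M, (⊤ : Subgroup H)⁆, (⊤ : Subgroup H)⁆ = ⊥ := by
    rw [Subgroup.commutator_eq_bot_iff_le_centralizer, Subgroup.coe_top, Subgroup.centralizer_univ]
    exact h
  have h2 : ⁅⁅(⊤ : Subgroup H), M⁆, (⊤ : Subgroup H)⁆ = ⊥ := by
    rw [Subgroup.commutator_comm (⊤ : Subgroup H) M]; exact h1
  have h3 : ⁅⁅(⊤ : Subgroup H), (⊤ : Subgroup H)⁆, M⁆ = ⊥ :=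
    Subgroup.commutator_commutator_eq_bot_of_rotate h2 h1
  rw [← commutator_def, hperf, Subgroup.commutator_eq_bot_iff_le_centralizer] at h3
  intro m hm
  rw [Subgroup.mem_center_iff]
  intro g
  have hg : g ∈ Subgroup.centralizer (M : Set H) := h3 (Subgroup.mem_top g)
  exact ((Subgroup.mem_centralizer_iff.mp hg) m hm).symm

/-- A perfect group which is a central extension of a quasisimple group is quasisimple. -/
theorem qs_of_central_quotient (hperf : commutator H = ⊤) (O : Subgroup H) [O.Normal]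
    (hO : O ≤ Subgroup.center H) (hq : Cfsg.IsQuasisimple (H ⧸ O)) : Cfsg.IsQuasisimple H := by
  have hntq := qs_nontrivial hq
  have hnt : Nontrivial H := by
    by_contra hn
    rw [not_nontrivial_iff_subsingleton] at hn
    have : Subsingleton (H ⧸ O) := by
      constructor
      intro a b
      induction a using QuotientGroup.induction_on with | H a =>
      induction b using QuotientGroup.induction_on with | H b =>
      rw [Subsingleton.elim a b]
    exact not_subsingleton (H ⧸ O) this
  apply qs_of_perfect_of_normal hperf hnt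
  intro M hM
  have hMbar : (M.map (QuotientGroup.mk' O)).Normal := hM.map _ (QuotientGroup.mk'_surjective _)
  rcases qs_normal_le_center_or_eq_top hq (M.map (QuotientGroup.mk' O)) with h | h
  · right
    apply le_center_of_commutator_le_center hperf
    -- ⁅M, ⊤⁆ ≤ O ≤ center
    refine le_trans ?_ hO
    rw [Subgroup.commutator_le]
    intro m hm g _
    have hmc : (QuotientGroup.mk' O m) ∈ Subgroup.center (H ⧸ O) := h (Subgroup.mem_map_of_mem _ hm)
    have := (Subgroup.mem_center_iff.mp hmc) (QuotientGroup.mk' O g)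
    rw [← QuotientGroup.eq_one_iff, commutatorElement_def]
    have e : ((m * g * m⁻¹ * g⁻¹ : H) : H ⧸ O) =
        (QuotientGroup.mk' O m) * (QuotientGroup.mk' O g) * (QuotientGroup.mk' O m)⁻¹ *
          (QuotientGroup.mk' O g)⁻¹ := by
      simp
    rw [e, ← this]; group
  · left
    -- M ⊔ O = ⊤ and O central, so ⊤ = ⁅⊤,⊤⁆ ≤ M
    have hsup : M ⊔ O = ⊤ := by
      have := congrArg (Subgroup.comap (QuotientGroup.mk' O)) h
      rw [QuotientGroup.comap_map_mk', Subgroup.comap_top] at this
      rw [sup_comm]; exact this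
    rw [eq_top_iff, ← hperf, commutator_def, ← hsup]
    rw [Subgroup.commutator_le]
    intro a ha b hb
    obtain ⟨m₁, hm₁, z₁, hz₁, rfl⟩ := Subgroup.mem_sup_of_normal_right.mp ha
    obtain ⟨m₂, hm₂, z₂, hz₂, rfl⟩ := Subgroup.mem_sup_of_normal_right.mp hb
    rw [commutatorElement_mul_center_left (hO hz₁), commutatorElement_mul_center_right (hO hz₂)]
    rw [commutatorElement_def]
    exact M.mul_mem (M.mul_mem (M.mul_mem hm₁ hm₂) (M.inv_mem hm₁)) (M.inv_mem hm₂)

end General

variable {G : Type u} [Group G] [Finite G]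

/-- For a subnormal subgroup `K`: `O_{p'}(K) = K ∩ O_{p'}(G)` (as subgroups of `K`). -/
theorem pPrimeCore_subnormal_eq {p : ℕ} {K : Subgroup G} (hK : K.IsSubnormal) :
    pPrimeCore p ↥K = (pPrimeCore p G).subgroupOf K := by
  apply le_antisymm
  · -- O_{p'}(K) is subnormal in G of p'-order
    have hn : (pPrimeCore p ↥K).Normal := Cfsg.Agent.Lib.Helper1.pPrimeCore_normal p
    have hsn : ((pPrimeCore p ↥K).map K.subtype).IsSubnormal :=
      Subgroup.IsSubnormal.trans' hn.isSubnormal hK
    have hcard : (Nat.card ((pPrimeCore p ↥K).map K.subtype)).Coprime p := by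
      rw [Subgroup.card_map_of_injective K.subtype_injective]
      exact pPrimeCore_coprime p
    have hle := subnormal_coprime_le_pPrimeCore p hsn hcard
    intro x hx
    rw [Subgroup.mem_subgroupOf]
    exact hle (Subgroup.mem_map_of_mem _ hx)
  · have hn : (pPrimeCore p G).Normal := Cfsg.Agent.Lib.Helper1.pPrimeCore_normal p
    have hn' : ((pPrimeCore p G).subgroupOf K).Normal := hn.subgroupOf K
    apply le_pPrimeCore hn'
    have h1 : Nat.card ((pPrimeCore p G).subgroupOf K) ∣ Nat.card (pPrimeCore p G) := by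
      rw [← Subgroup.card_map_of_injective K.subtype_injective, Subgroup.subgroupOf_map_subtype]
      exact Subgroup.card_dvd_of_le inf_le_left
    exact Nat.Coprime.coprime_dvd_left h1 (pPrimeCore_coprime p)

theorem map_pPrimeCore_subnormal {p : ℕ} {K : Subgroup G} (hK : K.IsSubnormal) :
    (pPrimeCore p ↥K).map K.subtype = pPrimeCore p G ⊓ K := by
  rw [pPrimeCore_subnormal_eq hK, Subgroup.subgroupOf_map_subtype]

omit [Finite G] in
/-- the restriction of the quotient map to `K`, onto the image of `K` -/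
theorem ker_subgroupMap_mk {p : ℕ} (K : Subgroup G) [(pPrimeCore p G).Normal] :
    ((QuotientGroup.mk' (pPrimeCore p G)).subgroupMap K).ker = (pPrimeCore p G).subgroupOf K := by
  ext x
  rw [MonoidHom.mem_ker, Subgroup.mem_subgroupOf]
  constructor
  · intro h
    have := congrArg Subtype.val h
    exact (QuotientGroup.eq_one_iff x.1).mp this
  · intro h
    apply Subtype.ext
    exact (QuotientGroup.eq_one_iff x.1).mpr h

/-- `K / O_{p'}(K)` is isomorphic to the image of `K` in `G / O_{p'}(G)` for subnormal `K` -/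
noncomputable def quotientPPrimeCoreEquivMap (p : ℕ) {K : Subgroup G} (hK : K.IsSubnormal) :
    haveI := Cfsg.Agent.Lib.Helper1.pPrimeCore_normal (G := ↥K) p
    haveI := Cfsg.Agent.Lib.Helper1.pPrimeCore_normal (G := G) p
    (↥K ⧸ pPrimeCore p ↥K) ≃* ↥(K.map (QuotientGroup.mk' (pPrimeCore p G))) :=
  haveI := Cfsg.Agent.Lib.Helper1.pPrimeCore_normal (G := ↥K) p
  haveI := Cfsg.Agent.Lib.Helper1.pPrimeCore_normal (G := G) p
  (QuotientGroup.quotientMulEquivOfEq
    (by rw [ker_subgroupMap_mk, pPrimeCore_subnormal_eq hK])).trans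
    (QuotientGroup.quotientKerEquivOfSurjective
      ((QuotientGroup.mk' (pPrimeCore p G)).subgroupMap K)
      ((QuotientGroup.mk' (pPrimeCore p G)).subgroupMap_surjective K))

/-- **S1275 (general `p`)**: `K / O_{p'}(K)` is quasisimple for a `p`-component `K`. -/
theorem pcomp_quotient_qs {p : ℕ} {K : Subgroup G} (hK : IsPComponent p K) :
    haveI := Cfsg.Agent.Lib.Helper1.pPrimeCore_normal (G := ↥K) p
    Cfsg.IsQuasisimple (↥K ⧸ pPrimeCore p ↥K) :=
  qs_of_mulEquiv (quotientPPrimeCoreEquivMap p hK.1).symm hK.2.1.2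

omit [Finite G] in
theorem commutator_eq_top_of_perfect_subgroup {K : Subgroup G} (h : ⁅K, K⁆ = K) :
    commutator ↥K = ⊤ := by
  rw [commutator_def]
  apply Subgroup.map_injective K.subtype_injective
  rw [Subgroup.map_commutator, ← MonoidHom.range_eq_map, Subgroup.range_subtype, h]

/-- **S1276 (general `p`)**: a `p`-component `K` is quasisimple iff `⁅K, O_{p'}(K)⁆ = 1`. -/
theorem pcomp_qs_iff {p : ℕ} [Fact p.Prime] {K : Subgroup G} (hK : IsPComponent p K) :
    Cfsg.IsQuasisimple ↥K ↔ ⁅K, (pPrimeCore p ↥K).map K.subtype⁆ = ⊥ := by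
  have hn : (pPrimeCore p ↥K).Normal := Cfsg.Agent.Lib.Helper1.pPrimeCore_normal p
  constructor
  · intro hq
    rcases qs_normal_le_center_or_eq_top hq (pPrimeCore p ↥K) with h | h
    · rw [Subgroup.commutator_eq_bot_iff_le_centralizer]
      intro k hk
      rw [Subgroup.mem_centralizer_iff]
      rintro _ ⟨o, ho, rfl⟩
      have := (Subgroup.mem_center_iff.mp (h ho)) ⟨k, hk⟩
      exact (congrArg Subtype.val this).symm
    · exfalso
      have hc : (Nat.card (pPrimeCore p ↥K)).Coprime p := pPrimeCore_coprime p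
      rw [h, Subgroup.card_top] at hc
      exact (Nat.Prime.coprime_iff_not_dvd Fact.out).mp hc.symm (pcomp_dvd_card hK)
  · intro h
    have hO : pPrimeCore p ↥K ≤ Subgroup.center ↥K := by
      rw [Subgroup.commutator_eq_bot_iff_le_centralizer] at h
      intro o ho
      rw [Subgroup.mem_center_iff]
      intro k
      apply Subtype.ext
      have := (Subgroup.mem_centralizer_iff.mp (h k.2)) o.1 (Subgroup.mem_map_of_mem _ ho)
      exact this.symm
    exact qs_of_central_quotient (commutator_eq_top_of_perfect_subgroup (pcomp_perfect hK))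
      (pPrimeCore p ↥K) hO (pcomp_quotient_qs hK)

/-- distinct `p`-components have distinct images in `G / O_{p'}(G)` -/
theorem pcomp_eq_of_map_eq {p : ℕ} [Fact p.Prime] {K L : Subgroup G} (hK : IsPComponent p K)
    (hL : IsPComponent p L)
    (h : K.map (QuotientGroup.mk' (pPrimeCore p G)) = L.map (QuotientGroup.mk' (pPrimeCore p G))) :
    K = L := by
  have h1 := isPComponent_eq_pElementClosure p hK
  have h2 := isPComponent_eq_pElementClosure p hL
  have h3 : K ⊔ pPrimeCore p G = L ⊔ pPrimeCore p G := by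
    rw [sup_comm, ← QuotientGroup.comap_map_mk', h, QuotientGroup.comap_map_mk', sup_comm]
  rw [h1, h3, ← h2]

omit [Finite G] in
theorem commutator_le_left_of_le_normalizer {K L : Subgroup G}
    (h : L ≤ Subgroup.normalizer (K : Set G)) : ⁅K, L⁆ ≤ K := by
  rw [Subgroup.commutator_le]
  intro k hk l hl
  have h1 : l * k⁻¹ * l⁻¹ ∈ K := (Subgroup.mem_normalizer_iff.mp (h hl) k⁻¹).mp (K.inv_mem hk)
  have : ⁅k, l⁆ = k * (l * k⁻¹ * l⁻¹) := by rw [commutatorElement_def]; group
  rw [this]
  exact K.mul_mem hk h1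

omit [Finite G] in
theorem commutator_le_right_of_le_normalizer {K L : Subgroup G}
    (h : K ≤ Subgroup.normalizer (L : Set G)) : ⁅K, L⁆ ≤ L := by
  rw [Subgroup.commutator_comm]
  exact commutator_le_left_of_le_normalizer h

/-- **S1278 (general `p`)**, first part. -/
theorem pcomp_commutator_le {p : ℕ} [Fact p.Prime] {K L : Subgroup G} (hK : IsPComponent p K)
    (hL : IsPComponent p L) (hne : K ≠ L) :
    ⁅K, L⁆ ≤ (pPrimeCore p ↥K).map K.subtype ⊓ (pPrimeCore p ↥L).map L.subtype := by
  have h0 : ⁅K, L⁆ ≤ pPrimeCore p G := by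
    have hne' : K.map (QuotientGroup.mk' (pPrimeCore p G)) ≠
        L.map (QuotientGroup.mk' (pPrimeCore p G)) := fun h => hne (pcomp_eq_of_map_eq hK hL h)
    have hb := comp_commutator_eq_bot_of_ne hK.2.1 hL.2.1 hne'
    rw [← Subgroup.map_commutator] at hb
    intro x hx
    have : QuotientGroup.mk' (pPrimeCore p G) x ∈ (⁅K, L⁆).map (QuotientGroup.mk' (pPrimeCore p G)) :=
      Subgroup.mem_map_of_mem _ hx
    rw [hb, Subgroup.mem_bot] at this
    exact (QuotientGroup.eq_one_iff x).mp this
  have h1 : ⁅K, L⁆ ≤ K :=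
    commutator_le_left_of_le_normalizer
      ((isPComponent_le_pLayer hL).trans (pLayer_le_normalizer_isPComponent p hK))
  have h2 : ⁅K, L⁆ ≤ L :=
    commutator_le_right_of_le_normalizer
      ((isPComponent_le_pLayer hK).trans (pLayer_le_normalizer_isPComponent p hL))
  rw [map_pPrimeCore_subnormal hK.1, map_pPrimeCore_subnormal hL.1]
  exact le_inf (le_inf h0 h1) (le_inf h0 h2)

/-- **S1278 (general `p`)**, second part. -/
theorem pcomp_commutator_eq_bot_of_qs {p : ℕ} [Fact p.Prime] {K L : Subgroup G}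
    (hK : IsPComponent p K) (hL : IsPComponent p L) (hne : K ≠ L) (hq : Cfsg.IsQuasisimple ↥K) :
    ⁅K, L⁆ = ⊥ := by
  have hle := (pcomp_commutator_le hK hL hne).trans inf_le_left
  have hz := (pcomp_qs_iff hK).mp hq
  have hz' : ⁅(pPrimeCore p ↥K).map K.subtype, K⁆ = ⊥ := by
    rw [Subgroup.commutator_comm]; exact hz
  have h1 : ⁅⁅K, L⁆, K⁆ = ⊥ := by
    rw [eq_bot_iff, ← hz']
    exact Subgroup.commutator_mono hle le_rfl
  have h2 : ⁅⁅L, K⁆, K⁆ = ⊥ := by rw [Subgroup.commutator_comm L K]; exact h1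
  have h3 : ⁅⁅K, K⁆, L⁆ = ⊥ := Subgroup.commutator_commutator_eq_bot_of_rotate h1 h2
  rwa [pcomp_perfect hK] at h3

end Cfsg.Agent.Lib.Helper9
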