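import Mathlib
import Cfsg.Agent.Lib.Helper9.Conj

set_option autoImplicit false

namespace Cfsg.Agent.Lib.Helper9

variable {G : Type*} [Group G]

/-- if `B` normalizes `A` then `A ⊔ B = A B` elementwise -/
theorem mem_sup_of_le_normalizer {A B : Subgroup G} (h : B ≤ Subgroup.normalizer (A : Set G))
    {x : G} : x ∈ A ⊔ B ↔ ∃ a ∈ A, ∃ b ∈ B, a * b = x := by
  constructor
  · intro hx
    rw [Subgroup.sup_eq_closure] at hx
    refine Subgroup.closure_induction ?_ ?_ ?_ ?_ hx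
    · rintro y (hy | hy)
      · exact ⟨y, hy, 1, B.one_mem, mul_one y⟩
      · exact ⟨1, A.one_mem, y, hy, one_mul y⟩
    · exact ⟨1, A.one_mem, 1, B.one_mem, mul_one 1⟩
    · rintro _ _ _ _ ⟨a₁, ha₁, b₁, hb₁, rfl⟩ ⟨a₂, ha₂, b₂, hb₂, rfl⟩
      refine ⟨a₁ * (b₁ * a₂ * b₁⁻¹), A.mul_mem ha₁ ?_, b₁ * b₂, B.mul_mem hb₁ hb₂, by group⟩
      exact (Subgroup.mem_normalizer_iff.mp (h hb₁) a₂).mp ha₂
    · rintro _ _ ⟨a, ha, b, hb, rfl⟩
      refine ⟨b⁻¹ * a⁻¹ * b⁻¹⁻¹, ?_, b⁻¹, B.inv_mem hb, by group⟩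
      exact (Subgroup.mem_normalizer_iff.mp (h (B.inv_mem hb)) a⁻¹).mp (A.inv_mem ha)
  · rintro ⟨a, ha, b, hb, rfl⟩
    exact Subgroup.mul_mem _ (Subgroup.mem_sup_left ha) (Subgroup.mem_sup_right hb)

/-- conjMap version of normalizer membership -/
theorem le_normalizer_of_forall_conjMap_eq {A B : Subgroup G}
    (h : ∀ b ∈ B, A.map (MulAut.conj b).toMonoidHom = A) : B ≤ Subgroup.normalizer (A : Set G) :=
  fun b hb => mem_normalizer_of_conjMap_eq_self (h b hb)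

end Cfsg.Agent.Lib.Helper9
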