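import Mathlib
import Cfsg.Agent.Lib.Helper22.AutElemAb
import Cfsg.Agent.Lib.Helper17.SylowNormal2
import Cfsg.Agent.Lib.Helper9.Misc

set_option autoImplicit false
set_option linter.unusedSectionVars false

/-!
# Indices of automizers of four-groups and quaternion groups
-/

namespace Cfsg.Agent.Lib.Helper9.AutIndex

/-- generating pairs of `Q₈` -/
abbrev QPairs : Type :=
  {p : QuaternionGroup 2 × QuaternionGroup 2 //
    p.1 ^ 2 ≠ 1 ∧ p.2 ^ 2 ≠ 1 ∧ p.2 ≠ p.1 ∧ p.2 ≠ p.1 ^ 3}

theorem card_QPairs : Nat.card QPairs = 24 := by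
  rw [Nat.card_eq_fintype_card]
  decide

theorem q8_pow_four (w : QuaternionGroup 2) : w ^ 4 = 1 := by
  revert w
  decide

theorem card_center_q8 : Nat.card (Subgroup.center (QuaternionGroup 2)) = 2 := by
  rw [Nat.card_eq_fintype_card]
  decide

/-- the action of a group of automorphisms of `Q₈` on generating pairs -/
@[instance_reducible]
def pairAct (B : Subgroup (MulAut (QuaternionGroup 2))) : MulAction B QPairs where
  smul β s := ⟨((β : MulAut (QuaternionGroup 2)) s.1.1, (β : MulAut (QuaternionGroup 2)) s.1.2), by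
    obtain ⟨⟨u, v⟩, h1, h2, h3, h4⟩ := s
    refine ⟨?_, ?_, ?_, ?_⟩
    · intro h
      apply h1
      apply (β : MulAut (QuaternionGroup 2)).injective
      simpa using h
    · intro h
      apply h2
      apply (β : MulAut (QuaternionGroup 2)).injective
      simpa using h
    · intro h
      exact h3 ((β : MulAut (QuaternionGroup 2)).injective h)
    · intro h
      apply h4
      apply (β : MulAut (QuaternionGroup 2)).injective
      simpa using h⟩
  one_smul s := by
    apply Subtype.ext
    rfl
  mul_smul α β s := by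
    apply Subtype.ext
    rfl

/-- a group of automorphisms of `Q₈` has order dividing `24` -/
theorem card_subgroup_mulAut_q8_dvd (B : Subgroup (MulAut (QuaternionGroup 2))) :
    Nat.card B ∣ 24 := by
  classical
  let _ := pairAct B
  have hfree : ∀ s : QPairs, MulAction.stabilizer B s = ⊥ := by
    intro s
    rw [eq_bot_iff]
    intro β hβ
    rw [MulAction.mem_stabilizer_iff] at hβ
    rw [Subgroup.mem_bot]
    apply Subtype.ext
    obtain ⟨⟨u, v⟩, h1, h2, h3, h4⟩ := s
    have hu : (β : MulAut (QuaternionGroup 2)) u = u := by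
      have := congrArg (fun t : QPairs => t.1.1) hβ
      exact this
    have hv : (β : MulAut (QuaternionGroup 2)) v = v := by
      have := congrArg (fun t : QPairs => t.1.2) hβ
      exact this
    -- the fixed subgroup
    let F : Subgroup (QuaternionGroup 2) :=
      { carrier := {w | (β : MulAut (QuaternionGroup 2)) w = w}
        one_mem' := map_one _
        mul_mem' := by
          intro a b ha hb
          simp only [Set.mem_ofPred_eq] at ha hb ⊢
          rw [map_mul, ha, hb]
        inv_mem' := by
          intro a ha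
          simp only [Set.mem_ofPred_eq] at ha ⊢
          rw [map_inv, ha] }
    have huF : u ∈ F := hu
    have hvF : v ∈ F := hv
    have hou : orderOf u = 4 := by
      have hd : orderOf u ∣ 4 := orderOf_dvd_of_pow_eq_one (q8_pow_four u)
      have h2' : ¬ orderOf u ∣ 2 := fun hd2 => h1 (orderOf_dvd_iff_pow_eq_one.mp hd2)
      have hle : orderOf u ≤ 4 := Nat.le_of_dvd (by norm_num) hd
      have hpos : 0 < orderOf u := orderOf_pos u
      interval_cases (orderOf u) <;> simp_all
    have hle1 : Subgroup.zpowers u ≤ F := by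
      rw [Subgroup.zpowers_le]; exact huF
    have hc1 : Nat.card (Subgroup.zpowers u) = 4 := by rw [Nat.card_zpowers, hou]
    have hvz : v ∉ Subgroup.zpowers u := by
      intro hz
      rw [← mem_powers_iff_mem_zpowers, Submonoid.mem_powers_iff] at hz
      obtain ⟨k, hk⟩ := hz
      have hk' : u ^ (k % 4) = v := by
        rw [← hk, ← hou, pow_mod_orderOf]
      have hk4 : k % 4 < 4 := Nat.mod_lt _ (by norm_num)
      interval_cases (k % 4)
      · apply h2; rw [← hk']; simp
      · apply h3; rw [← hk']; simp
      · apply h2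
        rw [← hk', ← pow_mul]
        exact q8_pow_four u
      · exact h4 hk'.symm
    have hdv1 : Nat.card (Subgroup.zpowers u) ∣ Nat.card F := Subgroup.card_dvd_of_le hle1
    have hdv2 : Nat.card F ∣ Nat.card (QuaternionGroup 2) := Subgroup.card_subgroup_dvd_card F
    rw [hc1] at hdv1
    have hq8 : Nat.card (QuaternionGroup 2) = 8 := by
      rw [Nat.card_eq_fintype_card, QuaternionGroup.card]
    rw [hq8] at hdv2
    obtain ⟨m, hm⟩ := hdv1
    have hF8 : Nat.card F = 8 := by
      have h8 : Nat.card F ≤ 8 := Nat.le_of_dvd (by norm_num) hdv2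
      have hm2 : m ≤ 2 := by omega
      interval_cases m
      · rw [hm] at hdv2; simp at hdv2
      · exfalso
        have : Subgroup.zpowers u = F := Subgroup.eq_of_le_of_card_ge hle1 (by rw [hc1, hm])
        apply hvz; rw [this]; exact hvF
      · omega
    have hFtop : F = ⊤ := by
      apply Subgroup.eq_top_of_card_eq
      rw [hF8, hq8]
    ext w
    have hw : w ∈ F := by rw [hFtop]; trivial
    exact hw
  have e := MulAction.selfEquivOrbitsQuotientProd hfree
  have hc := card_QPairs
  rw [Nat.card_congr e, Nat.card_prod] at hc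
  rw [← hc]
  exact Dvd.intro_left _ rfl

variable {G : Type*} [Group G]

/-- `|N_G(H) : C_G(H)|` is the order of the automizer -/
theorem relIndex_centralizer_normalizer (H : Subgroup G) :
    (Subgroup.centralizer (H : Set G)).relIndex (Subgroup.normalizer (H : Set G)) =
      Nat.card H.normalizerMonoidHom.range := by
  rw [Subgroup.relIndex, ← Subgroup.normalizerMonoidHom_ker, Subgroup.index_ker]

/-- the automizer of a four-group has order dividing six -/
theorem relIndex_dvd_six_of_kleinFour [Finite G] (T : Subgroup G) (hT : IsKleinFour T) :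
    (Subgroup.centralizer (T : Set G)).relIndex (Subgroup.normalizer (T : Set G)) ∣ 6 := by
  have : Fact (Nat.Prime 2) := ⟨Nat.prime_two⟩
  rw [relIndex_centralizer_normalizer]
  let _ : CommGroup T :=
    { (inferInstance : Group T) with
      mul_comm := fun a b => mul_comm_of_exponent_two hT.exponent_two a b }
  have hexp : ∀ t : T, t ^ 2 = 1 := by
    intro t
    have := Monoid.pow_exponent_eq_one t
    rwa [hT.exponent_two] at this
  have h := Cfsg.Agent.Lib.Helper22.card_mulAut_subgroup_dvd T 2 2 hexp
    (by rw [hT.card_four]; norm_num) T.normalizerMonoidHom.range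
  have e : ∏ i ∈ Finset.range 2, (2 ^ 2 - 2 ^ i) = 6 := by decide
  rw [e] at h
  exact h

/-- the automizer of a quaternion group of order eight has order dividing 24 -/
theorem relIndex_dvd_of_quaternion (Q : Subgroup G) (eQ : Q ≃* QuaternionGroup 2) :
    (Subgroup.centralizer (Q : Set G)).relIndex (Subgroup.normalizer (Q : Set G)) ∣ 24 := by
  rw [relIndex_centralizer_normalizer]
  have h := card_subgroup_mulAut_q8_dvd
    (Q.normalizerMonoidHom.range.map (MulAut.congr eQ).toMonoidHom)
  rwa [Nat.card_congr (Subgroup.equivMapOfInjective _ _ (MulAut.congr eQ).injective).toEquiv.symm]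
    at h

/-- `|Q : Z(Q)| = 4` -/
theorem relIndex_centralizer_self_of_quaternion [Finite G] (Q : Subgroup G)
    (eQ : Q ≃* QuaternionGroup 2) :
    (Subgroup.centralizer (Q : Set G)).relIndex Q = 4 := by
  have h1 : (Subgroup.centralizer (Q : Set G)).subgroupOf Q = Subgroup.center Q := by
    ext a
    rw [Subgroup.mem_subgroupOf, Subgroup.mem_centralizer_iff, Subgroup.mem_center_iff]
    constructor
    · intro h b
      apply Subtype.ext
      simpa using h b b.2
    · intro h b hb
      have := congrArg Subtype.val (h ⟨b, hb⟩)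
      simpa using this
  rw [Subgroup.relIndex, h1]
  have hc : Nat.card (Subgroup.center Q) = 2 := by
    rw [Nat.card_congr (Subgroup.centerCongr eQ).toEquiv, card_center_q8]
  have h8 : Nat.card Q = 8 := by
    rw [Nat.card_congr eQ.toEquiv, Nat.card_eq_fintype_card, QuaternionGroup.card]
  have h2 := (Subgroup.center Q).card_mul_index
  rw [hc, h8] at h2
  omega

/-- the outer automizer of a quaternion group of order eight has order dividing six -/
theorem relIndex_sup_dvd_six_of_quaternion [Finite G] (Q : Subgroup G)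
    (eQ : Q ≃* QuaternionGroup 2) :
    (Q ⊔ Subgroup.centralizer (Q : Set G)).relIndex (Subgroup.normalizer (Q : Set G)) ∣ 6 := by
  have hCN : Subgroup.centralizer (Q : Set G) ≤ Subgroup.normalizer (Q : Set G) :=
    Subgroup.centralizer_le_normalizer _
  have hQN : Q ≤ Subgroup.normalizer (Q : Set G) := Subgroup.le_normalizer
  have h1 := Subgroup.relIndex_mul_relIndex (Subgroup.centralizer (Q : Set G))
    (Q ⊔ Subgroup.centralizer (Q : Set G)) (Subgroup.normalizer (Q : Set G)) le_sup_right
    (sup_le hQN hCN)
  have h2 := Cfsg.Agent.Lib.Helper17.relIndex_eq_relIndex_sup_of_le_normalizer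
    (Subgroup.centralizer (Q : Set G)) Q hCN
  rw [relIndex_centralizer_self_of_quaternion Q eQ, sup_comm] at h2
  rw [← h2] at h1
  have h3 := relIndex_dvd_of_quaternion Q eQ
  rw [← h1] at h3
  have : (24 : ℕ) = 4 * 6 := by norm_num
  rw [this] at h3
  exact Nat.dvd_of_mul_dvd_mul_left (by norm_num) h3

/-- an element outside `D` whose square lies in `D` forces `|N : D|` to be even -/
theorem two_dvd_relIndex_of_mem [Finite G] (D N : Subgroup G) (hn : (D.subgroupOf N).Normal)
    {u : G} (huN : u ∈ N) (huD : u ∉ D) (hu2 : u * u ∈ D) : 2 ∣ D.relIndex N := by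
  by_contra hodd
  have hodd' : Odd (D.relIndex N) := Nat.odd_iff.mpr (Nat.two_dvd_ne_zero.mp hodd)
  obtain ⟨k, hk⟩ := hodd'
  have h1 : (⟨u, huN⟩ : N) ^ (D.subgroupOf N).index ∈ D.subgroupOf N :=
    Subgroup.pow_index_mem (D.subgroupOf N) _
  rw [Subgroup.mem_subgroupOf] at h1
  have h2 : u ^ (2 * k + 1) ∈ D := by
    have : (D.subgroupOf N).index = 2 * k + 1 := hk
    rw [this] at h1
    simpa using h1
  have h3 : u ^ (2 * k) ∈ D := by
    rw [pow_mul, pow_two]; exact D.pow_mem hu2 k
  apply huD
  have : u = (u ^ (2 * k))⁻¹ * u ^ (2 * k + 1) := by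
    rw [pow_succ]; group
  rw [this]
  exact D.mul_mem (D.inv_mem h3) h2

theorem normal_centralizer_subgroupOf_normalizer (H : Subgroup G) :
    ((Subgroup.centralizer (H : Set G)).subgroupOf (Subgroup.normalizer (H : Set G))).Normal := by
  rw [← Subgroup.normalizerMonoidHom_ker]
  exact MonoidHom.normal_ker _

theorem normal_sup_centralizer_subgroupOf_normalizer (H : Subgroup G) :
    ((H ⊔ Subgroup.centralizer (H : Set G)).subgroupOf (Subgroup.normalizer (H : Set G))).Normal := by
  have hCN : Subgroup.centralizer (H : Set G) ≤ Subgroup.normalizer (H : Set G) :=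
    Subgroup.centralizer_le_normalizer _
  have hHN : H ≤ Subgroup.normalizer (H : Set G) := Subgroup.le_normalizer
  rw [Subgroup.subgroupOf_sup hHN hCN]
  have := normal_centralizer_subgroupOf_normalizer H
  have : (H.subgroupOf (Subgroup.normalizer (H : Set G))).Normal := Subgroup.normal_in_normalizer
  infer_instance

/-- from relative index two: an element outside with square inside -/
theorem exists_of_relIndex_two {A N : Subgroup G} (h : A.relIndex N = 2) :
    ∃ a ∈ N, a ∉ A ∧ a * a ∈ A := by
  obtain ⟨a, haN, ha⟩ := Subgroup.relIndex_eq_two_iff.mp h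
  have h1 := ha 1 N.one_mem
  have h2 := ha a haN
  rw [one_mul] at h1
  have haA : a ∉ A := by
    rcases h1 with ⟨h3, h4⟩ | ⟨h3, h4⟩
    · exact absurd A.one_mem h4
    · exact h4
  refine ⟨a, haN, haA, ?_⟩
  rcases h2 with ⟨h3, _⟩ | ⟨h3, _⟩
  · exact h3
  · exact absurd h3 haA

/-- normalizer in a subgroup `S` versus normalizer in `G` -/
theorem coe_mem_normalizer_of_subgroupOf {S H : Subgroup G} (hHS : H ≤ S) {a : S}
    (ha : a ∈ Subgroup.normalizer ((H.subgroupOf S : Subgroup S) : Set S)) :
    (a : G) ∈ Subgroup.normalizer (H : Set G) := by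
  rw [Subgroup.mem_normalizer_iff] at ha ⊢
  intro t
  constructor
  · intro ht
    have := (ha ⟨t, hHS ht⟩).mp (Subgroup.mem_subgroupOf.mpr ht)
    rw [Subgroup.mem_subgroupOf] at this
    simpa using this
  · intro ht
    have htS : t ∈ S := by
      have h1 : (a : G)⁻¹ * ((a : G) * t * (a : G)⁻¹) * (a : G) ∈ S :=
        S.mul_mem (S.mul_mem (S.inv_mem a.2) (hHS ht)) a.2
      have e : (a : G)⁻¹ * ((a : G) * t * (a : G)⁻¹) * (a : G) = t := by group
      rwa [e] at h1
    have := (ha ⟨t, htS⟩).mpr (by rw [Subgroup.mem_subgroupOf]; simpa using ht)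
    exact Subgroup.mem_subgroupOf.mp this

theorem coe_mem_centralizer_subgroupOf {S H : Subgroup G} {a : S}
    (ha : (a : G) ∈ Subgroup.centralizer (H : Set G)) :
    a ∈ Subgroup.centralizer ((H.subgroupOf S : Subgroup S) : Set S) := by
  rw [Subgroup.mem_centralizer_iff] at ha ⊢
  intro t ht
  apply Subtype.ext
  have := ha (t : G) (Subgroup.mem_subgroupOf.mp ht)
  simpa using this

end Cfsg.Agent.Lib.Helper9.AutIndex
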