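import Mathlib
import Cfsg.Prelude.Def_CaseTheorems
import Cfsg.Agent.Lib.Helper9.AutIndex
import Cfsg.Agent.Lib.Helper9.Misc
import Cfsg.Agent.Lib.Helper13.Sylow

/-!
# Generic lemmas for passing to the centralizer of an involution
-/

set_option autoImplicit false

namespace Cfsg.Agent.Lib.Helper9.CentInv

variable {G : Type*} [Group G]

/-- a normal subgroup of index `2 ^ (m + 1)` lies in a subgroup of index two -/
theorem exists_index_two_of_normal [Finite G] (K : Subgroup G) [K.Normal] (m : ℕ)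
    (hK : K.index = 2 ^ (m + 1)) : ∃ H : Subgroup G, H.index = 2 := by
  have : Fact (Nat.Prime 2) := ⟨Nat.prime_two⟩
  have hcard : Nat.card (G ⧸ K) = 2 ^ (m + 1) := by rw [← Subgroup.index, hK]
  obtain ⟨L, hL⟩ := Sylow.exists_subgroup_card_pow_prime (G := G ⧸ K) 2 (n := m)
    (by rw [hcard]; exact pow_dvd_pow 2 (Nat.le_succ m))
  have hidx : L.index = 2 := by
    have h1 := L.card_mul_index
    rw [hL, hcard, pow_succ] at h1
    exact Nat.eq_of_mul_eq_mul_left (by positivity) h1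
  refine ⟨L.comap (QuotientGroup.mk' K), ?_⟩
  rw [Subgroup.index_comap_of_surjective _ (QuotientGroup.mk'_surjective K), hidx]

theorem isWreathed_of_mulEquiv {S₁ S₂ : Type*} [Group S₁] [Group S₂] (e : S₁ ≃* S₂)
    (h : Cfsg.IsWreathed S₁) : Cfsg.IsWreathed S₂ := by
  obtain ⟨n, hn, hc, x, y, z, hx, hxy, hdisj, hz, hrel⟩ := h
  refine ⟨n, hn, by rw [← Nat.card_congr e.toEquiv, hc], e x, e y, e z, ?_, ?_, ?_, ?_, ?_⟩
  · rw [MulEquiv.orderOf_eq, hx]
  · rw [← map_mul, ← map_mul, hxy]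
  · have h1 : Subgroup.zpowers (e x) = (Subgroup.zpowers x).map e.toMonoidHom := by
      rw [MonoidHom.map_zpowers]; rfl
    have h2 : Subgroup.zpowers (e y) = (Subgroup.zpowers y).map e.toMonoidHom := by
      rw [MonoidHom.map_zpowers]; rfl
    rw [h1, h2, ← Subgroup.map_inf _ _ _ e.injective, hdisj, Subgroup.map_bot]
  · rw [MulEquiv.orderOf_eq, hz]
  · rw [← map_inv, ← map_mul, ← map_mul, hrel]

theorem isQuasiDihedral_of_mulEquiv {S₁ S₂ : Type*} [Group S₁] [Group S₂] (e : S₁ ≃* S₂)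
    (h : Cfsg.IsQuasiDihedral S₁) : Cfsg.IsQuasiDihedral S₂ := by
  obtain ⟨n, hn, hc, x, y, hx, hy, hrel⟩ := h
  refine ⟨n, hn, by rw [← Nat.card_congr e.toEquiv, hc], e x, e y, ?_, ?_, ?_⟩
  · rw [MulEquiv.orderOf_eq, hx]
  · rw [MulEquiv.orderOf_eq, hy]
  · rw [← map_inv, ← map_mul, ← map_mul, hrel, map_pow]

/-! ### subgroups of a subgroup `C` -/

variable (C X : Subgroup G)

theorem mem_normalizer_subgroupOf_of_coe {g : C}
    (hg : (g : G) ∈ Subgroup.normalizer (X : Set G)) :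
    g ∈ Subgroup.normalizer ((X.subgroupOf C : Subgroup C) : Set C) := by
  rw [Subgroup.mem_normalizer_iff]
  intro t
  have := (Subgroup.mem_normalizer_iff.mp hg) (t : G)
  simpa [Subgroup.mem_subgroupOf] using this

theorem coe_mem_normalizer_of_subgroupOf (hXC : X ≤ C) {g : C}
    (hg : g ∈ Subgroup.normalizer ((X.subgroupOf C : Subgroup C) : Set C)) :
    (g : G) ∈ Subgroup.normalizer (X : Set G) :=
  Cfsg.Agent.Lib.Helper9.AutIndex.coe_mem_normalizer_of_subgroupOf hXC hg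

theorem coe_mem_centralizer_of_subgroupOf (hXC : X ≤ C) {g : C}
    (hg : g ∈ Subgroup.centralizer ((X.subgroupOf C : Subgroup C) : Set C)) :
    (g : G) ∈ Subgroup.centralizer (X : Set G) := by
  rw [Subgroup.mem_centralizer_iff] at hg ⊢
  intro t ht
  have := hg ⟨t, hXC ht⟩ (Subgroup.mem_subgroupOf.mpr ht)
  exact congrArg Subtype.val this

theorem mem_centralizer_subgroupOf_of_coe {g : C}
    (hg : (g : G) ∈ Subgroup.centralizer (X : Set G)) :
    g ∈ Subgroup.centralizer ((X.subgroupOf C : Subgroup C) : Set C) :=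
  Cfsg.Agent.Lib.Helper9.AutIndex.coe_mem_centralizer_subgroupOf hg

theorem coe_mem_sup_centralizer (hXC : X ≤ C) {g : C}
    (hg : g ∈ X.subgroupOf C ⊔ Subgroup.centralizer ((X.subgroupOf C : Subgroup C) : Set C)) :
    (g : G) ∈ X ⊔ Subgroup.centralizer (X : Set G) := by
  have h1 : (g : G) ∈ (X.subgroupOf C ⊔
      Subgroup.centralizer ((X.subgroupOf C : Subgroup C) : Set C)).map C.subtype :=
    ⟨g, hg, rfl⟩
  rw [Subgroup.map_sup] at h1
  have hle : (X.subgroupOf C).map C.subtype ⊔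
      (Subgroup.centralizer ((X.subgroupOf C : Subgroup C) : Set C)).map C.subtype ≤
      X ⊔ Subgroup.centralizer (X : Set G) := by
    apply sup_le_sup
    · rw [Subgroup.map_subgroupOf_eq_of_le hXC]
    · rintro _ ⟨c, hc, rfl⟩
      exact coe_mem_centralizer_of_subgroupOf C X hXC hc
  exact hle h1

/-- the centre of `S`, viewed inside `C` -/
theorem center_map_eq (S : Subgroup G) (hSC : S ≤ C) :
    (Subgroup.center (S.subgroupOf C)).map (S.subgroupOf C).subtype =
      ((Subgroup.center S).map S.subtype).subgroupOf C := by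
  ext c
  rw [Subgroup.mem_subgroupOf]
  constructor
  · rintro ⟨r, hr, rfl⟩
    have hrS : ((r : C) : G) ∈ S := Subgroup.mem_subgroupOf.mp r.2
    refine ⟨⟨((r : C) : G), hrS⟩, ?_, rfl⟩
    rw [SetLike.mem_coe, Subgroup.mem_center_iff] at hr ⊢
    intro s'
    have := hr ⟨⟨(s' : G), hSC s'.2⟩, Subgroup.mem_subgroupOf.mpr s'.2⟩
    apply Subtype.ext
    have h2 := congrArg (fun t : (S.subgroupOf C) => ((t : C) : G)) this
    simpa using h2
  · rintro ⟨s, hs, hsc⟩
    have hcR : c ∈ S.subgroupOf C := by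
      rw [Subgroup.mem_subgroupOf, ← hsc]; exact s.2
    refine ⟨⟨c, hcR⟩, ?_, rfl⟩
    rw [SetLike.mem_coe, Subgroup.mem_center_iff] at hs ⊢
    intro r'
    have hr'S : ((r' : C) : G) ∈ S := Subgroup.mem_subgroupOf.mp r'.2
    have := hs ⟨((r' : C) : G), hr'S⟩
    apply Subtype.ext
    apply Subtype.ext
    have h2 := congrArg (fun t : S => (t : G)) this
    simp only [Subgroup.coe_mul] at h2 ⊢
    rw [← hsc]
    exact h2

/-- conjugating a Sylow subgroup so that a conjugate of a central element becomes central -/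
theorem conj_mem_center_smul {p : ℕ} (S : Sylow p G) {ζ : G}
    (hζ : ζ ∈ (Subgroup.center (S : Subgroup G)).map (S : Subgroup G).subtype) (g : G) :
    g * ζ * g⁻¹ ∈ (Subgroup.center ((g • S : Sylow p G) : Subgroup G)).map
      ((g • S : Sylow p G) : Subgroup G).subtype := by
  obtain ⟨c, hc, rfl⟩ := hζ
  have hmem : g * (c : G) * g⁻¹ ∈ ((g • S : Sylow p G) : Subgroup G) := by
    rw [Cfsg.Agent.Lib.Helper13.mem_smul_sylow_iff]
    have : g⁻¹ * (g * (c : G) * g⁻¹) * g = c := by group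
    rw [this]; exact c.2
  refine ⟨⟨_, hmem⟩, ?_, rfl⟩
  rw [SetLike.mem_coe, Subgroup.mem_center_iff] at hc ⊢
  intro s'
  have hs' : g⁻¹ * (s' : G) * g ∈ (S : Subgroup G) :=
    (Cfsg.Agent.Lib.Helper13.mem_smul_sylow_iff S g _).mp s'.2
  have := congrArg Subtype.val (hc ⟨_, hs'⟩)
  simp only [Subgroup.coe_mul] at this
  apply Subtype.ext
  simp only [Subgroup.coe_mul]
  calc (s' : G) * (g * (c : G) * g⁻¹) = g * ((g⁻¹ * (s' : G) * g) * (c : G)) * g⁻¹ := by group
    _ = g * ((c : G) * (g⁻¹ * (s' : G) * g)) * g⁻¹ := by rw [this]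
    _ = g * (c : G) * g⁻¹ * (s' : G) := by group

/-- a Sylow subgroup is isomorphic to its conjugates -/
noncomputable def sylowSmulEquiv {p : ℕ} (S : Sylow p G) (g : G) :
    (S : Subgroup G) ≃* ((g • S : Sylow p G) : Subgroup G) :=
  Subgroup.equivSMul (MulAut.conj g) (S : Subgroup G)

end Cfsg.Agent.Lib.Helper9.CentInv
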