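import Mathlib.GroupTheory.Sylow
import Mathlib.GroupTheory.Subgroup.Centralizer
import Cfsg.Prelude.Def_TwoFusion

set_option autoImplicit false

namespace Cfsg.Agent.Lib.Helper9

variable {G : Type*} [Group G]

theorem inv_eq_self_of_sq {z : G} (hz : z * z = 1) : z⁻¹ = z :=
  inv_eq_of_mul_eq_one_left hz

/-- For involutions `z`, `t`: `z` inverts `z * t`. -/
theorem conj_mul_of_sq {z t : G} (hz : z * z = 1) (ht : t * t = 1) :
    z * (z * t) * z⁻¹ = (z * t)⁻¹ := by
  rw [mul_inv_rev, inv_eq_self_of_sq hz, inv_eq_self_of_sq ht, ← mul_assoc z z t, hz, one_mul]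

theorem conj_zpow_mul_of_sq {z t : G} (hz : z * z = 1) (ht : t * t = 1) (a : ℤ) :
    z * (z * t) ^ a * z⁻¹ = (z * t) ^ (-a) := by
  rw [← conj_zpow, conj_mul_of_sq hz ht, inv_zpow, zpow_neg]

/-- `z * r^a = r^(-a) * z`. -/
theorem mul_zpow_of_sq {z t : G} (hz : z * z = 1) (ht : t * t = 1) (a : ℤ) :
    z * (z * t) ^ a = (z * t) ^ (-a) * z := by
  have h := conj_zpow_mul_of_sq hz ht a
  rw [← h]; group

/-- conjugating `z` by `r^a` gives `r^(2a) z`. -/
theorem zpow_conj_left {z t : G} (hz : z * z = 1) (ht : t * t = 1) (a : ℤ) :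
    (z * t) ^ a * z * ((z * t) ^ a)⁻¹ = (z * t) ^ (2 * a) * z := by
  have h := mul_zpow_of_sq hz ht (-a)
  rw [neg_neg] at h
  rw [← zpow_neg, mul_assoc, h, ← mul_assoc, ← zpow_add]
  congr 2; ring

/-- conjugating `t` by `r^a` gives `r^(2a-1) z`. -/
theorem zpow_conj_right {z t : G} (hz : z * z = 1) (ht : t * t = 1) (a : ℤ) :
    (z * t) ^ a * t * ((z * t) ^ a)⁻¹ = (z * t) ^ (2 * a - 1) * z := by
  have ht' : t = (z * t)⁻¹ * z := by
    rw [mul_inv_rev, inv_eq_self_of_sq hz, inv_eq_self_of_sq ht, mul_assoc, hz, mul_one]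
  have h := zpow_conj_left hz ht a
  calc (z * t) ^ a * t * ((z * t) ^ a)⁻¹
      = (z * t) ^ a * ((z * t)⁻¹ * z) * ((z * t) ^ a)⁻¹ := by rw [← ht']
    _ = (z * t)⁻¹ * ((z * t) ^ a * z * ((z * t) ^ a)⁻¹) := by
        have hc : (z * t) ^ a * (z * t)⁻¹ = (z * t)⁻¹ * (z * t) ^ a := by
          rw [← zpow_neg_one, ← zpow_add, ← zpow_add, add_comm]
        simp only [← mul_assoc]; rw [hc]
    _ = (z * t) ^ (2 * a - 1) * z := by
        rw [h, ← mul_assoc, ← zpow_neg_one, ← zpow_add]; congr 2; ring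


theorem isolated_sq {z : G} (hz : Cfsg.IsIsolatedInvolution z) : z * z = 1 := by
  have := pow_orderOf_eq_one z
  rw [hz.1, pow_two] at this; exact this

theorem isolated_ne_one {z : G} (hz : Cfsg.IsIsolatedInvolution z) : z ≠ 1 := by
  intro h; have := hz.1; rw [h, orderOf_one] at this; omega

theorem conj_sq {z : G} (hz : z * z = 1) (g : G) : (g * z * g⁻¹) * (g * z * g⁻¹) = 1 := by
  have : (g * z * g⁻¹) * (g * z * g⁻¹) = g * (z * z) * g⁻¹ := by group
  rw [this, hz]; group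

/-- Key lemma: the product of an isolated involution with a conjugate has odd order. -/
theorem isolated_odd_orderOf_mul_conj [Finite G] {z : G}
    (hz : Cfsg.IsIsolatedInvolution z) (g : G) : Odd (orderOf (z * (g * z * g⁻¹))) := by
  set t := g * z * g⁻¹ with ht_def
  have hzz := isolated_sq hz
  have htt : t * t = 1 := conj_sq hzz g
  set r := z * t with hr
  by_contra hodd
  rw [Nat.not_odd_iff_even] at hodd
  obtain ⟨m, hm⟩ := hodd
  have hmpos : 0 < m := by
    have := orderOf_pos r; omega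
  -- u = r^m is an involution
  have hu1 : r ^ (m : ℤ) ≠ 1 := by
    intro h
    rw [zpow_natCast] at h
    have := orderOf_dvd_of_pow_eq_one h
    have := Nat.le_of_dvd hmpos this
    omega
  -- the element u * z is a conjugate of z commuting with z
  have hcomm : Commute z (r ^ (m : ℤ) * z) := by
    unfold Commute SemiconjBy
    rw [← mul_assoc, mul_zpow_of_sq hzz htt, mul_assoc, hzz, mul_one, mul_assoc, hzz, mul_one]
    rw [zpow_neg]
    -- r^m⁻¹ = r^m as r^(2m) = 1
    have h2 : r ^ (m : ℤ) * r ^ (m : ℤ) = 1 := by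
      rw [← zpow_add, ← Nat.cast_add, zpow_natCast, ← hm, pow_orderOf_eq_one]
    exact inv_eq_of_mul_eq_one_left h2
  have key : ∃ h : G, h * z * h⁻¹ = r ^ (m : ℤ) * z := by
    rcases Nat.even_or_odd' m with ⟨j, hj | hj⟩
    · refine ⟨r ^ (j : ℤ), ?_⟩
      rw [zpow_conj_left hzz htt, hj]; push_cast; rfl
    · refine ⟨r ^ ((j : ℤ) + 1) * g, ?_⟩
      have : r ^ ((j : ℤ) + 1) * g * z * (r ^ ((j : ℤ) + 1) * g)⁻¹
          = r ^ ((j : ℤ) + 1) * t * (r ^ ((j : ℤ) + 1))⁻¹ := by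
        rw [ht_def]; group
      rw [this, zpow_conj_right hzz htt, hj]
      congr 2; push_cast; ring
  obtain ⟨h, hh⟩ := key
  have := hz.2 h (by rw [hh]; exact hcomm)
  rw [hh] at this
  exact hu1 (mul_right_cancel (this.trans (one_mul z).symm))


/-- An isolated involution is conjugate to each of its conjugates `t` by a power of `z * t`. -/
theorem isolated_conj_pow [Finite G] {z : G} (hz : Cfsg.IsIsolatedInvolution z) (g : G) :
    ∃ k : ℕ, (z * (g * z * g⁻¹)) ^ k * z * ((z * (g * z * g⁻¹)) ^ k)⁻¹ = g * z * g⁻¹ := by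
  obtain ⟨k, hk⟩ := isolated_odd_orderOf_mul_conj hz g
  set t := g * z * g⁻¹ with ht_def
  have hzz := isolated_sq hz
  have htt : t * t = 1 := conj_sq hzz g
  refine ⟨k, ?_⟩
  have h := zpow_conj_left hzz htt (k : ℤ)
  rw [zpow_natCast] at h
  rw [h]
  have h1 : (z * t) ^ (2 * (k : ℤ)) = (z * t)⁻¹ := by
    have : (z * t) ^ (2 * (k : ℤ) + 1) = 1 := by
      have := pow_orderOf_eq_one (z * t)
      rw [hk] at this
      rw [← this, ← zpow_natCast]; congr 1
    rw [zpow_add, zpow_one] at this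
    exact eq_inv_of_mul_eq_one_left this
  rw [h1, mul_inv_rev, inv_eq_self_of_sq hzz, inv_eq_self_of_sq htt, mul_assoc, hzz, mul_one]


/-- Elements of odd order with equal squares are equal. -/
theorem eq_of_sq_eq_of_odd {a b : G} (ha : Odd (orderOf a)) (hb : Odd (orderOf b))
    (h : a ^ 2 = b ^ 2) : a = b := by
  have hN : Odd (orderOf a * orderOf b) := ha.mul hb
  obtain ⟨N, hN'⟩ := hN
  have ha1 : a ^ (orderOf a * orderOf b) = 1 := by
    rw [pow_mul, pow_orderOf_eq_one, one_pow]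
  have hb1 : b ^ (orderOf a * orderOf b) = 1 := by
    rw [mul_comm, pow_mul, pow_orderOf_eq_one, one_pow]
  have ha2 : a = (a ^ 2) ^ (N + 1) := by
    rw [← pow_mul, show 2 * (N + 1) = (2 * N + 1) + 1 by ring, ← hN', pow_succ, ha1, one_mul]
  have hb2 : b = (b ^ 2) ^ (N + 1) := by
    rw [← pow_mul, show 2 * (N + 1) = (2 * N + 1) + 1 by ring, ← hN', pow_succ, hb1, one_mul]
  rw [ha2, hb2, h]

/-- If `z` (an involution) inverts `k` then `k z k⁻¹ = k² z`. -/
theorem conj_of_inverts {z k : G} (h : z * k * z⁻¹ = k⁻¹) :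
    k * z * k⁻¹ = k ^ 2 * z := by
  have : z * k⁻¹ = k * z := by
    have h2 : z * k⁻¹ * z⁻¹ = k := by
      rw [← inv_inj]; simp only [mul_inv_rev, inv_inv]; rw [← mul_assoc]; exact h
    calc z * k⁻¹ = (z * k⁻¹ * z⁻¹) * z := by group
      _ = k * z := by rw [h2]
  rw [pow_two, mul_assoc, this, mul_assoc]

theorem mem_centralizer_singleton_of_conj_eq {z g k : G} (h : k * z * k⁻¹ = g * z * g⁻¹) :
    g⁻¹ * k ∈ Subgroup.centralizer ({z} : Set G) := by
  rw [Subgroup.mem_centralizer_iff]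
  intro y hy
  rw [Set.mem_singleton_iff] at hy
  subst hy
  have : g⁻¹ * (k * y * k⁻¹) * k = g⁻¹ * (g * y * g⁻¹) * k := by rw [h]
  calc y * (g⁻¹ * k) = g⁻¹ * (g * y * g⁻¹) * k := by group
    _ = g⁻¹ * (k * y * k⁻¹) * k := this.symm
    _ = g⁻¹ * k * y := by group

theorem conj_eq_of_mem_centralizer_singleton {z g k : G}
    (h : g⁻¹ * k ∈ Subgroup.centralizer ({z} : Set G)) : k * z * k⁻¹ = g * z * g⁻¹ := by
  rw [Subgroup.mem_centralizer_iff] at h
  have := h z rfl
  calc k * z * k⁻¹ = g * (g⁻¹ * k * z) * k⁻¹ := by group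
    _ = g * (z * (g⁻¹ * k)) * k⁻¹ := by rw [this]
    _ = g * z * g⁻¹ := by group

/-- For every `g` there is a unique element `k` of odd order inverted by `z` in the coset `g C(z)`. -/
theorem isolated_existsUnique_inverted [Finite G] {z : G} (hz : Cfsg.IsIsolatedInvolution z) (g : G) :
    ∃! k : G, (Odd (orderOf k) ∧ z * k * z⁻¹ = k⁻¹) ∧
      g⁻¹ * k ∈ Subgroup.centralizer ({z} : Set G) := by
  obtain ⟨m, hm⟩ := isolated_conj_pow hz g
  have hodd := isolated_odd_orderOf_mul_conj hz g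
  set t := g * z * g⁻¹ with ht_def
  have hzz := isolated_sq hz
  have htt : t * t = 1 := conj_sq hzz g
  refine ⟨(z * t) ^ m, ⟨⟨?_, ?_⟩, ?_⟩, ?_⟩
  · exact Odd.of_dvd_nat hodd (orderOf_pow_dvd m)
  · have := conj_zpow_mul_of_sq hzz htt (m : ℤ)
    rw [zpow_natCast, zpow_neg, zpow_natCast] at this
    exact this
  · exact mem_centralizer_singleton_of_conj_eq hm
  · rintro k ⟨⟨hk1, hk2⟩, hk3⟩
    have h1 := conj_eq_of_mem_centralizer_singleton hk3
    have h2 : (z * t) ^ m * z * ((z * t) ^ m)⁻¹ = k * z * k⁻¹ := by rw [hm, h1]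
    have hinv : z * (z * t) ^ m * z⁻¹ = ((z * t) ^ m)⁻¹ := by
      have := conj_zpow_mul_of_sq hzz htt (m : ℤ)
      rw [zpow_natCast, zpow_neg, zpow_natCast] at this
      exact this
    rw [conj_of_inverts hk2, conj_of_inverts hinv] at h2
    have h3 := mul_right_cancel h2
    exact (eq_of_sq_eq_of_odd (Odd.of_dvd_nat hodd (orderOf_pow_dvd m)) hk1 h3).symm


theorem orderOf_conj_eq (g z : G) : orderOf (g * z * g⁻¹) = orderOf z := by
  have := orderOf_injective (MulAut.conj g).toMonoidHom (MulAut.conj g).injective z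
  simpa [MulAut.conj_apply] using this

/-- A conjugate of an isolated involution is an isolated involution. -/
theorem isolated_conj {z : G} (hz : Cfsg.IsIsolatedInvolution z) (g : G) :
    Cfsg.IsIsolatedInvolution (g * z * g⁻¹) := by
  refine ⟨?_, ?_⟩
  · rw [orderOf_conj_eq, hz.1]
  · intro a ha
    have h1 := hz.2 (g⁻¹ * a * g) ?_
    · have : a * (g * z * g⁻¹) * a⁻¹ = g * (g⁻¹ * a * g * z * (g⁻¹ * a * g)⁻¹) * g⁻¹ := by group
      rw [this, h1]
    · have e : g⁻¹ * a * g * z * (g⁻¹ * a * g)⁻¹ = g⁻¹ * (a * (g * z * g⁻¹) * a⁻¹) * g := by group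
      have e0 : z = g⁻¹ * (g * z * g⁻¹) * g := by group
      rw [e]
      unfold Commute SemiconjBy
      calc z * (g⁻¹ * (a * (g * z * g⁻¹) * a⁻¹) * g)
            = g⁻¹ * ((g * z * g⁻¹) * (a * (g * z * g⁻¹) * a⁻¹)) * g := by group
        _ = g⁻¹ * ((a * (g * z * g⁻¹) * a⁻¹) * (g * z * g⁻¹)) * g := by rw [ha.eq]
        _ = g⁻¹ * (a * (g * z * g⁻¹) * a⁻¹) * g * z := by group

/-- The product of two conjugates of an isolated involution has odd order. -/
theorem isolated_odd_orderOf_conj_mul_conj [Finite G] {z : G}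
    (hz : Cfsg.IsIsolatedInvolution z) (g h : G) :
    Odd (orderOf ((g * z * g⁻¹) * (h * z * h⁻¹))) := by
  have := isolated_odd_orderOf_mul_conj (isolated_conj hz g) (h * g⁻¹)
  have e : h * g⁻¹ * (g * z * g⁻¹) * (h * g⁻¹)⁻¹ = h * z * h⁻¹ := by group
  rw [e] at this; exact this

end Cfsg.Agent.Lib.Helper9
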