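import Mathlib
import Cfsg.Prelude.Def_CaseTheorems
import Cfsg.Agent.Lib.Helper9.Conj
import Cfsg.Agent.Lib.Helper18.Basic

set_option autoImplicit false

namespace Cfsg.Agent.Lib.Helper9

open Cfsg

section Rank

variable {G : Type*} [Group G] {p : ℕ}

/-- `p`-rank bounds pull back along injective homomorphisms. -/
theorem pRankLE_of_injective {K L : Type*} [Group K] [Group L] (f : K →* L)
    (hf : Function.Injective f) {j : ℕ} (h : PRankLE p j L) : PRankLE p j K := by
  intro A hAc hAp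
  have hc : IsMulCommutative ↥(A.map f) := by
    have := hAc
    exact Subgroup.map_isMulCommutative A f
  have hp' : ∀ a ∈ A.map f, a ^ p = 1 := by
    rintro _ ⟨a, ha, rfl⟩
    rw [← map_pow, hAp a ha, map_one]
  have := h (A.map f) hc hp'
  rwa [Nat.card_congr (A.equivMapOfInjective f hf).toEquiv.symm] at this

theorem pRankLE_of_le {X Y : Subgroup G} (hXY : X ≤ Y) {j : ℕ} (h : PRankLE p j ↥Y) :
    PRankLE p j ↥X :=
  pRankLE_of_injective (Subgroup.inclusion hXY) (Subgroup.inclusion_injective hXY) h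

theorem pRankLE_conjMap_iff {X : Subgroup G} (g : G) {j : ℕ} :
    PRankLE p j ↥(X.map (MulAut.conj g).toMonoidHom) ↔ PRankLE p j ↥X := by
  let e : X ≃* ↥(X.map (MulAut.conj g).toMonoidHom) :=
    X.equivMapOfInjective _ (MulAut.conj g).injective
  exact ⟨pRankLE_of_injective e.toMonoidHom e.injective,
    pRankLE_of_injective e.symm.toMonoidHom e.symm.injective⟩

/-- An elementary abelian subgroup of order `> p ^ j` witnesses rank `> j`. -/
theorem not_pRankLE_of_elemAb {E : Subgroup G} {j : ℕ} (hc : IsMulCommutative ↥E)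
    (hp : ∀ a ∈ E, a ^ p = 1) (hcard : p ^ j < Nat.card E) : ¬ PRankLE p j ↥E := by
  intro h
  have h1 := h ⊤ (by
      refine ⟨⟨fun a b => ?_⟩⟩
      apply Subtype.ext
      have := hc.is_comm.comm a.1 b.1
      simpa using congrArg (fun x => x) this) (by
      intro a _
      apply Subtype.ext
      have := hp a.1 a.2
      simpa using this)
  rw [Subgroup.card_top] at h1
  omega

/-- If the rank of `D` exceeds `j`, then `D` contains an elementary abelian `p`-subgroup `E`
(as a subgroup of the ambient group) of rank exceeding `j`. -/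
theorem exists_elemAb_of_not_pRankLE {D : Subgroup G} {j : ℕ} (h : ¬ PRankLE p j ↥D) :
    ∃ E : Subgroup G, E ≤ D ∧ IsMulCommutative ↥E ∧ (∀ a ∈ E, a ^ p = 1) ∧ ¬ PRankLE p j ↥E := by
  unfold PRankLE at h
  push Not at h
  obtain ⟨A, hAc, hAp, hcard⟩ := h
  have hc : IsMulCommutative ↥(A.map D.subtype) := by
    have := hAc
    exact Subgroup.map_isMulCommutative A D.subtype
  have hp' : ∀ a ∈ A.map D.subtype, a ^ p = 1 := by
    rintro _ ⟨a, ha, rfl⟩
    rw [← map_pow, hAp a ha, map_one]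
  refine ⟨A.map D.subtype, Subgroup.map_subtype_le _, hc, hp', ?_⟩
  apply not_pRankLE_of_elemAb hc hp'
  rwa [Nat.card_congr (A.equivMapOfInjective D.subtype D.subtype_injective).toEquiv.symm]

theorem isPGroup_of_forall_pow_eq_one [hp : Fact p.Prime] {E : Subgroup G}
    (h : ∀ a ∈ E, a ^ p = 1) : IsPGroup p E := by
  intro a
  refine ⟨1, ?_⟩
  apply Subtype.ext
  simpa using h a.1 a.2

end Rank

section MaxP

variable {G : Type*} [Group G] {p : ℕ}

/-- A `p`-subgroup `E ≤ D` lies in a maximal `p`-subgroup of `D`. -/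
theorem exists_maximal_pSubgroup_le [Finite G] [Fact p.Prime] (D : Subgroup G) {E : Subgroup G}
    (hE : IsPGroup p E) (hED : E ≤ D) :
    ∃ Q : Subgroup G, IsPGroup p Q ∧ E ≤ Q ∧ Q ≤ D ∧
      ∀ R : Subgroup G, IsPGroup p R → Q ≤ R → R ≤ D → R = Q := by
  have hE' : IsPGroup p (E.subgroupOf D) := hE.comap_subtype
  obtain ⟨Q, hQ⟩ := hE'.exists_le_sylow
  refine ⟨(Q : Subgroup D).map D.subtype, Q.2.map _, ?_, Subgroup.map_subtype_le _, ?_⟩
  · intro x hx
    exact ⟨⟨x, hED hx⟩, hQ (by simpa [Subgroup.mem_subgroupOf] using hx), rfl⟩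
  · intro R hR hQR hRD
    have hR' : IsPGroup p (R.subgroupOf D) := hR.comap_subtype
    have hle : (Q : Subgroup D) ≤ R.subgroupOf D := by
      intro x hx
      rw [Subgroup.mem_subgroupOf]
      exact hQR (Subgroup.mem_map_of_mem D.subtype hx)
    have := Q.is_maximal' hR' hle
    rw [← this, Subgroup.map_subgroupOf_eq_of_le hRD]

/-- Sylow's theorem inside `H`: a `p`-subgroup of `H` is `H`-conjugate into a given Sylow
`p`-subgroup of `H`. -/
theorem exists_conj_le_map_sylow [Finite G] [Fact p.Prime] (H : Subgroup G) (P : Sylow p ↥H)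
    {Q : Subgroup G} (hQ : IsPGroup p Q) (hQH : Q ≤ H) :
    ∃ h ∈ H, Q.map (MulAut.conj h).toMonoidHom ≤ (P : Subgroup ↥H).map H.subtype := by
  have hQ' : IsPGroup p (Q.subgroupOf H) := hQ.comap_subtype
  obtain ⟨P₂, hP₂⟩ := hQ'.exists_le_sylow
  obtain ⟨h, hh⟩ := MulAction.exists_smul_eq H P₂ P
  refine ⟨h, h.2, ?_⟩
  rintro _ ⟨y, hy, rfl⟩
  refine ⟨h * ⟨y, hQH hy⟩ * h⁻¹, ?_, ?_⟩
  · have hy2 : (⟨y, hQH hy⟩ : H) ∈ (P₂ : Subgroup H) :=
      hP₂ (by simpa [Subgroup.mem_subgroupOf] using hy)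
    have : h * ⟨y, hQH hy⟩ * h⁻¹ ∈ ((h • P₂ : Sylow p H) : Subgroup H) := by
      rw [Sylow.coe_subgroup_smul, ← conjMap_eq_smul]
      exact conj_mem_conjMap hy2
    rw [hh] at this
    exact this
  · simp [MulAut.conj_apply]

end MaxP

end Cfsg.Agent.Lib.Helper9

namespace Cfsg.Agent.Lib.Helper9

open Cfsg

section Gamma

variable {G : Type*} [Group G] {p : ℕ}

/-- If `H` contains the normalizers of all its `p`-subgroups of rank exceeding `j`, then
`H ∩ gHg⁻¹` has rank at most `j` for `g ∉ H`. -/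
theorem pRankLE_inf_conj_of_normalizer_le [Finite G] [Fact p.Prime] {H : Subgroup G} {j : ℕ}
    (hA : ∀ Q : Subgroup G, IsPGroup p Q → Q ≤ H → ¬ PRankLE p j ↥Q →
      Subgroup.normalizer (Q : Set G) ≤ H)
    {g : G} (hg : g ∉ H) : PRankLE p j ↥(H ⊓ H.map (MulAut.conj g).toMonoidHom) := by
  by_contra hrank
  set D := H ⊓ H.map (MulAut.conj g).toMonoidHom with hD
  obtain ⟨E, hED, -, hEp, hEr⟩ := exists_elemAb_of_not_pRankLE hrank
  obtain ⟨Q, hQp, hEQ, hQD, hQmax⟩ :=
    exists_maximal_pSubgroup_le D (isPGroup_of_forall_pow_eq_one hEp) hED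
  have hQr : ¬ PRankLE p j ↥Q := fun h => hEr (pRankLE_of_le hEQ h)
  have hQH : Q ≤ H := hQD.trans inf_le_left
  have hQH2 : Q ≤ H.map (MulAut.conj g).toMonoidHom := hQD.trans inf_le_right
  have hN1 : Subgroup.normalizer (Q : Set G) ≤ H := hA Q hQp hQH hQr
  -- the conjugate g⁻¹ Q g lies in H
  have hQ'H : Q.map (MulAut.conj g⁻¹).toMonoidHom ≤ H := by
    rw [conjMap_le_iff, inv_inv]; exact hQH2
  have hN2' : Subgroup.normalizer ((Q.map (MulAut.conj g⁻¹).toMonoidHom : Subgroup G) : Set G) ≤ H :=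
    hA _ (isPGroup_conjMap hQp g⁻¹) hQ'H (fun h => hQr ((pRankLE_conjMap_iff g⁻¹).mp h))
  have hN2 : Subgroup.normalizer (Q : Set G) ≤ H.map (MulAut.conj g).toMonoidHom := by
    intro n hn
    rw [mem_conjMap]
    apply hN2'
    apply mem_normalizer_of_conjMap_eq_self
    have h1 := conjMap_eq_self_of_mem_normalizer hn
    rw [← conjMap_mul]
    have : g⁻¹ * n * g * g⁻¹ = g⁻¹ * n := by group
    rw [this, conjMap_mul, h1]
  -- Q is a maximal p-subgroup of G
  have hQsyl : ∀ T : Subgroup G, IsPGroup p T → Q ≤ T → T = Q := by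
    intro T hT hQT
    by_contra hne
    have hlt : Q < T := lt_of_le_of_ne hQT (Ne.symm hne)
    obtain ⟨t, htT, htQ, htN⟩ :=
      Cfsg.Agent.Lib.Helper18.exists_mem_normalizer_not_mem_of_lt Q T hT hlt
    have hR : Q ⊔ Subgroup.zpowers t ≤ T := sup_le hQT (by rw [Subgroup.zpowers_le]; exact htT)
    have hRD : Q ⊔ Subgroup.zpowers t ≤ D :=
      sup_le hQD (by rw [Subgroup.zpowers_le]; exact ⟨hN1 htN, hN2 htN⟩)
    have := hQmax _ (hT.to_le hR) le_sup_left hRD
    apply htQ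
    rw [← this]
    exact (le_sup_right : Subgroup.zpowers t ≤ _) (Subgroup.mem_zpowers t)
  let S : Sylow p G := ⟨Q, hQp, fun {T} hT hQT => hQsyl T hT hQT⟩
  obtain ⟨h, hhH, hh⟩ := Cfsg.Agent.Lib.Helper18.exists_conj_le_sylow_of_le S H hQH
    (Q.map (MulAut.conj g⁻¹).toMonoidHom) (isPGroup_conjMap hQp g⁻¹) hQ'H
  have h2 : Q.map (MulAut.conj (h * g⁻¹)).toMonoidHom ≤ Q := by
    rw [conjMap_mul]; exact hh
  have h3 : h * g⁻¹ ∈ H := hN1 (mem_normalizer_of_conjMap_eq_self (conjMap_eq_of_le h2))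
  apply hg
  have : g = (h⁻¹ * (h * g⁻¹))⁻¹ := by group
  rw [this]
  exact H.inv_mem (H.mul_mem (H.inv_mem hhH) h3)

/-- **S1231**. -/
theorem normalizer_le_iff_pRankLE_inf_conj [Finite G] [Fact p.Prime] (j : ℕ) (H : Subgroup G)
    (P : Sylow p ↥H) :
    (∀ X : Subgroup G, X ≤ (P : Subgroup ↥H).map H.subtype → ¬ PRankLE p j ↥X →
      Subgroup.normalizer (X : Set G) ≤ H) ↔
    (∀ g : G, g ∉ H → PRankLE p j ↥(H ⊓ H.map (MulAut.conj g).toMonoidHom)) := by
  constructor
  · intro hΓ g hg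
    apply pRankLE_inf_conj_of_normalizer_le _ hg
    intro Q hQp hQH hQr
    obtain ⟨h, hhH, hh⟩ := exists_conj_le_map_sylow H P hQp hQH
    have h1 := hΓ _ hh (fun hr => hQr ((pRankLE_conjMap_iff h).mp hr))
    intro n hn
    have h2 : h * n * h⁻¹ ∈
        Subgroup.normalizer ((Q.map (MulAut.conj h).toMonoidHom : Subgroup G) : Set G) := by
      apply mem_normalizer_of_conjMap_eq_self
      have h3 := conjMap_eq_self_of_mem_normalizer hn
      rw [← conjMap_mul]
      have : h * n * h⁻¹ * h = h * n := by group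
      rw [this, conjMap_mul, h3]
    have h4 := h1 h2
    have : n = h⁻¹ * (h * n * h⁻¹) * h := by group
    rw [this]
    exact H.mul_mem (H.mul_mem (H.inv_mem hhH) h4) hhH
  · intro hB X hXP hXr n hn
    by_contra hnH
    apply hXr
    have hXH : X ≤ H := hXP.trans (Subgroup.map_subtype_le _)
    refine pRankLE_of_le ?_ (hB n hnH)
    refine le_inf hXH ?_
    have := conjMap_eq_self_of_mem_normalizer hn
    rw [← this]
    exact conjMap_mono hXH n

end Gamma

end Cfsg.Agent.Lib.Helper9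

namespace Cfsg.Agent.Lib.Helper9

open Cfsg

section RankCard

variable {G : Type*} [Group G] {p : ℕ}

/-- An elementary abelian subgroup `E ≤ D` has order at most `p ^ j` when `D` has rank `≤ j`. -/
theorem card_le_of_pRankLE {D E : Subgroup G} {j : ℕ} (hED : E ≤ D) (hc : IsMulCommutative ↥E)
    (hp : ∀ a ∈ E, a ^ p = 1) (h : PRankLE p j ↥D) : Nat.card E ≤ p ^ j := by
  by_contra hlt
  push Not at hlt
  exact not_pRankLE_of_elemAb hc hp hlt (pRankLE_of_le hED h)

/-- If the rank of `D` exceeds `j`, then `D` contains an elementary abelian `p`-subgroup `E`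
of order exceeding `p ^ j`. -/
theorem exists_elemAb_card_of_not_pRankLE {D : Subgroup G} {j : ℕ} (h : ¬ PRankLE p j ↥D) :
    ∃ E : Subgroup G, E ≤ D ∧ IsMulCommutative ↥E ∧ (∀ a ∈ E, a ^ p = 1) ∧ p ^ j < Nat.card E := by
  unfold PRankLE at h
  push Not at h
  obtain ⟨A, hAc, hAp, hcard⟩ := h
  have hc : IsMulCommutative ↥(A.map D.subtype) := by
    have := hAc
    exact Subgroup.map_isMulCommutative A D.subtype
  have hp' : ∀ a ∈ A.map D.subtype, a ^ p = 1 := by
    rintro _ ⟨a, ha, rfl⟩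
    rw [← map_pow, hAp a ha, map_one]
  refine ⟨A.map D.subtype, Subgroup.map_subtype_le _, hc, hp', ?_⟩
  rwa [Nat.card_congr (A.equivMapOfInjective D.subtype D.subtype_injective).toEquiv.symm]

end RankCard

end Cfsg.Agent.Lib.Helper9
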