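import Mathlib
import Cfsg.Prelude.Def_GeometricClasses

set_option autoImplicit false

namespace Cfsg.Agent.Lib.Helper9.HubCor

open Cfsg Cfsg.Geo
open scoped MatrixGroups Matrix Kronecker

variable {F : Type*} [Field F]

/-- The direct-sum decomposition attached to an `IsMDecomposition`. -/
theorem isInternal_of_isMDecomposition {ι : Type} [Fintype ι] [DecidableEq ι] {t m : ℕ}
    (D : Fin t → Submodule F (ι → F)) (hD : IsMDecomposition m D) : DirectSum.IsInternal D :=
  DirectSum.isInternal_submodule_of_iSupIndep_of_iSup_eq_top hD.indep hD.iSup_eq_top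

/-- (A1) C2 arithmetic, general index type. -/
theorem mul_eq_card_of_isMDecomposition {ι : Type} [Fintype ι] [DecidableEq ι] {t m : ℕ}
    (D : Fin t → Submodule F (ι → F)) (hD : IsMDecomposition m D) : t * m = Fintype.card ι := by
  classical
  have hint := isInternal_of_isMDecomposition D hD
  have h1 : Module.finrank F (ι → F) = ∑ i, Module.finrank F (D i) := by
    have e := LinearEquiv.ofBijective (DirectSum.coeLinearMap D) hint
    rw [← e.finrank_eq, Module.finrank_directSum]
  rw [Module.finrank_pi] at h1
  rw [h1]
  simp [hD.finrank_eq]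

/-- (A1) C2 arithmetic. -/
theorem mul_eq_of_isMDecomposition {n t m : ℕ} (D : Fin t → Submodule F (Fin n → F))
    (hD : IsMDecomposition m D) : t * m = n := by
  simpa using mul_eq_card_of_isMDecomposition D hD

end Cfsg.Agent.Lib.Helper9.HubCor
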