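import Mathlib
import Cfsg.Prelude.Def_GeometricClasses
import Cfsg.Agent.Lib.Helper9.HubCorA1

set_option autoImplicit false

namespace Cfsg.Agent.Lib.Helper9.HubCor

open Cfsg Cfsg.Geo
open scoped MatrixGroups Matrix Kronecker

variable {F : Type*} [Field F] {ι : Type} [Fintype ι] [DecidableEq ι]

/-- The block form attached to a basis indexed by `Σ i : Fin t, Fin 2`. -/
noncomputable def blockForm {t : ℕ} (B : Module.Basis (Σ _ : Fin t, Fin 2) F (ι → F))
    (u v : ι → F) : F :=
  ∑ i : Fin t, (B.repr u ⟨i, 0⟩ * B.repr v ⟨i, 1⟩ - B.repr u ⟨i, 1⟩ * B.repr v ⟨i, 0⟩)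

theorem blockForm_skew {t : ℕ} (B : Module.Basis (Σ _ : Fin t, Fin 2) F (ι → F))
    (u v : ι → F) : blockForm B u v = - blockForm B v u := by
  unfold blockForm
  rw [← Finset.sum_neg_distrib]
  refine Finset.sum_congr rfl fun i _ => ?_
  ring

theorem blockForm_self {t : ℕ} (B : Module.Basis (Σ _ : Fin t, Fin 2) F (ι → F))
    (v : ι → F) : blockForm B v v = 0 := by
  unfold blockForm
  refine Finset.sum_eq_zero fun i _ => ?_
  ring

theorem blockForm_bilinear {t : ℕ} (B : Module.Basis (Σ _ : Fin t, Fin 2) F (ι → F)) :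
    IsBilinearForm (blockForm B) where
  add_left x y v := by
    unfold blockForm
    rw [← Finset.sum_add_distrib]
    refine Finset.sum_congr rfl fun i _ => ?_
    simp only [map_add, Finsupp.add_apply]
    ring
  smul_left c x v := by
    unfold blockForm
    rw [Finset.mul_sum]
    refine Finset.sum_congr rfl fun i _ => ?_
    simp only [map_smul, Finsupp.smul_apply, smul_eq_mul]
    ring
  add_right v x y := by
    unfold blockForm
    rw [← Finset.sum_add_distrib]
    refine Finset.sum_congr rfl fun i _ => ?_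
    simp only [map_add, Finsupp.add_apply]
    ring
  smul_right c v x := by
    unfold blockForm
    rw [Finset.mul_sum]
    refine Finset.sum_congr rfl fun i _ => ?_
    simp only [map_smul, Finsupp.smul_apply, smul_eq_mul]
    ring

theorem blockForm_basis_zero {t : ℕ} (B : Module.Basis (Σ _ : Fin t, Fin 2) F (ι → F))
    (i : Fin t) (v : ι → F) : blockForm B (B ⟨i, 0⟩) v = B.repr v ⟨i, 1⟩ := by
  unfold blockForm
  rw [Finset.sum_eq_single i]
  · simp [Finsupp.single_apply]
  · intro j _ hji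
    have h1 : (⟨i, 0⟩ : Σ _ : Fin t, Fin 2) ≠ ⟨j, 0⟩ := by
      intro h; exact hji (congrArg Sigma.fst h).symm
    have h2 : (⟨i, 0⟩ : Σ _ : Fin t, Fin 2) ≠ ⟨j, 1⟩ := by
      intro h; exact hji (congrArg Sigma.fst h).symm
    simp [Finsupp.single_apply, h1, h2]
  · intro h; exact absurd (Finset.mem_univ i) h

theorem blockForm_basis_one {t : ℕ} (B : Module.Basis (Σ _ : Fin t, Fin 2) F (ι → F))
    (i : Fin t) (v : ι → F) : blockForm B (B ⟨i, 1⟩) v = - B.repr v ⟨i, 0⟩ := by
  unfold blockForm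
  rw [Finset.sum_eq_single i]
  · simp [Finsupp.single_apply]
  · intro j _ hji
    have h1 : (⟨i, 1⟩ : Σ _ : Fin t, Fin 2) ≠ ⟨j, 0⟩ := by
      intro h; exact hji (congrArg Sigma.fst h).symm
    have h2 : (⟨i, 1⟩ : Σ _ : Fin t, Fin 2) ≠ ⟨j, 1⟩ := by
      intro h; exact hji (congrArg Sigma.fst h).symm
    simp [Finsupp.single_apply, h1, h2]
  · intro h; exact absurd (Finset.mem_univ i) h

theorem blockForm_symplectic {t : ℕ} (B : Module.Basis (Σ _ : Fin t, Fin 2) F (ι → F)) :
    IsSymplecticForm (blockForm B) where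
  bilinear := blockForm_bilinear B
  skew := blockForm_skew B
  alternating := blockForm_self B
  nondegenerate := by
    intro v hv
    have hex : ∃ a, B.repr v a ≠ 0 := by
      by_contra hcon
      push_neg at hcon
      apply hv
      have : B.repr v = 0 := Finsupp.ext hcon
      simpa using this
    have key : ∃ x, blockForm B x v ≠ 0 := by
      obtain ⟨⟨i, k⟩, ha⟩ := hex
      fin_cases k
      · exact ⟨B ⟨i, 1⟩, by rw [blockForm_basis_one]; simpa using ha⟩
      · exact ⟨B ⟨i, 0⟩, by rw [blockForm_basis_zero]; simpa using ha⟩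
    refine ⟨key, ?_⟩
    obtain ⟨x, hx⟩ := key
    exact ⟨x, by rw [blockForm_skew]; simpa using hx⟩

theorem eq_one_of_ne_zero_of_card_two [Fintype F] (hq : Fintype.card F = 2) (c : F) (hc : c ≠ 0) :
    c = 1 := by
  classical
  by_contra h1
  have h3 : ({0, 1, c} : Finset F).card ≤ Fintype.card F := Finset.card_le_univ _
  rw [hq, Finset.card_insert_of_notMem, Finset.card_insert_of_notMem, Finset.card_singleton] at h3
  · omega
  · simpa using Ne.symm h1
  · simp only [Finset.mem_insert, Finset.mem_singleton, not_or]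
    exact ⟨zero_ne_one, Ne.symm hc⟩

theorem mulVec_eq_zero_of_GL (g : GL ι F) (w : ι → F) (h : (g : Matrix ι ι F) *ᵥ w = 0) : w = 0 := by
  have h2 : ((g⁻¹ : GL ι F) : Matrix ι ι F) *ᵥ ((g : Matrix ι ι F) *ᵥ w) = w := by
    rw [Matrix.mulVec_mulVec, ← Units.val_mul, inv_mul_cancel, Units.val_one, Matrix.one_mulVec]
  rw [← h2, h, Matrix.mulVec_zero]

section
variable {t : ℕ} (D : Fin t → Submodule F (ι → F)) (hint : DirectSum.IsInternal D)
  (b : ∀ i, Module.Basis (Fin 2) F (D i))

theorem blockForm_of_mem_ne {p q : Fin t} (hpq : p ≠ q) {x y : ι → F} (hx : x ∈ D p) (hy : y ∈ D q) :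
    blockForm (hint.collectedBasis b) x y = 0 := by
  unfold blockForm
  refine Finset.sum_eq_zero fun i _ => ?_
  by_cases hip : p = i
  · have hqi : q ≠ i := fun h => hpq (hip.trans h.symm)
    rw [hint.collectedBasis_repr_of_mem_ne b hqi hy, hint.collectedBasis_repr_of_mem_ne b hqi hy]
    ring
  · rw [hint.collectedBasis_repr_of_mem_ne b hip hx, hint.collectedBasis_repr_of_mem_ne b hip hx]
    ring

theorem blockForm_of_mem {p : Fin t} {x y : ι → F} (hx : x ∈ D p) (hy : y ∈ D p) :
    blockForm (hint.collectedBasis b) x y =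
      (hint.collectedBasis b).repr x ⟨p, 0⟩ * (hint.collectedBasis b).repr y ⟨p, 1⟩ -
      (hint.collectedBasis b).repr x ⟨p, 1⟩ * (hint.collectedBasis b).repr y ⟨p, 0⟩ := by
  unfold blockForm
  rw [Finset.sum_eq_single p]
  · intro i _ hip
    rw [hint.collectedBasis_repr_of_mem_ne b hip.symm hx,
      hint.collectedBasis_repr_of_mem_ne b hip.symm hx]
    ring
  · intro h; exact absurd (Finset.mem_univ p) h

theorem eq_zero_of_repr_zero {p : Fin t} {z : ι → F} (hz : z ∈ D p)
    (h0 : (hint.collectedBasis b).repr z ⟨p, 0⟩ = 0)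
    (h1 : (hint.collectedBasis b).repr z ⟨p, 1⟩ = 0) : z = 0 := by
  have : (hint.collectedBasis b).repr z = 0 := by
    ext ⟨j, k⟩
    by_cases hjp : p = j
    · subst hjp
      fin_cases k
      · simpa using h0
      · simpa using h1
    · rw [hint.collectedBasis_repr_of_mem_ne b hjp hz]; rfl
  simpa using this


include hint in
theorem blockForm_ne_zero [Fintype F] (g : GL ι F) {i p : Fin t}
    (hx : (g : Matrix ι ι F) *ᵥ (hint.collectedBasis b ⟨i, 0⟩) ∈ D p)
    (hy : (g : Matrix ι ι F) *ᵥ (hint.collectedBasis b ⟨i, 1⟩) ∈ D p) :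
    blockForm (hint.collectedBasis b) ((g : Matrix ι ι F) *ᵥ (hint.collectedBasis b ⟨i, 0⟩))
      ((g : Matrix ι ι F) *ᵥ (hint.collectedBasis b ⟨i, 1⟩)) ≠ 0 := by
  set B := hint.collectedBasis b with hB
  set x := (g : Matrix ι ι F) *ᵥ (B ⟨i, 0⟩) with hxdef
  set y := (g : Matrix ι ι F) *ᵥ (B ⟨i, 1⟩) with hydef
  intro h0
  rw [blockForm_of_mem D hint b hx hy] at h0
  set α := B.repr x ⟨p, 0⟩ with hα
  set β := B.repr x ⟨p, 1⟩ with hβ
  set γ := B.repr y ⟨p, 0⟩ with hγ
  set δ := B.repr y ⟨p, 1⟩ with hδ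
  -- first combination
  have hz1 : δ • x - β • y = 0 := by
    apply eq_zero_of_repr_zero D hint b (p := p)
    · exact (D p).sub_mem ((D p).smul_mem _ hx) ((D p).smul_mem _ hy)
    · simp only [map_sub, map_smul, Finsupp.sub_apply, Finsupp.smul_apply, smul_eq_mul]
      linear_combination h0
    · simp only [map_sub, map_smul, Finsupp.sub_apply, Finsupp.smul_apply, smul_eq_mul]
      ring
  have hz2 : α • y - γ • x = 0 := by
    apply eq_zero_of_repr_zero D hint b (p := p)
    · exact (D p).sub_mem ((D p).smul_mem _ hy) ((D p).smul_mem _ hx)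
    · simp only [map_sub, map_smul, Finsupp.sub_apply, Finsupp.smul_apply, smul_eq_mul]
      ring
    · simp only [map_sub, map_smul, Finsupp.sub_apply, Finsupp.smul_apply, smul_eq_mul]
      linear_combination h0
  have hw1 : δ • B ⟨i, 0⟩ - β • B ⟨i, 1⟩ = 0 := by
    apply mulVec_eq_zero_of_GL g
    rw [Matrix.mulVec_sub, Matrix.mulVec_smul, Matrix.mulVec_smul]
    exact hz1
  have hw2 : α • B ⟨i, 1⟩ - γ • B ⟨i, 0⟩ = 0 := by
    apply mulVec_eq_zero_of_GL g
    rw [Matrix.mulVec_sub, Matrix.mulVec_smul, Matrix.mulVec_smul]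
    exact hz2
  have hne : (⟨i, 0⟩ : Σ _ : Fin t, Fin 2) ≠ ⟨i, 1⟩ := by
    intro h
    have := eq_of_heq (Sigma.mk.inj h).2
    exact absurd this (by decide)
  have hβ0 : β = 0 := by
    have := congrArg (fun w => B.repr w ⟨i, 1⟩) hw1
    simpa [Finsupp.single_apply, hne] using this
  have hα0 : α = 0 := by
    have := congrArg (fun w => B.repr w ⟨i, 1⟩) hw2
    simpa [Finsupp.single_apply, hne] using this
  have hx0 : x = 0 := eq_zero_of_repr_zero D hint b hx hα0 hβ0
  have hb0 : B ⟨i, 0⟩ = 0 := mulVec_eq_zero_of_GL g _ hx0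
  exact B.ne_zero _ hb0


include hint in
theorem blockForm_invariant [Fintype F] (hq : Fintype.card F = 2) (g : GL ι F)
    (hg : g ∈ decompositionStabilizer D) (u v : ι → F) :
    blockForm (hint.collectedBasis b) ((g : Matrix ι ι F) *ᵥ u) ((g : Matrix ι ι F) *ᵥ v) =
      blockForm (hint.collectedBasis b) u v := by
  set B := hint.collectedBasis b with hB
  obtain ⟨σ, hσ⟩ := hg
  have hbil := blockForm_bilinear B
  let L₂ : (ι → F) →ₗ[F] (ι → F) →ₗ[F] F :=
    LinearMap.mk₂ F (blockForm B) hbil.add_left (fun c x v => by simpa using hbil.smul_left c x v)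
      hbil.add_right (fun c v x => by simpa using hbil.smul_right c v x)
  let G : (ι → F) →ₗ[F] (ι → F) := Matrix.toLin' (g : Matrix ι ι F)
  have hGapp : ∀ w, G w = (g : Matrix ι ι F) *ᵥ w := fun w => Matrix.toLin'_apply _ _
  have hmem : ∀ (i : Fin t) (w : ι → F), w ∈ D i → (g : Matrix ι ι F) *ᵥ w ∈ D (σ i) := by
    intro i w hw
    rw [← hσ i, ← hGapp]
    exact Submodule.mem_map_of_mem hw
  have hBmem : ∀ (i : Fin t) (k : Fin 2), B ⟨i, k⟩ ∈ D i := fun i k =>
    hint.collectedBasis_mem b ⟨i, k⟩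
  have key : L₂.compl₁₂ G G = L₂ := by
    refine LinearMap.ext_basis B B ?_
    rintro ⟨i, k⟩ ⟨j, l⟩
    simp only [LinearMap.compl₁₂_apply, L₂, LinearMap.mk₂_apply, hGapp]
    by_cases hij : i = j
    · subst hij
      have h01 : blockForm B ((g : Matrix ι ι F) *ᵥ B ⟨i, 0⟩) ((g : Matrix ι ι F) *ᵥ B ⟨i, 1⟩) = 1 :=
        eq_one_of_ne_zero_of_card_two hq _
          (blockForm_ne_zero D hint b g (hmem i _ (hBmem i 0)) (hmem i _ (hBmem i 1)))
      have hne : (⟨i, 0⟩ : Σ _ : Fin t, Fin 2) ≠ ⟨i, 1⟩ := by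
        intro h
        have := eq_of_heq (Sigma.mk.inj h).2
        exact absurd this (by decide)
      fin_cases k <;> fin_cases l
      · simp only [Fin.zero_eta]
        rw [blockForm_self, blockForm_self]
      · simp only [Fin.zero_eta, Fin.mk_one]
        rw [h01, blockForm_basis_zero]
        simp
      · simp only [Fin.zero_eta, Fin.mk_one]
        rw [blockForm_skew, h01, blockForm_basis_one]
        simp
      · simp only [Fin.mk_one]
        rw [blockForm_self, blockForm_self]
    · rw [blockForm_of_mem_ne D hint b hij (hBmem i k) (hBmem j l),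
        blockForm_of_mem_ne D hint b (fun h => hij (σ.injective h)) (hmem i _ (hBmem i k))
          (hmem j _ (hBmem j l))]
  have := congrArg (fun L : (ι → F) →ₗ[F] (ι → F) →ₗ[F] F => L u v) key
  simpa [L₂, hGapp] using this

end

/-- (S4) C2, `m = 2`, `q = 2`, general index type. -/
theorem S4' [Fintype F] {t : ℕ} (hq : Fintype.card F = 2) (D : Fin t → Submodule F (ι → F))
    (hD : IsMDecomposition 2 D) :
    ∃ f : (ι → F) → (ι → F) → F, IsSymplecticForm f ∧
      decompositionStabilizer D ≤ similarityGroup f := by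
  classical
  have hint := isInternal_of_isMDecomposition D hD
  have b : ∀ i, Module.Basis (Fin 2) F (D i) := fun i =>
    Module.finBasisOfFinrankEq F (D i) (hD.finrank_eq i)
  refine ⟨blockForm (hint.collectedBasis b), blockForm_symplectic _, ?_⟩
  intro g hg
  refine ⟨1, fun u v => ?_⟩
  rw [blockForm_invariant D hint b hq g hg u v, Units.val_one, one_mul]

/-- (S4) C2, `m = 2`, `q = 2`. -/
theorem S4 [Fintype F] {n t : ℕ} (hq : Fintype.card F = 2) (D : Fin t → Submodule F (Fin n → F))
    (hD : IsMDecomposition 2 D) :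
    ∃ f : (Fin n → F) → (Fin n → F) → F, IsSymplecticForm f ∧
      decompositionStabilizer D ≤ similarityGroup f := S4' hq D hD

end Cfsg.Agent.Lib.Helper9.HubCor
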