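import Mathlib
import Cfsg.Prelude.Def_GeometricClasses
import Cfsg.Agent.Lib.Helper9.HubCorS4

set_option autoImplicit false

namespace Cfsg.Agent.Lib.Helper9.HubCor

open Cfsg Cfsg.Geo
open scoped MatrixGroups Matrix Kronecker

variable {F : Type*} [Field F]

/-- The companion matrix of `X^2 - X - 1`. -/
def omega : Matrix (Fin 2) (Fin 2) F := !![0, 1; 1, 1]

theorem omega_mul_self : (omega : Matrix (Fin 2) (Fin 2) F) * omega = omega + 1 := by
  ext i j
  fin_cases i <;> fin_cases j <;> simp [omega, Matrix.mul_apply, Fin.sum_univ_two]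

/-- The subalgebra `F[ω]` of the `2 × 2` matrices. -/
def K0 : Subalgebra F (Matrix (Fin 2) (Fin 2) F) where
  carrier := {M | ∃ x y : F, M = x • (1 : Matrix (Fin 2) (Fin 2) F) + y • omega}
  mul_mem' := by
    rintro _ _ ⟨x, y, rfl⟩ ⟨x', y', rfl⟩
    refine ⟨x * x' + y * y', x * y' + y * x' + y * y', ?_⟩
    have h := omega_mul_self (F := F)
    calc (x • (1 : Matrix (Fin 2) (Fin 2) F) + y • omega) * (x' • 1 + y' • omega)
        = (x * x') • 1 + (x * y' + y * x') • omega + (y * y') • (omega * omega) := by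
          simp only [add_mul, mul_add, smul_mul_assoc, mul_smul_comm, one_mul, mul_one]
          module
      _ = _ := by
          rw [h]
          module
  add_mem' := by
    rintro _ _ ⟨x, y, rfl⟩ ⟨x', y', rfl⟩
    exact ⟨x + x', y + y', by module⟩
  algebraMap_mem' c := ⟨c, 0, by simp [Algebra.algebraMap_eq_smul_one]⟩

theorem mem_K0 (M : Matrix (Fin 2) (Fin 2) F) :
    M ∈ (K0 : Subalgebra F _) ↔ ∃ x y : F, M = x • (1 : Matrix (Fin 2) (Fin 2) F) + y • omega :=
  Iff.rfl

theorem K0_comm (M : Matrix (Fin 2) (Fin 2) F) (hM : M ∈ (K0 : Subalgebra F _))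
    (N : Matrix (Fin 2) (Fin 2) F) (hN : N ∈ (K0 : Subalgebra F _)) : M * N = N * M := by
  obtain ⟨x, y, rfl⟩ := hM
  obtain ⟨x', y', rfl⟩ := hN
  simp only [add_mul, mul_add, smul_mul_assoc, mul_smul_comm, one_mul, mul_one]
  module

theorem zero_or_one_of_card_two [Fintype F] (hq : Fintype.card F = 2) (c : F) : c = 0 ∨ c = 1 := by
  by_cases hc : c = 0
  · exact Or.inl hc
  · exact Or.inr (eq_one_of_ne_zero_of_card_two hq c hc)

theorem two_eq_zero_of_card_two [Fintype F] (hq : Fintype.card F = 2) : (2 : F) = 0 := by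
  rcases zero_or_one_of_card_two hq (2 : F) with h | h
  · exact h
  · exfalso
    have : (1 : F) = 0 := by linear_combination h
    exact one_ne_zero this

theorem K0_inv [Fintype F] (hq : Fintype.card F = 2) (M : Matrix (Fin 2) (Fin 2) F)
    (hM : M ∈ (K0 : Subalgebra F _)) (hne : M ≠ 0) :
    ∃ N ∈ (K0 : Subalgebra F _), M * N = 1 := by
  obtain ⟨x, y, rfl⟩ := hM
  have h := omega_mul_self (F := F)
  have h2 := two_eq_zero_of_card_two hq
  rcases zero_or_one_of_card_two hq x with rfl | rfl <;>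
    rcases zero_or_one_of_card_two hq y with rfl | rfl
  · exact absurd (by simp) hne
  · refine ⟨(-1 : F) • 1 + (1 : F) • omega, ⟨-1, 1, rfl⟩, ?_⟩
    simp only [add_mul, mul_add, smul_mul_assoc, mul_smul_comm, one_mul, mul_one, h]
    module
  · exact ⟨1, (K0 : Subalgebra F _).one_mem, by simp⟩
  · refine ⟨(2 : F) • 1 + (-1 : F) • omega, ⟨2, -1, rfl⟩, ?_⟩
    simp only [add_mul, mul_add, smul_mul_assoc, mul_smul_comm, one_mul, mul_one, h]
    module

theorem K0_finrank : Module.finrank F (K0 : Subalgebra F (Matrix (Fin 2) (Fin 2) F)) = 2 := by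
  let ψ : (Fin 2 → F) →ₗ[F] Matrix (Fin 2) (Fin 2) F :=
    { toFun := fun c => c 0 • (1 : Matrix (Fin 2) (Fin 2) F) + c 1 • omega
      map_add' := fun c d => by simp only [Pi.add_apply]; module
      map_smul' := fun a c => by simp only [Pi.smul_apply, smul_eq_mul, RingHom.id_apply]; module }
  have hinj : Function.Injective ψ := by
    rw [← LinearMap.ker_eq_bot, LinearMap.ker_eq_bot']
    intro c hc
    have h01 := congrFun (congrFun hc 0) 1
    have h00 := congrFun (congrFun hc 0) 0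
    simp [ψ, omega] at h01 h00
    ext i
    fin_cases i
    · simpa [h01] using h00
    · simpa using h01
  have hrange : (K0 : Subalgebra F (Matrix (Fin 2) (Fin 2) F)).toSubmodule = LinearMap.range ψ := by
    ext M
    simp only [Subalgebra.mem_toSubmodule, LinearMap.mem_range]
    constructor
    · rintro ⟨x, y, rfl⟩
      exact ⟨![x, y], by simp [ψ]⟩
    · rintro ⟨c, rfl⟩
      exact ⟨c 0, c 1, rfl⟩
  change Module.finrank F (K0 : Subalgebra F (Matrix (Fin 2) (Fin 2) F)).toSubmodule = 2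
  rw [hrange, LinearMap.finrank_range_of_inj hinj]
  simp

/-- Over the field with two elements a matrix with trace and determinant one is `ω` or `ω + 1`. -/
theorem mem_K0_of_trace_det [Fintype F] (hq : Fintype.card F = 2) (M : Matrix (Fin 2) (Fin 2) F)
    (htr : M.trace = 1) (hdet : M.det = 1) : M ∈ (K0 : Subalgebra F _) := by
  have h2 := two_eq_zero_of_card_two hq
  rw [Matrix.trace_fin_two] at htr
  rw [Matrix.det_fin_two] at hdet
  have hM : M = !![M 0 0, M 0 1; M 1 0, M 1 1] := by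
    ext i j; fin_cases i <;> fin_cases j <;> rfl
  rcases zero_or_one_of_card_two hq (M 0 0) with h00 | h00 <;>
    rcases zero_or_one_of_card_two hq (M 1 1) with h11 | h11 <;>
    rcases zero_or_one_of_card_two hq (M 0 1) with h01 | h01 <;>
    rcases zero_or_one_of_card_two hq (M 1 0) with h10 | h10 <;>
    rw [h00, h11] at htr <;> rw [h00, h11, h01, h10] at hdet <;>
    first
    | (exfalso; simp at htr; done)
    | (exfalso; simp at hdet; done)
    | (exfalso; apply one_ne_zero (α := F); linear_combination htr - h2)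
    | (exfalso; apply one_ne_zero (α := F); linear_combination hdet - h2)
    | (exfalso; apply one_ne_zero (α := F); linear_combination hdet)
    | (exfalso; apply one_ne_zero (α := F); linear_combination -hdet)
    | (exfalso; apply one_ne_zero (α := F); linear_combination -hdet + h2)
    | skip
  · refine ⟨0, 1, ?_⟩
    rw [hM, h00, h11, h01, h10]
    ext i j; fin_cases i <;> fin_cases j <;> simp [omega]
  · refine ⟨1, 1, ?_⟩
    rw [hM, h00, h11, h01, h10]
    ext i j; fin_cases i <;> fin_cases j <;> simp [omega]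
    linear_combination -h2

theorem K0_conj [Fintype F] (hq : Fintype.card F = 2) (a : GL (Fin 2) F)
    (M : Matrix (Fin 2) (Fin 2) F) (hM : M ∈ (K0 : Subalgebra F _)) :
    (a : Matrix (Fin 2) (Fin 2) F) * M * ((a⁻¹ : GL (Fin 2) F) : Matrix (Fin 2) (Fin 2) F) ∈
      (K0 : Subalgebra F _) := by
  obtain ⟨x, y, rfl⟩ := hM
  have h2 := two_eq_zero_of_card_two hq
  have hω : (a : Matrix (Fin 2) (Fin 2) F) * omega * ((a⁻¹ : GL (Fin 2) F) : Matrix (Fin 2) (Fin 2) F) ∈
      (K0 : Subalgebra F _) := by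
    apply mem_K0_of_trace_det hq
    · rw [Matrix.trace_units_conj]
      simp [omega, Matrix.trace_fin_two]
    · rw [Matrix.det_units_conj]
      simp only [omega, Matrix.det_fin_two_of]
      linear_combination -h2
  have h1 : (a : Matrix (Fin 2) (Fin 2) F) * (x • (1 : Matrix (Fin 2) (Fin 2) F) + y • omega) *
      ((a⁻¹ : GL (Fin 2) F) : Matrix (Fin 2) (Fin 2) F) =
      x • 1 + y • ((a : Matrix (Fin 2) (Fin 2) F) * omega *
        ((a⁻¹ : GL (Fin 2) F) : Matrix (Fin 2) (Fin 2) F)) := by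
    have hone : (a : Matrix (Fin 2) (Fin 2) F) * ((a⁻¹ : GL (Fin 2) F) : Matrix (Fin 2) (Fin 2) F) = 1 := by
      rw [← Units.val_mul, mul_inv_cancel, Units.val_one]
    simp only [mul_add, add_mul, mul_smul_comm, smul_mul_assoc, mul_one, hone]
  rw [h1]
  exact (K0 : Subalgebra F _).add_mem ((K0 : Subalgebra F _).smul_mem (K0 : Subalgebra F _).one_mem x)
    ((K0 : Subalgebra F _).smul_mem hω y)

section
variable {n n₂ : ℕ} (e : Fin n ≃ Fin 2 × Fin n₂) (P : GL (Fin n) F)

/-- `P * reindex (X ⊗ Y) * P⁻¹`. -/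
noncomputable def emb2 (X : Matrix (Fin 2) (Fin 2) F) (Y : Matrix (Fin n₂) (Fin n₂) F) :
    Matrix (Fin n) (Fin n) F :=
  (P : Matrix (Fin n) (Fin n) F) * Matrix.reindexAlgEquiv F F e.symm (X ⊗ₖ Y) *
    ((P⁻¹ : GL (Fin n) F) : Matrix (Fin n) (Fin n) F)

theorem emb2_mul (X X' : Matrix (Fin 2) (Fin 2) F) (Y Y' : Matrix (Fin n₂) (Fin n₂) F) :
    emb2 e P X Y * emb2 e P X' Y' = emb2 e P (X * X') (Y * Y') := by
  unfold emb2
  have hone : ((P⁻¹ : GL (Fin n) F) : Matrix (Fin n) (Fin n) F) * (P : Matrix (Fin n) (Fin n) F) = 1 := by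
    rw [← Units.val_mul, inv_mul_cancel, Units.val_one]
  rw [Matrix.mul_kronecker_mul, map_mul]
  calc (P : Matrix (Fin n) (Fin n) F) * Matrix.reindexAlgEquiv F F e.symm (X ⊗ₖ Y) *
        ((P⁻¹ : GL (Fin n) F) : Matrix (Fin n) (Fin n) F) *
        ((P : Matrix (Fin n) (Fin n) F) * Matrix.reindexAlgEquiv F F e.symm (X' ⊗ₖ Y') *
        ((P⁻¹ : GL (Fin n) F) : Matrix (Fin n) (Fin n) F))
      = (P : Matrix (Fin n) (Fin n) F) * Matrix.reindexAlgEquiv F F e.symm (X ⊗ₖ Y) *
        (((P⁻¹ : GL (Fin n) F) : Matrix (Fin n) (Fin n) F) * (P : Matrix (Fin n) (Fin n) F)) *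
        Matrix.reindexAlgEquiv F F e.symm (X' ⊗ₖ Y') *
        ((P⁻¹ : GL (Fin n) F) : Matrix (Fin n) (Fin n) F) := by
        simp only [mul_assoc]
    _ = _ := by rw [hone, mul_one]; simp only [mul_assoc]

theorem emb2_one : emb2 e P (1 : Matrix (Fin 2) (Fin 2) F) (1 : Matrix (Fin n₂) (Fin n₂) F) = 1 := by
  unfold emb2
  rw [Matrix.one_kronecker_one, map_one, mul_one, ← Units.val_mul, mul_inv_cancel, Units.val_one]

/-- The algebra embedding `k ↦ P * reindex (k ⊗ 1) * P⁻¹`. -/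
noncomputable def embHom : Matrix (Fin 2) (Fin 2) F →ₐ[F] Matrix (Fin n) (Fin n) F where
  toFun k := emb2 e P k 1
  map_one' := emb2_one e P
  map_mul' k k' := by rw [emb2_mul, one_mul]
  map_zero' := by simp [emb2]
  map_add' k k' := by
    unfold emb2
    rw [Matrix.add_kronecker, map_add, mul_add, add_mul]
  commutes' c := by
    simp [emb2, Algebra.algebraMap_eq_smul_one, Matrix.smul_kronecker]

theorem embHom_apply (k : Matrix (Fin 2) (Fin 2) F) : embHom e P k = emb2 e P k 1 := rfl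

theorem embHom_injective (hn₂ : 0 < n₂) : Function.Injective (embHom e P) := by
  rw [injective_iff_map_eq_zero]
  intro k hk
  rw [embHom_apply] at hk
  unfold emb2 at hk
  have h1 : Matrix.reindexAlgEquiv F F e.symm (k ⊗ₖ (1 : Matrix (Fin n₂) (Fin n₂) F)) = 0 := by
    have := congrArg (fun M => ((P⁻¹ : GL (Fin n) F) : Matrix (Fin n) (Fin n) F) * M *
      (P : Matrix (Fin n) (Fin n) F)) hk
    simp only [mul_zero, zero_mul] at this
    rw [← this]
    simp only [← mul_assoc]
    rw [← Units.val_mul, inv_mul_cancel, Units.val_one, one_mul, mul_assoc, ← Units.val_mul,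
      inv_mul_cancel, Units.val_one, mul_one]
  have h2 : k ⊗ₖ (1 : Matrix (Fin n₂) (Fin n₂) F) = 0 :=
    (Matrix.reindexAlgEquiv F F e.symm).injective (by rw [h1, map_zero])
  ext i i'
  have := congrFun (congrFun h2 (i, ⟨0, hn₂⟩)) (i', ⟨0, hn₂⟩)
  simpa [Matrix.kroneckerMap_apply] using this

end

theorem le_subalgebraNormalizer_of_conj_mem {ι : Type} [Fintype ι] [DecidableEq ι]
    (T : Subgroup (GL ι F)) (K : Subalgebra F (Matrix ι ι F))
    (h : ∀ g ∈ T, ∀ k ∈ K, (g : Matrix ι ι F) * k * ((g⁻¹ : GL ι F) : Matrix ι ι F) ∈ K) :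
    T ≤ subalgebraNormalizer K := by
  intro g hg k
  constructor
  · exact h g hg k
  · intro hk
    have h' := h g⁻¹ (T.inv_mem hg) _ hk
    rw [inv_inv] at h'
    have e1 : ((g⁻¹ : GL ι F) : Matrix ι ι F) *
        ((g : Matrix ι ι F) * k * ((g⁻¹ : GL ι F) : Matrix ι ι F)) * (g : Matrix ι ι F) = k := by
      have h1 : ((g⁻¹ : GL ι F) : Matrix ι ι F) * (g : Matrix ι ι F) = 1 := by
        rw [← Units.val_mul, inv_mul_cancel, Units.val_one]
      calc ((g⁻¹ : GL ι F) : Matrix ι ι F) *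
          ((g : Matrix ι ι F) * k * ((g⁻¹ : GL ι F) : Matrix ι ι F)) * (g : Matrix ι ι F)
          = (((g⁻¹ : GL ι F) : Matrix ι ι F) * (g : Matrix ι ι F)) * k *
            (((g⁻¹ : GL ι F) : Matrix ι ι F) * (g : Matrix ι ι F)) := by simp only [mul_assoc]
        _ = k := by rw [h1, one_mul, mul_one]
    rwa [e1] at h'

/-- (S5) C4, `n₁ = 2`, `q = 2` (`0 < n₂` is needed: for `n₂ = 0` the matrix algebra is zero). -/
theorem S5 [Fintype F] {n n₂ : ℕ} (hq : Fintype.card F = 2) (hn₂ : 0 < n₂)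
    (e : Fin n ≃ Fin 2 × Fin n₂) (P : GL (Fin n) F) :
    ∃ K : Subalgebra F (Matrix (Fin n) (Fin n) F), IsFieldSubalgebra 2 K ∧
      tensorProductSubgroup 2 n₂ e P ≤ subalgebraNormalizer K := by
  have hinj := embHom_injective e P hn₂
  refine ⟨(K0 : Subalgebra F _).map (embHom e P), ⟨?_, ?_, ?_⟩, ?_⟩
  · rintro _ ⟨k, hk, rfl⟩ _ ⟨k', hk', rfl⟩
    simp only [AlgHom.coe_toRingHom]
    rw [← map_mul, ← map_mul, K0_comm k hk k' hk']
  · rintro _ ⟨k, hk, rfl⟩ hne
    simp only [AlgHom.coe_toRingHom] at hne ⊢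
    have hk0 : k ≠ 0 := by
      rintro rfl
      exact hne (map_zero _)
    obtain ⟨k', hk', hkk'⟩ := K0_inv hq k hk hk0
    refine ⟨embHom e P k', ⟨k', hk', rfl⟩, ?_⟩
    rw [← map_mul, hkk', map_one]
  · rw [← ((K0 : Subalgebra F _).equivMapOfInjective (embHom e P) hinj).toLinearEquiv.finrank_eq]
    exact K0_finrank
  · apply le_subalgebraNormalizer_of_conj_mem
    rintro g hg _ ⟨k, hk, rfl⟩
    simp only [AlgHom.coe_toRingHom]
    obtain ⟨x, ⟨h, ⟨a, b, hab⟩, rfl⟩, rfl⟩ := hg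
    have hgmat : ((((MulAut.conj P).toMonoidHom ((glReindex e.symm).toMonoidHom h)) : GL (Fin n) F) :
        Matrix (Fin n) (Fin n) F) = emb2 e P (a : Matrix (Fin 2) (Fin 2) F) (b : Matrix (Fin n₂) (Fin n₂) F) := by
      unfold emb2
      rw [← hab]
      simp [glReindex, MulAut.conj_apply]
    set g := (MulAut.conj P).toMonoidHom ((glReindex e.symm).toMonoidHom h) with hgdef
    have hcomm : (g : Matrix (Fin n) (Fin n) F) * embHom e P k =
        embHom e P ((a : Matrix (Fin 2) (Fin 2) F) * k * ((a⁻¹ : GL (Fin 2) F) : Matrix (Fin 2) (Fin 2) F)) *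
          (g : Matrix (Fin n) (Fin n) F) := by
      rw [hgmat, embHom_apply, embHom_apply, emb2_mul, emb2_mul, mul_one, one_mul]
      congr 1
      rw [mul_assoc, mul_assoc, ← Units.val_mul, inv_mul_cancel, Units.val_one, mul_one]
    refine ⟨(a : Matrix (Fin 2) (Fin 2) F) * k * ((a⁻¹ : GL (Fin 2) F) : Matrix (Fin 2) (Fin 2) F),
      K0_conj hq a k hk, ?_⟩
    simp only [AlgHom.coe_toRingHom]
    have hone : (g : Matrix (Fin n) (Fin n) F) * ((g⁻¹ : GL (Fin n) F) : Matrix (Fin n) (Fin n) F) = 1 := by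
      rw [← Units.val_mul, mul_inv_cancel, Units.val_one]
    generalize embHom e P ((a : Matrix (Fin 2) (Fin 2) F) * k *
      ((a⁻¹ : GL (Fin 2) F) : Matrix (Fin 2) (Fin 2) F)) = Z at hcomm ⊢
    rw [hcomm, mul_assoc, hone, mul_one]

end Cfsg.Agent.Lib.Helper9.HubCor
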