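import Mathlib
import Cfsg.Prelude
import Cfsg.Agent.Lib.Helper9.PComp2

/-!
# `p`-components, part 3: images of components in quotients; `E(G)` versus `L_{p'}(G)`.
-/

set_option autoImplicit false

namespace Cfsg.Agent.Lib.Helper9

open Cfsg Cfsg.Agent.Lib.Helper10 Cfsg.Agent.Lib.Helper1

universe u

open scoped commutatorElement

section General

variable {H : Type*} [Group H]

/-- the quotient of a quasisimple group by a central subgroup is quasisimple -/
theorem qs_quotient_of_le_center (hq : Cfsg.IsQuasisimple H) (N : Subgroup H) [N.Normal]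
    (hN : N ≤ Subgroup.center H) : Cfsg.IsQuasisimple (H ⧸ N) := by
  have hperf := hq.1
  have hperf' : Group.IsPerfect (H ⧸ N) :=
    Group.IsPerfect.ofSurjective (f := QuotientGroup.mk' N) (QuotientGroup.mk'_surjective N)
  have hnt : Nontrivial (H ⧸ N) := by
    by_contra hcon
    rw [not_nontrivial_iff_subsingleton] at hcon
    have h1 : N = ⊤ := QuotientGroup.subgroup_eq_top_of_subsingleton _ hcon
    apply qs_center_ne_top hq
    rw [eq_top_iff, ← h1]; exact hN
  apply qs_of_perfect_of_normal hperf'.commutator_eq_top hnt
  intro Mbar hMbar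
  have hM : (Mbar.comap (QuotientGroup.mk' N)).Normal := hMbar.comap _
  have hmap : (Mbar.comap (QuotientGroup.mk' N)).map (QuotientGroup.mk' N) = Mbar :=
    Subgroup.map_comap_eq_self_of_surjective (QuotientGroup.mk'_surjective N) _
  rcases qs_normal_le_center_or_eq_top hq (Mbar.comap (QuotientGroup.mk' N)) with h | h
  · right
    rw [← hmap]
    rintro _ ⟨m, hm, rfl⟩
    rw [Subgroup.mem_center_iff]
    intro g
    induction g using QuotientGroup.induction_on with
    | H g =>
      have := (Subgroup.mem_center_iff.mp (h hm)) g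
      show ((g * m : H) : H ⧸ N) = ((m * g : H) : H ⧸ N)
      rw [this]
  · left
    rw [← hmap, h]
    exact Subgroup.map_top_of_surjective _ (QuotientGroup.mk'_surjective N)

end General

section Map

variable {G : Type*} [Group G] {G' : Type*} [Group G']

theorem ker_subgroupMap (f : G →* G') (J : Subgroup G) :
    (f.subgroupMap J).ker = f.ker.subgroupOf J := by
  ext x
  rw [MonoidHom.mem_ker, Subgroup.mem_subgroupOf, MonoidHom.mem_ker]
  constructor
  · intro h
    exact congrArg Subtype.val h
  · intro h
    exact Subtype.ext h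

/-- the image of a component under a surjective homomorphism is trivial or a component -/
theorem comp_map_of_surjective {f : G →* G'} (hf : Function.Surjective f) {J : Subgroup G}
    (hJ : Cfsg.IsComponent J) : J.map f = ⊥ ∨ Cfsg.IsComponent (J.map f) := by
  have hn : (f.ker.subgroupOf J).Normal := (inferInstance : f.ker.Normal).subgroupOf J
  rcases qs_normal_le_center_or_eq_top hJ.2 (f.ker.subgroupOf J) with h | h
  · right
    refine ⟨hJ.1.map hf, ?_⟩
    have hn' : (f.subgroupMap J).ker.Normal := inferInstance
    have hle : (f.subgroupMap J).ker ≤ Subgroup.center ↥J := by rw [ker_subgroupMap]; exact h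
    have hq := qs_quotient_of_le_center hJ.2 (f.subgroupMap J).ker hle
    exact qs_of_mulEquiv (QuotientGroup.quotientKerEquivOfSurjective (f.subgroupMap J)
      (f.subgroupMap_surjective J)) hq
  · left
    rw [Subgroup.subgroupOf_eq_top] at h
    rw [eq_bot_iff]
    rintro _ ⟨x, hx, rfl⟩
    rw [Subgroup.mem_bot]
    exact MonoidHom.mem_ker.mp (h hx)

/-- the image of the layer lies in the layer of the image -/
theorem map_layer_le_of_surjective {f : G →* G'} (hf : Function.Surjective f) :
    (Cfsg.layer G).map f ≤ Cfsg.layer G' := by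
  unfold Cfsg.layer
  rw [sSup_eq_iSup, Subgroup.map_iSup]
  apply iSup_le
  intro J
  rw [Subgroup.map_iSup]
  apply iSup_le
  intro hJ
  rcases comp_map_of_surjective hf hJ with h | h
  · rw [h]; exact bot_le
  · exact le_sSup h

end Map

variable {G : Type u} [Group G] [Finite G]

/-- a component of `G` with a component image in `G/O_{p'}(G)` is a `p`-component -/
theorem comp_isPComponent {p : ℕ} {J : Subgroup G} (hJ : Cfsg.IsComponent J)
    (hJb : Cfsg.IsComponent (J.map (QuotientGroup.mk' (pPrimeCore p G)))) : IsPComponent p J := by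
  refine ⟨hJ.1, hJb, ?_⟩
  intro H hH hHJ hmap
  rcases qs_subnormal_eq_top_or_le_center hJ.2 (H.subgroupOf J) hH.subgroupOf with h | h
  · rw [Subgroup.subgroupOf_eq_top] at h
    exact le_antisymm hHJ h
  · exfalso
    apply comp_not_le_centralizer hJb
    rw [← hmap]
    rintro _ ⟨x, hx, rfl⟩
    rw [Subgroup.mem_centralizer_iff]
    rintro _ ⟨y, hy, rfl⟩
    have hxc := h (x := ⟨x, hHJ hx⟩) (Subgroup.mem_subgroupOf.mpr hx)
    have := (Subgroup.mem_center_iff.mp hxc) ⟨y, hHJ hy⟩
    have e : y * x = x * y := congrArg Subtype.val this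
    rw [← map_mul, ← map_mul, e]

/-- **S1277 (general `p`)** -/
theorem map_layer_eq_iff_pLayer_le {p : ℕ} [Fact p.Prime] :
    (Cfsg.layer G).map (QuotientGroup.mk' (pPrimeCore p G)) = Cfsg.layer (G ⧸ pPrimeCore p G) ↔
      pLayer p G ≤ Cfsg.layer G := by
  constructor
  · intro h
    apply sSup_le
    intro K hK
    -- find a component J with the same image
    have hex : ∃ J : Subgroup G, Cfsg.IsComponent J ∧
        J.map (QuotientGroup.mk' (pPrimeCore p G)) = K.map (QuotientGroup.mk' (pPrimeCore p G)) := by
      by_contra hcon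
      push Not at hcon
      apply comp_not_le_centralizer hK.2.1
      have h1 : Cfsg.layer (G ⧸ pPrimeCore p G) ≤ Subgroup.centralizer
          ((K.map (QuotientGroup.mk' (pPrimeCore p G)) : Subgroup (G ⧸ pPrimeCore p G)) :
            Set (G ⧸ pPrimeCore p G)) := by
        rw [← h]
        unfold Cfsg.layer
        rw [sSup_eq_iSup, Subgroup.map_iSup]
        apply iSup_le
        intro J
        rw [Subgroup.map_iSup]
        apply iSup_le
        intro hJ
        rw [← Subgroup.commutator_eq_bot_iff_le_centralizer]
        rcases comp_map_of_surjective (QuotientGroup.mk'_surjective (pPrimeCore p G)) hJ with h2 | h2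
        · rw [h2]; exact Subgroup.commutator_bot_left _
        · exact comp_commutator_eq_bot_of_ne h2 hK.2.1 (hcon J hJ)
      exact (comp_le_layer hK.2.1).trans h1
    obtain ⟨J, hJ, hJK⟩ := hex
    have hJp : IsPComponent p J := comp_isPComponent hJ (hJK ▸ hK.2.1)
    have : J = K := pcomp_eq_of_map_eq hJp hK hJK
    rw [← this]
    exact comp_le_layer hJ
  · intro h
    apply le_antisymm
    · exact map_layer_le_of_surjective (QuotientGroup.mk'_surjective _)
    · rw [← map_mk_pLayer]
      exact Subgroup.map_mono h

end Cfsg.Agent.Lib.Helper9
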