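import Mathlib
import Cfsg.Prelude
import Cfsg.Agent.Lib.Helper17.Coprime
import Cfsg.Agent.Lib.Helper17.PResidual
import Cfsg.Agent.Lib.Helper9.PComp3

/-!
# Applications of Thompson's `A × B` lemma to layers of normalizers of `p`-subgroups.
-/

set_option autoImplicit false

namespace Cfsg.Agent.Lib.Helper9

open Cfsg Cfsg.Agent.Lib.Helper17

universe u

section Residual

variable {H : Type*} [Group H] [Finite H]

/-- a perfect finite group is generated by its `p'`-elements -/
theorem pResidual_eq_top_of_perfect (p : ℕ) [Fact p.Prime] (hperf : commutator H = ⊤) :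
    pResidual p H = ⊤ := by
  by_contra hne
  have hpg : IsPGroup p (H ⧸ pResidual p H) := quotient_pResidual_isPGroup
  have hnil : Group.IsNilpotent (H ⧸ pResidual p H) := hpg.isNilpotent
  have hperf' : Group.IsPerfect (H ⧸ pResidual p H) :=
    haveI : Group.IsPerfect H := ⟨hperf⟩
    Group.IsPerfect.ofSurjective (f := QuotientGroup.mk' (pResidual p H))
      (QuotientGroup.mk'_surjective _)
  have hnt : Nontrivial (H ⧸ pResidual p H) := by
    by_contra hcon
    rw [not_nontrivial_iff_subsingleton] at hcon
    exact hne (QuotientGroup.subgroup_eq_top_of_subsingleton _ hcon)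
  exact Group.IsPerfect.not_isSolvable (H ⧸ pResidual p H) inferInstance

end Residual

variable {G : Type u} [Group G] [Finite G]

/-- `A × B` lemma for a subgroup `M` generated by its `p'`-elements. -/
theorem le_centralizer_of_AxB {p : ℕ} [Fact p.Prime] {P Q M : Subgroup G} (hP : IsPGroup p P)
    (hQ : IsPGroup p Q) (hMres : pResidual p ↥M = ⊤) (hMP : ∀ a ∈ M, ∀ b ∈ P, a * b = b * a)
    (hMQ : M ≤ Subgroup.normalizer (Q : Set G)) (hPQ : P ≤ Subgroup.normalizer (Q : Set G))
    (hC : ∀ x ∈ Q, (∀ b ∈ P, b * x = x * b) → ∀ a ∈ M, a * x = x * a) :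
    M ≤ Subgroup.centralizer (Q : Set G) := by
  have h1 : M = (pResidual p ↥M).map M.subtype := by
    rw [hMres, ← MonoidHom.range_eq_map, Subgroup.range_subtype]
  rw [h1]
  unfold Cfsg.pResidual
  rw [MonoidHom.map_closure, Subgroup.closure_le]
  rintro _ ⟨g, hg, rfl⟩
  have hcop : (orderOf (g : G)).Coprime p := by
    rw [Subgroup.orderOf_coe]; exact hg
  have := thompson_AxB hP hcop (fun b hb => hMP g.1 g.2 b hb) (Nat.card Q) Q rfl hQ (hMQ g.2) hPQ
    (fun x hx hxb => hC x hx hxb g.1 g.2)
  show (g : G) ∈ Subgroup.centralizer (Q : Set G)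
  rw [Subgroup.mem_centralizer_iff]
  intro x hx
  exact (this x hx).symm

section Cores

open Cfsg.Agent.Lib.Helper1 Cfsg.Agent.Lib.Helper10

theorem pCore_inf_pPrimeCore (p : ℕ) [Fact p.Prime] : pCore p G ⊓ pPrimeCore p G = ⊥ := by
  apply disjoint_iff.mp
  apply Subgroup.disjoint_of_coprime_natCard
  obtain ⟨n, hn⟩ := (IsPGroup.iff_card.mp (Cfsg.Agent.Lib.Helper1.pCore_isPGroup (G := G) p))
  rw [hn]
  exact Nat.Coprime.pow_left n (pPrimeCore_coprime p).symm

theorem commutator_pCore_pPrimeCore (p : ℕ) [Fact p.Prime] : ⁅pCore p G, pPrimeCore p G⁆ = ⊥ := by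
  have h1 : (pCore p G).Normal := Cfsg.Agent.Lib.Helper1.pCore_normal p
  have h2 : (pPrimeCore p G).Normal := Cfsg.Agent.Lib.Helper1.pPrimeCore_normal p
  rw [eq_bot_iff, ← pCore_inf_pPrimeCore p]
  exact Subgroup.commutator_le_inf _ _

/-- a `p`-component centralizes `O_p(G)` -/
theorem pcomp_commutator_pCore {p : ℕ} [Fact p.Prime] {K : Subgroup G} (hK : IsPComponent p K) :
    ⁅K, pCore p G⁆ = ⊥ := by
  have h1 : (pCore p G).Normal := Cfsg.Agent.Lib.Helper1.pCore_normal p
  have h2 : (pPrimeCore p G).Normal := Cfsg.Agent.Lib.Helper1.pPrimeCore_normal p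
  have hR : ((pCore p G).map (QuotientGroup.mk' (pPrimeCore p G))).Normal :=
    h1.map _ (QuotientGroup.mk'_surjective _)
  have hRs : Group.IsSolvable ↥((pCore p G).map (QuotientGroup.mk' (pPrimeCore p G))) := by
    have : IsPGroup p ↥((pCore p G).map (QuotientGroup.mk' (pPrimeCore p G))) :=
      (Cfsg.Agent.Lib.Helper1.pCore_isPGroup p).map _
    have := this.isNilpotent
    infer_instance
  have h3 := layer_le_centralizer_of_solvable_normal hR hRs
  have h4 : ⁅K.map (QuotientGroup.mk' (pPrimeCore p G)),
      (pCore p G).map (QuotientGroup.mk' (pPrimeCore p G))⁆ = ⊥ :=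
    Subgroup.commutator_eq_bot_iff_le_centralizer.mpr ((comp_le_layer hK.2.1).trans h3)
  rw [← Subgroup.map_commutator] at h4
  have h5 : ⁅K, pCore p G⁆ ≤ pPrimeCore p G := by
    intro x hx
    have : QuotientGroup.mk' (pPrimeCore p G) x ∈
        (⁅K, pCore p G⁆).map (QuotientGroup.mk' (pPrimeCore p G)) := Subgroup.mem_map_of_mem _ hx
    rw [h4, Subgroup.mem_bot] at this
    exact (QuotientGroup.eq_one_iff x).mp this
  have h6 : ⁅K, pCore p G⁆ ≤ pCore p G := Subgroup.commutator_le_right _ _
  rw [eq_bot_iff, ← pCore_inf_pPrimeCore p]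
  exact le_inf h6 h5

end Cores

section Normalizer

open Cfsg.Agent.Lib.Helper1

variable {p : ℕ} [Fact p.Prime] {P : Subgroup G}

omit [Finite G] [Fact p.Prime] in
/-- `P ≤ O_p(N_G(P))` -/
theorem le_map_pCore_normalizer (hP : IsPGroup p P) :
    P ≤ (pCore p ↥(Subgroup.normalizer (P : Set G))).map (Subgroup.normalizer (P : Set G)).subtype := by
  have hn : (P.subgroupOf (Subgroup.normalizer (P : Set G))).Normal := Subgroup.normal_in_normalizer
  have hp : IsPGroup p (P.subgroupOf (Subgroup.normalizer (P : Set G))) := hP.comap_subtype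
  have h := le_pCore hn hp
  intro x hx
  exact ⟨⟨x, Subgroup.le_normalizer hx⟩, h (Subgroup.mem_subgroupOf.mpr hx), rfl⟩

omit [Finite G] [Fact p.Prime] in
/-- `N_Q(P) ≤ O_p(N_G(P))` for a normal `p`-subgroup `Q` -/
theorem inf_normalizer_le_map_pCore_normalizer {Q : Subgroup G} (hQn : Q.Normal) (hQ : IsPGroup p Q) :
    Q ⊓ Subgroup.normalizer (P : Set G) ≤
      (pCore p ↥(Subgroup.normalizer (P : Set G))).map (Subgroup.normalizer (P : Set G)).subtype := by
  have hn : (Q.subgroupOf (Subgroup.normalizer (P : Set G))).Normal := hQn.subgroupOf _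
  have hp : IsPGroup p (Q.subgroupOf (Subgroup.normalizer (P : Set G))) := hQ.comap_subtype
  have h := le_pCore hn hp
  intro x hx
  obtain ⟨hxQ, hxN⟩ := Subgroup.mem_inf.mp hx
  exact ⟨⟨x, hxN⟩, h (Subgroup.mem_subgroupOf.mpr hxQ), rfl⟩

/-- A subgroup `M` of `N_G(P)` generated by `p'`-elements which centralizes `O_p(N_G(P))`
centralizes `O_p(G)` (Thompson `A × B`). -/
theorem le_centralizer_pCore_of_centralizes_pCore_normalizer (hP : IsPGroup p P) {M : Subgroup G}
    (hMres : pResidual p ↥M = ⊤)
    (hM : M ≤ Subgroup.centralizer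
      (((pCore p ↥(Subgroup.normalizer (P : Set G))).map
        (Subgroup.normalizer (P : Set G)).subtype : Subgroup G) : Set G)) :
    M ≤ Subgroup.centralizer (pCore p G : Set G) := by
  have hQn : (pCore p G).Normal := Cfsg.Agent.Lib.Helper1.pCore_normal p
  have hQ : IsPGroup p (pCore p G) := Cfsg.Agent.Lib.Helper1.pCore_isPGroup p
  have htop : Subgroup.normalizer ((pCore p G : Subgroup G) : Set G) = ⊤ :=
    Subgroup.normalizer_eq_top_iff.mpr hQn
  apply le_centralizer_of_AxB hP hQ hMres
  · intro a ha b hb
    exact ((Subgroup.mem_centralizer_iff.mp (hM ha)) b (le_map_pCore_normalizer hP hb)).symm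
  · rw [htop]; exact le_top
  · rw [htop]; exact le_top
  · intro x hx hxb a ha
    have hxN : x ∈ Subgroup.normalizer (P : Set G) := by
      rw [Subgroup.mem_normalizer_iff]
      intro b
      constructor
      · intro hb
        have := hxb b hb
        have e : x * b * x⁻¹ = b := by rw [← this]; group
        rw [e]; exact hb
      · intro hb
        have := hxb _ hb
        have e : x * b * x⁻¹ = b := by
          have h2 : x * b * x⁻¹ * x = x * (x * b * x⁻¹) := by rw [this]
          have h3 : x * b = x * (x * b * x⁻¹) := by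
            rw [← h2]; group
          exact (mul_left_cancel h3).symm
        rw [← e]; exact hb
    have := inf_normalizer_le_map_pCore_normalizer (P := P) hQn hQ (Subgroup.mem_inf.mpr ⟨hx, hxN⟩)
    exact ((Subgroup.mem_centralizer_iff.mp (hM ha)) x this).symm

omit [Finite G] [Fact p.Prime] in
theorem map_subtype_perfect {N : Subgroup G} {L' : Subgroup ↥N} (h : ⁅L', L'⁆ = L') :
    ⁅L'.map N.subtype, L'.map N.subtype⁆ = L'.map N.subtype := by
  rw [← Subgroup.map_commutator, h]

omit [Fact p.Prime] in
/-- components of a subgroup `N` centralize `O_p(N)` (as subgroups of `G`) -/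
theorem comp_map_le_centralizer_map_pCore (p : ℕ) [Fact p.Prime] {N : Subgroup G} {L' : Subgroup ↥N}
    (hL' : Cfsg.IsComponent L') :
    L'.map N.subtype ≤ Subgroup.centralizer (((pCore p ↥N).map N.subtype : Subgroup G) : Set G) := by
  have h1 : Cfsg.layer ↥N ≤ Subgroup.centralizer (Cfsg.fittingSubgroup ↥N : Set ↥N) :=
    Subgroup.commutator_eq_bot_iff_le_centralizer.mp commutator_layer_fitting
  rintro _ ⟨l, hl, rfl⟩
  rw [Subgroup.mem_centralizer_iff]
  rintro _ ⟨o, ho, rfl⟩
  have hl' := h1 (comp_le_layer hL' hl)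
  have := (Subgroup.mem_centralizer_iff.mp hl') o (pCore_le_fittingSubgroup p ho)
  exact congrArg Subtype.val this

/-- **S1267**: if `P ≤ O_p(G)` then `E(N_G(P)) = E(G)`. -/
theorem map_layer_normalizer_eq (hPQ : P ≤ pCore p G) :
    (Cfsg.layer ↥(Subgroup.normalizer (P : Set G))).map (Subgroup.normalizer (P : Set G)).subtype =
      Cfsg.layer G := by
  have hP : IsPGroup p P := (Cfsg.Agent.Lib.Helper1.pCore_isPGroup p).to_le hPQ
  have hQn : (pCore p G).Normal := Cfsg.Agent.Lib.Helper1.pCore_normal p
  have hCN : Subgroup.centralizer (pCore p G : Set G) ≤ Subgroup.normalizer (P : Set G) :=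
    (Subgroup.centralizer_le hPQ).trans (Subgroup.centralizer_le_normalizer _)
  apply le_antisymm
  · unfold Cfsg.layer
    rw [sSup_eq_iSup, Subgroup.map_iSup]
    apply iSup_le
    intro L'
    rw [Subgroup.map_iSup]
    apply iSup_le
    intro hL'
    apply le_sSup
    show Cfsg.IsComponent (L'.map (Subgroup.normalizer (P : Set G)).subtype)
    have hperf := map_subtype_perfect (comp_perfect hL')
    have hres := pResidual_eq_top_of_perfect p (commutator_eq_top_of_perfect_subgroup hperf)
    have hLC : L'.map (Subgroup.normalizer (P : Set G)).subtype ≤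
        Subgroup.centralizer (pCore p G : Set G) :=
      le_centralizer_pCore_of_centralizes_pCore_normalizer hP hres
        (comp_map_le_centralizer_map_pCore p hL')
    have hCsn : (Subgroup.centralizer (pCore p G : Set G)).IsSubnormal :=
      (Subgroup.normal_centralizer : (Subgroup.centralizer (pCore p G : Set G)).Normal).isSubnormal
    have hcomp : Cfsg.IsComponent ((L'.map (Subgroup.normalizer (P : Set G)).subtype).subgroupOf
        (Subgroup.centralizer (pCore p G : Set G))) := by
      refine ⟨?_, ?_⟩
      · have : (L'.map (Subgroup.normalizer (P : Set G)).subtype).subgroupOf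
            (Subgroup.centralizer (pCore p G : Set G)) = L'.comap (Subgroup.inclusion hCN) := by
          ext x
          rw [Subgroup.mem_subgroupOf, Subgroup.mem_comap]
          constructor
          · rintro ⟨l, hl, hlx⟩
            have : l = Subgroup.inclusion hCN x := Subtype.ext hlx
            rw [← this]; exact hl
          · intro h
            exact ⟨_, h, rfl⟩
        rw [this]
        exact hL'.1.comap _
      · exact qs_of_mulEquiv ((L'.equivMapOfInjective _ (Subgroup.subtype_injective _)).trans
          (Subgroup.subgroupOfEquivOfLe hLC).symm) hL'.2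
    have := (isComponent_map_subtype_iff hCsn _).mp hcomp
    rwa [Subgroup.map_subgroupOf_eq_of_le hLC] at this
  · apply sSup_le
    intro L hL
    have h1 : Cfsg.layer G ≤ Subgroup.centralizer (Cfsg.fittingSubgroup G : Set G) :=
      Subgroup.commutator_eq_bot_iff_le_centralizer.mp commutator_layer_fitting
    have hLN : L ≤ Subgroup.normalizer (P : Set G) :=
      (comp_le_layer hL).trans (h1.trans
        ((Subgroup.centralizer_le (Cfsg.Agent.Lib.Helper1.pCore_le_fittingSubgroup p)).trans hCN))
    have h2 := comp_le_layer (isComponent_subgroupOf hL hLN)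
    have h3 := Subgroup.map_mono (f := (Subgroup.normalizer (P : Set G)).subtype) h2
    rwa [Subgroup.map_subgroupOf_eq_of_le hLN] at h3

omit [Finite G] [Fact p.Prime] in
theorem map_le_centralizer_map_of_commutator_eq_bot {N : Subgroup G} {A B : Subgroup ↥N}
    (h : ⁅A, B⁆ = ⊥) :
    A.map N.subtype ≤ Subgroup.centralizer ((B.map N.subtype : Subgroup G) : Set G) := by
  have h1 := Subgroup.commutator_eq_bot_iff_le_centralizer.mp h
  rintro _ ⟨a, ha, rfl⟩
  rw [Subgroup.mem_centralizer_iff]
  rintro _ ⟨b, hb, rfl⟩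
  have := (Subgroup.mem_centralizer_iff.mp (h1 ha)) b hb
  exact congrArg Subtype.val this

omit [Finite G] [Fact p.Prime] in
theorem pResidual_eq_top_of_coprime_card {O : Subgroup G} [Finite O] (h : (Nat.card O).Coprime p) :
    pResidual p ↥O = ⊤ := by
  rw [eq_top_iff]
  intro g _
  apply Subgroup.subset_closure
  show (orderOf g).Coprime p
  exact Nat.Coprime.coprime_dvd_left (orderOf_dvd_natCard g) h

/-- **S1266**: the preimage in `N = N_G(P)` of `E(N / O_{p'}(N))` centralizes `O_p(G)`. -/
theorem map_comap_layer_quotient_le_centralizer (hP : IsPGroup p P) :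
    ((Cfsg.layer (↥(Subgroup.normalizer (P : Set G)) ⧸
        pPrimeCore p ↥(Subgroup.normalizer (P : Set G)))).comap
      (QuotientGroup.mk' (pPrimeCore p ↥(Subgroup.normalizer (P : Set G))))).map
        (Subgroup.normalizer (P : Set G)).subtype ≤ Subgroup.centralizer (pCore p G : Set G) := by
  rw [← Cfsg.Agent.Lib.Helper10.map_mk_pLayer (G := ↥(Subgroup.normalizer (P : Set G))) p,
    QuotientGroup.comap_map_mk', Subgroup.map_sup]
  apply sup_le
  · apply le_centralizer_pCore_of_centralizes_pCore_normalizer hP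
    · apply pResidual_eq_top_of_coprime_card
      rw [Subgroup.card_map_of_injective (Subgroup.subtype_injective _)]
      exact pPrimeCore_coprime p
    · apply map_le_centralizer_map_of_commutator_eq_bot
      rw [Subgroup.commutator_comm]
      exact commutator_pCore_pPrimeCore p
  · unfold Cfsg.pLayer
    rw [sSup_eq_iSup, Subgroup.map_iSup]
    apply iSup_le
    intro K'
    rw [Subgroup.map_iSup]
    apply iSup_le
    intro hK'
    have hperf := map_subtype_perfect (pcomp_perfect hK')
    have hres := pResidual_eq_top_of_perfect p (commutator_eq_top_of_perfect_subgroup hperf)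
    exact le_centralizer_pCore_of_centralizes_pCore_normalizer hP hres
      (map_le_centralizer_map_of_commutator_eq_bot (pcomp_commutator_pCore hK'))

/-- **S1268**: if `F*(G) = O_p(G)` then `F*(N_G(P)) = O_p(N_G(P))` for every `p`-subgroup `P`. -/
theorem gfs_normalizer_eq_pCore (h : Cfsg.generalizedFittingSubgroup G = pCore p G)
    (hP : IsPGroup p P) :
    Cfsg.generalizedFittingSubgroup ↥(Subgroup.normalizer (P : Set G)) =
      pCore p ↥(Subgroup.normalizer (P : Set G)) := by
  have hQ : IsPGroup p (pCore p G) := Cfsg.Agent.Lib.Helper1.pCore_isPGroup p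
  have hCQ : Subgroup.centralizer (pCore p G : Set G) ≤ pCore p G := by
    have := centralizer_gfs_le (G := G)
    rwa [h] at this
  -- O_{p'}(N) = 1
  have hO : pPrimeCore p ↥(Subgroup.normalizer (P : Set G)) = ⊥ := by
    have h1 : (pPrimeCore p ↥(Subgroup.normalizer (P : Set G))).map
        (Subgroup.normalizer (P : Set G)).subtype ≤ pCore p G := by
      refine le_trans ?_ ((map_comap_layer_quotient_le_centralizer hP).trans hCQ)
      apply Subgroup.map_mono
      intro x hx
      rw [Subgroup.mem_comap]
      have : QuotientGroup.mk' (pPrimeCore p ↥(Subgroup.normalizer (P : Set G))) x = 1 :=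
        (QuotientGroup.eq_one_iff x).mpr hx
      rw [this]; exact Subgroup.one_mem _
    have h2 : IsPGroup p ↥((pPrimeCore p ↥(Subgroup.normalizer (P : Set G))).map
        (Subgroup.normalizer (P : Set G)).subtype) := hQ.to_le h1
    obtain ⟨n, hn⟩ := IsPGroup.iff_card.mp h2
    rw [Subgroup.card_map_of_injective (Subgroup.subtype_injective _)] at hn
    have h3 : (Nat.card (pPrimeCore p ↥(Subgroup.normalizer (P : Set G)))).Coprime p :=
      pPrimeCore_coprime p
    rw [hn] at h3
    have hn0 : n = 0 := by
      by_contra hne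
      have : p ∣ p ^ n := dvd_pow_self p hne
      have h4 := Nat.Coprime.eq_one_of_dvd h3.symm this
      exact (Fact.out : p.Prime).one_lt.ne' h4
    rw [hn0, pow_zero] at hn
    exact Subgroup.card_eq_one.mp hn
  -- E(N) = 1
  have hE : Cfsg.layer ↥(Subgroup.normalizer (P : Set G)) = ⊥ := by
    rw [eq_bot_iff]
    apply sSup_le
    intro L' hL'
    exfalso
    have hperf := map_subtype_perfect (comp_perfect hL')
    have hres := pResidual_eq_top_of_perfect p (commutator_eq_top_of_perfect_subgroup hperf)
    have hLC : L'.map (Subgroup.normalizer (P : Set G)).subtype ≤ pCore p G :=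
      (le_centralizer_pCore_of_centralizes_pCore_normalizer hP hres
        (comp_map_le_centralizer_map_pCore p hL')).trans hCQ
    have h2 : IsPGroup p ↥(L'.map (Subgroup.normalizer (P : Set G)).subtype) := hQ.to_le hLC
    have h3 : IsPGroup p ↥L' :=
      h2.of_equiv (L'.equivMapOfInjective _ (Subgroup.subtype_injective _)).symm
    have h4 : Group.IsSolvable ↥L' := by
      have := h3.isNilpotent
      infer_instance
    exact comp_not_le_of_isSolvable hL' h4 le_rfl
  unfold Cfsg.generalizedFittingSubgroup
  rw [hE, bot_sup_eq]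
  exact Cfsg.Agent.Lib.Helper1.fittingSubgroup_eq_pCore_of_pPrimeCore_eq_bot p hO

end Normalizer

end Cfsg.Agent.Lib.Helper9
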