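import Mathlib
import Cfsg.Prelude
import Cfsg.Agent.Lib.Helper1.Coprime
import Cfsg.Agent.Lib.Helper9.Misc

/-!
# Signalizer functors: basic closure properties of the family.
-/

set_option autoImplicit false

namespace Cfsg.Agent.Lib.Helper9

open Cfsg Cfsg.Agent.Lib.Helper1

universe u

variable {G : Type u} [Group G]

/-- the surjection `Y → (X ⊔ Y) / X` when `Y` normalizes `X` -/
theorem sup_quotient_surjective {X Y : Subgroup G} (h : Y ≤ Subgroup.normalizer (X : Set G))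
    [hn : (X.subgroupOf (X ⊔ Y)).Normal] :
    Function.Surjective ((QuotientGroup.mk' (X.subgroupOf (X ⊔ Y))).comp
      (Subgroup.inclusion (le_sup_right : Y ≤ X ⊔ Y))) := by
  intro q
  induction q using QuotientGroup.induction_on with
  | H k =>
    obtain ⟨x, hx, y, hy, hxy⟩ := (mem_sup_of_le_normalizer h).mp k.2
    refine ⟨⟨y, hy⟩, ?_⟩
    rw [MonoidHom.comp_apply, QuotientGroup.mk'_apply, QuotientGroup.eq]
    rw [Subgroup.mem_subgroupOf]
    show ((Subgroup.inclusion (le_sup_right : Y ≤ X ⊔ Y) ⟨y, hy⟩)⁻¹ * k : ↥(X ⊔ Y)).1 ∈ X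
    have : ((Subgroup.inclusion (le_sup_right : Y ≤ X ⊔ Y) ⟨y, hy⟩)⁻¹ * k : ↥(X ⊔ Y)).1 = y⁻¹ * (x * y) := by
      rw [hxy]; rfl
    rw [this]
    have hy' := h (Y.inv_mem hy)
    have := (Subgroup.mem_normalizer_iff.mp hy' x).mp hx
    simpa [mul_assoc] using this

theorem normal_subgroupOf_sup_of_le_normalizer' {X Y : Subgroup G}
    (h : Y ≤ Subgroup.normalizer (X : Set G)) : (X.subgroupOf (X ⊔ Y)).Normal := by
  rw [Subgroup.normal_subgroupOf_iff_le_normalizer le_sup_left]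
  exact sup_le Subgroup.le_normalizer h

theorem isSolvable_sup_of_le_normalizer {X Y : Subgroup G} (hX : Group.IsSolvable ↥X)
    (hY : Group.IsSolvable ↥Y) (h : Y ≤ Subgroup.normalizer (X : Set G)) :
    Group.IsSolvable ↥(X ⊔ Y) := by
  have hn := normal_subgroupOf_sup_of_le_normalizer' h
  rw [Group.isSolvable_iff_subgroup_quotient (X.subgroupOf (X ⊔ Y))]
  constructor
  · exact Group.isSolvable_of_isSolvable_injective
      (f := (Subgroup.subgroupOfEquivOfLe (le_sup_left : X ≤ X ⊔ Y)).toMonoidHom)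
      (Subgroup.subgroupOfEquivOfLe (le_sup_left : X ≤ X ⊔ Y)).injective
  · exact Group.isSolvable_of_surjective (sup_quotient_surjective h)

theorem card_sup_dvd_of_le_normalizer [Finite G] {X Y : Subgroup G}
    (h : Y ≤ Subgroup.normalizer (X : Set G)) :
    Nat.card ↥(X ⊔ Y) ∣ Nat.card X * Nat.card Y := by
  have hn := normal_subgroupOf_sup_of_le_normalizer' h
  rw [Subgroup.card_eq_card_quotient_mul_card_subgroup (X.subgroupOf (X ⊔ Y)), mul_comm]
  apply Nat.mul_dvd_mul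
  · rw [Nat.card_congr (Subgroup.subgroupOfEquivOfLe (le_sup_left : X ≤ X ⊔ Y)).toEquiv]
  · exact Subgroup.card_dvd_of_surjective _ (sup_quotient_surjective h)

theorem mem_centralizer_zpowers_iff {a g : G} :
    g ∈ Subgroup.centralizer ((Subgroup.zpowers a : Subgroup G) : Set G) ↔
      g ∈ Subgroup.centralizer ({a} : Set G) := by
  rw [Subgroup.zpowers_eq_closure, Subgroup.centralizer_closure]

theorem zpowers_le_normalizer_of_conj_mem [Finite G] {a : G} {U : Subgroup G}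
    (h : ∀ u ∈ U, a * u * a⁻¹ ∈ U) : Subgroup.zpowers a ≤ Subgroup.normalizer (U : Set G) := by
  rw [Subgroup.zpowers_le]
  have hle : U.map (MulAut.conj a).toMonoidHom ≤ U := by
    rintro _ ⟨u, hu, rfl⟩
    simpa [MulAut.conj_apply] using h u hu
  exact mem_normalizer_of_conjMap_eq_self (conjMap_eq_of_le hle)

/-- **S1280**: the family of a signalizer functor is closed under products `XY` with `Y ≤ N(X)`. -/
theorem signalizerFamily_sup [Finite G] {p : ℕ} [Fact p.Prime] {A : Subgroup G}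
    (hA : Cfsg.IsElementaryAbelian p A) {θ : G → Subgroup G} {X Y : Subgroup G}
    (hX : X ∈ Cfsg.signalizerFamily p A θ) (hY : Y ∈ Cfsg.signalizerFamily p A θ)
    (hn : Y ≤ Subgroup.normalizer (X : Set G)) : X ⊔ Y ∈ Cfsg.signalizerFamily p A θ := by
  obtain ⟨hXs, hXp, hXA, hXθ⟩ := hX
  obtain ⟨hYs, hYp, hYA, hYθ⟩ := hY
  have hp : p.Prime := Fact.out
  have hKp : ¬ p ∣ Nat.card ↥(X ⊔ Y) := by
    intro hdvd
    have := hdvd.trans (card_sup_dvd_of_le_normalizer hn)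
    rcases (Nat.Prime.dvd_mul hp).mp this with h | h
    · exact hXp h
    · exact hYp h
  have hKA : ∀ b ∈ A, ∀ u ∈ X ⊔ Y, b * u * b⁻¹ ∈ X ⊔ Y := by
    intro b hb u hu
    obtain ⟨x, hx, y, hy, rfl⟩ := (mem_sup_of_le_normalizer hn).mp hu
    have : b * (x * y) * b⁻¹ = (b * x * b⁻¹) * (b * y * b⁻¹) := by group
    rw [this]
    exact Subgroup.mul_mem _ (Subgroup.mem_sup_left (hXA b hb x hx))
      (Subgroup.mem_sup_right (hYA b hb y hy))
  refine ⟨isSolvable_sup_of_le_normalizer hXs hYs hn, hKp, hKA, ?_⟩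
  intro a ha ha1
  -- coprime action of ⟨a⟩ on X ⊔ Y
  have hoa : orderOf a = p := orderOf_eq_prime (hA.2 a ha) ha1
  have hact : CoprimeAct (Subgroup.zpowers a) (X ⊔ Y) :=
    { norm := zpowers_le_normalizer_of_conj_mem (hKA a ha)
      cop := by
        rw [Nat.card_zpowers, hoa]
        exact (Nat.Prime.coprime_iff_not_dvd hp).mpr hKp
      solv := Or.inr (isSolvable_sup_of_le_normalizer hXs hYs hn) }
  intro k hk
  obtain ⟨hkK, hkC⟩ := Subgroup.mem_inf.mp hk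
  have hk' : k ∈ (X ⊔ Y) ⊓ Subgroup.centralizer ((Subgroup.zpowers a : Subgroup G) : Set G) :=
    Subgroup.mem_inf.mpr ⟨hkK, mem_centralizer_zpowers_iff.mpr hkC⟩
  obtain ⟨x, hx, y, hy, rfl⟩ := hact.centralizer_mul le_sup_left le_sup_right
    (zpowers_le_normalizer_of_conj_mem (hXA a ha)) (zpowers_le_normalizer_of_conj_mem (hYA a ha))
    (fun k hk => by
      obtain ⟨x, hx, y, hy, h⟩ := (mem_sup_of_le_normalizer hn).mp hk
      exact ⟨x, hx, y, hy, h.symm⟩) k hk'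
  obtain ⟨hxX, hxC⟩ := Subgroup.mem_inf.mp hx
  obtain ⟨hyY, hyC⟩ := Subgroup.mem_inf.mp hy
  exact Subgroup.mul_mem _
    (hXθ a ha ha1 (Subgroup.mem_inf.mpr ⟨hxX, mem_centralizer_zpowers_iff.mp hxC⟩))
    (hYθ a ha ha1 (Subgroup.mem_inf.mpr ⟨hyY, mem_centralizer_zpowers_iff.mp hyC⟩))

/-- **S1281**: balance passes to quotients by normal `p'`-subgroups. -/
theorem signalizer_quotient_balance [Finite G] {p : ℕ} [Fact p.Prime] {A : Subgroup G}
    (hA : Cfsg.IsElementaryAbelian p A) {θ : G → Subgroup G}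
    (hθ : Cfsg.IsSignalizerFunctor p A θ) (N : Subgroup G) [hNn : N.Normal]
    (hN : ¬ p ∣ Nat.card ↥N) {a b : G} (ha : a ∈ A) (ha1 : a ≠ 1) (hb : b ∈ A) (hb1 : b ≠ 1) :
    (θ a).map (QuotientGroup.mk' N) ⊓ Subgroup.centralizer {QuotientGroup.mk' N b} ≤
      (θ b).map (QuotientGroup.mk' N) := by
  obtain ⟨h1, h2, h3, h4⟩ := hθ
  have hp : p.Prime := Fact.out
  have hnorm : θ a ≤ Subgroup.normalizer (N : Set G) := by
    rw [Subgroup.normalizer_eq_top_iff.mpr hNn]; exact le_top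
  -- K = N ⊔ θ a
  have hKp : ¬ p ∣ Nat.card ↥(N ⊔ θ a) := by
    intro hdvd
    have := hdvd.trans (card_sup_dvd_of_le_normalizer hnorm)
    rcases (Nat.Prime.dvd_mul hp).mp this with h | h
    · exact hN h
    · exact h2 a ha ha1 h
  have hbN : ∀ u ∈ N, b * u * b⁻¹ ∈ N := fun u hu => hNn.conj_mem u hu b
  have hbθ : ∀ u ∈ θ a, b * u * b⁻¹ ∈ θ a := fun u hu => h3 a ha ha1 b hb u hu
  have hbK : ∀ u ∈ N ⊔ θ a, b * u * b⁻¹ ∈ N ⊔ θ a := by
    intro u hu
    obtain ⟨n, hn, x, hx, rfl⟩ := (mem_sup_of_le_normalizer hnorm).mp hu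
    have : b * (n * x) * b⁻¹ = (b * n * b⁻¹) * (b * x * b⁻¹) := by group
    rw [this]
    exact Subgroup.mul_mem _ (Subgroup.mem_sup_left (hbN n hn)) (Subgroup.mem_sup_right (hbθ x hx))
  have hob : orderOf b = p := orderOf_eq_prime (hA.2 b hb) hb1
  have hact : CoprimeAct (Subgroup.zpowers b) (N ⊔ θ a) :=
    { norm := zpowers_le_normalizer_of_conj_mem hbK
      cop := by
        rw [Nat.card_zpowers, hob]
        exact (Nat.Prime.coprime_iff_not_dvd hp).mpr hKp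
      solv := Or.inl (Group.isSolvable_of_comm (fun x y => mul_comm' x y)) }
  rintro xb hxb
  obtain ⟨hxθ, hxc⟩ := Subgroup.mem_inf.mp hxb
  obtain ⟨x, hx, rfl⟩ := hxθ
  have hcomm := (Subgroup.mem_centralizer_iff.mp hxc) _ rfl
  -- x⁻¹ (c x c⁻¹) ∈ N for c ∈ ⟨b⟩
  have hfix : ∀ c ∈ Subgroup.zpowers b, x⁻¹ * (c * x * c⁻¹) ∈ N := by
    rintro _ ⟨k, rfl⟩
    rw [← QuotientGroup.eq_one_iff]
    have e : ((x⁻¹ * ((fun n : ℤ => b ^ n) k * x * ((fun n : ℤ => b ^ n) k)⁻¹) : G) : G ⧸ N) =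
        (QuotientGroup.mk' N x)⁻¹ * ((QuotientGroup.mk' N b) ^ k * (QuotientGroup.mk' N x) *
          ((QuotientGroup.mk' N b) ^ k)⁻¹) := by
      simp
    rw [e]
    have hck : (QuotientGroup.mk' N b) ^ k * (QuotientGroup.mk' N x) =
        (QuotientGroup.mk' N x) * (QuotientGroup.mk' N b) ^ k :=
      ((Commute.zpow_left (show Commute (QuotientGroup.mk' N b) (QuotientGroup.mk' N x) from hcomm) k)).eq
    rw [hck]; group
  obtain ⟨u, hu, hxu⟩ := hact.exists_mul_mem_centralizer le_sup_left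
    (zpowers_le_normalizer_of_conj_mem hbN) x (Subgroup.mem_sup_right hx) hfix
  obtain ⟨n₁, hn₁, y₁, hy₁, hny⟩ := hact.centralizer_mul le_sup_left le_sup_right
    (zpowers_le_normalizer_of_conj_mem hbN) (zpowers_le_normalizer_of_conj_mem hbθ)
    (fun k hk => by
      obtain ⟨n, hn, y, hy, h⟩ := (mem_sup_of_le_normalizer hnorm).mp hk
      exact ⟨n, hn, y, hy, h.symm⟩) (x * u) hxu
  obtain ⟨hy₁θ, hy₁C⟩ := Subgroup.mem_inf.mp hy₁
  have hy₁b : y₁ ∈ θ b :=
    h4 a ha ha1 b hb hb1 (Subgroup.mem_inf.mpr ⟨hy₁θ, mem_centralizer_zpowers_iff.mp hy₁C⟩)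
  refine ⟨y₁, hy₁b, ?_⟩
  have e1 : QuotientGroup.mk' N (x * u) = QuotientGroup.mk' N x := by
    rw [map_mul]
    have : QuotientGroup.mk' N u = 1 := (QuotientGroup.eq_one_iff u).mpr hu
    rw [this, mul_one]
  have e2 : QuotientGroup.mk' N (n₁ * y₁) = QuotientGroup.mk' N y₁ := by
    rw [map_mul]
    have : QuotientGroup.mk' N n₁ = 1 := (QuotientGroup.eq_one_iff n₁).mpr (Subgroup.mem_inf.mp hn₁).1
    rw [this, one_mul]
  rw [← e2, ← hny, e1]

end Cfsg.Agent.Lib.Helper9
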