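import Mathlib
import Cfsg.Prelude
import Cfsg.Agent.Lib.Helper9.AxB
import Cfsg.Agent.Lib.Helper10.Transport
import Cfsg.Agent.Lib.Helper10.Layer
import Cfsg.Agent.Lib.Helper9.Signalizer
import Cfsg.Agent.Lib.Helper17.Basic
import Cfsg.Agent.Lib.Helper18.Basic

/-!
# Groups of characteristic `p` type: `F*(H)` a `p`-group, for subgroups `H` of an ambient group.
-/

set_option autoImplicit false

namespace Cfsg.Agent.Lib.Helper9

open Cfsg

universe u

section Basic

variable {H : Type u} [Group H] [Finite H] {p : ℕ} [Fact p.Prime]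

theorem gfs_eq_pCore_of_isPGroup
    (h : IsPGroup p ↥(Cfsg.generalizedFittingSubgroup H)) :
    Cfsg.generalizedFittingSubgroup H = pCore p H := by
  apply le_antisymm
  · exact Cfsg.Agent.Lib.Helper1.le_pCore gfs_normal h
  · exact (Cfsg.Agent.Lib.Helper1.pCore_le_fittingSubgroup p).trans fitting_le_gfs

theorem isPGroup_gfs_of_eq_pCore (h : Cfsg.generalizedFittingSubgroup H = pCore p H) :
    IsPGroup p ↥(Cfsg.generalizedFittingSubgroup H) := by
  rw [h]; exact Cfsg.Agent.Lib.Helper1.pCore_isPGroup p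

omit [Finite H] [Fact p.Prime] in
theorem isPGroup_gfs_of_mulEquiv {H' : Type*} [Group H'] (e : H ≃* H')
    (h : IsPGroup p ↥(Cfsg.generalizedFittingSubgroup H)) :
    IsPGroup p ↥(Cfsg.generalizedFittingSubgroup H') := by
  rw [← Cfsg.Agent.Lib.Helper10.map_generalizedFittingSubgroup e]
  exact h.map _

/-- if `F*(H)` is a `p`-group then `O_{p'}(H) = 1` -/
theorem pPrimeCore_eq_bot_of_isPGroup_gfs (h : IsPGroup p ↥(Cfsg.generalizedFittingSubgroup H)) :
    pPrimeCore p H = ⊥ := by
  -- O_{p'}(H) centralizes O_p(H) = F*(H), hence lies in F*(H)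
  have h1 := gfs_eq_pCore_of_isPGroup h
  have h2 : pPrimeCore p H ≤ Subgroup.centralizer (Cfsg.generalizedFittingSubgroup H : Set H) := by
    rw [h1, ← Subgroup.commutator_eq_bot_iff_le_centralizer, Subgroup.commutator_comm]
    exact commutator_pCore_pPrimeCore p
  have h3 : pPrimeCore p H ≤ pCore p H := by rw [← h1]; exact h2.trans centralizer_gfs_le
  rw [eq_bot_iff, ← pCore_inf_pPrimeCore (G := H) p]
  exact le_inf h3 le_rfl

/-- if `F*(H)` is a `p`-group then `E(H) = 1` -/
theorem layer_eq_bot_of_isPGroup_gfs (h : IsPGroup p ↥(Cfsg.generalizedFittingSubgroup H)) :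
    Cfsg.layer H = ⊥ := by
  rw [eq_bot_iff]
  apply sSup_le
  intro L hL
  exfalso
  have h2 : IsPGroup p ↥L := h.to_le ((comp_le_layer hL).trans layer_le_gfs)
  have h4 : Group.IsSolvable ↥L := by
    have := h2.isNilpotent
    infer_instance
  exact comp_not_le_of_isSolvable hL h4 le_rfl

/-- converse: `E(H) = 1` and `O_{p'}(H) = 1` imply `F*(H)` is a `p`-group -/
theorem isPGroup_gfs_of_layer_pPrimeCore_eq_bot (hE : Cfsg.layer H = ⊥) (hO : pPrimeCore p H = ⊥) :
    IsPGroup p ↥(Cfsg.generalizedFittingSubgroup H) := by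
  unfold Cfsg.generalizedFittingSubgroup
  rw [hE, bot_sup_eq, Cfsg.Agent.Lib.Helper1.fittingSubgroup_eq_pCore_of_pPrimeCore_eq_bot p hO]
  exact Cfsg.Agent.Lib.Helper1.pCore_isPGroup p

/-- a subgroup with trivial image in a quotient lies in the kernel -/
theorem le_of_map_mk_eq_bot {X : Type*} [Group X] {N L : Subgroup X} [N.Normal]
    (h : L.map (QuotientGroup.mk' N) = ⊥) : L ≤ N := by
  intro x hx
  have : QuotientGroup.mk' N x ∈ L.map (QuotientGroup.mk' N) := Subgroup.mem_map_of_mem _ hx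
  rw [h, Subgroup.mem_bot] at this
  exact (QuotientGroup.eq_one_iff x).mp this

/-- **T3**: if `N ⊴ H` with `H/N` a `p`-group and `F*(N)` a `p`-group then `F*(H)` is a `p`-group -/
theorem isPGroup_gfs_of_quotient_isPGroup (N : Subgroup H) [N.Normal] (hq : IsPGroup p (H ⧸ N))
    (hN : IsPGroup p ↥(Cfsg.generalizedFittingSubgroup ↥N)) :
    IsPGroup p ↥(Cfsg.generalizedFittingSubgroup H) := by
  apply isPGroup_gfs_of_layer_pPrimeCore_eq_bot
  · rw [eq_bot_iff]
    apply sSup_le
    intro L hL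
    exfalso
    have hLN : L ≤ N := by
      apply le_of_map_mk_eq_bot
      rcases comp_map_of_surjective (QuotientGroup.mk'_surjective N) hL with h | h
      · exact h
      · exfalso
        have h2 : IsPGroup p ↥(L.map (QuotientGroup.mk' N)) := hq.to_subgroup _
        have h4 : Group.IsSolvable ↥(L.map (QuotientGroup.mk' N)) := by
          have := h2.isNilpotent
          infer_instance
        exact comp_not_le_of_isSolvable h h4 le_rfl
    have h1 := comp_le_layer (isComponent_subgroupOf hL hLN)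
    rw [layer_eq_bot_of_isPGroup_gfs hN, le_bot_iff] at h1
    apply comp_ne_bot hL
    rw [eq_bot_iff]
    intro x hx
    have : (⟨x, hLN hx⟩ : ↥N) ∈ L.subgroupOf N := Subgroup.mem_subgroupOf.mpr hx
    rw [h1, Subgroup.mem_bot] at this
    rw [Subgroup.mem_bot]
    exact congrArg Subtype.val this
  · have hWn : (pPrimeCore p H).Normal := Cfsg.Agent.Lib.Helper1.pPrimeCore_normal p
    have hWc : (Nat.card (pPrimeCore p H)).Coprime p := Cfsg.Agent.Lib.Helper1.pPrimeCore_coprime p
    have hWN : pPrimeCore p H ≤ N := by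
      apply le_of_map_mk_eq_bot
      have h2 : IsPGroup p ↥((pPrimeCore p H).map (QuotientGroup.mk' N)) := hq.to_subgroup _
      obtain ⟨n, hn⟩ := IsPGroup.iff_card.mp h2
      have h3 : Nat.card ↥((pPrimeCore p H).map (QuotientGroup.mk' N)) ∣ Nat.card (pPrimeCore p H) :=
        Subgroup.card_map_dvd _ _
      rw [hn] at h3
      have hn0 : n = 0 := by
        by_contra hne
        have h4 : p ∣ Nat.card (pPrimeCore p H) := (dvd_pow_self p hne).trans h3
        have := Nat.Coprime.eq_one_of_dvd hWc.symm h4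
        exact (Fact.out : p.Prime).one_lt.ne' this
      rw [hn0, pow_zero] at hn
      exact Subgroup.card_eq_one.mp hn
    have h1 : (pPrimeCore p H).subgroupOf N ≤ pPrimeCore p ↥N := by
      apply Cfsg.Agent.Lib.Helper1.le_pPrimeCore (hWn.subgroupOf N)
      rw [Nat.card_congr (Subgroup.subgroupOfEquivOfLe hWN).toEquiv]
      exact hWc
    rw [pPrimeCore_eq_bot_of_isPGroup_gfs hN, le_bot_iff] at h1
    rw [eq_bot_iff]
    intro x hx
    have : (⟨x, hWN hx⟩ : ↥N) ∈ (pPrimeCore p H).subgroupOf N := Subgroup.mem_subgroupOf.mpr hx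
    rw [h1, Subgroup.mem_bot] at this
    rw [Subgroup.mem_bot]
    exact congrArg Subtype.val this

/-- if `C_H(O_p(H)) ≤ M` and `F*(M)` is a `p`-group then `F*(H)` is a `p`-group -/
theorem isPGroup_gfs_of_centralizer_pCore_le (M : Subgroup H)
    (hM : Subgroup.centralizer (pCore p H : Set H) ≤ M)
    (hΦ : IsPGroup p ↥(Cfsg.generalizedFittingSubgroup ↥M)) :
    IsPGroup p ↥(Cfsg.generalizedFittingSubgroup H) := by
  apply isPGroup_gfs_of_layer_pPrimeCore_eq_bot
  · rw [eq_bot_iff]
    apply sSup_le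
    intro L hL
    exfalso
    have h0 : Cfsg.layer H ≤ Subgroup.centralizer (Cfsg.fittingSubgroup H : Set H) :=
      Subgroup.commutator_eq_bot_iff_le_centralizer.mp commutator_layer_fitting
    have hLM : L ≤ M := (comp_le_layer hL).trans (h0.trans
      ((Subgroup.centralizer_le (Cfsg.Agent.Lib.Helper1.pCore_le_fittingSubgroup p)).trans hM))
    have h1 := comp_le_layer (isComponent_subgroupOf hL hLM)
    rw [layer_eq_bot_of_isPGroup_gfs hΦ, le_bot_iff] at h1
    apply comp_ne_bot hL
    rw [eq_bot_iff]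
    intro x hx
    have : (⟨x, hLM hx⟩ : ↥M) ∈ L.subgroupOf M := Subgroup.mem_subgroupOf.mpr hx
    rw [h1, Subgroup.mem_bot] at this
    rw [Subgroup.mem_bot]
    exact congrArg Subtype.val this
  · have hWn : (pPrimeCore p H).Normal := Cfsg.Agent.Lib.Helper1.pPrimeCore_normal p
    have hWc : (Nat.card (pPrimeCore p H)).Coprime p := Cfsg.Agent.Lib.Helper1.pPrimeCore_coprime p
    have hWM : pPrimeCore p H ≤ M := by
      refine le_trans ?_ hM
      rw [← Subgroup.commutator_eq_bot_iff_le_centralizer, Subgroup.commutator_comm]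
      exact commutator_pCore_pPrimeCore p
    have h1 : (pPrimeCore p H).subgroupOf M ≤ pPrimeCore p ↥M := by
      apply Cfsg.Agent.Lib.Helper1.le_pPrimeCore (hWn.subgroupOf M)
      rw [Nat.card_congr (Subgroup.subgroupOfEquivOfLe hWM).toEquiv]
      exact hWc
    rw [pPrimeCore_eq_bot_of_isPGroup_gfs hΦ, le_bot_iff] at h1
    rw [eq_bot_iff]
    intro x hx
    have : (⟨x, hWM hx⟩ : ↥M) ∈ (pPrimeCore p H).subgroupOf M := Subgroup.mem_subgroupOf.mpr hx
    rw [h1, Subgroup.mem_bot] at this
    rw [Subgroup.mem_bot]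
    exact congrArg Subtype.val this

end Basic

section Ambient

variable {G : Type u} [Group G] [Finite G] {p : ℕ} [Fact p.Prime]

/-- **T1**: `F*(Y)` a `p`-group, `U ≤ Y` a `p`-subgroup: `F*(N_Y(U))` is a `p`-group. -/
theorem isPGroup_gfs_normalizer_inf {Y U : Subgroup G} (hUY : U ≤ Y) (hU : IsPGroup p U)
    (hY : IsPGroup p ↥(Cfsg.generalizedFittingSubgroup ↥Y)) :
    IsPGroup p ↥(Cfsg.generalizedFittingSubgroup ↥(Subgroup.normalizer (U : Set G) ⊓ Y)) := by
  have hP : IsPGroup p (U.subgroupOf Y) := hU.comap_subtype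
  have h1 := gfs_normalizer_eq_pCore (gfs_eq_pCore_of_isPGroup hY) hP
  have h2 := isPGroup_gfs_of_eq_pCore h1
  have e1 : Subgroup.normalizer ((U.subgroupOf Y : Subgroup ↥Y) : Set ↥Y) =
      (Subgroup.normalizer (U : Set G)).subgroupOf Y := (Subgroup.subgroupOf_normalizer_eq hUY).symm
  have e2 : ((Subgroup.normalizer (U : Set G)).subgroupOf Y).map Y.subtype =
      Subgroup.normalizer (U : Set G) ⊓ Y := Subgroup.subgroupOf_map_subtype _ _
  exact isPGroup_gfs_of_mulEquiv
    ((MulEquiv.subgroupCongr e1).trans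
      ((((Subgroup.normalizer (U : Set G)).subgroupOf Y).equivMapOfInjective Y.subtype
        Y.subtype_injective).trans (MulEquiv.subgroupCongr e2))) h2

/-- **T2**: `F*(M)` a `p`-group, `K ⊴ M`: `F*(K)` is a `p`-group. -/
theorem isPGroup_gfs_of_normal_le {K M : Subgroup G} (hKM : K ≤ M) (hn : (K.subgroupOf M).Normal)
    (hM : IsPGroup p ↥(Cfsg.generalizedFittingSubgroup ↥M)) :
    IsPGroup p ↥(Cfsg.generalizedFittingSubgroup ↥K) := by
  have h1 := Cfsg.Agent.Lib.Helper10.map_gfs_le_of_subnormal hn.isSubnormal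
  have h2 : IsPGroup p ↥((Cfsg.generalizedFittingSubgroup ↥(K.subgroupOf M)).map
      (K.subgroupOf M).subtype) := hM.to_le (h1.trans inf_le_left)
  have h3 : IsPGroup p ↥(Cfsg.generalizedFittingSubgroup ↥(K.subgroupOf M)) :=
    h2.of_equiv ((Cfsg.generalizedFittingSubgroup ↥(K.subgroupOf M)).equivMapOfInjective _
      (Subgroup.subtype_injective _)).symm
  exact isPGroup_gfs_of_mulEquiv (Subgroup.subgroupOfEquivOfLe hKM) h3

/-- **T3** for subgroups of an ambient group. -/
theorem isPGroup_gfs_of_normal_pIndex {H Y : Subgroup G} (hHY : H ≤ Y)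
    [hn : (H.subgroupOf Y).Normal] (hq : IsPGroup p (↥Y ⧸ H.subgroupOf Y))
    (hH : IsPGroup p ↥(Cfsg.generalizedFittingSubgroup ↥H)) :
    IsPGroup p ↥(Cfsg.generalizedFittingSubgroup ↥Y) :=
  isPGroup_gfs_of_quotient_isPGroup (H.subgroupOf Y) hq
    (isPGroup_gfs_of_mulEquiv (Subgroup.subgroupOfEquivOfLe hHY).symm hH)

/-- one step of **S1246**: `V ⊴ W` `p`-groups. -/
theorem isPGroup_gfs_centralizer_step {V W : Subgroup G} (hVW : V ≤ W) (hW : IsPGroup p W)
    (hWN : W ≤ Subgroup.normalizer (V : Set G))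
    (hV : IsPGroup p ↥(Cfsg.generalizedFittingSubgroup ↥(Subgroup.centralizer (V : Set G)))) :
    IsPGroup p ↥(Cfsg.generalizedFittingSubgroup ↥(Subgroup.centralizer (W : Set G))) := by
  have hWH : W ≤ Subgroup.normalizer ((Subgroup.centralizer (V : Set G) : Subgroup G) : Set G) :=
    hWN.trans (Cfsg.Agent.Lib.Helper17.normalizer_le_normalizer_centralizer V)
  have hn := normal_subgroupOf_sup_of_le_normalizer' hWH
  have hq : IsPGroup p (↥(Subgroup.centralizer (V : Set G) ⊔ W) ⧸
      (Subgroup.centralizer (V : Set G)).subgroupOf (Subgroup.centralizer (V : Set G) ⊔ W)) :=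
    hW.of_surjective _ (sup_quotient_surjective hWH)
  have hY := isPGroup_gfs_of_normal_pIndex le_sup_left hq hV
  have hNY := isPGroup_gfs_normalizer_inf (le_sup_right : W ≤ Subgroup.centralizer (V : Set G) ⊔ W) hW hY
  have hKle : Subgroup.centralizer (W : Set G) ≤
      Subgroup.normalizer (W : Set G) ⊓ (Subgroup.centralizer (V : Set G) ⊔ W) :=
    le_inf (Subgroup.centralizer_le_normalizer _)
      ((Subgroup.centralizer_le hVW).trans le_sup_left)
  have hKn : ((Subgroup.centralizer (W : Set G)).subgroupOf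
      (Subgroup.normalizer (W : Set G) ⊓ (Subgroup.centralizer (V : Set G) ⊔ W))).Normal := by
    rw [Subgroup.normal_subgroupOf_iff_le_normalizer hKle]
    exact inf_le_left.trans (Cfsg.Agent.Lib.Helper17.normalizer_le_normalizer_centralizer W)
  exact isPGroup_gfs_of_normal_le hKle hKn hNY

theorem isPGroup_gfs_centralizer_of_le_aux (n : ℕ) : ∀ (V U : Subgroup G), V ≤ U → IsPGroup p U →
    Nat.card U - Nat.card V = n →
    IsPGroup p ↥(Cfsg.generalizedFittingSubgroup ↥(Subgroup.centralizer (V : Set G))) →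
    IsPGroup p ↥(Cfsg.generalizedFittingSubgroup ↥(Subgroup.centralizer (U : Set G))) := by
  induction n using Nat.strong_induction_on with
  | _ n ih =>
    intro V U hVU hU hn hV
    by_cases hEq : V = U
    · rw [← hEq]; exact hV
    · have hlt : V < U := lt_of_le_of_ne hVU hEq
      obtain ⟨t, htU, htV, htN⟩ :=
        Cfsg.Agent.Lib.Helper18.exists_mem_normalizer_not_mem_of_lt V U hU hlt
      have hV₁ : IsPGroup p ↥(Subgroup.normalizer (V : Set G) ⊓ U) := hU.to_le inf_le_right
      have hVV₁ : V ≤ Subgroup.normalizer (V : Set G) ⊓ U := le_inf Subgroup.le_normalizer hVU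
      have hstep := isPGroup_gfs_centralizer_step hVV₁ hV₁ inf_le_left hV
      have hcard : Nat.card V < Nat.card ↥(Subgroup.normalizer (V : Set G) ⊓ U) := by
        apply Set.Finite.card_lt_card (Set.toFinite _)
        refine ⟨hVV₁, fun h => htV (h (Subgroup.mem_inf.mpr ⟨htN, htU⟩))⟩
      have hcard2 : Nat.card ↥(Subgroup.normalizer (V : Set G) ⊓ U) ≤ Nat.card U :=
        Subgroup.card_le_of_le inf_le_right
      exact ih (Nat.card U - Nat.card ↥(Subgroup.normalizer (V : Set G) ⊓ U)) (by omega) _ U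
        inf_le_right hU rfl hstep

/-- **S1246** -/
theorem isPGroup_gfs_centralizer_of_le {V U : Subgroup G} (hVU : V ≤ U) (hU : IsPGroup p U)
    (hV : IsPGroup p ↥(Cfsg.generalizedFittingSubgroup ↥(Subgroup.centralizer (V : Set G)))) :
    IsPGroup p ↥(Cfsg.generalizedFittingSubgroup ↥(Subgroup.centralizer (U : Set G))) :=
  isPGroup_gfs_centralizer_of_le_aux _ V U hVU hU rfl hV

end Ambient

end Cfsg.Agent.Lib.Helper9
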