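import Mathlib
import Cfsg.Prelude
import Cfsg.Agent.Lib.Helper9.GfsP

/-!
# Frattini argument for quotients by normal `p'`-subgroups:
`N_{G/O}(PO/O) = N_G(P)O/O` for a `p`-subgroup `P` and a normal `p'`-subgroup `O`.
-/

set_option autoImplicit false

namespace Cfsg.Agent.Lib.Helper9

open Cfsg

universe u

variable {G : Type u} [Group G] [Finite G] {p : ℕ} [Fact p.Prime]

/-- Frattini argument -/
theorem comap_normalizer_map_mk_le {O P : Subgroup G} [hOn : O.Normal]
    (hO : (Nat.card O).Coprime p) (hP : IsPGroup p P) :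
    (Subgroup.normalizer ((P.map (QuotientGroup.mk' O) : Subgroup (G ⧸ O)) : Set (G ⧸ O))).comap
      (QuotientGroup.mk' O) ≤ Subgroup.normalizer (P : Set G) ⊔ O := by
  intro g hg
  rw [Subgroup.mem_comap] at hg
  have hPg : P.map (MulAut.conj g).toMonoidHom ≤ P ⊔ O := by
    intro y hy
    rw [mem_conjMap] at hy
    have h1 : QuotientGroup.mk' O (g⁻¹ * y * g) ∈ P.map (QuotientGroup.mk' O) :=
      Subgroup.mem_map_of_mem _ hy
    have h2 := (Subgroup.mem_normalizer_iff.mp hg _).mp h1
    have e : QuotientGroup.mk' O g * QuotientGroup.mk' O (g⁻¹ * y * g) * (QuotientGroup.mk' O g)⁻¹ =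
        QuotientGroup.mk' O y := by
      rw [← map_inv, ← map_mul, ← map_mul]
      congr 1
      group
    rw [e] at h2
    have h3 : y ∈ (P.map (QuotientGroup.mk' O)).comap (QuotientGroup.mk' O) := h2
    rw [QuotientGroup.comap_map_mk', sup_comm] at h3
    exact h3
  obtain ⟨Q, hQp, hQR, hPQ, k, hkR, hk⟩ :=
    exists_pgroup_conj_le (P ⊔ O) P (P.map (MulAut.conj g).toMonoidHom) hP
      (isPGroup_conjMap hP g) le_sup_left hPg
  -- Q = P by order
  have hQP : Q = P := by
    symm
    apply Subgroup.eq_of_le_of_card_ge hPQ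
    have h1 : Nat.card Q ∣ Nat.card P * Nat.card O :=
      (Subgroup.card_dvd_of_le hQR).trans (Cfsg.Agent.Lib.Helper1.card_sup_dvd_of_normal P O)
    obtain ⟨a, ha⟩ := IsPGroup.iff_card.mp hQp
    have h2 : (Nat.card Q).Coprime (Nat.card O) := by
      rw [ha]; exact Nat.Coprime.pow_left a hO.symm
    exact Nat.le_of_dvd Nat.card_pos (h2.dvd_of_dvd_mul_right h1)
  rw [hQP] at hk
  have hkg : P.map (MulAut.conj (k * g)).toMonoidHom = P := by
    apply conjMap_eq_of_le
    rw [conjMap_mul]; exact hk
  have hkgN : k * g ∈ Subgroup.normalizer (P : Set G) := mem_normalizer_of_conjMap_eq_self hkg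
  have hkN : k ∈ Subgroup.normalizer (P : Set G) ⊔ O :=
    (sup_le_sup_right Subgroup.le_normalizer O) hkR
  have : g = k⁻¹ * (k * g) := by group
  rw [this]
  exact Subgroup.mul_mem _ (Subgroup.inv_mem _ hkN) (Subgroup.mem_sup_left hkgN)

/-- `N_{G/O}(PO/O) = N_G(P)O/O` -/
theorem map_normalizer_eq_normalizer_map {O P : Subgroup G} [hOn : O.Normal]
    (hO : (Nat.card O).Coprime p) (hP : IsPGroup p P) :
    (Subgroup.normalizer (P : Set G)).map (QuotientGroup.mk' O) =
      Subgroup.normalizer ((P.map (QuotientGroup.mk' O) : Subgroup (G ⧸ O)) : Set (G ⧸ O)) := by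
  apply le_antisymm (Subgroup.le_normalizer_map _)
  have h1 := Subgroup.map_mono (f := QuotientGroup.mk' O) (comap_normalizer_map_mk_le hO hP)
  rw [Subgroup.map_comap_eq_self_of_surjective (QuotientGroup.mk'_surjective O), Subgroup.map_sup] at h1
  have h2 : O.map (QuotientGroup.mk' O) = ⊥ := by
    rw [Subgroup.map_eq_bot_iff, QuotientGroup.ker_mk']
  rwa [h2, sup_bot_eq] at h1

omit [Finite G] [Fact p.Prime] in
theorem le_normalizer_map_subtype_of_normal {H : Subgroup G} (W' : Subgroup ↥H) [hn : W'.Normal] :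
    H ≤ Subgroup.normalizer ((W'.map H.subtype : Subgroup G) : Set G) := by
  have h1 := Subgroup.le_normalizer_map (H := W') H.subtype
  rw [Subgroup.normalizer_eq_top_iff.mpr hn, ← MonoidHom.range_eq_map, Subgroup.range_subtype] at h1
  exact h1

/-- **S1293** -/
theorem pLayer_normalizer_eq_bot_and_pPrimeCore_le (hL : pLayer p G = ⊥) {P : Subgroup G}
    (hP : IsPGroup p P) :
    pLayer p ↥(Subgroup.normalizer (P : Set G)) = ⊥ ∧
      (pPrimeCore p ↥(Subgroup.normalizer (P : Set G))).map (Subgroup.normalizer (P : Set G)).subtype ≤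
        pPrimeCore p G := by
  have hOn : (pPrimeCore p G).Normal := Cfsg.Agent.Lib.Helper1.pPrimeCore_normal p
  have hO : (Nat.card (pPrimeCore p G)).Coprime p := Cfsg.Agent.Lib.Helper1.pPrimeCore_coprime p
  have hΦG : IsPGroup p ↥(Cfsg.generalizedFittingSubgroup (G ⧸ pPrimeCore p G)) :=
    isPGroup_gfs_of_layer_pPrimeCore_eq_bot ((Cfsg.Agent.Lib.Helper10.pLayer_eq_bot_iff p).mp hL)
      (Cfsg.Agent.Lib.Helper10.pPrimeCore_quotient_eq_bot p)
  have hPb : IsPGroup p ↥(P.map (QuotientGroup.mk' (pPrimeCore p G))) := hP.map _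
  have hΦN := isPGroup_gfs_of_eq_pCore
    (gfs_normalizer_eq_pCore (gfs_eq_pCore_of_isPGroup hΦG) hPb)
  have hHN := map_normalizer_eq_normalizer_map hO hP
  -- second claim
  have hWn : (pPrimeCore p ↥(Subgroup.normalizer (P : Set G))).Normal :=
    Cfsg.Agent.Lib.Helper1.pPrimeCore_normal p
  have hWc : (Nat.card (pPrimeCore p ↥(Subgroup.normalizer (P : Set G)))).Coprime p :=
    Cfsg.Agent.Lib.Helper1.pPrimeCore_coprime p
  have h2 : (pPrimeCore p ↥(Subgroup.normalizer (P : Set G))).map
      (Subgroup.normalizer (P : Set G)).subtype ≤ pPrimeCore p G := by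
    apply le_of_map_mk_eq_bot
    have hWN : ((pPrimeCore p ↥(Subgroup.normalizer (P : Set G))).map
        (Subgroup.normalizer (P : Set G)).subtype).map (QuotientGroup.mk' (pPrimeCore p G)) ≤
        Subgroup.normalizer ((P.map (QuotientGroup.mk' (pPrimeCore p G)) :
          Subgroup (G ⧸ pPrimeCore p G)) : Set (G ⧸ pPrimeCore p G)) := by
      rw [← hHN]
      exact Subgroup.map_mono (Subgroup.map_subtype_le _)
    have hnorm : (((pPrimeCore p ↥(Subgroup.normalizer (P : Set G))).map
        (Subgroup.normalizer (P : Set G)).subtype).map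
          (QuotientGroup.mk' (pPrimeCore p G))).subgroupOf
        (Subgroup.normalizer ((P.map (QuotientGroup.mk' (pPrimeCore p G)) :
          Subgroup (G ⧸ pPrimeCore p G)) : Set (G ⧸ pPrimeCore p G))) |>.Normal := by
      rw [Subgroup.normal_subgroupOf_iff_le_normalizer hWN, ← hHN]
      exact (Subgroup.map_mono (le_normalizer_map_subtype_of_normal _)).trans
        (Subgroup.le_normalizer_map _)
    have hcard : (Nat.card ((((pPrimeCore p ↥(Subgroup.normalizer (P : Set G))).map
        (Subgroup.normalizer (P : Set G)).subtype).map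
          (QuotientGroup.mk' (pPrimeCore p G))).subgroupOf
        (Subgroup.normalizer ((P.map (QuotientGroup.mk' (pPrimeCore p G)) :
          Subgroup (G ⧸ pPrimeCore p G)) : Set (G ⧸ pPrimeCore p G))))).Coprime p := by
      rw [Nat.card_congr (Subgroup.subgroupOfEquivOfLe hWN).toEquiv]
      refine Nat.Coprime.coprime_dvd_left (Subgroup.card_map_dvd _ _) ?_
      rw [Subgroup.card_map_of_injective (Subgroup.subtype_injective _)]
      exact hWc
    have h3 := Cfsg.Agent.Lib.Helper1.le_pPrimeCore hnorm hcard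
    rw [pPrimeCore_eq_bot_of_isPGroup_gfs hΦN, le_bot_iff] at h3
    rw [eq_bot_iff]
    intro x hx
    have : (⟨x, hWN hx⟩ : ↥(Subgroup.normalizer ((P.map (QuotientGroup.mk' (pPrimeCore p G)) :
          Subgroup (G ⧸ pPrimeCore p G)) : Set (G ⧸ pPrimeCore p G)))) ∈ _ :=
      (Subgroup.mem_subgroupOf (K := Subgroup.normalizer
        ((P.map (QuotientGroup.mk' (pPrimeCore p G)) : Subgroup (G ⧸ pPrimeCore p G)) :
          Set (G ⧸ pPrimeCore p G)))).mpr hx
    rw [h3, Subgroup.mem_bot] at this
    rw [Subgroup.mem_bot]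
    exact congrArg Subtype.val this
  refine ⟨?_, h2⟩
  -- first claim
  rw [Cfsg.Agent.Lib.Helper10.pLayer_eq_bot_iff]
  have hker : ((QuotientGroup.mk' (pPrimeCore p G)).comp
      (Subgroup.normalizer (P : Set G)).subtype).ker =
      pPrimeCore p ↥(Subgroup.normalizer (P : Set G)) := by
    apply le_antisymm
    · have hn' : ((pPrimeCore p G).subgroupOf (Subgroup.normalizer (P : Set G))).Normal :=
        hOn.subgroupOf _
      have hc' : (Nat.card ((pPrimeCore p G).subgroupOf (Subgroup.normalizer (P : Set G)))).Coprime p := by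
        have h1 : Nat.card ((pPrimeCore p G).subgroupOf (Subgroup.normalizer (P : Set G))) ∣
            Nat.card (pPrimeCore p G) := by
          rw [← Subgroup.card_map_of_injective (Subgroup.subtype_injective _),
            Subgroup.subgroupOf_map_subtype]
          exact Subgroup.card_dvd_of_le inf_le_left
        exact Nat.Coprime.coprime_dvd_left h1 hO
      intro x hx
      apply Cfsg.Agent.Lib.Helper1.le_pPrimeCore hn' hc'
      rw [Subgroup.mem_subgroupOf]
      rw [MonoidHom.mem_ker, MonoidHom.comp_apply] at hx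
      exact (QuotientGroup.eq_one_iff _).mp hx
    · intro x hx
      rw [MonoidHom.mem_ker, MonoidHom.comp_apply]
      exact (QuotientGroup.eq_one_iff _).mpr (h2 (Subgroup.mem_map_of_mem _ hx))
  have hrange : ((QuotientGroup.mk' (pPrimeCore p G)).comp
      (Subgroup.normalizer (P : Set G)).subtype).range =
      Subgroup.normalizer ((P.map (QuotientGroup.mk' (pPrimeCore p G)) :
          Subgroup (G ⧸ pPrimeCore p G)) : Set (G ⧸ pPrimeCore p G)) := by
    rw [MonoidHom.range_comp, Subgroup.range_subtype, hHN]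
  have e : (↥(Subgroup.normalizer (P : Set G)) ⧸ pPrimeCore p ↥(Subgroup.normalizer (P : Set G))) ≃*
      ↥(Subgroup.normalizer ((P.map (QuotientGroup.mk' (pPrimeCore p G)) :
          Subgroup (G ⧸ pPrimeCore p G)) : Set (G ⧸ pPrimeCore p G))) :=
    (QuotientGroup.quotientMulEquivOfEq hker.symm).trans
      ((QuotientGroup.quotientKerEquivRange _).trans (MulEquiv.subgroupCongr hrange))
  exact layer_eq_bot_of_isPGroup_gfs (isPGroup_gfs_of_mulEquiv e.symm hΦN)

end Cfsg.Agent.Lib.Helper9
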