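import Mathlib
import Cfsg.Prelude.Def_GeometricClasses
import Cfsg.Agent.Lib.Helper7.SpExtDefs
import Cfsg.Agent.Lib.Helper6.Siegel

/-!
# S5701 (extension-field subgroups `O_{n/r}(q^r)` of `Ω_n^±(q)`, `q` odd): basic definitions

Instance-free vocabulary over a general index type `ι`, on top of `Helper7.SpExtDefs`
(`act`, `actL`, `gl_ext`, `exists_gl`, `orb`, `pt`, `Img`, `Normalizes`, `rho_*_mulVec`).
`ρ : L →ₐ[F] Matrix ι ι F` is the embedded field, `Q` the quadratic form over `F`, `B` the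
`L`-valued symmetric form with `polar Q = τ ∘ B`.
-/

set_option autoImplicit false

namespace Cfsg.Agent.Lib.Helper9.OExt

open Matrix QuadraticMap Module Cfsg.Agent.Lib.Helper7.SpExt

variable {F : Type*} [Field F] {L : Type*} [Field L] [Algebra F L] {ι : Type} [Fintype ι]
  [DecidableEq ι]

/-- `B` is an `L`-bilinear symmetric form on `V = ι → F` (an `L`-space through `ρ`) with
`polar Q = τ ∘ B`; `Q` is nondegenerate and `2 ≠ 0`. -/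
structure OStr (ρ : L →ₐ[F] Matrix ι ι F) (Q : QuadraticForm F (ι → F)) (τ : L →ₗ[F] F)
    (B : (ι → F) →ₗ[F] (ι → F) →ₗ[F] L) : Prop where
  two : (2 : F) ≠ 0
  nondeg : ∀ v, v ≠ 0 → ∃ w, polar (⇑Q) v w ≠ 0
  lin : ∀ a v w, B (ρ a *ᵥ v) w = a * B v w
  symm : ∀ v w, B v w = B w v
  tr : ∀ v w, polar (⇑Q) v w = τ (B v w)

/-- `g` is the `L`-Siegel transformation
`x ↦ x + B(x,w)∙v − B(x,v)∙w − (B(w,w)/2 · B(x,v))∙v` -/
def IsSieg (ρ : L →ₐ[F] Matrix ι ι F) (B : (ι → F) →ₗ[F] (ι → F) →ₗ[F] L) (v w : ι → F)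
    (g : GL ι F) : Prop :=
  ∀ x, act g x = x + ρ (B x w) *ᵥ v - ρ (B x v) *ᵥ w - ρ (B w w / 2 * B x v) *ᵥ v

/-- `H` contains all `L`-Siegel transformations -/
def HasSieg (ρ : L →ₐ[F] Matrix ι ι F) (B : (ι → F) →ₗ[F] (ι → F) →ₗ[F] L)
    (H : Subgroup (GL ι F)) : Prop :=
  ∀ (v w : ι → F) (g : GL ι F), B v v = 0 → B v w = 0 → IsSieg ρ B v w g → g ∈ H

/-- `v` is a nonzero `L`-singular vector -/
def LSing (B : (ι → F) →ₗ[F] (ι → F) →ₗ[F] L) (v : ι → F) : Prop := v ≠ 0 ∧ B v v = 0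

/-- `H` contains the `F`-Siegel transformation `ρ_{u,w}` (helper6's `sieg`) -/
def SiegIn (Q : QuadraticForm F (ι → F)) (H : Subgroup (GL ι F)) (u w : ι → F) : Prop :=
  ∀ g : GL ι F, (∀ x, act g x = Cfsg.Agent.Lib.Helper6.sieg Q u w *ᵥ x) → g ∈ H

/-- two distinct `H`-images of singular `L`-points which meet non-trivially -/
def IPair (ρ : L →ₐ[F] Matrix ι ι F) (B : (ι → F) →ₗ[F] (ι → F) →ₗ[F] L) (H : Subgroup (GL ι F))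
    (h h' : GL ι F) (v v' : ι → F) : Prop :=
  h ∈ H ∧ h' ∈ H ∧ LSing B v ∧ LSing B v' ∧ Img ρ h v ≠ Img ρ h' v' ∧
    Img ρ h v ⊓ Img ρ h' v' ≠ ⊥

/-- an intersecting pair whose members are perpendicular -/
def PPair (ρ : L →ₐ[F] Matrix ι ι F) (Q : QuadraticForm F (ι → F))
    (B : (ι → F) →ₗ[F] (ι → F) →ₗ[F] L) (H : Subgroup (GL ι F))
    (h h' : GL ι F) (v v' : ι → F) : Prop :=
  IPair ρ B H h h' v v' ∧ ∀ x ∈ Img ρ h v, ∀ y ∈ Img ρ h' v', polar (⇑Q) x y = 0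

/-- the configuration produced by the maximal-intersection argument: a singular `L`-point
`pt ρ v₁` and the image under `g₀ ∈ H` of a singular `L`-point, perpendicular and meeting in an
`F`-hyperplane of both. -/
def ConfigA (ρ : L →ₐ[F] Matrix ι ι F) (Q : QuadraticForm F (ι → F))
    (B : (ι → F) →ₗ[F] (ι → F) →ₗ[F] L) (H : Subgroup (GL ι F)) (r : ℕ) (v₁ v₀ : ι → F)
    (g₀ : GL ι F) : Prop :=
  g₀ ∈ H ∧ LSing B v₁ ∧ LSing B v₀ ∧ finrank F ↥(pt ρ v₁ ⊓ Img ρ g₀ v₀) + 1 = r ∧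
    ∀ x ∈ pt ρ v₁, ∀ y ∈ Img ρ g₀ v₀, polar (⇑Q) x y = 0

/-- `H` contains an isometry `y` fixing `pt ρ v₁` pointwise and acting on `v₁^⊥ / L v₁` as the
inverse of the `F`-Siegel element `ρ_{u,ω}`. -/
def IsY (ρ : L →ₐ[F] Matrix ι ι F) (Q : QuadraticForm F (ι → F))
    (B : (ι → F) →ₗ[F] (ι → F) →ₗ[F] L) (H : Subgroup (GL ι F)) (v₁ u ω : ι → F) : Prop :=
  ∃ y : GL ι F, y ∈ H ∧ (∀ c : L, act y (ρ c *ᵥ v₁) = ρ c *ᵥ v₁) ∧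
    ∀ z, B z v₁ = 0 → ∃ d : L, act y⁻¹ z =
      z - polar (⇑Q) z ω • u + polar (⇑Q) z u • ω - (Q ω * polar (⇑Q) z u) • u + ρ d *ᵥ v₁

/-- a maximal intersecting pair, conjugated so that its first member is an `L`-point -/
def MaxI (ρ : L →ₐ[F] Matrix ι ι F) (B : (ι → F) →ₗ[F] (ι → F) →ₗ[F] L) (H : Subgroup (GL ι F))
    (v₁ v₀ : ι → F) (g₀ : GL ι F) : Prop :=
  g₀ ∈ H ∧ LSing B v₁ ∧ LSing B v₀ ∧ pt ρ v₁ ≠ Img ρ g₀ v₀ ∧ pt ρ v₁ ⊓ Img ρ g₀ v₀ ≠ ⊥ ∧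
    ∀ k k' w w', IPair ρ B H k k' w w' →
      finrank F ↥(Img ρ k w ⊓ Img ρ k' w') ≤ finrank F ↥(pt ρ v₁ ⊓ Img ρ g₀ v₀)

/-- a perpendicular intersecting pair, maximal among those, conjugated so that its first member is
an `L`-point -/
def MaxP (ρ : L →ₐ[F] Matrix ι ι F) (Q : QuadraticForm F (ι → F))
    (B : (ι → F) →ₗ[F] (ι → F) →ₗ[F] L) (H : Subgroup (GL ι F))
    (v₁ v₀ : ι → F) (g₀ : GL ι F) : Prop :=
  g₀ ∈ H ∧ LSing B v₁ ∧ LSing B v₀ ∧ pt ρ v₁ ≠ Img ρ g₀ v₀ ∧ pt ρ v₁ ⊓ Img ρ g₀ v₀ ≠ ⊥ ∧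
    (∀ x ∈ pt ρ v₁, ∀ y ∈ Img ρ g₀ v₀, polar (⇑Q) x y = 0) ∧
    ∀ k k' w w', PPair ρ Q B H k k' w w' →
      finrank F ↥(Img ρ k w ⊓ Img ρ k' w') ≤ finrank F ↥(pt ρ v₁ ⊓ Img ρ g₀ v₀)

end Cfsg.Agent.Lib.Helper9.OExt
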