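import Mathlib
import Cfsg.Agent.Lib.Helper13.SUMax

/-!
# Two-generation of the special unitary groups, part A

For a subgroup `L` of `SU_n(q)` we consider the set `XL L` of isotropic vectors all of whose
transvections lie in `L`; it is `L`-invariant, closed under scalars and under hyperbolic lines.
-/

set_option autoImplicit false

namespace Cfsg.Agent.Lib.Helper9.SUGen

open Matrix Cfsg.Agent.Lib.Helper6 Cfsg.Agent.S0779 Cfsg.Agent.S0781
open Cfsg.Agent.Lib.Helper6.SUG Cfsg.Agent.Lib.Helper13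

section xl
variable {F : Type*} [Field F] [Fintype F] {q n : ℕ}

local notation "hh" => Cfsg.hermForm n F q

/-- isotropic vectors all of whose transvections lie in `L` -/
def XL (L : Subgroup ↥(Cfsg.SU n F q)) (a : Fin n → F) : Prop :=
  hh a a = 0 ∧ ∀ (A : ↥(Cfsg.SU n F q)) (c : F), c ^ q = -c →
    ((A : Matrix.SpecialLinearGroup (Fin n) F) : Matrix (Fin n) (Fin n) F) =
      Cfsg.unitaryTransvection n q a c → A ∈ L

theorem XL.tv_mem (hF : Fintype.card F = q ^ 2) {L : Subgroup ↥(Cfsg.SU n F q)} {a : Fin n → F}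
    (ha : XL L a) (c : F) (hc : c ^ q = -c) : tv hF a c ha.1 hc ∈ L :=
  ha.2 _ c hc rfl

theorem XL.intro (hF : Fintype.card F = q ^ 2) {L : Subgroup ↥(Cfsg.SU n F q)} {a : Fin n → F}
    (haa : hh a a = 0) (h : ∀ (c : F) (hc : c ^ q = -c), tv hF a c haa hc ∈ L) : XL L a := by
  refine ⟨haa, ?_⟩
  intro A c hc hA
  have : A = tv hF a c haa hc := by
    apply Subtype.ext
    apply Subtype.ext
    exact hA
  rw [this]
  exact h c hc

theorem XL.zero (L : Subgroup ↥(Cfsg.SU n F q)) : XL L (0 : Fin n → F) := by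
  refine ⟨herm_zero_left 0, ?_⟩
  intro A c _ hA
  have : A = 1 := ext_av (fun x => by
    rw [av_one]
    change ((A : Matrix.SpecialLinearGroup (Fin n) F) : Matrix (Fin n) (Fin n) F) *ᵥ x = x
    rw [hA, transvection_mulVec, smul_zero, add_zero])
  rw [this]
  exact L.one_mem

theorem XL.map {L : Subgroup ↥(Cfsg.SU n F q)} {a : Fin n → F} (ha : XL L a)
    (g : ↥(Cfsg.SU n F q)) (hg : g ∈ L) : XL L (av g a) := by
  refine ⟨by rw [herm_av]; exact ha.1, ?_⟩
  intro A c hc hA
  have hB : (((g⁻¹ * A * g : ↥(Cfsg.SU n F q)) : Matrix.SpecialLinearGroup (Fin n) F) :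
      Matrix (Fin n) (Fin n) F) = Cfsg.unitaryTransvection n q a c := by
    apply mat_ext
    intro x
    change av (g⁻¹ * A * g) x = _
    have h1 : av A (av g x) = av g x + (c * hh (av g x) (av g a)) • av g a := by
      change ((A : Matrix.SpecialLinearGroup (Fin n) F) : Matrix (Fin n) (Fin n) F) *ᵥ (av g x) = _
      rw [hA, transvection_mulVec]
    rw [av_mul, av_mul, h1, herm_av, av_add, av_smul, av_inv_av, av_inv_av, transvection_mulVec]
  have h2 := ha.2 _ c hc hB
  have h3 : A = g * (g⁻¹ * A * g) * g⁻¹ := by group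
  rw [h3]
  exact L.mul_mem (L.mul_mem hg h2) (L.inv_mem hg)

theorem XL.smul (hF : Fintype.card F = q ^ 2) {L : Subgroup ↥(Cfsg.SU n F q)} {a : Fin n → F} (ha : XL L a)
    (l : F) : XL L (l • a) := by
  refine ⟨by rw [herm_smul_left, herm_smul_right, ha.1, mul_zero, mul_zero], ?_⟩
  intro A c hc hA
  apply ha.2 A (l * l ^ q * c)
  · rw [mul_pow, mul_pow, pow_q_q hF, hc]
    ring
  · rw [hA]
    apply mat_ext
    intro x
    rw [transvection_mulVec, transvection_mulVec, herm_smul_right, smul_smul]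
    congr 2
    ring

theorem XL.rule (hF : Fintype.card F = q ^ 2) {L : Subgroup ↥(Cfsg.SU n F q)} {a b : Fin n → F}
    (ha : XL L a) (hb : XL L b) (hab : hh a b ≠ 0) (μ : F)
    (hiso : hh (a + μ • b) (a + μ • b) = 0) : XL L (a + μ • b) := by
  have hba : hh b a = (hh a b) ^ q := (herm_conj hF a b).symm
  have hexp : hh (a + μ • b) (a + μ • b) = μ ^ q * hh a b + μ * (hh a b) ^ q := by
    rw [herm_add_left, herm_add_right hF, herm_add_right hF, herm_smul_left, herm_smul_left,
      herm_smul_right, herm_smul_right, ha.1, hb.1, hba]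
    ring
  have hc : (μ / hh a b) ^ q = -(μ / hh a b) := by
    rw [div_pow]
    have hne : (hh a b) ^ q ≠ 0 := pow_ne_zero _ hab
    rw [hexp] at hiso
    field_simp
    linear_combination hiso
  have h1 := ha.map (SUG.tv hF b (μ / hh a b) hb.1 hc) (hb.tv_mem hF _ hc)
  rwa [av_tv, div_mul_cancel₀ _ hab] at h1

theorem conj_tv (hF : Fintype.card F = q ^ 2) (g : ↥(Cfsg.SU n F q)) (v : Fin n → F) (c : F)
    (hvv : hh v v = 0) (hc : c ^ q = -c) :
    g * tv hF v c hvv hc * g⁻¹ = tv hF (av g v) c (by rw [herm_av]; exact hvv) hc := by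
  apply ext_av
  intro x
  rw [av_mul, av_mul, av_tv, av_tv, av_add, av_smul, av_av_inv]
  congr 2
  rw [← herm_av g (av g⁻¹ x) v, av_av_inv]

/-- membership for an arbitrary transvection parameter -/
theorem XL.mem_of_matrix (hF : Fintype.card F = q ^ 2) {L : Subgroup ↥(Cfsg.SU n F q)}
    {v : Fin n → F} (hv : XL L v) (A : ↥(Cfsg.SU n F q)) (c : F)
    (hA : ((A : Matrix.SpecialLinearGroup (Fin n) F) : Matrix (Fin n) (Fin n) F) =
      Cfsg.unitaryTransvection n q v c) : A ∈ L := by
  by_cases hv0 : v = 0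
  · have : A = 1 := ext_av (fun x => by
      rw [av_one]
      change ((A : Matrix.SpecialLinearGroup (Fin n) F) : Matrix (Fin n) (Fin n) F) *ᵥ x = x
      rw [hA, transvection_mulVec, hv0, smul_zero, add_zero])
    rw [this]
    exact L.one_mem
  · have hpres : ∀ x y : Fin n → F, Cfsg.hermForm n F q
        ((Cfsg.unitaryTransvection n q v c).mulVec x)
        ((Cfsg.unitaryTransvection n q v c).mulVec y) = Cfsg.hermForm n F q x y := by
      intro x y
      rw [← hA]
      exact A.2 x y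
    have hc := (Cfsg.Agent.S0779.result hF n v hv0 hv.1 c).mp hpres
    have hq := q_pos hF
    have hcq : c ^ q = -c := by
      rcases hc with h | h
      · rw [h, zero_pow hq.ne', neg_zero]
      · have : q = (q - 1) + 1 := by omega
        rw [this, pow_succ, h]
        ring
    exact hv.2 A c hcq hA

/-- if every isotropic vector lies in `XL L` then `L` is everything -/
theorem top_of_forall (hF : Fintype.card F = q ^ 2) (hn : 1 ≤ n) (h32 : ¬ (n = 3 ∧ q = 2))
    (L : Subgroup ↥(Cfsg.SU n F q)) (hall : ∀ a, hh a a = 0 → XL L a) : L = ⊤ := by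
  have htop := TT_eq_top hF n hn h32
  rw [eq_top_iff, ← htop]
  unfold TT
  rw [Subgroup.closure_le]
  rintro A ⟨v, c, hv, hA⟩
  exact (hall v hv).mem_of_matrix hF A c hA

/-- `TT ≤ L` if every isotropic vector lies in `XL L` -/
theorem TT_le_of_forall (hF : Fintype.card F = q ^ 2)
    (L : Subgroup ↥(Cfsg.SU n F q)) (hall : ∀ a, hh a a = 0 → XL L a) : TT n F q ≤ L := by
  unfold TT
  rw [Subgroup.closure_le]
  rintro A ⟨v, c, hv, hA⟩
  exact (hall v hv).mem_of_matrix hF A c hA

/-! ### hyperbolic planes -/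

theorem herm_plane (hF : Fintype.card F = q ^ 2) {e f : Fin n → F} (hee : hh e e = 0)
    (hff : hh f f = 0) (hef : hh e f = 1) (α β α' β' : F) :
    hh (α • e + β • f) (α' • e + β' • f) = α * β' ^ q + β * α' ^ q := by
  have hfe : hh f e = 1 := by rw [← herm_conj hF, hef, one_pow]
  simp only [herm_add_left, herm_add_right hF, herm_smul_left, herm_smul_right, hee, hff, hef, hfe]
  ring

/-- the isotropic vectors of a hyperbolic plane spanned by members of `XL L` -/
theorem plane_iso (hF : Fintype.card F = q ^ 2) {L : Subgroup ↥(Cfsg.SU n F q)}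
    {e f : Fin n → F} (he : XL L e) (hf : XL L f) (hef : hh e f = 1) (α β : F)
    (hiso : α * β ^ q + α ^ q * β = 0) : XL L (α • e + β • f) := by
  have hfe : hh f e = 1 := by rw [← herm_conj hF, hef, one_pow]
  by_cases hβ : β = 0
  · rw [hβ, zero_smul, add_zero]
    exact he.smul hF α
  · have hβq : β ^ q ≠ 0 := pow_ne_zero _ hβ
    have h1 : hh (f + (α / β) • e) (f + (α / β) • e) = 0 := by
      simp only [herm_add_left, herm_add_right hF, herm_smul_left, herm_smul_right, he.1, hf.1,
        hef, hfe, div_pow]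
      field_simp
      linear_combination hiso
    have h2 := (hf.rule hF he (by rw [hfe]; exact one_ne_zero) (α / β) h1).smul hF β
    have e1 : β • (f + (α / β) • e) = α • e + β • f := by
      rw [smul_add, smul_smul, mul_div_cancel₀ _ hβ, add_comm]
    rwa [e1] at h2

theorem av_tv_fix (hF : Fintype.card F = q ^ 2) (v : Fin n → F) (c : F)
    (hvv : hh v v = 0) (hc : c ^ q = -c) (z : Fin n → F) (hz : hh z v = 0) :
    av (tv hF v c hvv hc) z = z := by
  rw [av_tv, hz, mul_zero, zero_smul, add_zero]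

/-- moving an isotropic vector of a hyperbolic plane to a multiple of `e` -/
theorem plane_move (hF : Fintype.card F = q ^ 2) {L : Subgroup ↥(Cfsg.SU n F q)}
    {e f : Fin n → F} (he : XL L e) (hf : XL L f) (hef : hh e f = 1) (α β : F)
    (hiso : α * β ^ q + α ^ q * β = 0) (hne : α ≠ 0 ∨ β ≠ 0) :
    ∃ g ∈ L, ∃ l : F, l ≠ 0 ∧ av g (α • e + β • f) = l • e ∧
      ∀ z, hh z e = 0 → hh z f = 0 → av g z = z := by
  have hfe : hh f e = 1 := by rw [← herm_conj hF, hef, one_pow]
  by_cases hβ : β = 0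
  · refine ⟨1, L.one_mem, α, ?_, ?_, fun z _ _ => av_one z⟩
    · rcases hne with h | h
      · exact h
      · exact absurd hβ h
    · rw [av_one, hβ, zero_smul, add_zero]
  · have hβq : β ^ q ≠ 0 := pow_ne_zero _ hβ
    obtain ⟨κ, hκ0, hκ⟩ := exists_trace_zero hF
    have hc1 : (-(α / β)) ^ q = -(-(α / β)) := by
      rw [neg_pow_q hF, div_pow]
      field_simp
      linear_combination (-1 : F) * hiso
    have hc2 : (-κ⁻¹) ^ q = -(-κ⁻¹) := by
      rw [neg_pow_q hF, inv_pow, hκ, inv_neg]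
    have s1 : av (tv hF e (-(α / β)) he.1 hc1) (α • e + β • f) = β • f := by
      rw [av_tv, herm_add_left, herm_smul_left, herm_smul_left, he.1, hfe]
      have : -(α / β) * (α * 0 + β * 1) = -α := by
        field_simp
        ring
      rw [this]
      module
    have s2 : av (tv hF e κ he.1 hκ) (β • f) = β • f + (β * κ) • e := by
      rw [av_tv, herm_smul_left, hfe]
      module
    have s3 : av (tv hF f (-κ⁻¹) hf.1 hc2) (β • f + (β * κ) • e) = (β * κ) • e := by
      rw [av_tv, herm_add_left, herm_smul_left, herm_smul_left, hf.1, hef]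
      have : -κ⁻¹ * (β * 0 + β * κ * 1) = -β := by
        field_simp
        ring
      rw [this]
      module
    have s4 : av (tv hF e κ he.1 hκ) ((β * κ) • e) = (β * κ) • e := by
      rw [av_tv, herm_smul_left, he.1, mul_zero, mul_zero, zero_smul, add_zero]
    refine ⟨tv hF e κ he.1 hκ * tv hF f (-κ⁻¹) hf.1 hc2 * tv hF e κ he.1 hκ *
      tv hF e (-(α / β)) he.1 hc1, ?_, β * κ, mul_ne_zero hβ hκ0, ?_, ?_⟩
    · exact L.mul_mem (L.mul_mem (L.mul_mem (he.tv_mem hF _ hκ) (hf.tv_mem hF _ hc2))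
        (he.tv_mem hF _ hκ)) (he.tv_mem hF _ hc1)
    · rw [av_mul, av_mul, av_mul, s1, s2, s3, s4]
    · intro z hze hzf
      rw [av_mul, av_mul, av_mul, av_tv_fix hF e _ he.1 hc1 z hze, av_tv_fix hF e _ he.1 hκ z hze,
        av_tv_fix hF f _ hf.1 hc2 z hzf, av_tv_fix hF e _ he.1 hκ z hze]

/-- transitivity on the vectors of a given non-zero norm in a hyperbolic plane -/
theorem plane_trans (hF : Fintype.card F = q ^ 2) {L : Subgroup ↥(Cfsg.SU n F q)}
    {e f : Fin n → F} (he : XL L e) (hf : XL L f) (hef : hh e f = 1) (α β α' β' ν : F)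
    (hν : ν ≠ 0) (h1 : α * β ^ q + α ^ q * β = ν) (h2 : α' * β' ^ q + α' ^ q * β' = ν) :
    ∃ g ∈ L, av g (α • e + β • f) = α' • e + β' • f ∧
      ∀ z, hh z e = 0 → hh z f = 0 → av g z = z := by
  have hfe : hh f e = 1 := by rw [← herm_conj hF, hef, one_pow]
  set P : Submodule F (Fin n → F) := Submodule.span F {e, f} with hP
  have heP : e ∈ P := Submodule.subset_span (by simp)
  have hfP : f ∈ P := Submodule.subset_span (by simp)
  have hle : TTon P q ≤ L := by
    unfold TTon
    rw [Subgroup.closure_le]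
    rintro A ⟨v, c, hvP, hvv, hA⟩
    obtain ⟨a, b, rfl⟩ := Submodule.mem_span_pair.mp hvP
    rw [herm_plane hF he.1 hf.1 hef] at hvv
    exact (plane_iso hF he hf hef a b (by linear_combination hvv)).mem_of_matrix hF A c hA
  have hνq : ν ^ q = ν := by
    rw [← h1, add_pow_q hF, mul_pow, mul_pow, pow_q_q hF, pow_q_q hF]
    ring
  obtain ⟨ρ, hρ⟩ := exists_norm (conjQ hF) (conjQ_ne_id hF) (conjQ_conjQ hF) ν⁻¹
    (inv_ne_zero hν) (by rw [conjQ_apply, inv_pow, hνq])
  rw [conjQ_apply] at hρ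
  have hρ0 : ρ ≠ 0 := by
    rintro rfl
    rw [zero_mul] at hρ
    exact inv_ne_zero hν hρ.symm
  have hρν : ρ * ρ ^ q * ν = 1 := by rw [hρ, inv_mul_cancel₀ hν]
  obtain ⟨t, ht, htx⟩ := rel_hyp hF P e f heP hfP he.1 hf.1 hef (ρ * α) (ρ * β) (ρ * α') (ρ * β')
    (by rw [mul_pow, mul_pow]; linear_combination (ρ * ρ ^ q) * h1 + hρν)
    (by rw [mul_pow, mul_pow]; linear_combination (ρ * ρ ^ q) * h2 + hρν)
  refine ⟨t, hle ht, ?_, ?_⟩
  · have e1 : (ρ * α) • e + (ρ * β) • f = ρ • (α • e + β • f) := by module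
    have e2 : (ρ * α') • e + (ρ * β') • f = ρ • (α' • e + β' • f) := by module
    rw [e1, e2, av_smul] at htx
    have h3 := congrArg (fun y => ρ⁻¹ • y) htx
    simp only [smul_smul, inv_mul_cancel₀ hρ0, one_smul] at h3
    exact h3
  · intro z hze hzf
    apply TTon_fix ht
    intro d hd
    obtain ⟨a, b, rfl⟩ := Submodule.mem_span_pair.mp hd
    rw [herm_add_right hF, herm_smul_right, herm_smul_right, hze, hzf, mul_zero, mul_zero,
      add_zero]

end xl

end Cfsg.Agent.Lib.Helper9.SUGen
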