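import Mathlib
import Cfsg.Agent.Lib.Helper9.SUGenA

/-!
# Two-generation of the special unitary groups, part B

Embedding of vectors, vectors supported on two consecutive coordinates, and a hyperbolic frame
for the diagonal Hermitian form.
-/

set_option autoImplicit false

namespace Cfsg.Agent.Lib.Helper9.SUGen

open Matrix Cfsg.Agent.Lib.Helper6 Cfsg.Agent.S0779 Cfsg.Agent.S0781
open Cfsg.Agent.Lib.Helper6.SUG Cfsg.Agent.Lib.Helper13

section up
variable {F : Type*} [Field F] [Fintype F] {q n : ℕ}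

/-- add a zero coordinate in front -/
def up (x : Fin n → F) : Fin (n + 1) → F := Fin.cons 0 x

theorem up_zero_apply (x : Fin n → F) : up x 0 = 0 := rfl

theorem up_succ (x : Fin n → F) (j : Fin n) : up x j.succ = x j := rfl

theorem tail_up (x : Fin n → F) : Fin.tail (up x) = x := rfl

theorem up_add (x y : Fin n → F) : up (x + y) = up x + up y := by
  funext j
  refine Fin.cases ?_ (fun j' => ?_) j
  · simp [up]
  · simp [up]

theorem up_smul (a : F) (x : Fin n → F) : up (a • x) = a • up x := by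
  funext j
  refine Fin.cases ?_ (fun j' => ?_) j
  · simp [up]
  · simp [up]

theorem up_zero : up (0 : Fin n → F) = 0 := by
  funext j
  refine Fin.cases ?_ (fun j' => ?_) j
  · simp [up]
  · simp [up]

theorem up_injective {x y : Fin n → F} (h : up x = up y) : x = y := by
  funext j
  have := congrFun h j.succ
  rwa [up_succ, up_succ] at this

theorem herm_up (x y : Fin n → F) :
    Cfsg.hermForm (n + 1) F q (up x) (up y) = Cfsg.hermForm n F q x y := by
  rw [herm_succ, tail_up, tail_up, up_zero_apply, zero_mul, zero_add]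

theorem av_embSU_up (g : ↥(Cfsg.SU n F q)) (x : Fin n → F) :
    av (embSU g) (up x) = up (av g x) := by
  rw [av_embSU, tail_up, up_zero_apply]
  rfl

theorem embSU_tv (hF : Fintype.card F = q ^ 2) (v : Fin n → F) (c : F)
    (hvv : Cfsg.hermForm n F q v v = 0) (hc : c ^ q = -c) :
    embSU (tv hF v c hvv hc) = tv hF (up v) c (by rw [herm_up]; exact hvv) hc := by
  apply Subtype.ext
  apply Subtype.ext
  exact emb_transvection hF v c

theorem XL_comap (hF : Fintype.card F = q ^ 2) {L : Subgroup ↥(Cfsg.SU (n + 1) F q)}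
    {v : Fin n → F} (h : XL L (up v)) : XL (L.comap embSU) v := by
  have hvv : Cfsg.hermForm n F q v v = 0 := by rw [← herm_up]; exact h.1
  apply XL.intro hF hvv
  intro c hc
  rw [Subgroup.mem_comap, embSU_tv]
  exact h.tv_mem hF c hc

theorem XL_up (hF : Fintype.card F = q ^ 2) {L : Subgroup ↥(Cfsg.SU (n + 1) F q)}
    {v : Fin n → F} (h : XL (L.comap embSU) v) : XL L (up v) := by
  have hvv : Cfsg.hermForm (n + 1) F q (up v) (up v) = 0 := by rw [herm_up]; exact h.1
  apply XL.intro hF hvv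
  intro c hc
  have := h.tv_mem hF c hc
  rw [Subgroup.mem_comap, embSU_tv] at this
  exact this

end up

section pl
variable {F : Type*} [Field F] [Fintype F] {q : ℕ}

/-- the vector with entries `a`, `b` at positions `k`, `k + 1` -/
def pl (n k : ℕ) (a b : F) : Fin n → F :=
  fun j => if j.val = k then a else if j.val = k + 1 then b else 0

theorem pl_add (n k : ℕ) (a b a' b' : F) :
    pl n k a b + pl n k a' b' = pl n k (a + a') (b + b') := by
  funext j
  simp only [pl, Pi.add_apply]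
  split_ifs <;> simp

theorem pl_smul (n k : ℕ) (c a b : F) : c • pl n k a b = pl n k (c * a) (c * b) := by
  funext j
  simp only [pl, Pi.smul_apply, smul_eq_mul]
  split_ifs <;> simp

theorem pl_zero (n k : ℕ) : pl n k (0 : F) 0 = 0 := by
  funext j
  simp only [pl, Pi.zero_apply]
  split_ifs <;> rfl

theorem up_pl (n k : ℕ) (a b : F) : up (pl n k a b) = pl (n + 1) (k + 1) a b := by
  funext j
  refine Fin.cases ?_ (fun j' => ?_) j
  · simp [up, pl]
  · simp [up, pl]

theorem herm_pl_left {n : ℕ} (k : ℕ) (hk : k + 1 < n) (a b : F) (y : Fin n → F) :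
    Cfsg.hermForm n F q (pl n k a b) y =
      a * y ⟨k, by omega⟩ ^ q + b * y ⟨k + 1, hk⟩ ^ q := by
  have hk' : k < n := by omega
  unfold Cfsg.hermForm
  have key : ∀ j : Fin n, pl n k a b j * y j ^ q =
      (if j = ⟨k, hk'⟩ then a * y ⟨k, hk'⟩ ^ q else 0) +
      (if j = ⟨k + 1, hk⟩ then b * y ⟨k + 1, hk⟩ ^ q else 0) := by
    intro j
    unfold pl
    by_cases h1 : j.val = k
    · have hj : j = ⟨k, hk'⟩ := Fin.ext h1
      rw [hj]
      simp
    · by_cases h2 : j.val = k + 1
      · have hj : j = ⟨k + 1, hk⟩ := Fin.ext h2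
        rw [hj]
        simp
      · have e1 : j ≠ ⟨k, hk'⟩ := fun h => h1 (congrArg Fin.val h)
        have e2 : j ≠ ⟨k + 1, hk⟩ := fun h => h2 (congrArg Fin.val h)
        simp [h1, h2, e1, e2]
  simp only [key, Finset.sum_add_distrib, Finset.sum_ite_eq', Finset.mem_univ, if_true]

theorem herm_pl_right (hF : Fintype.card F = q ^ 2) {n : ℕ} (k : ℕ) (hk : k + 1 < n) (a b : F)
    (x : Fin n → F) :
    Cfsg.hermForm n F q x (pl n k a b) =
      x ⟨k, by omega⟩ * a ^ q + x ⟨k + 1, hk⟩ * b ^ q := by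
  rw [← herm_conj hF, herm_pl_left k hk, add_pow_q hF, mul_pow, mul_pow, pow_q_q hF, pow_q_q hF]
  ring

theorem pl_apply_same {n : ℕ} (k : ℕ) (hk : k < n) (a b : F) : pl n k a b ⟨k, hk⟩ = a := by
  simp [pl]

theorem pl_apply_succ {n : ℕ} (k : ℕ) (hk : k + 1 < n) (a b : F) :
    pl n k a b ⟨k + 1, hk⟩ = b := by
  simp [pl]

theorem pl_apply_of_ne {n : ℕ} (k : ℕ) (a b : F) (j : Fin n) (h1 : j.val ≠ k)
    (h2 : j.val ≠ k + 1) : pl n k a b j = 0 := by
  simp [pl, h1, h2]

theorem herm_pl_pl_same {n : ℕ} (k : ℕ) (hk : k + 1 < n) (a b a' b' : F) :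
    Cfsg.hermForm n F q (pl n k a b) (pl n k a' b') = a * a' ^ q + b * b' ^ q := by
  rw [herm_pl_left k hk, pl_apply_same, pl_apply_succ]

theorem herm_pl_pl_far (hF : Fintype.card F = q ^ 2) {n : ℕ} (k k' : ℕ) (hk : k + 1 < n)
    (hkk' : k + 2 ≤ k' ∨ k' + 2 ≤ k) (a b a' b' : F) :
    Cfsg.hermForm n F q (pl n k a b) (pl n k' a' b') = 0 := by
  rw [herm_pl_left k hk, pl_apply_of_ne, pl_apply_of_ne, zero_pow (q_pos hF).ne']
  · ring
  · simp only
    omega
  · simp only
    omega
  · simp only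
    omega
  · simp only
    omega

end pl

/-- the constants of a hyperbolic pair in the standard two-dimensional Hermitian space -/
structure Hyp (F : Type*) [Field F] (q : ℕ) where
  u0 : F
  u1 : F
  v0 : F
  v1 : F
  huu : u0 * u0 ^ q + u1 * u1 ^ q = 0
  hvv : v0 * v0 ^ q + v1 * v1 ^ q = 0
  huv : u0 * v0 ^ q + u1 * v1 ^ q = 1

section frame
variable {F : Type*} [Field F] [Fintype F] {q : ℕ}

theorem exists_hyp (hF : Fintype.card F = q ^ 2) : Nonempty (Hyp F q) := by
  classical
  have h00 : Cfsg.hermForm 2 F q (Pi.single 0 1) (Pi.single 0 1) = 1 := by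
    rw [herm_single_right hF]
    simp
  have h11 : Cfsg.hermForm 2 F q (Pi.single 1 1) (Pi.single 1 1) = 1 := by
    rw [herm_single_right hF]
    simp
  have h01 : Cfsg.hermForm 2 F q (Pi.single 0 1) (Pi.single 1 1) = 0 := by
    rw [herm_single_right hF]
    simp
  obtain ⟨u, v, huu, hvv, huv, -, -, -⟩ :=
    exists_hyp_of_orthonormal hF (Pi.single 0 1 : Fin 2 → F) (Pi.single 1 1) h00 h11 h01
  simp only [Cfsg.hermForm, Fin.sum_univ_two] at huu hvv huv
  exact ⟨⟨u 0, u 1, v 0, v 1, huu, hvv, huv⟩⟩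

variable (C : Hyp F q)

theorem Hyp.hvu (hF : Fintype.card F = q ^ 2) : C.v0 * C.u0 ^ q + C.v1 * C.u1 ^ q = 1 := by
  have := congrArg (fun t => t ^ q) C.huv
  simp only [add_pow_q hF, mul_pow, pow_q_q hF, one_pow] at this
  linear_combination this

theorem Hyp.complete (hF : Fintype.card F = q ^ 2) :
    (C.u0 * C.v0 ^ q + C.v0 * C.u0 ^ q = 1 ∧ C.u0 * C.v1 ^ q + C.v0 * C.u1 ^ q = 0) ∧
    (C.u1 * C.v0 ^ q + C.v1 * C.u0 ^ q = 0 ∧ C.u1 * C.v1 ^ q + C.v1 * C.u1 ^ q = 1) := by
  have hNM : (!![C.v0 ^ q, C.v1 ^ q; C.u0 ^ q, C.u1 ^ q] : Matrix (Fin 2) (Fin 2) F) *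
      !![C.u0, C.v0; C.u1, C.v1] = 1 := by
    ext i j
    fin_cases i <;> fin_cases j
    · simp [Matrix.mul_apply, Fin.sum_univ_two]
      linear_combination C.huv
    · simp [Matrix.mul_apply, Fin.sum_univ_two]
      linear_combination C.hvv
    · simp [Matrix.mul_apply, Fin.sum_univ_two]
      linear_combination C.huu
    · simp [Matrix.mul_apply, Fin.sum_univ_two]
      linear_combination C.hvu hF
  have hMN := mul_eq_one_comm.mp hNM
  have e00 := congrFun (congrFun hMN 0) 0
  have e01 := congrFun (congrFun hMN 0) 1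
  have e10 := congrFun (congrFun hMN 1) 0
  have e11 := congrFun (congrFun hMN 1) 1
  simp [Matrix.mul_apply, Fin.sum_univ_two] at e00 e01 e10 e11
  exact ⟨⟨by linear_combination e00, by linear_combination e01⟩,
    ⟨by linear_combination e10, by linear_combination e11⟩⟩

/-- the frame vector `e` at position `k` -/
def ev (n k : ℕ) : Fin n → F := pl n k C.u0 C.u1

/-- the frame vector `f` at position `k` -/
def fv (n k : ℕ) : Fin n → F := pl n k C.v0 C.v1

theorem up_ev (n k : ℕ) : up (ev C n k) = ev C (n + 1) (k + 1) := up_pl n k _ _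

theorem up_fv (n k : ℕ) : up (fv C n k) = fv C (n + 1) (k + 1) := up_pl n k _ _

theorem herm_ev_ev {n : ℕ} (k : ℕ) (hk : k + 1 < n) :
    Cfsg.hermForm n F q (ev C n k) (ev C n k) = 0 := by
  unfold ev
  rw [herm_pl_pl_same k hk]
  exact C.huu

theorem herm_fv_fv {n : ℕ} (k : ℕ) (hk : k + 1 < n) :
    Cfsg.hermForm n F q (fv C n k) (fv C n k) = 0 := by
  unfold fv
  rw [herm_pl_pl_same k hk]
  exact C.hvv

theorem herm_ev_fv {n : ℕ} (k : ℕ) (hk : k + 1 < n) :
    Cfsg.hermForm n F q (ev C n k) (fv C n k) = 1 := by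
  unfold ev fv
  rw [herm_pl_pl_same k hk]
  exact C.huv

theorem herm_fv_ev (hF : Fintype.card F = q ^ 2) {n : ℕ} (k : ℕ) (hk : k + 1 < n) :
    Cfsg.hermForm n F q (fv C n k) (ev C n k) = 1 := by
  unfold ev fv
  rw [herm_pl_pl_same k hk]
  exact C.hvu hF

/-- expansion of a vector supported on a plane in the frame -/
theorem pl_expand (hF : Fintype.card F = q ^ 2) (n k : ℕ) (a b : F) :
    pl n k a b = (a * C.v0 ^ q + b * C.v1 ^ q) • ev C n k +
      (a * C.u0 ^ q + b * C.u1 ^ q) • fv C n k := by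
  obtain ⟨⟨c00, c01⟩, ⟨c10, c11⟩⟩ := C.complete hF
  unfold ev fv
  rw [pl_smul, pl_smul, pl_add]
  congr 1
  · linear_combination (-a) * c00 - b * c01
  · linear_combination (-a) * c10 - b * c11

theorem ev_ne_zero {n : ℕ} (k : ℕ) (hk : k + 1 < n) : ev C n k ≠ 0 := by
  intro h
  have := herm_ev_fv C k hk
  rw [h, herm_zero_left] at this
  exact zero_ne_one this

end frame

end Cfsg.Agent.Lib.Helper9.SUGen
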