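import Mathlib
import Cfsg.Agent.Lib.Helper9.SUGenB

/-!
# Two-generation of the special unitary groups, part C: the generation criterion
-/

set_option autoImplicit false

namespace Cfsg.Agent.Lib.Helper9.SUGen

open Matrix Cfsg.Agent.Lib.Helper6 Cfsg.Agent.S0779 Cfsg.Agent.S0781
open Cfsg.Agent.Lib.Helper6.SUG Cfsg.Agent.Lib.Helper13

section crit
variable {F : Type*} [Field F] [Fintype F] {q : ℕ} (C : Hyp F q)

/-- hypotheses of the generation criterion (frame at positions `2 i + o`) -/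
def WH (n m o : ℕ) (L : Subgroup ↥(Cfsg.SU n F q)) : Prop :=
  (∀ i < m, XL L (ev C n (2 * i + o)) ∧ XL L (fv C n (2 * i + o))) ∧
  (∀ i, i + 1 < m → ∀ s : F, XL L (ev C n (2 * i + 2 + o) + s • ev C n (2 * i + o))) ∧
  (∀ i, i + 1 < m → ∃ a b a' b' : F, a * b ^ q + a ^ q * b ≠ 0 ∧
    XL L ((a • ev C n (2 * i + 2 + o) + b • fv C n (2 * i + 2 + o)) +
      (a' • ev C n (2 * i + o) + b' • fv C n (2 * i + o))))

theorem WH_comap (hF : Fintype.card F = q ^ 2) (n m o : ℕ)
    (L : Subgroup ↥(Cfsg.SU (n + 1) F q)) (h : WH C (n + 1) m (o + 1) L) :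
    WH C n m o (L.comap embSU) := by
  obtain ⟨h1, h2, h3⟩ := h
  refine ⟨?_, ?_, ?_⟩
  · intro i hi
    obtain ⟨a, b⟩ := h1 i hi
    refine ⟨XL_comap hF ?_, XL_comap hF ?_⟩
    · rw [up_ev]
      exact a
    · rw [up_fv]
      exact b
  · intro i hi s
    apply XL_comap hF
    rw [up_add, up_smul, up_ev, up_ev]
    exact h2 i hi s
  · intro i hi
    obtain ⟨a, b, a', b', hab, hx⟩ := h3 i hi
    refine ⟨a, b, a', b', hab, XL_comap hF ?_⟩
    rw [up_add, up_add, up_add, up_smul, up_smul, up_smul, up_smul, up_ev, up_ev, up_fv, up_fv]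
    exact hx

theorem WH_shift (n m o : ℕ) (L : Subgroup ↥(Cfsg.SU n F q)) (h : WH C n (m + 1) o L) :
    WH C n m (o + 1 + 1) L := by
  obtain ⟨h1, h2, h3⟩ := h
  have e1 : ∀ i, 2 * (i + 1) + o = 2 * i + (o + 1 + 1) := fun i => by ring
  have e2 : ∀ i, 2 * (i + 1) + 2 + o = 2 * i + 2 + (o + 1 + 1) := fun i => by ring
  refine ⟨?_, ?_, ?_⟩
  · intro i hi
    have := h1 (i + 1) (by omega)
    rwa [e1] at this
  · intro i hi s
    have := h2 (i + 1) (by omega) s
    rwa [e1, e2] at this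
  · intro i hi
    obtain ⟨a, b, a', b', hab, hx⟩ := h3 (i + 1) (by omega)
    refine ⟨a, b, a', b', hab, ?_⟩
    rwa [e1, e2] at hx

theorem herm_add_self (hF : Fintype.card F = q ^ 2) {n : ℕ} (p v : Fin n → F)
    (hpv : Cfsg.hermForm n F q p v = 0) :
    Cfsg.hermForm n F q (p + v) (p + v) = Cfsg.hermForm n F q p p + Cfsg.hermForm n F q v v := by
  rw [herm_add_left, herm_add_right hF p, herm_add_right hF v, hpv, herm_swap_zero hF hpv]
  ring

theorem av_zero {n : ℕ} (g : ↥(Cfsg.SU n F q)) : av g (0 : Fin n → F) = 0 := by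
  have := av_smul g (0 : F) (0 : Fin n → F)
  rwa [zero_smul, zero_smul] at this

theorem av_emb2_fix {n : ℕ} (g : ↥(Cfsg.SU n F q)) (y : Fin (n + 1 + 1) → F)
    (hy : Fin.tail (Fin.tail y) = 0) : av (embSU (embSU g)) y = y := by
  rw [av_embSU, av_embSU, hy, av_zero]
  conv_rhs => rw [← Fin.cons_self_tail y, ← Fin.cons_self_tail (Fin.tail y), hy]

theorem tail_tail_pl0 {n : ℕ} (a b : F) : Fin.tail (Fin.tail (pl (n + 1 + 1) 0 a b)) = 0 := by
  funext j
  simp [Fin.tail, pl]

theorem decomp2 {n : ℕ} (x : Fin (n + 1 + 1) → F) :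
    x = pl (n + 1 + 1) 0 (x 0) (x 1) + up (up (Fin.tail (Fin.tail x))) := by
  funext j
  refine Fin.cases ?_ (fun j' => ?_) j
  · simp [pl, up]
  · refine Fin.cases ?_ (fun j'' => ?_) j'
    · simp [pl, up]
    · simp [pl, up, Fin.tail]

theorem upup_apply_zero {n : ℕ} (v : Fin n → F) (h : 0 < n + 1 + 1) :
    up (up v) ⟨0, h⟩ = 0 := rfl

theorem upup_apply_one {n : ℕ} (v : Fin n → F) (h : 0 + 1 < n + 1 + 1) :
    up (up v) ⟨0 + 1, h⟩ = 0 := rfl

/-- an isotropic vector of the standard even-dimensional space can be moved to a multiple of the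
first frame vector -/
theorem iso_to_e0 (hF : Fintype.card F = q ^ 2) (n : ℕ) (hn : 2 ≤ n) (v : Fin n → F)
    (hv0 : v ≠ 0) (hvv : Cfsg.hermForm n F q v v = 0) :
    ∃ t ∈ TT n F q, ∃ l : F, l ≠ 0 ∧ av t v = l • ev C n 0 := by
  by_cases h3 : 3 ≤ n
  · obtain ⟨t, ht, htv⟩ := rel_iso hF h3 v (ev C n 0) hv0 (ev_ne_zero C 0 (by omega)) hvv
      (herm_ev_ev C 0 (by omega))
    exact ⟨t, ht, 1, one_ne_zero, by rw [htv, one_smul]⟩
  · obtain rfl : n = 2 := by omega
    have he : XL (TT 2 F q) (ev C 2 0) :=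
      XL.intro hF (herm_ev_ev C 0 (by omega)) (fun c hc => tv_mem hF _ _ _ _)
    have hf : XL (TT 2 F q) (fv C 2 0) :=
      XL.intro hF (herm_fv_fv C 0 (by omega)) (fun c hc => tv_mem hF _ _ _ _)
    obtain ⟨α, hα⟩ : ∃ α : F, α = v 0 * C.v0 ^ q + v 1 * C.v1 ^ q := ⟨_, rfl⟩
    obtain ⟨β, hβ⟩ : ∃ β : F, β = v 0 * C.u0 ^ q + v 1 * C.u1 ^ q := ⟨_, rfl⟩
    have hv : v = α • ev C 2 0 + β • fv C 2 0 := by
      rw [hα, hβ, ← pl_expand C hF]
      funext j
      fin_cases j <;> simp [pl]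
    rw [hv] at hvv hv0 ⊢
    rw [herm_plane hF (herm_ev_ev C 0 (by omega)) (herm_fv_fv C 0 (by omega))
      (herm_ev_fv C 0 (by omega))] at hvv
    obtain ⟨g, hg, l, hl, hgv, -⟩ := plane_move hF he hf (herm_ev_fv C 0 (by omega)) α β
      (by linear_combination hvv) (by
        by_contra hcon
        push Not at hcon
        apply hv0
        rw [hcon.1, hcon.2, zero_smul, zero_smul, add_zero])
    exact ⟨g, hg, l, hl, hgv⟩

/-- the inductive step of the criterion: adding a hyperbolic plane in front -/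
theorem W_step (hF : Fintype.card F = q ^ 2) (n m : ℕ) (hm : 1 ≤ m) (hn : n = 2 * m)
    (ih : ∀ L' : Subgroup ↥(Cfsg.SU n F q), WH C n m 0 L' →
      ∀ v, Cfsg.hermForm n F q v v = 0 → XL L' v)
    (L : Subgroup ↥(Cfsg.SU (n + 1 + 1) F q)) (hL : WH C (n + 1 + 1) (m + 1) 0 L) :
    ∀ x, Cfsg.hermForm (n + 1 + 1) F q x x = 0 → XL L x := by
  have hn2 : 2 ≤ n := by omega
  have hL2 : WH C n m 0 ((L.comap embSU).comap embSU) :=
    WH_comap C hF n m 0 _ (WH_comap C hF (n + 1) m 1 _ (WH_shift C (n + 1 + 1) m 0 L hL))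
  have hall2 := ih _ hL2
  have hTT : ∀ t ∈ TT n F q, embSU (embSU t) ∈ L := by
    intro t ht
    have := TT_le_of_forall hF _ hall2 ht
    exact this
  obtain ⟨h1, h2, h3⟩ := hL
  obtain ⟨he0, hf0⟩ := h1 0 (by omega)
  obtain ⟨he1, hf1⟩ := h1 1 (by omega)
  simp only [mul_zero, mul_one, add_zero, zero_add] at he0 hf0 he1 hf1
  have hk0 : 0 + 1 < n + 1 + 1 := by omega
  have hef0 := herm_ev_fv C 0 hk0
  -- the frame vectors of the old part
  have hupe : up (up (ev C n 0)) = ev C (n + 1 + 1) 2 := by rw [up_ev, up_ev]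
  have hupf : up (up (fv C n 0)) = fv C (n + 1 + 1) 2 := by rw [up_fv, up_fv]
  -- perpendicularity of the two parts
  have hperp_e : ∀ v' : Fin n → F,
      Cfsg.hermForm (n + 1 + 1) F q (up (up v')) (ev C (n + 1 + 1) 0) = 0 := by
    intro v'
    unfold ev
    rw [herm_pl_right hF 0 hk0, upup_apply_zero, upup_apply_one]
    ring
  have hperp_f : ∀ v' : Fin n → F,
      Cfsg.hermForm (n + 1 + 1) F q (up (up v')) (fv C (n + 1 + 1) 0) = 0 := by
    intro v'
    unfold fv
    rw [herm_pl_right hF 0 hk0, upup_apply_zero, upup_apply_one]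
    ring
  intro x hxx
  obtain ⟨α, hα⟩ : ∃ α : F, α = x 0 * C.v0 ^ q + x 1 * C.v1 ^ q := ⟨_, rfl⟩
  obtain ⟨β, hβ⟩ : ∃ β : F, β = x 0 * C.u0 ^ q + x 1 * C.u1 ^ q := ⟨_, rfl⟩
  obtain ⟨v', hv'⟩ : ∃ v' : Fin n → F, v' = Fin.tail (Fin.tail x) := ⟨_, rfl⟩
  have hx : x = (α • ev C (n + 1 + 1) 0 + β • fv C (n + 1 + 1) 0) + up (up v') := by
    rw [hα, hβ, ← pl_expand C hF, hv']
    exact decomp2 x
  have hpv : Cfsg.hermForm (n + 1 + 1) F q
      (α • ev C (n + 1 + 1) 0 + β • fv C (n + 1 + 1) 0) (up (up v')) = 0 := by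
    apply herm_swap_zero hF
    rw [herm_add_right hF, herm_smul_right, herm_smul_right, hperp_e, hperp_f]
    ring
  have hnorm : α * β ^ q + α ^ q * β + Cfsg.hermForm n F q v' v' = 0 := by
    have h := hxx
    rw [hx, herm_add_self hF _ _ hpv, herm_plane hF he0.1 hf0.1 hef0, herm_up, herm_up] at h
    linear_combination h
  -- the action of the embedded old group
  have hact : ∀ (t : ↥(Cfsg.SU n F q)) (a b : F) (y : Fin n → F),
      av (embSU (embSU t)) ((a • ev C (n + 1 + 1) 0 + b • fv C (n + 1 + 1) 0) + up (up y)) =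
        (a • ev C (n + 1 + 1) 0 + b • fv C (n + 1 + 1) 0) + up (up (av t y)) := by
    intro t a b y
    rw [av_add, av_embSU_up, av_embSU_up]
    congr 1
    apply av_emb2_fix
    unfold ev fv
    rw [pl_smul, pl_smul, pl_add]
    exact tail_tail_pl0 _ _
  by_cases hiso : Cfsg.hermForm n F q v' v' = 0
  · -- both parts isotropic
    have hαβ : α * β ^ q + α ^ q * β = 0 := by linear_combination hnorm - hiso
    by_cases hv0 : v' = 0
    · rw [hx, hv0, up_zero, up_zero, add_zero]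
      exact plane_iso hF he0 hf0 hef0 α β hαβ
    by_cases hp0 : α = 0 ∧ β = 0
    · rw [hx, hp0.1, hp0.2, zero_smul, zero_smul, add_zero, zero_add]
      exact XL_up hF (XL_up hF (hall2 v' hiso))
    · obtain ⟨t, ht, l, hl, htv⟩ := iso_to_e0 C hF n hn2 v' hv0 hiso
      obtain ⟨g, hg, l', hl', hgp, hgfix⟩ := plane_move hF he0 hf0 hef0 α β hαβ (by
        by_contra hcon
        push Not at hcon
        exact hp0 hcon)
      have hgoal : av (g * embSU (embSU t)) x =
          l • (ev C (n + 1 + 1) 2 + (l' / l) • ev C (n + 1 + 1) 0) := by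
        rw [av_mul, hx, hact, htv, up_smul, up_smul, hupe, av_add, hgp, av_smul,
          hgfix _ (by rw [← hupe]; exact hperp_e _) (by rw [← hupe]; exact hperp_f _)]
        rw [smul_add, smul_smul, mul_div_cancel₀ _ hl]
        exact add_comm _ _
      have hX : XL L (l • (ev C (n + 1 + 1) 2 + (l' / l) • ev C (n + 1 + 1) 0)) :=
        (h2 0 (by omega) (l' / l)).smul hF l
      rw [← hgoal] at hX
      have := hX.map _ (L.inv_mem (L.mul_mem hg (hTT t ht)))
      rwa [av_inv_av] at this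
  · -- both parts anisotropic
    obtain ⟨a, b, a', b', hab, hxb⟩ := h3 0 (by omega)
    simp only [mul_zero, add_zero, zero_add] at hxb
    obtain ⟨ν, hν⟩ : ∃ ν : F, ν = Cfsg.hermForm n F q v' v' := ⟨_, rfl⟩
    rw [← hν] at hiso hnorm
    obtain ⟨N, hN⟩ : ∃ N : F, N = a * b ^ q + a ^ q * b := ⟨_, rfl⟩
    rw [← hN] at hab
    have hνq : ν ^ q = ν := by rw [hν, herm_conj hF]
    have hNq : N ^ q = N := by
      rw [hN, add_pow_q hF, mul_pow, mul_pow, pow_q_q hF, pow_q_q hF]
      ring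
    -- the link is isotropic
    have hk2 : 2 + 1 < n + 1 + 1 := by omega
    have hlink : a' * b' ^ q + a' ^ q * b' = -N := by
      have h := hxb.1
      have hperp : Cfsg.hermForm (n + 1 + 1) F q
          (a • ev C (n + 1 + 1) 2 + b • fv C (n + 1 + 1) 2)
          (a' • ev C (n + 1 + 1) 0 + b' • fv C (n + 1 + 1) 0) = 0 := by
        rw [← hupe, ← hupf, ← up_smul, ← up_smul, ← up_smul, ← up_smul, ← up_add, ← up_add,
          herm_add_right hF, herm_smul_right, herm_smul_right, hperp_e, hperp_f]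
        ring
      rw [herm_add_self hF _ _ hperp,
        herm_plane hF he1.1 hf1.1 (herm_ev_fv C 2 hk2), herm_plane hF he0.1 hf0.1 hef0] at h
      rw [hN]
      linear_combination h
    -- scale `x`
    obtain ⟨lam, hlam⟩ := exists_norm (conjQ hF) (conjQ_ne_id hF) (conjQ_conjQ hF) (N / ν)
      (div_ne_zero hab hiso) (by rw [conjQ_apply, div_pow, hNq, hνq])
    rw [conjQ_apply] at hlam
    have hlam0 : lam ≠ 0 := by
      rintro rfl
      rw [zero_mul] at hlam
      exact div_ne_zero hab hiso hlam.symm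
    have hlamν : lam * lam ^ q * ν = N := by rw [hlam, div_mul_cancel₀ _ hiso]
    -- the old part
    obtain ⟨ρ, hρ⟩ := exists_norm (conjQ hF) (conjQ_ne_id hF) (conjQ_conjQ hF) N⁻¹
      (inv_ne_zero hab) (by rw [conjQ_apply, inv_pow, hNq])
    rw [conjQ_apply] at hρ
    have hρ0 : ρ ≠ 0 := by
      rintro rfl
      rw [zero_mul] at hρ
      exact inv_ne_zero hab hρ.symm
    have hρN : ρ * ρ ^ q * N = 1 := by rw [hρ, inv_mul_cancel₀ hab]
    have hkn : 0 + 1 < n := by omega
    obtain ⟨t, ht, htv⟩ := rel_norm_one hF hn2 (by omega) ((ρ * lam) • v')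
      (ρ • (a • ev C n 0 + b • fv C n 0))
      (by
        rw [herm_smul_left, herm_smul_right, ← hν, mul_pow]
        linear_combination (ρ * ρ ^ q) * hlamν + hρN)
      (by
        rw [herm_smul_left, herm_smul_right,
          herm_plane hF (herm_ev_ev C 0 hkn) (herm_fv_fv C 0 hkn) (herm_ev_fv C 0 hkn)]
        rw [hN] at hρN
        linear_combination hρN)
    have htv' : av t (lam • v') = a • ev C n 0 + b • fv C n 0 := by
      rw [← smul_smul, av_smul] at htv
      have h5 := congrArg (fun y => ρ⁻¹ • y) htv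
      simp only [smul_smul, inv_mul_cancel₀ hρ0, one_smul] at h5
      exact h5
    -- the plane part
    obtain ⟨g, hg, hgp, hgfix⟩ := plane_trans hF he0 hf0 hef0 (lam * α) (lam * β) a' b' (-N)
      (neg_ne_zero.mpr hab)
      (by
        rw [mul_pow, mul_pow]
        linear_combination (lam * lam ^ q) * hnorm - hlamν)
      hlink
    have hgoal : av (g * embSU (embSU t)) (lam • x) =
        (a • ev C (n + 1 + 1) 2 + b • fv C (n + 1 + 1) 2) +
          (a' • ev C (n + 1 + 1) 0 + b' • fv C (n + 1 + 1) 0) := by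
      have e1 : lam • x = ((lam * α) • ev C (n + 1 + 1) 0 + (lam * β) • fv C (n + 1 + 1) 0) +
          up (up (lam • v')) := by
        rw [hx, up_smul, up_smul]
        module
      rw [av_mul, e1, hact, htv', av_add, hgp, up_add, up_add, up_smul, up_smul, up_smul, up_smul,
        hupe, hupf, av_add, av_smul, av_smul,
        hgfix _ (by rw [← hupe]; exact hperp_e _) (by rw [← hupe]; exact hperp_f _),
        hgfix _ (by rw [← hupf]; exact hperp_e _) (by rw [← hupf]; exact hperp_f _)]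
      abel
    rw [← hgoal] at hxb
    have h6 := hxb.map _ (L.inv_mem (L.mul_mem hg (hTT t ht)))
    rw [av_inv_av] at h6
    have h7 := h6.smul hF lam⁻¹
    rwa [smul_smul, inv_mul_cancel₀ hlam0, one_smul] at h7

/-- **the generation criterion, even dimension** -/
theorem W_even (hF : Fintype.card F = q ^ 2) : ∀ m : ℕ, 1 ≤ m → ∀ n : ℕ, n = 2 * m →
    ∀ L : Subgroup ↥(Cfsg.SU n F q), WH C n m 0 L →
      ∀ v, Cfsg.hermForm n F q v v = 0 → XL L v := by
  intro m
  induction m with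
  | zero => intro h; omega
  | succ m ih =>
    intro _ n hn L hL
    by_cases hm : m = 0
    · subst hm
      obtain rfl : n = 2 := by omega
      obtain ⟨h1, -, -⟩ := hL
      obtain ⟨he0, hf0⟩ := h1 0 (by omega)
      simp only [mul_zero, add_zero] at he0 hf0
      intro v hvv
      obtain ⟨α, hα⟩ : ∃ α : F, α = v 0 * C.v0 ^ q + v 1 * C.v1 ^ q := ⟨_, rfl⟩
      obtain ⟨β, hβ⟩ : ∃ β : F, β = v 0 * C.u0 ^ q + v 1 * C.u1 ^ q := ⟨_, rfl⟩
      have hv : v = α • ev C 2 0 + β • fv C 2 0 := by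
        rw [hα, hβ, ← pl_expand C hF]
        funext j
        fin_cases j <;> simp [pl]
      rw [hv] at hvv ⊢
      rw [herm_plane hF he0.1 hf0.1 (herm_ev_fv C 0 (by omega))] at hvv
      exact plane_iso hF he0 hf0 (herm_ev_fv C 0 (by omega)) α β (by linear_combination hvv)
    · obtain ⟨n', rfl⟩ : ∃ n', n = n' + 1 + 1 := ⟨2 * m, by omega⟩
      exact W_step C hF n' m (by omega) (by omega) (ih (by omega) n' (by omega)) L hL

/-- **the generation criterion, odd dimension** -/
theorem W_odd (hF : Fintype.card F = q ^ 2) (m : ℕ) (hm : 1 ≤ m) (n : ℕ) (hn : n = 2 * m)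
    (L : Subgroup ↥(Cfsg.SU (n + 1) F q)) (hL : WH C (n + 1) m 1 L)
    (xw : Fin (n + 1) → F) (hxw : XL L xw) (hxw0 : xw 0 ≠ 0) :
    ∀ x, Cfsg.hermForm (n + 1) F q x x = 0 → XL L x := by
  have hn2 : 2 ≤ n := by omega
  have hall := W_even C hF m hm n hn _ (WH_comap C hF n m 0 L hL)
  have hTT : ∀ t ∈ TT n F q, embSU t ∈ L := by
    intro t ht
    exact TT_le_of_forall hF _ hall ht
  intro x hxx
  by_cases hx0 : x 0 = 0
  · have hx : x = up (Fin.tail x) := by
      conv_lhs => rw [← Fin.cons_self_tail x, hx0]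
      rfl
    rw [hx] at hxx ⊢
    rw [herm_up] at hxx
    exact XL_up hF (hall _ hxx)
  · -- scale `x` so that the first coordinates agree
    obtain ⟨lam, hlam⟩ : ∃ lam : F, lam = xw 0 / x 0 := ⟨_, rfl⟩
    have hlam0 : lam ≠ 0 := by
      rw [hlam]
      exact div_ne_zero hxw0 hx0
    have hx : lam • x = Fin.cons (xw 0) (lam • Fin.tail x) := by
      funext j
      refine Fin.cases ?_ (fun j' => ?_) j
      · simp [hlam, div_mul_cancel₀ _ hx0]
      · simp [Fin.tail]
    have hw : xw = Fin.cons (xw 0) (Fin.tail xw) := (Fin.cons_self_tail xw).symm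
    obtain ⟨N, hN⟩ : ∃ N : F, N = -(xw 0 * xw 0 ^ q) := ⟨_, rfl⟩
    have hN0 : N ≠ 0 := by
      rw [hN]
      exact neg_ne_zero.mpr (mul_ne_zero hxw0 (pow_ne_zero _ hxw0))
    have hNq : N ^ q = N := by
      rw [hN, neg_pow_q hF, mul_pow, pow_q_q hF]
      ring
    have hn1 : Cfsg.hermForm n F q (Fin.tail xw) (Fin.tail xw) = N := by
      have h := hxw.1
      rw [herm_succ] at h
      rw [hN]
      linear_combination h
    have hn2' : Cfsg.hermForm n F q (lam • Fin.tail x) (lam • Fin.tail x) = N := by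
      have h : Cfsg.hermForm (n + 1) F q (lam • x) (lam • x) = 0 := by
        rw [herm_smul_left, herm_smul_right, hxx, mul_zero, mul_zero]
      rw [hx, herm_succ] at h
      simp only [Fin.cons_zero, Fin.tail_cons] at h
      rw [hN]
      linear_combination h
    obtain ⟨ρ, hρ⟩ := exists_norm (conjQ hF) (conjQ_ne_id hF) (conjQ_conjQ hF) N⁻¹
      (inv_ne_zero hN0) (by rw [conjQ_apply, inv_pow, hNq])
    rw [conjQ_apply] at hρ
    have hρ0 : ρ ≠ 0 := by
      rintro rfl
      rw [zero_mul] at hρ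
      exact inv_ne_zero hN0 hρ.symm
    have hρN : ρ * ρ ^ q * N = 1 := by rw [hρ, inv_mul_cancel₀ hN0]
    obtain ⟨t, ht, htv⟩ := rel_norm_one hF hn2 (by omega) (ρ • (lam • Fin.tail x))
      (ρ • Fin.tail xw)
      (by rw [herm_smul_left, herm_smul_right, hn2']; linear_combination hρN)
      (by rw [herm_smul_left, herm_smul_right, hn1]; linear_combination hρN)
    have htv' : av t (lam • Fin.tail x) = Fin.tail xw := by
      rw [av_smul] at htv
      have h5 := congrArg (fun y => ρ⁻¹ • y) htv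
      simp only [smul_smul, inv_mul_cancel₀ hρ0, one_smul] at h5
      exact h5
    have hgoal : av (embSU t) (lam • x) = xw := by
      rw [hx, av_embSU]
      simp only [Fin.cons_zero, Fin.tail_cons]
      rw [htv']
      exact hw.symm
    rw [← hgoal] at hxw
    have h6 := hxw.map _ (L.inv_mem (hTT t ht))
    rw [av_inv_av] at h6
    have h7 := h6.smul hF lam⁻¹
    rwa [smul_smul, inv_mul_cancel₀ hlam0, one_smul] at h7

end crit

end Cfsg.Agent.Lib.Helper9.SUGen
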