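import Mathlib
import Cfsg.Agent.S0781

/-!
# Two-generation of the special unitary groups: the abstract generation tricks
-/

set_option autoImplicit false

namespace Cfsg.Agent.Lib.Helper9.SUGen

open Cfsg.Agent.S0779 Cfsg.Agent.S0781

section irr
variable {F : Type*} [Field F] [Fintype F] {q : ℕ}

/-- an element of large multiplicative order generates the field additively -/
theorem irr_of_order (hF : Fintype.card F = q ^ 2) (ν : F) (hν0 : ν ≠ 0)
    (hord : ∀ k : ℕ, 0 < k → k ≤ q → ν ^ k ≠ 1)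
    (S : AddSubgroup F) (hS : ∀ t ∈ S, ν * t ∈ S) (hne : ∃ t ∈ S, t ≠ 0) : ∀ t, t ∈ S := by
  classical
  have hq : 0 < q := q_pos hF
  -- the ring of multipliers
  let R : Subring F :=
    { carrier := {r | ∀ s ∈ S, r * s ∈ S}
      mul_mem' := by
        intro a b ha hb s hs
        rw [mul_assoc]
        exact ha _ (hb s hs)
      one_mem' := by
        intro s hs
        rwa [one_mul]
      add_mem' := by
        intro a b ha hb s hs
        rw [add_mul]
        exact S.add_mem (ha s hs) (hb s hs)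
      zero_mem' := by
        intro s _
        rw [zero_mul]
        exact S.zero_mem
      neg_mem' := by
        intro a ha s hs
        rw [neg_mul]
        exact S.neg_mem (ha s hs) }
  have hcardF : 2 ≤ Fintype.card F := Fintype.one_lt_card
  let K : Subfield F :=
    { R with
      inv_mem' := by
        intro a ha
        by_cases ha0 : a = 0
        · rw [ha0, inv_zero]
          exact R.zero_mem
        · have h1 : a ^ (Fintype.card F - 1) = 1 := FiniteField.pow_card_sub_one_eq_one a ha0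
          have h2 : a⁻¹ = a ^ (Fintype.card F - 2) := by
            have e : Fintype.card F - 1 = (Fintype.card F - 2) + 1 := by omega
            rw [e, pow_succ] at h1
            exact inv_eq_of_mul_eq_one_left h1
          rw [h2]
          exact R.pow_mem ha _ }
  have hνK : ν ∈ K := fun s hs => hS s hs
  -- cardinality of `K`
  have hKcard : q < Fintype.card K := by
    have h1 : (⟨ν, hνK⟩ : K) ≠ 0 := by
      intro h
      exact hν0 (congrArg Subtype.val h)
    have h2 := FiniteField.pow_card_sub_one_eq_one (⟨ν, hνK⟩ : K) h1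
    have h3 : ν ^ (Fintype.card K - 1) = 1 := by
      have := congrArg Subtype.val h2
      simpa using this
    have hK2 : 2 ≤ Fintype.card K := Fintype.one_lt_card
    by_contra hcon
    push Not at hcon
    exact hord (Fintype.card K - 1) (by omega) (by omega) h3
  have hpow := Module.card_eq_pow_finrank (K := K) (V := F)
  have hKtop : ∀ r : F, r ∈ K := by
    have hfr : Module.finrank K F = 1 := by
      by_contra hne1
      rcases Nat.lt_or_gt_of_ne hne1 with h0 | h2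
      · have h0' : Module.finrank K F = 0 := by omega
        rw [h0', pow_zero] at hpow
        omega
      · have h3 : Fintype.card K ^ 2 ≤ Fintype.card K ^ Module.finrank K F :=
          Nat.pow_le_pow_right (by omega) h2
        rw [← hpow, hF] at h3
        have h4 : Fintype.card K ≤ q := by
          by_contra h5
          push Not at h5
          have : q ^ 2 < Fintype.card K ^ 2 := Nat.pow_lt_pow_left h5 (by norm_num)
          omega
        omega
    rw [hfr, pow_one] at hpow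
    intro r
    have hsub : (Finset.univ.filter (fun x : F => x ∈ K)) = Finset.univ := by
      apply Finset.eq_univ_of_card
      rw [hpow]
      exact (Fintype.card_subtype (fun x : F => x ∈ K)).symm
    have : r ∈ Finset.univ.filter (fun x : F => x ∈ K) := by
      rw [hsub]
      exact Finset.mem_univ r
    exact (Finset.mem_filter.mp this).2
  obtain ⟨t0, ht0, ht00⟩ := hne
  intro t
  have := hKtop (t / t0) t0 ht0
  rwa [div_mul_cancel₀ _ ht00] at this

end irr

section abelian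
variable {G : Type*} [Group G] {K : Type*} [Field K]

/-- `h` acts on the one-parameter group `x'` through the scalar `μ`: powers -/
theorem conj_pow_param' {x' : K → G} {h : G} {μ : K} (hx' : ∀ t, h * x' t * h⁻¹ = x' (μ * t))
    (j : ℕ) (t : K) : h ^ j * x' t * (h ^ j)⁻¹ = x' (μ ^ j * t) := by
  induction j generalizing t with
  | zero => simp
  | succ j ih =>
    have e : h ^ (j + 1) * x' t * (h ^ (j + 1))⁻¹ = h ^ j * (h * x' t * h⁻¹) * (h ^ j)⁻¹ := by
      rw [pow_succ]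
      group
    rw [e, hx', ih, pow_succ, mul_assoc]

/-- the two-generation trick, with an additive generation hypothesis -/
theorem two_gen_trick' {x x' : K → G} {h c : G} {α μ : K}
    (hxa : ∀ t s, x t * x s = x (t + s)) (hxa' : ∀ t s, x' t * x' s = x' (t + s))
    (hc : ∀ t, c * x t * c⁻¹ = x' t)
    (hx : ∀ t, h * x t * h⁻¹ = x (α * t)) (hx' : ∀ t, h * x' t * h⁻¹ = x' (μ * t))
    (hcomm : h * (c * h * c⁻¹) = (c * h * c⁻¹) * h)
    (hα : α ≠ 1) (hμ : μ ≠ 1)
    (hirr : ∀ S : AddSubgroup K, (∀ t ∈ S, μ * t ∈ S) → (∃ t ∈ S, t ≠ 0) → ∀ t, t ∈ S)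
    (L : Subgroup G) (hh : h ∈ L) (hy : c * x 1 ∈ L) :
    c ∈ L ∧ (∀ t, x t ∈ L) ∧ ∀ t, x' t ∈ L := by
  have hx0 : x 0 = 1 := by
    have := hxa 0 0
    rw [add_zero] at this
    exact mul_eq_left.mp this
  have hx0' : x' 0 = 1 := by
    have := hxa' 0 0
    rw [add_zero] at this
    exact mul_eq_left.mp this
  have hxinv : ∀ t, (x t)⁻¹ = x (-t) := by
    intro t
    rw [inv_eq_iff_mul_eq_one, hxa, add_neg_cancel, hx0]
  have hxinv' : ∀ t, (x' t)⁻¹ = x' (-t) := by
    intro t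
    rw [inv_eq_iff_mul_eq_one, hxa', add_neg_cancel, hx0']
  have hb1 : (c * x 1) * h * (c * x 1)⁻¹ = x' (1 - α) * (c * h * c⁻¹) := by
    have e1 : x 1 * h * (x 1)⁻¹ = x (1 - α) * h := by
      have := hx (-1)
      rw [mul_neg, mul_one] at this
      have e2 : h * x (-1) = x (-α) * h := by
        rw [← this]
        group
      rw [hxinv, mul_assoc, e2, ← mul_assoc, hxa, sub_eq_add_neg]
    have e3 : (c * x 1) * h * (c * x 1)⁻¹ = c * (x 1 * h * (x 1)⁻¹) * c⁻¹ := by group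
    rw [e3, e1, ← hc (1 - α)]
    group
  have hb1L : x' (1 - α) * (c * h * c⁻¹) ∈ L := by
    rw [← hb1]
    exact mul_mem (mul_mem hy hh) (inv_mem hy)
  have hz : h * (x' (1 - α) * (c * h * c⁻¹)) * h⁻¹ * (x' (1 - α) * (c * h * c⁻¹))⁻¹ =
      x' ((μ - 1) * (1 - α)) := by
    have e1 : h * (x' (1 - α) * (c * h * c⁻¹)) * h⁻¹ =
        (h * x' (1 - α) * h⁻¹) * (h * (c * h * c⁻¹)) * h⁻¹ := by group
    rw [e1, hx', hcomm, mul_inv_rev, hxinv']
    have e2 : x' (μ * (1 - α)) * (c * h * c⁻¹ * h) * h⁻¹ * ((c * h * c⁻¹)⁻¹ * x' (-(1 - α))) =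
        x' (μ * (1 - α)) * x' (-(1 - α)) := by group
    rw [e2, hxa']
    congr 1
    ring
  have ht1 : (μ - 1) * (1 - α) ≠ 0 :=
    mul_ne_zero (sub_ne_zero.mpr hμ) (sub_ne_zero.mpr (Ne.symm hα))
  have hzL : x' ((μ - 1) * (1 - α)) ∈ L := by
    rw [← hz]
    exact mul_mem (mul_mem (mul_mem hh hb1L) (inv_mem hh)) (inv_mem hb1L)
  let S : AddSubgroup K :=
    { carrier := {t | x' t ∈ L}
      add_mem' := by
        intro a b ha hb
        change x' (a + b) ∈ L
        rw [← hxa']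
        exact mul_mem ha hb
      zero_mem' := by
        change x' 0 ∈ L
        rw [hx0']
        exact one_mem _
      neg_mem' := by
        intro a ha
        change x' (-a) ∈ L
        rw [← hxinv']
        exact inv_mem ha }
  have hall' : ∀ t, x' t ∈ L := by
    intro t
    have := hirr S (fun t ht => by
      change x' (μ * t) ∈ L
      rw [← hx']
      exact mul_mem (mul_mem hh ht) (inv_mem hh)) ⟨_, hzL, ht1⟩ t
    exact this
  have hall : ∀ t, x t ∈ L := by
    intro t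
    have e : x t = (c * x 1)⁻¹ * x' t * (c * x 1) := by
      rw [← hc t, mul_inv_rev, hxinv]
      have : x (-1) * c⁻¹ * (c * x t * c⁻¹) * (c * x 1) = x (-1) * x t * x 1 := by group
      rw [this, hxa, hxa]
      congr 1
      ring
    rw [e]
    exact mul_mem (mul_mem (inv_mem hy) (hall' t)) hy
  refine ⟨?_, hall, hall'⟩
  have : c = (c * x 1) * (x 1)⁻¹ := by group
  rw [this]
  exact mul_mem hy (inv_mem (hall 1))

end abelian

section heis
variable {G : Type*} [Group G] {F : Type*} [Field F] [Fintype F] {q : ℕ}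

/-- the parameter condition of the Heisenberg-type root groups -/
def HP (q : ℕ) (t d : F) : Prop := d + d ^ q = t * t ^ q

theorem HP.zero (hF : Fintype.card F = q ^ 2) : HP q (0 : F) 0 := by
  unfold HP
  rw [zero_pow (q_pos hF).ne']
  ring

theorem HP.mul (hF : Fintype.card F = q ^ 2) {t d t' d' : F} (h1 : HP q t d) (h2 : HP q t' d') :
    HP q (t + t') (d + d' + t' * t ^ q) := by
  unfold HP at *
  rw [add_pow_q hF, add_pow_q hF, add_pow_q hF, mul_pow, pow_q_q hF]
  linear_combination h1 + h2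

theorem HP.inv (hF : Fintype.card F = q ^ 2) {t d : F} (h1 : HP q t d) : HP q (-t) (d ^ q) := by
  unfold HP at *
  rw [pow_q_q hF, neg_pow_q hF]
  linear_combination h1

theorem HP.smul (hF : Fintype.card F = q ^ 2) (α : F) {t d : F} (h1 : HP q t d) :
    HP q (α * t) (α * α ^ q * d) := by
  unfold HP at *
  rw [mul_pow, mul_pow, mul_pow, pow_q_q hF]
  linear_combination (α * α ^ q) * h1

theorem HP.sub (hF : Fintype.card F = q ^ 2) {t d d' : F} (h1 : HP q t d) (h2 : HP q t d') :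
    HP q 0 (d - d') := by
  unfold HP at *
  rw [sub_pow_q hF, zero_pow (q_pos hF).ne']
  linear_combination h1 - h2

theorem comm_aux {G : Type*} [Group G] (a b h h' : G) (hcomm : h * h' = h' * h) :
    h * (a * b⁻¹ * h') * h⁻¹ * (a * b⁻¹ * h')⁻¹ = (h * a * h⁻¹) * (h * b * h⁻¹)⁻¹ * b * a⁻¹ := by
  have key : h' * h⁻¹ * h'⁻¹ = h⁻¹ := by
    calc h' * h⁻¹ * h'⁻¹ = h⁻¹ * (h * h') * h⁻¹ * h'⁻¹ := by group
      _ = h⁻¹ * (h' * h) * h⁻¹ * h'⁻¹ := by rw [hcomm]
      _ = h⁻¹ := by group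
  calc h * (a * b⁻¹ * h') * h⁻¹ * (a * b⁻¹ * h')⁻¹
      = h * a * b⁻¹ * (h' * h⁻¹ * h'⁻¹) * b * a⁻¹ := by group
    _ = h * a * b⁻¹ * h⁻¹ * b * a⁻¹ := by rw [key]
    _ = (h * a * h⁻¹) * (h * b * h⁻¹)⁻¹ * b * a⁻¹ := by group

/-- the two-generation trick for Heisenberg-type root groups -/
theorem heis_trick (hF : Fintype.card F = q ^ 2) {E E' : F → F → G} {h c : G} {α ν : F}
    (hmul' : ∀ t d t' d', HP q t d → HP q t' d' →
      E' t d * E' t' d' = E' (t + t') (d + d' + t' * t ^ q))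
    (hc : ∀ t d, HP q t d → c * E t d * c⁻¹ = E' t d)
    (hE : ∀ t d, HP q t d → h * E t d * h⁻¹ = E (α * t) (α * α ^ q * d))
    (hE' : ∀ t d, HP q t d → h * E' t d * h⁻¹ = E' (ν * t) (ν * ν ^ q * d))
    (hcomm : h * (c * h * c⁻¹) = (c * h * c⁻¹) * h)
    (hα : α ≠ 1) (hν : ν ≠ 1)
    (hirr : ∀ S : AddSubgroup F, (∀ t ∈ S, ν * t ∈ S) → (∃ t ∈ S, t ≠ 0) → ∀ t, t ∈ S)
    (t₀ d₀ : F) (h₀ : HP q t₀ d₀) (ht₀ : t₀ ≠ 0)
    (L : Subgroup G) (hh : h ∈ L) (hy : c * E t₀ d₀ ∈ L) :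
    c ∈ L ∧ ∀ t d, HP q t d → E t d ∈ L ∧ E' t d ∈ L := by
  have hq := q_pos hF
  have hP0 : HP q (0 : F) 0 := HP.zero hF
  have hE0' : E' 0 0 = 1 := by
    have := hmul' 0 0 0 0 hP0 hP0
    simp only [add_zero, zero_mul] at this
    exact mul_eq_left.mp this
  have hinv' : ∀ t d, HP q t d → (E' t d)⁻¹ = E' (-t) (d ^ q) := by
    intro t d hP
    rw [inv_eq_iff_mul_eq_one, hmul' t d (-t) (d ^ q) hP (hP.inv hF)]
    have e1 : t + -t = 0 := by ring
    have e2 : d + d ^ q + -t * t ^ q = 0 := by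
      unfold HP at hP
      rw [hP]
      ring
    rw [e1, e2, hE0']
  -- membership in the primed root group with a given first coordinate
  have Qmul : ∀ g g' t t', (∃ d, HP q t d ∧ g = E' t d) → (∃ d, HP q t' d ∧ g' = E' t' d) →
      ∃ d, HP q (t + t') d ∧ g * g' = E' (t + t') d := by
    rintro g g' t t' ⟨d, hP, rfl⟩ ⟨d', hP', rfl⟩
    exact ⟨_, hP.mul hF hP', hmul' t d t' d' hP hP'⟩
  have Qinv : ∀ g t, (∃ d, HP q t d ∧ g = E' t d) → ∃ d, HP q (-t) d ∧ g⁻¹ = E' (-t) d := by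
    rintro g t ⟨d, hP, rfl⟩
    exact ⟨_, hP.inv hF, hinv' t d hP⟩
  -- the first conjugate
  have hPα : HP q (α * t₀) (α * α ^ q * d₀) := h₀.smul hF α
  have hb1 : (c * E t₀ d₀) * h * (c * E t₀ d₀)⁻¹ =
      E' t₀ d₀ * (E' (α * t₀) (α * α ^ q * d₀))⁻¹ * (c * h * c⁻¹) := by
    rw [← hc _ _ h₀, ← hc _ _ hPα, ← hE _ _ h₀]
    group
  have hb1L : E' t₀ d₀ * (E' (α * t₀) (α * α ^ q * d₀))⁻¹ * (c * h * c⁻¹) ∈ L := by
    rw [← hb1]
    exact mul_mem (mul_mem hy hh) (inv_mem hy)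
  have hzL : (h * E' t₀ d₀ * h⁻¹) * (h * E' (α * t₀) (α * α ^ q * d₀) * h⁻¹)⁻¹ *
      E' (α * t₀) (α * α ^ q * d₀) * (E' t₀ d₀)⁻¹ ∈ L := by
    rw [← comm_aux _ _ h (c * h * c⁻¹) hcomm]
    exact mul_mem (mul_mem (mul_mem hh hb1L) (inv_mem hh)) (inv_mem hb1L)
  rw [hE' _ _ h₀, hE' _ _ hPα] at hzL
  have hQ0 : ∃ d, HP q t₀ d ∧ E' t₀ d₀ = E' t₀ d := ⟨d₀, h₀, rfl⟩
  have hQ1 : ∃ d, HP q (ν * t₀) d ∧ E' (ν * t₀) (ν * ν ^ q * d₀) = E' (ν * t₀) d :=
    ⟨_, h₀.smul hF ν, rfl⟩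
  have hQ2 : ∃ d, HP q (α * t₀) d ∧ E' (α * t₀) (α * α ^ q * d₀) = E' (α * t₀) d :=
    ⟨_, hPα, rfl⟩
  have hQ3 : ∃ d, HP q (ν * (α * t₀)) d ∧
      E' (ν * (α * t₀)) (ν * ν ^ q * (α * α ^ q * d₀)) = E' (ν * (α * t₀)) d :=
    ⟨_, hPα.smul hF ν, rfl⟩
  obtain ⟨d₂, hP₂, hz⟩ := Qmul _ _ _ _ (Qmul _ _ _ _ (Qmul _ _ _ _ hQ1 (Qinv _ _ hQ3)) hQ2)
    (Qinv _ _ hQ0)
  rw [hz] at hzL
  have ht₂ : ν * t₀ + -(ν * (α * t₀)) + α * t₀ + -t₀ ≠ 0 := by
    have e : ν * t₀ + -(ν * (α * t₀)) + α * t₀ + -t₀ = (ν - 1) * (1 - α) * t₀ := by ring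
    rw [e]
    exact mul_ne_zero (mul_ne_zero (sub_ne_zero.mpr hν) (sub_ne_zero.mpr (Ne.symm hα))) ht₀
  -- the additive group of first coordinates
  let S : AddSubgroup F :=
    { carrier := {t | ∃ d, HP q t d ∧ E' t d ∈ L}
      add_mem' := by
        rintro a b ⟨d, hP, hL⟩ ⟨d', hP', hL'⟩
        refine ⟨_, hP.mul hF hP', ?_⟩
        rw [← hmul' a d b d' hP hP']
        exact mul_mem hL hL'
      zero_mem' := ⟨0, hP0, by rw [hE0']; exact one_mem _⟩
      neg_mem' := by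
        rintro a ⟨d, hP, hL⟩
        refine ⟨_, hP.inv hF, ?_⟩
        rw [← hinv' a d hP]
        exact inv_mem hL }
  have hallS : ∀ t, ∃ d, HP q t d ∧ E' t d ∈ L := by
    intro t
    have := hirr S (by
      rintro t ⟨d, hP, hL⟩
      refine ⟨_, hP.smul hF ν, ?_⟩
      rw [← hE' t d hP]
      exact mul_mem (mul_mem hh hL) (inv_mem hh)) ⟨_, ⟨d₂, hP₂, hzL⟩, ht₂⟩ t
    exact this
  -- the centre
  have hcentre : ∀ e : F, HP q 0 e → E' 0 e ∈ L := by
    intro e he
    have heq : e ^ q = -e := by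
      unfold HP at he
      linear_combination he
    obtain ⟨s, hs⟩ := exists_sub_conj hF e heq
    obtain ⟨d1, hP1, hL1⟩ := hallS 1
    obtain ⟨ds, hPs, hLs⟩ := hallS s
    have hAB := hmul' 1 d1 s ds hP1 hPs
    have hBA := hmul' s ds 1 d1 hPs hP1
    have h3 := hmul' (s + 1) (ds + d1 + 1 * s ^ q) 0 e (hPs.mul hF hP1) he
    have e1 : E' (s + 1 + 0) (ds + d1 + 1 * s ^ q + e + 0 * (s + 1) ^ q) =
        E' (1 + s) (d1 + ds + s * 1 ^ q) := by
      congr 1
      · ring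
      · rw [← hs]
        ring
    rw [e1, ← hAB, ← hBA] at h3
    have h4 : E' 0 e = (E' s ds * E' 1 d1)⁻¹ * (E' 1 d1 * E' s ds) := by
      rw [← h3]
      group
    rw [h4]
    exact mul_mem (inv_mem (mul_mem hLs hL1)) (mul_mem hL1 hLs)
  have hall' : ∀ t d, HP q t d → E' t d ∈ L := by
    intro t d hP
    obtain ⟨d', hP', hL'⟩ := hallS t
    have h3 := hmul' t d' 0 (d - d') hP' (hP.sub hF hP')
    have e1 : E' (t + 0) (d' + (d - d') + 0 * t ^ q) = E' t d := by
      congr 1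
      · ring
      · ring
    rw [e1] at h3
    rw [← h3]
    exact mul_mem hL' (hcentre _ (hP.sub hF hP'))
  -- back to the unprimed group
  have hback : ∀ t d, HP q t d → (E t₀ d₀)⁻¹ * E t d * E t₀ d₀ ∈ L := by
    intro t d hP
    have e : (E t₀ d₀)⁻¹ * E t d * E t₀ d₀ = (c * E t₀ d₀)⁻¹ * E' t d * (c * E t₀ d₀) := by
      rw [← hc t d hP]
      group
    rw [e]
    exact mul_mem (mul_mem (inv_mem hy) (hall' t d hP)) hy
  have hE₀L : E t₀ d₀ ∈ L := by
    have := hback t₀ d₀ h₀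
    rwa [inv_mul_cancel, one_mul] at this
  have hcL : c ∈ L := by
    have : c = (c * E t₀ d₀) * (E t₀ d₀)⁻¹ := by group
    rw [this]
    exact mul_mem hy (inv_mem hE₀L)
  refine ⟨hcL, fun t d hP => ⟨?_, hall' t d hP⟩⟩
  have : E t d = c⁻¹ * E' t d * c := by
    rw [← hc t d hP]
    group
  rw [this]
  exact mul_mem (mul_mem (inv_mem hcL) (hall' t d hP)) hcL

end heis

end Cfsg.Agent.Lib.Helper9.SUGen
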