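import Mathlib
import Cfsg.Agent.Lib.Helper9.SUGenC
import Cfsg.Agent.Lib.Helper9.SUGenT

/-!
# Two-generation of the special unitary groups, part D: root elements
-/

set_option autoImplicit false

namespace Cfsg.Agent.Lib.Helper9.SUGen

open Matrix Cfsg.Agent.Lib.Helper6 Cfsg.Agent.S0779 Cfsg.Agent.S0781
open Cfsg.Agent.Lib.Helper6.SUG Cfsg.Agent.Lib.Helper13

section elems
variable {F : Type*} [Field F] [Fintype F] {q n : ℕ}

local notation "hh" => Cfsg.hermForm n F q

theorem av_neg (g : ↥(Cfsg.SU n F q)) (x : Fin n → F) : av g (-x) = -av g x := by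
  have := av_smul g (-1 : F) x
  rwa [neg_one_smul, neg_one_smul] at this

theorem av_sub (g : ↥(Cfsg.SU n F q)) (x y : Fin n → F) : av g (x - y) = av g x - av g y := by
  rw [sub_eq_add_neg, av_add, av_neg, ← sub_eq_add_neg]

theorem herm_av_inv (g : ↥(Cfsg.SU n F q)) (x u : Fin n → F) :
    hh (av g⁻¹ x) u = hh x (av g u) := by
  rw [← herm_av g (av g⁻¹ x) u, av_av_inv]

/-! ### Siegel elements -/

/-- the one-parameter group of Siegel elements attached to perpendicular isotropic `u`, `a` -/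
def sg (hF : Fintype.card F = q ^ 2) (u a : Fin n → F) (huu : hh u u = 0) (hua : hh u a = 0)
    (haa : hh a a = 0) (t : F) : ↥(Cfsg.SU n F q) :=
  eich hF u (t • a) 0 huu (by rw [herm_smul_right, hua, mul_zero])
    (by rw [herm_smul_left, herm_smul_right, haa, zero_pow (q_pos hF).ne']; ring)

theorem av_sg (hF : Fintype.card F = q ^ 2) (u a : Fin n → F) (huu : hh u u = 0)
    (hua : hh u a = 0) (haa : hh a a = 0) (t : F) (x : Fin n → F) :
    av (sg hF u a huu hua haa t) x = x + (t * hh x u) • a - (t ^ q * hh x a) • u := by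
  unfold sg
  rw [av_eich, herm_smul_right]
  module

theorem sg_add (hF : Fintype.card F = q ^ 2) (u a : Fin n → F) (huu : hh u u = 0)
    (hua : hh u a = 0) (haa : hh a a = 0) (t s : F) :
    sg hF u a huu hua haa t * sg hF u a huu hua haa s = sg hF u a huu hua haa (t + s) := by
  have hau : hh a u = 0 := herm_swap_zero hF hua
  apply ext_av
  intro x
  rw [av_mul, av_sg, av_sg, av_sg]
  simp only [herm_add_left, herm_sub_left', herm_smul_left, huu, hua, haa, hau, add_pow_q hF]
  module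

theorem conj_sg (hF : Fintype.card F = q ^ 2) (g : ↥(Cfsg.SU n F q)) (u a u' a' : Fin n → F)
    (huu : hh u u = 0) (hua : hh u a = 0) (haa : hh a a = 0)
    (huu' : hh u' u' = 0) (hua' : hh u' a' = 0) (haa' : hh a' a' = 0)
    (hgu : av g u = u') (hga : av g a = a') (t : F) :
    g * sg hF u a huu hua haa t * g⁻¹ = sg hF u' a' huu' hua' haa' t := by
  apply ext_av
  intro x
  rw [av_mul, av_mul, av_sg, av_sg, av_sub, av_add, av_smul, av_smul, av_av_inv, herm_av_inv,
    herm_av_inv, hgu, hga]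

theorem sg_smul_left (hF : Fintype.card F = q ^ 2) (u a : Fin n → F) (l : F)
    (huu : hh u u = 0) (hua : hh u a = 0) (haa : hh a a = 0)
    (huu' : hh (l • u) (l • u) = 0) (hua' : hh (l • u) a = 0) (t : F) :
    sg hF (l • u) a huu' hua' haa t = sg hF u a huu hua haa (l ^ q * t) := by
  apply ext_av
  intro x
  rw [av_sg, av_sg, herm_smul_right, mul_pow, pow_q_q hF]
  module

theorem sg_smul_right (hF : Fintype.card F = q ^ 2) (u a : Fin n → F) (l : F)
    (huu : hh u u = 0) (hua : hh u a = 0) (haa : hh a a = 0)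
    (hua' : hh u (l • a) = 0) (haa' : hh (l • a) (l • a) = 0) (t : F) :
    sg hF u (l • a) huu hua' haa' t = sg hF u a huu hua haa (t * l) := by
  apply ext_av
  intro x
  rw [av_sg, av_sg, herm_smul_right, mul_pow]
  module

theorem sg_swap (hF : Fintype.card F = q ^ 2) (u a : Fin n → F)
    (huu : hh u u = 0) (hua : hh u a = 0) (haa : hh a a = 0) (hau : hh a u = 0) (s : F) :
    sg hF a u haa hau huu s = sg hF u a huu hua haa (-(s ^ q)) := by
  apply ext_av
  intro x
  rw [av_sg, av_sg, neg_pow_q hF, pow_q_q hF]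
  module

/-- the commutator of two Siegel elements with the same centre is a transvection -/
theorem sg_comm (hF : Fintype.card F = q ^ 2) (u a b : Fin n → F)
    (huu : hh u u = 0) (hua : hh u a = 0) (haa : hh a a = 0) (hub : hh u b = 0)
    (hbb : hh b b = 0) (hab : hh a b = 1) (t s c : F) (hc : c ^ q = -c)
    (hcdef : c = t * s ^ q - t ^ q * s) :
    sg hF u a huu hua haa t * sg hF u b huu hub hbb s =
      tv hF u c huu hc * (sg hF u b huu hub hbb s * sg hF u a huu hua haa t) := by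
  have hau : hh a u = 0 := herm_swap_zero hF hua
  have hbu : hh b u = 0 := herm_swap_zero hF hub
  have hba : hh b a = 1 := by rw [← herm_conj hF, hab, one_pow]
  apply ext_av
  intro x
  rw [av_mul, av_mul, av_mul, av_tv, av_sg, av_sg, av_sg, av_sg]
  simp only [herm_add_left, herm_sub_left', herm_smul_left, huu, hua, haa, hau, hub, hbb, hbu, hab,
    hba, hcdef]
  module

/-! ### Heisenberg-type root elements -/

/-- the root element `x ↦ x + h(x,u)(t w - d u) - h(x, t w) u` -/
def hs (hF : Fintype.card F = q ^ 2) (u w : Fin n → F) (huu : hh u u = 0) (huw : hh u w = 0)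
    (hww : hh w w = 1) (t d : F) (hd : HP q t d) : ↥(Cfsg.SU n F q) :=
  eich hF u (t • w) d huu (by rw [herm_smul_right, huw, mul_zero])
    (by rw [herm_smul_left, herm_smul_right, hww, mul_one]; exact hd)

theorem av_hs (hF : Fintype.card F = q ^ 2) (u w : Fin n → F) (huu : hh u u = 0)
    (huw : hh u w = 0) (hww : hh w w = 1) (t d : F) (hd : HP q t d) (x : Fin n → F) :
    av (hs hF u w huu huw hww t d hd) x =
      x + hh x u • (t • w - d • u) - (t ^ q * hh x w) • u := by
  unfold hs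
  rw [av_eich, herm_smul_right]

open Classical in
/-- the total version of `hs` -/
noncomputable def hsT (hF : Fintype.card F = q ^ 2) (u w : Fin n → F) (huu : hh u u = 0)
    (huw : hh u w = 0) (hww : hh w w = 1) (t d : F) : ↥(Cfsg.SU n F q) :=
  if hd : HP q t d then hs hF u w huu huw hww t d hd else 1

theorem hsT_eq (hF : Fintype.card F = q ^ 2) (u w : Fin n → F) (huu : hh u u = 0)
    (huw : hh u w = 0) (hww : hh w w = 1) (t d : F) (hd : HP q t d) :
    hsT hF u w huu huw hww t d = hs hF u w huu huw hww t d hd := by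
  unfold hsT
  rw [dif_pos hd]

theorem av_hsT (hF : Fintype.card F = q ^ 2) (u w : Fin n → F) (huu : hh u u = 0)
    (huw : hh u w = 0) (hww : hh w w = 1) (t d : F) (hd : HP q t d) (x : Fin n → F) :
    av (hsT hF u w huu huw hww t d) x =
      x + hh x u • (t • w - d • u) - (t ^ q * hh x w) • u := by
  rw [hsT_eq hF u w huu huw hww t d hd, av_hs]

theorem hsT_mul (hF : Fintype.card F = q ^ 2) (u w : Fin n → F) (huu : hh u u = 0)
    (huw : hh u w = 0) (hww : hh w w = 1) (t d t' d' : F) (hd : HP q t d) (hd' : HP q t' d') :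
    hsT hF u w huu huw hww t d * hsT hF u w huu huw hww t' d' =
      hsT hF u w huu huw hww (t + t') (d + d' + t' * t ^ q) := by
  have hwu : hh w u = 0 := herm_swap_zero hF huw
  apply ext_av
  intro x
  rw [av_mul, av_hsT hF u w huu huw hww t d hd, av_hsT hF u w huu huw hww t' d' hd',
    av_hsT hF u w huu huw hww _ _ (hd.mul hF hd')]
  simp only [herm_add_left, herm_sub_left', herm_smul_left, huu, huw, hww, hwu, add_pow_q hF]
  module

theorem conj_hsT (hF : Fintype.card F = q ^ 2) (g : ↥(Cfsg.SU n F q)) (u w u' w' : Fin n → F)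
    (huu : hh u u = 0) (huw : hh u w = 0) (hww : hh w w = 1)
    (huu' : hh u' u' = 0) (huw' : hh u' w' = 0) (hww' : hh w' w' = 1)
    (hgu : av g u = u') (hgw : av g w = w') (t d : F) (hd : HP q t d) :
    g * hsT hF u w huu huw hww t d * g⁻¹ = hsT hF u' w' huu' huw' hww' t d := by
  apply ext_av
  intro x
  rw [av_mul, av_mul, av_hsT hF u w huu huw hww t d hd, av_hsT hF u' w' huu' huw' hww' t d hd,
    av_sub, av_add, av_smul, av_smul, av_sub, av_smul, av_smul, av_av_inv, herm_av_inv,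
    herm_av_inv, hgu, hgw]

theorem hsT_scale (hF : Fintype.card F = q ^ 2) (u w : Fin n → F) (l δ : F)
    (huu : hh u u = 0) (huw : hh u w = 0) (hww : hh w w = 1)
    (huu' : hh (l • u) (l • u) = 0) (huw' : hh (l • u) (δ • w) = 0)
    (hww' : hh (δ • w) (δ • w) = 1) (hδ : δ * δ ^ q = 1) (t d : F) (hd : HP q t d) :
    hsT hF (l • u) (δ • w) huu' huw' hww' t d =
      hsT hF u w huu huw hww (l ^ q * δ * t) (l ^ q * δ * (l ^ q * δ) ^ q * d) := by
  have hd2 : HP q (l ^ q * δ * t) (l ^ q * δ * (l ^ q * δ) ^ q * d) := hd.smul hF _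
  apply ext_av
  intro x
  rw [av_hsT hF _ _ huu' huw' hww' t d hd, av_hsT hF u w huu huw hww _ _ hd2, herm_smul_right,
    herm_smul_right, mul_pow, mul_pow, mul_pow, pow_q_q hF]
  have e : l ^ q * δ * (l * δ ^ q) = l ^ q * l * (δ * δ ^ q) := by ring
  rw [e, hδ]
  have e2 : δ ^ q * δ = 1 := by rw [mul_comm]; exact hδ
  ext i
  simp only [Pi.add_apply, Pi.sub_apply, Pi.smul_apply, smul_eq_mul]
  ring

theorem hsT_zero_eq_tv (hF : Fintype.card F = q ^ 2) (u w : Fin n → F)
    (huu : hh u u = 0) (huw : hh u w = 0) (hww : hh w w = 1) (d : F) (hd : HP q 0 d)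
    (hd' : (-d) ^ q = -(-d)) :
    hsT hF u w huu huw hww 0 d = tv hF u (-d) huu hd' := by
  apply ext_av
  intro x
  rw [av_hsT hF u w huu huw hww 0 d hd, av_tv, zero_pow (q_pos hF).ne']
  module

/-! ### Weyl elements of a hyperbolic pair -/

/-- the Weyl element `e ↦ -κ⁻¹ f`, `f ↦ κ e` -/
def wl (hF : Fintype.card F = q ^ 2) (e f : Fin n → F) (hee : hh e e = 0) (hff : hh f f = 0)
    (κ : F) (hκ : κ ^ q = -κ) : ↥(Cfsg.SU n F q) :=
  tv hF e κ hee hκ * tv hF f (-κ⁻¹) hff (by rw [neg_pow_q hF, inv_pow, hκ, inv_neg]) *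
    tv hF e κ hee hκ

theorem av_wl_fix (hF : Fintype.card F = q ^ 2) (e f : Fin n → F) (hee : hh e e = 0)
    (hff : hh f f = 0) (κ : F) (hκ : κ ^ q = -κ) (z : Fin n → F) (hze : hh z e = 0)
    (hzf : hh z f = 0) : av (wl hF e f hee hff κ hκ) z = z := by
  unfold wl
  rw [av_mul, av_mul, av_tv_fix hF e κ hee hκ z hze, av_tv_fix hF f _ hff _ z hzf,
    av_tv_fix hF e κ hee hκ z hze]

theorem av_wl_e (hF : Fintype.card F = q ^ 2) (e f : Fin n → F) (hee : hh e e = 0)
    (hff : hh f f = 0) (hef : hh e f = 1) (κ : F) (hκ : κ ^ q = -κ) (hκ0 : κ ≠ 0) :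
    av (wl hF e f hee hff κ hκ) e = (-κ⁻¹) • f := by
  have hfe : hh f e = 1 := by rw [← herm_conj hF, hef, one_pow]
  have hc2 : (-κ⁻¹) ^ q = -(-κ⁻¹) := by rw [neg_pow_q hF, inv_pow, hκ, inv_neg]
  have s1 : av (tv hF e κ hee hκ) e = e := av_tv_fix hF e κ hee hκ e hee
  have s2 : av (tv hF f (-κ⁻¹) hff hc2) e = e + (-κ⁻¹) • f := by
    rw [av_tv, hef, mul_one]
  have s3 : av (tv hF e κ hee hκ) (e + (-κ⁻¹) • f) = (-κ⁻¹) • f := by
    rw [av_tv, herm_add_left, herm_smul_left, hee, hfe]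
    have : κ * (0 + -κ⁻¹ * 1) = -1 := by
      field_simp
      ring
    rw [this]
    module
  unfold wl
  rw [av_mul, av_mul, s1, s2, s3]

theorem av_wl_f (hF : Fintype.card F = q ^ 2) (e f : Fin n → F) (hee : hh e e = 0)
    (hff : hh f f = 0) (hef : hh e f = 1) (κ : F) (hκ : κ ^ q = -κ) (hκ0 : κ ≠ 0) :
    av (wl hF e f hee hff κ hκ) f = κ • e := by
  have hfe : hh f e = 1 := by rw [← herm_conj hF, hef, one_pow]
  have hc2 : (-κ⁻¹) ^ q = -(-κ⁻¹) := by rw [neg_pow_q hF, inv_pow, hκ, inv_neg]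
  have s1 : av (tv hF e κ hee hκ) f = f + κ • e := by
    rw [av_tv, hfe, mul_one]
  have s2 : av (tv hF f (-κ⁻¹) hff hc2) (f + κ • e) = κ • e := by
    rw [av_tv, herm_add_left, herm_smul_left, hff, hef]
    have : -κ⁻¹ * (0 + κ * 1) = -1 := by
      field_simp
      ring
    rw [this]
    module
  have s3 : av (tv hF e κ hee hκ) (κ • e) = κ • e := by
    rw [av_tv, herm_smul_left, hee, mul_zero, mul_zero, zero_smul, add_zero]
  unfold wl
  rw [av_mul, av_mul, s1, s2, s3]

theorem wl_mem (hF : Fintype.card F = q ^ 2) {L : Subgroup ↥(Cfsg.SU n F q)} {e f : Fin n → F}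
    (he : XL L e) (hf : XL L f) (κ : F) (hκ : κ ^ q = -κ) : wl hF e f he.1 hf.1 κ hκ ∈ L := by
  unfold wl
  exact L.mul_mem (L.mul_mem (he.tv_mem hF κ hκ) (hf.tv_mem hF _ _)) (he.tv_mem hF κ hκ)

end elems

end Cfsg.Agent.Lib.Helper9.SUGen
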