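import Mathlib
import Cfsg.Agent.Lib.Helper9.SUGenD

/-!
# Two-generation of the special unitary groups, part E: torus, permutation and Coxeter elements
-/

set_option autoImplicit false

namespace Cfsg.Agent.Lib.Helper9.SUGen

open Matrix Cfsg.Agent.Lib.Helper6 Cfsg.Agent.S0779 Cfsg.Agent.S0781
open Cfsg.Agent.Lib.Helper6.SUG Cfsg.Agent.Lib.Helper13

section frame2
variable {F : Type*} [Field F] [Fintype F] {q : ℕ} (C : Hyp F q)

theorem herm_ev_ev_far (hF : Fintype.card F = q ^ 2) {n : ℕ} (k k' : ℕ) (hk : k + 1 < n)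
    (hkk' : k + 2 ≤ k' ∨ k' + 2 ≤ k) :
    Cfsg.hermForm n F q (ev C n k) (ev C n k') = 0 := herm_pl_pl_far hF k k' hk hkk' _ _ _ _

theorem herm_ev_fv_far (hF : Fintype.card F = q ^ 2) {n : ℕ} (k k' : ℕ) (hk : k + 1 < n)
    (hkk' : k + 2 ≤ k' ∨ k' + 2 ≤ k) :
    Cfsg.hermForm n F q (ev C n k) (fv C n k') = 0 := herm_pl_pl_far hF k k' hk hkk' _ _ _ _

theorem herm_fv_ev_far (hF : Fintype.card F = q ^ 2) {n : ℕ} (k k' : ℕ) (hk : k + 1 < n)
    (hkk' : k + 2 ≤ k' ∨ k' + 2 ≤ k) :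
    Cfsg.hermForm n F q (fv C n k) (ev C n k') = 0 := herm_pl_pl_far hF k k' hk hkk' _ _ _ _

theorem herm_fv_fv_far (hF : Fintype.card F = q ^ 2) {n : ℕ} (k k' : ℕ) (hk : k + 1 < n)
    (hkk' : k + 2 ≤ k' ∨ k' + 2 ≤ k) :
    Cfsg.hermForm n F q (fv C n k) (fv C n k') = 0 := herm_pl_pl_far hF k k' hk hkk' _ _ _ _

/-! ### torus elements -/

/-- the matrix scaling `ev k` by `d` and `fv k` by `(d^q)⁻¹` -/
def Dm (n k : ℕ) (d : F) : Matrix (Fin n) (Fin n) F :=
  Bm q 1 (d - 1) ((d ^ q)⁻¹ - 1) (ev C n k) (fv C n k)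

theorem Dm_mulVec {n : ℕ} (k : ℕ) (hk : k + 1 < n) (d : F) (x : Fin n → F) :
    Dm C n k d *ᵥ x = x + (((d ^ q)⁻¹ - 1) * Cfsg.hermForm n F q x (ev C n k)) • fv C n k +
      ((d - 1) * Cfsg.hermForm n F q x (fv C n k)) • ev C n k := by
  unfold Dm
  rw [Bm_mulVec _ _ _ _ _ x (herm_fv_fv C k hk), one_smul]

theorem Dm_pres (hF : Fintype.card F = q ^ 2) {n : ℕ} (k : ℕ) (hk : k + 1 < n) (d : F)
    (hd : d ≠ 0) (x y : Fin n → F) :
    Cfsg.hermForm n F q (Dm C n k d *ᵥ x) (Dm C n k d *ᵥ y) = Cfsg.hermForm n F q x y := by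
  have hdq : d ^ q ≠ 0 := pow_ne_zero _ hd
  unfold Dm
  apply Bm_pres hF 1 _ _ _ _ (herm_ev_ev C k hk) (herm_fv_fv C k hk) (herm_ev_fv C k hk)
    (herm_fv_ev C hF k hk)
  · rw [one_pow, one_mul]
  · rw [sub_pow_q hF, one_pow]
    field_simp
    ring
  · rw [sub_pow_q hF, one_pow, inv_pow, pow_q_q hF]
    field_simp
    ring

theorem Dm_det (hF : Fintype.card F = q ^ 2) {n : ℕ} (k : ℕ) (hk : k + 1 < n) (d : F) :
    (Dm C n k d).det = d * (d ^ q)⁻¹ := by
  unfold Dm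
  rw [Bm_det _ _ _ _ _ (herm_ev_fv C k hk) (herm_fv_ev C hF k hk), one_pow]
  ring

theorem Dm_fix {n : ℕ} (k : ℕ) (hk : k + 1 < n) (d : F) (z : Fin n → F)
    (h1 : Cfsg.hermForm n F q z (ev C n k) = 0) (h2 : Cfsg.hermForm n F q z (fv C n k) = 0) :
    Dm C n k d *ᵥ z = z := by
  rw [Dm_mulVec C k hk, h1, h2, mul_zero, mul_zero, zero_smul, zero_smul, add_zero, add_zero]

theorem Dm_ev (hF : Fintype.card F = q ^ 2) {n : ℕ} (k : ℕ) (hk : k + 1 < n) (d : F) :
    Dm C n k d *ᵥ ev C n k = d • ev C n k := by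
  rw [Dm_mulVec C k hk, herm_ev_ev C k hk, herm_ev_fv C k hk]
  module

theorem Dm_fv (hF : Fintype.card F = q ^ 2) {n : ℕ} (k : ℕ) (hk : k + 1 < n) (d : F) :
    Dm C n k d *ᵥ fv C n k = (d ^ q)⁻¹ • fv C n k := by
  rw [Dm_mulVec C k hk, herm_fv_fv C k hk, herm_fv_ev C hF k hk]
  module

/-- the torus element scaling `ev k, fv k, ev k', fv k'` by `d, (d^q)⁻¹, d⁻¹, d^q` -/
def tor2 (hF : Fintype.card F = q ^ 2) (n k k' : ℕ) (hk : k + 1 < n) (hk' : k' + 1 < n) (d : F)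
    (hd : d ≠ 0) : ↥(Cfsg.SU n F q) :=
  mkSU (Dm C n k d * Dm C n k' d⁻¹)
    (by
      have hdq : d ^ q ≠ 0 := pow_ne_zero _ hd
      rw [det_mul, Dm_det C hF k hk, Dm_det C hF k' hk', inv_pow]
      field_simp)
    (by
      intro x y
      rw [← mulVec_mulVec, ← mulVec_mulVec, Dm_pres C hF k hk d hd,
        Dm_pres C hF k' hk' d⁻¹ (inv_ne_zero hd)])

theorem av_tor2 (hF : Fintype.card F = q ^ 2) (n k k' : ℕ) (hk : k + 1 < n) (hk' : k' + 1 < n)
    (d : F) (hd : d ≠ 0) (x : Fin n → F) :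
    av (tor2 C hF n k k' hk hk' d hd) x = Dm C n k d *ᵥ (Dm C n k' d⁻¹ *ᵥ x) := by
  unfold av tor2 mkSU
  simp only
  rw [mulVec_mulVec]

theorem av_tor2_fix (hF : Fintype.card F = q ^ 2) (n k k' : ℕ) (hk : k + 1 < n)
    (hk' : k' + 1 < n) (d : F) (hd : d ≠ 0) (z : Fin n → F)
    (h1 : Cfsg.hermForm n F q z (ev C n k) = 0) (h2 : Cfsg.hermForm n F q z (fv C n k) = 0)
    (h3 : Cfsg.hermForm n F q z (ev C n k') = 0) (h4 : Cfsg.hermForm n F q z (fv C n k') = 0) :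
    av (tor2 C hF n k k' hk hk' d hd) z = z := by
  rw [av_tor2, Dm_fix C k' hk' _ z h3 h4, Dm_fix C k hk _ z h1 h2]

theorem av_tor2_e (hF : Fintype.card F = q ^ 2) (n k k' : ℕ) (hk : k + 1 < n)
    (hk' : k' + 1 < n) (hkk' : k + 2 ≤ k' ∨ k' + 2 ≤ k) (d : F) (hd : d ≠ 0) :
    av (tor2 C hF n k k' hk hk' d hd) (ev C n k) = d • ev C n k := by
  rw [av_tor2, Dm_fix C k' hk' _ _ (herm_ev_ev_far C hF k k' hk hkk')
    (herm_ev_fv_far C hF k k' hk hkk'), Dm_ev C hF k hk]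

theorem av_tor2_f (hF : Fintype.card F = q ^ 2) (n k k' : ℕ) (hk : k + 1 < n)
    (hk' : k' + 1 < n) (hkk' : k + 2 ≤ k' ∨ k' + 2 ≤ k) (d : F) (hd : d ≠ 0) :
    av (tor2 C hF n k k' hk hk' d hd) (fv C n k) = (d ^ q)⁻¹ • fv C n k := by
  rw [av_tor2, Dm_fix C k' hk' _ _ (herm_fv_ev_far C hF k k' hk hkk')
    (herm_fv_fv_far C hF k k' hk hkk'), Dm_fv C hF k hk]

theorem av_tor2_e' (hF : Fintype.card F = q ^ 2) (n k k' : ℕ) (hk : k + 1 < n)
    (hk' : k' + 1 < n) (hkk' : k + 2 ≤ k' ∨ k' + 2 ≤ k) (d : F) (hd : d ≠ 0) :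
    av (tor2 C hF n k k' hk hk' d hd) (ev C n k') = d⁻¹ • ev C n k' := by
  have hkk : k' + 2 ≤ k ∨ k + 2 ≤ k' := hkk'.symm
  rw [av_tor2, Dm_ev C hF k' hk', mulVec_smul, Dm_fix C k hk _ _
    (herm_ev_ev_far C hF k' k hk' hkk) (herm_ev_fv_far C hF k' k hk' hkk)]

theorem av_tor2_f' (hF : Fintype.card F = q ^ 2) (n k k' : ℕ) (hk : k + 1 < n)
    (hk' : k' + 1 < n) (hkk' : k + 2 ≤ k' ∨ k' + 2 ≤ k) (d : F) (hd : d ≠ 0) :
    av (tor2 C hF n k k' hk hk' d hd) (fv C n k') = d ^ q • fv C n k' := by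
  have hkk : k' + 2 ≤ k ∨ k + 2 ≤ k' := hkk'.symm
  rw [av_tor2, Dm_fv C hF k' hk', mulVec_smul, Dm_fix C k hk _ _
    (herm_fv_ev_far C hF k' k hk' hkk) (herm_fv_fv_far C hF k' k hk' hkk), inv_pow, inv_inv]

end frame2

/-! ### the shift permutation -/

section shift

/-- forward shift of indices by `c` (cyclically, downwards) -/
def shf (n c j : ℕ) : ℕ := if j < c then j + (n - c) else j - c

/-- backward shift -/
def shb (n c j : ℕ) : ℕ := if j + c < n then j + c else j + c - n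

/-- the cyclic shift of the coordinates -/
def sh (n c : ℕ) (hc : c ≤ n) : Equiv.Perm (Fin n) where
  toFun j := ⟨shf n c j.val, by have := j.2; unfold shf; split_ifs <;> omega⟩
  invFun j := ⟨shb n c j.val, by have := j.2; unfold shb; split_ifs <;> omega⟩
  left_inv := by
    intro j
    apply Fin.ext
    have := j.2
    simp only [shf, shb]
    split_ifs <;> omega
  right_inv := by
    intro j
    apply Fin.ext
    have := j.2
    simp only [shf, shb]
    split_ifs <;> omega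

theorem sh_val (n c : ℕ) (hc : c ≤ n) (j : Fin n) : (sh n c hc j).val = shf n c j.val := rfl

theorem sh_two (n : ℕ) (hn : 2 ≤ n) :
    sh n 2 hn = sh n 1 (by omega) * sh n 1 (by omega) := by
  ext j
  rw [Equiv.Perm.mul_apply, sh_val, sh_val, sh_val]
  have := j.2
  simp only [shf]
  split_ifs <;> omega

end shift

section perm
variable {F : Type*} [Field F] [Fintype F] {q : ℕ}

/-- the plane shift as an element of `SU` -/
def piS (F : Type*) [Field F] [Fintype F] (q n : ℕ) (hn : 2 ≤ n) : ↥(Cfsg.SU n F q) :=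
  mkSU ((sh n 2 hn).permMatrix F)
    (by
      rw [Matrix.det_permutation, sh_two n hn, Equiv.Perm.sign_mul, Int.units_mul_self]
      simp)
    (by
      intro x y
      rw [Matrix.permMatrix_mulVec, Matrix.permMatrix_mulVec]
      unfold Cfsg.hermForm
      exact Equiv.sum_comp (sh n 2 hn) (fun j => x j * y j ^ q))

theorem av_piS (n : ℕ) (hn : 2 ≤ n) (x : Fin n → F) :
    av (piS F q n hn) x = x ∘ (sh n 2 hn) := by
  unfold av piS mkSU
  simp only
  rw [Matrix.permMatrix_mulVec]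

theorem av_piS_pl (n : ℕ) (hn : 2 ≤ n) (k : ℕ) (hk : k + 3 < n) (a b : F) :
    av (piS F q n hn) (pl n k a b) = pl n (k + 2) a b := by
  rw [av_piS]
  funext j
  have := j.2
  simp only [Function.comp_apply, pl, sh_val, shf]
  split_ifs <;> first | rfl | omega

theorem av_piS_pl_last (n : ℕ) (hn : 2 ≤ n) (a b : F) :
    av (piS F q (n + 2) (by omega)) (pl (n + 2) n a b) = pl (n + 2) 0 a b := by
  rw [av_piS]
  funext j
  have := j.2
  simp only [Function.comp_apply, pl, sh_val, shf]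
  split_ifs <;> first | rfl | omega

end perm

section cox
variable {F : Type*} [Field F] [Fintype F] {q : ℕ} (C : Hyp F q)

/-- the Coxeter-type element of `SU_{n+2}`: it shifts the planes and twists the last one -/
def cox (hF : Fintype.card F = q ^ 2) (n : ℕ) (κ : F) (hκ : κ ^ q = -κ) :
    ↥(Cfsg.SU (n + 2) F q) :=
  piS F q (n + 2) (by omega) *
    wl hF (ev C (n + 2) n) (fv C (n + 2) n) (herm_ev_ev C n (by omega)) (herm_fv_fv C n (by omega))
      κ hκ

theorem av_cox_e (hF : Fintype.card F = q ^ 2) (n : ℕ) (κ : F) (hκ : κ ^ q = -κ)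
    (k : ℕ) (hk : k + 1 < n) :
    av (cox C hF n κ hκ) (ev C (n + 2) k) = ev C (n + 2) (k + 2) := by
  unfold cox
  rw [av_mul, av_wl_fix hF _ _ _ _ κ hκ _ (herm_ev_ev_far C hF k n (by omega) (by omega))
    (herm_ev_fv_far C hF k n (by omega) (by omega))]
  exact av_piS_pl (n + 2) (by omega) k (by omega) _ _

theorem av_cox_f (hF : Fintype.card F = q ^ 2) (n : ℕ) (κ : F) (hκ : κ ^ q = -κ)
    (k : ℕ) (hk : k + 1 < n) :
    av (cox C hF n κ hκ) (fv C (n + 2) k) = fv C (n + 2) (k + 2) := by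
  unfold cox
  rw [av_mul, av_wl_fix hF _ _ _ _ κ hκ _ (herm_fv_ev_far C hF k n (by omega) (by omega))
    (herm_fv_fv_far C hF k n (by omega) (by omega))]
  exact av_piS_pl (n + 2) (by omega) k (by omega) _ _

theorem av_cox_e_last (hF : Fintype.card F = q ^ 2) (n : ℕ) (hn : 2 ≤ n) (κ : F)
    (hκ : κ ^ q = -κ) (hκ0 : κ ≠ 0) :
    av (cox C hF n κ hκ) (ev C (n + 2) n) = (-κ⁻¹) • fv C (n + 2) 0 := by
  unfold cox
  rw [av_mul, av_wl_e hF _ _ _ _ (herm_ev_fv C n (by omega)) κ hκ hκ0, av_smul]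
  congr 1
  exact av_piS_pl_last n hn _ _

theorem av_cox_f_last (hF : Fintype.card F = q ^ 2) (n : ℕ) (hn : 2 ≤ n) (κ : F)
    (hκ : κ ^ q = -κ) (hκ0 : κ ≠ 0) :
    av (cox C hF n κ hκ) (fv C (n + 2) n) = κ • ev C (n + 2) 0 := by
  unfold cox
  rw [av_mul, av_wl_f hF _ _ _ _ (herm_ev_fv C n (by omega)) κ hκ hκ0, av_smul]
  congr 1
  exact av_piS_pl_last n hn _ _

end cox

section ext
variable {F : Type*} [Field F] [Fintype F] {q : ℕ} (C : Hyp F q)

theorem ext_single {n : ℕ} {g g' : ↥(Cfsg.SU n F q)}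
    (h : ∀ j : Fin n, av g (Pi.single j 1) = av g' (Pi.single j 1)) : g = g' := by
  apply Subtype.ext
  apply Subtype.ext
  ext i j
  have := congrFun (h j) i
  unfold av at this
  rw [mulVec_single_one, mulVec_single_one] at this
  exact this

/-- two elements agreeing on the frame are equal (even dimension) -/
theorem ext_frame (hF : Fintype.card F = q ^ 2) (n m : ℕ) (hn : n = 2 * m)
    {g g' : ↥(Cfsg.SU n F q)}
    (h : ∀ i < m, av g (ev C n (2 * i)) = av g' (ev C n (2 * i)) ∧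
      av g (fv C n (2 * i)) = av g' (fv C n (2 * i))) : g = g' := by
  apply ext_single
  intro j
  have hj := j.2
  obtain ⟨a, b, hab⟩ : ∃ a b : F, (Pi.single j 1 : Fin n → F) = pl n (2 * (j.val / 2)) a b := by
    by_cases hpar : j.val % 2 = 0
    · refine ⟨1, 0, ?_⟩
      funext j'
      simp only [pl, Pi.single_apply]
      have : j' = j ↔ j'.val = 2 * (j.val / 2) := by
        rw [Fin.ext_iff]
        omega
      by_cases h1 : j' = j
      · rw [if_pos h1, if_pos (this.mp h1)]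
      · rw [if_neg h1, if_neg (fun h2 => h1 (this.mpr h2))]
        split_ifs <;> rfl
    · refine ⟨0, 1, ?_⟩
      funext j'
      simp only [pl, Pi.single_apply]
      have : j' = j ↔ j'.val = 2 * (j.val / 2) + 1 := by
        rw [Fin.ext_iff]
        omega
      by_cases h1 : j' = j
      · have h2 := this.mp h1
        rw [if_pos h1, if_neg (by omega), if_pos h2]
      · rw [if_neg h1]
        have h3 : ¬ j'.val = 2 * (j.val / 2) + 1 := fun h2 => h1 (this.mpr h2)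
        split_ifs <;> rfl
  obtain ⟨h1, h2⟩ := h (j.val / 2) (by omega)
  rw [hab, pl_expand C hF, av_add, av_add, av_smul, av_smul, av_smul, av_smul, h1, h2]

end ext

end Cfsg.Agent.Lib.Helper9.SUGen
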