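import Mathlib
import Cfsg.Agent.Lib.Helper9.SUGenE

/-!
# Two-generation of the special unitary groups, part F: field facts and frame lemmas
-/

set_option autoImplicit false

namespace Cfsg.Agent.Lib.Helper9.SUGen

open Matrix Cfsg.Agent.Lib.Helper6 Cfsg.Agent.S0779 Cfsg.Agent.S0781
open Cfsg.Agent.Lib.Helper6.SUG Cfsg.Agent.Lib.Helper13

section fieldfacts
variable {F : Type*} [Field F] [Fintype F] {q : ℕ}

theorem two_le_q' (hF : Fintype.card F = q ^ 2) : 2 ≤ q := by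
  have h1 : 1 < Fintype.card F := Fintype.one_lt_card
  rw [hF] at h1
  by_contra h
  have h2 : q ≤ 1 := by omega
  have h3 : q ^ 2 ≤ 1 ^ 2 := Nat.pow_le_pow_left h2 2
  omega

/-- a generator of the multiplicative group -/
theorem exists_gen (hF : Fintype.card F = q ^ 2) :
    ∃ μ : F, μ ≠ 0 ∧ (∀ r : F, r ≠ 0 → ∃ j : ℕ, r = μ ^ j) ∧
      ∀ k : ℕ, μ ^ k = 1 → (q ^ 2 - 1) ∣ k := by
  classical
  obtain ⟨g, hg⟩ := IsCyclic.exists_generator (α := Fˣ)
  refine ⟨(g : F), Units.ne_zero g, ?_, ?_⟩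
  · intro r hr
    have h1 := hg (Units.mk0 r hr)
    rw [← mem_powers_iff_mem_zpowers] at h1
    obtain ⟨j, hj⟩ := h1
    refine ⟨j, ?_⟩
    have := congrArg (fun u : Fˣ => (u : F)) hj
    simp only [Units.val_pow_eq_pow_val, Units.val_mk0] at this
    exact this.symm
  · intro k hk
    have h1 : orderOf g = Nat.card Fˣ := orderOf_eq_card_of_forall_mem_zpowers hg
    rw [Nat.card_eq_fintype_card, Fintype.card_units, hF] at h1
    rw [← h1]
    apply orderOf_dvd_of_pow_eq_one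
    apply Units.ext
    rw [Units.val_pow_eq_pow_val, hk, Units.val_one]

theorem pow_q_cancel (hF : Fintype.card F = q ^ 2) (μ : F) (k : ℕ) (h : μ ^ (q * k) = 1) :
    μ ^ k = 1 := by
  have h1 := congrArg (fun y => y ^ q) h
  simp only [one_pow] at h1
  rw [← h1, ← pow_mul]
  have e : q * k * q = q * q * k := by ring
  rw [e, pow_mul, pow_mul, pow_q_q hF]

theorem gen_alpha_ne (hF : Fintype.card F = q ^ 2) (μ : F) (hμ0 : μ ≠ 0)
    (hord : ∀ k : ℕ, μ ^ k = 1 → (q ^ 2 - 1) ∣ k) : μ ^ q * μ⁻¹ ≠ 1 := by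
  have hq := two_le_q' hF
  intro h
  have h1 : μ ^ q = μ := by
    field_simp at h
    exact h
  have h2 : μ ^ (q - 1) = 1 := by
    have e : q = (q - 1) + 1 := by omega
    rw [e, pow_succ] at h1
    have h3 : μ ^ (q - 1) * μ = 1 * μ := by rw [one_mul]; exact h1
    exact mul_right_cancel₀ hμ0 h3
  have h3 := Nat.le_of_dvd (by omega) (hord _ h2)
  have h4 : q * 2 ≤ q * q := Nat.mul_le_mul_left q hq
  have h5 : q ^ 2 = q * q := by ring
  omega

theorem gen_irr_a (hF : Fintype.card F = q ^ 2) (μ : F)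
    (hord : ∀ k : ℕ, μ ^ k = 1 → (q ^ 2 - 1) ∣ k) (k : ℕ) (hk : 0 < k) (hkq : k ≤ q) :
    ((μ⁻¹) ^ q) ^ k ≠ 1 := by
  have hq := two_le_q' hF
  intro h
  rw [← pow_mul, inv_pow, inv_eq_one] at h
  have h2 := pow_q_cancel hF μ k h
  have h3 := Nat.le_of_dvd hk (hord _ h2)
  have h4 : q * 2 ≤ q * q := Nat.mul_le_mul_left q hq
  have h5 : q ^ 2 = q * q := by ring
  omega

theorem gen_irr_b (hF : Fintype.card F = q ^ 2) (μ : F)
    (hord : ∀ k : ℕ, μ ^ k = 1 → (q ^ 2 - 1) ∣ k) (k : ℕ) (hk : 0 < k) (hkq : k ≤ q) :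
    ((μ⁻¹) ^ q * (μ ^ q)⁻¹) ^ k ≠ 1 := by
  have hq := two_le_q' hF
  intro h
  have e : (μ⁻¹) ^ q * (μ ^ q)⁻¹ = (μ ^ (q * 2))⁻¹ := by
    rw [inv_pow, ← mul_inv, pow_mul, pow_two]
  rw [e, inv_pow, inv_eq_one, ← pow_mul] at h
  have e2 : q * 2 * k = q * (2 * k) := by ring
  rw [e2] at h
  have h2 := pow_q_cancel hF μ (2 * k) h
  have h3 := hord _ h2
  have h5 : q ^ 2 = q * q := by ring
  by_cases hq3 : 3 ≤ q
  · have h4 := Nat.le_of_dvd (by omega) h3
    have h6 : q * 3 ≤ q * q := Nat.mul_le_mul_left q hq3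
    omega
  · obtain rfl : q = 2 := by omega
    norm_num at h3
    omega

end fieldfacts

section scal
variable {F : Type*} [Field F] [Fintype F] {q : ℕ}

/-- `g` scales the vector `v` -/
def Sc {n : ℕ} (g : ↥(Cfsg.SU n F q)) (v : Fin n → F) : Prop := ∃ a : F, av g v = a • v

theorem Sc.conj {n : ℕ} {g : ↥(Cfsg.SU n F q)} {v : Fin n → F} (h : Sc g v)
    (c : ↥(Cfsg.SU n F q)) : Sc (c * g * c⁻¹) (av c v) := by
  obtain ⟨a, ha⟩ := h
  exact ⟨a, by rw [av_mul, av_mul, av_inv_av, ha, av_smul]⟩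

theorem Sc.of_smul {n : ℕ} {g : ↥(Cfsg.SU n F q)} {v : Fin n → F} (l : F) (hl : l ≠ 0)
    (h : Sc g (l • v)) : Sc g v := by
  obtain ⟨a, ha⟩ := h
  refine ⟨a, ?_⟩
  rw [av_smul] at ha
  have h1 := congrArg (fun y => l⁻¹ • y) ha
  simp only [smul_smul] at h1
  rw [inv_mul_cancel₀ hl, one_smul] at h1
  rw [h1]
  congr 1
  field_simp

theorem comm_of_Sc {n : ℕ} {g g' : ↥(Cfsg.SU n F q)} {v : Fin n → F} (h : Sc g v)
    (h' : Sc g' v) : av (g * g') v = av (g' * g) v := by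
  obtain ⟨a, ha⟩ := h
  obtain ⟨b, hb⟩ := h'
  rw [av_mul, av_mul, hb, ha, av_smul, av_smul, ha, hb, smul_smul, smul_smul, mul_comm]

theorem av_pow_of_smul {n : ℕ} {g : ↥(Cfsg.SU n F q)} {v : Fin n → F} {a : F}
    (h : av g v = a • v) (k : ℕ) : av (g ^ k) v = a ^ k • v := by
  induction k with
  | zero => rw [pow_zero, pow_zero, av_one, one_smul]
  | succ k ih => rw [pow_succ, av_mul, h, av_smul, ih, smul_smul, pow_succ, mul_comm]

end scal

section evenframe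
variable {F : Type*} [Field F] [Fintype F] {q : ℕ} (C : Hyp F q)

theorem Sc_tor2 (hF : Fintype.card F = q ^ 2) (n : ℕ) (hn : 4 ≤ n) (d : F) (hd : d ≠ 0)
    (i : ℕ) (hi : 2 * i + 1 < n) :
    Sc (tor2 C hF n 0 2 (by omega) (by omega) d hd) (ev C n (2 * i)) ∧
      Sc (tor2 C hF n 0 2 (by omega) (by omega) d hd) (fv C n (2 * i)) := by
  by_cases h0 : i = 0
  · subst h0
    exact ⟨⟨_, av_tor2_e C hF n 0 2 _ _ (by omega) d hd⟩,
      ⟨_, av_tor2_f C hF n 0 2 _ _ (by omega) d hd⟩⟩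
  · by_cases h1 : i = 1
    · subst h1
      exact ⟨⟨_, av_tor2_e' C hF n 0 2 _ _ (by omega) d hd⟩,
        ⟨_, av_tor2_f' C hF n 0 2 _ _ (by omega) d hd⟩⟩
    · refine ⟨⟨1, ?_⟩, ⟨1, ?_⟩⟩
      · rw [one_smul]
        exact av_tor2_fix C hF n 0 2 _ _ d hd _
          (herm_ev_ev_far C hF _ _ hi (by omega)) (herm_ev_fv_far C hF _ _ hi (by omega))
          (herm_ev_ev_far C hF _ _ hi (by omega)) (herm_ev_fv_far C hF _ _ hi (by omega))
      · rw [one_smul]
        exact av_tor2_fix C hF n 0 2 _ _ d hd _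
          (herm_fv_ev_far C hF _ _ hi (by omega)) (herm_fv_fv_far C hF _ _ hi (by omega))
          (herm_fv_ev_far C hF _ _ hi (by omega)) (herm_fv_fv_far C hF _ _ hi (by omega))

theorem Sc_cox_conj (hF : Fintype.card F = q ^ 2) (n m : ℕ) (hm : 1 ≤ m) (hn : n = 2 * m)
    (κ : F) (hκ : κ ^ q = -κ) (hκ0 : κ ≠ 0) (g : ↥(Cfsg.SU (n + 2) F q))
    (hg : ∀ i < m + 1, Sc g (ev C (n + 2) (2 * i)) ∧ Sc g (fv C (n + 2) (2 * i))) :
    ∀ i < m + 1, Sc (cox C hF n κ hκ * g * (cox C hF n κ hκ)⁻¹) (ev C (n + 2) (2 * i)) ∧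
      Sc (cox C hF n κ hκ * g * (cox C hF n κ hκ)⁻¹) (fv C (n + 2) (2 * i)) := by
  intro i hi
  have hn2 : 2 ≤ n := by omega
  by_cases h0 : i = 0
  · subst h0
    obtain ⟨h1, h2⟩ := hg m (by omega)
    have e1 := h1.conj (cox C hF n κ hκ)
    have e2 := h2.conj (cox C hF n κ hκ)
    rw [← hn, av_cox_e_last C hF n hn2 κ hκ hκ0] at e1
    rw [← hn, av_cox_f_last C hF n hn2 κ hκ hκ0] at e2
    exact ⟨e2.of_smul κ hκ0, e1.of_smul _ (neg_ne_zero.mpr (inv_ne_zero hκ0))⟩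
  · obtain ⟨j, rfl⟩ : ∃ j, i = j + 1 := ⟨i - 1, by omega⟩
    obtain ⟨h1, h2⟩ := hg j (by omega)
    have e1 := h1.conj (cox C hF n κ hκ)
    have e2 := h2.conj (cox C hF n κ hκ)
    rw [av_cox_e C hF n κ hκ _ (by omega)] at e1
    rw [av_cox_f C hF n κ hκ _ (by omega)] at e2
    have e : 2 * (j + 1) = 2 * j + 2 := by ring
    rw [e]
    exact ⟨e1, e2⟩

/-- the torus element commutes with its Coxeter conjugate -/
theorem hcomm_even (hF : Fintype.card F = q ^ 2) (n m : ℕ) (hm : 1 ≤ m) (hn : n = 2 * m)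
    (κ : F) (hκ : κ ^ q = -κ) (hκ0 : κ ≠ 0) (d : F) (hd : d ≠ 0) :
    tor2 C hF (n + 2) 0 2 (by omega) (by omega) d hd *
        (cox C hF n κ hκ * tor2 C hF (n + 2) 0 2 (by omega) (by omega) d hd *
          (cox C hF n κ hκ)⁻¹) =
      (cox C hF n κ hκ * tor2 C hF (n + 2) 0 2 (by omega) (by omega) d hd *
          (cox C hF n κ hκ)⁻¹) * tor2 C hF (n + 2) 0 2 (by omega) (by omega) d hd := by
  have h1 : ∀ i < m + 1, Sc (tor2 C hF (n + 2) 0 2 (by omega) (by omega) d hd)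
        (ev C (n + 2) (2 * i)) ∧
      Sc (tor2 C hF (n + 2) 0 2 (by omega) (by omega) d hd) (fv C (n + 2) (2 * i)) :=
    fun i hi => Sc_tor2 C hF (n + 2) (by omega) d hd i (by omega)
  have h2 := Sc_cox_conj C hF n m hm hn κ hκ hκ0 _ h1
  apply ext_frame C hF (n + 2) (m + 1) (by omega)
  intro i hi
  exact ⟨comm_of_Sc (h1 i hi).1 (h2 i hi).1, comm_of_Sc (h1 i hi).2 (h2 i hi).2⟩

/-- from one frame vector in `XL L` to all of them, via the Coxeter element -/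
theorem XL_cycle (hF : Fintype.card F = q ^ 2) (n m : ℕ) (hm : 1 ≤ m) (hn : n = 2 * m)
    (κ : F) (hκ : κ ^ q = -κ) (hκ0 : κ ≠ 0) (L : Subgroup ↥(Cfsg.SU (n + 2) F q))
    (hc : cox C hF n κ hκ ∈ L) (i0 : ℕ) (hi0 : i0 < m + 1)
    (h0 : XL L (ev C (n + 2) (2 * i0))) :
    ∀ i < m + 1, XL L (ev C (n + 2) (2 * i)) ∧ XL L (fv C (n + 2) (2 * i)) := by
  have hn2 : 2 ≤ n := by omega
  -- upwards propagation
  have upE : ∀ j, XL L (ev C (n + 2) (2 * j)) → ∀ i, j ≤ i → i < m + 1 →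
      XL L (ev C (n + 2) (2 * i)) := by
    intro j hj i hji
    induction i, hji using Nat.le_induction with
    | base => exact fun _ => hj
    | succ i hji ih =>
      intro hi
      have h1 := (ih (by omega)).map _ hc
      rw [av_cox_e C hF n κ hκ _ (by omega)] at h1
      have e : 2 * (i + 1) = 2 * i + 2 := by ring
      rw [e]
      exact h1
  have upF : ∀ j, XL L (fv C (n + 2) (2 * j)) → ∀ i, j ≤ i → i < m + 1 →
      XL L (fv C (n + 2) (2 * i)) := by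
    intro j hj i hji
    induction i, hji using Nat.le_induction with
    | base => exact fun _ => hj
    | succ i hji ih =>
      intro hi
      have h1 := (ih (by omega)).map _ hc
      rw [av_cox_f C hF n κ hκ _ (by omega)] at h1
      have e : 2 * (i + 1) = 2 * i + 2 := by ring
      rw [e]
      exact h1
  have h1 : XL L (ev C (n + 2) n) := by
    have := upE i0 h0 m (by omega) (by omega)
    rwa [← hn] at this
  have h2 : XL L (fv C (n + 2) 0) := by
    have h3 := (h1.map _ hc).smul hF (-κ)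
    rw [av_cox_e_last C hF n hn2 κ hκ hκ0, smul_smul] at h3
    have e : -κ * -κ⁻¹ = 1 := by
      field_simp
    rwa [e, one_smul] at h3
  have h3 : XL L (fv C (n + 2) n) := by
    have := upF 0 h2 m (by omega) (by omega)
    rwa [← hn] at this
  have h4 : XL L (ev C (n + 2) 0) := by
    have h5 := (h3.map _ hc).smul hF κ⁻¹
    rw [av_cox_f_last C hF n hn2 κ hκ hκ0, smul_smul, inv_mul_cancel₀ hκ0, one_smul] at h5
    exact h5
  intro i hi
  exact ⟨upE 0 h4 i (by omega) hi, upF 0 h2 i (by omega) hi⟩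

/-- the criterion hypotheses follow from their first instances, via the Coxeter element -/
theorem WH_of_base (hF : Fintype.card F = q ^ 2) (n m : ℕ) (hm : 1 ≤ m) (hn : n = 2 * m)
    (κ : F) (hκ : κ ^ q = -κ) (L : Subgroup ↥(Cfsg.SU (n + 2) F q))
    (hc : cox C hF n κ hκ ∈ L)
    (h1 : ∀ i < m + 1, XL L (ev C (n + 2) (2 * i)) ∧ XL L (fv C (n + 2) (2 * i)))
    (h2 : ∀ s : F, XL L (ev C (n + 2) 2 + s • ev C (n + 2) 0))
    (h3 : ∃ a b a' b' : F, a * b ^ q + a ^ q * b ≠ 0 ∧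
      XL L ((a • ev C (n + 2) 2 + b • fv C (n + 2) 2) +
        (a' • ev C (n + 2) 0 + b' • fv C (n + 2) 0))) :
    WH C (n + 2) (m + 1) 0 L := by
  refine ⟨?_, ?_, ?_⟩
  · intro i hi
    simpa using h1 i hi
  · intro i
    induction i with
    | zero =>
      intro _ s
      simpa using h2 s
    | succ i ih =>
      intro hi s
      have h4 := (ih (by omega) s).map _ hc
      rw [av_add, av_smul, av_cox_e C hF n κ hκ _ (by omega),
        av_cox_e C hF n κ hκ _ (by omega)] at h4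
      have e1 : 2 * (i + 1) + 2 + 0 = 2 * i + 2 + 0 + 2 := by ring
      have e2 : 2 * (i + 1) + 0 = 2 * i + 0 + 2 := by ring
      rw [e1, e2]
      exact h4
  · intro i
    induction i with
    | zero =>
      intro _
      simpa using h3
    | succ i ih =>
      intro hi
      obtain ⟨a, b, a', b', hab, hx⟩ := ih (by omega)
      refine ⟨a, b, a', b', hab, ?_⟩
      have h4 := hx.map _ hc
      rw [av_add, av_add, av_add, av_smul, av_smul, av_smul, av_smul,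
        av_cox_e C hF n κ hκ _ (by omega), av_cox_e C hF n κ hκ _ (by omega),
        av_cox_f C hF n κ hκ _ (by omega), av_cox_f C hF n κ hκ _ (by omega)] at h4
      have e1 : 2 * (i + 1) + 2 + 0 = 2 * i + 2 + 0 + 2 := by ring
      have e2 : 2 * (i + 1) + 0 = 2 * i + 0 + 2 := by ring
      rw [e1, e2]
      exact h4

end evenframe

section links
variable {F : Type*} [Field F] [Fintype F] {q : ℕ} (C : Hyp F q)

theorem exists_trace_one (hF : Fintype.card F = q ^ 2) : ∃ a : F, a + a ^ q = 1 := by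
  obtain ⟨t, ht⟩ := exists_trace (conjQ hF) (conjQ_ne_id hF) (conjQ_conjQ hF) (1 : F)
    (by rw [conjQ_apply, one_pow])
  rw [conjQ_apply] at ht
  exact ⟨t, ht⟩

/-- the short root element used in the even-dimensional generation argument -/
def xs (hF : Fintype.card F = q ^ 2) (n : ℕ) (hn : 2 ≤ n) (t : F) : ↥(Cfsg.SU (n + 2) F q) :=
  sg hF (ev C (n + 2) 0) (ev C (n + 2) 2) (herm_ev_ev C 0 (by omega))
    (herm_ev_ev_far C hF 0 2 (by omega) (by omega)) (herm_ev_ev C 2 (by omega)) t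

theorem av_xs (hF : Fintype.card F = q ^ 2) (n : ℕ) (hn : 2 ≤ n) (t : F)
    (x : Fin (n + 2) → F) :
    av (xs C hF n hn t) x = x + (t * Cfsg.hermForm (n + 2) F q x (ev C (n + 2) 0)) • ev C (n + 2) 2
      - (t ^ q * Cfsg.hermForm (n + 2) F q x (ev C (n + 2) 2)) • ev C (n + 2) 0 := by
  unfold xs
  rw [av_sg]

theorem av_xs_f2 (hF : Fintype.card F = q ^ 2) (n : ℕ) (hn : 2 ≤ n) (t : F) :
    av (xs C hF n hn t) (fv C (n + 2) 2) = fv C (n + 2) 2 - t ^ q • ev C (n + 2) 0 := by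
  rw [av_xs, herm_fv_ev_far C hF 2 0 (by omega) (by omega), herm_fv_ev C hF 2 (by omega)]
  module

theorem av_xs_f0 (hF : Fintype.card F = q ^ 2) (n : ℕ) (hn : 2 ≤ n) (t : F) :
    av (xs C hF n hn t) (fv C (n + 2) 0) = fv C (n + 2) 0 + t • ev C (n + 2) 2 := by
  rw [av_xs, herm_fv_ev_far C hF 0 2 (by omega) (by omega), herm_fv_ev C hF 0 (by omega)]
  module

theorem links_even (hF : Fintype.card F = q ^ 2) (n : ℕ) (hn : 2 ≤ n)
    (L : Subgroup ↥(Cfsg.SU (n + 2) F q))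
    (he0 : XL L (ev C (n + 2) 0)) (hf0 : XL L (fv C (n + 2) 0))
    (he2 : XL L (ev C (n + 2) 2)) (hf2 : XL L (fv C (n + 2) 2))
    (hx : ∀ t : F, xs C hF n hn t ∈ L) :
    (∀ s : F, XL L (ev C (n + 2) 2 + s • ev C (n + 2) 0)) ∧
    (∃ a b a' b' : F, a * b ^ q + a ^ q * b ≠ 0 ∧
      XL L ((a • ev C (n + 2) 2 + b • fv C (n + 2) 2) +
        (a' • ev C (n + 2) 0 + b' • fv C (n + 2) 0))) := by
  obtain ⟨κ, hκ0, hκ⟩ := exists_trace_zero hF
  have hP : ∀ t : F, XL L (fv C (n + 2) 2 - t ^ q • ev C (n + 2) 0) := by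
    intro t
    have := hf2.map _ (hx t)
    rwa [av_xs_f2] at this
  constructor
  · intro s
    have h1 := (hP ((-κ * s) ^ q)).map _ (wl_mem hF he2 hf2 κ hκ)
    rw [av_sub, av_smul, av_wl_f hF _ _ _ _ (herm_ev_fv C 2 (by omega)) κ hκ hκ0,
      av_wl_fix hF _ _ _ _ κ hκ _ (herm_ev_ev_far C hF 0 2 (by omega) (by omega))
        (herm_ev_fv_far C hF 0 2 (by omega) (by omega)), pow_q_q hF] at h1
    have h2 := h1.smul hF κ⁻¹
    have e : κ⁻¹ • (κ • ev C (n + 2) 2 - (-κ * s) • ev C (n + 2) 0) =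
        ev C (n + 2) 2 + s • ev C (n + 2) 0 := by
      rw [smul_sub, smul_smul, smul_smul, inv_mul_cancel₀ hκ0, one_smul]
      have e2 : κ⁻¹ * (-κ * s) = -s := by
        field_simp
      rw [e2]
      module
    rwa [e] at h2
  · obtain ⟨a0, ha0⟩ := exists_trace_one hF
    have h1 := (hP 1).map _ (wl_mem hF he0 hf0 κ hκ)
    rw [av_sub, av_smul, av_wl_e hF _ _ _ _ (herm_ev_fv C 0 (by omega)) κ hκ hκ0,
      av_wl_fix hF _ _ _ _ κ hκ _ (herm_fv_ev_far C hF 2 0 (by omega) (by omega))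
        (herm_fv_fv_far C hF 2 0 (by omega) (by omega)), one_pow, one_smul] at h1
    have h2 := h1.map _ (hx (κ * a0))
    rw [av_sub, av_smul, av_xs_f2, av_xs_f0] at h2
    refine ⟨a0, 1, -(κ * a0) ^ q, κ⁻¹, ?_, ?_⟩
    · rw [one_pow, mul_one, mul_one, ha0]
      exact one_ne_zero
    · have e : fv C (n + 2) 2 - (κ * a0) ^ q • ev C (n + 2) 0 -
          -κ⁻¹ • (fv C (n + 2) 0 + (κ * a0) • ev C (n + 2) 2) =
          (a0 • ev C (n + 2) 2 + (1 : F) • fv C (n + 2) 2) +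
            ((-(κ * a0) ^ q) • ev C (n + 2) 0 + κ⁻¹ • fv C (n + 2) 0) := by
        have e2 : κ⁻¹ * (κ * a0) = a0 := by
          field_simp
        rw [smul_add, smul_smul, neg_mul, e2]
        module
      rwa [e] at h2

/-- the criterion hypotheses from the Coxeter element, the short root group and one frame vector -/
theorem WH_even_of (hF : Fintype.card F = q ^ 2) (n m : ℕ) (hm : 1 ≤ m) (hn : n = 2 * m)
    (κ : F) (hκ : κ ^ q = -κ) (hκ0 : κ ≠ 0) (L : Subgroup ↥(Cfsg.SU (n + 2) F q))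
    (hc : cox C hF n κ hκ ∈ L) (hx : ∀ t : F, xs C hF n (by omega) t ∈ L)
    (i0 : ℕ) (hi0 : i0 < m + 1) (h0 : XL L (ev C (n + 2) (2 * i0))) :
    WH C (n + 2) (m + 1) 0 L := by
  have h1 := XL_cycle C hF n m hm hn κ hκ hκ0 L hc i0 hi0 h0
  obtain ⟨he0, hf0⟩ := h1 0 (by omega)
  obtain ⟨he2, hf2⟩ := h1 1 (by omega)
  obtain ⟨h2, h3⟩ := links_even C hF n (by omega) L he0 hf0 he2 hf2 hx
  exact WH_of_base C hF n m hm hn κ hκ L hc h1 h2 h3

/-- the even-dimensional generation criterion, final form -/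
theorem top_even_of (hF : Fintype.card F = q ^ 2) (n m : ℕ) (hm : 1 ≤ m) (hn : n = 2 * m)
    (κ : F) (hκ : κ ^ q = -κ) (hκ0 : κ ≠ 0) (L : Subgroup ↥(Cfsg.SU (n + 2) F q))
    (hc : cox C hF n κ hκ ∈ L) (hx : ∀ t : F, xs C hF n (by omega) t ∈ L)
    (i0 : ℕ) (hi0 : i0 < m + 1) (h0 : XL L (ev C (n + 2) (2 * i0))) : L = ⊤ := by
  have h1 := WH_even_of C hF n m hm hn κ hκ hκ0 L hc hx i0 hi0 h0
  have h2 := W_even C hF (m + 1) (by omega) (n + 2) (by omega) L h1
  exact top_of_forall hF (by omega) (by omega) L h2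

end links

end Cfsg.Agent.Lib.Helper9.SUGen
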