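import Mathlib
import Cfsg.Agent.Lib.Helper9.SUGenF

/-!
# Two-generation of the special unitary groups, part G: the even-dimensional case
-/

set_option autoImplicit false

namespace Cfsg.Agent.Lib.Helper9.SUGen

open Matrix Cfsg.Agent.Lib.Helper6 Cfsg.Agent.S0779 Cfsg.Agent.S0781
open Cfsg.Agent.Lib.Helper6.SUG Cfsg.Agent.Lib.Helper13

section evencore
variable {F : Type*} [Field F] [Fintype F] {q : ℕ} (C : Hyp F q)

/-- the torus element used in the even-dimensional generation argument -/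
def hT (hF : Fintype.card F = q ^ 2) (n : ℕ) (hn : 2 ≤ n) (μ : F) (hμ0 : μ ≠ 0) :
    ↥(Cfsg.SU (n + 2) F q) :=
  tor2 C hF (n + 2) 0 2 (by omega) (by omega) μ hμ0

theorem av_hT_e0 (hF : Fintype.card F = q ^ 2) (n : ℕ) (hn : 2 ≤ n) (μ : F) (hμ0 : μ ≠ 0) :
    av (hT C hF n hn μ hμ0) (ev C (n + 2) 0) = μ • ev C (n + 2) 0 :=
  av_tor2_e C hF (n + 2) 0 2 _ _ (by omega) μ hμ0

theorem av_hT_f0 (hF : Fintype.card F = q ^ 2) (n : ℕ) (hn : 2 ≤ n) (μ : F) (hμ0 : μ ≠ 0) :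
    av (hT C hF n hn μ hμ0) (fv C (n + 2) 0) = (μ ^ q)⁻¹ • fv C (n + 2) 0 :=
  av_tor2_f C hF (n + 2) 0 2 _ _ (by omega) μ hμ0

theorem av_hT_e2 (hF : Fintype.card F = q ^ 2) (n : ℕ) (hn : 2 ≤ n) (μ : F) (hμ0 : μ ≠ 0) :
    av (hT C hF n hn μ hμ0) (ev C (n + 2) 2) = μ⁻¹ • ev C (n + 2) 2 :=
  av_tor2_e' C hF (n + 2) 0 2 _ _ (by omega) μ hμ0

theorem av_hT_e4 (hF : Fintype.card F = q ^ 2) (n : ℕ) (hn : 4 ≤ n) (μ : F) (hμ0 : μ ≠ 0) :
    av (hT C hF n (by omega) μ hμ0) (ev C (n + 2) 4) = ev C (n + 2) 4 :=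
  av_tor2_fix C hF (n + 2) 0 2 _ _ μ hμ0 _
    (herm_ev_ev_far C hF _ _ (by omega) (by omega)) (herm_ev_fv_far C hF _ _ (by omega) (by omega))
    (herm_ev_ev_far C hF _ _ (by omega) (by omega)) (herm_ev_fv_far C hF _ _ (by omega) (by omega))

theorem xs_add (hF : Fintype.card F = q ^ 2) (n : ℕ) (hn : 2 ≤ n) (t s : F) :
    xs C hF n hn t * xs C hF n hn s = xs C hF n hn (t + s) := by
  unfold xs
  rw [sg_add]

theorem conj_xs_scale (hF : Fintype.card F = q ^ 2) (n : ℕ) (hn : 2 ≤ n)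
    (g : ↥(Cfsg.SU (n + 2) F q)) (a b : F)
    (hga : av g (ev C (n + 2) 0) = a • ev C (n + 2) 0)
    (hgb : av g (ev C (n + 2) 2) = b • ev C (n + 2) 2) (t : F) :
    g * xs C hF n hn t * g⁻¹ = xs C hF n hn (a ^ q * t * b) := by
  have h00 := herm_ev_ev C (n := n + 2) 0 (by omega)
  have h02 := herm_ev_ev_far C hF (n := n + 2) 0 2 (by omega) (by omega)
  have h22 := herm_ev_ev C (n := n + 2) 2 (by omega)
  have A1 : Cfsg.hermForm (n + 2) F q (a • ev C (n + 2) 0) (a • ev C (n + 2) 0) = 0 := by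
    rw [herm_smul_left, herm_smul_right, h00, mul_zero, mul_zero]
  have A2 : Cfsg.hermForm (n + 2) F q (a • ev C (n + 2) 0) (b • ev C (n + 2) 2) = 0 := by
    rw [herm_smul_left, herm_smul_right, h02, mul_zero, mul_zero]
  have A3 : Cfsg.hermForm (n + 2) F q (b • ev C (n + 2) 2) (b • ev C (n + 2) 2) = 0 := by
    rw [herm_smul_left, herm_smul_right, h22, mul_zero, mul_zero]
  have A4 : Cfsg.hermForm (n + 2) F q (a • ev C (n + 2) 0) (ev C (n + 2) 2) = 0 := by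
    rw [herm_smul_left, h02, mul_zero]
  unfold xs
  rw [conj_sg hF g _ _ (a • ev C (n + 2) 0) (b • ev C (n + 2) 2) h00 h02 h22 A1 A2 A3 hga hgb t,
    sg_smul_right hF (a • ev C (n + 2) 0) (ev C (n + 2) 2) b A1 A4 h22 A2 A3 t,
    sg_smul_left hF (ev C (n + 2) 0) (ev C (n + 2) 2) a h00 h02 h22 A1 A4 (t * b), mul_assoc]

/-- the core of the even-dimensional argument: the two-generation trick -/
theorem even_core (hF : Fintype.card F = q ^ 2) (n m : ℕ) (hm : 1 ≤ m) (hn : n = 2 * m)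
    (κ : F) (hκ : κ ^ q = -κ) (hκ0 : κ ≠ 0) (μ : F) (hμ0 : μ ≠ 0)
    (hord : ∀ k : ℕ, μ ^ k = 1 → (q ^ 2 - 1) ∣ k) (b : F) (hb0 : b ≠ 0)
    (hb : av ((cox C hF n κ hκ)⁻¹ * hT C hF n (by omega) μ hμ0 * cox C hF n κ hκ)
      (ev C (n + 2) 2) = b • ev C (n + 2) 2)
    (hirrb : ∀ k : ℕ, 0 < k → k ≤ q → ((μ⁻¹) ^ q * b) ^ k ≠ 1)
    (L : Subgroup ↥(Cfsg.SU (n + 2) F q)) (hh : hT C hF n (by omega) μ hμ0 ∈ L)
    (hy : cox C hF n κ hκ * xs C hF n (by omega) 1 ∈ L) :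
    cox C hF n κ hκ ∈ L ∧ (∀ t, xs C hF n (by omega) t ∈ L) ∧
      ∀ t, cox C hF n κ hκ * xs C hF n (by omega) t * (cox C hF n κ hκ)⁻¹ ∈ L := by
  have hn2 : 2 ≤ n := by omega
  have hc0 : av (cox C hF n κ hκ) (ev C (n + 2) 0) = ev C (n + 2) 2 :=
    av_cox_e C hF n κ hκ 0 (by omega)
  have hν0 : (μ⁻¹) ^ q * b ≠ 0 := mul_ne_zero (pow_ne_zero _ (inv_ne_zero hμ0)) hb0
  apply two_gen_trick' (K := F) (x := fun t => xs C hF n hn2 t)
    (x' := fun t => cox C hF n κ hκ * xs C hF n hn2 t * (cox C hF n κ hκ)⁻¹)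
    (h := hT C hF n hn2 μ hμ0) (c := cox C hF n κ hκ) (α := μ ^ q * μ⁻¹)
    (μ := (μ⁻¹) ^ q * b)
  · intro t s
    exact xs_add C hF n hn2 t s
  · intro t s
    rw [← xs_add C hF n hn2 t s]
    group
  · intro t
    rfl
  · intro t
    rw [conj_xs_scale C hF n hn2 _ μ μ⁻¹ (av_hT_e0 C hF n hn2 μ hμ0) (av_hT_e2 C hF n hn2 μ hμ0)]
    congr 1
    ring
  · intro t
    have e : hT C hF n hn2 μ hμ0 * (cox C hF n κ hκ * xs C hF n hn2 t * (cox C hF n κ hκ)⁻¹) *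
        (hT C hF n hn2 μ hμ0)⁻¹ = cox C hF n κ hκ *
          (((cox C hF n κ hκ)⁻¹ * hT C hF n hn2 μ hμ0 * cox C hF n κ hκ) * xs C hF n hn2 t *
            ((cox C hF n κ hκ)⁻¹ * hT C hF n hn2 μ hμ0 * cox C hF n κ hκ)⁻¹) *
          (cox C hF n κ hκ)⁻¹ := by group
    have ha : av ((cox C hF n κ hκ)⁻¹ * hT C hF n hn2 μ hμ0 * cox C hF n κ hκ)
        (ev C (n + 2) 0) = μ⁻¹ • ev C (n + 2) 0 := by
      rw [av_mul, av_mul, hc0, av_hT_e2, av_smul, ← hc0, av_inv_av]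
    rw [e, conj_xs_scale C hF n hn2 _ μ⁻¹ b ha hb]
    congr 3
    ring
  · exact hcomm_even C hF n m hm hn κ hκ hκ0 μ hμ0
  · exact gen_alpha_ne hF μ hμ0 hord
  · have := hirrb 1 (by omega) (q_pos hF)
    rwa [pow_one] at this
  · exact irr_of_order hF _ hν0 hirrb
  · exact hh
  · exact hy

end evencore

/-- extraction of commuting factors with coprime exponents -/
theorem mem_of_comm_coprime' {G : Type*} [Group G] (h u : G) (hc : Commute h u) (N M : ℕ)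
    (hN : h ^ N = 1) (hM : u ^ M = 1) (hco : Nat.Coprime N M) (L : Subgroup G)
    (ha : h * u ∈ L) : h ∈ L ∧ u ∈ L := by
  constructor
  · have h1 : (h * u) ^ M = h ^ M := by rw [hc.mul_pow, hM, mul_one]
    have h2 : Nat.Coprime M (orderOf h) :=
      Nat.Coprime.coprime_dvd_right (orderOf_dvd_of_pow_eq_one hN) hco.symm
    obtain ⟨j, hj⟩ := exists_pow_eq_self_of_coprime h2
    rw [← hj, ← h1]
    exact L.pow_mem (L.pow_mem ha M) j
  · have h1 : (h * u) ^ N = u ^ N := by rw [hc.mul_pow, hN, one_mul]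
    have h2 : Nat.Coprime N (orderOf u) :=
      Nat.Coprime.coprime_dvd_right (orderOf_dvd_of_pow_eq_one hM) hco
    obtain ⟨j, hj⟩ := exists_pow_eq_self_of_coprime h2
    rw [← hj, ← h1]
    exact L.pow_mem (L.pow_mem ha N) j

section aux
variable {F : Type*} [Field F] [Fintype F] {q : ℕ}

theorem av_inv_of_smul {n : ℕ} {g : ↥(Cfsg.SU n F q)} {v : Fin n → F} {a : F}
    (h : av g v = a • v) (ha : a ≠ 0) : av g⁻¹ v = a⁻¹ • v := by
  have h1 : av g⁻¹ (av g v) = v := av_inv_av g v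
  rw [h, av_smul] at h1
  have h2 := congrArg (fun y => a⁻¹ • y) h1
  simp only [smul_smul] at h2
  rwa [inv_mul_cancel₀ ha, one_smul] at h2

theorem av_pow_card (hF : Fintype.card F = q ^ 2) {n : ℕ} {g : ↥(Cfsg.SU n F q)}
    {v : Fin n → F} (h : Sc g v) : av (g ^ (q ^ 2 - 1)) v = v := by
  obtain ⟨a, ha⟩ := h
  by_cases ha0 : a = 0
  · have h1 : av g⁻¹ (av g v) = v := av_inv_av g v
    rw [ha, ha0, zero_smul, av_zero] at h1
    rw [← h1, av_zero]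
  · rw [av_pow_of_smul ha, ← hF, FiniteField.pow_card_sub_one_eq_one a ha0, one_smul]

theorem cast_q_eq_zero (hF : Fintype.card F = q ^ 2) : (q : F) = 0 := by
  have h1 : ((Fintype.card F : ℕ) : F) = 0 := Nat.cast_card_eq_zero F
  rw [hF, Nat.cast_pow] at h1
  exact pow_eq_zero_iff (by norm_num) |>.mp h1

theorem tv_pow_q (hF : Fintype.card F = q ^ 2) {n : ℕ} (v : Fin n → F) (c : F)
    (hvv : Cfsg.hermForm n F q v v = 0) (hc : c ^ q = -c) : tv hF v c hvv hc ^ q = 1 := by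
  have key : ∀ k : ℕ, ∀ x, av (tv hF v c hvv hc ^ k) x =
      x + ((k : F) * c * Cfsg.hermForm n F q x v) • v := by
    intro k
    induction k with
    | zero =>
      intro x
      rw [pow_zero, av_one]
      simp
    | succ k ih =>
      intro x
      rw [pow_succ, av_mul, av_tv, ih, herm_add_left, herm_smul_left, hvv]
      push_cast
      module
  apply ext_av
  intro x
  rw [key, cast_q_eq_zero hF, av_one]
  simp

theorem coprime_q (q : ℕ) (hq : 1 ≤ q) : Nat.Coprime (q ^ 2 - 1) q := by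
  have h1 : Nat.Coprime (q ^ 2 - 1) (q ^ 2) := by
    have e : q ^ 2 = (q ^ 2 - 1) + 1 := by
      have : 1 ≤ q ^ 2 := Nat.one_le_pow _ _ hq
      omega
    rw [e]
    simp
  exact Nat.Coprime.coprime_dvd_right (dvd_pow_self q (by norm_num)) h1

/-- a torus element scaling `v` by a generator spreads one transvection to the whole root group -/
theorem XL_of_gen (hF : Fintype.card F = q ^ 2) {n : ℕ} (μ : F)
    (hgen : ∀ r : F, r ≠ 0 → ∃ j : ℕ, r = μ ^ j)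
    (hord : ∀ k : ℕ, μ ^ k = 1 → (q ^ 2 - 1) ∣ k)
    (L : Subgroup ↥(Cfsg.SU n F q)) (g : ↥(Cfsg.SU n F q)) (hgL : g ∈ L) (v : Fin n → F)
    (hg : av g v = μ • v) (hvv : Cfsg.hermForm n F q v v = 0) (κ : F) (hκ : κ ^ q = -κ)
    (hκ0 : κ ≠ 0) (hτ : tv hF v κ hvv hκ ∈ L) : XL L v := by
  have hq := two_le_q' hF
  apply XL.intro hF hvv
  intro c0 hc0
  by_cases hc00 : c0 = 0
  · subst hc00
    have e0 : tv hF v 0 hvv hc0 = 1 := by
      apply ext_av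
      intro x
      rw [av_tv, av_one]
      simp
    rw [e0]
    exact L.one_mem
  · obtain ⟨r, hr⟩ : ∃ r : F, r = c0 / κ := ⟨_, rfl⟩
    have hr0 : r ≠ 0 := by
      rw [hr]
      exact div_ne_zero hc00 hκ0
    have hrq : r ^ q = r := by
      rw [hr, div_pow, hc0, hκ, neg_div_neg_eq]
    obtain ⟨i, hi⟩ := hgen r hr0
    -- `q + 1` divides `i`
    have h1 : μ ^ (i * (q - 1)) = 1 := by
      rw [pow_mul, ← hi]
      have e : q = (q - 1) + 1 := by omega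
      rw [e, pow_succ] at hrq
      have h3 : r ^ (q - 1) * r = 1 * r := by rw [one_mul]; exact hrq
      exact mul_right_cancel₀ hr0 h3
    have h2 := hord _ h1
    obtain ⟨k, rfl⟩ : ∃ k, q = k + 2 := ⟨q - 2, by omega⟩
    have e1 : (k + 2) ^ 2 - 1 = (k + 3) * (k + 1) := by
      have : (k + 2) ^ 2 = (k + 3) * (k + 1) + 1 := by ring
      omega
    have e2 : k + 2 - 1 = k + 1 := by omega
    rw [e1, e2] at h2
    have h3 : (k + 3) ∣ i := Nat.dvd_of_mul_dvd_mul_right (by omega) h2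
    obtain ⟨j, rfl⟩ := h3
    have hcj : c0 = κ * (μ ^ j) ^ (k + 2) * μ ^ j := by
      have e3 : r = (μ ^ j) ^ (k + 2) * μ ^ j := by
        rw [hi, ← pow_mul, ← pow_add]
        congr 1
        ring
      have : c0 = r * κ := by
        rw [hr, div_mul_cancel₀ _ hκ0]
      rw [this, e3]
      ring
    have hgj : av (g ^ j) v = μ ^ j • v := av_pow_of_smul hg j
    have e4 : tv hF v c0 hvv hc0 = g ^ j * tv hF v κ hvv hκ * (g ^ j)⁻¹ := by
      apply ext_av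
      intro x
      rw [av_mul, av_mul, av_tv, av_tv, av_add, av_smul, av_av_inv, herm_av_inv, hgj,
        herm_smul_right, smul_smul, hcj]
      congr 2
      ring
    rw [e4]
    exact L.mul_mem (L.mul_mem (L.pow_mem hgL j) hτ) (L.inv_mem (L.pow_mem hgL j))

end aux

section evenmain
variable {F : Type*} [Field F] [Fintype F] {q : ℕ}

/-- `SU_4(q)` is generated by two elements -/
theorem even_gen_two (hF : Fintype.card F = q ^ 2) :
    ∃ a b : ↥(Cfsg.SU (2 + 2) F q), Subgroup.closure {a, b} = ⊤ := by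
  obtain ⟨C⟩ := exists_hyp hF
  obtain ⟨μ, hμ0, hgen, hord⟩ := exists_gen hF
  obtain ⟨κ, hκ0, hκ⟩ := exists_trace_zero hF
  refine ⟨hT C hF 2 (by omega) μ hμ0, cox C hF 2 κ hκ * xs C hF 2 (by omega) 1, ?_⟩
  set L : Subgroup ↥(Cfsg.SU (2 + 2) F q) :=
    Subgroup.closure {hT C hF 2 (by omega) μ hμ0, cox C hF 2 κ hκ * xs C hF 2 (by omega) 1}
    with hL
  have hhL : hT C hF 2 (by omega) μ hμ0 ∈ L := Subgroup.subset_closure (by simp)
  have hyL : cox C hF 2 κ hκ * xs C hF 2 (by omega) 1 ∈ L := Subgroup.subset_closure (by simp)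
  have hc2 : av (cox C hF 2 κ hκ) (ev C (2 + 2) 2) = (-κ⁻¹) • fv C (2 + 2) 0 :=
    av_cox_e_last C hF 2 (by omega) κ hκ hκ0
  have hc0 : av (cox C hF 2 κ hκ) (ev C (2 + 2) 0) = ev C (2 + 2) 2 :=
    av_cox_e C hF 2 κ hκ 0 (by omega)
  have hb : av ((cox C hF 2 κ hκ)⁻¹ * hT C hF 2 (by omega) μ hμ0 * cox C hF 2 κ hκ)
      (ev C (2 + 2) 2) = (μ ^ q)⁻¹ • ev C (2 + 2) 2 := by
    rw [av_mul, av_mul, hc2, av_smul, av_hT_f0, smul_comm, ← hc2, av_smul, av_inv_av]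
  obtain ⟨hcL, hxL, hxL'⟩ := even_core C hF 2 1 (by omega) (by omega) κ hκ hκ0 μ hμ0 hord
    (μ ^ q)⁻¹ (inv_ne_zero (pow_ne_zero _ hμ0)) hb (gen_irr_b hF μ hord) L hhL hyL
  -- the frame vectors
  have h00 := herm_ev_ev C (n := 2 + 2) 0 (by omega)
  have h02 := herm_ev_ev_far C hF (n := 2 + 2) 0 2 (by omega) (by omega)
  have h20 := herm_ev_ev_far C hF (n := 2 + 2) 2 0 (by omega) (by omega)
  have h22 := herm_ev_ev C (n := 2 + 2) 2 (by omega)
  have hf00 := herm_fv_fv C (n := 2 + 2) 0 (by omega)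
  have h2f0 := herm_ev_fv_far C hF (n := 2 + 2) 2 0 (by omega) (by omega)
  have h0f0 := herm_ev_fv C (n := 2 + 2) 0 (by omega)
  -- the two Siegel groups with centre `ev 2`
  have S1 : ∀ r : F, sg hF (ev C (2 + 2) 2) (ev C (2 + 2) 0) h22 h20 h00 r ∈ L := by
    intro r
    have h1 := hxL ((-r) ^ q)
    unfold xs at h1
    rw [sg_swap hF (ev C (2 + 2) 2) (ev C (2 + 2) 0) h22 h20 h00 h02, pow_q_q hF, neg_neg] at h1
    exact h1
  have A2 : Cfsg.hermForm (2 + 2) F q (ev C (2 + 2) 2) ((-κ⁻¹) • fv C (2 + 2) 0) = 0 := by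
    rw [herm_smul_right, h2f0, mul_zero]
  have A3 : Cfsg.hermForm (2 + 2) F q ((-κ⁻¹) • fv C (2 + 2) 0) ((-κ⁻¹) • fv C (2 + 2) 0) = 0 := by
    rw [herm_smul_left, herm_smul_right, hf00, mul_zero, mul_zero]
  have S2 : ∀ r : F, sg hF (ev C (2 + 2) 2) (fv C (2 + 2) 0) h22 h2f0 hf00 r ∈ L := by
    intro r
    have h1 := hxL' (r * -κ)
    unfold xs at h1
    rw [conj_sg hF _ _ _ (ev C (2 + 2) 2) ((-κ⁻¹) • fv C (2 + 2) 0) h00 h02 h22 h22 A2 A3 hc0 hc2,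
      sg_smul_right hF (ev C (2 + 2) 2) (fv C (2 + 2) 0) (-κ⁻¹) h22 h2f0 hf00 A2 A3] at h1
    have e : r * -κ * -κ⁻¹ = r := by
      field_simp
    rwa [e] at h1
  have hX : XL L (ev C (2 + 2) 2) := by
    apply XL.intro hF h22
    intro c0 hc0'
    obtain ⟨s0, hs0⟩ := exists_sub_conj hF c0 hc0'
    have h1 := sg_comm hF (ev C (2 + 2) 2) (ev C (2 + 2) 0) (fv C (2 + 2) 0) h22 h20 h00 h2f0 hf00
      h0f0 s0 1 c0 hc0' (by rw [one_pow, mul_one, mul_one, hs0])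
    have h2 : tv hF (ev C (2 + 2) 2) c0 h22 hc0' =
        (sg hF (ev C (2 + 2) 2) (ev C (2 + 2) 0) h22 h20 h00 s0 *
          sg hF (ev C (2 + 2) 2) (fv C (2 + 2) 0) h22 h2f0 hf00 1) *
        (sg hF (ev C (2 + 2) 2) (fv C (2 + 2) 0) h22 h2f0 hf00 1 *
          sg hF (ev C (2 + 2) 2) (ev C (2 + 2) 0) h22 h20 h00 s0)⁻¹ := by
      rw [h1]
      group
    rw [h2]
    exact L.mul_mem (L.mul_mem (S1 _) (S2 _)) (L.inv_mem (L.mul_mem (S2 _) (S1 _)))
  exact top_even_of C hF 2 1 (by omega) (by omega) κ hκ hκ0 L hcL hxL 1 (by omega) hX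

/-- `SU_{2m+2}(q)`, `m ≥ 2`, is generated by two elements -/
theorem even_gen_big (hF : Fintype.card F = q ^ 2) (n m : ℕ) (hm : 2 ≤ m) (hn : n = 2 * m) :
    ∃ a b : ↥(Cfsg.SU (n + 2) F q), Subgroup.closure {a, b} = ⊤ := by
  obtain ⟨C⟩ := exists_hyp hF
  obtain ⟨μ, hμ0, hgen, hord⟩ := exists_gen hF
  obtain ⟨κ, hκ0, hκ⟩ := exists_trace_zero hF
  have hn4 : 4 ≤ n := by omega
  have hn2 : 2 ≤ n := by omega
  have h44 := herm_ev_ev C (n := n + 2) 4 (by omega)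
  refine ⟨hT C hF n hn2 μ hμ0 * tv hF (ev C (n + 2) 4) κ h44 hκ,
    cox C hF n κ hκ * xs C hF n hn2 1, ?_⟩
  set L : Subgroup ↥(Cfsg.SU (n + 2) F q) :=
    Subgroup.closure {hT C hF n hn2 μ hμ0 * tv hF (ev C (n + 2) 4) κ h44 hκ,
      cox C hF n κ hκ * xs C hF n hn2 1} with hL
  have haL : hT C hF n hn2 μ hμ0 * tv hF (ev C (n + 2) 4) κ h44 hκ ∈ L :=
    Subgroup.subset_closure (by simp)
  have hyL : cox C hF n κ hκ * xs C hF n hn2 1 ∈ L := Subgroup.subset_closure (by simp)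
  -- split the first generator
  have hfix : av (hT C hF n hn2 μ hμ0) (ev C (n + 2) 4) = ev C (n + 2) 4 :=
    av_hT_e4 C hF n hn4 μ hμ0
  have hcm : Commute (hT C hF n hn2 μ hμ0) (tv hF (ev C (n + 2) 4) κ h44 hκ) := by
    have h1 : hT C hF n hn2 μ hμ0 * tv hF (ev C (n + 2) 4) κ h44 hκ * (hT C hF n hn2 μ hμ0)⁻¹ =
        tv hF (ev C (n + 2) 4) κ h44 hκ := by
      apply ext_av
      intro x
      rw [av_mul, av_mul, av_tv, av_tv, av_add, av_smul, av_av_inv, herm_av_inv, hfix]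
    unfold Commute SemiconjBy
    calc hT C hF n hn2 μ hμ0 * tv hF (ev C (n + 2) 4) κ h44 hκ
        = (hT C hF n hn2 μ hμ0 * tv hF (ev C (n + 2) 4) κ h44 hκ * (hT C hF n hn2 μ hμ0)⁻¹) *
            hT C hF n hn2 μ hμ0 := by group
      _ = tv hF (ev C (n + 2) 4) κ h44 hκ * hT C hF n hn2 μ hμ0 := by rw [h1]
  have hN : hT C hF n hn2 μ hμ0 ^ (q ^ 2 - 1) = 1 := by
    apply ext_frame C hF (n + 2) (m + 1) (by omega)
    intro i hi
    have h1 := Sc_tor2 C hF (n + 2) (by omega) μ hμ0 i (by omega)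
    exact ⟨by rw [av_one]; exact av_pow_card hF h1.1, by rw [av_one]; exact av_pow_card hF h1.2⟩
  obtain ⟨hhL, hτL⟩ := mem_of_comm_coprime' _ _ hcm (q ^ 2 - 1) q hN
    (tv_pow_q hF _ κ h44 hκ) (coprime_q q (q_pos hF)) L haL
  have hc2 : av (cox C hF n κ hκ) (ev C (n + 2) 2) = ev C (n + 2) 4 :=
    av_cox_e C hF n κ hκ 2 (by omega)
  have hb : av ((cox C hF n κ hκ)⁻¹ * hT C hF n hn2 μ hμ0 * cox C hF n κ hκ)
      (ev C (n + 2) 2) = (1 : F) • ev C (n + 2) 2 := by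
    rw [av_mul, av_mul, hc2, hfix, ← hc2, av_inv_av, one_smul]
  have hirr : ∀ k : ℕ, 0 < k → k ≤ q → ((μ⁻¹) ^ q * 1) ^ k ≠ 1 := by
    intro k hk hkq
    rw [mul_one]
    exact gen_irr_a hF μ hord k hk hkq
  obtain ⟨hcL, hxL, -⟩ := even_core C hF n m (by omega) hn κ hκ hκ0 μ hμ0 hord
    1 one_ne_zero hb hirr L hhL hyL
  -- the long root group at `ev 4`
  have hg1 : av (cox C hF n κ hκ * hT C hF n hn2 μ hμ0 * (cox C hF n κ hκ)⁻¹)
      (ev C (n + 2) 4) = μ⁻¹ • ev C (n + 2) 4 := by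
    rw [av_mul, av_mul, ← hc2, av_inv_av, av_hT_e2, av_smul]
  have hg2 := av_inv_of_smul hg1 (inv_ne_zero hμ0)
  rw [inv_inv] at hg2
  have hgL : (cox C hF n κ hκ * hT C hF n hn2 μ hμ0 * (cox C hF n κ hκ)⁻¹)⁻¹ ∈ L :=
    L.inv_mem (L.mul_mem (L.mul_mem hcL hhL) (L.inv_mem hcL))
  have hX : XL L (ev C (n + 2) (2 * 2)) :=
    XL_of_gen hF μ hgen hord L _ hgL _ hg2 h44 κ hκ hκ0 hτL
  exact top_even_of C hF n m (by omega) hn κ hκ hκ0 L hcL hxL 2 (by omega) hX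

/-- `SU_{2m}(q)`, `m ≥ 2`, is generated by two elements -/
theorem even_gen (hF : Fintype.card F = q ^ 2) (n m : ℕ) (hm : 1 ≤ m) (hn : n = 2 * m) :
    ∃ a b : ↥(Cfsg.SU (n + 2) F q), Subgroup.closure {a, b} = ⊤ := by
  by_cases h1 : m = 1
  · subst h1
    obtain rfl : n = 2 := by omega
    exact even_gen_two hF
  · exact even_gen_big hF n m (by omega) hn

end evenmain

end Cfsg.Agent.Lib.Helper9.SUGen
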