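import Mathlib
import Cfsg.Agent.Lib.Helper9.SUGenG

/-!
# Two-generation of the special unitary groups, part H: the odd-dimensional case
-/

set_option autoImplicit false

namespace Cfsg.Agent.Lib.Helper9.SUGen

open Matrix Cfsg.Agent.Lib.Helper6 Cfsg.Agent.S0779 Cfsg.Agent.S0781
open Cfsg.Agent.Lib.Helper6.SUG Cfsg.Agent.Lib.Helper13

section oddaux
variable {F : Type*} [Field F] [Fintype F] {q n : ℕ}

local notation "hh" => Cfsg.hermForm n F q

/-- the anisotropic vector completing the frame in odd dimension -/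
def wv (F : Type*) [Field F] (n : ℕ) : Fin (n + 1) → F := Fin.cons 1 0

theorem wv_zero : wv F n 0 = 1 := rfl

theorem tail_wv : Fin.tail (wv F n) = 0 := rfl

theorem herm_up_wv (hF : Fintype.card F = q ^ 2) (x : Fin n → F) :
    Cfsg.hermForm (n + 1) F q (up x) (wv F n) = 0 := by
  rw [herm_succ, tail_up, tail_wv, up_zero_apply, zero_mul, zero_add, herm_zero_right hF]

theorem herm_wv_up (hF : Fintype.card F = q ^ 2) (x : Fin n → F) :
    Cfsg.hermForm (n + 1) F q (wv F n) (up x) = 0 :=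
  herm_swap_zero hF (herm_up_wv hF x)

theorem herm_wv_wv (hF : Fintype.card F = q ^ 2) :
    Cfsg.hermForm (n + 1) F q (wv F n) (wv F n) = 1 := by
  rw [herm_succ, tail_wv, wv_zero, one_pow, mul_one, herm_zero_right hF, add_zero]

theorem av_embSU_wv (g : ↥(Cfsg.SU n F q)) : av (embSU g) (wv F n) = wv F n := by
  rw [av_embSU, tail_wv, av_zero]
  rfl

theorem herm_left_up (hF : Fintype.card F = q ^ 2) (y : Fin (n + 1) → F) (x : Fin n → F) :
    Cfsg.hermForm (n + 1) F q y (up x) = hh (Fin.tail y) x := by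
  rw [herm_succ, tail_up, up_zero_apply, zero_pow (q_pos hF).ne', mul_zero, zero_add]

theorem embSU_sg (hF : Fintype.card F = q ^ 2) (u a : Fin n → F) (huu : hh u u = 0)
    (hua : hh u a = 0) (haa : hh a a = 0) (t : F) :
    embSU (sg hF u a huu hua haa t) =
      sg hF (up u) (up a) (by rw [herm_up]; exact huu) (by rw [herm_up]; exact hua)
        (by rw [herm_up]; exact haa) t := by
  apply ext_av
  intro y
  rw [av_embSU, av_sg, av_sg, herm_left_up hF, herm_left_up hF]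
  funext j
  refine Fin.cases ?_ (fun j' => ?_) j
  · simp [up]
  · simp [up, Fin.tail]

theorem hsT_comm (hF : Fintype.card F = q ^ 2) (u u' w : Fin n → F) (huu : hh u u = 0)
    (huw : hh u w = 0) (hww : hh w w = 1) (hu'u' : hh u' u' = 0) (hu'w : hh u' w = 0)
    (huu' : hh u u' = 0) (t d t' d' : F) (hd : HP q t d) (hd' : HP q t' d') :
    hsT hF u w huu huw hww t d * hsT hF u' w hu'u' hu'w hww t' d' =
      sg hF u u' huu huu' hu'u' (t * t' ^ q) *
        (hsT hF u' w hu'u' hu'w hww t' d' * hsT hF u w huu huw hww t d) := by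
  have hwu : hh w u = 0 := herm_swap_zero hF huw
  have hwu' : hh w u' = 0 := herm_swap_zero hF hu'w
  have hu'u : hh u' u = 0 := herm_swap_zero hF huu'
  apply ext_av
  intro x
  simp only [av_mul, av_sg, av_hsT hF u w huu huw hww t d hd,
    av_hsT hF u' w hu'u' hu'w hww t' d' hd', herm_add_left, herm_sub_left', herm_smul_left,
    huu, huw, hww, hu'u', hu'w, huu', hwu, hwu', hu'u, mul_pow, pow_q_q hF]
  module

/-- conjugating a Heisenberg element by an element scaling both `u` and `w` -/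
theorem conj_hsT_scale (hF : Fintype.card F = q ^ 2) (g : ↥(Cfsg.SU n F q)) (u w : Fin n → F)
    (l δ : F) (huu : hh u u = 0) (huw : hh u w = 0) (hww : hh w w = 1)
    (hgu : av g u = l • u) (hgw : av g w = δ • w) (hδ : δ * δ ^ q = 1) (t d : F)
    (hd : HP q t d) :
    g * hsT hF u w huu huw hww t d * g⁻¹ =
      hsT hF u w huu huw hww (l ^ q * δ * t) (l ^ q * δ * (l ^ q * δ) ^ q * d) := by
  have A1 : hh (l • u) (l • u) = 0 := by
    rw [herm_smul_left, herm_smul_right, huu, mul_zero, mul_zero]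
  have A2 : hh (l • u) (δ • w) = 0 := by
    rw [herm_smul_left, herm_smul_right, huw, mul_zero, mul_zero]
  have A3 : hh (δ • w) (δ • w) = 1 := by
    rw [herm_smul_left, herm_smul_right, hww, mul_one, hδ]
  rw [conj_hsT hF g u w (l • u) (δ • w) huu huw hww A1 A2 A3 hgu hgw t d hd,
    hsT_scale hF u w l δ huu huw hww A1 A2 A3 hδ t d hd]

theorem hsT_center_XL (hF : Fintype.card F = q ^ 2) (u w : Fin n → F) (huu : hh u u = 0)
    (huw : hh u w = 0) (hww : hh w w = 1) (L : Subgroup ↥(Cfsg.SU n F q))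
    (h : ∀ d : F, HP q 0 d → hsT hF u w huu huw hww 0 d ∈ L) : XL L u := by
  apply XL.intro hF huu
  intro c0 hc0
  have hP : HP q (0 : F) (-c0) := by
    unfold HP
    rw [neg_pow_q hF, hc0, zero_mul]
    ring
  have e : tv hF u c0 huu hc0 = hsT hF u w huu huw hww 0 (-c0) := by
    apply ext_av
    intro x
    rw [av_tv, av_hsT hF u w huu huw hww 0 (-c0) hP, zero_pow (q_pos hF).ne']
    module
  rw [e]
  exact h _ hP

end oddaux

section whup
variable {F : Type*} [Field F] [Fintype F] {q : ℕ} (C : Hyp F q)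

theorem WH_up (hF : Fintype.card F = q ^ 2) (n m o : ℕ)
    (L : Subgroup ↥(Cfsg.SU (n + 1) F q)) (h : WH C n m o (L.comap embSU)) :
    WH C (n + 1) m (o + 1) L := by
  obtain ⟨h1, h2, h3⟩ := h
  refine ⟨?_, ?_, ?_⟩
  · intro i hi
    obtain ⟨a, b⟩ := h1 i hi
    have a' := XL_up hF a
    have b' := XL_up hF b
    rw [up_ev] at a'
    rw [up_fv] at b'
    exact ⟨a', b'⟩
  · intro i hi s
    have a' := XL_up hF (h2 i hi s)
    rw [up_add, up_smul, up_ev, up_ev] at a'
    exact a'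
  · intro i hi
    obtain ⟨a, b, a', b', hab, hx⟩ := h3 i hi
    refine ⟨a, b, a', b', hab, ?_⟩
    have hx' := XL_up hF hx
    rw [up_add, up_add, up_add, up_smul, up_smul, up_smul, up_smul, up_ev, up_ev, up_fv,
      up_fv] at hx'
    exact hx'

end whup

section oddmain
variable {F : Type*} [Field F] [Fintype F] {q : ℕ}

theorem gen_pow_q_ne (hF : Fintype.card F = q ^ 2) (μ : F)
    (hord : ∀ k : ℕ, μ ^ k = 1 → (q ^ 2 - 1) ∣ k) : μ ^ q * 1 ≠ 1 := by
  have hq := two_le_q' hF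
  intro h
  rw [mul_one] at h
  have h1 : μ ^ (q * 1) = 1 := by rw [mul_one]; exact h
  have h2 := pow_q_cancel hF μ 1 h1
  have h3 := Nat.le_of_dvd (by omega) (hord 1 h2)
  have h4 : q * 2 ≤ q * q := Nat.mul_le_mul_left q hq
  have h5 : q ^ 2 = q * q := by ring
  omega

/-- `SU_{2m+3}(q)`, `m ≥ 1`, is generated by two elements -/
theorem odd_gen (hF : Fintype.card F = q ^ 2) (n m : ℕ) (hm : 1 ≤ m) (hn : n = 2 * m) :
    ∃ a b : ↥(Cfsg.SU (n + 2 + 1) F q), Subgroup.closure {a, b} = ⊤ := by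
  obtain ⟨C⟩ := exists_hyp hF
  obtain ⟨μ, hμ0, hgen, hord⟩ := exists_gen hF
  obtain ⟨κ, hκ0, hκ⟩ := exists_trace_zero hF
  obtain ⟨d0, hd0⟩ := exists_trace_one hF
  have hn2 : 2 ≤ n := by omega
  -- the vectors
  have huu : Cfsg.hermForm (n + 2 + 1) F q (up (ev C (n + 2) 0)) (up (ev C (n + 2) 0)) = 0 := by
    rw [herm_up]
    exact herm_ev_ev C 0 (by omega)
  have huw : Cfsg.hermForm (n + 2 + 1) F q (up (ev C (n + 2) 0)) (wv F (n + 2)) = 0 :=
    herm_up_wv hF _
  have hww : Cfsg.hermForm (n + 2 + 1) F q (wv F (n + 2)) (wv F (n + 2)) = 1 := herm_wv_wv hF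
  have hu2u2 : Cfsg.hermForm (n + 2 + 1) F q (up (ev C (n + 2) 2)) (up (ev C (n + 2) 2)) = 0 := by
    rw [herm_up]
    exact herm_ev_ev C 2 (by omega)
  have hu2w : Cfsg.hermForm (n + 2 + 1) F q (up (ev C (n + 2) 2)) (wv F (n + 2)) = 0 :=
    herm_up_wv hF _
  have huu2 : Cfsg.hermForm (n + 2 + 1) F q (up (ev C (n + 2) 0)) (up (ev C (n + 2) 2)) = 0 := by
    rw [herm_up]
    exact herm_ev_ev_far C hF 0 2 (by omega) (by omega)
  have hP1 : HP q (1 : F) d0 := by
    unfold HP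
    rw [one_pow, mul_one]
    exact hd0
  have hPt : ∀ t : F, HP q t (t * t ^ q * d0) := by
    intro t
    unfold HP
    rw [mul_pow, mul_pow, pow_q_q hF]
    linear_combination (t * t ^ q) * hd0
  refine ⟨embSU (hT C hF n hn2 μ hμ0),
    embSU (cox C hF n κ hκ) * hsT hF (up (ev C (n + 2) 0)) (wv F (n + 2)) huu huw hww 1 d0, ?_⟩
  set L : Subgroup ↥(Cfsg.SU (n + 2 + 1) F q) :=
    Subgroup.closure {embSU (hT C hF n hn2 μ hμ0),
      embSU (cox C hF n κ hκ) * hsT hF (up (ev C (n + 2) 0)) (wv F (n + 2)) huu huw hww 1 d0}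
    with hL
  have hhL : embSU (hT C hF n hn2 μ hμ0) ∈ L := Subgroup.subset_closure (by simp)
  have hyL : embSU (cox C hF n κ hκ) *
      hsT hF (up (ev C (n + 2) 0)) (wv F (n + 2)) huu huw hww 1 d0 ∈ L :=
    Subgroup.subset_closure (by simp)
  have hirr : ∀ k : ℕ, 0 < k → k ≤ q → ((μ⁻¹) ^ q * 1) ^ k ≠ 1 := by
    intro k hk hkq
    rw [mul_one]
    exact gen_irr_a hF μ hord k hk hkq
  have hν0 : (μ⁻¹) ^ q * 1 ≠ 0 := mul_ne_zero (pow_ne_zero _ (inv_ne_zero hμ0)) one_ne_zero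
  have h11 : (1 : F) * 1 ^ q = 1 := by rw [one_pow, mul_one]
  obtain ⟨hcL, hEL⟩ := heis_trick hF
    (E := fun t d => hsT hF (up (ev C (n + 2) 0)) (wv F (n + 2)) huu huw hww t d)
    (E' := fun t d => hsT hF (up (ev C (n + 2) 2)) (wv F (n + 2)) hu2u2 hu2w hww t d)
    (h := embSU (hT C hF n hn2 μ hμ0)) (c := embSU (cox C hF n κ hκ))
    (α := μ ^ q * 1) (ν := (μ⁻¹) ^ q * 1)
    (fun t d t' d' hd hd' => hsT_mul hF _ _ hu2u2 hu2w hww t d t' d' hd hd')
    (fun t d hd => conj_hsT hF _ _ _ _ _ huu huw hww hu2u2 hu2w hww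
      (by rw [av_embSU_up, av_cox_e C hF n κ hκ 0 (by omega)]) (av_embSU_wv _) t d hd)
    (fun t d hd => conj_hsT_scale hF _ _ _ μ 1 huu huw hww
      (by rw [av_embSU_up, av_hT_e0, up_smul]) (by rw [av_embSU_wv, one_smul]) h11 t d hd)
    (fun t d hd => conj_hsT_scale hF _ _ _ μ⁻¹ 1 hu2u2 hu2w hww
      (by rw [av_embSU_up, av_hT_e2, up_smul]) (by rw [av_embSU_wv, one_smul]) h11 t d hd)
    (by
      have := congrArg embSU (hcomm_even C hF n m hm hn κ hκ hκ0 μ hμ0)
      simpa only [map_mul, map_inv, hT] using this)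
    (gen_pow_q_ne hF μ hord)
    (by have := hirr 1 (by omega) (q_pos hF); rwa [pow_one] at this)
    (irr_of_order hF _ hν0 hirr) 1 d0 hP1 one_ne_zero L hhL hyL
  -- the centre of the first root group
  have hXu : XL L (up (ev C (n + 2) 0)) :=
    hsT_center_XL hF _ _ huu huw hww L (fun d hd => (hEL 0 d hd).1)
  -- the short root group
  have hsgL : ∀ t : F, sg hF (up (ev C (n + 2) 0)) (up (ev C (n + 2) 2)) huu huu2 hu2u2 t ∈ L := by
    intro t
    have h1 := hsT_comm hF _ _ _ huu huw hww hu2u2 hu2w huu2 t (t * t ^ q * d0) 1 d0 (hPt t) hP1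
    rw [one_pow, mul_one] at h1
    have h2 : sg hF (up (ev C (n + 2) 0)) (up (ev C (n + 2) 2)) huu huu2 hu2u2 t =
        (hsT hF (up (ev C (n + 2) 0)) (wv F (n + 2)) huu huw hww t (t * t ^ q * d0) *
          hsT hF (up (ev C (n + 2) 2)) (wv F (n + 2)) hu2u2 hu2w hww 1 d0) *
        (hsT hF (up (ev C (n + 2) 2)) (wv F (n + 2)) hu2u2 hu2w hww 1 d0 *
          hsT hF (up (ev C (n + 2) 0)) (wv F (n + 2)) huu huw hww t (t * t ^ q * d0))⁻¹ := by
      rw [h1]
      group
    rw [h2]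
    exact L.mul_mem (L.mul_mem (hEL _ _ (hPt t)).1 (hEL _ _ hP1).2)
      (L.inv_mem (L.mul_mem (hEL _ _ hP1).2 (hEL _ _ (hPt t)).1))
  -- pass to the even-dimensional subgroup
  have hc0 : cox C hF n κ hκ ∈ L.comap embSU := Subgroup.mem_comap.mpr hcL
  have hx0 : ∀ t : F, xs C hF n hn2 t ∈ L.comap embSU := by
    intro t
    rw [Subgroup.mem_comap]
    unfold xs
    rw [embSU_sg]
    exact hsgL t
  have hX0 : XL (L.comap embSU) (ev C (n + 2) (2 * 0)) := XL_comap hF hXu
  have hWH0 := WH_even_of C hF n m hm hn κ hκ hκ0 _ hc0 hx0 0 (by omega) hX0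
  have hWH := WH_up C hF (n + 2) (m + 1) 0 L hWH0
  -- the link with the anisotropic vector
  have hXf : XL L (up (fv C (n + 2) 0)) := by
    have := (hWH.1 0 (by omega)).2
    rw [up_fv]
    exact this
  have hxw := hXf.map _ (hEL 1 d0 hP1).1
  have hxw0 : av (hsT hF (up (ev C (n + 2) 0)) (wv F (n + 2)) huu huw hww 1 d0)
      (up (fv C (n + 2) 0)) 0 ≠ 0 := by
    rw [av_hsT hF _ _ huu huw hww 1 d0 hP1, herm_up, herm_fv_ev C hF 0 (by omega),
      herm_up_wv hF]
    simp [up, wv]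
  have hall := W_odd C hF (m + 1) (by omega) (n + 2) (by omega) L hWH _ hxw hxw0
  exact top_of_forall hF (by omega) (by omega) L hall

end oddmain

end Cfsg.Agent.Lib.Helper9.SUGen
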