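import Mathlib
import Cfsg.Agent.Lib.Helper9.SUGenH

/-!
# Two-generation of the special unitary groups, part I: dimension three
-/

set_option autoImplicit false

namespace Cfsg.Agent.Lib.Helper9.SUGen

open Matrix Cfsg.Agent.Lib.Helper6 Cfsg.Agent.S0779 Cfsg.Agent.S0781
open Cfsg.Agent.Lib.Helper6.SUG Cfsg.Agent.Lib.Helper13

section three
variable {F : Type*} [Field F] [Fintype F] {q : ℕ}

/-- two elements of `SU_3` agreeing on the frame are equal -/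
theorem ext_frame3 (C : Hyp F q) (hF : Fintype.card F = q ^ 2) {g g' : ↥(Cfsg.SU (2 + 1) F q)}
    (hw : av g (wv F 2) = av g' (wv F 2))
    (hu : av g (up (ev C 2 0)) = av g' (up (ev C 2 0)))
    (hf : av g (up (fv C 2 0)) = av g' (up (fv C 2 0))) : g = g' := by
  apply ext_av
  intro x
  have hx : x = (x 0) • wv F 2 + up (Fin.tail x) := by
    funext j
    refine Fin.cases ?_ (fun j' => ?_) j
    · simp [wv, up]
    · simp [wv, up, Fin.tail]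
  have ht : Fin.tail x = pl 2 0 (Fin.tail x 0) (Fin.tail x 1) := by
    funext j
    fin_cases j <;> simp [pl]
  rw [hx, ht, pl_expand C hF, up_add, up_smul, up_smul]
  simp only [av_add, av_smul, hw, hu, hf]

theorem three_alpha_ne (hq : 3 ≤ q) (μ : F) (hμ0 : μ ≠ 0)
    (hord : ∀ k : ℕ, μ ^ k = 1 → (q ^ 2 - 1) ∣ k) : μ ^ q * (μ ^ q * μ⁻¹) ≠ 1 := by
  intro h
  have h1 : μ ^ (2 * q - 1) = 1 := by
    have e : μ ^ (2 * q - 1) * μ = 1 * μ := by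
      rw [← pow_succ]
      have e2 : 2 * q - 1 + 1 = q + q := by omega
      rw [e2, pow_add, one_mul]
      field_simp at h
      rw [← sq]
      exact h
    exact mul_right_cancel₀ hμ0 e
  have h3 := Nat.le_of_dvd (by omega) (hord _ h1)
  have h4 : q * 3 ≤ q * q := Nat.mul_le_mul_left q hq
  have h5 : q ^ 2 = q * q := by ring
  omega

theorem three_irr (hF : Fintype.card F = q ^ 2) (hq : 3 ≤ q) (μ : F) (hμ0 : μ ≠ 0)
    (hord : ∀ k : ℕ, μ ^ k = 1 → (q ^ 2 - 1) ∣ k) (k : ℕ) (hk : 0 < k) (hkq : k ≤ q) :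
    (((μ ^ q)⁻¹) ^ q * (μ ^ q * μ⁻¹)) ^ k ≠ 1 := by
  intro h
  have e : ((μ ^ q)⁻¹) ^ q * (μ ^ q * μ⁻¹) = μ ^ (q - 2) := by
    rw [inv_pow, pow_q_q hF]
    have e2 : q = (q - 2) + 2 := by omega
    conv_lhs => rw [e2, pow_add]
    field_simp
  rw [e, ← pow_mul] at h
  have h3 := Nat.le_of_dvd (Nat.mul_pos (by omega) hk) (hord _ h)
  have h4 : (q - 2) * k ≤ (q - 2) * q := Nat.mul_le_mul_left _ hkq
  have h5 : q ^ 2 = q * q := by ring
  have h6 : (q - 2) * q + 2 * q = q * q := by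
    have : q = (q - 2) + 2 := by omega
    nlinarith
  omega

/-- `SU_3(q)`, `q ≥ 3`, is generated by two elements -/
theorem three_gen (hF : Fintype.card F = q ^ 2) (hq : 3 ≤ q) :
    ∃ a b : ↥(Cfsg.SU (2 + 1) F q), Subgroup.closure {a, b} = ⊤ := by
  obtain ⟨C⟩ := exists_hyp hF
  obtain ⟨μ, hμ0, hgen, hord⟩ := exists_gen hF
  obtain ⟨κ, hκ0, hκ⟩ := exists_trace_zero hF
  obtain ⟨d0, hd0⟩ := exists_trace_one hF
  have hμq0 : μ ^ q ≠ 0 := pow_ne_zero _ hμ0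
  -- the vectors
  have huu : Cfsg.hermForm (2 + 1) F q (up (ev C 2 0)) (up (ev C 2 0)) = 0 := by
    rw [herm_up]
    exact herm_ev_ev C 0 (by omega)
  have hff : Cfsg.hermForm (2 + 1) F q (up (fv C 2 0)) (up (fv C 2 0)) = 0 := by
    rw [herm_up]
    exact herm_fv_fv C 0 (by omega)
  have huf : Cfsg.hermForm (2 + 1) F q (up (ev C 2 0)) (up (fv C 2 0)) = 1 := by
    rw [herm_up]
    exact herm_ev_fv C 0 (by omega)
  have hfu : Cfsg.hermForm (2 + 1) F q (up (fv C 2 0)) (up (ev C 2 0)) = 1 := by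
    rw [herm_up]
    exact herm_fv_ev C hF 0 (by omega)
  have huw : Cfsg.hermForm (2 + 1) F q (up (ev C 2 0)) (wv F 2) = 0 := herm_up_wv hF _
  have hfw : Cfsg.hermForm (2 + 1) F q (up (fv C 2 0)) (wv F 2) = 0 := herm_up_wv hF _
  have hwu : Cfsg.hermForm (2 + 1) F q (wv F 2) (up (ev C 2 0)) = 0 := herm_wv_up hF _
  have hwf : Cfsg.hermForm (2 + 1) F q (wv F 2) (up (fv C 2 0)) = 0 := herm_wv_up hF _
  have hww : Cfsg.hermForm (2 + 1) F q (wv F 2) (wv F 2) = 1 := herm_wv_wv hF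
  -- the torus element
  obtain ⟨ζ, hζ⟩ : ∃ ζ : F, ζ = μ ^ q * μ⁻¹ := ⟨_, rfl⟩
  obtain ⟨a1, ha1⟩ : ∃ a1 : F, a1 = μ * μ * (μ ^ q)⁻¹ - 1 := ⟨_, rfl⟩
  obtain ⟨a2, ha2⟩ : ∃ a2 : F, a2 = μ * ((μ ^ q) ^ 2)⁻¹ - 1 := ⟨_, rfl⟩
  have hζζ : ζ * ζ ^ q = 1 := by
    rw [hζ, mul_pow, inv_pow, pow_q_q hF]
    field_simp
  have ha1q : a1 ^ q = μ ^ q * μ ^ q * μ⁻¹ - 1 := by
    rw [ha1, sub_pow_q hF, mul_pow, mul_pow, inv_pow, pow_q_q hF, one_pow]
  have ha2q : a2 ^ q = μ ^ q * (μ ^ 2)⁻¹ - 1 := by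
    rw [ha2, sub_pow_q hF, mul_pow, inv_pow, ← pow_mul, mul_comm 2 q, pow_mul, pow_q_q hF,
      one_pow]
  have hC1 : a1 ^ q + a2 + a2 * a1 ^ q = 0 := by
    rw [ha1q, ha2]
    field_simp
    ring
  have hC2 : a2 ^ q + a1 + a1 * a2 ^ q = 0 := by
    rw [ha2q, ha1]
    field_simp
    ring
  have hdet : (Bm q ζ a1 a2 (up (ev C 2 0)) (up (fv C 2 0))).det = 1 := by
    have e1 : 1 + a1 = μ * μ * (μ ^ q)⁻¹ := by rw [ha1]; ring
    have e2 : 1 + a2 = μ * ((μ ^ q) ^ 2)⁻¹ := by rw [ha2]; ring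
    rw [Bm_det ζ a1 a2 _ _ huf hfu, hζ, e1, e2, mul_pow, inv_pow]
    field_simp
  obtain ⟨h3, hh3⟩ : ∃ h3 : ↥(Cfsg.SU (2 + 1) F q), ∀ x, av h3 x =
      ζ • (x + (a2 * Cfsg.hermForm (2 + 1) F q x (up (ev C 2 0))) • up (fv C 2 0) +
        (a1 * Cfsg.hermForm (2 + 1) F q x (up (fv C 2 0))) • up (ev C 2 0)) := by
    refine ⟨mkSU (Bm q ζ a1 a2 (up (ev C 2 0)) (up (fv C 2 0))) hdet
      (Bm_pres hF ζ a1 a2 _ _ huu hff huf hfu hζζ hC1 hC2), ?_⟩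
    intro x
    exact Bm_mulVec ζ a1 a2 _ _ x hff
  have h3u : av h3 (up (ev C 2 0)) = μ • up (ev C 2 0) := by
    have e : ζ * (1 + a1) = μ := by
      rw [hζ, ha1]
      field_simp
      ring
    rw [hh3, huu, huf, ← e]
    module
  have h3f : av h3 (up (fv C 2 0)) = (μ ^ q)⁻¹ • up (fv C 2 0) := by
    have e : ζ * (1 + a2) = (μ ^ q)⁻¹ := by
      rw [hζ, ha2]
      field_simp
      ring
    rw [hh3, hff, hfu, ← e]
    module
  have h3w : av h3 (wv F 2) = ζ • wv F 2 := by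
    rw [hh3, hwu, hwf]
    module
  -- the Weyl element
  have hcu := av_wl_e hF _ _ huu hff huf κ hκ hκ0
  have hcf := av_wl_f hF _ _ huu hff huf κ hκ hκ0
  have hcw := av_wl_fix hF _ _ huu hff κ hκ _ hwu hwf
  have hf'f' : Cfsg.hermForm (2 + 1) F q ((-κ⁻¹) • up (fv C 2 0)) ((-κ⁻¹) • up (fv C 2 0)) = 0 := by
    rw [herm_smul_left, herm_smul_right, hff, mul_zero, mul_zero]
  have hf'w : Cfsg.hermForm (2 + 1) F q ((-κ⁻¹) • up (fv C 2 0)) (wv F 2) = 0 := by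
    rw [herm_smul_left, hfw, mul_zero]
  have hP1 : HP q (1 : F) d0 := by
    unfold HP
    rw [one_pow, mul_one]
    exact hd0
  refine ⟨h3, wl hF _ _ huu hff κ hκ * hsT hF (up (ev C 2 0)) (wv F 2) huu huw hww 1 d0, ?_⟩
  set L : Subgroup ↥(Cfsg.SU (2 + 1) F q) :=
    Subgroup.closure {h3,
      wl hF _ _ huu hff κ hκ * hsT hF (up (ev C 2 0)) (wv F 2) huu huw hww 1 d0} with hL
  have hhL : h3 ∈ L := Subgroup.subset_closure (by simp)
  have hyL : wl hF _ _ huu hff κ hκ * hsT hF (up (ev C 2 0)) (wv F 2) huu huw hww 1 d0 ∈ L :=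
    Subgroup.subset_closure (by simp)
  have hirr : ∀ k : ℕ, 0 < k → k ≤ q → (((μ ^ q)⁻¹) ^ q * ζ) ^ k ≠ 1 := by
    intro k hk hkq
    rw [hζ]
    exact three_irr hF hq μ hμ0 hord k hk hkq
  have hν0 : ((μ ^ q)⁻¹) ^ q * ζ ≠ 0 := by
    rw [hζ]
    exact mul_ne_zero (pow_ne_zero _ (inv_ne_zero hμq0)) (mul_ne_zero hμq0 (inv_ne_zero hμ0))
  -- the commutation of the two tori
  have hcomm : h3 * (wl hF _ _ huu hff κ hκ * h3 * (wl hF _ _ huu hff κ hκ)⁻¹) =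
      (wl hF _ _ huu hff κ hκ * h3 * (wl hF _ _ huu hff κ hκ)⁻¹) * h3 := by
    have s1 : Sc h3 (up (ev C 2 0)) := ⟨_, h3u⟩
    have s2 : Sc h3 (up (fv C 2 0)) := ⟨_, h3f⟩
    have s3 : Sc h3 (wv F 2) := ⟨_, h3w⟩
    have t1 := s1.conj (wl hF _ _ huu hff κ hκ)
    have t2 := s2.conj (wl hF _ _ huu hff κ hκ)
    have t3 := s3.conj (wl hF _ _ huu hff κ hκ)
    rw [hcu] at t1
    rw [hcf] at t2
    rw [hcw] at t3
    exact ext_frame3 C hF (comm_of_Sc s3 t3) (comm_of_Sc s1 (t2.of_smul κ hκ0))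
      (comm_of_Sc s2 (t1.of_smul _ (neg_ne_zero.mpr (inv_ne_zero hκ0))))
  obtain ⟨hcL, hEL⟩ := heis_trick hF
    (E := fun t d => hsT hF (up (ev C 2 0)) (wv F 2) huu huw hww t d)
    (E' := fun t d => hsT hF ((-κ⁻¹) • up (fv C 2 0)) (wv F 2) hf'f' hf'w hww t d)
    (h := h3) (c := wl hF _ _ huu hff κ hκ)
    (α := μ ^ q * ζ) (ν := ((μ ^ q)⁻¹) ^ q * ζ)
    (fun t d t' d' hd hd' => hsT_mul hF _ _ hf'f' hf'w hww t d t' d' hd hd')
    (fun t d hd => conj_hsT hF _ _ _ _ _ huu huw hww hf'f' hf'w hww hcu hcw t d hd)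
    (fun t d hd => conj_hsT_scale hF _ _ _ μ ζ huu huw hww h3u h3w hζζ t d hd)
    (fun t d hd => conj_hsT_scale hF _ _ _ (μ ^ q)⁻¹ ζ hf'f' hf'w hww
      (by rw [av_smul, h3f, smul_comm]) h3w hζζ t d hd)
    hcomm
    (by rw [hζ]; exact three_alpha_ne hq μ hμ0 hord)
    (by have := hirr 1 (by omega) (q_pos hF); rwa [pow_one] at this)
    (irr_of_order hF _ hν0 hirr) 1 d0 hP1 one_ne_zero L hhL hyL
  -- the frame vectors
  have hXu : XL L (up (ev C 2 0)) :=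
    hsT_center_XL hF _ _ huu huw hww L (fun d hd => (hEL 0 d hd).1)
  have hXf : XL L (up (fv C 2 0)) := by
    have h1 : XL L ((-κ⁻¹) • up (fv C 2 0)) :=
      hsT_center_XL hF _ _ hf'f' hf'w hww L (fun d hd => (hEL 0 d hd).2)
    have h2 := h1.smul hF (-κ)
    rw [smul_smul] at h2
    have e : -κ * -κ⁻¹ = 1 := by
      field_simp
    rwa [e, one_smul] at h2
  have hWH : WH C (2 + 1) 1 1 L := by
    refine ⟨?_, ?_, ?_⟩
    · intro i hi
      obtain rfl : i = 0 := by omega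
      have e1 := up_ev C 2 0
      have e2 := up_fv C 2 0
      rw [e1] at hXu
      rw [e2] at hXf
      exact ⟨hXu, hXf⟩
    · intro i hi
      omega
    · intro i hi
      omega
  have hxw := hXf.map _ (hEL 1 d0 hP1).1
  have hxw0 : av (hsT hF (up (ev C 2 0)) (wv F 2) huu huw hww 1 d0) (up (fv C 2 0)) 0 ≠ 0 := by
    rw [av_hsT hF _ _ huu huw hww 1 d0 hP1, hfu, hfw]
    simp [up, wv]
  have hall := W_odd C hF 1 (by omega) 2 (by omega) L hWH _ hxw hxw0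
  exact top_of_forall hF (by omega) (by omega) L hall

end three

end Cfsg.Agent.Lib.Helper9.SUGen
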