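import Mathlib
import Cfsg.Agent.Lib.Helper9.SUGenI

/-!
# Regular unipotent generation of `SU_n(q)`, `n` odd: definitions

An abstract hyperbolic frame `Frm` (vectors `e i`, `f i`, `w`; the vectors of index `≥ m` are junk
satisfying the same orthogonality relations), the regular unipotent element `uh`, and the
conjugating elements used in the three-generator designs.
-/

set_option autoImplicit false

namespace Cfsg.Agent.Lib.Helper9.SURU

open Matrix Cfsg.Agent.Lib.Helper6 Cfsg.Agent.S0779 Cfsg.Agent.S0781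
open Cfsg.Agent.Lib.Helper6.SUG Cfsg.Agent.Lib.Helper13 Cfsg.Agent.Lib.Helper9.SUGen

/-- an abstract hyperbolic frame with `m` hyperbolic pairs and one anisotropic vector -/
structure Frm (F : Type*) [Field F] (q n m : ℕ) where
  e : ℕ → Fin n → F
  f : ℕ → Fin n → F
  w : Fin n → F
  hee : ∀ i j, Cfsg.hermForm n F q (e i) (e j) = 0
  hff : ∀ i j, Cfsg.hermForm n F q (f i) (f j) = 0
  hef : ∀ i j, Cfsg.hermForm n F q (e i) (f j) = if i = j ∧ i < m then 1 else 0
  hew : ∀ i, Cfsg.hermForm n F q (e i) w = 0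
  hfw : ∀ i, Cfsg.hermForm n F q (f i) w = 0
  hww : Cfsg.hermForm n F q w w = 1
  e_junk : ∀ i, m ≤ i → e i = 0
  f_junk : ∀ i, m ≤ i → f i = 0

section frm
set_option linter.unusedSectionVars false

variable {F : Type*} [Field F] [Fintype F] {q n m : ℕ}

local notation "hh" => Cfsg.hermForm n F q

theorem Frm.hfe (hF : Fintype.card F = q ^ 2) (𝔉 : Frm F q n m) (i j : ℕ) :
    hh (𝔉.f i) (𝔉.e j) = if i = j ∧ i < m then 1 else 0 := by
  rw [← herm_conj hF, 𝔉.hef j i]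
  by_cases h : i = j ∧ i < m
  · obtain ⟨rfl, h2⟩ := h
    simp [h2]
  · have h' : ¬ (j = i ∧ j < m) := by
      rintro ⟨rfl, h2⟩
      exact h ⟨rfl, h2⟩
    rw [if_neg h, if_neg h', zero_pow (q_pos hF).ne']

theorem Frm.hwe (hF : Fintype.card F = q ^ 2) (𝔉 : Frm F q n m) (i : ℕ) :
    hh 𝔉.w (𝔉.e i) = 0 := herm_swap_zero hF (𝔉.hew i)

theorem Frm.hwf (hF : Fintype.card F = q ^ 2) (𝔉 : Frm F q n m) (i : ℕ) :
    hh 𝔉.w (𝔉.f i) = 0 := herm_swap_zero hF (𝔉.hfw i)

theorem Frm.hef_ne (𝔉 : Frm F q n m) {i j : ℕ} (h : i ≠ j) : hh (𝔉.e i) (𝔉.f j) = 0 := by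
  rw [𝔉.hef i j, if_neg (fun h' => h h'.1)]

theorem Frm.hef_same (𝔉 : Frm F q n m) {i : ℕ} (h : i < m) : hh (𝔉.e i) (𝔉.f i) = 1 := by
  rw [𝔉.hef i i, if_pos ⟨rfl, h⟩]

variable (hF : Fintype.card F = q ^ 2) (𝔉 : Frm F q n m)

/-- the Siegel element `e i ↦ e i + e (i+1)`, `f (i+1) ↦ f (i+1) - f i` -/
def sT (i : ℕ) : ↥(Cfsg.SU n F q) :=
  sg hF (𝔉.e (i + 1)) (𝔉.f i) (𝔉.hee _ _) (𝔉.hef_ne (Nat.succ_ne_self i)) (𝔉.hff _ _) (-1)

/-- the product `sT 0 * sT 1 * ⋯ * sT (k-1)` -/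
def Dp : ℕ → ↥(Cfsg.SU n F q)
  | 0 => 1
  | (k + 1) => Dp k * sT hF 𝔉 k

/-- the Heisenberg element `f 0 ↦ f 0 + t w - d e 0`, `w ↦ w - t^q e 0` -/
noncomputable def E0 (t d : F) : ↥(Cfsg.SU n F q) :=
  hsT hF (𝔉.e 0) 𝔉.w (𝔉.hee 0 0) (𝔉.hew 0) 𝔉.hww t d

/-- the regular unipotent element -/
noncomputable def uh (t d : F) : ↥(Cfsg.SU n F q) := Dp hF 𝔉 m * E0 hF 𝔉 t d

/-- the product of the Weyl elements `e i ↦ -κ⁻¹ f i`, `f i ↦ κ e i`, `i < k` -/
def Wp (κ : F) (hκ : κ ^ q = -κ) : ℕ → ↥(Cfsg.SU n F q)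
  | 0 => 1
  | (k + 1) => Wp κ hκ k * wl hF (𝔉.e k) (𝔉.f k) (𝔉.hee k k) (𝔉.hff k k) κ hκ

open Classical in
/-- the torus element `e k ↦ d e k`, `f k ↦ d⁻¹ f k` for `d` in the fixed field -/
noncomputable def tor1 (k : ℕ) (d : F) : ↥(Cfsg.SU n F q) :=
  if h : k < m ∧ d ≠ 0 ∧ d ^ q = d then
    mkSU (Bm q 1 (d - 1) ((d ^ q)⁻¹ - 1) (𝔉.e k) (𝔉.f k))
      (by
        rw [Bm_det _ _ _ _ _ (𝔉.hef_same h.1) (by rw [𝔉.hfe hF, if_pos ⟨rfl, h.1⟩]), one_pow,
          h.2.2]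
        have := h.2.1
        field_simp
        ring)
      (by
        have hd := h.2.1
        have hdq : d ^ q ≠ 0 := pow_ne_zero _ hd
        apply Bm_pres hF 1 _ _ _ _ (𝔉.hee k k) (𝔉.hff k k) (𝔉.hef_same h.1)
          (by rw [𝔉.hfe hF, if_pos ⟨rfl, h.1⟩])
        · rw [one_pow, one_mul]
        · rw [sub_pow_q hF, one_pow]
          field_simp
          ring
        · rw [sub_pow_q hF, one_pow, inv_pow, pow_q_q hF]
          field_simp
          ring)
  else 1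

/-- the product of the torus elements `tor1 i d`, `i < k` -/
noncomputable def Tp (d : F) : ℕ → ↥(Cfsg.SU n F q)
  | 0 => 1
  | (k + 1) => Tp d k * tor1 hF 𝔉 k d

/-- the quasi-reflection `x ↦ x + (ζ - 1) h(x, w) w` preserves the form when `ζ ζ^q = 1` -/
theorem P_refl_pres (hF : Fintype.card F = q ^ 2) (w : Fin n → F) (hww : hh w w = 1) (ζ : F)
    (hζ : ζ * ζ ^ q = 1) (x y : Fin n → F) :
    hh (P q (ζ - 1) w w *ᵥ x) (P q (ζ - 1) w w *ᵥ y) = hh x y := by
  rw [P_mulVec, P_mulVec]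
  have e1 : hh w y = (hh y w) ^ q := (herm_conj hF y w).symm
  rw [herm_add_left, herm_add_right hF, herm_add_right hF, herm_smul_left, herm_smul_left,
    herm_smul_right, herm_smul_right, hww, e1, mul_pow, sub_pow_q hF, one_pow]
  linear_combination (hh x w * (hh y w) ^ q) * hζ

open Classical in
/-- the torus element `e 1 ↦ l e 1`, `f 1 ↦ (l^q)⁻¹ f 1`, `w ↦ (l^q / l) w` -/
noncomputable def torW (l : F) : ↥(Cfsg.SU n F q) :=
  if h : 1 < m ∧ l ≠ 0 then
    mkSU (Bm q 1 (l - 1) ((l ^ q)⁻¹ - 1) (𝔉.e 1) (𝔉.f 1) * P q (l ^ q / l - 1) 𝔉.w 𝔉.w)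
      (by
        have hl := h.2
        have hlq : l ^ q ≠ 0 := pow_ne_zero _ hl
        rw [det_mul, Bm_det _ _ _ _ _ (𝔉.hef_same h.1) (by rw [𝔉.hfe hF, if_pos ⟨rfl, h.1⟩]),
          P_det, one_pow, 𝔉.hww]
        field_simp
        ring)
      (by
        have hl := h.2
        have hlq : l ^ q ≠ 0 := pow_ne_zero _ hl
        intro x y
        rw [← mulVec_mulVec, ← mulVec_mulVec]
        rw [Bm_pres hF 1 _ _ _ _ (𝔉.hee 1 1) (𝔉.hff 1 1) (𝔉.hef_same h.1)
          (by rw [𝔉.hfe hF, if_pos ⟨rfl, h.1⟩])]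
        · apply P_refl_pres hF 𝔉.w 𝔉.hww
          rw [div_pow, pow_q_q hF]
          field_simp
        · rw [one_pow, one_mul]
        · rw [sub_pow_q hF, one_pow]
          field_simp
          ring
        · rw [sub_pow_q hF, one_pow, inv_pow, pow_q_q hF]
          field_simp
          ring)
  else 1

/-- the Levi twist: `e 0 ↦ (1 - l) e 0 - l e 1`, `e 1 ↦ e 0`, `f 0 ↦ -(l^q)⁻¹ f 1`,
`f 1 ↦ f 0 + ((1 - l)/l)^q f 1`, `w ↦ (l^q / l) w` -/
noncomputable def g3 (l : F) : ↥(Cfsg.SU n F q) :=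
  torW hF 𝔉 l *
    (sg hF (𝔉.e 0) (𝔉.f 1) (𝔉.hee _ _) (𝔉.hef_ne Nat.zero_ne_one) (𝔉.hff _ _) (-1) *
      sg hF (𝔉.e 1) (𝔉.f 0) (𝔉.hee _ _) (𝔉.hef_ne Nat.one_ne_zero) (𝔉.hff _ _) 1 *
      sg hF (𝔉.e 0) (𝔉.f 1) (𝔉.hee _ _) (𝔉.hef_ne Nat.zero_ne_one) (𝔉.hff _ _) (-1)) *
    sg hF (𝔉.e 1) (𝔉.f 0) (𝔉.hee _ _) (𝔉.hef_ne Nat.one_ne_zero) (𝔉.hff _ _) (-((1 - l) ^ q))

/-- the conjugating element of the third generator (large field case) -/
noncomputable def gNP (l κ : F) (hκ : κ ^ q = -κ) : ↥(Cfsg.SU n F q) :=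
  g3 hF 𝔉 l * Wp hF 𝔉 κ hκ m

/-- the second generator (large field case): conjugate of `uh` by the central Levi torus -/
noncomputable def u2 (κt t d : F) : ↥(Cfsg.SU n F q) :=
  Tp hF 𝔉 κt m * uh hF 𝔉 t d * (Tp hF 𝔉 κt m)⁻¹

/-- the third generator (large field case) -/
noncomputable def u3 (l κ : F) (hκ : κ ^ q = -κ) (t d : F) : ↥(Cfsg.SU n F q) :=
  gNP hF 𝔉 l κ hκ * uh hF 𝔉 t d * (gNP hF 𝔉 l κ hκ)⁻¹

/-- the conjugating Siegel element of the second generator (case `q = 2`):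
`f (m-1) ↦ f (m-1) + s e (m-2)`, `f (m-2) ↦ f (m-2) - s^q e (m-1)` -/
def g2 (s : F) : ↥(Cfsg.SU n F q) :=
  sg hF (𝔉.e (m - 1)) (𝔉.e (m - 2)) (𝔉.hee _ _) (𝔉.hee _ _) (𝔉.hee _ _) s

/-- the second generator (case `q = 2`) -/
noncomputable def u2' (s t d : F) : ↥(Cfsg.SU n F q) :=
  g2 hF 𝔉 s * uh hF 𝔉 t d * (g2 hF 𝔉 s)⁻¹

/-- the third generator (case `q = 2`): the opposite regular unipotent element -/
noncomputable def ulow (κ : F) (hκ : κ ^ q = -κ) (t d : F) : ↥(Cfsg.SU n F q) :=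
  Wp hF 𝔉 κ hκ m * uh hF 𝔉 t d * (Wp hF 𝔉 κ hκ m)⁻¹

end frm

section concrete
variable {F : Type*} [Field F] [Fintype F] {q : ℕ}

/-- the standard basis vector at position `k` -/
def sv (n k : ℕ) : Fin n → F := fun j => if j.val = k then 1 else 0

theorem herm_pl_sv (hF : Fintype.card F = q ^ 2) {n : ℕ} (k wp : ℕ) (hk : k + 1 < n) (a b : F)
    (h1 : k ≠ wp) (h2 : k + 1 ≠ wp) : Cfsg.hermForm n F q (pl n k a b) (sv n wp) = 0 := by
  rw [herm_pl_left k hk]
  simp [sv, h1, h2, (q_pos hF).ne']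

theorem herm_sv_sv (hF : Fintype.card F = q ^ 2) {n : ℕ} (wp : ℕ) (hwp : wp < n) :
    Cfsg.hermForm n F q (sv n wp : Fin n → F) (sv n wp) = 1 := by
  unfold Cfsg.hermForm sv
  have key : ∀ j : Fin n, (if j.val = wp then (1 : F) else 0) * (if j.val = wp then (1 : F) else 0) ^ q =
      if j = ⟨wp, hwp⟩ then 1 else 0 := by
    intro j
    by_cases h : j.val = wp
    · have : j = ⟨wp, hwp⟩ := Fin.ext h
      simp [h, this]
    · have : j ≠ ⟨wp, hwp⟩ := fun h' => h (congrArg Fin.val h')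
      simp [h, this, (q_pos hF).ne']
  simp only [key, Finset.sum_ite_eq', Finset.mem_univ, if_true]

/-- a concrete frame from plane positions `pos k` and the position `wp` of `w` -/
noncomputable def mkFrm (C : Hyp F q) (hF : Fintype.card F = q ^ 2) (n m : ℕ) (pos : ℕ → ℕ) (wp : ℕ)
    (hpos : ∀ k, k < m → pos k + 1 < n) (hwp : wp < n)
    (hsep : ∀ i j, i < m → j < m → i ≠ j → pos i + 2 ≤ pos j ∨ pos j + 2 ≤ pos i)
    (hw : ∀ i, i < m → pos i ≠ wp ∧ pos i + 1 ≠ wp) : Frm F q n m where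
  e k := if k < m then ev C n (pos k) else 0
  f k := if k < m then fv C n (pos k) else 0
  w := sv n wp
  hee := by
    intro i j
    by_cases hi : i < m
    · by_cases hj : j < m
      · rw [if_pos hi, if_pos hj]
        by_cases hij : i = j
        · subst hij
          exact herm_ev_ev C _ (hpos i hi)
        · exact herm_ev_ev_far C hF _ _ (hpos i hi) (hsep i j hi hj hij)
      · rw [if_neg hj]
        exact herm_zero_right hF _
    · rw [if_neg hi]
      exact herm_zero_left _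
  hff := by
    intro i j
    by_cases hi : i < m
    · by_cases hj : j < m
      · rw [if_pos hi, if_pos hj]
        by_cases hij : i = j
        · subst hij
          exact herm_fv_fv C _ (hpos i hi)
        · exact herm_fv_fv_far C hF _ _ (hpos i hi) (hsep i j hi hj hij)
      · rw [if_neg hj]
        exact herm_zero_right hF _
    · rw [if_neg hi]
      exact herm_zero_left _
  hef := by
    intro i j
    by_cases hi : i < m
    · by_cases hj : j < m
      · rw [if_pos hi, if_pos hj]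
        by_cases hij : i = j
        · subst hij
          rw [if_pos ⟨rfl, hi⟩]
          exact herm_ev_fv C _ (hpos i hi)
        · rw [if_neg (fun h => hij h.1)]
          exact herm_ev_fv_far C hF _ _ (hpos i hi) (hsep i j hi hj hij)
      · have hne : ¬ (i = j ∧ i < m) := by
          rintro ⟨rfl, -⟩
          exact hj hi
        rw [if_neg hj, if_neg hne]
        exact herm_zero_right hF _
    · have hne : ¬ (i = j ∧ i < m) := fun h => hi h.2
      rw [if_neg hi, if_neg hne]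
      exact herm_zero_left _
  hew := by
    intro i
    by_cases hi : i < m
    · rw [if_pos hi]
      exact herm_pl_sv hF _ _ (hpos i hi) _ _ (hw i hi).1 (hw i hi).2
    · rw [if_neg hi]
      exact herm_zero_left _
  hfw := by
    intro i
    by_cases hi : i < m
    · rw [if_pos hi]
      exact herm_pl_sv hF _ _ (hpos i hi) _ _ (hw i hi).1 (hw i hi).2
    · rw [if_neg hi]
      exact herm_zero_left _
  hww := herm_sv_sv hF wp hwp
  e_junk := by
    intro i hi
    rw [if_neg (by omega)]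
  f_junk := by
    intro i hi
    rw [if_neg (by omega)]

/-- plane positions, large field layout `[Q_{m-1}, …, Q_1, w, Q_0]` in dimension `2 m + 1` -/
def posN (m k : ℕ) : ℕ := if k = 0 then 2 * m - 1 else 2 * (m - 1 - k)

/-- plane positions, layout `[Q_{m-1}, …, Q_2, w, Q_1, Q_0]` in dimension `2 m + 1` -/
def posP (m k : ℕ) : ℕ := if k = 0 then 2 * m - 1 else if k = 1 then 2 * m - 3 else 2 * (m - 1 - k)

/-- the concrete frame, large field layout -/
noncomputable def frmN (C : Hyp F q) (hF : Fintype.card F = q ^ 2) (m : ℕ) (hm : 2 ≤ m) :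
    Frm F q (2 * m + 1) m :=
  mkFrm C hF (2 * m + 1) m (posN m) (2 * m - 2)
    (by intro k hk; unfold posN; split_ifs <;> omega) (by omega)
    (by intro i j hi hj hij; unfold posN; split_ifs <;> omega)
    (by intro i hi; unfold posN; split_ifs <;> omega)

/-- the concrete frame, layout for `q = 2` -/
noncomputable def frmP (C : Hyp F q) (hF : Fintype.card F = q ^ 2) (m : ℕ) (hm : 2 ≤ m) :
    Frm F q (2 * m + 1) m :=
  mkFrm C hF (2 * m + 1) m (posP m) (2 * m - 4)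
    (by intro k hk; unfold posP; split_ifs <;> omega) (by omega)
    (by intro i j hi hj hij; unfold posP; split_ifs <;> omega)
    (by intro i hi; unfold posP; split_ifs <;> omega)

/-- `v` vanishes on the coordinates `< c` -/
def Sup (n c : ℕ) (v : Fin n → F) : Prop := ∀ a : Fin n, a.val < c → v a = 0

/-- all isotropic vectors supported on the coordinates `≥ c` lie in `XL L` -/
def AllIso {n : ℕ} (L : Subgroup ↥(Cfsg.SU n F q)) (c : ℕ) : Prop :=
  ∀ v : Fin n → F, Sup n c v → Cfsg.hermForm n F q v v = 0 → XL L v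

end concrete

end Cfsg.Agent.Lib.Helper9.SURU
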