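import Mathlib
import Cfsg.Prelude.Def_Transfer
import Cfsg.Agent.Lib.Helper17.PResidual

set_option autoImplicit false

namespace Cfsg.Agent.Lib.Helper9

open Cfsg

section ResidualCommutator

variable {G : Type*} [Group G] {p : ℕ}

/-- If `O^p(G) = G` then every Sylow `p`-subgroup lies in the derived subgroup. -/
theorem sylow_le_commutator_of_pResidual_eq_top [Finite G] [hp : Fact p.Prime]
    (h : pResidual p G = ⊤) (S : Subgroup G) (hS : IsPGroup p S) : S ≤ commutator G := by
  classical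
  -- m = p'-part of |G|
  set m := Nat.card G / p ^ (Nat.card G).factorization p with hm
  have hcard : Nat.card G ≠ 0 := Nat.card_pos.ne'
  have hmcop : Nat.Coprime p m := Nat.coprime_ordCompl hp.out hcard
  have hmul : p ^ (Nat.card G).factorization p * m = Nat.card G :=
    Nat.ordProj_mul_ordCompl_eq_self (Nat.card G) p
  -- the hom g ↦ (g mod G')^m
  let π : G →* Abelianization G := Abelianization.of
  let φ : G →* Abelianization G := (powMonoidHom m).comp π
  have hker : pResidual p G ≤ φ.ker := by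
    unfold pResidual
    rw [Subgroup.closure_le]
    intro g hg
    rw [Set.mem_ofPred_eq] at hg
    rw [SetLike.mem_coe, MonoidHom.mem_ker]
    show (π g) ^ m = 1
    rw [← map_pow]
    have hdvd : orderOf g ∣ m := by
      have h1 : orderOf g ∣ Nat.card G := orderOf_dvd_natCard g
      rw [← hmul] at h1
      exact (Nat.Coprime.pow_right _ hg).dvd_of_dvd_mul_left h1
    rw [orderOf_dvd_iff_pow_eq_one.mp hdvd, map_one]
  rw [h] at hker
  intro s hs
  have h1 : (π s) ^ m = 1 := by
    have : s ∈ φ.ker := hker (Subgroup.mem_top s)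
    exact MonoidHom.mem_ker.mp this
  obtain ⟨k, hk⟩ := hS ⟨s, hs⟩
  have h2 : (π s) ^ (p ^ k) = 1 := by
    rw [← map_pow]
    have : s ^ p ^ k = 1 := by
      have := congrArg Subtype.val hk
      simpa using this
    rw [this, map_one]
  have h3 : orderOf (π s) ∣ Nat.gcd (p ^ k) m :=
    Nat.dvd_gcd (orderOf_dvd_of_pow_eq_one h2) (orderOf_dvd_of_pow_eq_one h1)
  have h4 : Nat.gcd (p ^ k) m = 1 := Nat.Coprime.pow_left k hmcop
  rw [h4, Nat.dvd_one, orderOf_eq_one_iff] at h3
  have : s ∈ (Abelianization.of : G →* Abelianization G).ker := MonoidHom.mem_ker.mpr h3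
  rwa [Abelianization.ker_of] at this

/-- If a Sylow `p`-subgroup lies in the derived subgroup then `O^p(G) = G`. -/
theorem pResidual_eq_top_of_sylow_le_commutator [Finite G] [hp : Fact p.Prime] (S : Sylow p G)
    (h : (S : Subgroup G) ≤ commutator G) : pResidual p G = ⊤ := by
  classical
  set N := pResidual p G with hN
  have : N.Normal := Cfsg.Agent.Lib.Helper17.pResidual_normal
  have hQ : IsPGroup p (G ⧸ N) := Cfsg.Agent.Lib.Helper17.quotient_pResidual_isPGroup
  have hsup : (S : Subgroup G) ⊔ N = ⊤ := Cfsg.Agent.Lib.Helper17.sylow_sup_pResidual S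
  have hmapS : (S : Subgroup G).map (QuotientGroup.mk' N) = ⊤ := by
    have h1 : ((S : Subgroup G) ⊔ N).map (QuotientGroup.mk' N) = ⊤ := by
      rw [hsup, ← MonoidHom.range_eq_map, MonoidHom.range_eq_top]
      exact QuotientGroup.mk'_surjective N
    rw [Subgroup.map_sup] at h1
    have h2 : N.map (QuotientGroup.mk' N) = ⊥ := by
      rw [Subgroup.map_eq_bot_iff, QuotientGroup.ker_mk']
    rw [h2, sup_bot_eq] at h1
    exact h1
  have hcomm : commutator (G ⧸ N) = ⊤ := by
    rw [eq_top_iff, ← hmapS]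
    refine le_trans (Subgroup.map_mono h) ?_
    rw [commutator_def, Subgroup.map_commutator, commutator_def]
    exact Subgroup.commutator_mono le_top le_top
  have : Group.IsNilpotent (G ⧸ N) := hQ.isNilpotent
  by_contra hne
  have : Nontrivial (G ⧸ N) := by
    rw [QuotientGroup.nontrivial_iff]  
    exact hne
  exact (Group.IsSolvable.commutator_lt_top_of_nontrivial (G ⧸ N)).ne hcomm

theorem pResidual_eq_top_iff_sylow_le_commutator [Finite G] [Fact p.Prime] (S : Sylow p G) :
    pResidual p G = ⊤ ↔ (S : Subgroup G) ≤ commutator G :=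
  ⟨fun h => sylow_le_commutator_of_pResidual_eq_top h S S.2,
   pResidual_eq_top_of_sylow_le_commutator S⟩

end ResidualCommutator

end Cfsg.Agent.Lib.Helper9

namespace Cfsg.Agent.Lib.Helper9

section TransferControl

variable {G : Type*} [Group G] {H : Subgroup G} {A : Type*} [CommGroup A]

/-- If `ϕ : H →* A` does not distinguish `g ^ m` from its `G`-conjugates lying in `H`, then the
transfer of `g ∈ H` is `ϕ g ^ |G : H|`. -/
theorem transfer_eq_pow_of_control [H.FiniteIndex] (ϕ : H →* A) (g : H)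
    (hctrl : ∀ (m : ℕ) (a : G) (h : a⁻¹ * (g : G) ^ m * a ∈ H),
      ϕ ⟨a⁻¹ * (g : G) ^ m * a, h⟩ = ϕ (g ^ m)) :
    MonoidHom.transfer ϕ (g : G) = ϕ g ^ H.index := by
  classical
  have : Fintype (Quotient (MulAction.orbitRel (Subgroup.zpowers (g : G)) (G ⧸ H))) :=
    Fintype.ofFinite _
  rw [Subgroup.index_eq_sum_minimalPeriod H (g : G), ← Finset.prod_pow_eq_pow_sum,
    MonoidHom.transfer_eq_prod_quotient_orbitRel_zpowers_quot]
  apply Finset.prod_congr rfl
  intro q _
  rw [hctrl, map_pow]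

end TransferControl

end Cfsg.Agent.Lib.Helper9

namespace Cfsg.Agent.Lib.Helper9

section ControlPFusion

open Cfsg
open scoped IsMulCommutative

/-- In a `p`-group, `x ^ n = 1` with `n` prime to `p` forces `x = 1`. -/
theorem eq_one_of_pow_eq_one_of_isPGroup {A : Type*} [Group A] {p : ℕ} (hA : IsPGroup p A)
    {x : A} {n : ℕ} (hn : Nat.Coprime p n) (hx : x ^ n = 1) : x = 1 := by
  obtain ⟨k, hk⟩ := hA x
  have h3 : orderOf x ∣ Nat.gcd (p ^ k) n :=
    Nat.dvd_gcd (orderOf_dvd_of_pow_eq_one hk) (orderOf_dvd_of_pow_eq_one hx)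
  have h4 : Nat.gcd (p ^ k) n = 1 := Nat.Coprime.pow_left k hn
  rw [h4, Nat.dvd_one, orderOf_eq_one_iff] at h3
  exact h3

variable {G : Type*} [Group G] {p : ℕ}

/-- `O^p(H) H'` maps into `O^p(G) G'`. -/
theorem map_pResidual_sup_commutator_le (H : Subgroup G) :
    (pResidual p ↥H ⊔ commutator ↥H).map H.subtype ≤ (pResidual p G ⊔ commutator G) ⊓ H := by
  refine le_inf ?_ (Subgroup.map_subtype_le _)
  rw [Subgroup.map_sup]
  refine sup_le_sup ?_ ?_
  · rw [Cfsg.Agent.Lib.Helper17.map_subtype_pResidual]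
    unfold pResidual
    exact Subgroup.closure_mono (fun x hx => hx.2)
  · rw [Subgroup.map_subtype_commutator, commutator_def]
    exact Subgroup.commutator_mono le_top le_top

/-- **S1242**: if `H` has index prime to `p` and controls fusion of its `p`-elements, then
`(O^p(G) G') ∩ H = O^p(H) H'`. -/
theorem pResidual_sup_commutator_inf_eq [Finite G] [hp : Fact p.Prime] (H : Subgroup G)
    (hidx : Nat.Coprime p H.index)
    (hfus : ∀ g ∈ H, (∃ k : ℕ, orderOf g = p ^ k) → ∀ a : G, a * g * a⁻¹ ∈ H →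
      ∃ h ∈ H, h * g * h⁻¹ = a * g * a⁻¹) :
    (pResidual p G ⊔ commutator G) ⊓ H = (pResidual p ↥H ⊔ commutator ↥H).map H.subtype := by
  classical
  refine le_antisymm ?_ (map_pResidual_sup_commutator_le H)
  set NH : Subgroup H := pResidual p ↥H ⊔ commutator ↥H with hNH
  have hRn : (pResidual p ↥H).Normal := Cfsg.Agent.Lib.Helper17.pResidual_normal
  have hNn : NH.Normal := Subgroup.sup_normal _ _
  have hcomm : IsMulCommutative (H ⧸ NH) :=
    Subgroup.Normal.quotient_commutative_iff_commutator_le.mpr le_sup_right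
  have hA : IsPGroup p (H ⧸ NH) := by
    intro x
    induction x using QuotientGroup.induction_on with
    | H h =>
      obtain ⟨k, hk⟩ := Cfsg.Agent.Lib.Helper17.exists_pow_mem_pResidual (p := p) h
      refine ⟨k, ?_⟩
      rw [← QuotientGroup.mk_pow]
      exact (QuotientGroup.eq_one_iff _).mpr (le_sup_left (a := pResidual p ↥H) hk)
  let ϕ : H →* H ⧸ NH := QuotientGroup.mk' NH
  let V : G →* H ⧸ NH := MonoidHom.transfer ϕ
  -- V kills O^p(G) G'
  have hVker : pResidual p G ⊔ commutator G ≤ V.ker := by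
    refine sup_le ?_ (Abelianization.commutator_subset_ker V)
    unfold pResidual
    rw [Subgroup.closure_le]
    intro g hg
    rw [Set.mem_ofPred_eq] at hg
    rw [SetLike.mem_coe, MonoidHom.mem_ker]
    apply eq_one_of_pow_eq_one_of_isPGroup hA (n := orderOf g) hg.symm
    rw [← map_pow, pow_orderOf_eq_one, map_one]
  rintro y ⟨hyN, hyH⟩
  rw [SetLike.mem_coe] at hyN hyH
  have ho : orderOf y ≠ 0 := (orderOf_pos y).ne'
  obtain ⟨e, m, hm, hom⟩ := Nat.exists_eq_pow_mul_and_not_dvd ho p hp.out.ne_one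
  have hmcop : Nat.Coprime p m := (Nat.Prime.coprime_iff_not_dvd hp.out).mpr hm
  -- the `p`-part `y ^ m`
  have hpow : ∀ n : ℕ, ∃ k : ℕ, orderOf ((y ^ m) ^ n) = p ^ k := by
    intro n
    have h1 : ((y ^ m) ^ n) ^ (p ^ e) = 1 := by
      rw [← pow_mul, ← pow_mul, show m * (n * p ^ e) = (p ^ e * m) * n by ring, ← hom, pow_mul,
        pow_orderOf_eq_one, one_pow]
    obtain ⟨j, -, hj⟩ := (Nat.dvd_prime_pow hp.out).mp (orderOf_dvd_of_pow_eq_one h1)
    exact ⟨j, hj⟩
  have hymH : y ^ m ∈ H := H.pow_mem hyH m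
  have hVy := transfer_eq_pow_of_control ϕ ⟨y ^ m, hymH⟩ (by
    intro n a h
    have hgH : (y ^ m) ^ n ∈ H := H.pow_mem hymH n
    obtain ⟨c, hcH, hc⟩ := hfus ((y ^ m) ^ n) hgH (hpow n) a⁻¹ (by simpa using h)
    have e1 : (⟨a⁻¹ * ((⟨y ^ m, hymH⟩ : H) : G) ^ n * a, h⟩ : H) =
        ⟨c, hcH⟩ * (⟨y ^ m, hymH⟩ ^ n) * ⟨c, hcH⟩⁻¹ := by
      apply Subtype.ext
      simp only [Subgroup.coe_mul, Subgroup.coe_pow, Subgroup.coe_inv]
      rw [hc]; simp
    rw [e1, map_mul, map_mul, map_inv, mul_comm, ← mul_assoc, inv_mul_cancel, one_mul])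
  have hV1 : V (y ^ m) = 1 :=
    MonoidHom.mem_ker.mp (hVker (Subgroup.pow_mem _ hyN m))
  have h2 : ϕ ⟨y ^ m, hymH⟩ = 1 := by
    apply eq_one_of_pow_eq_one_of_isPGroup hA hidx
    rw [← hVy]; exact hV1
  have h3 : ϕ ⟨y, hyH⟩ = 1 := by
    apply eq_one_of_pow_eq_one_of_isPGroup hA hmcop
    rw [← map_pow]
    exact h2
  have h4 : (⟨y, hyH⟩ : H) ∈ NH := (QuotientGroup.eq_one_iff _).mp h3
  exact ⟨⟨y, hyH⟩, h4, rfl⟩

end ControlPFusion

end Cfsg.Agent.Lib.Helper9
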