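import Mathlib
import Cfsg.Prelude.Def_Transfer
import Cfsg.Prelude.Def_TwoFusion
import Cfsg.Agent.Lib.Helper9.Isolated
import Cfsg.Agent.Lib.Helper9.Transfer

set_option autoImplicit false

namespace Cfsg.Agent.Lib.Helper9

open Cfsg
open scoped commutatorElement

variable {G : Type*} [Group G]

/-- An isolated involution lying in a `2`-subgroup is central in it. -/
theorem isolated_comm_of_isPGroup [Finite G] {z : G} (hz : Cfsg.IsIsolatedInvolution z)
    {S : Subgroup G} (hS : IsPGroup 2 S) (hzS : z ∈ S) {s : G} (hs : s ∈ S) :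
    s * z * s⁻¹ = z := by
  set t := s * z * s⁻¹ with ht
  have htS : t ∈ S := S.mul_mem (S.mul_mem hs hzS) (S.inv_mem hs)
  have hodd := isolated_odd_orderOf_mul_conj hz s
  obtain ⟨k, hk⟩ := hS ⟨z * t, S.mul_mem hzS htS⟩
  have hk' : (z * t) ^ 2 ^ k = 1 := by
    have := congrArg Subtype.val hk
    simpa using this
  have h1 : orderOf (z * t) ∣ 2 ^ k := orderOf_dvd_of_pow_eq_one hk'
  have h2 : orderOf (z * t) = 1 := by
    have hc : Nat.Coprime (orderOf (z * t)) (2 ^ k) :=
      Nat.Coprime.pow_right k (Nat.coprime_two_right.mpr hodd)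
    exact Nat.Coprime.eq_one_of_dvd hc h1
  rw [orderOf_eq_one_iff] at h2
  have hzz := isolated_sq hz
  calc t = z * z * t := by rw [hzz, one_mul]
    _ = z * (z * t) := by group
    _ = z := by rw [h2, mul_one]

/-- Control of fusion by the centralizer of an isolated involution: if `x` and `u x u⁻¹`
both lie in a `2`-subgroup `S` containing the isolated involution `z`, then they are
conjugate under `C_G(z)`. -/
theorem isolated_control_fusion [Finite G] {z : G} (hz : Cfsg.IsIsolatedInvolution z)
    {S : Subgroup G} (hS : IsPGroup 2 S) (hzS : z ∈ S) {x u : G} (hx : x ∈ S)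
    (hxu : u * x * u⁻¹ ∈ S) :
    ∃ n ∈ Subgroup.centralizer ({z} : Set G), n * x * n⁻¹ = u * x * u⁻¹ := by
  set y := u * x * u⁻¹ with hy
  have hzy : y * z * y⁻¹ = z := isolated_comm_of_isPGroup hz hS hzS hxu
  have hzx : x * z * x⁻¹ = z := isolated_comm_of_isPGroup hz hS hzS hx
  have hzy' : y * z = z * y := by
    calc y * z = (y * z * y⁻¹) * y := by group
      _ = z * y := by rw [hzy]
  have hzx' : x * z = z * x := by
    calc x * z = (x * z * x⁻¹) * x := by group
      _ = z * x := by rw [hzx]
  set z' := u * z * u⁻¹ with hz'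
  have hz'y : y * z' = z' * y := by
    calc y * z' = u * (x * z) * u⁻¹ := by rw [hy, hz']; group
      _ = u * (z * x) * u⁻¹ := by rw [hzx']
      _ = z' * y := by rw [hy, hz']; group
  obtain ⟨k, hk⟩ := isolated_conj_pow hz u
  set w := (z * z') ^ k with hw
  have hwy : y * w = w * y := by
    have hc : Commute y (z * z') := (show Commute y z from hzy').mul_right (show Commute y z' from hz'y)
    exact (hc.pow_right k)
  have hn := mem_centralizer_singleton_of_conj_eq (z := z) (g := w) (k := u) hk.symm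
  refine ⟨w⁻¹ * u, hn, ?_⟩
  calc w⁻¹ * u * x * (w⁻¹ * u)⁻¹ = w⁻¹ * y * w := by rw [hy]; group
    _ = w⁻¹ * (y * w) := by group
    _ = w⁻¹ * (w * y) := by rw [hwy]
    _ = y := by group

/-- For `S` a Sylow `2`-subgroup containing an isolated involution `z`, `S ∩ G' ≤ C_G(z)'`. -/
theorem isolated_sylow_inf_commutator_le [Finite G] {z : G} (hz : Cfsg.IsIsolatedInvolution z)
    (S : Sylow 2 G) (hzS : z ∈ S) :
    commutator G ⊓ (S : Subgroup G) ≤
      ⁅Subgroup.centralizer ({z} : Set G), Subgroup.centralizer ({z} : Set G)⁆ := by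
  rw [Subgroup.commutator_inf_eq_focalSubgroup, Subgroup.focalSubgroup_def, Subgroup.closure_le]
  rintro g ⟨hgS, x, hxS, u, rfl⟩
  have hxu : u * x * u⁻¹ ∈ (S : Subgroup G) := by
    have h1 : u * x * u⁻¹ = (x⁻¹ * ⁅x, u⁆)⁻¹ := by
      rw [commutatorElement_def]; group
    rw [h1]
    exact Subgroup.inv_mem _ (Subgroup.mul_mem _ (Subgroup.inv_mem _ hxS) hgS)
  obtain ⟨n, hn, hnx⟩ := isolated_control_fusion hz S.2 hzS hxS hxu
  have hxC : x ∈ Subgroup.centralizer ({z} : Set G) := by
    rw [Subgroup.mem_centralizer_iff]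
    intro y hy
    rw [Set.mem_singleton_iff] at hy
    subst hy
    have := isolated_comm_of_isPGroup hz S.2 hzS hxS
    calc y * x = (x * y * x⁻¹) * x := by rw [this]
      _ = x * y := by group
  have : ⁅x, u⁆ = ⁅x, n⁆ := by
    rw [commutatorElement_def, commutatorElement_def]
    calc x * u * x⁻¹ * u⁻¹ = x * (u * x * u⁻¹)⁻¹ := by group
      _ = x * (n * x * n⁻¹)⁻¹ := by rw [hnx]
      _ = x * n * x⁻¹ * n⁻¹ := by group
  rw [SetLike.mem_coe, this]
  exact Subgroup.commutator_mem_commutator hxC hn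

/-- **S1183**: for an isolated involution `z`, `O^2(G) = G` iff `O^2(C_G(z)) = C_G(z)`. -/
theorem isolated_pResidual_eq_top_iff [Finite G] {z : G} (hz : Cfsg.IsIsolatedInvolution z) :
    Cfsg.pResidual 2 G = ⊤ ↔
      Cfsg.pResidual 2 ↥(Subgroup.centralizer ({z} : Set G)) = ⊤ := by
  classical
  have : Fact (Nat.Prime 2) := ⟨Nat.prime_two⟩
  set C := Subgroup.centralizer ({z} : Set G) with hC
  -- a Sylow 2-subgroup containing z
  have hzp : IsPGroup 2 (Subgroup.zpowers z) := by
    apply IsPGroup.of_card (n := 1)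
    rw [Nat.card_zpowers, hz.1, pow_one]
  obtain ⟨S, hS⟩ := hzp.exists_le_sylow
  have hzS : z ∈ S := hS (Subgroup.mem_zpowers z)
  have hSC : (S : Subgroup G) ≤ C := by
    intro s hs
    rw [hC, Subgroup.mem_centralizer_iff]
    intro y hy
    rw [Set.mem_singleton_iff] at hy
    subst hy
    have := isolated_comm_of_isPGroup hz S.2 hzS hs
    calc y * s = (s * y * s⁻¹) * s := by rw [this]
      _ = s * y := by group
  rw [pResidual_eq_top_iff_sylow_le_commutator S,
    pResidual_eq_top_iff_sylow_le_commutator (S.subtype hSC)]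
  have key : (S : Subgroup G) ≤ commutator G ↔ (S : Subgroup G) ≤ ⁅C, C⁆ := by
    constructor
    · intro h
      refine le_trans ?_ (isolated_sylow_inf_commutator_le hz S hzS)
      exact le_inf h le_rfl
    · intro h
      refine le_trans h ?_
      rw [commutator_def]
      exact Subgroup.commutator_mono le_top le_top
  rw [key, Sylow.coe_subtype, ← Subgroup.map_subtype_commutator,
    ← Subgroup.map_le_map_iff_of_injective (Subgroup.subtype_injective C),
    Subgroup.subgroupOf_map_subtype, inf_eq_left.mpr hSC]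

end Cfsg.Agent.Lib.Helper9
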