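import Mathlib
import Cfsg.Prelude.Def_TwoFusion
import Cfsg.Prelude.Def_Local
import Cfsg.Agent.Lib.Helper9.Isolated
import Cfsg.Agent.Lib.Helper9.Isolated2
import Cfsg.Agent.Lib.Helper1.Cores
import Cfsg.Agent.Lib.Helper10.PComponent
import Cfsg.Agent.Lib.Helper10.UniqueOrderP
import Cfsg.Agent.Lib.Helper7.NormalComplement
import Cfsg.Agent.Lib.Helper17.ZStarMin

/-!
Assembly of Glauberman's `Z*`-theorem from
* the Brauer–Suzuki theorem (as a hypothesis `BrauerSuzukiHyp`), and
* the character-theoretic core step (as a hypothesis `ZStarCoreHyp`),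
by induction on the order of the group.
-/

set_option autoImplicit false

namespace Cfsg.Agent.Lib.Helper9

open Cfsg Cfsg.Agent.Lib.Helper1

universe u

/-- The Brauer–Suzuki statement for all finite groups in universe `u`. -/
def BrauerSuzukiHyp : Prop :=
  ∀ (H : Type u) [Group H] [Finite H] (S : Sylow 2 H) (n : ℕ),
    Nonempty ((S : Subgroup H) ≃* QuaternionGroup (2 ^ (n + 1))) →
    (∀ N : Subgroup H, N.Normal → Odd (Nat.card N) → N = ⊥) →
    Nat.card (Subgroup.center H) = 2

/-- The character-theoretic core step of the `Z*`-theorem for all finite groups in universe `u`. -/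
def ZStarCoreHyp : Prop :=
  ∀ (G : Type u) [Group G] [Finite G] (t s : G), IsIsolatedInvolution t → orderOf s = 2 →
    Commute t s → s ≠ t →
    (∀ h ∈ Subgroup.centralizer ({t * s} : Set G),
      t * h * t⁻¹ * h⁻¹ ∈ centralizerPPrimeCore 2 (t * s)) →
    (∀ h ∈ Subgroup.centralizer ({s} : Set G),
      t * h * t⁻¹ * h⁻¹ ∈ centralizerPPrimeCore 2 s) →
    Subgroup.normalClosure ({t} : Set G) = ⊤ → False

section basic

variable {G : Type*} [Group G]

/-- The image of an isolated involution `t` in a quotient `G ⧸ N` with `t ∉ N` is isolated. -/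
theorem isolated_quotient [Finite G] {t : G} (ht : IsIsolatedInvolution t)
    (N : Subgroup G) [N.Normal] (htN : t ∉ N) :
    IsIsolatedInvolution (QuotientGroup.mk t : G ⧸ N) := by
  have htt := isolated_sq ht
  have h2 : Fact (Nat.Prime 2) := ⟨Nat.prime_two⟩
  constructor
  · apply orderOf_eq_prime
    · rw [pow_two, ← QuotientGroup.mk_mul, htt]; rfl
    · intro h
      exact htN ((QuotientGroup.eq_one_iff t).mp h)
  · intro gbar hc
    obtain ⟨g, rfl⟩ := QuotientGroup.mk_surjective gbar
    set t' := g * t * g⁻¹ with ht'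
    have hodd := isolated_odd_orderOf_mul_conj ht g
    rw [← ht'] at hodd
    have hc' : Commute (QuotientGroup.mk t : G ⧸ N) (QuotientGroup.mk t' : G ⧸ N) := by
      simpa [ht'] using hc
    have ht't' : t' * t' = 1 := conj_sq htt g
    have hsq : (QuotientGroup.mk (t * t') : G ⧸ N) ^ 2 = 1 := by
      rw [QuotientGroup.mk_mul, hc'.mul_pow, pow_two, pow_two, ← QuotientGroup.mk_mul,
        ← QuotientGroup.mk_mul, htt, ht't']
      simp
    have hd1 : orderOf (QuotientGroup.mk (t * t') : G ⧸ N) ∣ 2 := orderOf_dvd_of_pow_eq_one hsq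
    have hd2 : orderOf (QuotientGroup.mk (t * t') : G ⧸ N) ∣ orderOf (t * t') :=
      orderOf_dvd_of_pow_eq_one (by
        rw [← QuotientGroup.mk_pow, pow_orderOf_eq_one]; rfl)
    have h1 : orderOf (QuotientGroup.mk (t * t') : G ⧸ N) = 1 := by
      have hco : Nat.Coprime (orderOf (t * t')) 2 := Nat.coprime_two_right.mpr hodd
      exact Nat.eq_one_of_dvd_coprimes hco hd2 hd1
    rw [orderOf_eq_one_iff, QuotientGroup.mk_mul] at h1
    have h3 : (QuotientGroup.mk t' : G ⧸ N) = (QuotientGroup.mk t : G ⧸ N)⁻¹ :=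
      (eq_inv_of_mul_eq_one_right h1)
    have h4 : (QuotientGroup.mk t : G ⧸ N)⁻¹ = QuotientGroup.mk t := by
      rw [← QuotientGroup.mk_inv, inv_eq_self_of_sq htt]
    have h5 : (QuotientGroup.mk g : G ⧸ N) * QuotientGroup.mk t * (QuotientGroup.mk g)⁻¹ =
        QuotientGroup.mk t' := by
      rw [ht']; simp
    rw [h5, h3, h4]

/-- An isolated involution is isolated in every subgroup containing it. -/
theorem isolated_subgroup {t : G} (ht : IsIsolatedInvolution t) (H : Subgroup G) (htH : t ∈ H) :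
    IsIsolatedInvolution (⟨t, htH⟩ : ↥H) := by
  constructor
  · rw [Subgroup.orderOf_mk]; exact ht.1
  · intro g hc
    apply Subtype.ext
    have := ht.2 (g : G) (by
      have h1 := congrArg Subtype.val hc.eq
      simpa [Commute, SemiconjBy] using h1)
    simpa using this

/-- An involution of a Sylow `2`-subgroup `P` that is weakly closed in `P` is isolated. -/
theorem isolated_of_weakly_closed [Finite G] (P : Sylow 2 G) {t : G} (ht2 : orderOf t = 2)
    (htP : t ∈ P) (hiso : ∀ g : G, g * t * g⁻¹ ∈ P → g * t * g⁻¹ = t) :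
    IsIsolatedInvolution t := by
  have h2 : Fact (Nat.Prime 2) := ⟨Nat.prime_two⟩
  refine ⟨ht2, ?_⟩
  intro g hc
  set t' := g * t * g⁻¹ with ht'
  have htt : t * t = 1 := by
    have := pow_orderOf_eq_one t
    rwa [ht2, pow_two] at this
  have ht't' : t' * t' = 1 := conj_sq htt g
  -- the subgroup generated by `t` and `t'` is a 2-group
  have hQ : IsPGroup 2 (Subgroup.closure ({t, t'} : Set G)) := by
    have hcomm : ∀ x ∈ ({t, t'} : Set G), ∀ y ∈ ({t, t'} : Set G), x * y = y * x := by
      intro x hx y hy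
      rcases hx with rfl | rfl <;> rcases hy with rfl | rfl
      · rfl
      · exact hc.eq
      · exact hc.eq.symm
      · rfl
    have hcl : IsMulCommutative (Subgroup.closure ({t, t'} : Set G)) :=
      Subgroup.isMulCommutative_closure hcomm
    have key : ∀ y ∈ Subgroup.closure ({t, t'} : Set G), y ^ 2 = 1 := by
      intro y hy
      induction hy using Subgroup.closure_induction with
      | mem y hy =>
        rcases hy with rfl | rfl
        · rw [pow_two, htt]
        · rw [pow_two, ht't']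
      | one => simp
      | mul a b ha hb iha ihb =>
        have hab : Commute a b := by
          have := hcl.is_comm.comm (⟨a, ha⟩ : Subgroup.closure ({t, t'} : Set G)) ⟨b, hb⟩
          exact congrArg Subtype.val this
        rw [hab.mul_pow, iha, ihb, one_mul]
      | inv a ha iha => rw [inv_pow, iha, inv_one]
    intro x
    refine ⟨1, ?_⟩
    apply Subtype.ext
    rw [pow_one, Subgroup.coe_pow, Subgroup.coe_one]
    exact key x x.2
  obtain ⟨S, hS⟩ := hQ.exists_le_sylow
  obtain ⟨x, hx⟩ := MulAction.exists_smul_eq G S P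
  have hmem : ∀ y ∈ (S : Subgroup G), x * y * x⁻¹ ∈ (P : Subgroup G) := by
    intro y hy
    rw [← hx]
    exact ⟨y, hy, rfl⟩
  have h1 : x * t * x⁻¹ = t :=
    hiso x (hmem t (hS (Subgroup.subset_closure (by simp))))
  have h3 : x * t' * x⁻¹ ∈ (P : Subgroup G) :=
    hmem t' (hS (Subgroup.subset_closure (by simp)))
  have h4 : x * t' * x⁻¹ = (x * g) * t * (x * g)⁻¹ := by rw [ht']; group
  rw [h4] at h3
  have h5 := hiso (x * g) h3
  rw [← h4] at h5
  -- x t' x⁻¹ = t = x t x⁻¹
  have h6 : x * t' * x⁻¹ = x * t * x⁻¹ := by rw [h5, h1]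
  have h7 : t' = t := by
    have := congrArg (fun w => x⁻¹ * w * x) h6
    simpa [mul_assoc] using this
  exact h7

end basic


section main

/-- If every element of odd order of `G` is trivial, an isolated involution is central. -/
theorem isolated_central_of_no_odd {G : Type*} [Group G] [Finite G] {t : G}
    (ht : IsIsolatedInvolution t) (g : G) (h : t * (g * t * g⁻¹) = 1) : g * t * g⁻¹ = t := by
  have htt := isolated_sq ht
  have h1 : g * t * g⁻¹ = t⁻¹ := eq_inv_of_mul_eq_one_right h
  rw [h1, inv_eq_self_of_sq htt]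

/-- `H ≠ ⊤` implies `|H| < |G|`. -/
theorem card_lt_of_ne_top {G : Type*} [Group G] [Finite G] {H : Subgroup G} (h : H ≠ ⊤) :
    Nat.card H < Nat.card G := by
  by_contra hlt
  push Not at hlt
  exact h (Subgroup.eq_top_of_le_card H hlt)

/-- **Glauberman's `Z*`-theorem**, modulo the Brauer–Suzuki theorem and the core step. -/
theorem isolated_zstar_aux (hBS : BrauerSuzukiHyp.{u}) (hCore : ZStarCoreHyp.{u}) :
    ∀ n : ℕ, ∀ (G : Type u) [Group G] [Finite G], Nat.card G = n →
      ∀ t : G, IsIsolatedInvolution t → ∀ g : G, t * g * t⁻¹ * g⁻¹ ∈ pPrimeCore 2 G := by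
  intro n
  induction n using Nat.strong_induction_on with
  | _ n ih =>
  intro G _ _ hn t ht g
  subst hn
  have h2 : Fact (Nat.Prime 2) := ⟨Nat.prime_two⟩
  have IH : ∀ (H : Type u) [Group H] [Finite H], Nat.card H < Nat.card G →
      ∀ s : H, IsIsolatedInvolution s → ∀ h : H, s * h * s⁻¹ * h⁻¹ ∈ pPrimeCore 2 H :=
    fun H _ _ hlt s hs h => ih _ hlt H rfl s hs h
  have htt := isolated_sq ht
  have htinv : t⁻¹ = t := inv_eq_self_of_sq htt
  by_cases hO : pPrimeCore 2 G = ⊥
  swap
  · -- pass to `G ⧸ O(G)`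
    have hOn : (pPrimeCore 2 G).Normal := Cfsg.Agent.Lib.Helper1.pPrimeCore_normal 2
    have hlt : Nat.card (G ⧸ pPrimeCore 2 G) < Nat.card G := by
      rw [Subgroup.card_eq_card_quotient_mul_card_subgroup (pPrimeCore 2 G)]
      have h1 : 1 < Nat.card (pPrimeCore 2 G) := (Subgroup.one_lt_card_iff_ne_bot _).mpr hO
      have h0 : 0 < Nat.card (G ⧸ pPrimeCore 2 G) := Nat.card_pos
      nlinarith
    have htO : t ∉ pPrimeCore 2 G := by
      intro hmem
      have h1 := Subgroup.orderOf_dvd_natCard _ hmem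
      rw [ht.1] at h1
      have h3 := pPrimeCore_coprime (G := G) 2
      have := Nat.Coprime.eq_one_of_dvd h3.symm h1
      omega
    have h1 := IH (G ⧸ pPrimeCore 2 G) hlt _ (isolated_quotient ht _ htO) (QuotientGroup.mk g)
    rw [Cfsg.Agent.Lib.Helper10.pPrimeCore_quotient_eq_bot, Subgroup.mem_bot] at h1
    have h3 : (QuotientGroup.mk (t * g * t⁻¹ * g⁻¹) : G ⧸ pPrimeCore 2 G) = 1 := by
      simpa using h1
    exact (QuotientGroup.eq_one_iff _).mp h3
  -- now `O(G) = 1`
  suffices hcen : ∀ g : G, g * t * g⁻¹ = t by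
    have h1 : t * g * t⁻¹ * g⁻¹ = t * (g * t * g⁻¹)⁻¹ := by group
    rw [h1, hcen g, mul_inv_cancel]
    exact Subgroup.one_mem _
  have hOdd : ∀ N : Subgroup G, N.Normal → (Nat.card N).Coprime 2 → N = ⊥ := by
    intro N hN hco
    have := le_pPrimeCore hN hco
    rwa [hO, le_bot_iff] at this
  clear g
  intro g
  by_cases hz : ∃ z ∈ Subgroup.center G, orderOf z = 2
  · obtain ⟨z, hzc, hz2⟩ := hz
    by_cases hzt : z = t
    · subst hzt
      rw [Subgroup.mem_center_iff] at hzc
      rw [hzc g, mul_inv_cancel_right]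
    -- pass to `G ⧸ ⟨z⟩`
    have hzz : z ^ 2 = 1 := by rw [← hz2, pow_orderOf_eq_one]
    set N := Subgroup.zpowers z with hN
    have hNc : N ≤ Subgroup.center G := by
      rw [hN, Subgroup.zpowers_le]; exact hzc
    have hcen : ∀ u ∈ N, ∀ x : G, u * x = x * u := by
      intro u hu x
      have := Subgroup.mem_center_iff.mp (hNc hu) x
      exact this.symm
    have hNn : N.Normal := by
      constructor
      intro n hn x
      have : x * n * x⁻¹ = n := by
        rw [← hcen n hn x, mul_inv_cancel_right]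
      rw [this]; exact hn
    have hNcard : Nat.card N = 2 := by rw [hN, Nat.card_zpowers, hz2]
    have htN : t ∉ N := by
      intro hmem
      rcases Cfsg.Agent.Lib.Helper10.eq_one_or_eq_of_mem_zpowers_of_sq hzz hmem with h | h
      · exact isolated_ne_one ht h
      · exact hzt h.symm
    have hlt : Nat.card (G ⧸ N) < Nat.card G := by
      rw [Subgroup.card_eq_card_quotient_mul_card_subgroup N, hNcard]
      have h0 : 0 < Nat.card (G ⧸ N) := Nat.card_pos
      omega
    have h3 := IH (G ⧸ N) hlt _ (isolated_quotient ht N htN)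
    set M := (pPrimeCore 2 (G ⧸ N)).comap (QuotientGroup.mk' N) with hM
    have hMn : M.Normal := Subgroup.Normal.comap (Cfsg.Agent.Lib.Helper1.pPrimeCore_normal 2) _
    have hNM : N ≤ M := by
      intro u hu
      rw [hM, Subgroup.mem_comap]
      have : QuotientGroup.mk' N u = 1 := (QuotientGroup.eq_one_iff u).mpr hu
      rw [this]
      exact Subgroup.one_mem _
    have hcard : Nat.card M = Nat.card (pPrimeCore 2 (G ⧸ N)) * Nat.card N :=
      Cfsg.Agent.Lib.Helper1.card_comap_mk N _
    have hrel : N.relIndex M = Nat.card (pPrimeCore 2 (G ⧸ N)) := by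
      have h4 := Cfsg.Agent.Lib.Helper1.card_mul_relIndex_of_le hNM
      rw [hcard, mul_comm] at h4
      exact Nat.eq_of_mul_eq_mul_right Nat.card_pos h4
    have hNp : IsPGroup 2 N := by
      apply IsPGroup.of_card (n := 1)
      rw [hNcard, pow_one]
    have hTp : IsPGroup 2 (N.subgroupOf M) := hNp.comap_subtype
    have hidx : ¬ 2 ∣ (N.subgroupOf M).index := by
      change ¬ 2 ∣ N.relIndex M
      rw [hrel]
      exact (Nat.Prime.coprime_iff_not_dvd Nat.prime_two).mp (pPrimeCore_coprime 2).symm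
    let T : Sylow 2 ↥M := hTp.toSylow hidx
    have hT : (T : Subgroup ↥M) = N.subgroupOf M := rfl
    have hle : Subgroup.normalizer ((T : Subgroup ↥M) : Set ↥M) ≤
        Subgroup.centralizer ((T : Subgroup ↥M) : Set ↥M) := by
      intro m _
      rw [Subgroup.mem_centralizer_iff]
      intro y hy
      rw [SetLike.mem_coe, hT, Subgroup.mem_subgroupOf] at hy
      exact Subtype.ext (hcen _ hy _)
    obtain ⟨K, hKn, hKp, hKall⟩ :=
      Cfsg.Agent.Lib.Helper7.exists_normal_pPrime_of_normalizer_le_centralizer T hle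
    have hK1 : K ≤ pPrimeCore 2 ↥M :=
      le_pPrimeCore hKn ((Nat.Prime.coprime_iff_not_dvd Nat.prime_two).mpr hKp).symm
    have hK2 : K = ⊥ := by
      have h5 := (Subgroup.map_mono (f := M.subtype) hK1).trans
        (Cfsg.Agent.Lib.Helper17.map_pPrimeCore_le_of_normal 2 M)
      rw [hO, le_bot_iff] at h5
      exact (Subgroup.map_eq_bot_iff_of_injective _ M.subtype_injective).mp h5
    apply isolated_central_of_no_odd ht
    have hwM : t * (g * t * g⁻¹) ∈ M := by
      rw [hM, Subgroup.mem_comap]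
      have := h3 (QuotientGroup.mk g)
      have h6 : QuotientGroup.mk' N (t * (g * t * g⁻¹)) =
          (QuotientGroup.mk t : G ⧸ N) * QuotientGroup.mk g * (QuotientGroup.mk t)⁻¹ *
            (QuotientGroup.mk g)⁻¹ := by
        rw [← QuotientGroup.mk_inv, htinv]
        simp [mul_assoc]
      rw [h6]; exact this
    have hodd := isolated_odd_orderOf_mul_conj ht g
    have h7 : (⟨_, hwM⟩ : ↥M) ∈ K := by
      apply hKall
      rw [Subgroup.orderOf_mk]
      exact Nat.coprime_two_right.mpr hodd
    rw [hK2, Subgroup.mem_bot] at h7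
    exact congrArg Subtype.val h7
  -- no central involutions
  push Not at hz
  set N₀ := Subgroup.normalClosure ({t} : Set G) with hN₀
  have htN₀ : t ∈ N₀ := Subgroup.subset_normalClosure (Set.mem_singleton t)
  by_cases hNtop : N₀ = ⊤
  swap
  · have hlt : Nat.card N₀ < Nat.card G := card_lt_of_ne_top hNtop
    have h1 := IH ↥N₀ hlt _ (isolated_subgroup ht N₀ htN₀)
    have h2' := Cfsg.Agent.Lib.Helper17.map_pPrimeCore_le_of_normal 2 N₀
    rw [hO, le_bot_iff] at h2'
    apply ht.2 g
    have hg : g * t * g⁻¹ ∈ N₀ := Subgroup.normalClosure_normal.conj_mem _ htN₀ g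
    have h3 := h1 ⟨g * t * g⁻¹, hg⟩
    have h4 : ((⟨t, htN₀⟩ * ⟨g * t * g⁻¹, hg⟩ * (⟨t, htN₀⟩)⁻¹ * (⟨g * t * g⁻¹, hg⟩)⁻¹ : ↥N₀) : G) ∈
        (pPrimeCore 2 ↥N₀).map N₀.subtype := Subgroup.mem_map_of_mem _ h3
    rw [h2', Subgroup.mem_bot] at h4
    simp only [Subgroup.coe_mul, Subgroup.coe_inv] at h4
    have h5 : t * (g * t * g⁻¹) = (g * t * g⁻¹) * t := by
      have := congrArg (· * ((g * t * g⁻¹) * t)) h4
      simpa [mul_assoc] using this
    exact h5
  -- `G = ⟨t^G⟩`
  have hcentr : ∀ r : G, orderOf r = 2 → Commute t r → ∀ h ∈ Subgroup.centralizer ({r} : Set G),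
      t * h * t⁻¹ * h⁻¹ ∈ centralizerPPrimeCore 2 r := by
    intro r hr2 htr h hh
    set C := Subgroup.centralizer ({r} : Set G) with hC
    have hCtop : C ≠ ⊤ := by
      intro htop
      apply hz r _ hr2
      rw [Subgroup.mem_center_iff]
      intro x
      have hx : x ∈ C := by rw [htop]; trivial
      rw [hC, Subgroup.mem_centralizer_iff] at hx
      exact (hx r (Set.mem_singleton r)).symm
    have htC : t ∈ C := by
      rw [hC, Subgroup.mem_centralizer_iff]
      intro y hy
      rw [Set.mem_singleton_iff] at hy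
      subst hy
      exact htr.eq.symm
    have h1 := IH ↥C (card_lt_of_ne_top hCtop) _ (isolated_subgroup ht C htC) ⟨h, hh⟩
    unfold centralizerPPrimeCore
    exact ⟨_, h1, by simp⟩
  by_cases hs : ∃ s : G, orderOf s = 2 ∧ Commute t s ∧ s ≠ t
  · exfalso
    obtain ⟨s, hs2, hts, hst⟩ := hs
    have hss : s * s = 1 := by
      have := pow_orderOf_eq_one s
      rwa [hs2, pow_two] at this
    have hj2 : orderOf (t * s) = 2 := by
      apply orderOf_eq_prime
      · rw [hts.mul_pow, pow_two, pow_two, htt, hss, one_mul]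
      · intro h
        apply hst
        have h1 : s = t⁻¹ := eq_inv_of_mul_eq_one_right h
        rw [h1, htinv]
    have htj : Commute t (t * s) := (Commute.refl t).mul_right hts
    exact hCore G t s ht hs2 hts hst (hcentr (t * s) hj2 htj) (hcentr s hs2 hts) hNtop
  -- `t` is the only involution of `C_G(t)`
  push Not at hs
  have hzp : IsPGroup 2 (Subgroup.zpowers t) := by
    apply IsPGroup.of_card (n := 1)
    rw [Nat.card_zpowers, ht.1, pow_one]
  obtain ⟨S, hS⟩ := hzp.exists_le_sylow
  have htS : t ∈ S := hS (Subgroup.mem_zpowers t)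
  have hSt : ∀ x ∈ (S : Subgroup G), Commute t x := by
    intro x hx
    have := isolated_comm_of_isPGroup ht S.2 htS hx
    have h1 : x * t = t * x := by
      calc x * t = (x * t * x⁻¹) * x := by group
        _ = t * x := by rw [this]
    exact h1.symm
  have huniq : Cfsg.Agent.Lib.Helper10.UniqueOrderP 2 ↥(S : Subgroup G) := by
    have key : ∀ x : ↥(S : Subgroup G), x ^ 2 = 1 → x ≠ 1 → (x : G) = t := by
      intro x hx2 hx1
      have hxo : orderOf (x : G) = 2 := by
        rw [Subgroup.orderOf_coe]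
        exact orderOf_eq_prime hx2 hx1
      exact hs (x : G) hxo (hSt _ x.2)
    intro x y hx2 hx1 hy2
    by_cases hy1 : y = 1
    · rw [hy1]; exact Subgroup.one_mem _
    · have : y = x := Subtype.ext ((key y hy2 hy1).trans (key x hx2 hx1).symm)
      rw [this]; exact Subgroup.mem_zpowers x
  have h2G : 2 ∣ Nat.card G := by
    have := orderOf_dvd_natCard t
    rwa [ht.1] at this
  have hcyc : IsCyclic ↥(S : Subgroup G) → g * t * g⁻¹ = t := by
    intro hc
    have hle := IsCyclic.normalizer_le_centralizer ((Nat.minFac_eq_two_iff _).mpr h2G) hc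
    obtain ⟨K, hKn, hKp, hKall⟩ :=
      Cfsg.Agent.Lib.Helper7.exists_normal_pPrime_of_normalizer_le_centralizer S hle
    have hK : K = ⊥ := hOdd K hKn ((Nat.Prime.coprime_iff_not_dvd Nat.prime_two).mpr hKp).symm
    apply isolated_central_of_no_odd ht
    have hodd := isolated_odd_orderOf_mul_conj ht g
    have := hKall _ (Nat.coprime_two_right.mpr hodd)
    rwa [hK, Subgroup.mem_bot] at this
  rcases Cfsg.Agent.Lib.Helper10.isCyclic_or_quaternion_of_uniqueOrderP S.2 huniq with hc | ⟨_, n, ⟨e⟩⟩
  · exact hcyc hc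
  · rcases n with _ | n
    · apply hcyc
      have : IsCyclic (QuaternionGroup (2 ^ 0)) := by
        rw [pow_zero]; exact QuaternionGroup.quaternionGroup_one_isCyclic
      exact isCyclic_of_surjective e.symm e.symm.surjective
    · exfalso
      have hc2 := hBS G S n ⟨e⟩ (fun N hN hodd => hOdd N hN (Nat.coprime_two_right.mpr hodd))
      have h2c : 2 ∣ Nat.card (Subgroup.center G) := by rw [hc2]
      obtain ⟨z, hz2⟩ := exists_prime_orderOf_dvd_card' 2 h2c
      apply hz (z : G) z.2
      rw [Subgroup.orderOf_coe]; exact hz2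

/-- **Glauberman's `Z*`-theorem**, modulo the Brauer–Suzuki theorem and the core step. -/
theorem isolated_zstar (hBS : BrauerSuzukiHyp.{u}) (hCore : ZStarCoreHyp.{u})
    {G : Type u} [Group G] [Finite G] {t : G} (ht : IsIsolatedInvolution t) (g : G) :
    t * g * t⁻¹ * g⁻¹ ∈ pPrimeCore 2 G :=
  isolated_zstar_aux hBS hCore _ G rfl t ht g

/-- The statement of S0215, modulo the Brauer–Suzuki theorem and the core step. -/
theorem glauberman_zstar_of_hyps (hBS : BrauerSuzukiHyp.{u}) (hCore : ZStarCoreHyp.{u})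
    {G : Type u} [Group G] [Finite G] (P : Sylow 2 G) (t : G) (ht2 : orderOf t = 2)
    (htP : t ∈ P) (hiso : ∀ g : G, g * t * g⁻¹ ∈ P → g * t * g⁻¹ = t) :
    ∃ N : Subgroup G, N.Normal ∧ Odd (Nat.card N) ∧ ∀ g : G, (t * g * t⁻¹ * g⁻¹) ∈ N :=
  ⟨pPrimeCore 2 G, Cfsg.Agent.Lib.Helper1.pPrimeCore_normal 2, Nat.coprime_two_right.mp (pPrimeCore_coprime 2),
    fun g => isolated_zstar hBS hCore (isolated_of_weakly_closed P ht2 htP hiso) g⟩

end main

end Cfsg.Agent.Lib.Helper9
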