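import Mathlib

/-!
The arithmetic heart of the Brauer–Suzuki theorem for quaternion Sylow `2`-subgroups of order `8`.
-/

set_option autoImplicit false

namespace Cfsg.Agent.Lib.Helper9

theorem bsq8_mod4_aux : ∀ n₂ n₃ x₂ x₃ : ZMod 4,
    (n₃ * x₂ - n₂ * x₃) ^ 2 = n₂ ^ 2 * x₃ + n₃ ^ 2 * x₂ →
    ((x₂ = 3 ∧ x₃ = 3) ∨ (x₂ = 2 * n₂ - 1 ∧ x₃ = 2 * n₃ - 1)) →
    (n₂ = 0 ∨ n₂ = 2) ∧ (n₃ = 0 ∨ n₃ = 2) := by decide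

theorem even_of_zmod4 (n : ℤ) (h : (n : ZMod 4) = 0 ∨ (n : ZMod 4) = 2) : ∃ k : ℤ, n = 2 * k := by
  have h4 : ((4 : ℕ) : ℤ) = 4 := rfl
  rcases h with h | h
  · rw [ZMod.intCast_zmod_eq_zero_iff_dvd] at h
    obtain ⟨k, hk⟩ := h
    exact ⟨2 * k, by rw [hk]; push_cast; ring⟩
  · have h' : ((n - 2 : ℤ) : ZMod 4) = 0 := by
      push_cast; rw [h]; decide
    rw [ZMod.intCast_zmod_eq_zero_iff_dvd] at h'
    obtain ⟨k, hk⟩ := h'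
    exact ⟨2 * k + 1, by push_cast at hk; linarith⟩

theorem bsq8_descent : ∀ (N : ℕ) (n₂ n₃ x₂ x₃ : ℤ), n₂.natAbs + n₃.natAbs ≤ N →
    (n₃ * x₂ - n₂ * x₃) ^ 2 = n₂ ^ 2 * x₃ + n₃ ^ 2 * x₂ →
    ((((x₂ : ℤ) : ZMod 4) = 3 ∧ ((x₃ : ℤ) : ZMod 4) = 3) ∨
      (((x₂ : ℤ) : ZMod 4) = 2 * (n₂ : ZMod 4) - 1 ∧ ((x₃ : ℤ) : ZMod 4) = 2 * (n₃ : ZMod 4) - 1)) →
    n₂ = 0 ∧ n₃ = 0 := by
  intro N
  induction N with
  | zero =>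
    intro n₂ n₃ x₂ x₃ hN _ _
    constructor <;> omega
  | succ N ih =>
    intro n₂ n₃ x₂ x₃ hN heq hc
    have hz : ((n₃ : ZMod 4) * (x₂ : ZMod 4) - (n₂ : ZMod 4) * (x₃ : ZMod 4)) ^ 2 =
        (n₂ : ZMod 4) ^ 2 * (x₃ : ZMod 4) + (n₃ : ZMod 4) ^ 2 * (x₂ : ZMod 4) := by
      have := congrArg (fun z : ℤ => (z : ZMod 4)) heq
      push_cast at this
      exact this
    obtain ⟨h2, h3⟩ := bsq8_mod4_aux _ _ _ _ hz hc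
    obtain ⟨k₂, rfl⟩ := even_of_zmod4 n₂ h2
    obtain ⟨k₃, rfl⟩ := even_of_zmod4 n₃ h3
    by_cases h0 : k₂ = 0 ∧ k₃ = 0
    · obtain ⟨rfl, rfl⟩ := h0
      simp
    have hlt : k₂.natAbs + k₃.natAbs ≤ N := by
      have : k₂ ≠ 0 ∨ k₃ ≠ 0 := by
        by_contra hcon
        push Not at hcon
        exact h0 hcon
      omega
    have heq' : (k₃ * x₂ - k₂ * x₃) ^ 2 = k₂ ^ 2 * x₃ + k₃ ^ 2 * x₂ := by
      have : 4 * (k₃ * x₂ - k₂ * x₃) ^ 2 = 4 * (k₂ ^ 2 * x₃ + k₃ ^ 2 * x₂) := by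
        linear_combination heq
      linarith
    have hc' : (((x₂ : ℤ) : ZMod 4) = 3 ∧ ((x₃ : ℤ) : ZMod 4) = 3) := by
      have e2 : (2 : ZMod 4) * ((2 * k₂ : ℤ) : ZMod 4) = 0 := by
        push_cast
        rw [← mul_assoc]
        have : (2 : ZMod 4) * 2 = 0 := by decide
        rw [this, zero_mul]
      have e3 : (2 : ZMod 4) * ((2 * k₃ : ℤ) : ZMod 4) = 0 := by
        push_cast
        rw [← mul_assoc]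
        have : (2 : ZMod 4) * 2 = 0 := by decide
        rw [this, zero_mul]
      rcases hc with h | h
      · exact h
      · rw [e2, e3] at h
        have : (0 : ZMod 4) - 1 = 3 := by decide
        rw [this] at h
        exact h
    obtain ⟨r2, r3⟩ := ih k₂ k₃ x₂ x₃ hlt heq' (Or.inl hc')
    subst r2 r3
    simp

/-- The arithmetic contradiction: with `xᵢ = χᵢ(1)`, `χᵢ(t) = xᵢ - 4 mᵢ`, the three block identities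
and the congruences for `χ₂, χ₃` force `m₂ = m₃ = 0`. -/
theorem bsq8_arith (x₁ x₂ x₃ m₁ m₂ m₃ a₂ a₃ : ℤ) (hx₁ : x₁ ≠ 0) (hx₂ : x₂ ≠ 0) (hx₃ : x₃ ≠ 0)
    (hA : 1 + x₁ = x₂ + x₃) (hB : m₁ = m₂ + m₃)
    (hC : (1 : ℚ) + ((x₁ : ℚ) - 4 * m₁) ^ 2 / x₁ =
      ((x₂ : ℚ) - 4 * m₂) ^ 2 / x₂ + ((x₃ : ℚ) - 4 * m₃) ^ 2 / x₃)
    (h2 : x₂ = 4 * a₂ - 1 + 2 * m₂) (h3 : x₃ = 4 * a₃ - 1 + 2 * m₃) : m₂ = 0 ∧ m₃ = 0 := by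
  have hx₁' : (x₁ : ℚ) ≠ 0 := by exact_mod_cast hx₁
  have hx₂' : (x₂ : ℚ) ≠ 0 := by exact_mod_cast hx₂
  have hx₃' : (x₃ : ℚ) ≠ 0 := by exact_mod_cast hx₃
  have hE : (x₂ : ℚ) * x₃ * (x₁ + (x₁ - 4 * m₁) ^ 2) =
      x₁ * ((x₂ - 4 * m₂) ^ 2 * x₃ + (x₃ - 4 * m₃) ^ 2 * x₂) := by
    field_simp at hC
    linear_combination hC
  have hEz : x₂ * x₃ * (x₁ + (x₁ - 4 * m₁) ^ 2) =
      x₁ * ((x₂ - 4 * m₂) ^ 2 * x₃ + (x₃ - 4 * m₃) ^ 2 * x₂) := by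
    exact_mod_cast hE
  have hx1 : x₁ = x₂ + x₃ - 1 := by linarith
  subst hB
  subst hx1
  have hstar : (m₃ * x₂ - m₂ * x₃) ^ 2 = m₂ ^ 2 * x₃ + m₃ ^ 2 * x₂ := by
    have : 16 * ((m₃ * x₂ - m₂ * x₃) ^ 2 - (m₂ ^ 2 * x₃ + m₃ ^ 2 * x₂)) = 0 := by
      linear_combination -hEz
    linarith
  apply bsq8_descent _ m₂ m₃ x₂ x₃ le_rfl hstar
  right
  constructor
  · rw [h2]; push_cast
    have : (4 : ZMod 4) = 0 := by decide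
    rw [this]; ring
  · rw [h3]; push_cast
    have : (4 : ZMod 4) = 0 := by decide
    rw [this]; ring

end Cfsg.Agent.Lib.Helper9
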