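import Mathlib
import Cfsg.Prelude.Def_TwoFusion
import Cfsg.Agent.Lib.Helper9.ZStarAssembly
import Cfsg.Agent.Lib.Helper16.SylowInf

/-!
Group theory of a finite group with a quaternion Sylow `2`-subgroup of order `8`
(towards the Brauer–Suzuki theorem).
-/

set_option autoImplicit false
set_option linter.unusedSectionVars false

namespace Cfsg.Agent.Lib.Helper9.BSQ8

open QuaternionGroup
open scoped commutatorElement

/-! ### Facts about `QuaternionGroup 2`, by computation -/

section concrete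

set_option maxRecDepth 1000000

theorem q_z_sq : (a 2 : QuaternionGroup 2) ^ 2 = 1 := by decide

theorem q_z_ne_one : (a 2 : QuaternionGroup 2) ≠ 1 := by decide

theorem q_u_sq : (a 1 : QuaternionGroup 2) ^ 2 = a 2 := by decide

theorem q_invol : ∀ x : QuaternionGroup 2, x ^ 2 = 1 → x = 1 ∨ x = a 2 := by decide

theorem q_sq : ∀ x : QuaternionGroup 2, x ≠ 1 → x ≠ a 2 → x ^ 2 = a 2 := by decide

theorem q_cent : ∀ x y : QuaternionGroup 2, x ^ 2 = a 2 → x * y = y * x →
    (y = 1 ∨ y = a 2 ∨ y = x ∨ y = x⁻¹) := by decide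

theorem q_invert : ∀ x : QuaternionGroup 2, x ^ 2 = a 2 → ∃ w, w * x * w⁻¹ = x⁻¹ := by decide

theorem q_index_two : ∀ x y w : QuaternionGroup 2, x ^ 2 = a 2 →
    ¬ (y = 1 ∨ y = a 2 ∨ y = x ∨ y = x⁻¹) → ¬ (w = 1 ∨ w = a 2 ∨ w = x ∨ w = x⁻¹) →
    (y * w⁻¹ = 1 ∨ y * w⁻¹ = a 2 ∨ y * w⁻¹ = x ∨ y * w⁻¹ = x⁻¹) := by decide

theorem q_three : ∀ x y₁ y y₂ : QuaternionGroup 2, x ^ 2 = a 2 → y₁ ^ 2 = a 2 → y ^ 2 = a 2 →
    y₂ ^ 2 = a 2 → ¬ (y₁ = x ∨ y₁ = x⁻¹) → ¬ (y = x ∨ y = x⁻¹) → ¬ (y = y₁ ∨ y = y₁⁻¹) →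
    ¬ (y₂ = y ∨ y₂ = y⁻¹) → ((y₂ = x ∨ y₂ = x⁻¹) ∨ (y₂ = y₁ ∨ y₂ = y₁⁻¹)) := by decide

theorem q_center : ∀ x : QuaternionGroup 2, (∀ y, x * y = y * x) → x = 1 ∨ x = a 2 := by decide

theorem q_exists_not : ∀ x : QuaternionGroup 2, ∃ y, ¬ (y = 1 ∨ y = a 2 ∨ y = x ∨ y = x⁻¹) := by
  decide

theorem q_conj : ∀ x y : QuaternionGroup 2, x * y * x⁻¹ = y ∨ x * y * x⁻¹ = y⁻¹ := by decide

theorem q_sq_of_ne : ∀ q : QuaternionGroup 2, q ≠ a 0 → q ≠ a 2 → q ^ 2 = a 2 := by decide

theorem q_card : Nat.card (QuaternionGroup 2) = 8 := by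
  rw [Nat.card_eq_fintype_card, QuaternionGroup.card]

end concrete

/-! ### Transport to a group isomorphic to `QuaternionGroup 2` -/

section transport

variable {S' : Type*} [Group S'] (e : S' ≃* QuaternionGroup 2)

/-- the central involution -/
noncomputable def zz : S' := e.symm (a 2)

/-- an element of order `4` -/
noncomputable def uu : S' := e.symm (a 1)

theorem e_zz : e (zz e) = a 2 := by simp [zz]

theorem e_uu : e (uu e) = a 1 := by simp [uu]

theorem zz_sq : (zz e) ^ 2 = 1 := by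
  apply e.injective
  rw [map_pow, e_zz, map_one, q_z_sq]

theorem zz_ne_one : zz e ≠ 1 := by
  intro h
  have := congrArg e h
  rw [e_zz, map_one] at this
  exact q_z_ne_one this

theorem uu_sq : (uu e) ^ 2 = zz e := by
  apply e.injective
  rw [map_pow, e_uu, e_zz, q_u_sq]

theorem eq_of_sq_eq_one (x : S') (h : x ^ 2 = 1) : x = 1 ∨ x = zz e := by
  have h1 : e x ^ 2 = 1 := by rw [← map_pow, h, map_one]
  rcases q_invol (e x) h1 with h2 | h2
  · left; exact (map_eq_one_iff e e.injective).mp h2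
  · right; apply e.injective; rw [h2, e_zz]

theorem sq_eq_zz (x : S') (h1 : x ≠ 1) (h2 : x ≠ zz e) : x ^ 2 = zz e := by
  apply e.injective
  rw [map_pow, e_zz]
  apply q_sq
  · intro h; exact h1 ((map_eq_one_iff e e.injective).mp h)
  · intro h; apply h2; apply e.injective; rw [h, e_zz]

theorem ne_of_sq_eq_zz {x : S'} (h : x ^ 2 = zz e) : x ≠ 1 ∧ x ≠ zz e := by
  constructor
  · rintro rfl
    rw [one_pow] at h
    exact zz_ne_one e h.symm
  · rintro rfl
    rw [zz_sq] at h
    exact zz_ne_one e h.symm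

theorem cent_of_sq (x y : S') (hx : x ^ 2 = zz e) (hxy : x * y = y * x) :
    y = 1 ∨ y = zz e ∨ y = x ∨ y = x⁻¹ := by
  have h1 : e x ^ 2 = a 2 := by rw [← map_pow, hx, e_zz]
  have h2 : e x * e y = e y * e x := by rw [← map_mul, hxy, map_mul]
  rcases q_cent (e x) (e y) h1 h2 with h | h | h | h
  · left; exact (map_eq_one_iff e e.injective).mp h
  · right; left; apply e.injective; rw [h, e_zz]
  · right; right; left; exact e.injective h
  · right; right; right; apply e.injective; rw [h, map_inv]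

theorem exists_invert (x : S') (hx : x ^ 2 = zz e) : ∃ w : S', w * x * w⁻¹ = x⁻¹ := by
  have h1 : e x ^ 2 = a 2 := by rw [← map_pow, hx, e_zz]
  obtain ⟨w, hw⟩ := q_invert (e x) h1
  refine ⟨e.symm w, ?_⟩
  apply e.injective
  simp [hw]

/-- `y` lies in the cyclic subgroup `{1, z, x, x⁻¹}` generated by `x`. -/
def InCyc (x y : S') : Prop := y = 1 ∨ y = zz e ∨ y = x ∨ y = x⁻¹

theorem inCyc_iff_e (x y : S') :
    InCyc e x y ↔ (e y = 1 ∨ e y = a 2 ∨ e y = e x ∨ e y = (e x)⁻¹) := by
  unfold InCyc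
  have h1 : e y = 1 ↔ y = 1 := map_eq_one_iff e e.injective
  have h2 : e y = a 2 ↔ y = zz e := by
    rw [← e_zz e]; exact e.injective.eq_iff
  have h3 : e y = e x ↔ y = x := e.injective.eq_iff
  have h4 : e y = (e x)⁻¹ ↔ y = x⁻¹ := by
    rw [← map_inv]; exact e.injective.eq_iff
  rw [h1, h2, h3, h4]

theorem index_two (x y w : S') (hx : x ^ 2 = zz e) (hy : ¬ InCyc e x y) (hw : ¬ InCyc e x w) :
    InCyc e x (y * w⁻¹) := by
  have h1 : e x ^ 2 = a 2 := by rw [← map_pow, hx, e_zz]
  rw [inCyc_iff_e] at hy hw ⊢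
  rw [map_mul, map_inv]
  exact q_index_two (e x) (e y) (e w) h1 hy hw

theorem exists_not_inCyc (x : S') : ∃ y, ¬ InCyc e x y := by
  obtain ⟨y, hy⟩ := q_exists_not (e x)
  refine ⟨e.symm y, ?_⟩
  rw [inCyc_iff_e]
  simpa using hy

theorem three_cyc (x y₁ y y₂ : S') (hx : x ^ 2 = zz e) (hy₁ : y₁ ^ 2 = zz e) (hy : y ^ 2 = zz e)
    (hy₂ : y₂ ^ 2 = zz e) (h1 : ¬ (y₁ = x ∨ y₁ = x⁻¹)) (h2 : ¬ (y = x ∨ y = x⁻¹))
    (h3 : ¬ (y = y₁ ∨ y = y₁⁻¹)) (h4 : ¬ (y₂ = y ∨ y₂ = y⁻¹)) :
    (y₂ = x ∨ y₂ = x⁻¹) ∨ (y₂ = y₁ ∨ y₂ = y₁⁻¹) := by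
  have tr : ∀ p q : S', (e p = e q ∨ e p = (e q)⁻¹) ↔ (p = q ∨ p = q⁻¹) := by
    intro p q
    rw [← map_inv, e.injective.eq_iff, e.injective.eq_iff]
  have sq : ∀ p : S', p ^ 2 = zz e → e p ^ 2 = a 2 := by
    intro p hp; rw [← map_pow, hp, e_zz]
  have := q_three (e x) (e y₁) (e y) (e y₂) (sq _ hx) (sq _ hy₁) (sq _ hy) (sq _ hy₂)
    (by rw [tr]; exact h1) (by rw [tr]; exact h2) (by rw [tr]; exact h3) (by rw [tr]; exact h4)
  rw [tr, tr] at this
  exact this

include e in
theorem conj_eq_or (x y : S') : x * y * x⁻¹ = y ∨ x * y * x⁻¹ = y⁻¹ := by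
  rcases q_conj (e x) (e y) with h | h
  · left; apply e.injective; simpa using h
  · right; apply e.injective; simpa using h

theorem center_le (x : S') (h : ∀ y, x * y = y * x) : x = 1 ∨ x = zz e := by
  have h1 : ∀ y, e x * y = y * e x := by
    intro y
    have := congrArg e (h (e.symm y))
    simpa using this
  rcases q_center (e x) h1 with h2 | h2
  · left; exact (map_eq_one_iff e e.injective).mp h2
  · right; apply e.injective; rw [h2, e_zz]

include e in
theorem card_eq : Nat.card S' = 8 := by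
  rw [Nat.card_congr e.toEquiv, q_card]

end transport


/-! ### A finite group with a quaternion Sylow `2`-subgroup of order `8` -/

section sylow

variable {G : Type*} [Group G]

/-- Every `2`-subgroup can be conjugated into a given Sylow `2`-subgroup. -/
theorem exists_conj_mem_sylow [Finite G] (S : Sylow 2 G) {T : Subgroup G} (hT : IsPGroup 2 T) :
    ∃ g : G, ∀ y ∈ T, g * y * g⁻¹ ∈ (S : Subgroup G) := by
  have h2 : Fact (Nat.Prime 2) := ⟨Nat.prime_two⟩
  obtain ⟨R, hR⟩ := hT.exists_le_sylow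
  obtain ⟨x, hx⟩ := MulAction.exists_smul_eq G R S
  refine ⟨x, fun y hy => ?_⟩
  rw [← hx]
  exact ⟨y, hR hy, rfl⟩

variable [Finite G] (S : Sylow 2 G) (e : ↥(S : Subgroup G) ≃* QuaternionGroup 2)

/-- the involution of `S` -/
noncomputable def tt : G := ((zz e : ↥(S : Subgroup G)) : G)

/-- a fixed element of order `4` of `S` -/
noncomputable def ug : G := ((uu e : ↥(S : Subgroup G)) : G)

theorem tt_mem : tt S e ∈ (S : Subgroup G) := (zz e).2

theorem ug_mem : ug S e ∈ (S : Subgroup G) := (uu e).2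

theorem tt_sq : (tt S e) ^ 2 = 1 := by
  have := congrArg Subtype.val (zz_sq e)
  simpa [tt] using this

theorem tt_ne_one : tt S e ≠ 1 := by
  intro h
  apply zz_ne_one e
  apply Subtype.ext
  simpa [tt] using h

theorem orderOf_tt : orderOf (tt S e) = 2 :=
  orderOf_eq_prime (tt_sq S e) (tt_ne_one S e)

theorem ug_sq : (ug S e) ^ 2 = tt S e := by
  have := congrArg Subtype.val (uu_sq e)
  simpa [tt, ug] using this

theorem mem_invol {x : G} (hx : x ∈ (S : Subgroup G)) (h : x ^ 2 = 1) : x = 1 ∨ x = tt S e := by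
  have h1 : (⟨x, hx⟩ : ↥(S : Subgroup G)) ^ 2 = 1 := by
    apply Subtype.ext; simpa using h
  rcases eq_of_sq_eq_one e _ h1 with h2 | h2
  · left; simpa using congrArg Subtype.val h2
  · right; simpa [tt] using congrArg Subtype.val h2

theorem mem_sq {x : G} (hx : x ∈ (S : Subgroup G)) (h1 : x ≠ 1) (h2 : x ≠ tt S e) :
    x ^ 2 = tt S e := by
  have := sq_eq_zz e (⟨x, hx⟩ : ↥(S : Subgroup G))
    (fun h => h1 (by simpa using congrArg Subtype.val h))
    (fun h => h2 (by simpa [tt] using congrArg Subtype.val h))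
  simpa [tt] using congrArg Subtype.val this

theorem eq_tt_of_orderOf {x : G} (hx : x ∈ (S : Subgroup G)) (h : orderOf x = 2) : x = tt S e := by
  have h1 : x ^ 2 = 1 := by rw [← h, pow_orderOf_eq_one]
  rcases mem_invol S e hx h1 with h2 | h2
  · rw [h2, orderOf_one] at h; omega
  · exact h2

/-- The involution of `S` is isolated in `G`. -/
theorem isolated_tt : IsIsolatedInvolution (tt S e) := by
  apply isolated_of_weakly_closed S (orderOf_tt S e) (tt_mem S e)
  intro g hg
  apply eq_tt_of_orderOf S e hg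
  rw [orderOf_conj_eq, orderOf_tt]

theorem ne_of_sq {x : G} (h : x ^ 2 = tt S e) : x ≠ 1 ∧ x ≠ tt S e := by
  constructor
  · rintro rfl
    rw [one_pow] at h
    exact tt_ne_one S e h.symm
  · rintro rfl
    rw [tt_sq] at h
    exact tt_ne_one S e h.symm

theorem orderOf_of_sq {x : G} (h : x ^ 2 = tt S e) : orderOf x = 4 := by
  have h4 : x ^ 4 = 1 := by
    have : x ^ 4 = (x ^ 2) ^ 2 := by rw [← pow_mul]
    rw [this, h, tt_sq]
  have h2 : x ^ 2 ≠ 1 := by rw [h]; exact tt_ne_one S e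
  have h2F : Fact (Nat.Prime 2) := ⟨Nat.prime_two⟩
  have := orderOf_eq_prime_pow (x := x) (p := 2) (n := 1) (by rw [pow_one]; exact h2)
    (by norm_num; exact h4)
  rw [this]; norm_num

/-- conjugates of elements of order four lying in `S` square to `t` -/
theorem conj_sq {x : G} (h : x ^ 2 = tt S e) (g : G) (hg : g * x * g⁻¹ ∈ (S : Subgroup G)) :
    (g * x * g⁻¹) ^ 2 = tt S e := by
  apply mem_sq S e hg
  · intro h1
    have : orderOf (g * x * g⁻¹) = 4 := by rw [orderOf_conj_eq, orderOf_of_sq S e h]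
    rw [h1, orderOf_one] at this; omega
  · intro h1
    have : orderOf (g * x * g⁻¹) = 4 := by rw [orderOf_conj_eq, orderOf_of_sq S e h]
    rw [h1, orderOf_tt] at this; omega

theorem mem_zpowers_of_commute {x y : G} (hx : x ∈ (S : Subgroup G)) (hy : y ∈ (S : Subgroup G))
    (h : x ^ 2 = tt S e) (hc : x * y = y * x) : y ∈ Subgroup.zpowers x := by
  have h1 : (⟨x, hx⟩ : ↥(S : Subgroup G)) ^ 2 = zz e := by
    apply Subtype.ext; simpa [tt] using h
  have h2 : (⟨x, hx⟩ : ↥(S : Subgroup G)) * ⟨y, hy⟩ = ⟨y, hy⟩ * ⟨x, hx⟩ := by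
    apply Subtype.ext; simpa using hc
  rcases cent_of_sq e _ _ h1 h2 with h3 | h3 | h3 | h3
  · have : y = 1 := by simpa using congrArg Subtype.val h3
    rw [this]; exact Subgroup.one_mem _
  · have : y = tt S e := by simpa [tt] using congrArg Subtype.val h3
    rw [this, ← h]; exact Subgroup.pow_mem _ (Subgroup.mem_zpowers x) 2
  · have : y = x := by simpa using congrArg Subtype.val h3
    rw [this]; exact Subgroup.mem_zpowers x
  · have : y = x⁻¹ := by simpa using congrArg Subtype.val h3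
    rw [this]; exact Subgroup.inv_mem _ (Subgroup.mem_zpowers x)


/-- No conjugate of `t` inverts an element of order four of `S`. -/
theorem not_inverted {y : G} (hy2 : y ^ 2 = tt S e) (g : G) :
    (g * tt S e * g⁻¹) * y * (g * tt S e * g⁻¹)⁻¹ ≠ y⁻¹ := by
  intro h
  set t := tt S e with ht
  set t' := g * t * g⁻¹ with ht'
  have hiso := isolated_tt S e
  have htt : t * t = 1 := isolated_sq hiso
  have htinv : t⁻¹ = t := inv_eq_self_of_sq htt
  have h1 : t' * t * t'⁻¹ = t := by
    have : t' * t * t'⁻¹ = (t' * y * t'⁻¹) ^ 2 := by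
      rw [← hy2, pow_two, pow_two]; group
    rw [this, h, inv_pow, hy2, htinv]
  have hc : Commute t t' := by
    have : t' * t = t * t' := by
      calc t' * t = (t' * t * t'⁻¹) * t' := by group
        _ = t * t' := by rw [h1]
    exact this.symm
  have h2 : t' = t := hiso.2 g hc
  rw [h2] at h
  have h3 : t * y * t⁻¹ = y := by
    rw [← hy2]; group
  rw [h3] at h
  have h4 : y ^ 2 = 1 := by
    rw [pow_two]
    nth_rewrite 1 [h]
    exact inv_mul_cancel y
  rw [hy2] at h4
  exact tt_ne_one S e h4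

/-- `y` lies in `{1, t, x, x⁻¹}`. -/
def InCycG (x y : G) : Prop := y = 1 ∨ y = tt S e ∨ y = x ∨ y = x⁻¹

theorem inCycG_iff {x y : G} (hx : x ∈ (S : Subgroup G)) (hy : y ∈ (S : Subgroup G)) :
    InCycG S e x y ↔ InCyc e (⟨x, hx⟩ : ↥(S : Subgroup G)) ⟨y, hy⟩ := by
  unfold InCycG InCyc
  have h1 : (⟨y, hy⟩ : ↥(S : Subgroup G)) = 1 ↔ y = 1 := by
    rw [Subtype.ext_iff]; rfl
  have h2 : (⟨y, hy⟩ : ↥(S : Subgroup G)) = zz e ↔ y = tt S e := by
    rw [Subtype.ext_iff]; rfl
  have h3 : (⟨y, hy⟩ : ↥(S : Subgroup G)) = ⟨x, hx⟩ ↔ y = x := by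
    rw [Subtype.ext_iff]
  have h4 : (⟨y, hy⟩ : ↥(S : Subgroup G)) = (⟨x, hx⟩ : ↥(S : Subgroup G))⁻¹ ↔ y = x⁻¹ := by
    rw [Subtype.ext_iff]; rfl
  rw [h1, h2, h3, h4]

theorem inCycG_mem_zpowers {x y : G} (hx2 : x ^ 2 = tt S e) (h : InCycG S e x y) :
    y ∈ Subgroup.zpowers x := by
  rcases h with h | h | h | h
  · rw [h]; exact Subgroup.one_mem _
  · rw [h, ← hx2]; exact Subgroup.pow_mem _ (Subgroup.mem_zpowers x) 2
  · rw [h]; exact Subgroup.mem_zpowers x
  · rw [h]; exact Subgroup.inv_mem _ (Subgroup.mem_zpowers x)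

theorem inCycG_of_commute {x y : G} (hx : x ∈ (S : Subgroup G)) (hy : y ∈ (S : Subgroup G))
    (h : x ^ 2 = tt S e) (hc : x * y = y * x) : InCycG S e x y := by
  rw [inCycG_iff S e hx hy]
  apply cent_of_sq e
  · apply Subtype.ext; simpa [tt] using h
  · apply Subtype.ext; simpa using hc

theorem inCycG_of_mem_zpowers {x y : G} (hx : x ∈ (S : Subgroup G)) (h : x ^ 2 = tt S e)
    (hy : y ∈ Subgroup.zpowers x) : InCycG S e x y := by
  have hyS : y ∈ (S : Subgroup G) := (Subgroup.zpowers_le.mpr hx) hy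
  apply inCycG_of_commute S e hx hyS h
  obtain ⟨k, rfl⟩ := Subgroup.mem_zpowers_iff.mp hy
  exact ((Commute.refl x).zpow_right k).eq

/-- The first fusion lemma: if `G` is perfect, every element of order four of `S` is conjugate
to an element of `S` outside the cyclic subgroup it generates. -/
theorem exists_conj_not_inCyc (hperf : commutator G = ⊤) {x : G} (hx : x ∈ (S : Subgroup G))
    (hx2 : x ^ 2 = tt S e) :
    ∃ g : G, g * x * g⁻¹ ∈ (S : Subgroup G) ∧ ¬ InCycG S e x (g * x * g⁻¹) := by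
  by_contra hcon
  push Not at hcon
  have h2 : Fact (Nat.Prime 2) := ⟨Nat.prime_two⟩
  have hfoc : (S : Subgroup G).focalSubgroup = (S : Subgroup G) := by
    rw [← Subgroup.commutator_inf_eq_focalSubgroup, hperf, top_inf_eq]
  have hle : (S : Subgroup G).focalSubgroup ≤ Subgroup.zpowers x := by
    rw [Subgroup.focalSubgroup_def, Subgroup.closure_le]
    rintro g ⟨hgS, h, hhS, k, rfl⟩
    rw [SetLike.mem_coe]
    apply inCycG_mem_zpowers S e hx2
    set h' := k * h * k⁻¹ with hh'
    have hg : ⁅h, k⁆ = h * h'⁻¹ := by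
      rw [commutatorElement_def, hh']; group
    have hh'S : h' ∈ (S : Subgroup G) := by
      have : h' = (h⁻¹ * ⁅h, k⁆)⁻¹ := by rw [hg]; group
      rw [this]
      exact Subgroup.inv_mem _ (Subgroup.mul_mem _ (Subgroup.inv_mem _ hhS) hgS)
    rw [hg]
    by_cases hin : InCycG S e x h
    · rcases hin with h1 | h1 | h1 | h1
      · -- h = 1
        have : h' = 1 := by rw [hh', h1]; group
        rw [h1, this]; left; group
      · -- h = t
        have h3 : h' = tt S e := by
          apply eq_tt_of_orderOf S e hh'S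
          rw [hh', orderOf_conj_eq, h1, orderOf_tt]
        rw [h1, h3]; left; group
      · -- h = x
        have h3 : InCycG S e x h' := hcon k (by rw [← h1]; exact hh'S) |> fun hc => by
          rw [hh', h1]; exact hc
        have h4 : h' ∈ Subgroup.zpowers x := inCycG_mem_zpowers S e hx2 h3
        apply inCycG_of_mem_zpowers S e hx hx2
        rw [h1]
        exact Subgroup.mul_mem _ (Subgroup.mem_zpowers x) (Subgroup.inv_mem _ h4)
      · -- h = x⁻¹
        have h5 : k * x * k⁻¹ = h'⁻¹ := by rw [hh', h1]; group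
        have h3 : InCycG S e x (k * x * k⁻¹) :=
          hcon k (by rw [h5]; exact Subgroup.inv_mem _ hh'S)
        have h4 : h'⁻¹ ∈ Subgroup.zpowers x := by
          rw [← h5]; exact inCycG_mem_zpowers S e hx2 h3
        apply inCycG_of_mem_zpowers S e hx hx2
        rw [h1]
        exact Subgroup.mul_mem _ (Subgroup.inv_mem _ (Subgroup.mem_zpowers x)) h4
    · have hin' : ¬ InCycG S e x h' := by
        intro hc
        apply hin
        have hk : h = k⁻¹ * h' * k⁻¹⁻¹ := by rw [hh']; group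
        rcases hc with h1 | h1 | h1 | h1
        · left; rw [hk, h1]; group
        · right; left
          apply eq_tt_of_orderOf S e hhS
          rw [hk, orderOf_conj_eq, h1, orderOf_tt]
        · rw [h1] at hk
          rw [hk]
          exact hcon k⁻¹ (by rw [← hk]; exact hhS)
        · have h6 : k⁻¹ * x * k⁻¹⁻¹ = h⁻¹ := by rw [hk, h1]; group
          have h7 := hcon k⁻¹ (by rw [h6]; exact Subgroup.inv_mem _ hhS)
          rw [h6] at h7
          have h8 : h⁻¹ ∈ Subgroup.zpowers x := inCycG_mem_zpowers S e hx2 h7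
          apply inCycG_of_mem_zpowers S e hx hx2
          have := Subgroup.inv_mem _ h8
          rwa [inv_inv] at this
      rw [inCycG_iff S e hx hhS] at hin
      rw [inCycG_iff S e hx hh'S] at hin'
      have := index_two e ⟨x, hx⟩ ⟨h, hhS⟩ ⟨h', hh'S⟩
        (by apply Subtype.ext; simpa [tt] using hx2) hin hin'
      rw [inCycG_iff S e hx (Subgroup.mul_mem _ hhS (Subgroup.inv_mem _ hh'S))]
      exact this
  rw [hfoc] at hle
  obtain ⟨w, hw⟩ := exists_not_inCyc e (⟨x, hx⟩ : ↥(S : Subgroup G))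
  apply hw
  have := inCycG_of_mem_zpowers S e hx hx2 (hle w.2)
  rw [inCycG_iff S e hx w.2] at this
  exact this


include e in
theorem conj_eq_or_G {x y : G} (hx : x ∈ (S : Subgroup G)) (hy : y ∈ (S : Subgroup G)) :
    x * y * x⁻¹ = y ∨ x * y * x⁻¹ = y⁻¹ := by
  rcases conj_eq_or e (⟨x, hx⟩ : ↥(S : Subgroup G)) ⟨y, hy⟩ with h | h
  · left; simpa using congrArg Subtype.val h
  · right; simpa using congrArg Subtype.val h

theorem exists_conj_inv {x : G} (hx : x ∈ (S : Subgroup G)) (hx2 : x ^ 2 = tt S e) :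
    ∃ w : G, w * x * w⁻¹ = x⁻¹ := by
  obtain ⟨w, hw⟩ := exists_invert e (⟨x, hx⟩ : ↥(S : Subgroup G))
    (by apply Subtype.ext; simpa [tt] using hx2)
  refine ⟨(w : G), ?_⟩
  simpa using congrArg Subtype.val hw

/-- **Full fusion**: if `G` is perfect, all elements of order four of `S` are conjugate in `G`. -/
theorem full_fusion (hperf : commutator G = ⊤) {x y : G} (hx : x ∈ (S : Subgroup G))
    (hy : y ∈ (S : Subgroup G)) (hx2 : x ^ 2 = tt S e) (hy2 : y ^ 2 = tt S e) :
    ∃ g : G, g * x * g⁻¹ = y := by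
  -- conjugacy to `x` is closed under the moves we need
  have key : ∀ z : G, z ∈ (S : Subgroup G) → z ^ 2 = tt S e → (∃ g : G, g * x * g⁻¹ = z) →
      ∀ w : G, (w = z ∨ w = z⁻¹) → ∃ g : G, g * x * g⁻¹ = w := by
    rintro z hz hz2 ⟨g, rfl⟩ w (rfl | rfl)
    · exact ⟨g, rfl⟩
    · obtain ⟨k, hk⟩ := exists_conj_inv S e hz hz2
      exact ⟨k * g, by rw [← hk]; group⟩
  by_cases h1 : y = x ∨ y = x⁻¹
  · exact key x hx hx2 ⟨1, by group⟩ y h1
  obtain ⟨g₁, hg₁S, hg₁⟩ := exists_conj_not_inCyc S e hperf hx hx2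
  set y₁ := g₁ * x * g₁⁻¹ with hy₁
  have hy₁2 : y₁ ^ 2 = tt S e := conj_sq S e hx2 g₁ hg₁S
  have h2 : ¬ (y₁ = x ∨ y₁ = x⁻¹) := fun h => hg₁ (Or.inr (Or.inr h))
  by_cases h3 : y = y₁ ∨ y = y₁⁻¹
  · exact key y₁ hg₁S hy₁2 ⟨g₁, rfl⟩ y h3
  obtain ⟨g₂, hg₂S, hg₂⟩ := exists_conj_not_inCyc S e hperf hy hy2
  set y₂ := g₂ * y * g₂⁻¹ with hy₂
  have hy₂2 : y₂ ^ 2 = tt S e := conj_sq S e hy2 g₂ hg₂S
  have h4 : ¬ (y₂ = y ∨ y₂ = y⁻¹) := fun h => hg₂ (Or.inr (Or.inr h))
  have h5 := three_cyc e (⟨x, hx⟩ : ↥(S : Subgroup G)) ⟨y₁, hg₁S⟩ ⟨y, hy⟩ ⟨y₂, hg₂S⟩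
    (by apply Subtype.ext; simpa [tt] using hx2) (by apply Subtype.ext; simpa [tt] using hy₁2)
    (by apply Subtype.ext; simpa [tt] using hy2) (by apply Subtype.ext; simpa [tt] using hy₂2)
    (by
      intro h; apply h2
      rcases h with h | h
      · left; simpa using congrArg Subtype.val h
      · right; simpa using congrArg Subtype.val h)
    (by
      intro h; apply h1
      rcases h with h | h
      · left; simpa using congrArg Subtype.val h
      · right; simpa using congrArg Subtype.val h)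
    (by
      intro h; apply h3
      rcases h with h | h
      · left; simpa using congrArg Subtype.val h
      · right; simpa using congrArg Subtype.val h)
    (by
      intro h; apply h4
      rcases h with h | h
      · left; simpa using congrArg Subtype.val h
      · right; simpa using congrArg Subtype.val h)
  have h6 : ∃ g : G, g * x * g⁻¹ = y₂ := by
    rcases h5 with h | h
    · apply key x hx hx2 ⟨1, by group⟩ y₂
      rcases h with h | h
      · left; simpa using congrArg Subtype.val h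
      · right; simpa using congrArg Subtype.val h
    · apply key y₁ hg₁S hy₁2 ⟨g₁, rfl⟩ y₂
      rcases h with h | h
      · left; simpa using congrArg Subtype.val h
      · right; simpa using congrArg Subtype.val h
  obtain ⟨g, hg⟩ := h6
  refine ⟨g₂⁻¹ * g, ?_⟩
  have : g₂⁻¹ * g * x * (g₂⁻¹ * g)⁻¹ = g₂⁻¹ * (g * x * g⁻¹) * g₂ := by group
  rw [this, hg, hy₂]; group

/-! ### The centralizer of an element of order four -/

theorem inf_centralizer_eq {y : G} (hy : y ∈ (S : Subgroup G)) (hy2 : y ^ 2 = tt S e) :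
    (S : Subgroup G) ⊓ Subgroup.centralizer ({y} : Set G) = Subgroup.zpowers y := by
  apply le_antisymm
  · intro w hw
    obtain ⟨hwS, hwC⟩ := Subgroup.mem_inf.mp hw
    rw [Subgroup.mem_centralizer_iff] at hwC
    have hc : y * w = w * y := hwC y (Set.mem_singleton y)
    exact mem_zpowers_of_commute S e hy hwS hy2 hc
  · rw [Subgroup.zpowers_le]
    refine Subgroup.mem_inf.mpr ⟨hy, ?_⟩
    rw [Subgroup.mem_centralizer_iff]
    intro z hz
    rw [Set.mem_singleton_iff] at hz
    rw [hz]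

theorem card_inf_centralizer {y : G} (hy : y ∈ (S : Subgroup G)) (hy2 : y ^ 2 = tt S e) :
    Nat.card ↥((S : Subgroup G) ⊓ Subgroup.centralizer ({y} : Set G)) = 4 := by
  rw [inf_centralizer_eq S e hy hy2, Nat.card_zpowers, orderOf_of_sq S e hy2]

/-- A Sylow `2`-subgroup of `C = C_G(y)`, `y` of order four, is `⟨y⟩`. -/
theorem sylow_centralizer_map {y : G} (hy : y ∈ (S : Subgroup G)) (hy2 : y ^ 2 = tt S e)
    (C : Subgroup G) (hC : C = Subgroup.centralizer ({y} : Set G)) (R : Sylow 2 ↥C) :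
    (R : Subgroup ↥C).map C.subtype = Subgroup.zpowers y := by
  have h2 : Fact (Nat.Prime 2) := ⟨Nat.prime_two⟩
  have hyC : y ∈ C := by
    rw [hC, Subgroup.mem_centralizer_iff]
    intro z hz
    rw [Set.mem_singleton_iff] at hz
    rw [hz]
  have hcomm : ∀ w ∈ C, y * w = w * y := by
    intro w hw
    rw [hC, Subgroup.mem_centralizer_iff] at hw
    exact hw y (Set.mem_singleton y)
  -- `⟨y⟩` is a normal 2-subgroup of `C`
  have hYn : (Subgroup.zpowers (⟨y, hyC⟩ : ↥C)).Normal := by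
    constructor
    intro n hn c
    have : c * n * c⁻¹ = n := by
      obtain ⟨k, rfl⟩ := Subgroup.mem_zpowers_iff.mp hn
      have hcy : Commute c (⟨y, hyC⟩ : ↥C) := by
        have := hcomm c c.2
        exact (Subtype.ext this).symm
      have := (hcy.zpow_right k).eq
      rw [this, mul_inv_cancel_right]
    rw [this]; exact hn
  have hYp : IsPGroup 2 (Subgroup.zpowers (⟨y, hyC⟩ : ↥C)) := by
    apply IsPGroup.of_card (n := 2)
    rw [Nat.card_zpowers, Subgroup.orderOf_mk, orderOf_of_sq S e hy2]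
    norm_num
  have hYR : Subgroup.zpowers (⟨y, hyC⟩ : ↥C) ≤ (R : Subgroup ↥C) :=
    (Cfsg.Agent.Lib.Helper1.le_pCore hYn hYp).trans (Cfsg.Agent.Lib.Helper1.pCore_le_sylow R)
  have hR₀p : IsPGroup 2 ((R : Subgroup ↥C).map C.subtype) := R.2.map _
  have hyR₀ : y ∈ (R : Subgroup ↥C).map C.subtype :=
    ⟨⟨y, hyC⟩, hYR (Subgroup.mem_zpowers _), rfl⟩
  obtain ⟨g, hg⟩ := exists_conj_mem_sylow S hR₀p
  have hy₁S := hg y hyR₀
  have hy₁2 := conj_sq S e hy2 g hy₁S
  apply le_antisymm
  · intro w hw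
    have hwC : w ∈ C := by
      obtain ⟨c, -, rfl⟩ := hw
      exact c.2
    have hwS := hg w hw
    have hc : (g * y * g⁻¹) * (g * w * g⁻¹) = (g * w * g⁻¹) * (g * y * g⁻¹) := by
      have := hcomm w hwC
      calc (g * y * g⁻¹) * (g * w * g⁻¹) = g * (y * w) * g⁻¹ := by group
        _ = g * (w * y) * g⁻¹ := by rw [this]
        _ = (g * w * g⁻¹) * (g * y * g⁻¹) := by group
    have h3 := mem_zpowers_of_commute S e hy₁S hwS hy₁2 hc
    obtain ⟨k, hk⟩ := Subgroup.mem_zpowers_iff.mp h3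
    rw [Subgroup.mem_zpowers_iff]
    refine ⟨k, ?_⟩
    have h4 : (g * y * g⁻¹) ^ k = g * y ^ k * g⁻¹ := by
      rw [← MulAut.conj_apply, ← MulAut.conj_apply, map_zpow]
    rw [h4] at hk
    have := congrArg (fun z => g⁻¹ * z * g) hk
    simpa [mul_assoc] using this
  · rw [Subgroup.zpowers_le]
    exact hyR₀

theorem sylow_centralizer_card {y : G} (hy : y ∈ (S : Subgroup G)) (hy2 : y ^ 2 = tt S e)
    (C : Subgroup G) (hC : C = Subgroup.centralizer ({y} : Set G)) (R : Sylow 2 ↥C) :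
    Nat.card ↥(R : Subgroup ↥C) = 4 := by
  rw [← Subgroup.card_map_of_injective (Subgroup.subtype_injective C),
    sylow_centralizer_map S e hy hy2 C hC R, Nat.card_zpowers, orderOf_of_sq S e hy2]

theorem sylow_centralizer_isCyclic {y : G} (hy : y ∈ (S : Subgroup G)) (hy2 : y ^ 2 = tt S e)
    (C : Subgroup G) (hC : C = Subgroup.centralizer ({y} : Set G)) (R : Sylow 2 ↥C) :
    IsCyclic ↥(R : Subgroup ↥C) := by
  have h1 := sylow_centralizer_map S e hy hy2 C hC R
  have h2 : IsCyclic ↥((R : Subgroup ↥C).map C.subtype) := by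
    rw [h1]; infer_instance
  exact isCyclic_of_surjective
    ((R : Subgroup ↥C).equivMapOfInjective C.subtype (Subgroup.subtype_injective _)).symm
    ((R : Subgroup ↥C).equivMapOfInjective C.subtype (Subgroup.subtype_injective _)).symm.surjective

/-- `O(C_G(y))` has index `4` in `C_G(y)` for `y` of order four in `S`. -/
theorem index_pPrimeCore_centralizer {y : G} (hy : y ∈ (S : Subgroup G))
    (hy2 : y ^ 2 = tt S e) (C : Subgroup G) (hC : C = Subgroup.centralizer ({y} : Set G)) :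
    (pPrimeCore 2 ↥C).index = 4 := by
  have h2 : Fact (Nat.Prime 2) := ⟨Nat.prime_two⟩
  have hyC : y ∈ C := by
    rw [hC, Subgroup.mem_centralizer_iff]
    intro z hz
    rw [Set.mem_singleton_iff] at hz
    rw [hz]
  obtain ⟨R⟩ : Nonempty (Sylow 2 ↥C) := inferInstance
  have hRc := sylow_centralizer_isCyclic S e hy hy2 C hC R
  have hRcard := sylow_centralizer_card S e hy hy2 C hC R
  have h2C : 2 ∣ Nat.card ↥C := by
    have h4 : orderOf (⟨y, hyC⟩ : ↥C) = 4 := by
      rw [Subgroup.orderOf_mk, orderOf_of_sq S e hy2]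
    have := orderOf_dvd_natCard (⟨y, hyC⟩ : ↥C)
    rw [h4] at this
    exact dvd_trans (by norm_num) this
  have hmin : (Nat.card ↥C).minFac = 2 := (Nat.minFac_eq_two_iff _).mpr h2C
  have hcompl := IsCyclic.isComplement' hmin hRc
  have hcard : Nat.card ↥(MonoidHom.transferSylow R (hRc.normalizer_le_centralizer hmin)).ker * 4
      = Nat.card ↥C := by
    rw [← hRcard]; exact hcompl.card_mul_card
  have hKodd : ¬ 2 ∣ Nat.card ↥(MonoidHom.transferSylow R
      (hRc.normalizer_le_centralizer hmin)).ker :=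
    MonoidHom.not_dvd_card_ker_transferSylow R (hRc.normalizer_le_centralizer hmin)
  have hKO : (MonoidHom.transferSylow R (hRc.normalizer_le_centralizer hmin)).ker
      ≤ pPrimeCore 2 ↥C :=
    Cfsg.Agent.Lib.Helper1.le_pPrimeCore inferInstance
      ((Nat.Prime.coprime_iff_not_dvd Nat.prime_two).mpr hKodd).symm
  have hOco := Cfsg.Agent.Lib.Helper1.pPrimeCore_coprime (G := ↥C) 2
  have hOdvd : Nat.card ↥(pPrimeCore 2 ↥C) ∣
      Nat.card ↥(MonoidHom.transferSylow R (hRc.normalizer_le_centralizer hmin)).ker := by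
    have h3 : Nat.card ↥(pPrimeCore 2 ↥C) ∣
        Nat.card ↥(MonoidHom.transferSylow R (hRc.normalizer_le_centralizer hmin)).ker * 4 := by
      rw [hcard]; exact Subgroup.card_subgroup_dvd_card _
    have h4 : Nat.Coprime (Nat.card ↥(pPrimeCore 2 ↥C)) 4 := by
      have : (4 : ℕ) = 2 ^ 2 := by norm_num
      rw [this]; exact Nat.Coprime.pow_right 2 hOco
    exact h4.dvd_of_dvd_mul_right h3
  have hKdvd := Subgroup.card_dvd_of_le hKO
  have heq := Nat.dvd_antisymm hOdvd hKdvd
  have h5 := Subgroup.card_mul_index (pPrimeCore 2 ↥C)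
  rw [heq, ← hcard] at h5
  exact Nat.eq_of_mul_eq_mul_left Nat.card_pos h5


end sylow

/-! ### Reductions for a minimal counterexample -/

section minimal

universe u

variable {G : Type u} [Group G] [Finite G] (S : Sylow 2 G)
  (e : ↥(S : Subgroup G) ≃* QuaternionGroup 2)

theorem central_of_conj_eq (h : ∀ g : G, g * tt S e * g⁻¹ = tt S e) :
    tt S e ∈ Subgroup.center G := by
  rw [Subgroup.mem_center_iff]
  intro g
  have := h g
  calc g * tt S e = (g * tt S e * g⁻¹) * g := by group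
    _ = tt S e * g := by rw [this]

/-- **Step 1**: if the theorem holds for all smaller groups, and a proper normal subgroup of `G`
contains `t`, then `t` is central in `G`. -/
theorem central_of_normal (hO : pPrimeCore 2 G = ⊥)
    (IH : ∀ (H : Type u) [Group H] [Finite H] (T : Sylow 2 H)
      (f : ↥(T : Subgroup H) ≃* QuaternionGroup 2), Nat.card H < Nat.card G →
      pPrimeCore 2 H = ⊥ → tt T f ∈ Subgroup.center H)
    (K : Subgroup G) [hKn : K.Normal] (hK : K ≠ ⊤) (htK : tt S e ∈ K) :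
    tt S e ∈ Subgroup.center G := by
  have h2 : Fact (Nat.Prime 2) := ⟨Nat.prime_two⟩
  have hiso := isolated_tt S e
  set t := tt S e with ht
  have hOK : pPrimeCore 2 ↥K = ⊥ := by
    have h5 := Cfsg.Agent.Lib.Helper17.map_pPrimeCore_le_of_normal 2 K
    rw [hO, le_bot_iff] at h5
    exact (Subgroup.map_eq_bot_iff_of_injective _ K.subtype_injective).mp h5
  apply central_of_conj_eq
  intro g
  have hgK : g * t * g⁻¹ ∈ K := hKn.conj_mem _ htK g
  by_cases hSK : (S : Subgroup G) ≤ K
  · -- `S` is a Sylow subgroup of `K`: induction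
    let T : Sylow 2 ↥K := Cfsg.Agent.Lib.Helper16.sylowInf S K
    have hT : ((T : Sylow 2 ↥K) : Subgroup ↥K) = (S : Subgroup G).subgroupOf K := rfl
    let f : ↥((T : Sylow 2 ↥K) : Subgroup ↥K) ≃* QuaternionGroup 2 :=
      (Subgroup.subgroupOfEquivOfLe hSK).trans e
    have h1 := IH ↥K T f (card_lt_of_ne_top hK) hOK
    have h3 : ((tt T f : ↥K) : G) = t := by
      simp only [tt, zz, f]
      rfl
    -- `t` is central in `K`
    have hcen : ∀ k ∈ K, k * t = t * k := by
      intro k hk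
      rw [Subgroup.mem_center_iff] at h1
      have := congrArg Subtype.val (h1 ⟨k, hk⟩)
      simp only [Subgroup.coe_mul] at this
      rw [h3] at this
      exact this
    apply hiso.2 g
    have := hcen _ hgK
    exact this.symm
  · -- `S ∩ K` is cyclic
    let T : Sylow 2 ↥K := Cfsg.Agent.Lib.Helper16.sylowInf S K
    have hT : ((T : Sylow 2 ↥K) : Subgroup ↥K) = (S : Subgroup G).subgroupOf K := rfl
    have hTS : ∀ x : ↥((T : Sylow 2 ↥K) : Subgroup ↥K), ((x : ↥K) : G) ∈ (S : Subgroup G) := by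
      intro x
      have h : (x : ↥K) ∈ (S : Subgroup G).subgroupOf K := x.2
      exact Subgroup.mem_subgroupOf.mp h
    have huniq : Cfsg.Agent.Lib.Helper10.UniqueOrderP 2 ↥((T : Sylow 2 ↥K) : Subgroup ↥K) := by
      have key : ∀ x : ↥((T : Sylow 2 ↥K) : Subgroup ↥K), x ^ 2 = 1 → x ≠ 1 →
          ((x : ↥K) : G) = t := by
        intro x hx2 hx1
        have h3 : (((x : ↥K) : G)) ^ 2 = 1 := by
          have := congrArg (fun z : ↥((T : Sylow 2 ↥K) : Subgroup ↥K) => ((z : ↥K) : G)) hx2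
          simpa using this
        rcases mem_invol S e (hTS x) h3 with h4 | h4
        · exfalso; apply hx1
          apply Subtype.ext; apply Subtype.ext; simpa using h4
        · exact h4
      intro x y hx2 hx1 hy2
      by_cases hy1 : y = 1
      · rw [hy1]; exact Subgroup.one_mem _
      · have : y = x := by
          apply Subtype.ext; apply Subtype.ext
          rw [key y hy2 hy1, key x hx2 hx1]
        rw [this]; exact Subgroup.mem_zpowers x
    have hcardT : Nat.card ↥((T : Sylow 2 ↥K) : Subgroup ↥K) =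
        Nat.card ↥((S : Subgroup G) ⊓ K : Subgroup G) := by
      rw [← Cfsg.Agent.Lib.Helper16.map_sylowInf S K,
        Subgroup.card_map_of_injective K.subtype_injective]
    have hcyc : IsCyclic ↥((T : Sylow 2 ↥K) : Subgroup ↥K) := by
      rcases Cfsg.Agent.Lib.Helper10.isCyclic_or_quaternion_of_uniqueOrderP T.2 huniq with
        hc | ⟨_, n, ⟨f⟩⟩
      · exact hc
      · rcases n with _ | n
        · have : IsCyclic (QuaternionGroup (2 ^ 0)) := by
            rw [pow_zero]; exact QuaternionGroup.quaternionGroup_one_isCyclic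
          exact isCyclic_of_surjective f.symm f.symm.surjective
        · exfalso
          apply hSK
          have h8 : 8 ≤ Nat.card ↥((S : Subgroup G) ⊓ K : Subgroup G) := by
            rw [← hcardT, Nat.card_congr f.toEquiv, Nat.card_eq_fintype_card,
              QuaternionGroup.card]
            have : 2 ≤ 2 ^ (n + 1) := by
              calc 2 = 2 ^ 1 := by norm_num
                _ ≤ 2 ^ (n + 1) := Nat.pow_le_pow_right (by norm_num) (by omega)
            omega
          have hS8 : Nat.card ↥(S : Subgroup G) = 8 := card_eq e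
          have : (S : Subgroup G) ⊓ K = (S : Subgroup G) :=
            Subgroup.eq_of_le_of_card_ge inf_le_left (by rw [hS8]; exact h8)
          rw [← this]; exact inf_le_right
    have h2K : 2 ∣ Nat.card ↥K := by
      have h4 : orderOf (⟨t, htK⟩ : ↥K) = 2 := by
        rw [Subgroup.orderOf_mk]; exact orderOf_tt S e
      have := orderOf_dvd_natCard (⟨t, htK⟩ : ↥K)
      rwa [h4] at this
    have hle := IsCyclic.normalizer_le_centralizer ((Nat.minFac_eq_two_iff _).mpr h2K) hcyc
    obtain ⟨L, hLn, hLp, hLall⟩ :=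
      Cfsg.Agent.Lib.Helper7.exists_normal_pPrime_of_normalizer_le_centralizer T hle
    have hL : L = ⊥ := by
      have := Cfsg.Agent.Lib.Helper1.le_pPrimeCore hLn
        ((Nat.Prime.coprime_iff_not_dvd Nat.prime_two).mpr hLp).symm
      rwa [hOK, le_bot_iff] at this
    apply isolated_central_of_no_odd hiso
    have hodd := isolated_odd_orderOf_mul_conj hiso g
    have hwK : t * (g * t * g⁻¹) ∈ K := K.mul_mem htK hgK
    have := hLall ⟨_, hwK⟩ (by
      rw [Subgroup.orderOf_mk]; exact Nat.coprime_two_right.mpr hodd)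
    rw [hL, Subgroup.mem_bot] at this
    exact congrArg Subtype.val this

/-- **Step 2**: if no proper normal subgroup contains `t`, then `G` is perfect. -/
theorem perfect_of_min (hmin : ∀ K : Subgroup G, K.Normal → tt S e ∈ K → K = ⊤) :
    commutator G = ⊤ := by
  apply hmin (commutator G) inferInstance
  by_contra htG
  set t := tt S e with ht
  set N := commutator G ⊔ Subgroup.zpowers t with hN
  have hNn : N.Normal := by
    constructor
    intro n hn g
    have h1 : g * n * g⁻¹ = ⁅g, n⁆ * n := by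
      rw [commutatorElement_def]; group
    rw [h1]
    apply N.mul_mem _ hn
    apply (le_sup_left : commutator G ≤ N)
    rw [commutator_def]
    exact Subgroup.commutator_mem_commutator (Subgroup.mem_top g) (Subgroup.mem_top n)
  have hNtop : N = ⊤ :=
    hmin N hNn ((le_sup_right : Subgroup.zpowers t ≤ N) (Subgroup.mem_zpowers t))
  -- pass to the abelianization
  set q := QuotientGroup.mk' (commutator G) with hq
  have hqt : q t ≠ 1 := by
    intro h
    apply htG
    exact (QuotientGroup.eq_one_iff t).mp h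
  have hqt2 : q t ^ 2 = 1 := by
    rw [← map_pow, tt_sq, map_one]
  have hmap : (N.map q) = Subgroup.zpowers (q t) := by
    rw [hN, Subgroup.map_sup, MonoidHom.map_zpowers, hq, QuotientGroup.map_mk'_self, bot_sup_eq]
  have hu : q (ug S e) ∈ N.map q := Subgroup.mem_map_of_mem q (by rw [hNtop]; trivial)
  rw [hmap] at hu
  obtain ⟨k, hk⟩ := Subgroup.mem_zpowers_iff.mp hu
  apply hqt
  have h1 : q t = q (ug S e) ^ 2 := by
    rw [← map_pow, ug_sq]
  rw [h1, ← hk, ← zpow_natCast, ← zpow_mul, mul_comm, zpow_mul, zpow_natCast, hqt2, one_zpow]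

end minimal

end Cfsg.Agent.Lib.Helper9.BSQ8
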