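import Mathlib
import Cfsg.Prelude.Def_Characters
import Cfsg.Prelude.Def_Blocks
import Cfsg.Agent.Lib.Helper9.BSQ8Group
import Cfsg.Agent.Lib.Helper24.FrobSchur
import Cfsg.Agent.Lib.Helper25.PSolv
import Cfsg.Agent.S4735
import Cfsg.Agent.S0915

/-!
Brauer–Suzuki for `Q₈`: the principal `2`-block of the centralizer of an element of order four.
-/

set_option autoImplicit false
set_option linter.unusedSectionVars false

namespace Cfsg.Agent.Lib.Helper9.BSQ8

open QuaternionGroup

universe u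

variable {G : Type u} [Group G] [Finite G] (S : Sylow 2 G)
  (e : ↥(S : Subgroup G) ≃* QuaternionGroup 2)

/-- The sum of the squares of the degrees over the principal `2`-block of `C_G(y)` is `4`
for `y ∈ S` of order four. -/
theorem lambda_centralizer_nat (M : Ideal Cfsg.AlgInt) (hM : Cfsg.IsPModular 2 M) {y : G}
    (hy : y ∈ (S : Subgroup G)) (hy2 : y ^ 2 = tt S e) :
    (∑ᶠ ψ ∈ Cfsg.principalBlock M ↥(Subgroup.centralizer ({y} : Set G)),
      Cfsg.charDegree (ψ : ↥(Subgroup.centralizer ({y} : Set G)) → ℂ) ^ 2) = 4 := by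
  have h2 : Fact (Nat.Prime 2) := ⟨Nat.prime_two⟩
  have hidx := index_pPrimeCore_centralizer S e hy hy2 (Subgroup.centralizer ({y} : Set G)) rfl
  have h4 := (Cfsg.Agent.S4735.result 2 M hM
    (1 : ↥(Subgroup.centralizer ({y} : Set G)))).2.2.2
  rw [hidx] at h4
  rw [h4]
  -- the quotient `C / O(C)` is a `2`-group, hence has a single block
  have hOn : (pPrimeCore 2 ↥(Subgroup.centralizer ({y} : Set G))).Normal :=
    Cfsg.Agent.Lib.Helper1.pPrimeCore_normal 2
  have hcardQ : Nat.card (↥(Subgroup.centralizer ({y} : Set G)) ⧸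
      pPrimeCore 2 ↥(Subgroup.centralizer ({y} : Set G))) = 2 ^ 2 := by
    rw [← Subgroup.index_eq_card, hidx]; norm_num
  have hQp : IsPGroup 2 (↥(Subgroup.centralizer ({y} : Set G)) ⧸
      pPrimeCore 2 ↥(Subgroup.centralizer ({y} : Set G))) := IsPGroup.of_card hcardQ
  have hnil := hQp.isNilpotent
  have hsolv : Cfsg.IsPSolvable 2 (↥(Subgroup.centralizer ({y} : Set G)) ⧸
      pPrimeCore 2 ↥(Subgroup.centralizer ({y} : Set G))) :=
    Cfsg.Agent.Lib.Helper25.isPSolvable_of_isSolvable 2 inferInstance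
  have hcore := Cfsg.Agent.Lib.Helper10.pPrimeCore_quotient_eq_bot
    (G := ↥(Subgroup.centralizer ({y} : Set G))) 2
  rintro B ⟨χ, rfl⟩
  ext ψ
  constructor
  · intro _
    exact Cfsg.Agent.S0915.result 2 M hM hsolv hcore (Cfsg.Agent.Lib.Helper24.trivIrr _) ψ
  · intro _
    exact Cfsg.Agent.S0915.result 2 M hM hsolv hcore χ ψ

end Cfsg.Agent.Lib.Helper9.BSQ8
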