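import Mathlib
import Cfsg.Prelude.Def_Characters
import Cfsg.Agent.Lib.Helper2.CharBasic
import Cfsg.Agent.Lib.Helper2.Induction
import Cfsg.Agent.Lib.Helper11.GenChar
import Cfsg.Agent.Lib.Helper25.Linear
import Cfsg.Agent.Lib.Helper9.BSQ8Group

/-!
Character-theoretic preliminaries for the Brauer–Suzuki theorem (quaternion group of order 8):
explicit sums over `QuaternionGroup 2` and over a cyclic group of order four, and integrality of
multiplicities of linear characters of subgroups.
-/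

set_option autoImplicit false
set_option linter.unusedSectionVars false

namespace Cfsg.Agent.Lib.Helper9.BSQ8

open QuaternionGroup
open scoped ComplexConjugate

/-! ### Explicit sums -/

/-- enumeration of `QuaternionGroup 2` -/
def qHelper : ZMod 4 ⊕ ZMod 4 ≃ QuaternionGroup 2 where
  invFun i :=
    match i with
    | a j => Sum.inl j
    | xa j => Sum.inr j
  toFun i :=
    match i with
    | Sum.inl j => a j
    | Sum.inr j => xa j
  left_inv := by rintro (x | x) <;> rfl
  right_inv := by rintro (x | x) <;> rfl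

theorem q_sum {M : Type*} [AddCommMonoid M] (F : QuaternionGroup 2 → M) :
    ∑ q : QuaternionGroup 2, F q =
      (F (a 0) + F (a 1) + F (a 2) + F (a 3)) + (F (xa 0) + F (xa 1) + F (xa 2) + F (xa 3)) := by
  rw [← Equiv.sum_comp qHelper F, Fintype.sum_sum_type]
  have h4 : ∀ H : ZMod 4 → M, ∑ i : ZMod 4, H i = H 0 + H 1 + H 2 + H 3 := by
    intro H
    exact Fin.sum_univ_four H
  rw [h4, h4]
  rfl

/-- Sum over a group isomorphic to `QuaternionGroup 2`. -/
theorem sum_of_equiv {S' : Type*} [Group S'] [Fintype S'] (e : S' ≃* QuaternionGroup 2)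
    {M : Type*} [AddCommMonoid M] (F : S' → M) :
    ∑ s : S', F s =
      (F (e.symm (a 0)) + F (e.symm (a 1)) + F (e.symm (a 2)) + F (e.symm (a 3))) +
      (F (e.symm (xa 0)) + F (e.symm (xa 1)) + F (e.symm (xa 2)) + F (e.symm (xa 3))) := by
  rw [← q_sum (fun q => F (e.symm q))]
  exact (Equiv.sum_comp e.symm.toEquiv F).symm

/-- Sum over the cyclic group generated by an element of order four. -/
theorem sum_zpowers_four {G : Type*} [Group G] {u : G} (h : orderOf u = 4)
    [Fintype ↥(Subgroup.zpowers u)] {M : Type*} [AddCommMonoid M]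
    (F : ↥(Subgroup.zpowers u) → M) :
    ∑ y : ↥(Subgroup.zpowers u), F y =
      F 1 + F ⟨u, Subgroup.mem_zpowers u⟩ +
        F ⟨u ^ 2, Subgroup.pow_mem _ (Subgroup.mem_zpowers u) 2⟩ +
        F ⟨u ^ 3, Subgroup.pow_mem _ (Subgroup.mem_zpowers u) 3⟩ := by
  have hfin : IsOfFinOrder u := by
    rw [← orderOf_pos_iff, h]; norm_num
  let f : Fin 4 ≃ ↥(Subgroup.zpowers u) := (finCongr h.symm).trans (finEquivZPowers hfin)
  rw [← Equiv.sum_comp f F, Fin.sum_univ_four]
  have h0 : f 0 = 1 := by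
    apply Subtype.ext
    simp [f, finEquivZPowers_apply]
  have h1 : f 1 = ⟨u, Subgroup.mem_zpowers u⟩ := by
    apply Subtype.ext
    simp [f, finEquivZPowers_apply]
  have h2 : f 2 = ⟨u ^ 2, Subgroup.pow_mem _ (Subgroup.mem_zpowers u) 2⟩ := by
    apply Subtype.ext
    simp [f, finEquivZPowers_apply]
  have h3 : f 3 = ⟨u ^ 3, Subgroup.pow_mem _ (Subgroup.mem_zpowers u) 3⟩ := by
    apply Subtype.ext
    simp [f, finEquivZPowers_apply]
  rw [h0, h1, h2, h3]

/-! ### Integrality of multiplicities -/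

/-- The multiplicity of a linear character of a subgroup `H` in the restriction of a character
of `G` is a natural number. -/
theorem inner_linear_nat {G : Type*} [Group G] [Finite G] {χ : G → ℂ} (hχ : Cfsg.IsCharacter G χ)
    (H : Subgroup G) [Fintype ↥H] (lam : ↥H →* ℂˣ) :
    ∃ n : ℕ, (Nat.card ↥H : ℂ)⁻¹ * ∑ h : ↥H, χ (h : G) * conj ((lam h : ℂˣ) : ℂ) = (n : ℂ) := by
  have h1 := Cfsg.Agent.Lib.Helper2.IsCharacter.restrict hχ H
  obtain ⟨n, hn⟩ := Cfsg.Agent.Lib.Helper11.IsCharacter.inner_irr_nat h1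
    ⟨fun h => ((lam h : ℂˣ) : ℂ), Cfsg.Agent.Lib.Helper25.isIrrCharacter_of_hom lam⟩
  refine ⟨n, ?_⟩
  rw [← hn]
  unfold Cfsg.classInner
  rfl

/-! ### Linear characters -/

/-- The linear character of `QuaternionGroup 2` with kernel `⟨a 1⟩`. -/
noncomputable def lamA : QuaternionGroup 2 →* ℂˣ :=
  MonoidHom.mk' (fun q => match q with
    | a _ => 1
    | xa _ => -1) (by
    rintro (i | i) (j | j) <;> simp [QuaternionGroup.a_mul_a, QuaternionGroup.a_mul_xa,
      QuaternionGroup.xa_mul_a, QuaternionGroup.xa_mul_xa])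

@[simp] theorem lamA_a (i : ZMod 4) : lamA (a i) = 1 := rfl

@[simp] theorem lamA_xa (i : ZMod 4) : lamA (xa i) = -1 := rfl

end Cfsg.Agent.Lib.Helper9.BSQ8
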