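import Mathlib
import Cfsg.Prelude.Def_Characters
import Cfsg.Prelude.Def_Blocks
import Cfsg.Agent.Lib.Helper9.BSQ8Char1
import Cfsg.Agent.Lib.Helper2.Regular

/-!
Brauer–Suzuki for `Q₈`: the cyclic subgroup `P = ⟨u⟩`, its linear characters, the generalized
character `θ = 1 - sgn`, and the numerical data attached to an irreducible character.
-/

set_option autoImplicit false
set_option linter.unusedSectionVars false

namespace Cfsg.Agent.Lib.Helper9.BSQ8

open QuaternionGroup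
open scoped ComplexConjugate

universe u

variable {G : Type u} [Group G] [Finite G] (S : Sylow 2 G)
  (e : ↥(S : Subgroup G) ≃* QuaternionGroup 2)

/-- the generator of `P = ⟨u⟩` -/
noncomputable def gen : ↥(Subgroup.zpowers (ug S e)) := ⟨ug S e, Subgroup.mem_zpowers _⟩

theorem gen_spec : ∀ x : ↥(Subgroup.zpowers (ug S e)), x ∈ Subgroup.zpowers (gen S e) := by
  rintro ⟨x, hx⟩
  obtain ⟨k, rfl⟩ := Subgroup.mem_zpowers_iff.mp hx
  rw [Subgroup.mem_zpowers_iff]
  exact ⟨k, by apply Subtype.ext; simp [gen]⟩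

theorem orderOf_ug : orderOf (ug S e) = 4 := orderOf_of_sq S e (ug_sq S e)

theorem orderOf_gen : orderOf (gen S e) = 4 := by
  rw [gen, Subgroup.orderOf_mk, orderOf_ug]

theorem orderOf_neg_one_dvd : orderOf (-1 : ℂˣ) ∣ orderOf (gen S e) := by
  rw [orderOf_gen]
  apply orderOf_dvd_of_pow_eq_one
  norm_num

/-- the unit `i` -/
noncomputable def Iu : ℂˣ := Units.mk0 Complex.I Complex.I_ne_zero

theorem Iu_sq : (Iu : ℂˣ) ^ 2 = -1 := by
  apply Units.ext
  simp [Iu]

theorem orderOf_Iu_dvd : orderOf Iu ∣ orderOf (gen S e) := by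
  rw [orderOf_gen]
  apply orderOf_dvd_of_pow_eq_one
  apply Units.ext
  simp [Iu, Complex.I_pow_four]

/-- the sign character of `P` -/
noncomputable def sgnP : ↥(Subgroup.zpowers (ug S e)) →* ℂˣ :=
  monoidHomOfForallMemZpowers (gen_spec S e) (orderOf_neg_one_dvd S e)

/-- a faithful character of `P` -/
noncomputable def muP : ↥(Subgroup.zpowers (ug S e)) →* ℂˣ :=
  monoidHomOfForallMemZpowers (gen_spec S e) (orderOf_Iu_dvd S e)

theorem sgnP_gen : sgnP S e (gen S e) = -1 :=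
  monoidHomOfForallMemZpowers_apply_gen (gen_spec S e) (orderOf_neg_one_dvd S e)

theorem muP_gen : muP S e (gen S e) = Iu :=
  monoidHomOfForallMemZpowers_apply_gen (gen_spec S e) (orderOf_Iu_dvd S e)

/-- `θ = 1 - sgn` -/
noncomputable def theta : ↥(Subgroup.zpowers (ug S e)) → ℂ :=
  fun y => 1 - ((sgnP S e y : ℂˣ) : ℂ)

theorem theta_isGeneralizedCharacter :
    Cfsg.IsGeneralizedCharacter ↥(Subgroup.zpowers (ug S e)) (theta S e) := by
  refine ⟨fun _ => 1, fun y => ((sgnP S e y : ℂˣ) : ℂ), ?_, ?_, rfl⟩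
  · exact Cfsg.Agent.Lib.Helper2.IsIrrCharacter.isCharacter
      Cfsg.Agent.Lib.Helper25.isIrrCharacter_one
  · exact Cfsg.Agent.Lib.Helper2.IsIrrCharacter.isCharacter
      (Cfsg.Agent.Lib.Helper25.isIrrCharacter_of_hom (sgnP S e))

theorem sgnP_pow (k : ℕ) : ((sgnP S e (gen S e ^ k) : ℂˣ) : ℂ) = (-1) ^ k := by
  rw [map_pow, sgnP_gen]; simp

theorem muP_pow (k : ℕ) : ((muP S e (gen S e ^ k) : ℂˣ) : ℂ) = Complex.I ^ k := by
  rw [map_pow, muP_gen]; simp [Iu]

theorem theta_inv (y : ↥(Subgroup.zpowers (ug S e))) : theta S e y⁻¹ = theta S e y := by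
  obtain ⟨k, rfl⟩ := Subgroup.mem_zpowers_iff.mp (gen_spec S e y)
  unfold theta
  rw [map_inv, map_zpow, sgnP_gen]
  congr 1
  rw [← zpow_neg]
  rcases Int.even_or_odd k with h | h
  · rw [Even.neg_one_zpow h, Even.neg_one_zpow h.neg]
  · rw [Odd.neg_one_zpow h, Odd.neg_one_zpow h.neg]

open Classical in
/-- `θ` in closed form. -/
theorem theta_eq (y : ↥(Subgroup.zpowers (ug S e))) :
    theta S e y = if (y : G) ^ 2 = 1 then 0 else 2 := by
  obtain ⟨k, rfl⟩ := Subgroup.mem_zpowers_iff.mp (gen_spec S e y)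
  have hval : ((gen S e ^ k : ↥(Subgroup.zpowers (ug S e))) : G) = ug S e ^ k := by
    simp [gen]
  rw [hval]
  unfold theta
  rw [map_zpow, sgnP_gen]
  have h4 := orderOf_ug S e
  rcases Int.even_or_odd k with h | h
  · rw [Even.neg_one_zpow h]
    obtain ⟨j, rfl⟩ := h
    have : (ug S e ^ (j + j)) ^ 2 = 1 := by
      rw [← zpow_natCast, ← zpow_mul]
      have : (j + j) * ((2 : ℕ) : ℤ) = ((4 : ℕ) : ℤ) * j := by push_cast; ring
      rw [this, zpow_mul, zpow_natCast, ← h4, pow_orderOf_eq_one, one_zpow]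
    rw [if_pos this]; simp
  · rw [Odd.neg_one_zpow h]
    obtain ⟨j, rfl⟩ := h
    have : (ug S e ^ (2 * j + 1)) ^ 2 ≠ 1 := by
      rw [← zpow_natCast, ← zpow_mul]
      have h1 : (2 * j + 1) * ((2 : ℕ) : ℤ) = ((4 : ℕ) : ℤ) * j + 2 := by push_cast; ring
      rw [h1, zpow_add, zpow_mul, zpow_natCast, ← h4, pow_orderOf_eq_one, one_zpow, one_mul]
      have : ug S e ^ (2 : ℤ) = ug S e ^ 2 := by norm_cast
      rw [this, ug_sq]
      exact tt_ne_one S e
    rw [if_neg this]; norm_num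


theorem ug_pow_four : ug S e ^ 4 = 1 := by
  rw [← orderOf_ug S e, pow_orderOf_eq_one]

theorem ug_pow_three : ug S e ^ 3 = (ug S e)⁻¹ := by
  have h := ug_pow_four S e
  have : ug S e ^ 3 * ug S e = 1 := by rw [← pow_succ]; exact h
  exact eq_inv_of_mul_eq_one_left this

theorem inv_sq_eq : ((ug S e)⁻¹) ^ 2 = tt S e := by
  rw [inv_pow, ug_sq]
  have := tt_sq S e
  rw [pow_two] at this
  exact inv_eq_self_of_sq this

/-- a class function takes the same value on `u` and `u⁻¹` -/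
theorem apply_inv_ug {χ : G → ℂ} (hχ : Cfsg.IsClassFunction G χ) :
    χ ((ug S e)⁻¹) = χ (ug S e) := by
  obtain ⟨w, hw⟩ := exists_conj_inv S e (ug_mem S e) (ug_sq S e)
  rw [← hw]
  exact hχ _ _

theorem card_P : Nat.card ↥(Subgroup.zpowers (ug S e)) = 4 := by
  rw [Nat.card_zpowers, orderOf_ug]

theorem theta_one : theta S e 1 = 0 := by
  rw [theta_eq]; simp

theorem theta_gen : theta S e ⟨ug S e, Subgroup.mem_zpowers _⟩ = 2 := by
  rw [theta_eq, if_neg]
  show ug S e ^ 2 ≠ 1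
  rw [ug_sq]; exact tt_ne_one S e

theorem theta_gen_sq :
    theta S e ⟨ug S e ^ 2, Subgroup.pow_mem _ (Subgroup.mem_zpowers _) 2⟩ = 0 := by
  rw [theta_eq, if_pos]
  show (ug S e ^ 2) ^ 2 = 1
  rw [ug_sq, tt_sq]

theorem theta_gen_cube :
    theta S e ⟨ug S e ^ 3, Subgroup.pow_mem _ (Subgroup.mem_zpowers _) 3⟩ = 2 := by
  rw [theta_eq, if_neg]
  show (ug S e ^ 3) ^ 2 ≠ 1
  rw [ug_pow_three, inv_sq_eq]; exact tt_ne_one S e

/-- The coefficient `a_χ(θ)` equals `χ(u)`. -/
theorem coeff_eq {χ : G → ℂ} (hχ : Cfsg.IsClassFunction G χ) :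
    (Nat.card ↥(Subgroup.zpowers (ug S e)) : ℂ)⁻¹ *
      ∑ᶠ y : ↥(Subgroup.zpowers (ug S e)), χ (y : G) * theta S e y⁻¹ = χ (ug S e) := by
  have : Fintype ↥(Subgroup.zpowers (ug S e)) := Fintype.ofFinite _
  rw [finsum_eq_sum_of_fintype, card_P, sum_zpowers_four (orderOf_ug S e)]
  simp only [theta_inv, theta_one, theta_gen, theta_gen_sq, theta_gen_cube]
  have h3 : χ (ug S e ^ 3) = χ (ug S e) := by
    rw [ug_pow_three]; exact apply_inv_ug S e hχ
  simp only [h3]
  push_cast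
  ring

/-- The average of `θ` is `1`. -/
theorem theta_avg :
    (Nat.card ↥(Subgroup.zpowers (ug S e)) : ℂ)⁻¹ *
      ∑ᶠ y : ↥(Subgroup.zpowers (ug S e)), theta S e y = 1 := by
  have : Fintype ↥(Subgroup.zpowers (ug S e)) := Fintype.ofFinite _
  rw [finsum_eq_sum_of_fintype, card_P, sum_zpowers_four (orderOf_ug S e)]
  simp only [theta_one, theta_gen, theta_gen_sq, theta_gen_cube]
  push_cast
  ring

theorem zpowers_le : Subgroup.zpowers (ug S e) ≤ (S : Subgroup G) :=
  Subgroup.zpowers_le.mpr (ug_mem S e)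

theorem conj_mem_zpowers {x w : G} (hx : x ∈ (S : Subgroup G))
    (hw : w ∈ Subgroup.zpowers (ug S e)) : x * w * x⁻¹ ∈ Subgroup.zpowers (ug S e) := by
  rcases conj_eq_or_G S e hx (zpowers_le S e hw) with h | h
  · rw [h]; exact hw
  · rw [h]; exact Subgroup.inv_mem _ hw

open Classical in
/-- The right-hand side of the column identity equals `4`. -/
theorem rhs_eq :
    (((1 : ℚ) : ℂ) / ((Nat.card ↥(Subgroup.zpowers (ug S e)) : ℂ) ^ 2)) *
      ∑ᶠ y : ↥(Subgroup.zpowers (ug S e)), theta S e y *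
        (starRingEnd ℂ) (∑ᶠ x : ↥(S : Subgroup G),
          Cfsg.extendByZero (Subgroup.zpowers (ug S e)) (theta S e)
            ((x : G) * (y : G) * (x : G)⁻¹)) = 4 := by
  have : Fintype ↥(Subgroup.zpowers (ug S e)) := Fintype.ofFinite _
  have : Fintype ↥(S : Subgroup G) := Fintype.ofFinite _
  have hinner : ∀ y : ↥(Subgroup.zpowers (ug S e)),
      (∑ᶠ x : ↥(S : Subgroup G), Cfsg.extendByZero (Subgroup.zpowers (ug S e)) (theta S e)
        ((x : G) * (y : G) * (x : G)⁻¹)) = 8 * theta S e y := by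
    intro y
    rw [finsum_eq_sum_of_fintype]
    have : ∀ x : ↥(S : Subgroup G), Cfsg.extendByZero (Subgroup.zpowers (ug S e)) (theta S e)
        ((x : G) * (y : G) * (x : G)⁻¹) = theta S e y := by
      intro x
      have hmem := conj_mem_zpowers S e x.2 y.2
      unfold Cfsg.extendByZero
      have h1 : ((x : G) * (y : G) * (x : G)⁻¹) =
          ((⟨_, hmem⟩ : ↥(Subgroup.zpowers (ug S e))) : G) := rfl
      rw [h1, Subtype.val_injective.extend_apply, theta_eq, theta_eq]
      have h2 : ((x : G) * (y : G) * (x : G)⁻¹) ^ 2 = 1 ↔ (y : G) ^ 2 = 1 := by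
        have : ((x : G) * (y : G) * (x : G)⁻¹) ^ 2 = (x : G) * (y : G) ^ 2 * (x : G)⁻¹ := by
          rw [pow_two, pow_two]; group
        rw [this]
        constructor
        · intro h
          have := congrArg (fun z => (x : G)⁻¹ * z * (x : G)) h
          simpa [mul_assoc] using this
        · intro h; rw [h]; group
      simp only [h2]
    rw [Finset.sum_congr rfl (fun x _ => this x), Finset.sum_const, Finset.card_univ,
      ← Nat.card_eq_fintype_card, card_eq e]
    simp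
  have hreal : ∀ y : ↥(Subgroup.zpowers (ug S e)),
      (starRingEnd ℂ) (8 * theta S e y) = 8 * theta S e y := by
    intro y
    rw [theta_eq]
    split_ifs
    · simp
    · have h8 : (starRingEnd ℂ) (8 : ℂ) = 8 := Complex.conj_ofNat 8
      have h2' : (starRingEnd ℂ) (2 : ℂ) = 2 := Complex.conj_ofNat 2
      rw [map_mul, h8, h2']
  simp only [hinner, hreal]
  rw [finsum_eq_sum_of_fintype, card_P, sum_zpowers_four (orderOf_ug S e)]
  simp only [theta_one, theta_gen, theta_gen_sq, theta_gen_cube]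
  push_cast
  norm_num


theorem sum_P [Fintype ↥(Subgroup.zpowers (ug S e))] {M : Type*} [AddCommMonoid M]
    (F : ↥(Subgroup.zpowers (ug S e)) → M) :
    ∑ y : ↥(Subgroup.zpowers (ug S e)), F y =
      F (gen S e ^ 0) + F (gen S e ^ 1) + F (gen S e ^ 2) + F (gen S e ^ 3) := by
  rw [sum_zpowers_four (orderOf_ug S e), pow_zero, pow_one]
  rfl

theorem coe_gen : ((gen S e : ↥(Subgroup.zpowers (ug S e))) : G) = ug S e := rfl

theorem coe_gen_pow (k : ℕ) : ((gen S e ^ k : ↥(Subgroup.zpowers (ug S e))) : G) = ug S e ^ k := by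
  simp [gen]

/-! ### The numerical data of an irreducible character -/

/-- the linear character of `S` with kernel `⟨u⟩` -/
noncomputable def lamS : ↥(S : Subgroup G) →* ℂˣ := lamA.comp e.toMonoidHom

theorem lamS_apply (s : ↥(S : Subgroup G)) : lamS S e s = lamA (e s) := rfl

theorem coe_symm_a_zero : ((e.symm (a 0) : ↥(S : Subgroup G)) : G) = 1 := by
  have : (a 0 : QuaternionGroup 2) = 1 := rfl
  rw [this, map_one]; rfl

theorem coe_symm_a_one : ((e.symm (a 1) : ↥(S : Subgroup G)) : G) = ug S e := rfl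

theorem coe_symm_a_two : ((e.symm (a 2) : ↥(S : Subgroup G)) : G) = tt S e := rfl

theorem coe_symm_sq (q : QuaternionGroup 2) (h0 : q ≠ a 0) (h2 : q ≠ a 2) :
    ((e.symm q : ↥(S : Subgroup G)) : G) ^ 2 = tt S e := by
  have h := q_sq_of_ne q h0 h2
  have : (e.symm q) ^ 2 = zz e := by
    rw [← map_pow, h]; rfl
  have := congrArg Subtype.val this
  simpa [tt] using this

/-- The numerical data attached to an irreducible character, assuming that all elements of order
four of `S` are conjugate to `u`. -/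
theorem char_data
    (hfus : ∀ x ∈ (S : Subgroup G), x ^ 2 = tt S e → ∃ g : G, g * ug S e * g⁻¹ = x)
    {χ : G → ℂ} (hχ : Cfsg.IsIrrCharacter G χ) :
    ∃ (n m k : ℕ) (c : ℤ), n ≠ 0 ∧ χ 1 = (n : ℂ) ∧ χ (ug S e) = (c : ℂ) ∧
      χ (tt S e) = (n : ℂ) - 4 * (m : ℂ) ∧ (n : ℤ) = 4 * (k : ℤ) + c + 2 * (m : ℤ) := by
  have : Fintype ↥(Subgroup.zpowers (ug S e)) := Fintype.ofFinite _
  have : Fintype ↥(S : Subgroup G) := Fintype.ofFinite _
  have hch := Cfsg.Agent.Lib.Helper2.IsIrrCharacter.isCharacter hχ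
  have hcf := Cfsg.Agent.Lib.Helper2.IsCharacter.isClassFunction hch
  obtain ⟨n, hn0, hn⟩ := Cfsg.Agent.Lib.Helper2.IsIrrCharacter.apply_one hχ
  have h3 : χ (ug S e ^ 3) = χ (ug S e) := by
    rw [ug_pow_three]; exact apply_inv_ug S e hcf
  have hconj : ∀ x ∈ (S : Subgroup G), x ^ 2 = tt S e → χ x = χ (ug S e) := by
    intro x hx hx2
    obtain ⟨g, rfl⟩ := hfus x hx hx2
    exact hcf _ _
  -- multiplicities on `P`
  obtain ⟨n₁, hn₁⟩ := inner_linear_nat hch (Subgroup.zpowers (ug S e)) 1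
  obtain ⟨n₂, hn₂⟩ := inner_linear_nat hch (Subgroup.zpowers (ug S e)) (sgnP S e)
  obtain ⟨m, hm⟩ := inner_linear_nat hch (Subgroup.zpowers (ug S e)) (muP S e)
  obtain ⟨k, hk⟩ := inner_linear_nat hch (S : Subgroup G) (lamS S e)
  rw [card_P, sum_P] at hn₁ hn₂ hm
  simp only [coe_gen_pow, pow_zero, pow_one, h3, ug_sq, Subgroup.coe_one, coe_gen] at hn₁ hn₂ hm
  -- evaluate the linear characters
  simp only [MonoidHom.one_apply, Units.val_one, map_one, mul_one] at hn₁
  have s0 : ((sgnP S e 1 : ℂˣ) : ℂ) = 1 := by simp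
  have s1 : ((sgnP S e (gen S e) : ℂˣ) : ℂ) = -1 := by rw [sgnP_gen]; simp
  have s2 := sgnP_pow S e 2
  have s3 := sgnP_pow S e 3
  have m0 : ((muP S e 1 : ℂˣ) : ℂ) = 1 := by simp
  have m1 : ((muP S e (gen S e) : ℂˣ) : ℂ) = Complex.I := by rw [muP_gen]; rfl
  have m2 := muP_pow S e 2
  have m3 := muP_pow S e 3
  rw [s0, s1, s2, s3] at hn₂
  rw [m0, m1, m2, m3] at hm
  -- the sum over `S`
  rw [card_eq e, sum_of_equiv e] at hk
  simp only [lamS_apply, MulEquiv.apply_symm_apply, lamA_a, lamA_xa, coe_symm_a_zero,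
    coe_symm_a_one, coe_symm_a_two] at hk
  have e3 := hconj _ (e.symm (a 3)).2 (coe_symm_sq S e (a 3) (by decide) (by decide))
  have x0 := hconj _ (e.symm (xa 0)).2 (coe_symm_sq S e (xa 0) (by decide) (by decide))
  have x1 := hconj _ (e.symm (xa 1)).2 (coe_symm_sq S e (xa 1) (by decide) (by decide))
  have x2 := hconj _ (e.symm (xa 2)).2 (coe_symm_sq S e (xa 2) (by decide) (by decide))
  have x3 := hconj _ (e.symm (xa 3)).2 (coe_symm_sq S e (xa 3) (by decide) (by decide))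
  rw [e3, x0, x1, x2, x3] at hk
  set X := χ 1 with hX
  set Y := χ (tt S e) with hY
  set C := χ (ug S e) with hC
  have hconjI : (starRingEnd ℂ) Complex.I = -Complex.I := Complex.conj_I
  simp only [map_one, map_neg, map_pow, hconjI, Units.val_one, Units.val_neg,
    mul_one] at hn₂ hm hk
  have hI2 : Complex.I ^ 2 = -1 := Complex.I_sq
  have hI3 : (-Complex.I) ^ 3 = Complex.I := by
    have : (-Complex.I) ^ 3 = -(Complex.I ^ 2 * Complex.I) := by ring
    rw [this, hI2]; ring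
  have hnI2 : (-Complex.I) ^ 2 = -1 := by
    have : (-Complex.I) ^ 2 = Complex.I ^ 2 := by ring
    rw [this, hI2]
  rw [hI3, hnI2] at hm
  -- now solve
  have eC : C = ((n₁ : ℤ) - (n₂ : ℤ) : ℤ) := by
    push_cast
    have e1 : X + C + Y + C = 4 * (n₁ : ℂ) := by
      have := hn₁
      field_simp at this
      linear_combination this
    have e2 : X - C + Y - C = 4 * (n₂ : ℂ) := by
      have := hn₂
      field_simp at this
      linear_combination this
    linear_combination (1 / 4 : ℂ) * e1 - (1 / 4 : ℂ) * e2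
  have eY : Y = (n : ℂ) - 4 * (m : ℂ) := by
    have e3' : X - Y = 4 * (m : ℂ) := by
      have := hm
      field_simp at this
      linear_combination this
    rw [← hn]
    linear_combination -e3'
  refine ⟨n, m, k, (n₁ : ℤ) - (n₂ : ℤ), hn0.ne', hn, eC, eY, ?_⟩
  have e4 : X + Y - 2 * C = 8 * (k : ℂ) := by
    have := hk
    field_simp at this
    linear_combination this
  have e5 : (n : ℂ) = 4 * (k : ℂ) + (((n₁ : ℤ) - (n₂ : ℤ) : ℤ) : ℂ) + 2 * (m : ℂ) := by
    rw [← eC, ← hn]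
    rw [eY, ← hn] at e4
    linear_combination (1 / 2 : ℂ) * e4
  exact_mod_cast e5

end Cfsg.Agent.Lib.Helper9.BSQ8
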