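import Mathlib

/-!
A combinatorial lemma: integers `c i` with `∑ c i ^ 2 = 4`, at least two positive and at least
two negative.
-/

set_option autoImplicit false

namespace Cfsg.Agent.Lib.Helper9.BSQ8

theorem four_terms {ι : Type*} [DecidableEq ι] (B : Finset ι) (c : ι → ℤ)
    (h0 : ∑ i ∈ B, (c i) ^ 2 = 4)
    (hpos : 2 ≤ (B.filter (fun i => 0 < c i)).card)
    (hneg : 2 ≤ (B.filter (fun i => c i < 0)).card) :
    ∃ p₁ p₂ q₁ q₂ : ι, p₁ ∈ B ∧ p₂ ∈ B ∧ q₁ ∈ B ∧ q₂ ∈ B ∧ p₁ ≠ p₂ ∧ q₁ ≠ q₂ ∧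
      c p₁ = 1 ∧ c p₂ = 1 ∧ c q₁ = -1 ∧ c q₂ = -1 ∧
      (∀ i ∈ B, 0 < c i → i = p₁ ∨ i = p₂) ∧
      ∀ f : ι → ℂ, ∑ i ∈ B, (c i : ℂ) * f i = f p₁ + f p₂ - f q₁ - f q₂ := by
  classical
  set Pos := B.filter (fun i => 0 < c i) with hPos
  set Neg := B.filter (fun i => c i < 0) with hNeg
  have hcardP : (Pos.card : ℤ) = ∑ i ∈ B, (if 0 < c i then (1 : ℤ) else 0) := by
    rw [hPos, Finset.card_filter]; push_cast; rfl
  have hcardN : (Neg.card : ℤ) = ∑ i ∈ B, (if c i < 0 then (1 : ℤ) else 0) := by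
    rw [hNeg, Finset.card_filter]; push_cast; rfl
  have hterm : ∀ i ∈ B, 0 ≤ (c i) ^ 2 - (if 0 < c i then (1 : ℤ) else 0) -
      (if c i < 0 then (1 : ℤ) else 0) := by
    intro i _
    rcases lt_trichotomy (c i) 0 with h | h | h
    · rw [if_neg (by omega), if_pos h]; nlinarith
    · rw [h]; simp
    · rw [if_pos h, if_neg (by omega)]; nlinarith
  have hsum : ∑ i ∈ B, ((c i) ^ 2 - (if 0 < c i then (1 : ℤ) else 0) -
      (if c i < 0 then (1 : ℤ) else 0)) = 4 - Pos.card - Neg.card := by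
    rw [Finset.sum_sub_distrib, Finset.sum_sub_distrib, h0, ← hcardP, ← hcardN]
  have hnn := Finset.sum_nonneg hterm
  rw [hsum] at hnn
  have hP2 : Pos.card = 2 := by omega
  have hN2 : Neg.card = 2 := by omega
  have hzero : ∑ i ∈ B, ((c i) ^ 2 - (if 0 < c i then (1 : ℤ) else 0) -
      (if c i < 0 then (1 : ℤ) else 0)) = 0 := by
    rw [hsum, hP2, hN2]; norm_num
  have hall := (Finset.sum_eq_zero_iff_of_nonneg hterm).mp hzero
  have hval : ∀ i ∈ B, (0 < c i → c i = 1) ∧ (c i < 0 → c i = -1) := by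
    intro i hi
    have := hall i hi
    constructor
    · intro h
      rw [if_pos h, if_neg (by omega)] at this
      nlinarith
    · intro h
      rw [if_neg (by omega), if_pos h] at this
      nlinarith
  obtain ⟨p₁, p₂, hp12, hPeq⟩ := Finset.card_eq_two.mp hP2
  obtain ⟨q₁, q₂, hq12, hNeq⟩ := Finset.card_eq_two.mp hN2
  have hp₁ : p₁ ∈ Pos := by rw [hPeq]; simp
  have hp₂ : p₂ ∈ Pos := by rw [hPeq]; simp
  have hq₁ : q₁ ∈ Neg := by rw [hNeq]; simp
  have hq₂ : q₂ ∈ Neg := by rw [hNeq]; simp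
  rw [hPos, Finset.mem_filter] at hp₁ hp₂
  rw [hNeg, Finset.mem_filter] at hq₁ hq₂
  refine ⟨p₁, p₂, q₁, q₂, hp₁.1, hp₂.1, hq₁.1, hq₂.1, hp12, hq12, (hval _ hp₁.1).1 hp₁.2,
    (hval _ hp₂.1).1 hp₂.2, (hval _ hq₁.1).2 hq₁.2, (hval _ hq₂.1).2 hq₂.2, ?_, ?_⟩
  · intro i hi hci
    have : i ∈ Pos := by rw [hPos, Finset.mem_filter]; exact ⟨hi, hci⟩
    rw [hPeq] at this
    simpa using this
  · intro f
    have hsplit : ∀ i ∈ B, (c i : ℂ) * f i =
        (if 0 < c i then f i else 0) - (if c i < 0 then f i else 0) := by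
      intro i hi
      rcases lt_trichotomy (c i) 0 with h | h | h
      · rw [if_neg (by omega), if_pos h, (hval i hi).2 h]; push_cast; ring
      · rw [h]; simp
      · rw [if_pos h, if_neg (by omega), (hval i hi).1 h]; push_cast; ring
    rw [Finset.sum_congr rfl hsplit, Finset.sum_sub_distrib, ← Finset.sum_filter,
      ← Finset.sum_filter, ← hPos, ← hNeg, hPeq, hNeq, Finset.sum_pair hp12, Finset.sum_pair hq12]
    ring

end Cfsg.Agent.Lib.Helper9.BSQ8
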