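import Mathlib
import Cfsg.Prelude.Def_Characters
import Cfsg.Prelude.Def_Blocks
import Cfsg.Agent.Lib.Helper9.BSQ8Arith
import Cfsg.Agent.Lib.Helper9.BSQ8Char2
import Cfsg.Agent.Lib.Helper9.BSQ8Block
import Cfsg.Agent.Lib.Helper9.BSQ8Comb
import Cfsg.Agent.Lib.Helper24.Principal
import Cfsg.Agent.Lib.Helper25.Kernel
import Cfsg.Agent.Lib.Helper25.EvenDegree
import Cfsg.Agent.Lib.Helper2.Expansion
import Cfsg.Agent.S4720
import Cfsg.Agent.S4722

/-!
The Brauer–Suzuki theorem for a quaternion Sylow `2`-subgroup of order `8`.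
-/

set_option autoImplicit false
set_option linter.unusedSectionVars false

namespace Cfsg.Agent.Lib.Helper9.BSQ8

open QuaternionGroup
open scoped ComplexConjugate

universe u

variable {G : Type u} [Group G] [Finite G] (S : Sylow 2 G)
  (e : ↥(S : Subgroup G) ≃* QuaternionGroup 2)

/-- the set `U = {u, u⁻¹}` -/
def UU : Set G := {ug S e, (ug S e)⁻¹}

theorem UU_spec {y : G} (hy : y ∈ UU S e) : y ∈ (S : Subgroup G) ∧ y ^ 2 = tt S e := by
  rcases hy with rfl | hy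
  · exact ⟨ug_mem S e, ug_sq S e⟩
  · rw [Set.mem_singleton_iff] at hy
    subst hy
    exact ⟨Subgroup.inv_mem _ (ug_mem S e), inv_sq_eq S e⟩

theorem UU_subset : UU S e ⊆ (Subgroup.zpowers (ug S e) : Set G) := by
  intro y hy
  rcases hy with rfl | hy
  · exact Subgroup.mem_zpowers _
  · rw [Set.mem_singleton_iff] at hy
    subst hy
    exact Subgroup.inv_mem _ (Subgroup.mem_zpowers _)

theorem mem_UU_of_mem_zpowers {z : G} (hz : z ∈ Subgroup.zpowers (ug S e))
    (hz4 : orderOf z = 4) : z ∈ UU S e := by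
  rcases inCycG_of_mem_zpowers S e (ug_mem S e) (ug_sq S e) hz with h | h | h | h
  · rw [h, orderOf_one] at hz4; omega
  · rw [h, orderOf_tt] at hz4; omega
  · left; exact h
  · right; exact h

theorem theta_eq_zero_of_not_mem (y : ↥(Subgroup.zpowers (ug S e))) (hy : (y : G) ∉ UU S e) :
    theta S e y = 0 := by
  classical
  rw [theta_eq, if_pos]
  rcases inCycG_of_mem_zpowers S e (ug_mem S e) (ug_sq S e) y.2 with h | h | h | h
  · rw [h, one_pow]
  · rw [h, tt_sq]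
  · exact absurd (Or.inl h) hy
  · exact absurd (Or.inr h) hy

theorem le_normalizer_P :
    (S : Subgroup G) ≤ Subgroup.normalizer ((Subgroup.zpowers (ug S e) : Subgroup G) : Set G) := by
  intro x hx
  rw [Subgroup.mem_normalizer_iff]
  intro h
  constructor
  · exact conj_mem_zpowers S e hx
  · intro hh
    have := conj_mem_zpowers S e (Subgroup.inv_mem _ hx) hh
    have e1 : x⁻¹ * (x * h * x⁻¹) * x⁻¹⁻¹ = h := by group
    rwa [e1] at this

theorem UU_conj {n : G} (hn : n ∈ (S : Subgroup G)) {y : G} (hy : y ∈ UU S e) :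
    n * y * n⁻¹ ∈ UU S e := by
  have h1 := conj_eq_or_G S e hn (ug_mem S e)
  rcases hy with rfl | hy
  · rcases h1 with h | h
    · left; exact h
    · right; exact h
  · rw [Set.mem_singleton_iff] at hy
    subst hy
    have h2 : n * (ug S e)⁻¹ * n⁻¹ = (n * ug S e * n⁻¹)⁻¹ := by group
    rw [h2]
    rcases h1 with h | h
    · right; rw [h]; rfl
    · left; rw [h, inv_inv]

theorem UU_fusion {y : G} (hy : y ∈ UU S e) (g : G)
    (hg : g * y * g⁻¹ ∈ (Subgroup.zpowers (ug S e) : Set G)) :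
    ∃ n ∈ (S : Subgroup G), n * y * n⁻¹ = g * y * g⁻¹ := by
  obtain ⟨hyS, hy2⟩ := UU_spec S e hy
  have h4 : orderOf (g * y * g⁻¹) = 4 := by
    rw [orderOf_conj_eq, orderOf_of_sq S e hy2]
  have hz := mem_UU_of_mem_zpowers S e hg h4
  have hcases : g * y * g⁻¹ = y ∨ g * y * g⁻¹ = y⁻¹ := by
    rcases hy with rfl | hy
    · rcases hz with h | h
      · left; exact h
      · right; exact h
    · rw [Set.mem_singleton_iff] at hy
      subst hy
      rcases hz with h | h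
      · right; rw [h, inv_inv]
      · left; exact h
  rcases hcases with h | h
  · exact ⟨1, Subgroup.one_mem _, by rw [h]; group⟩
  · obtain ⟨w, hw⟩ := exists_invert e (⟨y, hyS⟩ : ↥(S : Subgroup G))
      (by apply Subtype.ext; simpa [tt] using hy2)
    refine ⟨(w : G), w.2, ?_⟩
    rw [h]
    simpa using congrArg Subtype.val hw


theorem hw_UU (M : Ideal Cfsg.AlgInt) (hM : Cfsg.IsPModular 2 M) {y : G} (hy : y ∈ UU S e) :
    ((∑ᶠ ψ ∈ Cfsg.principalBlock M ↥(Subgroup.centralizer ({y} : Set G)),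
      Cfsg.charDegree (ψ : ↥(Subgroup.centralizer ({y} : Set G)) → ℂ) ^ 2) : ℚ) =
      (1 : ℚ) * Nat.card ↥((S : Subgroup G) ⊓ Subgroup.centralizer ({y} : Set G)) := by
  obtain ⟨hyS, hy2⟩ := UU_spec S e hy
  have h1 := lambda_centralizer_nat S e M hM hyS hy2
  rw [card_inf_centralizer S e hyS hy2]
  have h3 := AddMonoidHom.map_finsum_mem
    (fun ψ : Cfsg.IrrCharacter ↥(Subgroup.centralizer ({y} : Set G)) =>
      Cfsg.charDegree (ψ : ↥(Subgroup.centralizer ({y} : Set G)) → ℂ) ^ 2)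
    (Nat.castAddMonoidHom ℚ)
    (Set.toFinite (Cfsg.principalBlock M ↥(Subgroup.centralizer ({y} : Set G))))
  rw [h1] at h3
  simp only [Nat.coe_castAddMonoidHom, Nat.cast_pow] at h3
  rw [← h3]
  norm_num

theorem bsq8_false (M : Ideal Cfsg.AlgInt) (hM : Cfsg.IsPModular 2 M)
    (hfus : ∀ x ∈ (S : Subgroup G), x ^ 2 = tt S e → ∃ g : G, g * ug S e * g⁻¹ = x)
    (hmin : ∀ K : Subgroup G, K.Normal → tt S e ∈ K → K = ⊤) : False := by
  classical
  have h2 : Fact (Nat.Prime 2) := ⟨Nat.prime_two⟩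
  have hP : IsPGroup 2 (Subgroup.zpowers (ug S e)) :=
    IsPGroup.of_card (n := 2) (by rw [card_P]; norm_num)
  have hinv : ∀ y ∈ UU S e, ∀ g : G,
      (g * tt S e * g⁻¹) * y * (g * tt S e * g⁻¹)⁻¹ ≠ y⁻¹ :=
    fun y hy g => not_inverted S e (UU_spec S e hy).2 g
  obtain ⟨R1, R2, R3, R4⟩ := Cfsg.Agent.S4722.result M hM (Subgroup.zpowers (ug S e)) hP
    (UU S e) (UU_subset S e) (tt S e) (orderOf_tt S e) hinv (theta S e)
    (theta_isGeneralizedCharacter S e) (theta_eq_zero_of_not_mem S e)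
  have R0 := Cfsg.Agent.S4720.result 2 M hM (Subgroup.zpowers (ug S e)) hP (S : Subgroup G)
    (zpowers_le S e) (le_normalizer_P S e) (UU S e) ⟨ug S e, Or.inl rfl⟩ (UU_subset S e)
    (fun n hn y hy => UU_conj S e hn hy) (fun y hy g hg => UU_fusion S e hy g hg) 1
    (fun y hy => hw_UU S e M hM hy) (theta S e) (theta S e)
    (theta_isGeneralizedCharacter S e) (theta_isGeneralizedCharacter S e)
    (theta_eq_zero_of_not_mem S e)
  have hA : ∀ χ : Cfsg.IrrCharacter G,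
      ((Nat.card ↥(Subgroup.zpowers (ug S e)) : ℂ)⁻¹ *
        ∑ᶠ y : ↥(Subgroup.zpowers (ug S e)), (χ : G → ℂ) (y : G) * theta S e y⁻¹) =
      (χ : G → ℂ) (ug S e) :=
    fun χ => coeff_eq S e (Cfsg.Agent.Lib.Helper2.IrrCharacter.isClassFunction χ)
  simp only [hA] at R0 R1 R2 R3 R4
  rw [rhs_eq S e] at R0
  -- numerical data
  choose n m k c hn0 h1 hu ht hrel using
    fun χ : Cfsg.IrrCharacter G => char_data S e hfus χ.2
  -- the principal block as a finset
  have hBfin := Set.toFinite (Cfsg.principalBlock M G)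
  set Bf : Finset (Cfsg.IrrCharacter G) := hBfin.toFinset with hBf
  have hB : (Bf : Set (Cfsg.IrrCharacter G)) = Cfsg.principalBlock M G := hBfin.coe_toFinset
  have hmemB : ∀ χ, χ ∈ Bf ↔ χ ∈ Cfsg.principalBlock M G := fun χ => hBfin.mem_toFinset
  rw [← hB, finsum_mem_coe_finset] at R0 R1 R2 R3
  simp only [hu, h1, ht] at R0 R1 R2 R3 R4
  -- the alternative with a proper normal subgroup is excluded
  have R4' := R4 (by rw [theta_avg S e]; exact one_ne_zero)
  rcases R4' with ⟨hposc, hnegc⟩ | ⟨K, hKn, hKtop, -, htK⟩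
  swap
  · exact hKtop (hmin K hKn htK)
  -- sum of squares
  have R0' : ∑ χ ∈ Bf, (c χ) ^ 2 = 4 := by
    have : ∑ χ ∈ Bf, ((c χ : ℤ) : ℂ) * (starRingEnd ℂ) ((c χ : ℤ) : ℂ) = 4 := R0
    simp only [map_intCast] at this
    have h4 : ((∑ χ ∈ Bf, (c χ) ^ 2 : ℤ) : ℂ) = ((4 : ℤ) : ℂ) := by
      push_cast
      rw [← this]
      apply Finset.sum_congr rfl
      intro χ _
      ring
    exact_mod_cast h4
  have hpos : 2 ≤ (Bf.filter (fun χ => 0 < c χ)).card := by
    have : Nat.card {χ : Cfsg.IrrCharacter G //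
        χ ∈ Cfsg.principalBlock M G ∧ 0 < (((c χ : ℤ) : ℂ)).re} =
        (Bf.filter (fun χ => 0 < c χ)).card := by
      have : Fintype (Cfsg.IrrCharacter G) := Fintype.ofFinite _
      rw [Nat.card_eq_fintype_card, Fintype.card_subtype]
      congr 1
      ext χ
      simp only [Finset.mem_filter, Finset.mem_univ, true_and, hmemB, Complex.intCast_re,
        Int.cast_pos]
    rw [← this]; exact hposc
  have hneg : 2 ≤ (Bf.filter (fun χ => c χ < 0)).card := by
    have : Nat.card {χ : Cfsg.IrrCharacter G //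
        χ ∈ Cfsg.principalBlock M G ∧ (((c χ : ℤ) : ℂ)).re < 0} =
        (Bf.filter (fun χ => c χ < 0)).card := by
      have : Fintype (Cfsg.IrrCharacter G) := Fintype.ofFinite _
      rw [Nat.card_eq_fintype_card, Fintype.card_subtype]
      congr 1
      ext χ
      simp only [Finset.mem_filter, Finset.mem_univ, true_and, hmemB, Complex.intCast_re,
        Int.cast_lt_zero]
    rw [← this]; exact hnegc
  obtain ⟨p₁, p₂, q₁, q₂, hp₁B, hp₂B, hq₁B, hq₂B, hp12, hq12, hcp₁, hcp₂, hcq₁, hcq₂, hposall,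
    hsum⟩ := four_terms Bf c R0' hpos hneg
  -- the trivial character
  set χ₀ := Cfsg.Agent.Lib.Helper24.trivIrr G with hχ₀
  have hχ₀B : χ₀ ∈ Bf := (hmemB χ₀).mpr (Cfsg.Agent.Lib.Helper24.trivIrr_mem_principalBlock hM)
  have htriv : ∀ g : G, (χ₀ : G → ℂ) g = 1 := fun _ => rfl
  have hc₀ : c χ₀ = 1 := by
    have := hu χ₀
    rw [htriv] at this
    exact_mod_cast this.symm
  have hn₀ : n χ₀ = 1 := by
    have := h1 χ₀
    rw [htriv] at this
    exact_mod_cast this.symm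
  have hm₀ : m χ₀ = 0 := by
    have := ht χ₀
    rw [htriv, hn₀] at this
    have h5 : (4 : ℂ) * (m χ₀ : ℂ) = 0 := by
      push_cast at this
      linear_combination this
    have h6 : ((4 * m χ₀ : ℕ) : ℂ) = ((0 : ℕ) : ℂ) := by push_cast; exact h5
    have h7 : 4 * m χ₀ = 0 := by exact_mod_cast h6
    omega
  -- the other positive character
  obtain ⟨p, hpB, hcp, hsum'⟩ : ∃ p : Cfsg.IrrCharacter G, p ∈ Bf ∧ c p = 1 ∧
      ∀ f : Cfsg.IrrCharacter G → ℂ,
        ∑ i ∈ Bf, (c i : ℂ) * f i = f χ₀ + f p - f q₁ - f q₂ := by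
    rcases hposall χ₀ hχ₀B (by rw [hc₀]; norm_num) with h | h
    · exact ⟨p₂, hp₂B, hcp₂, fun f => by rw [hsum f, h]⟩
    · exact ⟨p₁, hp₁B, hcp₁, fun f => by rw [hsum f, h]; ring⟩
  -- the three identities
  have E2 := hsum' (fun χ => ((n χ : ℕ) : ℂ))
  rw [R2] at E2
  have E3 := hsum' (fun χ => ((n χ : ℕ) : ℂ) - 4 * ((m χ : ℕ) : ℂ))
  rw [R3] at E3
  have E1 := hsum' (fun χ => (((n χ : ℕ) : ℂ) - 4 * ((m χ : ℕ) : ℂ)) ^ 2 / ((n χ : ℕ) : ℂ))
  have R1' : ∑ χ ∈ Bf, ((c χ : ℤ) : ℂ) *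
      ((((n χ : ℕ) : ℂ) - 4 * ((m χ : ℕ) : ℂ)) ^ 2 / ((n χ : ℕ) : ℂ)) = 0 := by
    rw [← R1]
    apply Finset.sum_congr rfl
    intro χ _
    rw [mul_div_assoc]
  rw [R1'] at E1
  simp only [hn₀, hm₀] at E1 E2 E3
  -- apply the arithmetic
  have hxp : (n p : ℤ) ≠ 0 := by exact_mod_cast hn0 p
  have hxq₁ : (n q₁ : ℤ) ≠ 0 := by exact_mod_cast hn0 q₁
  have hxq₂ : (n q₂ : ℤ) ≠ 0 := by exact_mod_cast hn0 q₂
  have hAr : (1 : ℤ) + (n p : ℤ) = (n q₁ : ℤ) + (n q₂ : ℤ) := by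
    have : ((1 + (n p : ℤ) : ℤ) : ℂ) = (((n q₁ : ℤ) + (n q₂ : ℤ) : ℤ) : ℂ) := by
      push_cast
      push_cast at E2
      linear_combination -E2
    exact_mod_cast this
  have hBr : (m p : ℤ) = (m q₁ : ℤ) + (m q₂ : ℤ) := by
    have : (((m p : ℤ) : ℤ) : ℂ) = (((m q₁ : ℤ) + (m q₂ : ℤ) : ℤ) : ℂ) := by
      push_cast
      push_cast at E2 E3
      linear_combination (1 / 4 : ℂ) * E3 - (1 / 4 : ℂ) * E2
    exact_mod_cast this
  have hCr : (1 : ℚ) + (((n p : ℤ) : ℚ) - 4 * ((m p : ℤ) : ℚ)) ^ 2 / ((n p : ℤ) : ℚ) =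
      (((n q₁ : ℤ) : ℚ) - 4 * ((m q₁ : ℤ) : ℚ)) ^ 2 / ((n q₁ : ℤ) : ℚ) +
      (((n q₂ : ℤ) : ℚ) - 4 * ((m q₂ : ℤ) : ℚ)) ^ 2 / ((n q₂ : ℤ) : ℚ) := by
    have : (((1 : ℚ) + (((n p : ℤ) : ℚ) - 4 * ((m p : ℤ) : ℚ)) ^ 2 / ((n p : ℤ) : ℚ) : ℚ) : ℂ) =
        (((((n q₁ : ℤ) : ℚ) - 4 * ((m q₁ : ℤ) : ℚ)) ^ 2 / ((n q₁ : ℤ) : ℚ) +
        (((n q₂ : ℤ) : ℚ) - 4 * ((m q₂ : ℤ) : ℚ)) ^ 2 / ((n q₂ : ℤ) : ℚ) : ℚ) : ℂ) := by
      push_cast
      push_cast at E1
      linear_combination -E1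
    exact_mod_cast this
  have hr₁ : (n q₁ : ℤ) = 4 * (k q₁ : ℤ) - 1 + 2 * (m q₁ : ℤ) := by
    have := hrel q₁
    rw [hcq₁] at this
    linarith
  have hr₂ : (n q₂ : ℤ) = 4 * (k q₂ : ℤ) - 1 + 2 * (m q₂ : ℤ) := by
    have := hrel q₂
    rw [hcq₂] at this
    linarith
  obtain ⟨hm₁, -⟩ := bsq8_arith (n p) (n q₁) (n q₂) (m p) (m q₁) (m q₂) (k q₁) (k q₂)
    hxp hxq₁ hxq₂ hAr hBr hCr hr₁ hr₂
  -- `t` lies in the kernel of `q₁`
  have hker : (q₁ : G → ℂ) (tt S e) = (q₁ : G → ℂ) 1 := by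
    rw [ht q₁, h1 q₁]
    have : (m q₁ : ℂ) = 0 := by exact_mod_cast hm₁
    rw [this]; ring
  obtain ⟨K, hKn, hK⟩ := Cfsg.Agent.Lib.Helper25.exists_kernel
    (Cfsg.Agent.Lib.Helper2.IsIrrCharacter.isCharacter q₁.2)
  have hKtop := hmin K hKn ((hK _).mpr hker)
  have huK : ug S e ∈ K := by rw [hKtop]; trivial
  have h5 := (hK _).mp huK
  rw [hu q₁, h1 q₁, hcq₁] at h5
  have h6 : ((-1 : ℤ) : ℂ) = ((n q₁ : ℤ) : ℂ) := by push_cast; push_cast at h5; exact h5
  have h7 : (-1 : ℤ) = (n q₁ : ℤ) := by exact_mod_cast h6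
  omega


/-- **Brauer–Suzuki for `Q₈`**, central form: the involution of a quaternion Sylow `2`-subgroup
of order `8` is central if `O(G) = 1`. -/
theorem tt_mem_center_aux : ∀ (N : ℕ) (G : Type u) [Group G] [Finite G] (S : Sylow 2 G)
    (e : ↥(S : Subgroup G) ≃* QuaternionGroup 2), Nat.card G = N → pPrimeCore 2 G = ⊥ →
    tt S e ∈ Subgroup.center G := by
  intro N
  induction N using Nat.strong_induction_on with
  | _ N ih =>
  intro G _ _ S e hN hO
  subst hN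
  by_contra hnc
  have IH : ∀ (H : Type u) [Group H] [Finite H] (T : Sylow 2 H)
      (f : ↥(T : Subgroup H) ≃* QuaternionGroup 2), Nat.card H < Nat.card G →
      pPrimeCore 2 H = ⊥ → tt T f ∈ Subgroup.center H :=
    fun H _ _ T f hlt hOH => ih _ hlt H T f rfl hOH
  have hmin : ∀ K : Subgroup G, K.Normal → tt S e ∈ K → K = ⊤ := by
    intro K hKn htK
    by_contra hK
    exact hnc (central_of_normal S e hO IH K hK htK)
  have hperf := perfect_of_min S e hmin
  have hfus : ∀ x ∈ (S : Subgroup G), x ^ 2 = tt S e → ∃ g : G, g * ug S e * g⁻¹ = x :=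
    fun x hx hx2 => full_fusion S e hperf (ug_mem S e) hx (ug_sq S e) hx2
  obtain ⟨M, hM⟩ := Cfsg.Agent.Lib.Helper25.exists_isPModular 2 Nat.prime_two
  exact bsq8_false S e M hM hfus hmin

/-- **Brauer–Suzuki for `Q₈`**: if a Sylow `2`-subgroup of `G` is quaternion of order `8` and `G`
has no nontrivial normal subgroup of odd order, then `|Z(G)| = 2`. -/
theorem card_center_eq_two {G : Type u} [Group G] [Finite G] (S : Sylow 2 G)
    (e : ↥(S : Subgroup G) ≃* QuaternionGroup 2)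
    (hO : ∀ N : Subgroup G, N.Normal → Odd (Nat.card N) → N = ⊥) :
    Nat.card (Subgroup.center G) = 2 := by
  have h2 : Fact (Nat.Prime 2) := ⟨Nat.prime_two⟩
  have hcore : pPrimeCore 2 G = ⊥ :=
    hO _ (Cfsg.Agent.Lib.Helper1.pPrimeCore_normal 2)
      (Nat.coprime_two_right.mp (Cfsg.Agent.Lib.Helper1.pPrimeCore_coprime 2))
  have htc := tt_mem_center_aux _ G S e rfl hcore
  -- the centre is a 2-group
  have hZp : IsPGroup 2 (Subgroup.center G) := by
    intro z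
    obtain ⟨t', u', ht', hu', hz, ⟨k, hk⟩, hco⟩ :=
      Cfsg.Agent.Lib.Helper16.exists_p_decomp' 2 (z : G)
    have hu'c : u' ∈ Subgroup.center G :=
      (Subgroup.zpowers_le.mpr z.2) hu'
    have hUn : (Subgroup.zpowers u').Normal := by
      constructor
      intro n hn g
      have hnc : n ∈ Subgroup.center G := (Subgroup.zpowers_le.mpr hu'c) hn
      have : g * n * g⁻¹ = n := by
        rw [Subgroup.mem_center_iff] at hnc
        rw [hnc g, mul_inv_cancel_right]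
      rw [this]; exact hn
    have hUodd : Odd (Nat.card (Subgroup.zpowers u')) := by
      rw [Nat.card_zpowers]; exact Nat.coprime_two_right.mp hco
    have hUbot := hO _ hUn hUodd
    have hu'1 : u' = 1 := by
      rw [Subgroup.zpowers_eq_bot] at hUbot; exact hUbot
    refine ⟨k, ?_⟩
    apply Subtype.ext
    rw [Subgroup.coe_pow, Subgroup.coe_one, hz, hu'1, mul_one, ← hk, pow_orderOf_eq_one]
  have hZS : Subgroup.center G ≤ (S : Subgroup G) :=
    (Cfsg.Agent.Lib.Helper1.le_pCore inferInstance hZp).trans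
      (Cfsg.Agent.Lib.Helper1.pCore_le_sylow S)
  have hZeq : Subgroup.center G = Subgroup.zpowers (tt S e) := by
    apply le_antisymm
    · intro z hz
      have hzS := hZS hz
      have : (⟨z, hzS⟩ : ↥(S : Subgroup G)) = 1 ∨ (⟨z, hzS⟩ : ↥(S : Subgroup G)) = zz e := by
        apply center_le e
        intro y
        apply Subtype.ext
        rw [Subgroup.mem_center_iff] at hz
        exact (hz (y : G)).symm
      rcases this with h | h
      · have : z = 1 := by simpa using congrArg Subtype.val h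
        rw [this]; exact Subgroup.one_mem _
      · have : z = tt S e := by simpa [tt] using congrArg Subtype.val h
        rw [this]; exact Subgroup.mem_zpowers _
    · rw [Subgroup.zpowers_le]; exact htc
  rw [hZeq, Nat.card_zpowers, orderOf_tt]

end Cfsg.Agent.Lib.Helper9.BSQ8
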