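import Mathlib
import Cfsg.Prelude.Def_Local
import Cfsg.Agent.Lib.Helper1.Cores
import Cfsg.Agent.Lib.Helper1.Fitting
import Cfsg.Agent.Lib.Helper1.ThompsonPQ
import Cfsg.Agent.Lib.Helper1.Coprime
import Cfsg.Agent.Lib.Helper10.PComponent
import Cfsg.Agent.Lib.Helper9.Signalizer

set_option autoImplicit false
set_option linter.unusedSectionVars false
set_option linter.unusedVariables false

/-!
# Balance in solvable groups (helper9)

In a finite solvable group `X`, a `p'`-subgroup `D ≤ C_X(a)` normalized by `C_X(a)` (`a` of order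
`p`) lies in `O_{p'}(X)`. Consequence: `a ↦ O_{p'}(C_G(a))` is a signalizer functor when the
centralizers are solvable.
-/

namespace Cfsg.Agent.Lib.Helper9.Balance

open Cfsg Cfsg.Agent.Lib.Helper1 Cfsg.Agent.Lib.Helper9

/-- Balance-type lemma (general prime; cf. `Helper4.CharTwo.eq_bot_of_balance`). -/
theorem eq_bot_of_balance {X : Type*} [Group X] [Finite X] [Group.IsSolvable X] (p : ℕ)
    [Fact p.Prime] (h : pPrimeCore p X = ⊥) (T D : Subgroup X) (hT : IsPGroup p T)
    (hD : (Nat.card D).Coprime p) (hTD : T ≤ Subgroup.centralizer (D : Set X))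
    (hN : ∀ y ∈ pCore p X, y ∈ Subgroup.centralizer (T : Set X) → ∀ d ∈ D, y * d * y⁻¹ ∈ D) :
    D = ⊥ := by
  have hY := centralizer_pCore_le (G := X) p h
  have hYp : IsPGroup p (pCore p X) := pCore_isPGroup p
  have hYn : (pCore p X).Normal := inferInstance
  have hcop : (Nat.card D).Coprime (Nat.card (pCore p X)) := by
    obtain ⟨k, hk⟩ := IsPGroup.iff_card.mp hYp
    rw [hk]
    exact Nat.Coprime.pow_right k hD
  have hinf : D ⊓ pCore p X = ⊥ := (Subgroup.disjoint_of_coprime_natCard hcop).eq_bot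
  have hnorm : Subgroup.normalizer ((pCore p X : Subgroup X) : Set X) = ⊤ :=
    Subgroup.normalizer_eq_top_iff.2 hYn
  have key : D ≤ Subgroup.centralizer (pCore p X : Set X) := by
    refine thompson_PxQ p T D hT hD hTD _ (pCore p X) rfl hYp ?_ ?_ ?_
    · rw [hnorm]; exact le_top
    · rw [hnorm]; exact le_top
    · rintro y ⟨hyY, hyT⟩
      rw [Subgroup.mem_centralizer_iff]
      intro d hd
      have h1 : y * d * y⁻¹ * d⁻¹ ∈ D := D.mul_mem (hN y hyY hyT d hd) (D.inv_mem hd)
      have h2 : y * d * y⁻¹ * d⁻¹ ∈ pCore p X := by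
        have : y * (d * y⁻¹ * d⁻¹) ∈ pCore p X :=
          (pCore p X).mul_mem hyY (hYn.conj_mem _ (inv_mem hyY) d)
        simpa [mul_assoc] using this
      have h3 : y * d * y⁻¹ * d⁻¹ ∈ D ⊓ pCore p X := ⟨h1, h2⟩
      rw [hinf, Subgroup.mem_bot] at h3
      have h4 : y * d = d * y := by
        have := congrArg (fun w => w * d * y) h3
        simpa [mul_assoc] using this
      exact h4.symm
  have hDY : D ≤ pCore p X := key.trans hY
  rw [eq_bot_iff, ← hinf]
  exact le_inf le_rfl hDY

/-- lifting centralizing elements modulo a normal `p'`-subgroup -/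
theorem exists_lift_commute {X : Type*} [Group X] [Finite X] (p : ℕ) [Fact p.Prime]
    (N : Subgroup X) [hNn : N.Normal] (hN : (Nat.card N).Coprime p) {a : X} (ha : orderOf a = p)
    (ybar : X ⧸ N) (hy : ybar * (QuotientGroup.mk' N a) = (QuotientGroup.mk' N a) * ybar) :
    ∃ y : X, QuotientGroup.mk' N y = ybar ∧ y * a = a * y := by
  have hp : p.Prime := Fact.out
  obtain ⟨x, rfl⟩ := QuotientGroup.mk'_surjective N ybar
  have hact : CoprimeAct (Subgroup.zpowers a) N :=
    { norm := by rw [Subgroup.normalizer_eq_top_iff.mpr hNn]; exact le_top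
      cop := by rw [Nat.card_zpowers, ha]; exact hN.symm
      solv := Or.inl (Group.isSolvable_of_comm (fun x y => mul_comm' x y)) }
  have hfix : ∀ c ∈ Subgroup.zpowers a, x⁻¹ * (c * x * c⁻¹) ∈ N := by
    rintro _ ⟨k, rfl⟩
    rw [← QuotientGroup.eq_one_iff]
    have e : ((x⁻¹ * ((fun n : ℤ => a ^ n) k * x * ((fun n : ℤ => a ^ n) k)⁻¹) : X) : X ⧸ N) =
        (QuotientGroup.mk' N x)⁻¹ * ((QuotientGroup.mk' N a) ^ k * (QuotientGroup.mk' N x) *
          ((QuotientGroup.mk' N a) ^ k)⁻¹) := by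
      simp
    rw [e]
    have hck : (QuotientGroup.mk' N a) ^ k * (QuotientGroup.mk' N x) =
        (QuotientGroup.mk' N x) * (QuotientGroup.mk' N a) ^ k :=
      ((Commute.zpow_left (show Commute (QuotientGroup.mk' N a) (QuotientGroup.mk' N x) from
        hy.symm) k)).eq
    rw [hck]; group
  obtain ⟨u, hu, hxu⟩ := hact.exists_mul_mem_normalizer x hfix
  refine ⟨x * u, ?_, ?_⟩
  · rw [map_mul]
    have : QuotientGroup.mk' N u = 1 := (QuotientGroup.eq_one_iff u).mpr hu
    rw [this, mul_one]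
  · -- [xu, a] ∈ N ∩ ⟨a⟩ = 1
    set y := x * u with hy'
    have h1 : y * a * y⁻¹ ∈ Subgroup.zpowers a :=
      (Subgroup.mem_normalizer_iff.mp hxu a).mp (Subgroup.mem_zpowers a)
    have h2 : y * a * y⁻¹ * a⁻¹ ∈ Subgroup.zpowers a :=
      Subgroup.mul_mem _ h1 (Subgroup.inv_mem _ (Subgroup.mem_zpowers a))
    have h3 : y * a * y⁻¹ * a⁻¹ ∈ N := by
      rw [← QuotientGroup.eq_one_iff]
      have hyq : (QuotientGroup.mk' N y) = QuotientGroup.mk' N x := by
        rw [hy', map_mul]
        have : QuotientGroup.mk' N u = 1 := (QuotientGroup.eq_one_iff u).mpr hu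
        rw [this, mul_one]
      have e : ((y * a * y⁻¹ * a⁻¹ : X) : X ⧸ N) = (QuotientGroup.mk' N y) *
          (QuotientGroup.mk' N a) * (QuotientGroup.mk' N y)⁻¹ * (QuotientGroup.mk' N a)⁻¹ := by
        simp
      rw [e, hyq, hy]; group
    have h4 : y * a * y⁻¹ * a⁻¹ ∈ N ⊓ Subgroup.zpowers a := Subgroup.mem_inf.mpr ⟨h3, h2⟩
    rw [hact.inf_eq_bot, Subgroup.mem_bot] at h4
    have : y * a = (y * a * y⁻¹ * a⁻¹) * (a * y) := by group
    rw [this, h4, one_mul]

/-- **Balance in solvable groups.** -/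
theorem le_pPrimeCore_of_balance {X : Type*} [Group X] [Finite X] [Group.IsSolvable X] (p : ℕ)
    [Fact p.Prime] {a : X} (ha : orderOf a = p) (D : Subgroup X)
    (hDa : D ≤ Subgroup.centralizer ({a} : Set X)) (hD : (Nat.card D).Coprime p)
    (hDn : ∀ y : X, y * a = a * y → ∀ d ∈ D, y * d * y⁻¹ ∈ D) : D ≤ pPrimeCore p X := by
  have hp : p.Prime := Fact.out
  have hNn : (pPrimeCore p X).Normal := Cfsg.Agent.Lib.Helper1.pPrimeCore_normal p
  set π := QuotientGroup.mk' (pPrimeCore p X) with hπ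
  have hbot : pPrimeCore p (X ⧸ pPrimeCore p X) = ⊥ :=
    Cfsg.Agent.Lib.Helper10.pPrimeCore_quotient_eq_bot p
  have hsolv : Group.IsSolvable (X ⧸ pPrimeCore p X) := inferInstance
  have key : D.map π = ⊥ := by
    apply eq_bot_of_balance p hbot (Subgroup.zpowers (π a)) (D.map π)
    · -- p-group
      by_cases h1 : π a = 1
      · apply IsPGroup.of_card (n := 0)
        rw [Nat.card_zpowers, h1, orderOf_one, pow_zero]
      · apply IsPGroup.of_card (n := 1)
        rw [Nat.card_zpowers, pow_one]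
        have h2 : (π a) ^ p = 1 := by
          have : a ^ p = 1 := by rw [← ha, pow_orderOf_eq_one]
          rw [← map_pow, this, map_one]
        exact orderOf_eq_prime h2 h1
    · exact Nat.Coprime.coprime_dvd_left (Subgroup.card_map_dvd D π) hD
    · rw [Subgroup.zpowers_le, Subgroup.mem_centralizer_iff]
      rintro _ ⟨d, hd, rfl⟩
      have := (Subgroup.mem_centralizer_iff.mp (hDa hd)) a rfl
      rw [← map_mul, ← map_mul, this]
    · intro ybar _ hyT
      have hycomm : ybar * π a = π a * ybar := by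
        have := (Subgroup.mem_centralizer_iff.mp hyT) (π a) (Subgroup.mem_zpowers _)
        exact this.symm
      obtain ⟨y, rfl, hya⟩ := exists_lift_commute p (pPrimeCore p X) (pPrimeCore_coprime p) ha
        ybar hycomm
      rintro _ ⟨d, hd, rfl⟩
      refine ⟨y * d * y⁻¹, hDn y hya d hd, ?_⟩
      rw [map_mul, map_mul, map_inv]
  intro d hd
  have h1 : π d ∈ D.map π := ⟨d, hd, rfl⟩
  rw [key, Subgroup.mem_bot] at h1
  exact (QuotientGroup.eq_one_iff d).mp h1

end Cfsg.Agent.Lib.Helper9.Balance
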