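import Mathlib
import Cfsg.Prelude.Def_Local
import Cfsg.Agent.Lib.Helper9.CompAct1

set_option autoImplicit false
set_option linter.unusedSectionVars false
set_option linter.unusedVariables false

/-!
# Actions on components, part 2 (helper9): the key lemma

If `O_{p'}(G) = 1`, `P` is a `p`-subgroup and `g` is a `p'`-element centralizing `P` and `Z(E(G))`
such that `[y, g]` is a `p'`-element for every `y ∈ C_{E(G)}(P)`, then `g` normalizes every
component of `G`.
-/

namespace Cfsg.Agent.Lib.Helper9.CompAct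

open Cfsg Subgroup
open scoped commutatorElement

variable {G : Type*} [Group G]

/-- the product of the `P`-orbit of `L` -/
def orbProd (P L : Subgroup G) : Subgroup G := ⨆ a : P, cj (a : G) L

theorem le_orbProd (P L : Subgroup G) : L ≤ orbProd P L := by
  have h := le_iSup (fun a : P => cj (a : G) L) 1
  have e : cj ((1 : P) : G) L = L := by rw [Subgroup.coe_one, cj_one]
  rw [e] at h
  exact h

theorem cj_le_orbProd {P L : Subgroup G} {a : G} (ha : a ∈ P) : cj a L ≤ orbProd P L :=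
  le_iSup (fun a : P => cj (a : G) L) ⟨a, ha⟩

theorem cj_orbProd_of_mem {P L : Subgroup G} {b : G} (hb : b ∈ P) :
    cj b (orbProd P L) = orbProd P L := by
  unfold orbProd
  rw [cj_iSup]
  apply le_antisymm
  · apply iSup_le
    intro a
    rw [← cj_mul]
    exact cj_le_orbProd (P.mul_mem hb a.2)
  · apply iSup_le
    intro a
    have e : cj (a : G) L = cj b (cj (b⁻¹ * a) L) := by
      rw [← cj_mul, mul_inv_cancel_left]
    rw [e]
    exact le_iSup (fun a : P => cj b (cj (a : G) L)) ⟨b⁻¹ * a, P.mul_mem (P.inv_mem hb) a.2⟩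

theorem cj_orbProd_comm {P L : Subgroup G} {g : G} (hg : ∀ a ∈ P, g * a = a * g) :
    cj g (orbProd P L) = orbProd P (cj g L) := by
  unfold orbProd
  rw [cj_iSup]
  congr 1
  funext a
  rw [← cj_mul, ← cj_mul, hg a a.2]

theorem conj_mem_orbProd {P L : Subgroup G} {a c : G} (ha : a ∈ P) (hc : c ∈ orbProd P L) :
    a * c * a⁻¹ ∈ orbProd P L := by
  have := conj_mem_cj (g := a) hc
  rwa [cj_orbProd_of_mem ha] at this

section Finite
variable [Finite G]

/-- two `P`-orbit products over different orbits commute elementwise -/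
theorem orbProd_commute {P L K : Subgroup G} (hL : IsComponent L) (hK : IsComponent K)
    (hne : ∀ a ∈ P, K ≠ cj a L) :
    ∀ u ∈ orbProd P L, ∀ v ∈ orbProd P K, u * v = v * u := by
  apply commute_of_mem_iSup
  intro a b x hx y hy
  have h1 : IsComponent (cj (a : G) L) := isComponent_conj hL _
  have h2 : IsComponent (cj (b : G) K) := isComponent_conj hK _
  have hne' : cj (a : G) L ≠ cj (b : G) K := by
    intro h
    apply hne ((b : G)⁻¹ * a) (P.mul_mem (P.inv_mem b.2) a.2)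
    have := congrArg (cj (b : G)⁻¹) h
    rw [← cj_mul, ← cj_mul, inv_mul_cancel, cj_one] at this
    exact this.symm
  have h3 := comp_commutator_eq_bot_of_ne h1 h2 hne'
  have h4 := Subgroup.commutator_eq_bot_iff_le_centralizer.mp h3
  exact ((Subgroup.mem_centralizer_iff.mp (h4 hx)) y hy).symm

/-- an element of `M = orbProd P L` central in `M` is central in the layer -/
theorem commute_layer_of_commute_orbProd {P L : Subgroup G} (hL : IsComponent L) {z : G}
    (hz : z ∈ orbProd P L) (hzc : ∀ u ∈ orbProd P L, z * u = u * z) :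
    ∀ e ∈ layer G, z * e = e * z := by
  have h1 : layer G ≤ Subgroup.centralizer ({z} : Set G) := by
    apply sSup_le
    intro K hK
    by_cases h : ∃ a ∈ P, K = cj a L
    · obtain ⟨a, ha, rfl⟩ := h
      intro u hu
      rw [Subgroup.mem_centralizer_iff]
      intro w hw
      rw [Set.mem_singleton_iff] at hw
      rw [hw]
      exact hzc u (cj_le_orbProd ha hu)
    · push Not at h
      have h2 := orbProd_commute hL hK h
      intro u hu
      rw [Subgroup.mem_centralizer_iff]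
      intro w hw
      rw [Set.mem_singleton_iff] at hw
      rw [hw]
      exact h2 z hz u (le_orbProd P K hu)
  intro e he
  exact ((Subgroup.mem_centralizer_iff.mp (h1 he)) z rfl)

theorem orbProd_le_layer {P L : Subgroup G} (hL : IsComponent L) : orbProd P L ≤ layer G := by
  apply iSup_le
  intro a
  exact comp_le_layer (isComponent_conj hL _)

variable (p : ℕ) [Fact p.Prime]

/-- if `h` commutes with the `p`-element `a`, has order prime to `p`, and `hLh⁻¹ = aLa⁻¹`, then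
`a` normalizes `L`. -/
theorem cj_eq_of_cj_eq_cj {h a : G} {L : Subgroup G} (hha : h * a = a * h)
    (hh : (orderOf h).Coprime p) (ha : ∃ k : ℕ, orderOf a = p ^ k) (he : cj h L = cj a L) :
    cj a L = L := by
  have hpow : ∀ k : ℕ, cj (h ^ k) L = cj (a ^ k) L := by
    intro k
    induction k with
    | zero => rw [pow_zero, pow_zero]
    | succ k ih =>
      have hc : h ^ k * a = a * h ^ k := ((Commute.pow_left (show Commute h a from hha) k)).eq
      rw [pow_succ, cj_mul, he, ← cj_mul, hc, cj_mul, ih, ← cj_mul, ← pow_succ']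
  have h1 := hpow (orderOf h)
  rw [pow_orderOf_eq_one, cj_one] at h1
  obtain ⟨k, hk⟩ := ha
  have hcop : (orderOf h).Coprime (orderOf a) := by
    rw [hk]; exact Nat.Coprime.pow_right k hh
  obtain ⟨m, hm⟩ := exists_pow_eq_self_of_coprime hcop
  rw [← hm]
  exact cj_pow _ _ h1.symm m

/-- **Key lemma.** -/
theorem cj_comp_eq_self (hO : pPrimeCore p G = ⊥) {P : Subgroup G} (hP : IsPGroup p P) {g : G}
    (hgP : ∀ a ∈ P, g * a = a * g) (hg : (orderOf g).Coprime p)
    (hgZ : ∀ z ∈ layer G, (∀ e ∈ layer G, z * e = e * z) → g * z = z * g)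
    (hgy : ∀ y ∈ layer G, (∀ a ∈ P, y * a = a * y) → (orderOf ⁅y, g⁆).Coprime p)
    {L : Subgroup G} (hL : IsComponent L) : cj g L = L := by
  have hp : p.Prime := Fact.out
  by_contra hne
  have hPel : ∀ a ∈ P, ∃ k : ℕ, orderOf a = p ^ k := by
    intro a ha
    obtain ⟨k, hk⟩ := hP ⟨a, ha⟩
    have h1 : a ^ p ^ k = 1 := by
      have := congrArg Subtype.val hk
      simpa using this
    exact (Nat.dvd_prime_pow hp).mp (orderOf_dvd_of_pow_eq_one h1) |>.imp fun j hj => hj.2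
  -- powers of g
  have hgPj : ∀ j : ℕ, ∀ a ∈ P, g ^ j * a = a * g ^ j := fun j a ha =>
    ((Commute.pow_left (show Commute g a from hgP a ha) j)).eq
  have hgj : ∀ j : ℕ, (orderOf (g ^ j)).Coprime p := fun j =>
    Nat.Coprime.coprime_dvd_left (orderOf_pow_dvd j) hg
  have hsep : ∀ j : ℕ, cj (g ^ j) L ≠ L → ∀ a ∈ P, cj (g ^ j) L ≠ cj a L := by
    intro j hj a ha he
    apply hj
    rw [he]
    exact cj_eq_of_cj_eq_cj p (hgPj j a ha) (hgj j) (hPel a ha) he
  set M := orbProd P L with hM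
  have hLg : IsComponent (cj g L) := isComponent_conj hL g
  have hMg : cj g M = orbProd P (cj g L) := cj_orbProd_comm hgP
  have hsep1 : ∀ a ∈ P, cj g L ≠ cj a L := by
    have := hsep 1 (by rwa [pow_one])
    simpa [pow_one] using this
  have hcomm01 : ∀ u ∈ M, ∀ v ∈ cj g M, u * v = v * u := by
    rw [hMg]
    exact orbProd_commute hL hLg hsep1
  have hMlayer : M ≤ layer G := orbProd_le_layer hL
  -- key claim
  have key : ∀ c ∈ M, (∃ k : ℕ, orderOf c = p ^ k) →
      (∀ a ∈ P, ∀ u ∈ M, ⁅c, a⁆ * u = u * ⁅c, a⁆) → ∀ u ∈ M, c * u = u * c := by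
    intro c hc hcp hca
    -- κ_a := c⁻¹ (a c a⁻¹) is central in M, hence commutes with g
    have hκM : ∀ a ∈ P, c⁻¹ * (a * c * a⁻¹) ∈ M := fun a ha =>
      M.mul_mem (M.inv_mem hc) (conj_mem_orbProd ha hc)
    have hκc : ∀ a ∈ P, ∀ u ∈ M, (c⁻¹ * (a * c * a⁻¹)) * u = u * (c⁻¹ * (a * c * a⁻¹)) := by
      intro a ha u hu
      have e : c⁻¹ * (a * c * a⁻¹) = c⁻¹ * ⁅c, a⁆⁻¹ * c := by
        simp [commutatorElement_def, mul_assoc]
      have h1 := hca a ha (c * u * c⁻¹) (M.mul_mem (M.mul_mem hc hu) (M.inv_mem hc))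
      have h2 : ⁅c, a⁆⁻¹ * (c * u * c⁻¹) = (c * u * c⁻¹) * ⁅c, a⁆⁻¹ :=
        (Commute.inv_left (show Commute ⁅c, a⁆ (c * u * c⁻¹) from h1)).eq
      rw [e]
      calc c⁻¹ * ⁅c, a⁆⁻¹ * c * u = c⁻¹ * (⁅c, a⁆⁻¹ * (c * u * c⁻¹)) * c := by group
        _ = c⁻¹ * ((c * u * c⁻¹) * ⁅c, a⁆⁻¹) * c := by rw [h2]
        _ = u * (c⁻¹ * ⁅c, a⁆⁻¹ * c) := by group
    have hκg : ∀ a ∈ P, g * (c⁻¹ * (a * c * a⁻¹)) = (c⁻¹ * (a * c * a⁻¹)) * g := by
      intro a ha
      apply hgZ _ (hMlayer (hκM a ha))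
      exact commute_layer_of_commute_orbProd hL (hκM a ha) (hκc a ha)
    -- y := [c, g]
    have hy_layer : ⁅c, g⁆ ∈ layer G := by
      have h1 : c ∈ layer G := hMlayer hc
      have h2 : g * c⁻¹ * g⁻¹ ∈ layer G :=
        (inferInstance : (layer G).Normal).conj_mem _ ((layer G).inv_mem h1) g
      have e : ⁅c, g⁆ = c * (g * c⁻¹ * g⁻¹) := by simp [commutatorElement_def, mul_assoc]
      rw [e]
      exact (layer G).mul_mem h1 h2
    have hy_comm : ∀ a ∈ P, ⁅c, g⁆ * a = a * ⁅c, g⁆ := by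
      intro a ha
      have hga := hgP a ha
      have hκ := hκg a ha
      set κ := c⁻¹ * (a * c * a⁻¹) with hκdef
      have e1 : a * c * a⁻¹ = c * κ := by rw [hκdef]; group
      have e2 : a * c⁻¹ * a⁻¹ = κ⁻¹ * c⁻¹ := by
        have : a * c⁻¹ * a⁻¹ = (a * c * a⁻¹)⁻¹ := by group
        rw [this, e1]; group
      have hgκ : g * κ⁻¹ = κ⁻¹ * g := by
        have := congrArg (fun w => κ⁻¹ * w * κ⁻¹) hκ
        simpa [mul_assoc] using this.symm
      have hga' : a * g = g * a := hga.symm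
      have hga'' : g⁻¹ * a⁻¹ = a⁻¹ * g⁻¹ := by
        have := congrArg (fun w => w⁻¹) hga'
        simpa using this
      have e3 : a * ⁅c, g⁆ * a⁻¹ = ⁅c, g⁆ := by
        calc a * ⁅c, g⁆ * a⁻¹ = (a * c * a⁻¹) * (a * g) * (a⁻¹ * (a * c⁻¹ * a⁻¹) * a) * (g⁻¹ * a⁻¹) := by
              simp only [commutatorElement_def]; group
          _ = (c * κ) * (g * a) * (a⁻¹ * (κ⁻¹ * c⁻¹) * a) * (a⁻¹ * g⁻¹) := by
              rw [e1, e2, hga', hga'']
          _ = c * κ * (g * κ⁻¹) * c⁻¹ * g⁻¹ := by group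
          _ = c * κ * (κ⁻¹ * g) * c⁻¹ * g⁻¹ := by rw [hgκ]
          _ = ⁅c, g⁆ := by simp only [commutatorElement_def]; group
      calc ⁅c, g⁆ * a = (a * ⁅c, g⁆ * a⁻¹) * a := by rw [e3]
        _ = a * ⁅c, g⁆ := by group
    have hcop := hgy _ hy_layer hy_comm
    set n' := orderOf ⁅⁅c, g⁆, g⁆ with hn'
    have hpow1 : ⁅⁅c, g⁆, g⁆ ^ n' = 1 := pow_orderOf_eq_one _
    -- c₁ = g c g⁻¹, c₂ = g² c g⁻²
    have hc1 : g * c * g⁻¹ ∈ cj g M := conj_mem_cj hc
    have hexp : ⁅⁅c, g⁆, g⁆ = c * (g * c * g⁻¹)⁻¹ * (g ^ 2 * c * (g ^ 2)⁻¹) * (g * c * g⁻¹)⁻¹ := by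
      simp only [commutatorElement_def, pow_two]; group
    obtain ⟨kc, hkc⟩ := hcp
    by_cases h2 : cj (g ^ 2) L = L
    · -- case β
      have hM2 : cj (g ^ 2) M = M := by
        rw [hM, cj_orbProd_comm (hgPj 2), h2]
      by_cases hp2 : p = 2
      · exfalso
        have hodd : (2 : ℕ).Coprime (orderOf g) := by
          rw [hp2] at hg; exact hg.symm
        obtain ⟨m, hm⟩ := exists_pow_eq_self_of_coprime hodd
        apply hne
        rw [← hm]
        exact cj_pow _ _ h2 m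
      · have hc2 : g ^ 2 * c * (g ^ 2)⁻¹ ∈ M := by
          have := conj_mem_cj (g := g ^ 2) hc
          rwa [hM2] at this
        set c₁ := g * c * g⁻¹ with hc₁
        set c₂ := g ^ 2 * c * (g ^ 2)⁻¹ with hc₂
        have hc1inv : c₁⁻¹ ∈ cj g M := (cj g M).inv_mem hc1
        have e1 : ⁅⁅c, g⁆, g⁆ = (c * c₂) * (c₁⁻¹ * c₁⁻¹) := by
          rw [hexp]
          have := hcomm01 c₂ hc2 c₁⁻¹ hc1inv
          calc c * c₁⁻¹ * c₂ * c₁⁻¹ = c * (c₁⁻¹ * c₂) * c₁⁻¹ := by group
            _ = c * (c₂ * c₁⁻¹) * c₁⁻¹ := by rw [this]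
            _ = (c * c₂) * (c₁⁻¹ * c₁⁻¹) := by group
        have hu0 : c * c₂ ∈ M := M.mul_mem hc hc2
        have hv0 : c₁⁻¹ * c₁⁻¹ ∈ cj g M := (cj g M).mul_mem hc1inv hc1inv
        have hcomm : Commute (c * c₂) (c₁⁻¹ * c₁⁻¹) := hcomm01 _ hu0 _ hv0
        have e2 : (c * c₂) ^ n' * (c₁⁻¹ * c₁⁻¹) ^ n' = 1 := by
          rw [← hcomm.mul_pow, ← e1]; exact hpow1
        have hvM : (c₁⁻¹ * c₁⁻¹) ^ n' ∈ M := by
          have : (c₁⁻¹ * c₁⁻¹) ^ n' = ((c * c₂) ^ n')⁻¹ := eq_inv_of_mul_eq_one_right e2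
          rw [this]
          exact M.inv_mem (M.pow_mem hu0 n')
        -- (c₁⁻¹ c₁⁻¹)^n' = g (c⁻²)^n' g⁻¹
        have e3 : (c₁⁻¹ * c₁⁻¹) ^ n' = g * (c ^ (2 * n'))⁻¹ * g⁻¹ := by
          have : c₁⁻¹ * c₁⁻¹ = g * (c ^ 2)⁻¹ * g⁻¹ := by rw [hc₁]; group
          rw [this, conj_pow, inv_pow, ← pow_mul]
        intro u hu
        -- g c^{-2n'} g⁻¹ ∈ M commutes with g u g⁻¹ ∈ cj g M
        have h5 := hcomm01 _ hvM (g * u * g⁻¹) (conj_mem_cj hu)
        rw [e3] at h5
        have h6 : (c ^ (2 * n'))⁻¹ * u = u * (c ^ (2 * n'))⁻¹ := by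
          have := congrArg (fun w => g⁻¹ * w * g) h5
          simpa [mul_assoc] using this
        have h7 : c ^ (2 * n') * u = u * c ^ (2 * n') := by
          have := congrArg (fun w => c ^ (2 * n') * w * c ^ (2 * n')) h6
          simpa [mul_assoc] using this.symm
        have hcop2 : (2 * n').Coprime (orderOf c) := by
          rw [hkc]
          apply Nat.Coprime.pow_right
          apply Nat.Coprime.mul_left
          · rw [Nat.coprime_comm, hp.coprime_iff_not_dvd]
            intro hd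
            exact hp2 ((Nat.prime_dvd_prime_iff_eq hp Nat.prime_two).mp hd)
          · exact hcop
        obtain ⟨m, hm⟩ := exists_pow_eq_self_of_coprime hcop2
        rw [← hm]
        exact ((Commute.pow_left (show Commute (c ^ (2 * n')) u from h7) m)).eq
    · -- case α
      have hsep2 : ∀ a ∈ P, cj (g ^ 2) L ≠ cj a L := hsep 2 h2
      have hLg2 : IsComponent (cj (g ^ 2) L) := isComponent_conj hL _
      have hMg2 : cj (g ^ 2) M = orbProd P (cj (g ^ 2) L) := cj_orbProd_comm (hgPj 2)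
      have hcomm02 : ∀ u ∈ M, ∀ v ∈ cj (g ^ 2) M, u * v = v * u := by
        rw [hMg2]
        exact orbProd_commute hL hLg2 hsep2
      set c₁ := g * c * g⁻¹ with hc₁
      set c₂ := g ^ 2 * c * (g ^ 2)⁻¹ with hc₂
      have hc2 : c₂ ∈ cj (g ^ 2) M := conj_mem_cj hc
      have hc1inv : c₁⁻¹ ∈ cj g M := (cj g M).inv_mem hc1
      -- w := c₁⁻¹ c₂ c₁⁻¹ commutes with every element of M
      have hw : ∀ u ∈ M, u * (c₁⁻¹ * c₂ * c₁⁻¹) = (c₁⁻¹ * c₂ * c₁⁻¹) * u := by
        intro u hu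
        have a1 := hcomm01 u hu _ hc1inv
        have a2 := hcomm02 u hu _ hc2
        calc u * (c₁⁻¹ * c₂ * c₁⁻¹) = (u * c₁⁻¹) * c₂ * c₁⁻¹ := by group
          _ = c₁⁻¹ * (u * c₂) * c₁⁻¹ := by rw [a1]; group
          _ = c₁⁻¹ * c₂ * (u * c₁⁻¹) := by rw [a2]; group
          _ = (c₁⁻¹ * c₂ * c₁⁻¹) * u := by rw [a1]; group
      have e1 : ⁅⁅c, g⁆, g⁆ = c * (c₁⁻¹ * c₂ * c₁⁻¹) := by rw [hexp]; group
      have hcomm : Commute c (c₁⁻¹ * c₂ * c₁⁻¹) := hw c hc
      have e2 : c ^ n' * (c₁⁻¹ * c₂ * c₁⁻¹) ^ n' = 1 := by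
        rw [← hcomm.mul_pow, ← e1]; exact hpow1
      have e3 : c ^ n' = ((c₁⁻¹ * c₂ * c₁⁻¹) ^ n')⁻¹ := eq_inv_of_mul_eq_one_left e2
      intro u hu
      have h7 : c ^ n' * u = u * c ^ n' := by
        rw [e3]
        have hwn : Commute u ((c₁⁻¹ * c₂ * c₁⁻¹) ^ n') :=
          (show Commute u (c₁⁻¹ * c₂ * c₁⁻¹) from hw u hu).pow_right n'
        exact (hwn.inv_right).eq.symm
      have hcop2 : n'.Coprime (orderOf c) := by
        rw [hkc]; exact Nat.Coprime.pow_right _ hcop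
      obtain ⟨m, hm⟩ := exists_pow_eq_self_of_coprime hcop2
      rw [← hm]
      exact ((Commute.pow_left (show Commute (c ^ n') u from h7) m)).eq
  -- endgame
  obtain ⟨S, hPS⟩ := hP.exists_le_sylow
  set R := (S : Subgroup G) ⊓ M with hR
  have hPR : ∀ a ∈ P, ∀ r ∈ R, a * r * a⁻¹ ∈ R := by
    intro a ha r hr
    refine ⟨?_, conj_mem_orbProd ha hr.2⟩
    exact (S : Subgroup G).mul_mem ((S : Subgroup G).mul_mem (hPS ha) hr.1)
      ((S : Subgroup G).inv_mem (hPS ha))
  have hnorm : P ⊔ R ≤ Subgroup.normalizer (R : Set G) := by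
    apply sup_le
    · intro a ha
      rw [Subgroup.mem_normalizer_iff]
      intro r
      constructor
      · exact hPR a ha r
      · intro h
        have := hPR a⁻¹ (P.inv_mem ha) _ h
        simpa [mul_assoc] using this
    · exact Subgroup.le_normalizer
  have hSp : IsPGroup p ↥(P ⊔ R) :=
    S.isPGroup'.to_le (sup_le hPS inf_le_left)
  have hRle : R ≤ Subgroup.centralizer (M : Set G) := by
    apply le_of_forall_commutator_mem p hSp le_sup_right
    · intro s hs r hr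
      exact (Subgroup.mem_normalizer_iff.mp (hnorm hs) r).mp hr
    · intro c hc hcs
      rw [Subgroup.mem_centralizer_iff]
      intro u hu
      have hcp : ∃ k : ℕ, orderOf c = p ^ k := by
        obtain ⟨k, hk⟩ := S.isPGroup' ⟨c, hc.1⟩
        have h1 : c ^ p ^ k = 1 := by
          have := congrArg Subtype.val hk
          simpa using this
        exact (Nat.dvd_prime_pow hp).mp (orderOf_dvd_of_pow_eq_one h1) |>.imp fun j hj => hj.2
      refine (key c hc.2 hcp ?_ u hu).symm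
      intro a ha v hv
      have := hcs a (le_sup_left (a := P) (b := R) ha)
      exact ((Subgroup.mem_centralizer_iff.mp this) v hv).symm
  -- contradiction with a non-central Sylow of L
  apply sylow_not_le_center p hO hL (sylowInf p S L hL.1)
  rw [coe_sylowInf]
  intro x hx
  rw [Subgroup.mem_subgroupOf] at hx
  rw [Subgroup.mem_center_iff]
  intro y
  have hxR : (x : G) ∈ R := ⟨hx, le_orbProd P L x.2⟩
  have := (Subgroup.mem_centralizer_iff.mp (hRle hxR)) (y : G) (le_orbProd P L y.2)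
  exact Subtype.ext this

end Finite

end Cfsg.Agent.Lib.Helper9.CompAct
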