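import Mathlib
import Cfsg.Prelude.Def_Local
import Cfsg.Agent.Lib.Helper1.ThompsonPQ
import Cfsg.Agent.Lib.Helper10.NarrowFit
import Cfsg.Agent.Lib.Helper9.CompAct2

set_option autoImplicit false
set_option linter.unusedSectionVars false
set_option linter.unusedVariables false

/-!
# Actions on components, part 3 (helper9): `O_{p'}(C_G(x))` and components

* `cpc_*`: basic facts on `D = O_{p'}(C_G(x))` (as a subgroup of `G`);
* `cpc_normalizes_comp`: if `O_{p'}(G) = 1`, `D` normalizes every component;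
* `commutator_comp_cpc_eq_bot` (**S1270**): `[L, D] = 1` for components with `[L, x] ≠ L`.
-/

namespace Cfsg.Agent.Lib.Helper9.CompAct

open Cfsg Subgroup
open scoped commutatorElement

variable {G : Type*} [Group G]

section Basic

variable (p : ℕ) (x : G)

theorem cpc_le : centralizerPPrimeCore p x ≤ Subgroup.centralizer ({x} : Set G) := by
  unfold centralizerPPrimeCore
  exact Subgroup.map_subtype_le _

theorem cpc_commute {d : G} (hd : d ∈ centralizerPPrimeCore p x) : d * x = x * d :=
  ((Subgroup.mem_centralizer_iff.mp (cpc_le p x hd)) x rfl).symm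

theorem mem_cpc_iff (g : G) : g ∈ centralizerPPrimeCore p x ↔
    ∃ h : g ∈ Subgroup.centralizer ({x} : Set G),
      (⟨g, h⟩ : Subgroup.centralizer ({x} : Set G)) ∈
        pPrimeCore p ↥(Subgroup.centralizer ({x} : Set G)) := by
  unfold centralizerPPrimeCore
  constructor
  · rintro ⟨y, hy, rfl⟩
    exact ⟨y.2, hy⟩
  · rintro ⟨h, hx⟩
    exact ⟨⟨g, h⟩, hx, rfl⟩

theorem cpc_conj_mem {y : G} (hy : y ∈ Subgroup.centralizer ({x} : Set G)) {d : G}
    (hd : d ∈ centralizerPPrimeCore p x) : y * d * y⁻¹ ∈ centralizerPPrimeCore p x := by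
  rw [mem_cpc_iff] at hd ⊢
  obtain ⟨h, hx⟩ := hd
  have hn : (pPrimeCore p ↥(Subgroup.centralizer ({x} : Set G))).Normal :=
    Cfsg.Agent.Lib.Helper1.pPrimeCore_normal p
  refine ⟨Subgroup.mul_mem _ (Subgroup.mul_mem _ hy h) (Subgroup.inv_mem _ hy), ?_⟩
  exact hn.conj_mem _ hx ⟨y, hy⟩

theorem cpc_commutator_mem {y : G} (hy : y * x = x * y) {d : G}
    (hd : d ∈ centralizerPPrimeCore p x) : ⁅y, d⁆ ∈ centralizerPPrimeCore p x := by
  have hyc : y ∈ Subgroup.centralizer ({x} : Set G) := by
    rw [Subgroup.mem_centralizer_iff]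
    intro w hw
    rw [Set.mem_singleton_iff] at hw
    rw [hw]; exact hy.symm
  rw [commutatorElement_def]
  exact Subgroup.mul_mem _ (cpc_conj_mem p x hyc hd) (Subgroup.inv_mem _ hd)

theorem cpc_coprime [Finite G] : (Nat.card (centralizerPPrimeCore p x)).Coprime p := by
  unfold centralizerPPrimeCore
  rw [Subgroup.card_map_of_injective (Subgroup.subtype_injective _)]
  exact Cfsg.Agent.Lib.Helper1.pPrimeCore_coprime p

theorem cpc_orderOf_coprime [Finite G] {d : G} (hd : d ∈ centralizerPPrimeCore p x) :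
    (orderOf d).Coprime p := by
  have h1 : orderOf d ∣ Nat.card (centralizerPPrimeCore p x) := by
    have := orderOf_dvd_natCard (⟨d, hd⟩ : centralizerPPrimeCore p x)
    rwa [Subgroup.orderOf_mk] at this
  exact Nat.Coprime.coprime_dvd_left h1 (cpc_coprime p x)

end Basic

section Finite
variable [Finite G] (p : ℕ) [Fact p.Prime]

/-- `O_{p'}(C_G(x))` centralizes `O_p(G)` (Thompson `P × Q`) -/
theorem cpc_le_centralizer_pCore {x : G} (hx : orderOf x = p) :
    centralizerPPrimeCore p x ≤ Subgroup.centralizer (pCore p G : Set G) := by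
  have hp : p.Prime := Fact.out
  set D := centralizerPPrimeCore p x with hD
  have hT : IsPGroup p (Subgroup.zpowers x) := by
    apply IsPGroup.of_card (n := 1)
    rw [Nat.card_zpowers, hx, pow_one]
  have hYp : IsPGroup p (pCore p G) := Cfsg.Agent.Lib.Helper1.pCore_isPGroup p
  have hYn : (pCore p G).Normal := inferInstance
  have hcop : (Nat.card D).Coprime (Nat.card (pCore p G)) := by
    obtain ⟨k, hk⟩ := IsPGroup.iff_card.mp hYp
    rw [hk]
    exact Nat.Coprime.pow_right k (cpc_coprime p x)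
  have hinf : D ⊓ pCore p G = ⊥ := (Subgroup.disjoint_of_coprime_natCard hcop).eq_bot
  have hnorm : Subgroup.normalizer ((pCore p G : Subgroup G) : Set G) = ⊤ :=
    Subgroup.normalizer_eq_top_iff.2 hYn
  have hTD : Subgroup.zpowers x ≤ Subgroup.centralizer (D : Set G) := by
    rw [Subgroup.zpowers_le, Subgroup.mem_centralizer_iff]
    intro d hd
    exact cpc_commute p x hd
  refine Cfsg.Agent.Lib.Helper1.thompson_PxQ p (Subgroup.zpowers x) D hT (cpc_coprime p x) hTD _
    (pCore p G) rfl hYp ?_ ?_ ?_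
  · rw [hnorm]; exact le_top
  · rw [hnorm]; exact le_top
  · rintro y ⟨hyY, hyT⟩
    rw [Subgroup.mem_centralizer_iff]
    intro d hd
    have hyx : y * x = x * y :=
      ((Subgroup.mem_centralizer_iff.mp hyT) x (Subgroup.mem_zpowers x)).symm
    have h1 : ⁅y, d⁆ ∈ D := cpc_commutator_mem p x hyx hd
    have h2 : ⁅y, d⁆ ∈ pCore p G := by
      have : y * (d * y⁻¹ * d⁻¹) ∈ pCore p G :=
        (pCore p G).mul_mem hyY (hYn.conj_mem _ (inv_mem hyY) d)
      simpa [commutatorElement_def, mul_assoc] using this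
    have h3 : ⁅y, d⁆ ∈ D ⊓ pCore p G := ⟨h1, h2⟩
    rw [hinf, Subgroup.mem_bot] at h3
    exact (commutatorElement_eq_one_iff_mul_comm.mp h3).symm

/-- if `O_{p'}(G) = 1`, the centre of the layer lies in `O_p(G)` -/
theorem center_layer_le_pCore (hO : pPrimeCore p G = ⊥) {z : G} (hz : z ∈ layer G)
    (hzc : ∀ e ∈ layer G, z * e = e * z) : z ∈ pCore p G := by
  have h1 : z ∈ layer G ⊓ Subgroup.centralizer (layer G : Set G) := by
    refine Subgroup.mem_inf.mpr ⟨hz, ?_⟩
    rw [Subgroup.mem_centralizer_iff]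
    intro e he
    exact (hzc e he).symm
  rw [← map_center_eq_inf_centralizer, map_center_layer_eq] at h1
  have h2 := Cfsg.Agent.Lib.Helper10.fittingSubgroup_le_pPrimeCore_sup_pCore (G := G) p h1.1
  rwa [hO, bot_sup_eq] at h2

/-- if `O_{p'}(G) = 1`, `O_{p'}(C_G(x))` normalizes every component of `G` -/
theorem cpc_normalizes_comp (hO : pPrimeCore p G = ⊥) {x : G} (hx : orderOf x = p)
    {d : G} (hd : d ∈ centralizerPPrimeCore p x) {L : Subgroup G} (hL : IsComponent L) :
    cj d L = L := by
  have hT : IsPGroup p (Subgroup.zpowers x) := by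
    apply IsPGroup.of_card (n := 1)
    rw [Nat.card_zpowers, hx, pow_one]
  have hdx : d * x = x * d := cpc_commute p x hd
  apply cj_comp_eq_self p hO hT (g := d)
  · rintro _ ⟨k, rfl⟩
    exact ((Commute.zpow_right (show Commute d x from hdx) k)).eq
  · exact cpc_orderOf_coprime p x hd
  · intro z hz hzc
    have h1 := center_layer_le_pCore p hO hz hzc
    exact ((Subgroup.mem_centralizer_iff.mp (cpc_le_centralizer_pCore p hx hd)) z h1).symm
  · intro y hy hyP
    have hyx : y * x = x * y := hyP x (Subgroup.mem_zpowers x)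
    exact cpc_orderOf_coprime p x (cpc_commutator_mem p x hyx hd)
  · exact hL

end Finite

end Cfsg.Agent.Lib.Helper9.CompAct
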