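import Mathlib
import Cfsg.Prelude.Def_Local
import Cfsg.Agent.Lib.Helper9.PComp2
import Cfsg.Agent.Lib.Helper9.CompAct3

set_option autoImplicit false
set_option linter.unusedSectionVars false
set_option linter.unusedVariables false

/-!
# Actions on components, part 4 (helper9): **S1270**

`commutator_comp_cpc_eq_bot`: if `O_{p'}(G) = 1`, `x` has order `p` and `L` is a component with
`[L, ⟨x⟩] ≠ L`, then `[L, O_{p'}(C_G(x))] = 1`.
-/

namespace Cfsg.Agent.Lib.Helper9.CompAct

open Cfsg Subgroup
open scoped commutatorElement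

variable {G : Type*} [Group G]

theorem conj_mem_commutator_left {L X : Subgroup G} {l : G} (hl : l ∈ L) {n : G}
    (hn : n ∈ ⁅L, X⁆) : l * n * l⁻¹ ∈ ⁅L, X⁆ := by
  have h1 : ⁅L, X⁆ ≤ (⁅L, X⁆).comap (MulAut.conj l).toMonoidHom := by
    rw [Subgroup.commutator_le]
    intro a ha b hb
    rw [Subgroup.mem_comap]
    have e : (MulAut.conj l).toMonoidHom ⁅a, b⁆ = ⁅l * a, b⁆ * ⁅l, b⁆⁻¹ := by
      simp only [MulEquiv.coe_toMonoidHom, MulAut.conj_apply, commutatorElement_def]
      group
    rw [e]
    exact Subgroup.mul_mem _ (Subgroup.commutator_mem_commutator (L.mul_mem hl ha) hb)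
      (Subgroup.inv_mem _ (Subgroup.commutator_mem_commutator hl hb))
  have := h1 hn
  rw [Subgroup.mem_comap] at this
  simpa [MulAut.conj_apply] using this

/-- for a component `L` normalized by `X`: `[L, X]` is central in `L` or equal to `L` -/
theorem comp_commutator_le_centralizer_or_eq {L X : Subgroup G} (hL : IsComponent L)
    (hX : X ≤ Subgroup.normalizer (L : Set G)) :
    ⁅L, X⁆ ≤ Subgroup.centralizer (L : Set G) ∨ ⁅L, X⁆ = L := by
  have hle : ⁅L, X⁆ ≤ L := Cfsg.Agent.Lib.Helper9.commutator_le_left_of_le_normalizer hX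
  have hn : ((⁅L, X⁆).subgroupOf L).Normal := by
    constructor
    intro n hn g
    rw [Subgroup.mem_subgroupOf] at hn ⊢
    exact conj_mem_commutator_left g.2 hn
  rcases qs_normal_le_center_or_eq_top hL.2 ((⁅L, X⁆).subgroupOf L) with h | h
  · left
    intro n hn
    rw [Subgroup.mem_centralizer_iff]
    intro l hl
    have h1 : (⟨n, hle hn⟩ : ↥L) ∈ center ↥L := h (by rw [Subgroup.mem_subgroupOf]; exact hn)
    have := (Subgroup.mem_center_iff.mp h1) ⟨l, hl⟩
    exact congrArg Subtype.val this
  · right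
    apply le_antisymm hle
    intro l hl
    have : (⟨l, hl⟩ : ↥L) ∈ (⁅L, X⁆).subgroupOf L := by rw [h]; trivial
    rwa [Subgroup.mem_subgroupOf] at this

/-- three subgroups lemma for a component -/
theorem comp_commutator_eq_bot_of_le_centralizer {L X : Subgroup G} (hL : IsComponent L)
    (h : ⁅L, X⁆ ≤ Subgroup.centralizer (L : Set G)) : ⁅L, X⁆ = ⊥ := by
  have h1 : ⁅⁅L, X⁆, L⁆ = ⊥ := Subgroup.commutator_eq_bot_iff_le_centralizer.mpr h
  have h2 : ⁅⁅X, L⁆, L⁆ = ⊥ := by rw [Subgroup.commutator_comm X L]; exact h1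
  have h3 := Subgroup.commutator_commutator_eq_bot_of_rotate h1 h2
  rwa [comp_perfect hL] at h3

/-- the partial diagonal `∏_{i<k} xⁱ l x⁻ⁱ` -/
def dg (x l : G) : ℕ → G
  | 0 => 1
  | k + 1 => dg x l k * (x ^ k * l * (x ^ k)⁻¹)

theorem dg_zero (x l : G) : dg x l 0 = 1 := rfl

theorem dg_succ (x l : G) (k : ℕ) : dg x l (k + 1) = dg x l k * (x ^ k * l * (x ^ k)⁻¹) := rfl

theorem dg_succ_left (x l : G) (k : ℕ) : dg x l (k + 1) = l * (x * dg x l k * x⁻¹) := by
  induction k with
  | zero => simp [dg]
  | succ k ih =>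
    conv_lhs => rw [dg_succ x l (k + 1), ih]
    conv_rhs => rw [dg_succ x l k]
    rw [pow_succ']
    group

theorem dg_one (x : G) (k : ℕ) : dg x 1 k = 1 := by
  induction k with
  | zero => rfl
  | succ k ih => rw [dg_succ, ih]; simp

theorem dg_conj {x d : G} (hd : d * x = x * d) (l : G) (k : ℕ) :
    d * dg x l k * d⁻¹ = dg x (d * l * d⁻¹) k := by
  induction k with
  | zero => simp [dg]
  | succ k ih =>
    rw [dg_succ, dg_succ, ← ih]
    have hc : d * x ^ k = x ^ k * d := ((Commute.pow_right (show Commute d x from hd) k)).eq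
    have hc' : (x ^ k)⁻¹ * d⁻¹ = d⁻¹ * (x ^ k)⁻¹ := by
      have := congrArg (fun w => w⁻¹) hc
      simpa using this
    calc d * (dg x l k * (x ^ k * l * (x ^ k)⁻¹)) * d⁻¹
        = d * dg x l k * d⁻¹ * ((d * x ^ k) * l * ((x ^ k)⁻¹ * d⁻¹)) := by group
      _ = d * dg x l k * d⁻¹ * ((x ^ k * d) * l * (d⁻¹ * (x ^ k)⁻¹)) := by rw [hc, hc']
      _ = d * dg x l k * d⁻¹ * (x ^ k * (d * l * d⁻¹) * (x ^ k)⁻¹) := by group

section Finite
variable [Finite G] (p : ℕ) [Fact p.Prime]

/-- the product of the other `p - 1` conjugates of `L` under `⟨x⟩` -/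
def others (x : G) (L : Subgroup G) : Subgroup G :=
  ⨆ i : {i : ℕ // 0 < i ∧ i < p}, cj (x ^ (i : ℕ)) L

variable {p}

theorem cj_pow_ne {x : G} (hx : orderOf x = p) {L : Subgroup G} (hne : cj x L ≠ L) {i : ℕ}
    (hi0 : 0 < i) (hip : i < p) : cj (x ^ i) L ≠ L := by
  have hp : p.Prime := Fact.out
  intro h
  have hcop : i.Coprime (orderOf x) := by
    rw [hx]
    exact ((Nat.Prime.coprime_iff_not_dvd hp).mpr (Nat.not_dvd_of_pos_of_lt hi0 hip)).symm
  obtain ⟨m, hm⟩ := exists_pow_eq_self_of_coprime hcop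
  apply hne
  rw [← hm]
  exact cj_pow _ _ h m

theorem comp_commute_others {x : G} (hx : orderOf x = p) {L : Subgroup G} (hL : IsComponent L)
    (hne : cj x L ≠ L) : ∀ l ∈ L, ∀ w ∈ others p x L, l * w = w * l := by
  have h1 : others p x L ≤ Subgroup.centralizer (L : Set G) := by
    apply iSup_le
    intro i
    have h2 : L ≠ cj (x ^ (i : ℕ)) L := (cj_pow_ne hx hne i.2.1 i.2.2).symm
    have h3 := comp_commutator_eq_bot_of_ne hL (isComponent_conj hL _) h2
    rw [Subgroup.commutator_comm] at h3
    exact Subgroup.commutator_eq_bot_iff_le_centralizer.mp h3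
  intro l hl w hw
  exact (Subgroup.mem_centralizer_iff.mp (h1 hw)) l hl

theorem conj_dg_mem_others {x : G} {L : Subgroup G} {l : G} (hl : l ∈ L) :
    ∀ k : ℕ, k < p → x * dg x l k * x⁻¹ ∈ others p x L := by
  intro k
  induction k with
  | zero => intro _; simp [dg]
  | succ k ih =>
    intro hk
    rw [dg_succ]
    have e : x * (dg x l k * (x ^ k * l * (x ^ k)⁻¹)) * x⁻¹ =
        (x * dg x l k * x⁻¹) * (x ^ (k + 1) * l * (x ^ (k + 1))⁻¹) := by
      rw [pow_succ']; group
    rw [e]
    refine Subgroup.mul_mem _ (ih (by omega)) ?_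
    have : cj (x ^ (k + 1)) L ≤ others p x L :=
      le_iSup (fun i : {i : ℕ // 0 < i ∧ i < p} => cj (x ^ (i : ℕ)) L) ⟨k + 1, by omega, hk⟩
    exact this (conj_mem_cj hl)

theorem dg_mul {x : G} (hx : orderOf x = p) {L : Subgroup G} (hL : IsComponent L)
    (hne : cj x L ≠ L) {l l' : G} (hl : l ∈ L) (hl' : l' ∈ L) :
    ∀ k : ℕ, k ≤ p → dg x (l * l') k = dg x l k * dg x l' k := by
  intro k
  induction k with
  | zero => intro _; simp [dg]
  | succ k ih =>
    intro hk
    rw [dg_succ_left, dg_succ_left, dg_succ_left, ih (by omega)]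
    have hc := comp_commute_others hx hL hne l' hl' _ (conj_dg_mem_others hl k (by omega))
    calc l * l' * (x * (dg x l k * dg x l' k) * x⁻¹)
        = l * (l' * (x * dg x l k * x⁻¹)) * (x * dg x l' k * x⁻¹) := by group
      _ = l * ((x * dg x l k * x⁻¹) * l') * (x * dg x l' k * x⁻¹) := by rw [hc]
      _ = l * (x * dg x l k * x⁻¹) * (l' * (x * dg x l' k * x⁻¹)) := by group

theorem dg_inv {x : G} (hx : orderOf x = p) {L : Subgroup G} (hL : IsComponent L)
    (hne : cj x L ≠ L) {l : G} (hl : l ∈ L) {k : ℕ} (hk : k ≤ p) :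
    dg x l⁻¹ k = (dg x l k)⁻¹ := by
  have h := dg_mul hx hL hne hl (L.inv_mem hl) k hk
  rw [mul_inv_cancel, dg_one] at h
  exact (inv_eq_of_mul_eq_one_right h.symm).symm

theorem dg_pow {x : G} (hx : orderOf x = p) {L : Subgroup G} (hL : IsComponent L)
    (hne : cj x L ≠ L) {l : G} (hl : l ∈ L) {k : ℕ} (hk : k ≤ p) (n : ℕ) :
    dg x (l ^ n) k = (dg x l k) ^ n := by
  induction n with
  | zero => rw [pow_zero, pow_zero, dg_one]
  | succ n ih => rw [pow_succ, pow_succ, dg_mul hx hL hne (L.pow_mem hl n) hl k hk, ih]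

theorem dg_comm {x : G} (hx : orderOf x = p) {L : Subgroup G} (hL : IsComponent L)
    (hne : cj x L ≠ L) {l : G} (hl : l ∈ L) : dg x l p * x = x * dg x l p := by
  have hp : p.Prime := Fact.out
  have h1 : dg x l (p + 1) = l * (x * dg x l p * x⁻¹) := dg_succ_left x l p
  have h2 : dg x l (p + 1) = dg x l p * l := by
    rw [dg_succ, ← hx, pow_orderOf_eq_one]; simp
  obtain ⟨q, hq⟩ : ∃ q, p = q + 1 := ⟨p - 1, by have := hp.pos; omega⟩
  have h3 : dg x l p = l * (x * dg x l q * x⁻¹) := by rw [hq]; exact dg_succ_left x l q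
  have hw : x * dg x l q * x⁻¹ ∈ others p x L := conj_dg_mem_others hl q (by omega)
  have hc := comp_commute_others hx hL hne l hl _ hw
  have h4 : x * dg x l p * x⁻¹ = dg x l p := by
    have : l * (x * dg x l p * x⁻¹) = dg x l p * l := by rw [← h1, h2]
    have e : x * dg x l p * x⁻¹ = l⁻¹ * (dg x l p * l) := by rw [← this]; group
    rw [e, h3]
    calc l⁻¹ * (l * (x * dg x l q * x⁻¹) * l) = (x * dg x l q * x⁻¹) * l := by group
      _ = l * (x * dg x l q * x⁻¹) := hc.symm
  calc dg x l p * x = (x * dg x l p * x⁻¹) * x := by rw [h4]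
    _ = x * dg x l p := by group

theorem mem_centralizer_of_dg_eq_one {x : G} (hx : orderOf x = p) {L : Subgroup G}
    (hL : IsComponent L) (hne : cj x L ≠ L) {l : G} (hl : l ∈ L) (h : dg x l p = 1) :
    l ∈ Subgroup.centralizer (L : Set G) := by
  have hp : p.Prime := Fact.out
  obtain ⟨q, hq⟩ : ∃ q, p = q + 1 := ⟨p - 1, by have := hp.pos; omega⟩
  have h3 : dg x l p = l * (x * dg x l q * x⁻¹) := by rw [hq]; exact dg_succ_left x l q
  have hw : x * dg x l q * x⁻¹ ∈ others p x L := conj_dg_mem_others hl q (by omega)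
  rw [h] at h3
  have hl' : l = (x * dg x l q * x⁻¹)⁻¹ := eq_inv_of_mul_eq_one_left h3.symm
  have hlo : l ∈ others p x L := by rw [hl']; exact Subgroup.inv_mem _ hw
  rw [Subgroup.mem_centralizer_iff]
  intro u hu
  exact comp_commute_others hx hL hne u hu l hlo

variable (p)

/-- **S1270** -/
theorem commutator_comp_cpc_eq_bot (hO : pPrimeCore p G = ⊥) {x : G} (hx : orderOf x = p)
    {L : Subgroup G} (hL : IsComponent L) (hne : ⁅L, Subgroup.zpowers x⁆ ≠ L) :
    ⁅L, centralizerPPrimeCore p x⁆ = ⊥ := by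
  have hp : p.Prime := Fact.out
  set D := centralizerPPrimeCore p x with hD
  have hDn : D ≤ Subgroup.normalizer (L : Set G) := by
    intro d hd
    have h1 : cj d L = L := cpc_normalizes_comp p hO hx hd hL
    rw [Subgroup.mem_normalizer_iff]
    intro l
    constructor
    · intro hl
      rw [← h1]; exact conj_mem_cj hl
    · intro hl
      rw [← h1, mem_cj] at hl
      simpa [mul_assoc] using hl
  by_cases hxL : cj x L = L
  · -- x normalizes L, hence centralizes it
    have hXn : Subgroup.zpowers x ≤ Subgroup.normalizer (L : Set G) := by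
      rw [Subgroup.zpowers_le, Subgroup.mem_normalizer_iff]
      intro l
      constructor
      · intro hl
        rw [← hxL]; exact conj_mem_cj hl
      · intro hl
        rw [← hxL, mem_cj] at hl
        simpa [mul_assoc] using hl
    rcases comp_commutator_le_centralizer_or_eq hL hXn with h | h
    · have h0 := comp_commutator_eq_bot_of_le_centralizer hL h
      have hLC : L ≤ Subgroup.centralizer ({x} : Set G) := by
        have h1 := Subgroup.commutator_eq_bot_iff_le_centralizer.mp h0
        intro l hl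
        rw [Subgroup.mem_centralizer_iff]
        intro w hw
        rw [Set.mem_singleton_iff] at hw
        rw [hw]
        exact ((Subgroup.mem_centralizer_iff.mp (h1 hl)) x (Subgroup.mem_zpowers x))
      set C := Subgroup.centralizer ({x} : Set G) with hC
      have hL' : IsComponent (L.subgroupOf C) := isComponent_subgroupOf hL hLC
      have hDn' : (pPrimeCore p ↥C).Normal := Cfsg.Agent.Lib.Helper1.pPrimeCore_normal p
      rcases comp_le_or_commutator_eq_bot hL' hDn'.isSubnormal with h1 | h1
      · exfalso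
        have hcard : (Nat.card ↥L).Coprime p := by
          have e : Nat.card ↥(L.subgroupOf C) = Nat.card ↥L :=
            Nat.card_congr (Subgroup.subgroupOfEquivOfLe hLC).toEquiv
          rw [← e]
          exact Nat.Coprime.coprime_dvd_left (Subgroup.card_dvd_of_le h1)
            (Cfsg.Agent.Lib.Helper1.pPrimeCore_coprime p)
        have hle := Cfsg.Agent.Lib.Helper10.subnormal_coprime_le_pPrimeCore p hL.1 hcard
        rw [hO, le_bot_iff] at hle
        exact comp_ne_bot hL hle
      · have hDC : D ≤ C := cpc_le p x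
        apply commutator_eq_bot_of_subgroupOf hLC hDC
        have e : D.subgroupOf C = pPrimeCore p ↥C := by
          rw [hD]
          unfold centralizerPPrimeCore
          rw [Subgroup.subgroupOf, Subgroup.comap_map_eq_self_of_injective
            (Subgroup.subtype_injective _)]
        rw [e]; exact h1
    · exact absurd h hne
  · -- x moves L: the diagonal argument
    rcases comp_commutator_le_centralizer_or_eq hL hDn with h | h
    · exact comp_commutator_eq_bot_of_le_centralizer hL h
    · exfalso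
      -- U := {u ∈ L | dg x u p ∈ D}
      let U : Subgroup G :=
        { carrier := {u | u ∈ L ∧ dg x u p ∈ D}
          mul_mem' := by
            rintro a b ⟨ha, ha'⟩ ⟨hb, hb'⟩
            refine ⟨L.mul_mem ha hb, ?_⟩
            rw [dg_mul hx hL hxL ha hb p le_rfl]
            exact D.mul_mem ha' hb'
          one_mem' := ⟨L.one_mem, by rw [dg_one]; exact D.one_mem⟩
          inv_mem' := by
            rintro a ⟨ha, ha'⟩
            refine ⟨L.inv_mem ha, ?_⟩
            rw [dg_inv hx hL hxL ha le_rfl]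
            exact D.inv_mem ha' }
      have hU : ⁅L, D⁆ ≤ U := by
        rw [Subgroup.commutator_le]
        intro l hl d hd
        have hdl : d * l⁻¹ * d⁻¹ ∈ L :=
          (Subgroup.mem_normalizer_iff.mp (hDn hd) l⁻¹).mp (L.inv_mem hl)
        have e : ⁅l, d⁆ = l * (d * l⁻¹ * d⁻¹) := by rw [commutatorElement_def]; group
        refine ⟨by rw [e]; exact L.mul_mem hl hdl, ?_⟩
        rw [e, dg_mul hx hL hxL hl hdl p le_rfl, ← dg_conj (cpc_commute p x hd),
          dg_inv hx hL hxL hl le_rfl]
        have := cpc_commutator_mem p x (dg_comm hx hL hxL hl) hd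
        rw [commutatorElement_def] at this
        have e2 : dg x l p * (d * (dg x l p)⁻¹ * d⁻¹) = dg x l p * d * (dg x l p)⁻¹ * d⁻¹ := by
          group
        rw [e2]; exact this
      rw [h] at hU
      -- every p-element of L is central
      have hcent : ∀ u ∈ L, (∃ k : ℕ, orderOf u = p ^ k) → u ∈ Subgroup.centralizer (L : Set G) := by
        intro u hu ⟨k, hk⟩
        apply mem_centralizer_of_dg_eq_one hx hL hxL hu
        have h1 : dg x u p ∈ D := (hU hu).2
        have h2 : (dg x u p) ^ (p ^ k) = 1 := by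
          rw [← dg_pow hx hL hxL hu le_rfl, ← hk, pow_orderOf_eq_one, dg_one]
        have h3 : orderOf (dg x u p) ∣ p ^ k := orderOf_dvd_of_pow_eq_one h2
        have h4 : (orderOf (dg x u p)).Coprime (p ^ k) :=
          Nat.Coprime.pow_right k (cpc_orderOf_coprime p x h1)
        have h5 : orderOf (dg x u p) = 1 := Nat.Coprime.eq_one_of_dvd h4 h3
        exact orderOf_eq_one_iff.mp h5
      -- contradiction with a noncentral Sylow
      have S : Sylow p ↥L := default
      apply sylow_not_le_center p hO hL S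
      intro s hs
      rw [Subgroup.mem_center_iff]
      intro y
      have hsp : ∃ k : ℕ, orderOf (s : G) = p ^ k := by
        obtain ⟨k, hk⟩ := S.isPGroup' ⟨s, hs⟩
        have h1 : (s : G) ^ p ^ k = 1 := by
          have := congrArg (fun w : ↥(S : Subgroup ↥L) => ((w : ↥L) : G)) hk
          simpa using this
        exact (Nat.dvd_prime_pow hp).mp (orderOf_dvd_of_pow_eq_one h1) |>.imp fun j hj => hj.2
      have := (Subgroup.mem_centralizer_iff.mp (hcent s s.2 hsp)) y y.2
      exact Subtype.ext this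

end Finite

end Cfsg.Agent.Lib.Helper9.CompAct
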