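import Mathlib
import Cfsg.Prelude.Def_Balance
import Cfsg.Agent.Lib.Helper9.Misc
import Cfsg.Agent.Lib.Helper9.CompAct4

set_option autoImplicit false
set_option linter.unusedSectionVars false
set_option linter.unusedVariables false

/-!
# Actions on components, part 5 (helper9): **S1271**

If `O_{p'}(G) = 1` and all sections `H / C_H(L)` (`L` a component, `L ⊴ H`) are balanced for `p`,
then `O_{p'}(C_G(x)) = 1` for every `x` of order `p`.
-/

namespace Cfsg.Agent.Lib.Helper9.CompAct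

open Cfsg Subgroup
open scoped commutatorElement

/-- a `p'`-subgroup `D̄ ≤ C(x̄)` all of whose `C(x̄)`-conjugates lie in a subgroup `B̄` normalizing
`D̄` lies in `O_{p'}(C(x̄))`. -/
theorem le_cpc_of_conj_mem {Q : Type*} [Group Q] [Finite Q] (p : ℕ) [Fact p.Prime] (xb : Q)
    (Db Bb : Subgroup Q) (hDc : Db ≤ Subgroup.centralizer ({xb} : Set Q))
    (hcop : (Nat.card Db).Coprime p)
    (hBn : ∀ b ∈ Bb, ∀ d ∈ Db, b * d * b⁻¹ ∈ Db)
    (hconj : ∀ c ∈ Subgroup.centralizer ({xb} : Set Q), ∀ d ∈ Db, c * d * c⁻¹ ∈ Bb) :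
    Db ≤ centralizerPPrimeCore p xb := by
  set C := Subgroup.centralizer ({xb} : Set Q) with hC
  set D' := Db.subgroupOf C with hD'
  set N₁ := Subgroup.normalClosure (D' : Set ↥C) with hN₁
  have hN₁n : N₁.Normal := Subgroup.normalClosure_normal
  have hD'N : D' ≤ N₁ := Subgroup.le_normalClosure
  have hN₁B : N₁ ≤ Bb.subgroupOf C := by
    rw [hN₁, Subgroup.normalClosure, Subgroup.closure_le]
    intro a ha
    rw [Group.mem_conjugatesOfSet_iff] at ha
    obtain ⟨b, hb, hba⟩ := ha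
    rw [isConj_iff] at hba
    obtain ⟨c, rfl⟩ := hba
    rw [SetLike.mem_coe, Subgroup.mem_subgroupOf]
    have hb' : (b : Q) ∈ Db := by
      rw [SetLike.mem_coe, hD', Subgroup.mem_subgroupOf] at hb
      exact hb
    have := hconj c c.2 b hb'
    simpa using this
  have hnorm : (D'.subgroupOf N₁).Normal := by
    constructor
    intro d hd n
    rw [Subgroup.mem_subgroupOf] at hd ⊢
    rw [hD', Subgroup.mem_subgroupOf] at hd ⊢
    have hn : ((n : ↥C) : Q) ∈ Bb := by
      have := hN₁B n.2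
      rwa [Subgroup.mem_subgroupOf] at this
    have := hBn _ hn _ hd
    simpa using this
  have hsub : D'.IsSubnormal := Subgroup.IsSubnormal.step D' N₁ hD'N hN₁n.isSubnormal hnorm
  have hcard : (Nat.card ↥D').Coprime p := by
    have e : Nat.card ↥D' = Nat.card ↥Db :=
      Nat.card_congr (Subgroup.subgroupOfEquivOfLe hDc).toEquiv
    rw [e]; exact hcop
  have hle := Cfsg.Agent.Lib.Helper10.subnormal_coprime_le_pPrimeCore p hsub hcard
  intro d hd
  rw [mem_cpc_iff]
  refine ⟨hDc hd, ?_⟩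
  apply hle
  rw [hD', Subgroup.mem_subgroupOf]
  exact hd

variable {G : Type*} [Group G]

theorem normal_centralizer_subgroupOf {L H : Subgroup G}
    (hHn : H ≤ Subgroup.normalizer (L : Set G)) :
    ((Subgroup.centralizer (L : Set G)).subgroupOf H).Normal := by
  constructor
  intro k hk h
  rw [Subgroup.mem_subgroupOf] at hk ⊢
  rw [Subgroup.mem_centralizer_iff] at hk ⊢
  intro l hl
  have hh := hHn h.2
  have h1 : (h : G)⁻¹ * l * (h : G) ∈ L := by
    have := (Subgroup.mem_normalizer_iff.mp (Subgroup.inv_mem _ hh) l).mp hl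
    simpa using this
  have h2 := hk _ h1
  simp only [Subgroup.coe_mul, Subgroup.coe_inv]
  calc l * ((h : G) * (k : G) * (h : G)⁻¹)
      = (h : G) * (((h : G)⁻¹ * l * (h : G)) * (k : G)) * (h : G)⁻¹ := by group
    _ = (h : G) * ((k : G) * ((h : G)⁻¹ * l * (h : G))) * (h : G)⁻¹ := by rw [h2]
    _ = (h : G) * (k : G) * (h : G)⁻¹ * l := by group

section Finite
variable [Finite G] (p : ℕ) [Fact p.Prime]

/-- a component has a noncentral `p`-element when `O_{p'}(G) = 1` -/
theorem exists_pElement_not_centralizer (hO : pPrimeCore p G = ⊥) {L : Subgroup G}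
    (hL : IsComponent L) :
    ∃ u ∈ L, (∃ k : ℕ, orderOf u = p ^ k) ∧ u ∉ Subgroup.centralizer (L : Set G) := by
  have hp : p.Prime := Fact.out
  by_contra hcon
  push Not at hcon
  have S : Sylow p ↥L := default
  apply sylow_not_le_center p hO hL S
  intro s hs
  rw [Subgroup.mem_center_iff]
  intro y
  have hsp : ∃ k : ℕ, orderOf (s : G) = p ^ k := by
    obtain ⟨k, hk⟩ := S.isPGroup' ⟨s, hs⟩
    have h1 : (s : G) ^ p ^ k = 1 := by
      have := congrArg (fun w : ↥(S : Subgroup ↥L) => ((w : ↥L) : G)) hk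
      simpa using this
    exact (Nat.dvd_prime_pow hp).mp (orderOf_dvd_of_pow_eq_one h1) |>.imp fun j hj => hj.2
  have := (Subgroup.mem_centralizer_iff.mp (hcon s s.2 hsp)) y y.2
  exact Subtype.ext this

/-- an element of a component `L` central in `L` is central in the layer -/
theorem commute_layer_of_mem_comp {L : Subgroup G} (hL : IsComponent L) {z : G} (hz : z ∈ L)
    (hzc : z ∈ Subgroup.centralizer (L : Set G)) : ∀ e ∈ layer G, z * e = e * z := by
  have h1 : layer G ≤ Subgroup.centralizer ({z} : Set G) := by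
    apply sSup_le
    intro K hK
    by_cases h : K = L
    · rw [h]
      intro u hu
      rw [Subgroup.mem_centralizer_iff]
      intro w hw
      rw [Set.mem_singleton_iff] at hw
      rw [hw]
      exact ((Subgroup.mem_centralizer_iff.mp hzc) u hu).symm
    · have h2 := comp_commutator_eq_bot_of_ne hK hL h
      have h3 := Subgroup.commutator_eq_bot_iff_le_centralizer.mp h2
      intro u hu
      rw [Subgroup.mem_centralizer_iff]
      intro w hw
      rw [Set.mem_singleton_iff] at hw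
      rw [hw]
      exact ((Subgroup.mem_centralizer_iff.mp (h3 hu)) z hz)
  intro e he
  exact ((Subgroup.mem_centralizer_iff.mp (h1 he)) z rfl)

/-- `O_{p'}(H / C_H(L)) = 1` -/
theorem pPrimeCore_quot_centralizer_eq_bot (hO : pPrimeCore p G = ⊥) {L H : Subgroup G}
    (hL : IsComponent L) (hLH : L ≤ H) (hHn : H ≤ Subgroup.normalizer (L : Set G))
    [hK : ((Subgroup.centralizer (L : Set G)).subgroupOf H).Normal] :
    pPrimeCore p (↥H ⧸ (Subgroup.centralizer (L : Set G)).subgroupOf H) = ⊥ := by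
  have hp : p.Prime := Fact.out
  set K := (Subgroup.centralizer (L : Set G)).subgroupOf H with hKdef
  set W := pPrimeCore p (↥H ⧸ K) with hW
  have hWn : W.Normal := Cfsg.Agent.Lib.Helper1.pPrimeCore_normal p
  have hWcop : (Nat.card W).Coprime p := Cfsg.Agent.Lib.Helper1.pPrimeCore_coprime p
  set W'' : Subgroup G := (W.comap (QuotientGroup.mk' K)).map H.subtype with hW''
  have hmem : ∀ g : G, g ∈ W'' ↔ ∃ hg : g ∈ H, QuotientGroup.mk' K ⟨g, hg⟩ ∈ W := by
    intro g
    rw [hW'']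
    constructor
    · rintro ⟨y, hy, rfl⟩
      exact ⟨y.2, hy⟩
    · rintro ⟨hg, h⟩
      exact ⟨⟨g, hg⟩, h, rfl⟩
  have hW''H : W'' ≤ H := Subgroup.map_subtype_le _
  have hLW : L ≤ Subgroup.normalizer (W'' : Set G) := by
    have key : ∀ l ∈ L, ∀ w ∈ W'', l * w * l⁻¹ ∈ W'' := by
      intro l hl w hw
      rw [hmem] at hw ⊢
      obtain ⟨hwH, hw⟩ := hw
      refine ⟨H.mul_mem (H.mul_mem (hLH hl) hwH) (H.inv_mem (hLH hl)), ?_⟩
      have := hWn.conj_mem _ hw (QuotientGroup.mk' K ⟨l, hLH hl⟩)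
      rw [← map_mul, ← map_inv, ← map_mul] at this
      exact this
    intro l hl
    rw [Subgroup.mem_normalizer_iff]
    intro w
    constructor
    · exact key l hl w
    · intro h
      have := key l⁻¹ (L.inv_mem hl) _ h
      simpa [mul_assoc] using this
  rcases comp_commutator_le_centralizer_or_eq hL (hW''H.trans hHn) with h | h
  · have h0 := comp_commutator_eq_bot_of_le_centralizer hL h
    rw [Subgroup.commutator_comm] at h0
    have h1 := Subgroup.commutator_eq_bot_iff_le_centralizer.mp h0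
    rw [eq_bot_iff]
    intro w hw
    obtain ⟨y, rfl⟩ := QuotientGroup.mk'_surjective K w
    have hy : (y : G) ∈ W'' := (hmem _).mpr ⟨y.2, hw⟩
    have hyK : y ∈ K := by
      rw [hKdef, Subgroup.mem_subgroupOf]
      exact h1 hy
    rw [Subgroup.mem_bot]
    exact (QuotientGroup.eq_one_iff y).mpr hyK
  · exfalso
    have hLW'' : L ≤ W'' := by
      have := Cfsg.Agent.Lib.Helper9.commutator_le_right_of_le_normalizer hLW
      rwa [h] at this
    obtain ⟨u, hu, ⟨k, hk⟩, hunc⟩ := exists_pElement_not_centralizer p hO hL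
    obtain ⟨huH, huW⟩ := (hmem u).mp (hLW'' hu)
    apply hunc
    have h1 : (QuotientGroup.mk' K ⟨u, huH⟩) ^ (p ^ k) = 1 := by
      rw [← map_pow]
      have : (⟨u, huH⟩ : ↥H) ^ (p ^ k) = 1 := by
        apply Subtype.ext
        rw [Subgroup.coe_pow, Subgroup.coe_one, ← hk, pow_orderOf_eq_one]
      rw [this, map_one]
    have h2 : orderOf (QuotientGroup.mk' K ⟨u, huH⟩) ∣ p ^ k := orderOf_dvd_of_pow_eq_one h1
    have h3 : orderOf (QuotientGroup.mk' K ⟨u, huH⟩) ∣ Nat.card W := by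
      have := orderOf_dvd_natCard (⟨_, huW⟩ : ↥W)
      rwa [Subgroup.orderOf_mk] at this
    have h4 : orderOf (QuotientGroup.mk' K ⟨u, huH⟩) = 1 :=
      Nat.Coprime.eq_one_of_dvd (Nat.Coprime.coprime_dvd_left h3 (Nat.Coprime.pow_right k hWcop)) h2
    have h5 := orderOf_eq_one_iff.mp h4
    have h6 : (⟨u, huH⟩ : ↥H) ∈ K := (QuotientGroup.eq_one_iff _).mp h5
    rw [hKdef, Subgroup.mem_subgroupOf] at h6
    exact h6

/-- commutators `[l, d]` with `l ∈ L` centralizing `x` modulo `Z(L)` and `d ∈ O_{p'}(C_G(x))`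
lie in `C_L(x)` -/
theorem commutator_mem_inf_centralizer (hO : pPrimeCore p G = ⊥) {x : G} (hx : orderOf x = p)
    {L : Subgroup G} (hL : IsComponent L) (hxL : cj x L = L) {l : G} (hl : l ∈ L)
    (hlx : ⁅l, x⁆ ∈ Subgroup.centralizer (L : Set G)) {d : G}
    (hd : d ∈ centralizerPPrimeCore p x) :
    ⁅l, d⁆ ∈ L ⊓ Subgroup.centralizer ({x} : Set G) := by
  have hdL : cj d L = L := cpc_normalizes_comp p hO hx hd hL
  have hdl : d * l⁻¹ * d⁻¹ ∈ L := by
    have := conj_mem_cj (g := d) (L.inv_mem hl)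
    rwa [hdL] at this
  have hxl : x * l⁻¹ * x⁻¹ ∈ L := by
    have := conj_mem_cj (g := x) (L.inv_mem hl)
    rwa [hxL] at this
  have e : ⁅l, d⁆ = l * (d * l⁻¹ * d⁻¹) := by rw [commutatorElement_def]; group
  have hmemL : ⁅l, d⁆ ∈ L := by rw [e]; exact L.mul_mem hl hdl
  refine Subgroup.mem_inf.mpr ⟨hmemL, ?_⟩
  set z := ⁅l, x⁆ with hz
  have hzL : z ∈ L := by
    have e2 : z = l * (x * l⁻¹ * x⁻¹) := by rw [hz, commutatorElement_def]; group
    rw [e2]; exact L.mul_mem hl hxl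
  have hzlayer := commute_layer_of_mem_comp hL hzL hlx
  have hzp : z ∈ pCore p G := center_layer_le_pCore p hO (comp_le_layer hL hzL) hzlayer
  have hdz : d * z = z * d :=
    ((Subgroup.mem_centralizer_iff.mp (cpc_le_centralizer_pCore p hx hd)) z hzp).symm
  have hdx : d * x = x * d := cpc_commute p x hd
  -- x l x⁻¹ = z⁻¹ l
  have e3 : x * l * x⁻¹ = z⁻¹ * l := by rw [hz, commutatorElement_def]; group
  have hzc : z * ⁅l, d⁆ = ⁅l, d⁆ * z :=
    ((Subgroup.mem_centralizer_iff.mp hlx) _ hmemL).symm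
  rw [Subgroup.mem_centralizer_iff]
  intro w hw
  rw [Set.mem_singleton_iff] at hw
  rw [hw]
  -- x [l,d] x⁻¹ = [x l x⁻¹, d] = [z⁻¹ l, d] = z⁻¹ [l,d] z = [l,d]
  have hxd : x * d * x⁻¹ = d := by rw [← hdx]; group
  have hxdi : x * d⁻¹ * x⁻¹ = d⁻¹ := by
    have := congrArg (fun w => w⁻¹) hxd
    simpa [mul_assoc] using this
  have hdzi : z * d⁻¹ = d⁻¹ * z := by
    have := congrArg (fun w => d⁻¹ * w * d⁻¹) hdz
    simpa [mul_assoc] using this
  have e4 : x * ⁅l, d⁆ * x⁻¹ = ⁅l, d⁆ := by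
    calc x * ⁅l, d⁆ * x⁻¹
        = (x * l * x⁻¹) * (x * d * x⁻¹) * (x * l * x⁻¹)⁻¹ * (x * d⁻¹ * x⁻¹) := by
          rw [commutatorElement_def]; group
      _ = (z⁻¹ * l) * d * (z⁻¹ * l)⁻¹ * d⁻¹ := by rw [e3, hxd, hxdi]
      _ = z⁻¹ * (l * d * l⁻¹) * (z * d⁻¹) := by group
      _ = z⁻¹ * (l * d * l⁻¹) * (d⁻¹ * z) := by rw [hdzi]
      _ = z⁻¹ * ⁅l, d⁆ * z := by rw [commutatorElement_def]; group
      _ = z⁻¹ * (z * ⁅l, d⁆) := by rw [mul_assoc, ← hzc]
      _ = ⁅l, d⁆ := by group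
  calc x * ⁅l, d⁆ = (x * ⁅l, d⁆ * x⁻¹) * x := by group
    _ = ⁅l, d⁆ * x := by rw [e4]

end Finite

end Cfsg.Agent.Lib.Helper9.CompAct
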