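import Mathlib
import Cfsg.Prelude.Def_Balance
import Cfsg.Agent.Lib.Helper9.CompAct5

set_option autoImplicit false
set_option linter.unusedSectionVars false
set_option linter.unusedVariables false

/-!
# Actions on components, part 6 (helper9): **S1271** main theorem
-/

namespace Cfsg.Agent.Lib.Helper9.CompAct

open Cfsg Subgroup
open scoped commutatorElement

variable {G : Type*} [Group G]

theorem mem_normalizer_of_cj_eq {g : G} {L : Subgroup G} (h : cj g L = L) :
    g ∈ Subgroup.normalizer (L : Set G) := by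
  rw [Subgroup.mem_normalizer_iff]
  intro l
  constructor
  · intro hl
    rw [← h]; exact conj_mem_cj hl
  · intro hl
    rw [← h, mem_cj] at hl
    simpa [mul_assoc] using hl

theorem conj_mem_centralizer_of_mem_normalizer {g : G} {L : Subgroup G}
    (hg : g ∈ Subgroup.normalizer (L : Set G)) {y : G}
    (hy : y ∈ Subgroup.centralizer (L : Set G)) : g * y * g⁻¹ ∈ Subgroup.centralizer (L : Set G) := by
  rw [Subgroup.mem_centralizer_iff] at hy ⊢
  intro l hl
  have h1 : g⁻¹ * l * g ∈ L := by
    have := (Subgroup.mem_normalizer_iff.mp (Subgroup.inv_mem _ hg) l).mp hl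
    simpa using this
  have h2 := hy _ h1
  calc l * (g * y * g⁻¹) = g * ((g⁻¹ * l * g) * y) * g⁻¹ := by group
    _ = g * (y * (g⁻¹ * l * g)) * g⁻¹ := by rw [h2]
    _ = g * y * g⁻¹ * l := by group

section Finite
variable [Finite G] (p : ℕ) [Fact p.Prime]

/-- **S1271** (main step): in the situation of S1271, `O_{p'}(C_G(x))` centralizes every component. -/
theorem cpc_le_centralizer_comp (hO : pPrimeCore p G = ⊥)
    (h : ∀ L : Subgroup G, IsComponent L → ∀ H : Subgroup G, L ≤ H → (L.subgroupOf H).Normal →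
      ∀ [((Subgroup.centralizer (L : Set G)).subgroupOf H).Normal],
        IsBalancedFor p (↥H ⧸ (Subgroup.centralizer (L : Set G)).subgroupOf H))
    {x : G} (hx : orderOf x = p) {L : Subgroup G} (hL : IsComponent L) :
    centralizerPPrimeCore p x ≤ Subgroup.centralizer (L : Set G) := by
  have hp : p.Prime := Fact.out
  set D := centralizerPPrimeCore p x with hD
  by_cases heq : ⁅L, Subgroup.zpowers x⁆ = L
  swap
  · have := commutator_comp_cpc_eq_bot p hO hx hL heq
    rw [Subgroup.commutator_comm] at this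
    exact Subgroup.commutator_eq_bot_iff_le_centralizer.mp this
  -- x normalizes L
  have hxl : ∀ l ∈ L, x * l * x⁻¹ ∈ L := by
    intro l hl
    have h1 : ⁅l⁻¹, x⁆ ∈ ⁅L, Subgroup.zpowers x⁆ :=
      Subgroup.commutator_mem_commutator (L.inv_mem hl) (Subgroup.mem_zpowers x)
    rw [heq] at h1
    have e : x * l * x⁻¹ = l * ⁅l⁻¹, x⁆ := by rw [commutatorElement_def]; group
    rw [e]; exact L.mul_mem hl h1
  have hxL : cj x L = L := by
    have hle : cj x L ≤ L := by
      rintro _ ⟨l, hl, rfl⟩
      simpa [MulAut.conj_apply] using hxl l hl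
    apply Subgroup.eq_of_le_of_card_ge hle
    rw [Subgroup.card_map_of_injective (MulAut.conj x).injective]
  set T := Subgroup.zpowers x ⊔ D with hT
  have hTc : T ≤ Subgroup.centralizer ({x} : Set G) := by
    apply sup_le
    · rw [Subgroup.zpowers_le, Subgroup.mem_centralizer_iff]
      intro w hw
      rw [Set.mem_singleton_iff] at hw
      rw [hw]
    · exact cpc_le p x
  have hDn : D ≤ Subgroup.normalizer (L : Set G) := fun d hd =>
    mem_normalizer_of_cj_eq (cpc_normalizes_comp p hO hx hd hL)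
  have hTn : T ≤ Subgroup.normalizer (L : Set G) := by
    apply sup_le
    · rw [Subgroup.zpowers_le]; exact mem_normalizer_of_cj_eq hxL
    · exact hDn
  set H := L ⊔ T with hH
  have hLH : L ≤ H := le_sup_left
  have hTH : T ≤ H := le_sup_right
  have hDH : D ≤ H := le_sup_right.trans hTH
  have hHn : H ≤ Subgroup.normalizer (L : Set G) := sup_le Subgroup.le_normalizer hTn
  have hK := normal_centralizer_subgroupOf hHn
  have hLn : (L.subgroupOf H).Normal :=
    (Subgroup.normal_subgroupOf_iff_le_normalizer hLH).mpr hHn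
  have hbal := h L hL H hLH hLn
  set K := (Subgroup.centralizer (L : Set G)).subgroupOf H with hKdef
  have hxH : x ∈ H := hTH (le_sup_left (a := Subgroup.zpowers x) (b := D) (Subgroup.mem_zpowers x))
  set xb := QuotientGroup.mk' K ⟨x, hxH⟩ with hxb
  have hxb1 : xb ≠ 1 := by
    intro h1
    have h2 : (⟨x, hxH⟩ : ↥H) ∈ K := (QuotientGroup.eq_one_iff _).mp h1
    rw [hKdef, Subgroup.mem_subgroupOf] at h2
    have h3 : Subgroup.zpowers x ≤ Subgroup.centralizer (L : Set G) := by
      rw [Subgroup.zpowers_le]; exact h2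
    have h4 : ⁅L, Subgroup.zpowers x⁆ = ⊥ := by
      rw [Subgroup.commutator_comm]
      exact Subgroup.commutator_eq_bot_iff_le_centralizer.mpr h3
    rw [heq] at h4
    exact comp_ne_bot hL h4
  have hxbp : orderOf xb = p := by
    apply orderOf_eq_prime _ hxb1
    rw [hxb, ← map_pow]
    have : (⟨x, hxH⟩ : ↥H) ^ p = 1 := by
      apply Subtype.ext
      rw [Subgroup.coe_pow, Subgroup.coe_one, ← hx, pow_orderOf_eq_one]
    rw [this, map_one]
  have h1 := hbal xb hxbp
  rw [pPrimeCore_quot_centralizer_eq_bot p hO hL hLH hHn] at h1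
  -- B'
  set B' := (L ⊓ Subgroup.centralizer ({x} : Set G)) ⊔ D with hB'
  have hB'H : B' ≤ H := sup_le (inf_le_left.trans hLH) hDH
  have hB'c : B' ≤ Subgroup.centralizer ({x} : Set G) := sup_le inf_le_right (cpc_le p x)
  set Db := (D.subgroupOf H).map (QuotientGroup.mk' K) with hDb
  set Bb := (B'.subgroupOf H).map (QuotientGroup.mk' K) with hBb
  have hDbcpc : Db ≤ centralizerPPrimeCore p xb := by
    apply le_cpc_of_conj_mem p xb Db Bb
    · rintro _ ⟨d, hd, rfl⟩
      rw [SetLike.mem_coe, Subgroup.mem_subgroupOf] at hd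
      rw [Subgroup.mem_centralizer_iff]
      intro w hw
      rw [Set.mem_singleton_iff] at hw
      rw [hw, hxb, ← map_mul, ← map_mul]
      congr 1
      apply Subtype.ext
      exact (cpc_commute p x hd).symm
    · have e : Nat.card ↥(D.subgroupOf H) = Nat.card ↥D :=
        Nat.card_congr (Subgroup.subgroupOfEquivOfLe hDH).toEquiv
      have := Subgroup.card_map_dvd (D.subgroupOf H) (QuotientGroup.mk' K)
      rw [e] at this
      exact Nat.Coprime.coprime_dvd_left this (cpc_coprime p x)
    · rintro _ ⟨b, hb, rfl⟩ _ ⟨d, hd, rfl⟩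
      rw [SetLike.mem_coe, Subgroup.mem_subgroupOf] at hb hd
      refine ⟨b * d * b⁻¹, ?_, by simp⟩
      rw [SetLike.mem_coe, Subgroup.mem_subgroupOf]
      have := cpc_conj_mem p x (hB'c hb) hd
      simpa using this
    · rintro c hc _ ⟨d, hd, rfl⟩
      rw [SetLike.mem_coe, Subgroup.mem_subgroupOf] at hd
      obtain ⟨hh, rfl⟩ := QuotientGroup.mk'_surjective K c
      obtain ⟨l, hl, t, ht, hlt⟩ := (mem_sup_of_le_normalizer hTn).mp hh.2
      have htx : t * x = x * t :=
        ((Subgroup.mem_centralizer_iff.mp (hTc ht)) x rfl).symm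
      -- π l commutes with xb
      have hπt : QuotientGroup.mk' K ⟨t, hTH ht⟩ ∈ Subgroup.centralizer ({xb} : Set (↥H ⧸ K)) := by
        rw [Subgroup.mem_centralizer_iff]
        intro w hw
        rw [Set.mem_singleton_iff] at hw
        rw [hw, hxb, ← map_mul, ← map_mul]
        congr 1
        apply Subtype.ext
        exact htx.symm
      have hhlt : hh = ⟨l, hLH hl⟩ * ⟨t, hTH ht⟩ := by
        apply Subtype.ext
        exact hlt.symm
      have hπl : QuotientGroup.mk' K ⟨l, hLH hl⟩ ∈ Subgroup.centralizer ({xb} : Set (↥H ⧸ K)) := by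
        have e : QuotientGroup.mk' K ⟨l, hLH hl⟩ =
            QuotientGroup.mk' K hh * (QuotientGroup.mk' K ⟨t, hTH ht⟩)⁻¹ := by
          rw [hhlt, map_mul]; group
        rw [e]
        exact Subgroup.mul_mem _ hc (Subgroup.inv_mem _ hπt)
      have hy : l⁻¹ * x⁻¹ * l * x ∈ Subgroup.centralizer (L : Set G) := by
        have h2 := (Subgroup.mem_centralizer_iff.mp hπl) xb rfl
        rw [hxb, ← map_mul, ← map_mul] at h2
        have h3 := (QuotientGroup.eq (s := K)).mp h2
        rw [hKdef, Subgroup.mem_subgroupOf] at h3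
        have e : (((⟨x, hxH⟩ : ↥H) * ⟨l, hLH hl⟩)⁻¹ * (⟨l, hLH hl⟩ * ⟨x, hxH⟩) : ↥H).1 =
            l⁻¹ * x⁻¹ * l * x := by
          simp [mul_assoc]
        rw [e] at h3
        exact h3
      -- [l, x] = x y x⁻¹ is central in L
      have hyL : l⁻¹ * x⁻¹ * l * x ∈ L := by
        have h2 : x⁻¹ * l * x ∈ L := by
          have := (Subgroup.mem_normalizer_iff.mp
            (Subgroup.inv_mem _ (mem_normalizer_of_cj_eq hxL)) l).mp hl
          simpa using this
        have e : l⁻¹ * x⁻¹ * l * x = l⁻¹ * (x⁻¹ * l * x) := by group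
        rw [e]; exact L.mul_mem (L.inv_mem hl) h2
      have hlx : ⁅l, x⁆ ∈ Subgroup.centralizer (L : Set G) := by
        set y := l⁻¹ * x⁻¹ * l * x with hydef
        have hly : l * y * l⁻¹ = y := by
          have := (Subgroup.mem_centralizer_iff.mp hy) l hl
          calc l * y * l⁻¹ = (l * y) * l⁻¹ := by group
            _ = (y * l) * l⁻¹ := by rw [this]
            _ = y := by group
        have e : ⁅l, x⁆ = x * (l * y * l⁻¹) * x⁻¹ := by
          rw [commutatorElement_def, hydef]; group
        rw [e, hly]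
        exact conj_mem_centralizer_of_mem_normalizer (mem_normalizer_of_cj_eq hxL) hy
      -- conjugate
      have hd'' : t * (d : G) * t⁻¹ ∈ D := cpc_conj_mem p x (hTc ht) hd
      have hcomm := commutator_mem_inf_centralizer p hO hx hL hxL hl hlx hd''
      have hprod : (hh : G) * (d : G) * (hh : G)⁻¹ ∈ B' := by
        have e : (hh : G) * (d : G) * (hh : G)⁻¹ = ⁅l, t * (d : G) * t⁻¹⁆ * (t * (d : G) * t⁻¹) := by
          rw [← hlt, commutatorElement_def]; group
        rw [e]
        exact B'.mul_mem (le_sup_left (a := L ⊓ Subgroup.centralizer ({x} : Set G)) (b := D) hcomm)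
          (le_sup_right (a := L ⊓ Subgroup.centralizer ({x} : Set G)) (b := D) hd'')
      refine ⟨hh * d * hh⁻¹, ?_, by simp⟩
      rw [SetLike.mem_coe, Subgroup.mem_subgroupOf]
      simpa using hprod
  intro d hd
  have h2 : QuotientGroup.mk' K ⟨d, hDH hd⟩ ∈ Db :=
    ⟨⟨d, hDH hd⟩, by rw [SetLike.mem_coe, Subgroup.mem_subgroupOf]; exact hd, rfl⟩
  have h3 := h1 (hDbcpc h2)
  rw [Subgroup.mem_bot] at h3
  have h4 : (⟨d, hDH hd⟩ : ↥H) ∈ K := (QuotientGroup.eq_one_iff _).mp h3
  rw [hKdef, Subgroup.mem_subgroupOf] at h4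
  exact h4

/-- **S1271** -/
theorem cpc_eq_bot_of_sections_balanced (hO : pPrimeCore p G = ⊥)
    (h : ∀ L : Subgroup G, IsComponent L → ∀ H : Subgroup G, L ≤ H → (L.subgroupOf H).Normal →
      ∀ [((Subgroup.centralizer (L : Set G)).subgroupOf H).Normal],
        IsBalancedFor p (↥H ⧸ (Subgroup.centralizer (L : Set G)).subgroupOf H))
    {x : G} (hx : orderOf x = p) : centralizerPPrimeCore p x = ⊥ := by
  set D := centralizerPPrimeCore p x with hD
  have h1 : layer G ≤ Subgroup.centralizer (D : Set G) := by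
    apply sSup_le
    intro L hL
    exact Subgroup.le_centralizer_iff.mp (cpc_le_centralizer_comp p hO h hx hL)
  have hFp : fittingSubgroup G ≤ pCore p G := by
    have := Cfsg.Agent.Lib.Helper10.fittingSubgroup_le_pPrimeCore_sup_pCore (G := G) p
    rwa [hO, bot_sup_eq] at this
  have h2 : fittingSubgroup G ≤ Subgroup.centralizer (D : Set G) :=
    hFp.trans (Subgroup.le_centralizer_iff.mp (cpc_le_centralizer_pCore p hx))
  have h3 : generalizedFittingSubgroup G ≤ Subgroup.centralizer (D : Set G) := sup_le h1 h2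
  have h4 : D ≤ Subgroup.centralizer (generalizedFittingSubgroup G : Set G) :=
    Subgroup.le_centralizer_iff.mp h3
  set Z₁ := Subgroup.centralizer (generalizedFittingSubgroup G : Set G) with hZ₁
  have hgn : (generalizedFittingSubgroup G).Normal := by
    have := gfs_characteristic (G := G)
    infer_instance
  have hZn : Z₁.Normal := Subgroup.normal_centralizer
  have hZle : Z₁ ≤ generalizedFittingSubgroup G := centralizer_gfs_le
  have hZc : IsMulCommutative ↥Z₁ := by
    refine ⟨⟨fun a b => ?_⟩⟩
    apply Subtype.ext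
    have := (Subgroup.mem_centralizer_iff.mp a.2) (b : G) (hZle b.2)
    exact this.symm
  have hZnil : Group.IsNilpotent ↥Z₁ := isNilpotent_of_isMulCommutative
  have hZF : Z₁ ≤ fittingSubgroup G := Cfsg.Agent.Lib.Helper1.le_fittingSubgroup hZn hZnil
  have hDp : D ≤ pCore p G := h4.trans (hZF.trans hFp)
  have hYp : IsPGroup p (pCore p G) := Cfsg.Agent.Lib.Helper1.pCore_isPGroup p
  have hcop : (Nat.card D).Coprime (Nat.card (pCore p G)) := by
    obtain ⟨k, hk⟩ := IsPGroup.iff_card.mp hYp
    rw [hk]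
    exact Nat.Coprime.pow_right k (cpc_coprime p x)
  have hinf : D ⊓ pCore p G = ⊥ := (Subgroup.disjoint_of_coprime_natCard hcop).eq_bot
  rw [eq_bot_iff, ← hinf]
  exact le_inf le_rfl hDp

end Finite

end Cfsg.Agent.Lib.Helper9.CompAct
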