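import Mathlib
import Cfsg.Agent.Lib.Helper9.CompAct6
import Cfsg.Agent.Lib.Helper9.Balance

/-!
# Local balance ⇒ balance (S1297)

* `map_cpc_le`: images of `O_{p'}(C(x))` under homomorphisms with centralizer lifting.
* `conjQ L H hHn : ↥H →* MulAut (↥L ⧸ center ↥L)` with kernel `C_H(L)` for perfect `L`, range containing
  all inner automorphisms.
* `isBalancedFor_two_of_isLocallyBalanced`.
* `isBalanced_of_locally_balanced` (= S1297).
-/

set_option autoImplicit false
set_option linter.unusedSectionVars false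
set_option linter.unusedVariables false

namespace Cfsg.Agent.Lib.Helper9.CompAct

open Cfsg
open scoped commutatorElement

section MapCpc

theorem map_cpc_le {A B : Type*} [Group A] [Group B] [Finite A] [Finite B] (p : ℕ) [Fact p.Prime]
    (f : A →* B) (x : A)
    (hlift : ∀ c : B, c * f x = f x * c → ∃ a : A, f a = c ∧ a * x = x * a) :
    (centralizerPPrimeCore p x).map f ≤ centralizerPPrimeCore p (f x) := by
  apply le_cpc_of_conj_mem p (f x) _ ((centralizerPPrimeCore p x).map f)
  · rintro _ ⟨d, hd, rfl⟩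
    rw [Subgroup.mem_centralizer_iff]
    intro w hw
    rw [Set.mem_singleton_iff] at hw
    rw [hw, ← map_mul, ← map_mul, cpc_commute p x hd]
  · exact Nat.Coprime.coprime_dvd_left (Subgroup.card_map_dvd _ f) (cpc_coprime p x)
  · intro b hb d hd
    exact Subgroup.mul_mem _ (Subgroup.mul_mem _ hb hd) (Subgroup.inv_mem _ hb)
  · rintro c hc _ ⟨d, hd, rfl⟩
    have hc' : c * f x = f x * c := ((Subgroup.mem_centralizer_iff.mp hc) (f x) rfl).symm
    obtain ⟨a, rfl, ha⟩ := hlift c hc'
    have hac : a ∈ Subgroup.centralizer ({x} : Set A) := by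
      rw [Subgroup.mem_centralizer_iff]
      intro w hw
      rw [Set.mem_singleton_iff] at hw
      rw [hw]; exact ha.symm
    exact ⟨a * d * a⁻¹, cpc_conj_mem p x hac hd, by simp⟩

end MapCpc

section ConjQ

/-- the automorphism induced on the quotient by a characteristic subgroup -/
noncomputable def autQuot {X : Type*} [Group X] (N : Subgroup X) [hN : N.Characteristic] :
    MulAut X →* MulAut (X ⧸ N) where
  toFun σ := QuotientGroup.congr N N σ (Subgroup.characteristic_iff_map_eq.mp hN σ)
  map_one' := by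
    ext x
    induction x using QuotientGroup.induction_on with
    | H x => rfl
  map_mul' := by
    intro a b
    ext x
    induction x using QuotientGroup.induction_on with
    | H x => rfl

theorem autQuot_mk {X : Type*} [Group X] (N : Subgroup X) [hN : N.Characteristic] (σ : MulAut X)
    (x : X) : autQuot N σ (QuotientGroup.mk x) = QuotientGroup.mk (σ x) := rfl

variable {G : Type*} [Group G]

/-- conjugation action of `H ≤ N(L)` on `L / Z(L)` -/
noncomputable def conjQ (L H : Subgroup G) (hHn : H ≤ Subgroup.normalizer (L : Set G)) :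
    ↥H →* MulAut (↥L ⧸ Subgroup.center ↥L) :=
  (autQuot (Subgroup.center ↥L)).comp ((L.normalizerMonoidHom).comp (Subgroup.inclusion hHn))

theorem conjQ_mk (L H : Subgroup G) (hHn : H ≤ Subgroup.normalizer (L : Set G)) (h : ↥H) (l : ↥L) :
    conjQ L H hHn h (QuotientGroup.mk l) =
      QuotientGroup.mk ⟨(h : G) * l * (h : G)⁻¹,
        (Subgroup.mem_normalizer_iff.mp (hHn h.2) l).mp l.2⟩ := rfl

theorem conjQ_ker {L H : Subgroup G} (hHn : H ≤ Subgroup.normalizer (L : Set G))
    (hperf : ⁅L, L⁆ = L) :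
    (conjQ L H hHn).ker = (Subgroup.centralizer (L : Set G)).subgroupOf H := by
  apply le_antisymm
  · -- three subgroups
    set M : Subgroup G := ((conjQ L H hHn).ker).map H.subtype with hM
    have hkey : ∀ m ∈ M, ∀ l ∈ L, ⁅m, l⁆ ∈ Subgroup.centralizer (L : Set G) := by
      rintro _ ⟨k, hk, rfl⟩ l hl
      have hk' : conjQ L H hHn k = 1 := hk
      have h1 := conjQ_mk L H hHn k ⟨l, hl⟩
      rw [hk', MulAut.one_apply] at h1
      have h2 := (QuotientGroup.eq (s := Subgroup.center ↥L)).mp h1
      rw [Subgroup.mem_center_iff] at h2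
      have e : ⁅(H.subtype k : G), l⁆ = (k : G) * l * (k : G)⁻¹ * l⁻¹ := by
        rw [commutatorElement_def]; rfl
      -- z := l⁻¹ * (k l k⁻¹) is central in L
      set z : G := l⁻¹ * ((k : G) * l * (k : G)⁻¹) with hz
      have hzc : ∀ u ∈ L, u * z = z * u := by
        intro u hu
        have := h2 ⟨u, hu⟩
        have := congrArg Subtype.val this
        simpa [hz] using this
      have hlz : l * z * l⁻¹ = z := by
        have := hzc l hl
        calc l * z * l⁻¹ = (z * l) * l⁻¹ := by rw [this]
          _ = z := by group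
      have e2 : ⁅(H.subtype k : G), l⁆ = l * z * l⁻¹ := by
        rw [e, hz]; group
      rw [e2, hlz, Subgroup.mem_centralizer_iff]
      intro u hu
      exact hzc u hu
    have hML : ⁅M, L⁆ ≤ Subgroup.centralizer (L : Set G) := by
      rw [Subgroup.commutator_le]
      exact hkey
    have h1 : ⁅⁅M, L⁆, L⁆ = ⊥ := Subgroup.commutator_eq_bot_iff_le_centralizer.mpr hML
    have h2 : ⁅⁅L, M⁆, L⁆ = ⊥ := by rw [Subgroup.commutator_comm L M]; exact h1
    have h3 : ⁅⁅L, L⁆, M⁆ = ⊥ := Subgroup.commutator_commutator_eq_bot_of_rotate h2 h1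
    rw [hperf, Subgroup.commutator_comm, Subgroup.commutator_eq_bot_iff_le_centralizer] at h3
    intro k hk
    rw [Subgroup.mem_subgroupOf]
    exact h3 ⟨k, hk, rfl⟩
  · intro k hk
    rw [Subgroup.mem_subgroupOf, Subgroup.mem_centralizer_iff] at hk
    rw [MonoidHom.mem_ker]
    ext q
    induction q using QuotientGroup.induction_on with
    | H l =>
      rw [conjQ_mk, MulAut.one_apply]
      congr 1
      apply Subtype.ext
      show (k : G) * l * (k : G)⁻¹ = l
      rw [← hk l l.2]; group

theorem conj_range_le_conjQ_range {L H : Subgroup G} (hHn : H ≤ Subgroup.normalizer (L : Set G))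
    (hLH : L ≤ H) :
    (MulAut.conj : (↥L ⧸ Subgroup.center ↥L) →* MulAut (↥L ⧸ Subgroup.center ↥L)).range ≤
      (conjQ L H hHn).range := by
  rintro _ ⟨q, rfl⟩
  induction q using QuotientGroup.induction_on with
  | H l =>
    refine ⟨⟨l, hLH l.2⟩, ?_⟩
    ext r
    induction r using QuotientGroup.induction_on with
    | H m =>
      rw [conjQ_mk, MulAut.conj_apply]
      rfl

theorem isBalancedFor_two_of_isLocallyBalanced [Finite G] {L H : Subgroup G} (hperf : ⁅L, L⁆ = L)
    (hLH : L ≤ H) (hHn : H ≤ Subgroup.normalizer (L : Set G))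
    [hK : ((Subgroup.centralizer (L : Set G)).subgroupOf H).Normal]
    (hlb : IsLocallyBalanced (↥L ⧸ Subgroup.center ↥L)) :
    IsBalancedFor 2 (↥H ⧸ (Subgroup.centralizer (L : Set G)).subgroupOf H) := by
  intro xb hxb
  set φ := conjQ L H hHn with hφ
  have hker : (Subgroup.centralizer (L : Set G)).subgroupOf H = φ.ker := (conjQ_ker hHn hperf).symm
  let e : (↥H ⧸ (Subgroup.centralizer (L : Set G)).subgroupOf H) ≃* φ.range :=
    (QuotientGroup.quotientMulEquivOfEq hker).trans (QuotientGroup.quotientKerEquivRange φ)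
  have h1 := hlb φ.range (conj_range_le_conjQ_range hHn hLH) (e xb)
    (by rw [MulEquiv.orderOf_eq]; exact hxb)
  have h2 := map_cpc_le 2 e.toMonoidHom xb (by
    intro c hc
    refine ⟨e.symm c, by simp, ?_⟩
    apply e.injective
    rw [map_mul, map_mul, MulEquiv.apply_symm_apply]
    exact hc)
  have h3 : (centralizerPPrimeCore 2 xb).map e.toMonoidHom = ⊥ := by
    rw [eq_bot_iff]
    refine h2.trans ?_
    rw [← h1]
    exact le_rfl
  have h4 : centralizerPPrimeCore 2 xb = ⊥ :=
    (Subgroup.map_eq_bot_iff_of_injective _ e.injective).mp h3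
  rw [h4]
  exact bot_le

end ConjQ

section Main

variable {G : Type*} [Group G] [Finite G]

theorem inf_centralizer_le_cpc_of_locally_balanced
    (h : ∀ x : G, orderOf x = 2 → ∀ K : Subgroup (↥(Subgroup.centralizer ({x} : Set G)) ⧸
      Cfsg.oddCore ↥(Subgroup.centralizer ({x} : Set G))), Cfsg.IsComponent K →
        Cfsg.IsLocallyBalanced (↥K ⧸ Subgroup.center ↥K))
    {x y : G} (hx : orderOf x = 2) (hy : orderOf y = 2) (hxy : x * y = y * x) :
    centralizerPPrimeCore 2 x ⊓ Subgroup.centralizer {y} ≤ centralizerPPrimeCore 2 y := by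
  set C := Subgroup.centralizer ({y} : Set G) with hC
  have hxC : x ∈ C := by
    rw [hC, Subgroup.mem_centralizer_iff]
    intro w hw
    rw [Set.mem_singleton_iff] at hw
    rw [hw]; exact hxy.symm
  set xc : ↥C := ⟨x, hxC⟩ with hxc
  have hxc2 : orderOf xc = 2 := by
    rw [hxc, Subgroup.orderOf_mk]; exact hx
  set N := pPrimeCore 2 ↥C with hN
  have hNn : N.Normal := Cfsg.Agent.Lib.Helper1.pPrimeCore_normal 2
  have hNcop : (Nat.card N).Coprime 2 := Cfsg.Agent.Lib.Helper1.pPrimeCore_coprime 2
  have hO : pPrimeCore 2 (↥C ⧸ N) = ⊥ := Cfsg.Agent.Lib.Helper10.pPrimeCore_quotient_eq_bot 2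
  set π := QuotientGroup.mk' N with hπ
  -- order of π xc
  have hπx1 : π xc ≠ 1 := by
    intro h1
    have h2 : xc ∈ N := (QuotientGroup.eq_one_iff _).mp h1
    have h3 : orderOf xc ∣ Nat.card N := by
      have := orderOf_dvd_natCard (⟨xc, h2⟩ : N)
      rwa [Subgroup.orderOf_mk] at this
    rw [hxc2] at h3
    have := Nat.Coprime.eq_one_of_dvd hNcop.symm h3
    omega
  have hπx2 : orderOf (π xc) = 2 := by
    apply orderOf_eq_prime _ hπx1
    rw [← map_pow, ← hxc2, pow_orderOf_eq_one, map_one]
  -- S1271 in the quotient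
  have hS : centralizerPPrimeCore 2 (π xc) = ⊥ := by
    apply cpc_eq_bot_of_sections_balanced 2 hO _ hπx2
    intro L hL H hLH hLn hKn
    have hHn : H ≤ Subgroup.normalizer (L : Set (↥C ⧸ N)) :=
      (Subgroup.normal_subgroupOf_iff_le_normalizer hLH).mp hLn
    exact isBalancedFor_two_of_isLocallyBalanced (comp_perfect hL) hLH hHn (h y hy L hL)
  have hmap : (centralizerPPrimeCore 2 xc).map π ≤ centralizerPPrimeCore 2 (π xc) := by
    apply map_cpc_le 2 π xc
    intro c hc
    exact Cfsg.Agent.Lib.Helper9.Balance.exists_lift_commute 2 N hNcop hxc2 c hc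
  rw [hS, le_bot_iff] at hmap
  have hle : centralizerPPrimeCore 2 xc ≤ N := by
    intro d hd
    have : π d ∈ (centralizerPPrimeCore 2 xc).map π := ⟨d, hd, rfl⟩
    rw [hmap, Subgroup.mem_bot] at this
    exact (QuotientGroup.eq_one_iff _).mp this
  -- D
  set D := centralizerPPrimeCore 2 x ⊓ Subgroup.centralizer {y} with hD
  have hDC : D ≤ C := inf_le_right
  have hDle : D.subgroupOf C ≤ centralizerPPrimeCore 2 xc := by
    apply le_cpc_of_conj_mem 2 xc _ (D.subgroupOf C)
    · intro d hd
      rw [Subgroup.mem_subgroupOf] at hd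
      rw [Subgroup.mem_centralizer_iff]
      intro w hw
      rw [Set.mem_singleton_iff] at hw
      rw [hw]
      apply Subtype.ext
      show x * (d : G) = (d : G) * x
      exact (cpc_commute 2 x hd.1).symm
    · have e : Nat.card ↥(D.subgroupOf C) = Nat.card ↥D :=
        Nat.card_congr (Subgroup.subgroupOfEquivOfLe hDC).toEquiv
      rw [e]
      have h1 : Nat.card ↥D ∣ Nat.card ↥(centralizerPPrimeCore 2 x) :=
        Subgroup.card_dvd_of_le inf_le_left
      exact Nat.Coprime.coprime_dvd_left h1 (cpc_coprime 2 x)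
    · intro b hb d hd
      exact Subgroup.mul_mem _ (Subgroup.mul_mem _ hb hd) (Subgroup.inv_mem _ hb)
    · intro c hc d hd
      rw [Subgroup.mem_subgroupOf] at hd ⊢
      have hcx : (c : G) ∈ Subgroup.centralizer ({x} : Set G) := by
        rw [Subgroup.mem_centralizer_iff]
        intro w hw
        rw [Set.mem_singleton_iff] at hw
        rw [hw]
        have := (Subgroup.mem_centralizer_iff.mp hc) xc rfl
        exact congrArg Subtype.val this
      refine Subgroup.mem_inf.mpr ⟨?_, ?_⟩
      · have := cpc_conj_mem 2 x hcx hd.1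
        simpa using this
      · exact (c * d * c⁻¹).2
  intro d hd
  have hdC : d ∈ C := hDC hd
  have h1 : (⟨d, hdC⟩ : ↥C) ∈ N := hle (hDle (by rw [Subgroup.mem_subgroupOf]; exact hd))
  rw [mem_cpc_iff]
  exact ⟨hdC, h1⟩

/-- **S1297** -/
theorem isBalanced_of_locally_balanced
    (h : ∀ x : G, orderOf x = 2 → ∀ K : Subgroup (↥(Subgroup.centralizer ({x} : Set G)) ⧸
      Cfsg.oddCore ↥(Subgroup.centralizer ({x} : Set G))), Cfsg.IsComponent K →
        Cfsg.IsLocallyBalanced (↥K ⧸ Subgroup.center ↥K)) : Cfsg.IsBalanced G := by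
  intro x y hx hy hxy
  apply le_antisymm
  · exact le_inf (inf_centralizer_le_cpc_of_locally_balanced h hx hy hxy)
      (inf_le_left.trans (cpc_le 2 x))
  · exact le_inf (inf_centralizer_le_cpc_of_locally_balanced h hy hx hxy.symm)
      (inf_le_left.trans (cpc_le 2 y))

end Main

end Cfsg.Agent.Lib.Helper9.CompAct
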