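import Mathlib
import Cfsg.Agent.Lib.Helper9.CompAct7

/-!
# k-balance from local k-balance (S1298)
-/

set_option autoImplicit false
set_option linter.unusedSectionVars false
set_option linter.unusedVariables false

namespace Cfsg.Agent.Lib.Helper9.CompAct

open Cfsg
open scoped commutatorElement

variable {G : Type*} [Group G]

section Finite
variable [Finite G] (p : ℕ) [Fact p.Prime]

/-- General form of the main step of S1271: `x` of order `p` normalizing the component `L`, `T` a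
subgroup of `C(x) ∩ N(L)`, `H = L T`, `ψ : H → Q` surjective with kernel `C_H(L)`. Then the image of
`O_{p'}(C_G(x)) ∩ H` lies in `O_{p'}(C_Q(ψ x))`. -/
theorem map_cpc_inf_le_cpc {Q : Type*} [Group Q] [Finite Q] (hO : pPrimeCore p G = ⊥) {x : G}
    (hx : orderOf x = p) {L : Subgroup G} (hL : IsComponent L) (hxL : cj x L = L)
    {T : Subgroup G} (hTc : T ≤ Subgroup.centralizer ({x} : Set G))
    (hTn : T ≤ Subgroup.normalizer (L : Set G)) {H : Subgroup G} (hLH : L ≤ H) (hTH : T ≤ H)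
    (hHle : H ≤ L ⊔ T) (hxH : x ∈ H)
    (ψ : ↥H →* Q) (hψs : Function.Surjective ψ)
    (hψk : ψ.ker = (Subgroup.centralizer (L : Set G)).subgroupOf H) :
    ((centralizerPPrimeCore p x ⊓ H).subgroupOf H).map ψ ≤
      centralizerPPrimeCore p (ψ ⟨x, hxH⟩) := by
  have hp : p.Prime := Fact.out
  set D := centralizerPPrimeCore p x with hD
  set D' := D ⊓ H with hD'
  have hD'H : D' ≤ H := inf_le_right
  have hD'D : D' ≤ D := inf_le_left
  set xb := ψ ⟨x, hxH⟩ with hxb
  set B' := (L ⊓ Subgroup.centralizer ({x} : Set G)) ⊔ D' with hB'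
  have hB'H : B' ≤ H := sup_le (inf_le_left.trans hLH) hD'H
  have hB'c : B' ≤ Subgroup.centralizer ({x} : Set G) :=
    sup_le inf_le_right (hD'D.trans (cpc_le p x))
  set Db := (D'.subgroupOf H).map ψ with hDb
  set Bb := (B'.subgroupOf H).map ψ with hBb
  apply le_cpc_of_conj_mem p xb Db Bb
  · rintro _ ⟨d, hd, rfl⟩
    rw [SetLike.mem_coe, Subgroup.mem_subgroupOf] at hd
    rw [Subgroup.mem_centralizer_iff]
    intro w hw
    rw [Set.mem_singleton_iff] at hw
    rw [hw, hxb, ← map_mul, ← map_mul]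
    congr 1
    apply Subtype.ext
    exact (cpc_commute p x (hD'D hd)).symm
  · have e : Nat.card ↥(D'.subgroupOf H) = Nat.card ↥D' :=
      Nat.card_congr (Subgroup.subgroupOfEquivOfLe hD'H).toEquiv
    have := Subgroup.card_map_dvd (D'.subgroupOf H) ψ
    rw [e] at this
    have h2 : Nat.card ↥D' ∣ Nat.card ↥D := Subgroup.card_dvd_of_le hD'D
    exact Nat.Coprime.coprime_dvd_left (this.trans h2) (cpc_coprime p x)
  · rintro _ ⟨b, hb, rfl⟩ _ ⟨d, hd, rfl⟩
    rw [SetLike.mem_coe, Subgroup.mem_subgroupOf] at hb hd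
    refine ⟨b * d * b⁻¹, ?_, by simp⟩
    rw [SetLike.mem_coe, Subgroup.mem_subgroupOf]
    refine Subgroup.mem_inf.mpr ⟨?_, (b * d * b⁻¹).2⟩
    have := cpc_conj_mem p x (hB'c hb) (hD'D hd)
    simpa using this
  · rintro c hc _ ⟨d, hd, rfl⟩
    rw [SetLike.mem_coe, Subgroup.mem_subgroupOf] at hd
    obtain ⟨hh, rfl⟩ := hψs c
    obtain ⟨l, hl, t, ht, hlt⟩ := (mem_sup_of_le_normalizer hTn).mp (hHle hh.2)
    have htx : t * x = x * t :=
      ((Subgroup.mem_centralizer_iff.mp (hTc ht)) x rfl).symm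
    have hπt : ψ ⟨t, hTH ht⟩ ∈ Subgroup.centralizer ({xb} : Set Q) := by
      rw [Subgroup.mem_centralizer_iff]
      intro w hw
      rw [Set.mem_singleton_iff] at hw
      rw [hw, hxb, ← map_mul, ← map_mul]
      congr 1
      apply Subtype.ext
      exact htx.symm
    have hhlt : hh = ⟨l, hLH hl⟩ * ⟨t, hTH ht⟩ := by
      apply Subtype.ext
      exact hlt.symm
    have hπl : ψ ⟨l, hLH hl⟩ ∈ Subgroup.centralizer ({xb} : Set Q) := by
      have e : ψ ⟨l, hLH hl⟩ = ψ hh * (ψ ⟨t, hTH ht⟩)⁻¹ := by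
        rw [hhlt, map_mul]; group
      rw [e]
      exact Subgroup.mul_mem _ hc (Subgroup.inv_mem _ hπt)
    have hy : l⁻¹ * x⁻¹ * l * x ∈ Subgroup.centralizer (L : Set G) := by
      have h2 := (Subgroup.mem_centralizer_iff.mp hπl) xb rfl
      rw [hxb, ← map_mul, ← map_mul] at h2
      have h3 : ((⟨x, hxH⟩ : ↥H) * ⟨l, hLH hl⟩)⁻¹ * (⟨l, hLH hl⟩ * ⟨x, hxH⟩) ∈ ψ.ker := by
        rw [MonoidHom.mem_ker, map_mul, map_inv, h2]; group
      rw [hψk, Subgroup.mem_subgroupOf] at h3
      have e : (((⟨x, hxH⟩ : ↥H) * ⟨l, hLH hl⟩)⁻¹ * (⟨l, hLH hl⟩ * ⟨x, hxH⟩) : ↥H).1 =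
          l⁻¹ * x⁻¹ * l * x := by
        simp [mul_assoc]
      rw [e] at h3
      exact h3
    have hlx : ⁅l, x⁆ ∈ Subgroup.centralizer (L : Set G) := by
      set y := l⁻¹ * x⁻¹ * l * x with hydef
      have hly : l * y * l⁻¹ = y := by
        have := (Subgroup.mem_centralizer_iff.mp hy) l hl
        calc l * y * l⁻¹ = (l * y) * l⁻¹ := by group
          _ = (y * l) * l⁻¹ := by rw [this]
          _ = y := by group
      have e : ⁅l, x⁆ = x * (l * y * l⁻¹) * x⁻¹ := by
        rw [commutatorElement_def, hydef]; group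
      rw [e, hly]
      exact conj_mem_centralizer_of_mem_normalizer (mem_normalizer_of_cj_eq hxL) hy
    have hd'' : t * (d : G) * t⁻¹ ∈ D := cpc_conj_mem p x (hTc ht) (hD'D hd)
    have hd''H : t * (d : G) * t⁻¹ ∈ H :=
      H.mul_mem (H.mul_mem (hTH ht) d.2) (H.inv_mem (hTH ht))
    have hcomm := commutator_mem_inf_centralizer p hO hx hL hxL hl hlx hd''
    have hprod : (hh : G) * (d : G) * (hh : G)⁻¹ ∈ B' := by
      have e : (hh : G) * (d : G) * (hh : G)⁻¹ = ⁅l, t * (d : G) * t⁻¹⁆ * (t * (d : G) * t⁻¹) := by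
        rw [← hlt, commutatorElement_def]; group
      rw [e]
      exact B'.mul_mem (le_sup_left (a := L ⊓ Subgroup.centralizer ({x} : Set G)) (b := D') hcomm)
        (le_sup_right (a := L ⊓ Subgroup.centralizer ({x} : Set G)) (b := D')
          (Subgroup.mem_inf.mpr ⟨hd'', hd''H⟩))
    refine ⟨hh * d * hh⁻¹, ?_, by simp⟩
    rw [SetLike.mem_coe, Subgroup.mem_subgroupOf]
    simpa using hprod

/-- `O_{p'}(C_G(x)) ∩ C ≤ O_{p'}(C_C(x))` for a subgroup `C` containing `x`. -/
theorem cpc_inf_subgroupOf_le {C : Subgroup G} {x : G} (hxC : x ∈ C) :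
    (centralizerPPrimeCore p x ⊓ C).subgroupOf C ≤ centralizerPPrimeCore p (⟨x, hxC⟩ : ↥C) := by
  set D := centralizerPPrimeCore p x ⊓ C with hD
  have hDC : D ≤ C := inf_le_right
  set xc : ↥C := ⟨x, hxC⟩ with hxc
  apply le_cpc_of_conj_mem p xc _ (D.subgroupOf C)
  · intro d hd
    rw [Subgroup.mem_subgroupOf] at hd
    rw [Subgroup.mem_centralizer_iff]
    intro w hw
    rw [Set.mem_singleton_iff] at hw
    rw [hw]
    apply Subtype.ext
    show x * (d : G) = (d : G) * x
    exact (cpc_commute p x hd.1).symm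
  · have e : Nat.card ↥(D.subgroupOf C) = Nat.card ↥D :=
      Nat.card_congr (Subgroup.subgroupOfEquivOfLe hDC).toEquiv
    rw [e]
    have h1 : Nat.card ↥D ∣ Nat.card ↥(centralizerPPrimeCore p x) :=
      Subgroup.card_dvd_of_le inf_le_left
    exact Nat.Coprime.coprime_dvd_left h1 (cpc_coprime p x)
  · intro b hb d hd
    exact Subgroup.mul_mem _ (Subgroup.mul_mem _ hb hd) (Subgroup.inv_mem _ hb)
  · intro c hc d hd
    rw [Subgroup.mem_subgroupOf] at hd ⊢
    have hcx : (c : G) ∈ Subgroup.centralizer ({x} : Set G) := by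
      rw [Subgroup.mem_centralizer_iff]
      intro w hw
      rw [Set.mem_singleton_iff] at hw
      rw [hw]
      have := (Subgroup.mem_centralizer_iff.mp hc) xc rfl
      exact congrArg Subtype.val this
    refine Subgroup.mem_inf.mpr ⟨?_, ?_⟩
    · have := cpc_conj_mem p x hcx hd.1
      simpa using this
    · exact (c * d * c⁻¹).2

/-- a subgroup of `O_{p'}(C(x))` centralizing the layer is trivial when `O_{p'}(G) = 1`. -/
theorem eq_bot_of_le_cpc_of_layer_le_centralizer (hO : pPrimeCore p G = ⊥) {x : G}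
    (hx : orderOf x = p) {D : Subgroup G} (hD : D ≤ centralizerPPrimeCore p x)
    (h1 : layer G ≤ Subgroup.centralizer (D : Set G)) : D = ⊥ := by
  have hFp : fittingSubgroup G ≤ pCore p G := by
    have := Cfsg.Agent.Lib.Helper10.fittingSubgroup_le_pPrimeCore_sup_pCore (G := G) p
    rwa [hO, bot_sup_eq] at this
  have h2 : fittingSubgroup G ≤ Subgroup.centralizer (D : Set G) :=
    hFp.trans (Subgroup.le_centralizer_iff.mp (hD.trans (cpc_le_centralizer_pCore p hx)))
  have h3 : generalizedFittingSubgroup G ≤ Subgroup.centralizer (D : Set G) := sup_le h1 h2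
  have h4 : D ≤ Subgroup.centralizer (generalizedFittingSubgroup G : Set G) :=
    Subgroup.le_centralizer_iff.mp h3
  set Z₁ := Subgroup.centralizer (generalizedFittingSubgroup G : Set G) with hZ₁
  have hgn : (generalizedFittingSubgroup G).Normal := by
    have := gfs_characteristic (G := G)
    infer_instance
  have hZn : Z₁.Normal := Subgroup.normal_centralizer
  have hZle : Z₁ ≤ generalizedFittingSubgroup G := centralizer_gfs_le
  have hZc : IsMulCommutative ↥Z₁ := by
    refine ⟨⟨fun a b => ?_⟩⟩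
    apply Subtype.ext
    have := (Subgroup.mem_centralizer_iff.mp a.2) (b : G) (hZle b.2)
    exact this.symm
  have hZnil : Group.IsNilpotent ↥Z₁ := isNilpotent_of_isMulCommutative
  have hZF : Z₁ ≤ fittingSubgroup G := Cfsg.Agent.Lib.Helper1.le_fittingSubgroup hZn hZnil
  have hDp : D ≤ pCore p G := h4.trans (hZF.trans hFp)
  have hYp : IsPGroup p (pCore p G) := Cfsg.Agent.Lib.Helper1.pCore_isPGroup p
  have hcop : (Nat.card D).Coprime (Nat.card (pCore p G)) := by
    obtain ⟨k, hk⟩ := IsPGroup.iff_card.mp hYp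
    rw [hk]
    exact Nat.Coprime.pow_right k
      (Nat.Coprime.coprime_dvd_left (Subgroup.card_dvd_of_le hD) (cpc_coprime p x))
  have hinf : D ⊓ pCore p G = ⊥ := (Subgroup.disjoint_of_coprime_natCard hcop).eq_bot
  rw [eq_bot_iff, ← hinf]
  exact le_inf le_rfl hDp

theorem cj_eq_of_commutator_zpowers_eq {x : G} {L : Subgroup G}
    (heq : ⁅L, Subgroup.zpowers x⁆ = L) : cj x L = L := by
  have hxl : ∀ l ∈ L, x * l * x⁻¹ ∈ L := by
    intro l hl
    have h1 : ⁅l⁻¹, x⁆ ∈ ⁅L, Subgroup.zpowers x⁆ :=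
      Subgroup.commutator_mem_commutator (L.inv_mem hl) (Subgroup.mem_zpowers x)
    rw [heq] at h1
    have e : x * l * x⁻¹ = l * ⁅l⁻¹, x⁆ := by rw [commutatorElement_def]; group
    rw [e]; exact L.mul_mem hl h1
  have hle : cj x L ≤ L := by
    rintro _ ⟨l, hl, rfl⟩
    simpa [MulAut.conj_apply] using hxl l hl
  apply Subgroup.eq_of_le_of_card_ge hle
  rw [cj, Subgroup.card_map_of_injective (MulAut.conj x).injective]

end Finite

/-- the image of `K` under `f` has the same order as `K` when `K ∩ ker f = 1` -/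
theorem card_map_of_inf_ker_eq_bot {X Y : Type*} [Group X] [Group Y] (f : X →* Y) (K : Subgroup X)
    (h : ∀ c ∈ K, f c = 1 → c = 1) : Nat.card ↥(K.map f) = Nat.card ↥K := by
  have hinj : Set.InjOn f (K : Set X) := by
    intro a ha b hb hab
    have h1 : f (a⁻¹ * b) = 1 := by rw [map_mul, map_inv, hab]; group
    have h2 := h _ (K.mul_mem (K.inv_mem ha) hb) h1
    calc a = a * 1 := by group
      _ = a * (a⁻¹ * b) := by rw [h2]
      _ = b := by group
  have h1 : ((K.map f : Subgroup Y) : Set Y) = f '' (K : Set X) := Subgroup.coe_map f K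
  calc Nat.card ↥(K.map f) = Nat.card ↑((K.map f : Subgroup Y) : Set Y) := rfl
    _ = Nat.card ↑(f '' (K : Set X)) := by rw [h1]
    _ = Nat.card ↑(K : Set X) := Nat.card_image_of_injOn hinj
    _ = Nat.card ↥K := rfl

theorem isElementaryAbelian_map {X Y : Type*} [Group X] [Group Y] (p : ℕ) (f : X →* Y)
    {K : Subgroup X} (hK : IsElementaryAbelian p K) : IsElementaryAbelian p (K.map f) := by
  obtain ⟨hc, he⟩ := hK
  refine ⟨⟨⟨?_⟩⟩, ?_⟩
  · rintro ⟨_, a, ha, rfl⟩ ⟨_, b, hb, rfl⟩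
    apply Subtype.ext
    show f a * f b = f b * f a
    have := hc.is_comm.comm ⟨a, ha⟩ ⟨b, hb⟩
    have := congrArg Subtype.val this
    rw [← map_mul, ← map_mul]
    exact congrArg f this
  · rintro _ ⟨a, ha, rfl⟩
    rw [← map_pow, he a ha, map_one]

section KBalance
variable [Finite G] (p : ℕ) [Fact p.Prime]

theorem orderOf_eq_of_mem_elemAb {A : Subgroup G} (hA : IsElementaryAbelian p A) {a : G}
    (ha : a ∈ A) (hne : a ≠ 1) : orderOf a = p :=
  orderOf_eq_prime (hA.2 a ha) hne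

theorem commute_of_mem_elemAb {A : Subgroup G} (hA : IsElementaryAbelian p A) {a b : G}
    (ha : a ∈ A) (hb : b ∈ A) : a * b = b * a := by
  have := hA.1.is_comm.comm ⟨a, ha⟩ ⟨b, hb⟩
  exact congrArg Subtype.val this

theorem exists_ne_one_of_card {A : Subgroup G} {k : ℕ} (hk : 1 ≤ k) (hAk : Nat.card A = p ^ k) :
    ∃ a ∈ A, a ≠ 1 := by
  have hp : p.Prime := Fact.out
  by_contra hcon
  push Not at hcon
  have : A = ⊥ := by
    rw [eq_bot_iff]
    intro a ha
    rw [Subgroup.mem_bot]; exact hcon a ha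
  rw [this, Subgroup.card_bot] at hAk
  have : 1 < p ^ k := Nat.one_lt_pow (by omega) hp.one_lt
  omega

/-- `Δ_X(A) = 1` when `O_{p'}(X) = 1` and the components are locally `k`-balanced. -/
theorem signalizerDelta_eq_bot_of_locallyKBalanced (hO : pPrimeCore p G = ⊥) {k : ℕ} (hk : 1 ≤ k)
    (h : ∀ L : Subgroup G, IsComponent L → IsLocallyKBalanced p k (↥L ⧸ Subgroup.center ↥L))
    {A : Subgroup G} (hA : IsElementaryAbelian p A) (hAk : Nat.card A = p ^ k) :
    signalizerDelta p A = ⊥ := by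
  have hp : p.Prime := Fact.out
  set D := signalizerDelta p A with hD
  have hDle : ∀ a ∈ A, a ≠ 1 → D ≤ centralizerPPrimeCore p a := by
    intro a ha hne
    exact iInf_le (fun a : {a : G // a ∈ A ∧ a ≠ 1} => centralizerPPrimeCore p (a : G))
      ⟨a, ha, hne⟩
  obtain ⟨a₀, ha₀, hne₀⟩ := exists_ne_one_of_card p hk hAk
  have hx₀ : orderOf a₀ = p := orderOf_eq_of_mem_elemAb p hA ha₀ hne₀
  apply eq_bot_of_le_cpc_of_layer_le_centralizer p hO hx₀ (hDle a₀ ha₀ hne₀)
  apply sSup_le
  intro L hL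
  apply Subgroup.le_centralizer_iff.mp
  by_cases hc : ∃ a ∈ A, a ≠ 1 ∧ ⁅L, Subgroup.zpowers a⁆ ≠ L
  · obtain ⟨a, ha, hne, hcne⟩ := hc
    have := commutator_comp_cpc_eq_bot p hO (orderOf_eq_of_mem_elemAb p hA ha hne) hL hcne
    rw [Subgroup.commutator_comm] at this
    exact (hDle a ha hne).trans (Subgroup.commutator_eq_bot_iff_le_centralizer.mp this)
  push Not at hc
  have hAcj : ∀ a ∈ A, cj a L = L := by
    intro a ha
    by_cases hne : a = 1
    · rw [hne, cj_one]
    · exact cj_eq_of_commutator_zpowers_eq (hc a ha hne)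
  have hAfaith : ∀ a ∈ A, a ∈ Subgroup.centralizer (L : Set G) → a = 1 := by
    intro a ha hac
    by_contra hne
    have h3 : Subgroup.zpowers a ≤ Subgroup.centralizer (L : Set G) := by
      rw [Subgroup.zpowers_le]; exact hac
    have h4 : ⁅L, Subgroup.zpowers a⁆ = ⊥ := by
      rw [Subgroup.commutator_comm]
      exact Subgroup.commutator_eq_bot_iff_le_centralizer.mpr h3
    rw [hc a ha hne] at h4
    exact comp_ne_bot hL h4
  set T := A ⊔ D with hT
  have hDn : D ≤ Subgroup.normalizer (L : Set G) := fun d hd =>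
    mem_normalizer_of_cj_eq (cpc_normalizes_comp p hO hx₀ (hDle a₀ ha₀ hne₀ hd) hL)
  have hTn : T ≤ Subgroup.normalizer (L : Set G) :=
    sup_le (fun a ha => mem_normalizer_of_cj_eq (hAcj a ha)) hDn
  have hTc : ∀ a ∈ A, a ≠ 1 → T ≤ Subgroup.centralizer ({a} : Set G) := by
    intro a ha hne
    apply sup_le
    · intro b hb
      rw [Subgroup.mem_centralizer_iff]
      intro w hw
      rw [Set.mem_singleton_iff] at hw
      rw [hw]
      exact commute_of_mem_elemAb p hA ha hb
    · exact (hDle a ha hne).trans (cpc_le p a)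
  set H := L ⊔ T with hH
  have hLH : L ≤ H := le_sup_left
  have hTH : T ≤ H := le_sup_right
  have hAH : A ≤ H := le_sup_left.trans hTH
  have hDH : D ≤ H := le_sup_right.trans hTH
  have hHn : H ≤ Subgroup.normalizer (L : Set G) := sup_le Subgroup.le_normalizer hTn
  set φ := conjQ L H hHn with hφ
  set ψ := φ.rangeRestrict with hψ
  have hψs : Function.Surjective ψ := φ.rangeRestrict_surjective
  have hψk : ψ.ker = (Subgroup.centralizer (L : Set G)).subgroupOf H := by
    rw [hψ, MonoidHom.ker_rangeRestrict]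
    exact conjQ_ker hHn (comp_perfect hL)
  have : Finite ↥φ.range := Finite.of_surjective ψ hψs
  set AA := (A.subgroupOf H).map ψ with hAA
  have hAH' : IsElementaryAbelian p (A.subgroupOf H) := by
    obtain ⟨hc1, he1⟩ := hA
    refine ⟨⟨⟨?_⟩⟩, ?_⟩
    · rintro ⟨a, ha⟩ ⟨b, hb⟩
      rw [Subgroup.mem_subgroupOf] at ha hb
      apply Subtype.ext
      apply Subtype.ext
      show (a : G) * (b : G) = (b : G) * (a : G)
      exact commute_of_mem_elemAb p ⟨hc1, he1⟩ ha hb
    · intro a ha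
      rw [Subgroup.mem_subgroupOf] at ha
      apply Subtype.ext
      rw [Subgroup.coe_pow, he1 _ ha]; rfl
  have hAAel : IsElementaryAbelian p AA := isElementaryAbelian_map p ψ hAH'
  have hAAcard : Nat.card ↥AA = p ^ k := by
    rw [hAA, card_map_of_inf_ker_eq_bot ψ (A.subgroupOf H), ← hAk]
    · exact Nat.card_congr (Subgroup.subgroupOfEquivOfLe hAH).toEquiv
    · intro c hc1 hc2
      rw [Subgroup.mem_subgroupOf] at hc1
      have h1 : c ∈ ψ.ker := hc2
      rw [hψk, Subgroup.mem_subgroupOf] at h1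
      apply Subtype.ext
      exact hAfaith _ hc1 h1
  have hdelta := h L hL φ.range (conj_range_le_conjQ_range hHn hLH) AA hAAel hAAcard
  intro d hd
  have h1 : ψ ⟨d, hDH hd⟩ ∈ signalizerDelta p AA := by
    unfold signalizerDelta
    rw [Subgroup.mem_iInf]
    rintro ⟨α, hα, hαne⟩
    obtain ⟨a', ha', rfl⟩ := hα
    rw [SetLike.mem_coe, Subgroup.mem_subgroupOf] at ha'
    have hane : (a' : G) ≠ 1 := by
      intro h1
      apply hαne
      have : a' = 1 := Subtype.ext h1
      rw [this, map_one]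
    have hax := orderOf_eq_of_mem_elemAb p hA ha' hane
    have key := map_cpc_inf_le_cpc p hO hax hL (hAcj _ ha') (hTc _ ha' hane) hTn hLH hTH le_rfl
      (hAH ha') ψ hψs hψk
    apply key
    refine ⟨⟨d, hDH hd⟩, ?_, rfl⟩
    rw [SetLike.mem_coe, Subgroup.mem_subgroupOf]
    exact Subgroup.mem_inf.mpr ⟨hDle _ ha' hane hd, hDH hd⟩
  rw [hdelta, Subgroup.mem_bot] at h1
  have h2 : (⟨d, hDH hd⟩ : ↥H) ∈ ψ.ker := h1
  rw [hψk, Subgroup.mem_subgroupOf] at h2
  exact h2

/-- **S1298** -/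
theorem isKBalanced_of_locallyKBalanced {k : ℕ} (hk : 1 ≤ k)
    (h : ∀ x : G, orderOf x = p → ∀ K : Subgroup (↥(Subgroup.centralizer ({x} : Set G)) ⧸
      Cfsg.pPrimeCore p ↥(Subgroup.centralizer ({x} : Set G))), Cfsg.IsComponent K →
        Cfsg.IsLocallyKBalanced p k (↥K ⧸ Subgroup.center ↥K)) : Cfsg.IsKBalanced p k G := by
  have hp : p.Prime := Fact.out
  intro A hA hAk b hb hAb
  set C := Subgroup.centralizer ({b} : Set G) with hC
  have hAC : A ≤ C := by
    intro a ha
    rw [hC, Subgroup.mem_centralizer_iff]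
    intro w hw
    rw [Set.mem_singleton_iff] at hw
    rw [hw]; exact (hAb a ha).symm
  set N := pPrimeCore p ↥C with hN
  have hNn : N.Normal := Cfsg.Agent.Lib.Helper1.pPrimeCore_normal p
  have hNcop : (Nat.card N).Coprime p := Cfsg.Agent.Lib.Helper1.pPrimeCore_coprime p
  have hO : pPrimeCore p (↥C ⧸ N) = ⊥ := Cfsg.Agent.Lib.Helper10.pPrimeCore_quotient_eq_bot p
  set π := QuotientGroup.mk' N with hπ
  set AA := (A.subgroupOf C).map π with hAA
  have hAC' : IsElementaryAbelian p (A.subgroupOf C) := by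
    obtain ⟨hc1, he1⟩ := hA
    refine ⟨⟨⟨?_⟩⟩, ?_⟩
    · rintro ⟨a, ha⟩ ⟨b, hb⟩
      rw [Subgroup.mem_subgroupOf] at ha hb
      apply Subtype.ext
      apply Subtype.ext
      show (a : G) * (b : G) = (b : G) * (a : G)
      exact commute_of_mem_elemAb p ⟨hc1, he1⟩ ha hb
    · intro a ha
      rw [Subgroup.mem_subgroupOf] at ha
      apply Subtype.ext
      rw [Subgroup.coe_pow, he1 _ ha]; rfl
  have hAAel : IsElementaryAbelian p AA := isElementaryAbelian_map p π hAC'
  have hAAcard : Nat.card ↥AA = p ^ k := by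
    rw [hAA, card_map_of_inf_ker_eq_bot π (A.subgroupOf C), ← hAk]
    · exact Nat.card_congr (Subgroup.subgroupOfEquivOfLe hAC).toEquiv
    · intro c hc1 hc2
      rw [Subgroup.mem_subgroupOf] at hc1
      have h1 : c ∈ N := (QuotientGroup.eq_one_iff _).mp hc2
      -- order of c divides p and |N|
      have h2 : orderOf c ∣ Nat.card N := by
        have := orderOf_dvd_natCard (⟨c, h1⟩ : N)
        rwa [Subgroup.orderOf_mk] at this
      have h3 : orderOf c ∣ p := by
        apply orderOf_dvd_of_pow_eq_one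
        apply Subtype.ext
        rw [Subgroup.coe_pow, hA.2 _ hc1]; rfl
      have h4 : orderOf c = 1 := Nat.Coprime.eq_one_of_dvd (Nat.Coprime.coprime_dvd_left h2 hNcop) h3
      exact orderOf_eq_one_iff.mp h4
  have hdelta : signalizerDelta p AA = ⊥ :=
    signalizerDelta_eq_bot_of_locallyKBalanced p hO hk (h b hb) hAAel hAAcard
  intro d hd
  obtain ⟨hd1, hd2⟩ := Subgroup.mem_inf.mp hd
  have hdC : d ∈ C := hd2
  have h1 : π ⟨d, hdC⟩ ∈ signalizerDelta p AA := by
    unfold signalizerDelta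
    rw [Subgroup.mem_iInf]
    rintro ⟨α, hα, hαne⟩
    obtain ⟨a', ha', rfl⟩ := hα
    rw [SetLike.mem_coe, Subgroup.mem_subgroupOf] at ha'
    have hane : (a' : G) ≠ 1 := by
      intro h1
      apply hαne
      have : a' = 1 := Subtype.ext h1
      rw [this, map_one]
    have hax := orderOf_eq_of_mem_elemAb p hA ha' hane
    have hax' : orderOf a' = p := by
      rw [← hax]; exact (Subgroup.orderOf_coe a').symm
    have hda : d ∈ centralizerPPrimeCore p (a' : G) := by
      unfold signalizerDelta at hd1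
      rw [Subgroup.mem_iInf] at hd1
      exact hd1 ⟨(a' : G), ha', hane⟩
    have h2 : (⟨d, hdC⟩ : ↥C) ∈ centralizerPPrimeCore p (⟨(a' : G), a'.2⟩ : ↥C) := by
      apply cpc_inf_subgroupOf_le p a'.2
      rw [Subgroup.mem_subgroupOf]
      exact Subgroup.mem_inf.mpr ⟨hda, hdC⟩
    have h3 : (centralizerPPrimeCore p a').map π ≤ centralizerPPrimeCore p (π a') := by
      apply map_cpc_le p π a'
      intro c hc
      exact Cfsg.Agent.Lib.Helper9.Balance.exists_lift_commute p N hNcop hax' c hc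
    exact h3 ⟨⟨d, hdC⟩, h2, rfl⟩
  rw [hdelta, Subgroup.mem_bot] at h1
  have h2 : (⟨d, hdC⟩ : ↥C) ∈ N := (QuotientGroup.eq_one_iff _).mp h1
  rw [mem_cpc_iff]
  exact ⟨hdC, h2⟩

end KBalance

end Cfsg.Agent.Lib.Helper9.CompAct
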