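import Mathlib
import Cfsg.Agent.Lib.Helper9.CompAct8
import Cfsg.Agent.Lib.Helper9.AxB

/-!
# `L_{p'}(N_G(P)) O_{p'}(N_G(P))` normalizes the components of `G` (S1269)
-/

set_option autoImplicit false
set_option linter.unusedSectionVars false
set_option linter.unusedVariables false

namespace Cfsg.Agent.Lib.Helper9.CompAct

open Cfsg
open scoped commutatorElement

variable {G : Type*} [Group G]

theorem cj_eq_of_mem_normalizer {g : G} {L : Subgroup G}
    (hg : g ∈ Subgroup.normalizer (L : Set G)) : cj g L = L := by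
  ext x
  rw [mem_cj]
  have := Subgroup.mem_normalizer_iff.mp (Subgroup.inv_mem _ hg) x
  simpa using this.symm

/-- the subgroup of elements normalizing every component -/
def compNormalizer (G : Type*) [Group G] : Subgroup G :=
  ⨅ L : {L : Subgroup G // IsComponent L}, Subgroup.normalizer ((L : Subgroup G) : Set G)

theorem mem_compNormalizer_iff {g : G} :
    g ∈ compNormalizer G ↔ ∀ L : Subgroup G, IsComponent L → cj g L = L := by
  unfold compNormalizer
  rw [Subgroup.mem_iInf]
  constructor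
  · intro h L hL
    exact cj_eq_of_mem_normalizer (h ⟨L, hL⟩)
  · rintro h ⟨L, hL⟩
    exact mem_normalizer_of_cj_eq (h L hL)

/-- lifting `p'`-elements modulo a normal `p'`-subgroup -/
theorem orderOf_coprime_of_quotient {X : Type*} [Group X] [Finite X] (p : ℕ) (W : Subgroup X)
    [W.Normal] (hW : (Nat.card W).Coprime p) (g : X)
    (h : (orderOf (QuotientGroup.mk' W g)).Coprime p) : (orderOf g).Coprime p := by
  set m := orderOf (QuotientGroup.mk' W g) with hm
  have h1 : g ^ m ∈ W := by
    rw [← QuotientGroup.eq_one_iff]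
    have : (QuotientGroup.mk' W g) ^ m = 1 := pow_orderOf_eq_one _
    rw [← map_pow] at this
    exact this
  have h2 : (g ^ m) ^ Nat.card W = 1 := by
    have h0 : (⟨g ^ m, h1⟩ : W) ^ Nat.card W = 1 := pow_card_eq_one'
    have h0' := congrArg Subtype.val h0
    rw [Subgroup.coe_pow, Subgroup.coe_one] at h0'
    exact h0'
  have h3 : orderOf g ∣ m * Nat.card W := by
    apply orderOf_dvd_of_pow_eq_one
    rw [pow_mul]; exact h2
  exact Nat.Coprime.coprime_dvd_left h3 (Nat.Coprime.mul_left h hW)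

section Finite
variable [Finite G] (p : ℕ) [Fact p.Prime]

/-- Key lemma, variant with `P × Q` built in. -/
theorem cj_comp_eq_self' (hO : pPrimeCore p G = ⊥) {P : Subgroup G} (hP : IsPGroup p P) {g : G}
    (hgP : ∀ a ∈ P, g * a = a * g) (hg : (orderOf g).Coprime p)
    (hgQ : ∀ q ∈ pCore p G, (∀ a ∈ P, q * a = a * q) → g * q = q * g)
    (hgy : ∀ y ∈ layer G, (∀ a ∈ P, y * a = a * y) → (orderOf ⁅y, g⁆).Coprime p)
    {L : Subgroup G} (hL : IsComponent L) : cj g L = L := by
  apply cj_comp_eq_self p hO hP hgP hg _ hgy hL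
  intro z hz hzc
  have hzQ : z ∈ pCore p G := center_layer_le_pCore p hO hz hzc
  have hYn : (pCore p G).Normal := Cfsg.Agent.Lib.Helper1.pCore_normal p
  have hnorm : Subgroup.normalizer ((pCore p G : Subgroup G) : Set G) = ⊤ :=
    Subgroup.normalizer_eq_top_iff.2 hYn
  have hcard : (Nat.card (Subgroup.zpowers g)).Coprime p := by
    rw [Nat.card_zpowers]; exact hg
  have hPg : P ≤ Subgroup.centralizer ((Subgroup.zpowers g : Subgroup G) : Set G) := by
    intro a ha
    rw [Subgroup.mem_centralizer_iff]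
    intro w hw
    obtain ⟨k, rfl⟩ := hw
    have : Commute g a := hgP a ha
    exact (this.zpow_left k).eq
  have key := Cfsg.Agent.Lib.Helper1.thompson_PxQ p P (Subgroup.zpowers g) hP hcard hPg _
    (pCore p G) rfl (Cfsg.Agent.Lib.Helper1.pCore_isPGroup p) (by rw [hnorm]; exact le_top)
    (by rw [hnorm]; exact le_top) (by
      rintro q ⟨hqQ, hqP⟩
      rw [Subgroup.mem_centralizer_iff]
      intro w hw
      obtain ⟨k, rfl⟩ := hw
      have h1 : g * q = q * g := hgQ q hqQ (fun a ha =>
        ((Subgroup.mem_centralizer_iff.mp hqP) a ha).symm)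
      have : Commute g q := h1
      exact (this.zpow_left k).eq)
  have := (Subgroup.mem_centralizer_iff.mp (key (Subgroup.mem_zpowers g))) z hzQ
  exact this.symm

/-- `(M ∩ C(P))` is normal in `N(P)` for `M ⊴ G`. -/
theorem normal_inf_centralizer_subgroupOf (M P : Subgroup G) [hM : M.Normal] :
    ((M ⊓ Subgroup.centralizer (P : Set G)).subgroupOf
      (Subgroup.normalizer (P : Set G))).Normal := by
  constructor
  intro k hk n
  rw [Subgroup.mem_subgroupOf] at hk ⊢
  obtain ⟨hkM, hkC⟩ := Subgroup.mem_inf.mp hk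
  refine Subgroup.mem_inf.mpr ⟨?_, ?_⟩
  · have := hM.conj_mem _ hkM (n : G)
    simpa using this
  · have := conj_mem_centralizer_of_mem_normalizer n.2 hkC
    simpa using this

/-- an element commuting with `r ∈ R` modulo `O_{p'}` commutes with `r`, for `R` a normal `p`-subgroup -/
theorem commute_of_commutator_mem_pPrimeCore {X : Type*} [Group X] [Finite X] {R : Subgroup X}
    [hR : R.Normal] (hRp : IsPGroup p R) {g r : X} (hr : r ∈ R)
    (h : ⁅g, r⁆ ∈ pPrimeCore p X) : g * r = r * g := by
  have h1 : ⁅g, r⁆ ∈ R := by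
    rw [commutatorElement_def]
    exact R.mul_mem (hR.conj_mem r hr g) (R.inv_mem hr)
  have hcop : (Nat.card (pPrimeCore p X)).Coprime (Nat.card R) := by
    obtain ⟨k, hk⟩ := IsPGroup.iff_card.mp hRp
    rw [hk]
    exact Nat.Coprime.pow_right k (Cfsg.Agent.Lib.Helper1.pPrimeCore_coprime p)
  have hinf : pPrimeCore p X ⊓ R = ⊥ := (Subgroup.disjoint_of_coprime_natCard hcop).eq_bot
  have h2 : ⁅g, r⁆ ∈ pPrimeCore p X ⊓ R := Subgroup.mem_inf.mpr ⟨h, h1⟩
  rw [hinf, Subgroup.mem_bot] at h2
  exact commutatorElement_eq_one_iff_mul_comm.mp h2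

/-- **S1269** -/
theorem comap_layer_le_compNormalizer (hO : pPrimeCore p G = ⊥) (P : Subgroup G)
    (hP : IsPGroup p P) :
    ((layer (↥(Subgroup.normalizer (P : Set G)) ⧸
        pPrimeCore p ↥(Subgroup.normalizer (P : Set G)))).comap
      (QuotientGroup.mk' (pPrimeCore p ↥(Subgroup.normalizer (P : Set G))))).map
        (Subgroup.normalizer (P : Set G)).subtype ≤ compNormalizer G := by
  have hp : p.Prime := Fact.out
  set N := Subgroup.normalizer (P : Set G) with hN
  set W := pPrimeCore p ↥N with hW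
  have hWn : W.Normal := Cfsg.Agent.Lib.Helper1.pPrimeCore_normal p
  have hWcop : (Nat.card W).Coprime p := Cfsg.Agent.Lib.Helper1.pPrimeCore_coprime p
  have hObar : pPrimeCore p (↥N ⧸ W) = ⊥ := Cfsg.Agent.Lib.Helper10.pPrimeCore_quotient_eq_bot p
  set π := QuotientGroup.mk' W with hπ
  have hπs : Function.Surjective π := QuotientGroup.mk'_surjective W
  set S := (compNormalizer G).subgroupOf N with hS
  -- the normal p-subgroups R₁, R₂ and the normal subgroup E₀
  have hQn : (pCore p G).Normal := Cfsg.Agent.Lib.Helper1.pCore_normal p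
  have hEn : (layer G).Normal := by
    have := layer_characteristic (G := G)
    infer_instance
  set R₁ := P.subgroupOf N with hR₁
  have hR₁n : R₁.Normal := Subgroup.normal_in_normalizer
  have hR₁p : IsPGroup p R₁ := hP.comap_subtype
  set R₂ := (pCore p G ⊓ Subgroup.centralizer (P : Set G)).subgroupOf N with hR₂
  have hR₂n : R₂.Normal := normal_inf_centralizer_subgroupOf (pCore p G) P
  have hR₂p : IsPGroup p R₂ :=
    ((Cfsg.Agent.Lib.Helper1.pCore_isPGroup p).to_le inf_le_left).comap_subtype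
  set E₀ := (layer G ⊓ Subgroup.centralizer (P : Set G)).subgroupOf N with hE₀
  have hE₀n : E₀.Normal := normal_inf_centralizer_subgroupOf (layer G) P
  have hcent_le : Subgroup.centralizer (P : Set G) ≤ N := Subgroup.centralizer_le_normalizer _
  -- general criterion
  have crit : ∀ g : ↥N, (orderOf g).Coprime p → (∀ r ∈ R₁, ⁅g, r⁆ ∈ W) → (∀ r ∈ R₂, ⁅g, r⁆ ∈ W) →
      (∀ y ∈ E₀, ⁅y, g⁆ ∈ W) → g ∈ S := by
    intro g hg h1 h2 h3
    rw [hS, Subgroup.mem_subgroupOf, mem_compNormalizer_iff]
    intro L hL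
    apply cj_comp_eq_self' p hO hP _ _ _ _ hL
    · intro a ha
      have haN : a ∈ N := Subgroup.le_normalizer ha
      have har : (⟨a, haN⟩ : ↥N) ∈ R₁ := by rw [hR₁, Subgroup.mem_subgroupOf]; exact ha
      have := commute_of_commutator_mem_pPrimeCore p hR₁p har (h1 _ har)
      exact congrArg Subtype.val this
    · rw [Subgroup.orderOf_coe]; exact hg
    · intro q hq hqP
      have hqC : q ∈ Subgroup.centralizer (P : Set G) := by
        rw [Subgroup.mem_centralizer_iff]
        intro a ha
        exact (hqP a ha).symm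
      have hqN : q ∈ N := hcent_le hqC
      have hqr : (⟨q, hqN⟩ : ↥N) ∈ R₂ := by
        rw [hR₂, Subgroup.mem_subgroupOf]; exact Subgroup.mem_inf.mpr ⟨hq, hqC⟩
      have := commute_of_commutator_mem_pPrimeCore p hR₂p hqr (h2 _ hqr)
      exact congrArg Subtype.val this
    · intro y hy hyP
      have hyC : y ∈ Subgroup.centralizer (P : Set G) := by
        rw [Subgroup.mem_centralizer_iff]
        intro a ha
        exact (hyP a ha).symm
      have hyN : y ∈ N := hcent_le hyC
      have hye : (⟨y, hyN⟩ : ↥N) ∈ E₀ := by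
        rw [hE₀, Subgroup.mem_subgroupOf]; exact Subgroup.mem_inf.mpr ⟨hy, hyC⟩
      have h4 := h3 _ hye
      have h5 : orderOf (⁅(⟨y, hyN⟩ : ↥N), g⁆) ∣ Nat.card W := by
        have := orderOf_dvd_natCard (⟨_, h4⟩ : W)
        rwa [Subgroup.orderOf_mk] at this
      have e : (⁅y, (g : G)⁆ : G) = ((⁅(⟨y, hyN⟩ : ↥N), g⁆ : ↥N) : G) := by
        simp [commutatorElement_def]
      rw [e, Subgroup.orderOf_coe]
      exact Nat.Coprime.coprime_dvd_left h5 hWcop
  -- Step 1: W ≤ S
  have hWS : W ≤ S := by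
    intro w hw
    have hwo : (orderOf w).Coprime p := by
      have h5 : orderOf w ∣ Nat.card W := by
        have := orderOf_dvd_natCard (⟨w, hw⟩ : W)
        rwa [Subgroup.orderOf_mk] at this
      exact Nat.Coprime.coprime_dvd_left h5 hWcop
    have hcm : ∀ r : ↥N, ⁅w, r⁆ ∈ W := by
      intro r
      rw [commutatorElement_def]
      have : w * r * w⁻¹ * r⁻¹ = w * (r * w⁻¹ * r⁻¹) := by group
      rw [this]
      exact W.mul_mem hw (hWn.conj_mem _ (W.inv_mem hw) r)
    apply crit w hwo (fun r _ => hcm r) (fun r _ => hcm r)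
    intro y _
    rw [commutatorElement_def]
    exact W.mul_mem (hWn.conj_mem _ hw y) (W.inv_mem hw)
  -- commuting in the quotient gives commutator in W
  have hcomm_mem : ∀ a b : ↥N, π a * π b = π b * π a → ⁅a, b⁆ ∈ W := by
    intro a b hab
    rw [← QuotientGroup.eq_one_iff]
    have e : ((⁅a, b⁆ : ↥N) : ↥N ⧸ W) = ⁅π a, π b⁆ := by
      rw [commutatorElement_def, commutatorElement_def]
      simp [hπ]
    rw [e, commutatorElement_eq_one_iff_mul_comm]
    exact hab
  -- images of normal p-subgroups lie in the Fitting subgroup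
  have hfit : ∀ R : Subgroup ↥N, R.Normal → IsPGroup p R →
      R.map π ≤ fittingSubgroup (↥N ⧸ W) := by
    intro R hRn hRp
    apply Cfsg.Agent.Lib.Helper1.le_fittingSubgroup (hRn.map π hπs)
    exact (hRp.map π).isNilpotent
  have hlayer_comm : ∀ R : Subgroup ↥N, R.Normal → IsPGroup p R → ∀ g : ↥N,
      π g ∈ layer (↥N ⧸ W) → ∀ r ∈ R, ⁅g, r⁆ ∈ W := by
    intro R hRn hRp g hg r hr
    apply hcomm_mem
    have h1 : π r ∈ fittingSubgroup (↥N ⧸ W) := hfit R hRn hRp ⟨r, hr, rfl⟩
    have h2 := commutator_layer_fitting (G := ↥N ⧸ W)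
    rw [Subgroup.commutator_eq_bot_iff_le_centralizer] at h2
    exact ((Subgroup.mem_centralizer_iff.mp (h2 hg)) _ h1).symm
  -- Step 2
  have hstep2 : ∀ K : Subgroup (↥N ⧸ W), IsComponent K → ∀ g : ↥N, π g ∈ K →
      (orderOf g).Coprime p → g ∈ S := by
    intro K hK g hgK hgo
    have hgl : π g ∈ layer (↥N ⧸ W) := comp_le_layer hK hgK
    have hE₀map : (E₀.map π).Normal := hE₀n.map π hπs
    rcases comp_le_or_commutator_eq_bot hK hE₀map.isSubnormal with hle | hbot
    · -- g = e * w
      obtain ⟨e, he, heg⟩ := hle hgK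
      have hw : e⁻¹ * g ∈ W := by
        rw [← QuotientGroup.eq_one_iff]
        have : ((e⁻¹ * g : ↥N) : ↥N ⧸ W) = (π e)⁻¹ * π g := by simp [hπ]
        rw [this, heg]; group
      have heS : e ∈ S := by
        rw [hS, Subgroup.mem_subgroupOf, mem_compNormalizer_iff]
        intro L hL
        rw [SetLike.mem_coe, hE₀, Subgroup.mem_subgroupOf] at he
        exact cj_eq_of_mem_normalizer (layer_le_normalizer_comp hL he.1)
      have : g = e * (e⁻¹ * g) := by group
      rw [this]
      exact S.mul_mem heS (hWS hw)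
    · apply crit g hgo (hlayer_comm R₁ hR₁n hR₁p g hgl) (hlayer_comm R₂ hR₂n hR₂p g hgl)
      intro y hy
      apply hcomm_mem
      rw [Subgroup.commutator_eq_bot_iff_le_centralizer] at hbot
      have h1 : π y ∈ E₀.map π := ⟨y, hy, rfl⟩
      exact (Subgroup.mem_centralizer_iff.mp (hbot hgK)) _ h1
  -- Step 3
  have hstep3 : ∀ K : Subgroup (↥N ⧸ W), IsComponent K → K ≤ S.map π := by
    intro K hK
    have hres : pResidual p ↥K = ⊤ :=
      Cfsg.Agent.Lib.Helper9.pResidual_eq_top_of_perfect p (qs_commutator_eq_top (comp_qs hK))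
    have h1 : (pResidual p ↥K).map K.subtype ≤ S.map π := by
      rw [pResidual, Subgroup.map_le_iff_le_comap, Subgroup.closure_le]
      intro κ hκ
      change (orderOf κ).Coprime p at hκ
      obtain ⟨g, hg⟩ := hπs (κ : ↥N ⧸ W)
      have hgo : (orderOf g).Coprime p := by
        apply orderOf_coprime_of_quotient p W hWcop g
        show (orderOf (π g)).Coprime p
        rw [hg, Subgroup.orderOf_coe]; exact hκ
      have hgS : g ∈ S := hstep2 K hK g (by rw [hg]; exact κ.2) hgo
      exact ⟨g, hgS, hg⟩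
    rw [hres, ← MonoidHom.range_eq_map, Subgroup.range_subtype] at h1
    exact h1
  -- Step 4
  have hlayer : layer (↥N ⧸ W) ≤ S.map π := by
    apply sSup_le
    intro K hK
    exact hstep3 K hK
  rintro _ ⟨n, hn, rfl⟩
  rw [SetLike.mem_coe, Subgroup.mem_comap] at hn
  obtain ⟨s, hs, hsn⟩ := hlayer hn
  have hw : s⁻¹ * n ∈ W := by
    rw [← QuotientGroup.eq_one_iff]
    have : ((s⁻¹ * n : ↥N) : ↥N ⧸ W) = (π s)⁻¹ * π n := by simp [hπ]
    rw [this, hsn]; group
  have hnS : n ∈ S := by
    have : n = s * (s⁻¹ * n) := by group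
    rw [this]
    exact S.mul_mem hs (hWS hw)
  rw [hS, Subgroup.mem_subgroupOf] at hnS
  exact hnS

end Finite

end Cfsg.Agent.Lib.Helper9.CompAct
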