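import Mathlib
import Cfsg.Agent.Lib.Helper9.CompAct9
import Cfsg.Agent.Lib.Helper10.NarrowFit
import Cfsg.Agent.Lib.Helper1.ThompsonPQ

/-!
# Bender's lemma on maximal subgroups (S1247), abstract part

`X` finite, `S ≤ F*(X)` subnormal with `C_{F*(X)}(S) ≤ S`, `T` a `p`-subgroup normalized by `S`.
Then `T` centralizes `E(X)`, `O_r(X)` (`r ≠ p`) and `O^p(F*(X))`.
-/

set_option autoImplicit false
set_option linter.unusedSectionVars false
set_option linter.unusedVariables false

namespace Cfsg.Agent.Lib.Helper9.Bender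

open Cfsg Cfsg.Agent.Lib.Helper9.CompAct
open scoped commutatorElement

variable {X : Type*} [Group X] [Finite X]

/-- `E(X) ≤ S` -/
theorem layer_le_of_selfCentralizing {S : Subgroup X} (hSsn : S.IsSubnormal)
    (hSC : generalizedFittingSubgroup X ⊓ Subgroup.centralizer (S : Set X) ≤ S) :
    layer X ≤ S := by
  apply sSup_le
  intro K hK
  rcases comp_le_or_commutator_eq_bot hK hSsn with h | h
  · exact h
  · have h1 : K ≤ Subgroup.centralizer (S : Set X) :=
      Subgroup.commutator_eq_bot_iff_le_centralizer.mp h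
    exact (le_inf ((comp_le_layer hK).trans layer_le_gfs) h1).trans hSC

/-- coprime commuting parts are powers of the product -/
theorem mem_zpowers_mul_of_coprime {Y : Type*} [Group Y] {a b : Y} (hab : a * b = b * a)
    (hcop : (orderOf a).Coprime (orderOf b)) : b ∈ Subgroup.zpowers (a * b) := by
  have hc : Commute a b := hab
  have h1 : (a * b) ^ orderOf a = b ^ orderOf a := by
    rw [hc.mul_pow, pow_orderOf_eq_one, one_mul]
  obtain ⟨k, hk⟩ := exists_pow_eq_self_of_coprime hcop
  have hb : ((a * b) ^ orderOf a) ^ k = b := by rw [h1]; exact hk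
  have := Subgroup.pow_mem _ (Subgroup.pow_mem _ (Subgroup.mem_zpowers (a * b)) (orderOf a)) k
  rwa [hb] at this

variable (r : ℕ) [Fact r.Prime]

/-- `C_{O_r(X)}(S ∩ O_r(X)) ≤ S` -/
theorem mem_of_mem_pCore_of_centralizes {S : Subgroup X} (hSsn : S.IsSubnormal)
    (hSF : S ≤ generalizedFittingSubgroup X)
    (hSC : generalizedFittingSubgroup X ⊓ Subgroup.centralizer (S : Set X) ≤ S) {x : X}
    (hx : x ∈ pCore r X) (hxc : ∀ s ∈ S ⊓ pCore r X, x * s = s * x) : x ∈ S := by
  have hr : r.Prime := Fact.out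
  have hE : layer X ≤ S := layer_le_of_selfCentralizing hSsn hSC
  have hEn : (layer X).Normal := by
    have := layer_characteristic (G := X)
    infer_instance
  have hRn : (pCore r X).Normal := Cfsg.Agent.Lib.Helper1.pCore_normal r
  have hWn : (pPrimeCore r X).Normal := Cfsg.Agent.Lib.Helper1.pPrimeCore_normal r
  have hRp : IsPGroup r (pCore r X) := Cfsg.Agent.Lib.Helper1.pCore_isPGroup r
  have hWcop : (Nat.card (pPrimeCore r X)).Coprime r := Cfsg.Agent.Lib.Helper1.pPrimeCore_coprime r
  have hdisj : Disjoint (pPrimeCore r X) (pCore r X) := by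
    apply Subgroup.disjoint_of_coprime_natCard
    obtain ⟨k, hk⟩ := IsPGroup.iff_card.mp hRp
    rw [hk]; exact Nat.Coprime.pow_right k hWcop
  have hxF : x ∈ fittingSubgroup X := Cfsg.Agent.Lib.Helper1.pCore_le_fittingSubgroup r hx
  have hEF := commutator_layer_fitting (G := X)
  rw [Subgroup.commutator_eq_bot_iff_le_centralizer] at hEF
  apply hSC
  refine Subgroup.mem_inf.mpr ⟨fitting_le_gfs hxF, ?_⟩
  rw [Subgroup.mem_centralizer_iff]
  intro s hs
  -- decompose s = e * f
  have hsF : s ∈ layer X ⊔ fittingSubgroup X := hSF hs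
  obtain ⟨e, he, f, hf, rfl⟩ := Subgroup.mem_sup_of_normal_left.mp hsF
  have hfS : f ∈ S := by
    have : f = e⁻¹ * (e * f) := by group
    rw [this]; exact S.mul_mem (S.inv_mem (hE he)) hs
  have hf2 := Cfsg.Agent.Lib.Helper10.fittingSubgroup_le_pPrimeCore_sup_pCore (G := X) r hf
  obtain ⟨f', hf', fr, hfr, rfl⟩ := Subgroup.mem_sup_of_normal_left.mp hf2
  have hcomm : f' * fr = fr * f' :=
    (Subgroup.commute_of_normal_of_disjoint _ _ hWn hRn hdisj f' fr hf' hfr).eq
  have hcop : (orderOf f').Coprime (orderOf fr) := by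
    have h1 : orderOf f' ∣ Nat.card (pPrimeCore r X) := by
      have := orderOf_dvd_natCard (⟨f', hf'⟩ : pPrimeCore r X)
      rwa [Subgroup.orderOf_mk] at this
    obtain ⟨k, hk⟩ := hRp ⟨fr, hfr⟩
    have h2 : orderOf fr ∣ r ^ k := by
      apply orderOf_dvd_of_pow_eq_one
      have := congrArg Subtype.val hk
      simpa using this
    exact Nat.Coprime.coprime_dvd_left h1
      (Nat.Coprime.coprime_dvd_right h2 (Nat.Coprime.pow_right k hWcop))
  have hfrS : fr ∈ S :=
    (Subgroup.zpowers_le.mpr hfS) (mem_zpowers_mul_of_coprime hcomm hcop)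
  -- x commutes with e, f', fr
  have h1 : e * x = x * e := ((Subgroup.mem_centralizer_iff.mp (hEF he)) x hxF).symm
  have h2 : f' * x = x * f' :=
    (Subgroup.commute_of_normal_of_disjoint _ _ hWn hRn hdisj f' x hf' hx).eq
  have h3 : x * fr = fr * x := hxc fr (Subgroup.mem_inf.mpr ⟨hfrS, hfr⟩)
  calc e * (f' * fr) * x = e * (f' * (fr * x)) := by group
    _ = e * (f' * (x * fr)) := by rw [h3]
    _ = e * ((f' * x) * fr) := by group
    _ = e * ((x * f') * fr) := by rw [h2]
    _ = (e * x) * (f' * fr) := by group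
    _ = (x * e) * (f' * fr) := by rw [h1]
    _ = x * (e * (f' * fr)) := by group

/-- Step I (`r`-part): a `p`-subgroup `T` normalized by `S` centralizes `O_r(X)`, `r ≠ p`. -/
theorem le_centralizer_pCore {p : ℕ} [Fact p.Prime] (hpr : p ≠ r) {S : Subgroup X}
    (hSsn : S.IsSubnormal) (hSF : S ≤ generalizedFittingSubgroup X)
    (hSC : generalizedFittingSubgroup X ⊓ Subgroup.centralizer (S : Set X) ≤ S)
    {T : Subgroup X} (hT : IsPGroup p T) (hST : S ≤ Subgroup.normalizer (T : Set X)) :
    T ≤ Subgroup.centralizer (pCore r X : Set X) := by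
  have hp : p.Prime := Fact.out
  have hr : r.Prime := Fact.out
  have hRn : (pCore r X).Normal := Cfsg.Agent.Lib.Helper1.pCore_normal r
  have hRp : IsPGroup r (pCore r X) := Cfsg.Agent.Lib.Helper1.pCore_isPGroup r
  have hnorm : Subgroup.normalizer ((pCore r X : Subgroup X) : Set X) = ⊤ :=
    Subgroup.normalizer_eq_top_iff.2 hRn
  have hTR : T ⊓ pCore r X = ⊥ :=
    (IsPGroup.disjoint_of_ne p r hpr _ _ hT hRp).eq_bot
  set Sr := S ⊓ pCore r X with hSr
  have hSrp : IsPGroup r Sr := hRp.to_le inf_le_right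
  -- T centralizes S_r
  have hcomm : ∀ s ∈ Sr, ∀ t ∈ T, s * t = t * s := by
    intro s hs t ht
    have h1 : ⁅s, t⁆ ∈ T := by
      rw [commutatorElement_def]
      have := (Subgroup.mem_normalizer_iff.mp (hST hs.1) t).mp ht
      exact T.mul_mem this (T.inv_mem ht)
    have h2 : ⁅s, t⁆ ∈ pCore r X := by
      rw [commutatorElement_def]
      have e : s * t * s⁻¹ * t⁻¹ = s * (t * s⁻¹ * t⁻¹) := by group
      rw [e]
      exact (pCore r X).mul_mem hs.2 (hRn.conj_mem _ ((pCore r X).inv_mem hs.2) t)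
    have h3 : ⁅s, t⁆ ∈ T ⊓ pCore r X := Subgroup.mem_inf.mpr ⟨h1, h2⟩
    rw [hTR, Subgroup.mem_bot] at h3
    exact commutatorElement_eq_one_iff_mul_comm.mp h3
  have hTcop : (Nat.card T).Coprime r := by
    obtain ⟨k, hk⟩ := IsPGroup.iff_card.mp hT
    rw [hk]
    exact Nat.Coprime.pow_left k ((Nat.coprime_primes hp hr).mpr hpr)
  have hPQ : Sr ≤ Subgroup.centralizer (T : Set X) := by
    intro s hs
    rw [Subgroup.mem_centralizer_iff]
    intro t ht
    exact (hcomm s hs t ht).symm
  refine Cfsg.Agent.Lib.Helper1.thompson_PxQ r Sr T hSrp hTcop hPQ _ (pCore r X) rfl hRp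
    (by rw [hnorm]; exact le_top) (by rw [hnorm]; exact le_top) ?_
  rintro x ⟨hxR, hxc⟩
  have hxS : x ∈ S := by
    apply mem_of_mem_pCore_of_centralizes r hSsn hSF hSC hxR
    intro s hs
    exact ((Subgroup.mem_centralizer_iff.mp hxc) s hs).symm
  rw [Subgroup.mem_centralizer_iff]
  intro t ht
  exact (hcomm x (Subgroup.mem_inf.mpr ⟨hxS, hxR⟩) t ht).symm

omit [Fact r.Prime] in
/-- Step I (layer part): a `p`-subgroup `T` normalized by `S` centralizes `E(X)`. -/
theorem le_centralizer_layer {p : ℕ} [Fact p.Prime] {S : Subgroup X}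
    (hSsn : S.IsSubnormal)
    (hSC : generalizedFittingSubgroup X ⊓ Subgroup.centralizer (S : Set X) ≤ S)
    {T : Subgroup X} (hT : IsPGroup p T) (hST : S ≤ Subgroup.normalizer (T : Set X)) :
    T ≤ Subgroup.centralizer (layer X : Set X) := by
  have hE : layer X ≤ S := layer_le_of_selfCentralizing hSsn hSC
  have hEn : (layer X).Normal := by
    have := layer_characteristic (G := X)
    infer_instance
  have hET : layer X ≤ Subgroup.normalizer (T : Set X) := hE.trans hST
  set I := layer X ⊓ T with hI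
  have hIsolv : Group.IsSolvable ↥I := by
    have h1 : IsPGroup p I := hT.to_le inf_le_right
    have := h1.isNilpotent
    infer_instance
  have hEI : layer X ≤ Subgroup.centralizer (I : Set X) := by
    apply sSup_le
    intro K hK
    apply Subgroup.commutator_eq_bot_iff_le_centralizer.mp
    apply comp_commutator_solvable_eq_bot hK hIsolv
    intro k hk
    have hkE : k ∈ layer X := comp_le_layer hK hk
    rw [Subgroup.mem_normalizer_iff]
    intro y
    rw [hI, Subgroup.mem_inf, Subgroup.mem_inf]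
    constructor
    · rintro ⟨h1, h2⟩
      exact ⟨hEn.conj_mem y h1 k, (Subgroup.mem_normalizer_iff.mp (hET hkE) y).mp h2⟩
    · rintro ⟨h1, h2⟩
      refine ⟨?_, (Subgroup.mem_normalizer_iff.mp (hET hkE) y).mpr h2⟩
      have := hEn.conj_mem _ h1 k⁻¹
      simpa [mul_assoc] using this
  have hcomm_le : ⁅layer X, T⁆ ≤ I := by
    rw [Subgroup.commutator_le]
    intro e he t ht
    refine Subgroup.mem_inf.mpr ⟨?_, ?_⟩
    · rw [commutatorElement_def]
      have e1 : e * t * e⁻¹ * t⁻¹ = e * (t * e⁻¹ * t⁻¹) := by group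
      rw [e1]
      exact (layer X).mul_mem he (hEn.conj_mem _ ((layer X).inv_mem he) t)
    · rw [commutatorElement_def]
      exact T.mul_mem ((Subgroup.mem_normalizer_iff.mp (hET he) t).mp ht) (T.inv_mem ht)
  have h1 : ⁅⁅layer X, T⁆, layer X⁆ = ⊥ := by
    rw [Subgroup.commutator_eq_bot_iff_le_centralizer]
    refine hcomm_le.trans ?_
    exact Subgroup.le_centralizer_iff.mp hEI
  have h2 : ⁅⁅T, layer X⁆, layer X⁆ = ⊥ := by rw [Subgroup.commutator_comm T]; exact h1
  have h3 : ⁅⁅layer X, layer X⁆, T⁆ = ⊥ := Subgroup.commutator_commutator_eq_bot_of_rotate h1 h2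
  rw [layer_perfect, Subgroup.commutator_comm, Subgroup.commutator_eq_bot_iff_le_centralizer] at h3
  exact h3

omit [Fact r.Prime] in
/-- `D' = E(X) · ∏_{r ≠ p} O_r(X)` -/
def residualPart (p : ℕ) (X : Type*) [Group X] : Subgroup X :=
  layer X ⊔ ⨆ r : {r : Nat.Primes // (r : ℕ) ≠ p}, pCore (r : ℕ) X

omit [Fact r.Prime] [Finite X] in
theorem residualPart_normal (p : ℕ) : (residualPart p X).Normal := by
  have hEn : (layer X).Normal := by
    have := layer_characteristic (G := X)
    infer_instance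
  have : ∀ r : {r : Nat.Primes // (r : ℕ) ≠ p}, (pCore (r : ℕ) X).Normal :=
    fun r => Cfsg.Agent.Lib.Helper1.pCore_normal _
  unfold residualPart
  infer_instance

omit [Fact r.Prime] in
theorem gfs_le_residualPart_sup_pCore (p : ℕ) [Fact p.Prime] :
    generalizedFittingSubgroup X ≤ residualPart p X ⊔ pCore p X := by
  unfold generalizedFittingSubgroup
  apply sup_le
  · exact le_sup_left.trans le_sup_left
  · rw [Cfsg.Agent.Lib.Helper1.fittingSubgroup_eq_iSup_primes]
    apply iSup_le
    intro q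
    by_cases hq : (q : ℕ) = p
    · rw [hq]; exact le_sup_right
    · refine le_trans ?_ le_sup_left
      refine le_trans ?_ (le_sup_right (a := layer X))
      exact le_iSup (fun r : {r : Nat.Primes // (r : ℕ) ≠ p} => pCore (r : ℕ) X) ⟨q, hq⟩

omit [Fact r.Prime] in
/-- `p'`-elements of `F*(X)` lie in `D'`. -/
theorem mem_residualPart_of_coprime (p : ℕ) [Fact p.Prime] {g : X}
    (hg : g ∈ generalizedFittingSubgroup X) (hgo : (orderOf g).Coprime p) :
    g ∈ residualPart p X := by
  have hn : (residualPart p X).Normal := residualPart_normal p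
  have h1 := gfs_le_residualPart_sup_pCore p hg
  obtain ⟨d, hd, u, hu, rfl⟩ := Subgroup.mem_sup_of_normal_left.mp h1
  have hup : IsPGroup p (pCore p X) := Cfsg.Agent.Lib.Helper1.pCore_isPGroup p
  obtain ⟨k, hk⟩ := hup ⟨u, hu⟩
  have huk : u ^ p ^ k = 1 := by
    have := congrArg Subtype.val hk
    simpa using this
  set π := QuotientGroup.mk' (residualPart p X) with hπ
  have e1 : π (d * u) = π u := by
    rw [map_mul]
    have : π d = 1 := (QuotientGroup.eq_one_iff d).mpr hd
    rw [this, one_mul]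
  have h2 : orderOf (π (d * u)) ∣ orderOf (d * u) := orderOf_map_dvd π (d * u)
  have h3 : orderOf (π u) ∣ p ^ k := by
    apply orderOf_dvd_of_pow_eq_one
    rw [← map_pow, huk, map_one]
  rw [e1] at h2
  have h4 : orderOf (π u) = 1 :=
    Nat.Coprime.eq_one_of_dvd
      (Nat.Coprime.coprime_dvd_left h2 (Nat.Coprime.pow_right k hgo)) h3
  have h5 : π u = 1 := orderOf_eq_one_iff.mp h4
  have h6 : u ∈ residualPart p X := (QuotientGroup.eq_one_iff u).mp h5
  exact (residualPart p X).mul_mem hd h6

omit [Fact r.Prime] in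
/-- **Step I**: `T` centralizes `D'`. -/
theorem residualPart_le_centralizer {p : ℕ} [Fact p.Prime] {S : Subgroup X}
    (hSsn : S.IsSubnormal) (hSF : S ≤ generalizedFittingSubgroup X)
    (hSC : generalizedFittingSubgroup X ⊓ Subgroup.centralizer (S : Set X) ≤ S)
    {T : Subgroup X} (hT : IsPGroup p T) (hST : S ≤ Subgroup.normalizer (T : Set X)) :
    residualPart p X ≤ Subgroup.centralizer (T : Set X) := by
  unfold residualPart
  apply sup_le
  · exact Subgroup.le_centralizer_iff.mp (le_centralizer_layer hSsn hSC hT hST)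
  · apply iSup_le
    rintro ⟨q, hq⟩
    have : Fact (q : ℕ).Prime := ⟨q.2⟩
    exact Subgroup.le_centralizer_iff.mp
      (le_centralizer_pCore (q : ℕ) (Ne.symm hq) hSsn hSF hSC hT hST)

omit [Fact r.Prime] in
/-- **Step I**, residual form: `T` centralizes `O^p(F*(X))`. -/
theorem pResidual_gfs_le_centralizer {p : ℕ} [Fact p.Prime] {S : Subgroup X}
    (hSsn : S.IsSubnormal) (hSF : S ≤ generalizedFittingSubgroup X)
    (hSC : generalizedFittingSubgroup X ⊓ Subgroup.centralizer (S : Set X) ≤ S)
    {T : Subgroup X} (hT : IsPGroup p T) (hST : S ≤ Subgroup.normalizer (T : Set X)) :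
    (pResidual p ↥(generalizedFittingSubgroup X)).map (generalizedFittingSubgroup X).subtype ≤
      Subgroup.centralizer (T : Set X) := by
  rw [pResidual, Subgroup.map_le_iff_le_comap, Subgroup.closure_le]
  intro g hg
  change (orderOf g).Coprime p at hg
  rw [SetLike.mem_coe, Subgroup.mem_comap]
  apply residualPart_le_centralizer hSsn hSF hSC hT hST
  apply mem_residualPart_of_coprime p g.2
  rw [Subgroup.orderOf_coe]; exact hg

end Cfsg.Agent.Lib.Helper9.Bender
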