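import Mathlib
import Cfsg.Agent.Lib.Helper9.Bender1
import Cfsg.Agent.Lib.Helper9.Frattini
import Cfsg.Agent.Lib.Helper9.PComp2

/-!
# Bender's lemma on maximal subgroups (S1247), global part
-/

set_option autoImplicit false
set_option linter.unusedSectionVars false
set_option linter.unusedVariables false

namespace Cfsg.Agent.Lib.Helper9.Bender

open Cfsg Cfsg.Agent.Lib.Helper9.CompAct
open scoped commutatorElement

section General

variable {X : Type*} [Group X] [Finite X]

/-- `O^p(F*(X)) ≤ D'`. -/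
theorem pResidual_gfs_le_residualPart (p : ℕ) [Fact p.Prime] :
    (pResidual p ↥(generalizedFittingSubgroup X)).map (generalizedFittingSubgroup X).subtype ≤
      residualPart p X := by
  rw [pResidual, Subgroup.map_le_iff_le_comap, Subgroup.closure_le]
  intro g hg
  change (orderOf g).Coprime p at hg
  rw [SetLike.mem_coe, Subgroup.mem_comap]
  apply mem_residualPart_of_coprime p g.2
  rw [Subgroup.orderOf_coe]; exact hg

/-- the centre of `O_r(X)`, as a subgroup of `X` -/
def zCore (r : ℕ) (X : Type*) [Group X] : Subgroup X :=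
  (Subgroup.center ↥(pCore r X)).map (pCore r X).subtype

theorem zCore_le (r : ℕ) : zCore r X ≤ pCore r X := Subgroup.map_subtype_le _

theorem zCore_normal (r : ℕ) : (zCore r X).Normal := by
  have : (pCore r X).Normal := Cfsg.Agent.Lib.Helper1.pCore_normal r
  unfold zCore
  infer_instance

theorem zCore_ne_bot (r : ℕ) [Fact r.Prime] (h : pCore r X ≠ ⊥) : zCore r X ≠ ⊥ := by
  have hnt : Nontrivial ↥(pCore r X) := (Subgroup.nontrivial_iff_ne_bot _).mpr h
  have hp : IsPGroup r ↥(pCore r X) := Cfsg.Agent.Lib.Helper1.pCore_isPGroup r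
  have := hp.center_nontrivial
  obtain ⟨z, hz, hz1⟩ := (Subgroup.nontrivial_iff_exists_ne_one _).mp this
  intro hbot
  have h1 : (z : X) ∈ zCore r X := ⟨z, hz, rfl⟩
  rw [hbot, Subgroup.mem_bot] at h1
  apply hz1
  exact Subtype.ext h1

theorem zCore_commute (r : ℕ) {z : X} (hz : z ∈ zCore r X) {x : X} (hx : x ∈ pCore r X) :
    z * x = x * z := by
  obtain ⟨z', hz', rfl⟩ := hz
  have := (Subgroup.mem_center_iff.mp hz') ⟨x, hx⟩
  have := congrArg Subtype.val this
  exact this.symm

/-- `Z(O_r(X))` centralizes `F*(X)`. -/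
theorem gfs_le_centralizer_zCore (r : ℕ) [Fact r.Prime] :
    generalizedFittingSubgroup X ≤ Subgroup.centralizer (zCore r X : Set X) := by
  have hRn : (pCore r X).Normal := Cfsg.Agent.Lib.Helper1.pCore_normal r
  have hRp : IsPGroup r (pCore r X) := Cfsg.Agent.Lib.Helper1.pCore_isPGroup r
  unfold generalizedFittingSubgroup
  apply sup_le
  · have hEF := commutator_layer_fitting (G := X)
    rw [Subgroup.commutator_eq_bot_iff_le_centralizer] at hEF
    refine hEF.trans (Subgroup.centralizer_le ?_)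
    intro z hz
    exact Cfsg.Agent.Lib.Helper1.pCore_le_fittingSubgroup r (zCore_le r hz)
  · rw [Cfsg.Agent.Lib.Helper1.fittingSubgroup_eq_iSup_primes]
    apply iSup_le
    intro q
    by_cases hq : (q : ℕ) = r
    · rw [hq]
      intro x hx
      rw [Subgroup.mem_centralizer_iff]
      intro z hz
      exact zCore_commute r hz hx
    · have hQn : (pCore (q : ℕ) X).Normal := Cfsg.Agent.Lib.Helper1.pCore_normal _
      have hQp : IsPGroup (q : ℕ) (pCore (q : ℕ) X) := Cfsg.Agent.Lib.Helper1.pCore_isPGroup _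
      have : Fact (q : ℕ).Prime := ⟨q.2⟩
      have hdis : Disjoint (pCore (q : ℕ) X) (pCore r X) :=
        IsPGroup.disjoint_of_ne _ _ hq _ _ hQp hRp
      intro x hx
      rw [Subgroup.mem_centralizer_iff]
      intro z hz
      exact (Subgroup.commute_of_normal_of_disjoint _ _ hQn hRn hdis x z hx
        (zCore_le r hz)).eq.symm

/-- `Z(O_r(X)) ≤ S` for self-centralizing `S ≤ F*(X)`. -/
theorem zCore_le_of_selfCentralizing (r : ℕ) [Fact r.Prime] {S : Subgroup X}
    (hSF : S ≤ generalizedFittingSubgroup X)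
    (hSC : generalizedFittingSubgroup X ⊓ Subgroup.centralizer (S : Set X) ≤ S) :
    zCore r X ≤ S := by
  intro z hz
  apply hSC
  refine Subgroup.mem_inf.mpr ⟨?_, ?_⟩
  · exact fitting_le_gfs (Cfsg.Agent.Lib.Helper1.pCore_le_fittingSubgroup r (zCore_le r hz))
  · rw [Subgroup.mem_centralizer_iff]
    intro s hs
    exact ((Subgroup.mem_centralizer_iff.mp (gfs_le_centralizer_zCore r (hSF hs))) z hz).symm

/-- `p ∣ |F(X)|` forces `O_p(X) ≠ 1`. -/
theorem pCore_ne_bot_of_dvd (p : ℕ) [Fact p.Prime] (h : p ∣ Nat.card (fittingSubgroup X)) :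
    pCore p X ≠ ⊥ := by
  have hp : p.Prime := Fact.out
  intro hbot
  have h1 := Cfsg.Agent.Lib.Helper10.fittingSubgroup_le_pPrimeCore_sup_pCore (G := X) p
  rw [hbot, sup_bot_eq] at h1
  have h2 : Nat.card (fittingSubgroup X) ∣ Nat.card (pPrimeCore p X) := Subgroup.card_dvd_of_le h1
  have h3 : (Nat.card (pPrimeCore p X)).Coprime p := Cfsg.Agent.Lib.Helper1.pPrimeCore_coprime p
  have h4 := Nat.Coprime.eq_one_of_dvd h3.symm (h.trans h2)
  exact hp.one_lt.ne' h4

/-- `q ∤ |F(X)|` forces `O_q(X) = 1`. -/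
theorem pCore_eq_bot_of_not_dvd (q : ℕ) [Fact q.Prime] (h : ¬ q ∣ Nat.card (fittingSubgroup X)) :
    pCore q X = ⊥ := by
  have hq : q.Prime := Fact.out
  by_contra hne
  have hQp : IsPGroup q (pCore q X) := Cfsg.Agent.Lib.Helper1.pCore_isPGroup q
  obtain ⟨k, hk⟩ := IsPGroup.iff_card.mp hQp
  have hk0 : k ≠ 0 := by
    intro h0
    rw [h0, pow_zero] at hk
    exact hne (Subgroup.card_eq_one.mp hk)
  have h1 : q ∣ Nat.card (pCore q X) := by
    rw [hk]; exact dvd_pow_self q hk0
  exact h (h1.trans (Subgroup.card_dvd_of_le (Cfsg.Agent.Lib.Helper1.pCore_le_fittingSubgroup q)))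

/-- a subgroup centralizing `F*(X)` lies in `F(X)`. -/
theorem le_fitting_of_le_centralizer_gfs {T : Subgroup X}
    (h : T ≤ Subgroup.centralizer (generalizedFittingSubgroup X : Set X)) :
    T ≤ fittingSubgroup X := by
  set Z₁ := Subgroup.centralizer (generalizedFittingSubgroup X : Set X) with hZ₁
  have hgn : (generalizedFittingSubgroup X).Normal := by
    have := gfs_characteristic (G := X)
    infer_instance
  have hZn : Z₁.Normal := Subgroup.normal_centralizer
  have hZle : Z₁ ≤ generalizedFittingSubgroup X := centralizer_gfs_le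
  have hZc : IsMulCommutative ↥Z₁ := by
    refine ⟨⟨fun a b => ?_⟩⟩
    apply Subtype.ext
    have := (Subgroup.mem_centralizer_iff.mp a.2) (b : X) (hZle b.2)
    exact this.symm
  have hZnil : Group.IsNilpotent ↥Z₁ := isNilpotent_of_isMulCommutative
  exact h.trans (Cfsg.Agent.Lib.Helper1.le_fittingSubgroup hZn hZnil)

end General

section Maximal

variable {G : Type*} [Group G] [Finite G]

theorem normalizer_eq_of_isCoatom [IsSimpleGroup G] {A : Subgroup G} (hA : IsCoatom A)
    {Y : Subgroup G} (hY : Y ≠ ⊥) (hYA : Y ≤ A) (hAY : A ≤ Subgroup.normalizer (Y : Set G)) :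
    Subgroup.normalizer (Y : Set G) = A := by
  rcases hA.le_iff.mp hAY with h | h
  · exfalso
    have hn : Y.Normal := Subgroup.normalizer_eq_top_iff.mp h
    rcases hn.eq_bot_or_eq_top with h1 | h1
    · exact hY h1
    · apply hA.1
      rw [eq_top_iff, ← h1]; exact hYA
  · exact h

variable {A S : Subgroup G}

theorem subgroupOf_le_gfs (hSF : S ≤ (generalizedFittingSubgroup ↥A).map A.subtype) :
    S.subgroupOf A ≤ generalizedFittingSubgroup ↥A := by
  intro s hs
  rw [Subgroup.mem_subgroupOf] at hs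
  obtain ⟨f, hf, hfs⟩ := hSF hs
  have : f = s := Subtype.ext hfs
  rw [← this]; exact hf

theorem subgroupOf_isSubnormal (hSF : S ≤ (generalizedFittingSubgroup ↥A).map A.subtype)
    (hSsn : (S.subgroupOf ((generalizedFittingSubgroup ↥A).map A.subtype)).IsSubnormal) :
    (S.subgroupOf A).IsSubnormal := by
  set F' := generalizedFittingSubgroup ↥A with hF'
  have hF'n : F'.Normal := by
    have := gfs_characteristic (G := ↥A)
    infer_instance
  apply Subgroup.IsSubnormal.trans (subgroupOf_le_gfs hSF) _ hF'n.isSubnormal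
  set φ : ↥F' →* ↥(F'.map A.subtype) :=
    (F'.equivMapOfInjective A.subtype A.subtype_injective).toMonoidHom with hφ
  have h1 := hSsn.comap φ
  have e : (S.subgroupOf (F'.map A.subtype)).comap φ = (S.subgroupOf A).subgroupOf F' := by
    ext x
    rw [Subgroup.mem_comap, Subgroup.mem_subgroupOf, Subgroup.mem_subgroupOf,
      Subgroup.mem_subgroupOf]
    rfl
  rw [e] at h1
  exact h1

theorem subgroupOf_selfCentralizing (hSF : S ≤ (generalizedFittingSubgroup ↥A).map A.subtype)
    (hSC : (generalizedFittingSubgroup ↥A).map A.subtype ⊓ Subgroup.centralizer (S : Set G) ≤ S) :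
    generalizedFittingSubgroup ↥A ⊓ Subgroup.centralizer ((S.subgroupOf A : Subgroup ↥A) : Set ↥A) ≤
      S.subgroupOf A := by
  have hSA : S ≤ A := hSF.trans (Subgroup.map_subtype_le _)
  rintro x ⟨hxF, hxc⟩
  rw [Subgroup.mem_subgroupOf]
  apply hSC
  refine Subgroup.mem_inf.mpr ⟨⟨x, hxF, rfl⟩, ?_⟩
  rw [Subgroup.mem_centralizer_iff]
  intro s hs
  have h1 : (⟨s, hSA hs⟩ : ↥A) ∈ S.subgroupOf A := by
    rw [Subgroup.mem_subgroupOf]; exact hs
  have := (Subgroup.mem_centralizer_iff.mp hxc) _ h1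
  exact congrArg Subtype.val this

/-- the `p`-subgroup `O_p(B) ∩ A` of `A` is normalized by `S` -/
theorem subgroupOf_le_normalizer_inf {B : Subgroup G} (hSB : S ≤ B) (U' : Subgroup ↥B)
    [hU'n : U'.Normal] :
    S.subgroupOf A ≤ Subgroup.normalizer
      (((U'.map B.subtype ⊓ A).subgroupOf A : Subgroup ↥A) : Set ↥A) := by
  have hBU : B ≤ Subgroup.normalizer ((U'.map B.subtype : Subgroup G) : Set G) :=
    Cfsg.Agent.Lib.Helper9.le_normalizer_map_subtype_of_normal U'
  intro s hs
  rw [Subgroup.mem_subgroupOf] at hs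
  have hsn := hBU (hSB hs)
  rw [Subgroup.mem_normalizer_iff]
  intro t
  rw [Subgroup.mem_subgroupOf, Subgroup.mem_subgroupOf, Subgroup.mem_inf, Subgroup.mem_inf]
  constructor
  · rintro ⟨h1, _⟩
    refine ⟨?_, (s * t * s⁻¹).2⟩
    have := (Subgroup.mem_normalizer_iff.mp hsn (t : G)).mp h1
    simpa using this
  · rintro ⟨h1, _⟩
    refine ⟨?_, t.2⟩
    apply (Subgroup.mem_normalizer_iff.mp hsn (t : G)).mpr
    simpa using h1

/-- **S1247 (a)** -/
theorem pCore_inf_eq_bot (hSF : S ≤ (generalizedFittingSubgroup ↥A).map A.subtype)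
    (hSsn : (S.subgroupOf ((generalizedFittingSubgroup ↥A).map A.subtype)).IsSubnormal)
    (hSC : (generalizedFittingSubgroup ↥A).map A.subtype ⊓ Subgroup.centralizer (S : Set G) ≤ S)
    {B : Subgroup G} (hSB : S ≤ B) (q : ℕ) [Fact q.Prime]
    (hq : ¬ q ∣ Nat.card (fittingSubgroup ↥A)) :
    (pCore q ↥B).map B.subtype ⊓ A = ⊥ := by
  have hqp : q.Prime := Fact.out
  have hS'F := subgroupOf_le_gfs hSF
  have hS'sn := subgroupOf_isSubnormal hSF hSsn
  have hS'C := subgroupOf_selfCentralizing hSF hSC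
  have hU'n : (pCore q ↥B).Normal := Cfsg.Agent.Lib.Helper1.pCore_normal q
  set U := (pCore q ↥B).map B.subtype with hU
  have hUp : IsPGroup q U := (Cfsg.Agent.Lib.Helper1.pCore_isPGroup q).map _
  set T' := (U ⊓ A).subgroupOf A with hT'
  have hT'p : IsPGroup q T' := (hUp.to_le inf_le_left).comap_subtype
  have hST' : S.subgroupOf A ≤ Subgroup.normalizer (T' : Set ↥A) :=
    subgroupOf_le_normalizer_inf hSB (pCore q ↥B)
  have h1 := le_centralizer_layer hS'sn hS'C hT'p hST'
  have h3 : pCore q ↥A = ⊥ := pCore_eq_bot_of_not_dvd q hq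
  have hgfs : generalizedFittingSubgroup ↥A ≤ Subgroup.centralizer (T' : Set ↥A) := by
    unfold generalizedFittingSubgroup
    apply sup_le (Subgroup.le_centralizer_iff.mp h1)
    rw [Cfsg.Agent.Lib.Helper1.fittingSubgroup_eq_iSup_primes]
    apply iSup_le
    intro r
    by_cases hr : (r : ℕ) = q
    · rw [hr, h3]; exact bot_le
    · have : Fact (r : ℕ).Prime := ⟨r.2⟩
      exact Subgroup.le_centralizer_iff.mp
        (le_centralizer_pCore (r : ℕ) (Ne.symm hr) hS'sn hS'F hS'C hT'p hST')
  have hTF : T' ≤ fittingSubgroup ↥A :=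
    le_fitting_of_le_centralizer_gfs (Subgroup.le_centralizer_iff.mp hgfs)
  have hcard : Nat.card ↥T' = 1 := by
    obtain ⟨k, hk⟩ := IsPGroup.iff_card.mp hT'p
    by_cases hk0 : k = 0
    · rw [hk, hk0, pow_zero]
    · exfalso
      apply hq
      have h4 : q ∣ Nat.card ↥T' := by rw [hk]; exact dvd_pow_self q hk0
      exact h4.trans (Subgroup.card_dvd_of_le hTF)
  have hT'bot : T' = ⊥ := Subgroup.card_eq_one.mp hcard
  rw [eq_bot_iff]
  intro t ht
  have htA : t ∈ A := ht.2
  have h5 : (⟨t, htA⟩ : ↥A) ∈ T' := by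
    rw [hT', Subgroup.mem_subgroupOf]; exact ht
  rw [hT'bot, Subgroup.mem_bot] at h5
  rw [Subgroup.mem_bot]
  exact congrArg Subtype.val h5

/-- **S1247 (b)** -/
theorem pCore_commute_pResidual [IsSimpleGroup G] (hA : IsCoatom A)
    (hSF : S ≤ (generalizedFittingSubgroup ↥A).map A.subtype)
    (hSsn : (S.subgroupOf ((generalizedFittingSubgroup ↥A).map A.subtype)).IsSubnormal)
    (hSC : (generalizedFittingSubgroup ↥A).map A.subtype ⊓ Subgroup.centralizer (S : Set G) ≤ S)
    {B : Subgroup G} (hSB : S ≤ B) (p : ℕ) [Fact p.Prime]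
    (hp : p ∣ Nat.card (fittingSubgroup ↥A)) :
    ∀ x ∈ (pCore p ↥B).map B.subtype,
      ∀ y ∈ (pResidual p ↥(generalizedFittingSubgroup ↥A)).map
        (generalizedFittingSubgroup ↥A).subtype, x * (A.subtype y) = (A.subtype y) * x := by
  have hpp : p.Prime := Fact.out
  have hS'F := subgroupOf_le_gfs hSF
  have hS'sn := subgroupOf_isSubnormal hSF hSsn
  have hS'C := subgroupOf_selfCentralizing hSF hSC
  have hSA : S ≤ A := hSF.trans (Subgroup.map_subtype_le _)
  have hU'n : (pCore p ↥B).Normal := Cfsg.Agent.Lib.Helper1.pCore_normal p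
  set U := (pCore p ↥B).map B.subtype with hU
  have hUp : IsPGroup p U := (Cfsg.Agent.Lib.Helper1.pCore_isPGroup p).map _
  have hBU : B ≤ Subgroup.normalizer (U : Set G) :=
    Cfsg.Agent.Lib.Helper9.le_normalizer_map_subtype_of_normal (pCore p ↥B)
  set T' := (U ⊓ A).subgroupOf A with hT'
  have hT'p : IsPGroup p T' := (hUp.to_le inf_le_left).comap_subtype
  have hST' : S.subgroupOf A ≤ Subgroup.normalizer (T' : Set ↥A) :=
    subgroupOf_le_normalizer_inf hSB (pCore p ↥B)
  have hD : residualPart p ↥A ≤ Subgroup.centralizer (T' : Set ↥A) :=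
    residualPart_le_centralizer hS'sn hS'F hS'C hT'p hST'
  have hTD : ∀ u ∈ U, u ∈ A → ∀ d : ↥A, d ∈ residualPart p ↥A → u * (d : G) = (d : G) * u := by
    intro u hu huA d hd
    have h1 : (⟨u, huA⟩ : ↥A) ∈ T' := by
      rw [hT', Subgroup.mem_subgroupOf]; exact Subgroup.mem_inf.mpr ⟨hu, huA⟩
    have := (Subgroup.mem_centralizer_iff.mp (hD hd)) _ h1
    exact congrArg Subtype.val this
  -- the subgroup Z
  have hP'ne : pCore p ↥A ≠ ⊥ := pCore_ne_bot_of_dvd p hp
  set Z' := zCore p ↥A with hZ'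
  have hZ'ne : Z' ≠ ⊥ := zCore_ne_bot p hP'ne
  have hZ'n : Z'.Normal := zCore_normal p
  have hZ'S : Z' ≤ S.subgroupOf A := zCore_le_of_selfCentralizing p hS'F hS'C
  have hmapne : ∀ Y' : Subgroup ↥A, Y' ≠ ⊥ → Y'.map A.subtype ≠ ⊥ := by
    intro Y' hY' h
    exact hY' ((Subgroup.map_eq_bot_iff_of_injective _ A.subtype_injective).mp h)
  have hnorm : ∀ Y' : Subgroup ↥A, Y'.Normal → Y' ≠ ⊥ →
      Subgroup.normalizer ((Y'.map A.subtype : Subgroup G) : Set G) = A := by
    intro Y' hY'n hY'
    exact normalizer_eq_of_isCoatom hA (hmapne Y' hY') (Subgroup.map_subtype_le _)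
      (Cfsg.Agent.Lib.Helper9.le_normalizer_map_subtype_of_normal Y')
  set ZG := Z'.map A.subtype with hZG
  have hNZ : Subgroup.normalizer (ZG : Set G) = A := hnorm Z' hZ'n hZ'ne
  have hZGp : IsPGroup p ZG :=
    ((Cfsg.Agent.Lib.Helper1.pCore_isPGroup p).to_le (zCore_le p)).map _
  have hZGS : ZG ≤ S := by
    rintro _ ⟨z, hz, rfl⟩
    have := hZ'S hz
    rwa [Subgroup.mem_subgroupOf] at this
  have hZGU : ZG ≤ Subgroup.normalizer (U : Set G) := hZGS.trans (hSB.trans hBU)
  -- Step II
  have step2 : ∀ g : ↥A, g ∈ S.subgroupOf A → (orderOf g).Coprime p → g ∈ residualPart p ↥A →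
      (∀ z ∈ Z', g * z = z * g) → ∀ u ∈ U, (g : G) * u = u * (g : G) := by
    intro g hgS hgo hgD hgZ
    rw [Subgroup.mem_subgroupOf] at hgS
    have hcard : (Nat.card (Subgroup.zpowers (g : G))).Coprime p := by
      rw [Nat.card_zpowers, Subgroup.orderOf_coe]; exact hgo
    have hPQ : ZG ≤ Subgroup.centralizer ((Subgroup.zpowers (g : G) : Subgroup G) : Set G) := by
      rintro _ ⟨z, hz, rfl⟩
      rw [Subgroup.mem_centralizer_iff]
      rintro _ ⟨k, rfl⟩
      have h1 : (g : G) * (z : G) = (z : G) * (g : G) := congrArg Subtype.val (hgZ z hz)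
      have : Commute (g : G) (z : G) := h1
      exact (this.zpow_left k).eq
    have hgU : Subgroup.zpowers (g : G) ≤ Subgroup.normalizer (U : Set G) := by
      rw [Subgroup.zpowers_le]; exact hBU (hSB hgS)
    have hC : U ⊓ Subgroup.centralizer (ZG : Set G) ≤
        Subgroup.centralizer ((Subgroup.zpowers (g : G) : Subgroup G) : Set G) := by
      rintro u ⟨huU, huZ⟩
      have huA : u ∈ A := by
        rw [← hNZ]; exact Subgroup.centralizer_le_normalizer _ huZ
      have h1 := hTD u huU huA g hgD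
      rw [Subgroup.mem_centralizer_iff]
      rintro _ ⟨k, rfl⟩
      have : Commute (g : G) u := h1.symm
      exact (this.zpow_left k).eq
    have key := Cfsg.Agent.Lib.Helper1.thompson_PxQ p ZG (Subgroup.zpowers (g : G)) hZGp hcard hPQ _
      U rfl hUp hZGU hgU hC
    intro u hu
    exact ((Subgroup.mem_centralizer_iff.mp (key (Subgroup.mem_zpowers _))) u hu).symm
  -- final step, given U ≤ A
  have final : U ≤ A → ∀ x ∈ U, ∀ y ∈ (pResidual p ↥(generalizedFittingSubgroup ↥A)).map
      (generalizedFittingSubgroup ↥A).subtype, x * (A.subtype y) = (A.subtype y) * x := by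
    intro hUA x hx y hy
    exact hTD x hx (hUA hx) y (pResidual_gfs_le_residualPart p hy)
  -- elements of Z' commute with F*(A)
  have hZ'comm : ∀ g : ↥A, g ∈ generalizedFittingSubgroup ↥A → ∀ z ∈ Z', g * z = z * g := by
    intro g hg z hz
    exact ((Subgroup.mem_centralizer_iff.mp (gfs_le_centralizer_zCore p hg)) z hz).symm
  by_cases hE : layer ↥A = ⊥
  swap
  · -- U centralizes E(A)
    apply final
    have hEn : (layer ↥A).Normal := by
      have := layer_characteristic (G := ↥A)
      infer_instance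
    have hNE := hnorm (layer ↥A) hEn hE
    have hES : layer ↥A ≤ S.subgroupOf A := layer_le_of_selfCentralizing hS'sn hS'C
    have hres : pResidual p ↥(layer ↥A) = ⊤ :=
      Cfsg.Agent.Lib.Helper9.pResidual_eq_top_of_perfect p
        (Cfsg.Agent.Lib.Helper9.commutator_eq_top_of_perfect_subgroup layer_perfect)
    have h1 : (pResidual p ↥(layer ↥A)).map (layer ↥A).subtype ≤
        (Subgroup.centralizer (U : Set G)).subgroupOf A := by
      rw [pResidual, Subgroup.map_le_iff_le_comap, Subgroup.closure_le]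
      intro g hg
      change (orderOf g).Coprime p at hg
      rw [SetLike.mem_coe, Subgroup.mem_comap, Subgroup.mem_subgroupOf,
        Subgroup.mem_centralizer_iff]
      intro u hu
      have hgo : (orderOf ((layer ↥A).subtype g)).Coprime p := by
        rw [Subgroup.subtype_apply, Subgroup.orderOf_coe]; exact hg
      exact (step2 ((layer ↥A).subtype g) (hES g.2) hgo
        (le_sup_left (a := layer ↥A) g.2) (hZ'comm _ (layer_le_gfs g.2)) u hu).symm
    rw [hres, ← MonoidHom.range_eq_map, Subgroup.range_subtype] at h1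
    have h2 : U ≤ Subgroup.centralizer (((layer ↥A).map A.subtype : Subgroup G) : Set G) := by
      intro u hu
      rw [Subgroup.mem_centralizer_iff]
      rintro _ ⟨e, he, rfl⟩
      have := h1 he
      rw [Subgroup.mem_subgroupOf, Subgroup.mem_centralizer_iff] at this
      exact (this u hu).symm
    exact (h2.trans (Subgroup.centralizer_le_normalizer _)).trans hNE.le
  by_cases hR : ∃ r : Nat.Primes, (r : ℕ) ≠ p ∧ pCore (r : ℕ) ↥A ≠ ⊥
  · obtain ⟨r, hrp, hRne⟩ := hR
    have : Fact (r : ℕ).Prime := ⟨r.2⟩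
    apply final
    have hZrne : zCore (r : ℕ) ↥A ≠ ⊥ := zCore_ne_bot (r : ℕ) hRne
    have hZrn : (zCore (r : ℕ) ↥A).Normal := zCore_normal (r : ℕ)
    have hNZr := hnorm (zCore (r : ℕ) ↥A) hZrn hZrne
    have hZrS : zCore (r : ℕ) ↥A ≤ S.subgroupOf A :=
      zCore_le_of_selfCentralizing (r : ℕ) hS'F hS'C
    have h2 : U ≤ Subgroup.centralizer
        (((zCore (r : ℕ) ↥A).map A.subtype : Subgroup G) : Set G) := by
      intro u hu
      rw [Subgroup.mem_centralizer_iff]
      rintro _ ⟨z, hz, rfl⟩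
      have hzR : z ∈ pCore (r : ℕ) ↥A := zCore_le (r : ℕ) hz
      have hzo : (orderOf z).Coprime p := by
        obtain ⟨k, hk⟩ := (Cfsg.Agent.Lib.Helper1.pCore_isPGroup (G := ↥A) (r : ℕ)) ⟨z, hzR⟩
        have h3 : orderOf z ∣ (r : ℕ) ^ k := by
          apply orderOf_dvd_of_pow_eq_one
          have := congrArg Subtype.val hk
          simpa using this
        exact Nat.Coprime.coprime_dvd_left h3
          (Nat.Coprime.pow_left k ((Nat.coprime_primes r.2 hpp).mpr hrp))
      have hzD : z ∈ residualPart p ↥A := by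
        unfold residualPart
        refine (le_sup_right (a := layer ↥A)) ?_
        exact (le_iSup (fun q : {q : Nat.Primes // (q : ℕ) ≠ p} => pCore (q : ℕ) ↥A) ⟨r, hrp⟩) hzR
      have hzF : z ∈ generalizedFittingSubgroup ↥A :=
        fitting_le_gfs (Cfsg.Agent.Lib.Helper1.pCore_le_fittingSubgroup (r : ℕ) hzR)
      exact step2 z (hZrS hz) hzo hzD (hZ'comm z hzF) u hu
    exact (h2.trans (Subgroup.centralizer_le_normalizer _)).trans hNZr.le
  · push Not at hR
    have hDbot : residualPart p ↥A = ⊥ := by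
      unfold residualPart
      rw [hE, bot_sup_eq, eq_bot_iff]
      apply iSup_le
      rintro ⟨r, hr⟩
      rw [hR r hr]
    intro x hx y hy
    have := pResidual_gfs_le_residualPart p hy
    rw [hDbot, Subgroup.mem_bot] at this
    rw [this]
    simp

end Maximal

end Cfsg.Agent.Lib.Helper9.Bender
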