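import Mathlib
import Cfsg.Agent.Lib.Helper9.Bender2

/-!
# Bender's maximal subgroup theorem, abstract part

`X` finite, `T` a `p`-subgroup normalized by `F*(X)`.  Then every `p'`-element of
`C_X(O_p(X))` centralizes `T`.
-/

set_option autoImplicit false
set_option linter.unusedSectionVars false
set_option linter.unusedVariables false

namespace Cfsg.Agent.Lib.Helper9.BenderMax

open Cfsg Cfsg.Agent.Lib.Helper9.Bender

/-- elementary: a `p'`-element `w` commuting with a `p`-element `s`, with `w * s` a `p`-element,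
is trivial. -/
theorem eq_one_of_coprime_mul {Y : Type*} [Group Y] {p : ℕ} {w s : Y} (hws : w * s = s * w)
    (hw : (orderOf w).Coprime p) {i j : ℕ} (hs : s ^ p ^ i = 1) (hprod : (w * s) ^ p ^ j = 1) :
    w = 1 := by
  have hc : Commute w s := hws
  have h1 : (w * s) ^ p ^ (i + j) = 1 := by
    rw [add_comm, pow_add, pow_mul, hprod, one_pow]
  have h2 : s ^ p ^ (i + j) = 1 := by
    rw [pow_add, pow_mul, hs, one_pow]
  rw [hc.mul_pow, h2, mul_one] at h1
  have h3 : orderOf w ∣ p ^ (i + j) := orderOf_dvd_of_pow_eq_one h1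
  have h4 : orderOf w = 1 :=
    Nat.Coprime.eq_one_of_dvd (Nat.Coprime.pow_right _ hw) h3
  exact orderOf_eq_one_iff.mp h4

/-- elementary: `c t c⁻¹ = a t`, `c` centralizes `a` ⟹ `c^k t c^{-k} = a^k t`. -/
theorem conj_pow_eq {Y : Type*} [Group Y] {c t a : Y} (h : c * t * c⁻¹ = a * t)
    (hca : c * a = a * c) (k : ℕ) : c ^ k * t * (c ^ k)⁻¹ = a ^ k * t := by
  induction k with
  | zero => simp
  | succ k ih =>
    have hc : Commute c a := hca
    have e1 : c ^ (k + 1) * t * (c ^ (k + 1))⁻¹ = c * (c ^ k * t * (c ^ k)⁻¹) * c⁻¹ := by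
      rw [pow_succ']; group
    rw [e1, ih]
    have e2 : c * (a ^ k * t) * c⁻¹ = (c * a ^ k * c⁻¹) * (c * t * c⁻¹) := by group
    rw [e2, h]
    have e3 : c * a ^ k * c⁻¹ = a ^ k := by
      have := (hc.pow_right k).eq
      rw [this]; group
    rw [e3, pow_succ, mul_assoc]

variable {X : Type*} [Group X] [Finite X]

theorem gfs_isSubnormal : (generalizedFittingSubgroup X).IsSubnormal := by
  have hgn : (generalizedFittingSubgroup X).Normal := by
    have := gfs_characteristic (G := X)
    infer_instance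
  exact hgn.isSubnormal

/-- `O^{p}`-part of `F*(X)` centralizes every `p`-subgroup normalized by `F*(X)`. -/
theorem residualPart_le_centralizer_of_gfs_le_normalizer {p : ℕ} [Fact p.Prime] {T : Subgroup X}
    (hT : IsPGroup p T) (hFT : generalizedFittingSubgroup X ≤ Subgroup.normalizer (T : Set X)) :
    residualPart p X ≤ Subgroup.centralizer (T : Set X) :=
  residualPart_le_centralizer gfs_isSubnormal le_rfl inf_le_left hT hFT

/-- the main abstract step, for `T ≥ O_p(X)` -/
theorem conj_mem_of_coprime_aux {p : ℕ} [Fact p.Prime] {T : Subgroup X}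
    (hT : IsPGroup p T) (hAT : pCore p X ≤ T)
    (hFT : generalizedFittingSubgroup X ≤ Subgroup.normalizer (T : Set X)) {c : X}
    (hc : c ∈ Subgroup.centralizer (pCore p X : Set X)) (hco : (orderOf c).Coprime p)
    {t : X} (ht : t ∈ T) : ∃ a ∈ pCore p X, c * t * c⁻¹ = a * t := by
  have hp : p.Prime := Fact.out
  have hAn : (pCore p X).Normal := Cfsg.Agent.Lib.Helper1.pCore_normal p
  have hKn : (residualPart p X).Normal := residualPart_normal p
  have hgn : (generalizedFittingSubgroup X).Normal := by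
    have := gfs_characteristic (G := X)
    infer_instance
  have hK : residualPart p X ≤ Subgroup.centralizer (T : Set X) :=
    residualPart_le_centralizer_of_gfs_le_normalizer hT hFT
  have hTK : T ≤ Subgroup.centralizer (residualPart p X : Set X) :=
    Subgroup.le_centralizer_iff.mp hK
  have hCAn : (Subgroup.centralizer (pCore p X : Set X)).Normal := Subgroup.normal_centralizer
  have hCKn : (Subgroup.centralizer (residualPart p X : Set X)).Normal :=
    Subgroup.normal_centralizer
  set z : X := c * t * c⁻¹ * t⁻¹ with hz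
  have hzA : z ∈ Subgroup.centralizer (pCore p X : Set X) := by
    have e : z = c * (t * c⁻¹ * t⁻¹) := by rw [hz]; group
    rw [e]
    exact Subgroup.mul_mem _ hc (hCAn.conj_mem _ (Subgroup.inv_mem _ hc) t)
  have hzK : z ∈ Subgroup.centralizer (residualPart p X : Set X) :=
    Subgroup.mul_mem _ (hCKn.conj_mem _ (hTK ht) c) (Subgroup.inv_mem _ (hTK ht))
  have hzF : z ∈ Subgroup.centralizer (generalizedFittingSubgroup X : Set X) := by
    rw [Subgroup.mem_centralizer_iff]
    intro g hg
    have h1 := gfs_le_residualPart_sup_pCore p hg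
    obtain ⟨d, hd, u, hu, rfl⟩ := Subgroup.mem_sup_of_normal_left.mp h1
    have h2 := (Subgroup.mem_centralizer_iff.mp hzK) d hd
    have h3 := (Subgroup.mem_centralizer_iff.mp hzA) u hu
    calc d * u * z = d * (u * z) := by group
      _ = d * (z * u) := by rw [h3]
      _ = (d * z) * u := by group
      _ = (z * d) * u := by rw [h2]
      _ = z * (d * u) := by group
  have hzgfs : z ∈ generalizedFittingSubgroup X := centralizer_gfs_le hzF
  have hzfit : z ∈ fittingSubgroup X := le_fitting_of_le_centralizer_gfs le_rfl hzF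
  have hWn : (pPrimeCore p X).Normal := Cfsg.Agent.Lib.Helper1.pPrimeCore_normal p
  have h4 := Cfsg.Agent.Lib.Helper10.fittingSubgroup_le_pPrimeCore_sup_pCore (G := X) p hzfit
  obtain ⟨w, hw, a, ha, hwa⟩ := Subgroup.mem_sup_of_normal_left.mp h4
  -- w ∈ K
  have hwg : w ∈ generalizedFittingSubgroup X := by
    have e : w = z * a⁻¹ := by rw [← hwa]; group
    rw [e]
    exact Subgroup.mul_mem _ hzgfs (Subgroup.inv_mem _
      (fitting_le_gfs (Cfsg.Agent.Lib.Helper1.pCore_le_fittingSubgroup p ha)))
  have hwo : (orderOf w).Coprime p := by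
    have h5 : orderOf w ∣ Nat.card (pPrimeCore p X) := by
      have := Subgroup.orderOf_dvd_natCard (pPrimeCore p X) hw
      exact this
    exact Nat.Coprime.coprime_dvd_left h5 (Cfsg.Agent.Lib.Helper1.pPrimeCore_coprime p)
  have hwK : w ∈ residualPart p X := mem_residualPart_of_coprime p hwg hwo
  -- s = a t ∈ T
  have hsT : a * t ∈ T := T.mul_mem (hAT ha) ht
  have hws : w * (a * t) = (a * t) * w :=
    ((Subgroup.mem_centralizer_iff.mp (hK hwK)) (a * t) hsT).symm
  have hconj : c * t * c⁻¹ = w * (a * t) := by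
    have : c * t * c⁻¹ = z * t := by rw [hz]; group
    rw [this, ← hwa, mul_assoc]
  obtain ⟨i, hi⟩ := hT ⟨a * t, hsT⟩
  have hi' : (a * t) ^ p ^ i = 1 := by
    have := congrArg Subtype.val hi
    simpa using this
  obtain ⟨j, hj⟩ := hT ⟨t, ht⟩
  have hj' : t ^ p ^ j = 1 := by
    have := congrArg Subtype.val hj
    simpa using this
  have hj'' : (w * (a * t)) ^ p ^ j = 1 := by
    rw [← hconj]
    have : (c * t * c⁻¹) ^ p ^ j = c * t ^ p ^ j * c⁻¹ := conj_pow
    rw [this, hj']; group
  have hw1 : w = 1 := eq_one_of_coprime_mul hws hwo hi' hj''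
  refine ⟨a, ha, ?_⟩
  rw [hconj, hw1, one_mul]

/-- **Main abstract lemma**: `p'`-elements of `C_X(O_p(X))` centralize every `p`-subgroup
normalized by `F*(X)`. -/
theorem mem_centralizer_of_coprime {p : ℕ} [Fact p.Prime] {T : Subgroup X}
    (hT : IsPGroup p T)
    (hFT : generalizedFittingSubgroup X ≤ Subgroup.normalizer (T : Set X)) {c : X}
    (hc : c ∈ Subgroup.centralizer (pCore p X : Set X)) (hco : (orderOf c).Coprime p) :
    c ∈ Subgroup.centralizer (T : Set X) := by
  have hp : p.Prime := Fact.out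
  have hAn : (pCore p X).Normal := Cfsg.Agent.Lib.Helper1.pCore_normal p
  have hAp : IsPGroup p (pCore p X) := Cfsg.Agent.Lib.Helper1.pCore_isPGroup p
  set T' : Subgroup X := T ⊔ pCore p X with hT'
  have hT'p : IsPGroup p T' := IsPGroup.to_sup_of_normal_right hT hAp
  have hFT' : generalizedFittingSubgroup X ≤ Subgroup.normalizer (T' : Set X) := by
    intro x hx
    have key : ∀ y : X, y ∈ Subgroup.normalizer (T : Set X) → ∀ n ∈ T', y * n * y⁻¹ ∈ T' := by
      intro y hy n hn
      obtain ⟨t, ht, a, ha, rfl⟩ := Subgroup.mem_sup_of_normal_right.mp hn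
      have e : y * (t * a) * y⁻¹ = (y * t * y⁻¹) * (y * a * y⁻¹) := by group
      rw [e]
      exact Subgroup.mul_mem _
        (Subgroup.mem_sup_left ((Subgroup.mem_normalizer_iff.mp hy t).mp ht))
        (Subgroup.mem_sup_right (hAn.conj_mem a ha y))
    rw [Subgroup.mem_normalizer_iff]
    intro n
    constructor
    · exact key x (hFT hx) n
    · intro hn
      have := key x⁻¹ (Subgroup.inv_mem _ (hFT hx)) _ hn
      simpa [mul_assoc] using this
  rw [Subgroup.mem_centralizer_iff]
  intro t ht
  have htT' : t ∈ T' := Subgroup.mem_sup_left ht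
  obtain ⟨a, ha, hconj⟩ := conj_mem_of_coprime_aux hT'p le_sup_right hFT' hc hco htT'
  have hca : c * a = a * c := ((Subgroup.mem_centralizer_iff.mp hc) a ha).symm
  have h1 := conj_pow_eq hconj hca (orderOf c)
  rw [pow_orderOf_eq_one] at h1
  have h2 : a ^ orderOf c = 1 := by
    have : a ^ orderOf c * t = t := by rw [← h1]; group
    exact mul_eq_right.mp this
  obtain ⟨i, hi⟩ := hAp ⟨a, ha⟩
  have hi' : a ^ p ^ i = 1 := by
    have := congrArg Subtype.val hi
    simpa using this
  have h3 : orderOf a ∣ orderOf c := orderOf_dvd_of_pow_eq_one h2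
  have h4 : orderOf a ∣ p ^ i := orderOf_dvd_of_pow_eq_one hi'
  have h5 : orderOf a = 1 :=
    Nat.Coprime.eq_one_of_dvd (Nat.Coprime.coprime_dvd_left h3 (Nat.Coprime.pow_right _ hco)) h4
  have ha1 : a = 1 := orderOf_eq_one_iff.mp h5
  rw [ha1, one_mul] at hconj
  -- c t c⁻¹ = t
  have : c * t = t * c := by
    calc c * t = (c * t * c⁻¹) * c := by group
      _ = t * c := by rw [hconj]
  exact this.symm

end Cfsg.Agent.Lib.Helper9.BenderMax
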