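import Mathlib
import Cfsg.Agent.Lib.Helper9.BenderMax1

/-!
# Bender's maximal subgroup theorem (S1312)

`G` simple, `M ≠ N` maximal with `F*(M) ≤ N` and `F*(N) ≤ M`: then `F*(M)` and `F*(N)` are
`p`-groups for one prime `p`.
-/

set_option autoImplicit false
set_option linter.unusedSectionVars false
set_option linter.unusedVariables false

namespace Cfsg.Agent.Lib.Helper9.BenderMax

open Cfsg Cfsg.Agent.Lib.Helper9.Bender
open scoped commutatorElement

variable {G : Type*} [Group G] [Finite G]

omit [Finite G] in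
/-- conjugation by elements of `H` preserves the image of a normal subgroup of `↥H`. -/
theorem conj_mem_map_subtype {H : Subgroup G} {K : Subgroup ↥H} (hK : K.Normal) {h x : G}
    (hh : h ∈ H) (hx : x ∈ K.map H.subtype) : h * x * h⁻¹ ∈ K.map H.subtype := by
  obtain ⟨y, hy, rfl⟩ := hx
  refine ⟨⟨h, hh⟩ * y * ⟨h, hh⟩⁻¹, hK.conj_mem y hy _, ?_⟩
  simp

omit [Finite G] in
theorem le_normalizer_map_subtype {H : Subgroup G} {K : Subgroup ↥H} (hK : K.Normal) :
    H ≤ Subgroup.normalizer ((K.map H.subtype : Subgroup G) : Set G) := by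
  intro h hh
  rw [Subgroup.mem_normalizer_iff]
  intro n
  constructor
  · exact fun hn => conj_mem_map_subtype hK hh hn
  · intro hn
    have := conj_mem_map_subtype hK (H.inv_mem hh) hn
    simpa [mul_assoc] using this

omit [Finite G] in
theorem mem_normalizer_subgroupOf {M B : Subgroup G} {x : ↥M}
    (h : ∀ y : G, y ∈ M → (y = (x : G) ∨ y = (x : G)⁻¹) → ∀ b ∈ B, y * b * y⁻¹ ∈ B) :
    x ∈ Subgroup.normalizer ((B.subgroupOf M : Subgroup ↥M) : Set ↥M) := by
  rw [Subgroup.mem_normalizer_iff]
  intro n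
  rw [Subgroup.mem_subgroupOf, Subgroup.mem_subgroupOf]
  constructor
  · intro hn
    have := h (x : G) x.2 (Or.inl rfl) _ hn
    exact this
  · intro hn
    have := h (x : G)⁻¹ (M.inv_mem x.2) (Or.inr rfl) _ hn
    have e : ((x : G)⁻¹ * ((x * n * x⁻¹ : ↥M) : G) * ((x : G)⁻¹)⁻¹) = (n : G) := by
      simp only [Subgroup.coe_mul, Subgroup.coe_inv]; group
    rwa [e] at this

theorem gfs_normal' {X : Type*} [Group X] : (generalizedFittingSubgroup X).Normal := by
  have := gfs_characteristic (G := X)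
  infer_instance

theorem layer_normal' {X : Type*} [Group X] : (layer X).Normal := by
  have := layer_characteristic (G := X)
  infer_instance

omit [Finite G] in
theorem pCore_map_le_gfs_map {X : Type*} [Group X] [Finite X] (p : ℕ) [Fact p.Prime] :
    pCore p X ≤ generalizedFittingSubgroup X :=
  (Cfsg.Agent.Lib.Helper1.pCore_le_fittingSubgroup p).trans fitting_le_gfs

/-- **Lemma C**: `p'`-elements of `C_M(O_p(M))` centralize `O_p(N)`. -/
theorem commute_pCore_of_coprime {M N : Subgroup G} {p : ℕ} [Fact p.Prime]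
    (h1 : (generalizedFittingSubgroup ↥M).map M.subtype ≤ N)
    (hBM : (pCore p ↥N).map N.subtype ≤ M) {c : G} (hcM : c ∈ M)
    (hcA : ∀ a ∈ (pCore p ↥M).map M.subtype, c * a = a * c) (hco : (orderOf c).Coprime p) :
    ∀ b ∈ (pCore p ↥N).map N.subtype, c * b = b * c := by
  have hBn : (pCore p ↥N).Normal := Cfsg.Agent.Lib.Helper1.pCore_normal p
  set B : Subgroup G := (pCore p ↥N).map N.subtype with hB
  set T : Subgroup ↥M := B.subgroupOf M with hT
  have hBp : IsPGroup p B := (Cfsg.Agent.Lib.Helper1.pCore_isPGroup p).map N.subtype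
  have hTp : IsPGroup p T := hBp.comap_subtype
  have hFT : generalizedFittingSubgroup ↥M ≤ Subgroup.normalizer (T : Set ↥M) := by
    intro x hx
    have hxN : (x : G) ∈ N := h1 (Subgroup.mem_map_of_mem M.subtype hx)
    rw [hT]
    apply mem_normalizer_subgroupOf
    rintro y hyM (rfl | rfl) b hb
    · exact conj_mem_map_subtype hBn hxN hb
    · exact conj_mem_map_subtype hBn (N.inv_mem hxN) hb
  have hc' : (⟨c, hcM⟩ : ↥M) ∈ Subgroup.centralizer (pCore p ↥M : Set ↥M) := by
    rw [Subgroup.mem_centralizer_iff]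
    intro a ha
    apply Subtype.ext
    have := hcA (a : G) (Subgroup.mem_map_of_mem M.subtype ha)
    simpa using this.symm
  have hco' : (orderOf (⟨c, hcM⟩ : ↥M)).Coprime p := by
    rw [Subgroup.orderOf_mk]; exact hco
  have key := mem_centralizer_of_coprime hTp hFT hc' hco'
  intro b hb
  have hbM : b ∈ M := hBM hb
  have hbT : (⟨b, hbM⟩ : ↥M) ∈ T := by
    rw [hT, Subgroup.mem_subgroupOf]; exact hb
  have := (Subgroup.mem_centralizer_iff.mp key) ⟨b, hbM⟩ hbT
  have := congrArg Subtype.val this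
  simpa using this.symm

/-- `O_p(M) ≠ 1` forces `O_p(N) ≠ 1`. -/
theorem pCore_ne_bot_of_pCore_ne_bot {M N : Subgroup G} {p : ℕ} [Fact p.Prime]
    (h1 : (generalizedFittingSubgroup ↥M).map M.subtype ≤ N)
    (h2 : (generalizedFittingSubgroup ↥N).map N.subtype ≤ M)
    (hA : pCore p ↥M ≠ ⊥) : pCore p ↥N ≠ ⊥ := by
  intro hBbot
  have hp : p.Prime := Fact.out
  have hAn : (pCore p ↥M).Normal := Cfsg.Agent.Lib.Helper1.pCore_normal p
  set A : Subgroup G := (pCore p ↥M).map M.subtype with hAdef
  have hAN : A ≤ N := (Subgroup.map_mono (pCore_map_le_gfs_map p)).trans h1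
  set T : Subgroup ↥N := A.subgroupOf N with hT
  have hAp : IsPGroup p A := (Cfsg.Agent.Lib.Helper1.pCore_isPGroup p).map M.subtype
  have hTp : IsPGroup p T := hAp.comap_subtype
  have hFT : generalizedFittingSubgroup ↥N ≤ Subgroup.normalizer (T : Set ↥N) := by
    intro x hx
    have hxM : (x : G) ∈ M := h2 (Subgroup.mem_map_of_mem N.subtype hx)
    rw [hT]
    apply mem_normalizer_subgroupOf
    rintro y hyN (rfl | rfl) b hb
    · exact conj_mem_map_subtype hAn hxM hb
    · exact conj_mem_map_subtype hAn (M.inv_mem hxM) hb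
  have hK := residualPart_le_centralizer_of_gfs_le_normalizer hTp hFT
  have hF : generalizedFittingSubgroup ↥N ≤ Subgroup.centralizer (T : Set ↥N) := by
    have := gfs_le_residualPart_sup_pCore (X := ↥N) p
    rw [hBbot, sup_bot_eq] at this
    exact this.trans hK
  have hTF : T ≤ fittingSubgroup ↥N :=
    le_fitting_of_le_centralizer_gfs (Subgroup.le_centralizer_iff.mp hF)
  have hTne : T ≠ ⊥ := by
    intro hTb
    apply hA
    rw [eq_bot_iff]
    intro a ha
    have haA : (a : G) ∈ A := Subgroup.mem_map_of_mem M.subtype ha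
    have : (⟨(a : G), hAN haA⟩ : ↥N) ∈ T := by
      rw [hT, Subgroup.mem_subgroupOf]; exact haA
    rw [hTb, Subgroup.mem_bot] at this
    have h3 : (a : G) = 1 := by
      have := congrArg Subtype.val this
      simpa using this
    rw [Subgroup.mem_bot]
    exact Subtype.ext (by simpa using h3)
  have hdvd : p ∣ Nat.card T := by
    rcases hTp.card_eq_or_dvd with h | h
    · exact absurd (Subgroup.card_eq_one.mp h) hTne
    · exact h
  have := pCore_ne_bot_of_dvd (X := ↥N) p (hdvd.trans (Subgroup.card_dvd_of_le hTF))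
  exact this hBbot

omit [Finite G] in
theorem conj_mem_closure_of_forall {S : Set G} {g : G} (hS : ∀ s ∈ S, g * s * g⁻¹ ∈ S) :
    ∀ y ∈ Subgroup.closure S, g * y * g⁻¹ ∈ Subgroup.closure S := by
  intro y hy
  induction hy using Subgroup.closure_induction with
  | mem x hx => exact Subgroup.subset_closure (hS x hx)
  | one => simp
  | mul x y _ _ hx hy =>
    have e : g * (x * y) * g⁻¹ = (g * x * g⁻¹) * (g * y * g⁻¹) := by group
    rw [e]; exact Subgroup.mul_mem _ hx hy
  | inv x _ hx =>
    have e : g * x⁻¹ * g⁻¹ = (g * x * g⁻¹)⁻¹ := by group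
    rw [e]; exact Subgroup.inv_mem _ hx

/-- the set of `p'`-elements of `C_M(O_p(M))` -/
def sig (M : Subgroup G) (p : ℕ) : Set G :=
  {c | c ∈ M ∧ (∀ a ∈ (pCore p ↥M).map M.subtype, c * a = a * c) ∧ (orderOf c).Coprime p}

omit [Finite G] in
theorem sig_conj {M : Subgroup G} {p : ℕ} {m : G} (hm : m ∈ M) :
    ∀ s ∈ sig M p, m * s * m⁻¹ ∈ sig M p := by
  rintro s ⟨hsM, hsA, hso⟩
  have hAn : (pCore p ↥M).Normal := Cfsg.Agent.Lib.Helper1.pCore_normal p
  refine ⟨M.mul_mem (M.mul_mem hm hsM) (M.inv_mem hm), ?_, ?_⟩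
  · intro a ha
    have ha' : m⁻¹ * a * m⁻¹⁻¹ ∈ (pCore p ↥M).map M.subtype :=
      conj_mem_map_subtype hAn (M.inv_mem hm) ha
    have h := hsA _ ha'
    calc m * s * m⁻¹ * a = m * (s * (m⁻¹ * a * m⁻¹⁻¹)) * m⁻¹ := by group
      _ = m * ((m⁻¹ * a * m⁻¹⁻¹) * s) * m⁻¹ := by rw [h]
      _ = a * (m * s * m⁻¹) := by group
  · have hsc : SemiconjBy m s (m * s * m⁻¹) := by
      unfold SemiconjBy; group
    rw [← hsc.orderOf_eq]; exact hso

omit [Finite G] in
theorem mem_normalizer_of_commute {B : Subgroup G} {c : G} (h : ∀ b ∈ B, c * b = b * c) :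
    c ∈ Subgroup.normalizer (B : Set G) := by
  rw [Subgroup.mem_normalizer_iff]
  intro n
  constructor
  · intro hn
    have := h n hn
    rw [this]; simpa using hn
  · intro hn
    have h1 := h _ hn
    have h2 : n = c * n * c⁻¹ := by
      have : c * n = c * n * c⁻¹ * c := by group
      have h3 : c * n = c * (c * n * c⁻¹) := by rw [h1]; exact this
      exact mul_left_cancel h3
    rw [h2]; exact hn

theorem sup_eq_top_of_isCoatom_ne {M N : Subgroup G} (hM : IsCoatom M) (hN : IsCoatom N)
    (hMN : M ≠ N) : M ⊔ N = ⊤ := by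
  by_contra hne
  have h1 : M ≤ M ⊔ N := le_sup_left
  have h2 : N ≤ M ⊔ N := le_sup_right
  rcases hM.le_iff.mp h1 with h | h
  · exact hne h
  · rcases hN.le_iff.mp h2 with h' | h'
    · exact hne h'
    · exact hMN (h.symm.trans h')

/-- **Case 1**: `O_p(M) ≠ 1 ≠ O_p(N)` forces `F*(M)` to be a `p`-group. -/
theorem isPGroup_gfs_of_pCore_ne_bot [IsSimpleGroup G] {M N : Subgroup G} (hM : IsCoatom M)
    (hN : IsCoatom N) (hMN : M ≠ N)
    (h1 : (generalizedFittingSubgroup ↥M).map M.subtype ≤ N)
    (h2 : (generalizedFittingSubgroup ↥N).map N.subtype ≤ M) {p : ℕ} [Fact p.Prime]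
    (hA : pCore p ↥M ≠ ⊥) (hB : pCore p ↥N ≠ ⊥) :
    IsPGroup p ↥(generalizedFittingSubgroup ↥M) := by
  have hp : p.Prime := Fact.out
  have hAn : (pCore p ↥M).Normal := Cfsg.Agent.Lib.Helper1.pCore_normal p
  have hBn : (pCore p ↥N).Normal := Cfsg.Agent.Lib.Helper1.pCore_normal p
  set A : Subgroup G := (pCore p ↥M).map M.subtype with hAdef
  set B : Subgroup G := (pCore p ↥N).map N.subtype with hBdef
  have hAne : A ≠ ⊥ := by
    rw [hAdef, Ne, Subgroup.map_eq_bot_iff_of_injective _ M.subtype_injective]; exact hA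
  have hBne : B ≠ ⊥ := by
    rw [hBdef, Ne, Subgroup.map_eq_bot_iff_of_injective _ N.subtype_injective]; exact hB
  have hAM : A ≤ M := Subgroup.map_subtype_le _
  have hBN : B ≤ N := Subgroup.map_subtype_le _
  have hNA : Subgroup.normalizer (A : Set G) = M :=
    normalizer_eq_of_isCoatom hM hAne hAM (le_normalizer_map_subtype hAn)
  have hNB : Subgroup.normalizer (B : Set G) = N :=
    normalizer_eq_of_isCoatom hN hBne hBN (le_normalizer_map_subtype hBn)
  have hBM : B ≤ M := (Subgroup.map_mono (pCore_map_le_gfs_map p)).trans h2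
  have hAN : A ≤ N := (Subgroup.map_mono (pCore_map_le_gfs_map p)).trans h1
  -- the two generating sets coincide
  have hsub1 : sig M p ⊆ sig N p := by
    rintro c ⟨hcM, hcA, hco⟩
    have hcB := commute_pCore_of_coprime h1 hBM hcM hcA hco
    have hcN : c ∈ N := by
      rw [← hNB]; exact mem_normalizer_of_commute hcB
    exact ⟨hcN, hcB, hco⟩
  have hsub2 : sig N p ⊆ sig M p := by
    rintro c ⟨hcN, hcB, hco⟩
    have hcA := commute_pCore_of_coprime h2 hAN hcN hcB hco
    have hcM : c ∈ M := by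
      rw [← hNA]; exact mem_normalizer_of_commute hcA
    exact ⟨hcM, hcA, hco⟩
  have hsig : sig M p = sig N p := Set.Subset.antisymm hsub1 hsub2
  set Y : Subgroup G := Subgroup.closure (sig M p) with hY
  have hYM : Y ≤ M := by
    rw [hY, Subgroup.closure_le]
    rintro c ⟨hcM, -, -⟩
    exact hcM
  have hMY : M ≤ Subgroup.normalizer (Y : Set G) := by
    intro m hm
    rw [Subgroup.mem_normalizer_iff]
    intro n
    constructor
    · exact fun hn => conj_mem_closure_of_forall (sig_conj hm) n hn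
    · intro hn
      have := conj_mem_closure_of_forall (sig_conj (M.inv_mem hm)) _ hn
      simpa [mul_assoc] using this
  have hNY : N ≤ Subgroup.normalizer (Y : Set G) := by
    intro m hm
    rw [Subgroup.mem_normalizer_iff]
    intro n
    rw [hY, hsig]
    constructor
    · exact fun hn => conj_mem_closure_of_forall (sig_conj hm) n hn
    · intro hn
      have := conj_mem_closure_of_forall (sig_conj (N.inv_mem hm)) _ hn
      simpa [mul_assoc] using this
  have hYn : Y.Normal := by
    rw [← Subgroup.normalizer_eq_top_iff, eq_top_iff, ← sup_eq_top_of_isCoatom_ne hM hN hMN]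
    exact sup_le hMY hNY
  have hYbot : Y = ⊥ := by
    rcases hYn.eq_bot_or_eq_top with h | h
    · exact h
    · exfalso
      apply hM.1
      rw [eq_top_iff, ← h]; exact hYM
  have hsig1 : ∀ c ∈ sig M p, c = 1 := by
    intro c hc
    have : c ∈ Y := Subgroup.subset_closure hc
    rw [hYbot, Subgroup.mem_bot] at this
    exact this
  -- conclusion
  have hKA : residualPart p ↥M ≤ Subgroup.centralizer (pCore p ↥M : Set ↥M) := by
    apply residualPart_le_centralizer_of_gfs_le_normalizer
      (Cfsg.Agent.Lib.Helper1.pCore_isPGroup p)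
    intro x _
    rw [Subgroup.mem_normalizer_iff]
    intro n
    constructor
    · exact fun hn => hAn.conj_mem n hn x
    · intro hn
      have := hAn.conj_mem _ hn x⁻¹
      simpa [mul_assoc] using this
  intro g
  set g₀ : ↥M := (g : ↥M) with hg₀
  set n := orderOf g₀ with hn
  have hn0 : n ≠ 0 := (orderOf_pos g₀).ne'
  set k := n.factorization p with hk
  refine ⟨k, ?_⟩
  set h : ↥M := g₀ ^ p ^ k with hh
  have hho : (orderOf h).Coprime p := by
    rw [hh, orderOf_pow, ← hn]
    have hdvd : p ^ k ∣ n := Nat.ordProj_dvd n p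
    rw [Nat.gcd_eq_right hdvd]
    exact (Nat.coprime_ordCompl hp hn0).symm
  have hhg : h ∈ generalizedFittingSubgroup ↥M := Subgroup.pow_mem _ g.2 _
  have hhK : h ∈ residualPart p ↥M := mem_residualPart_of_coprime p hhg hho
  have hhsig : (h : G) ∈ sig M p := by
    refine ⟨h.2, ?_, ?_⟩
    · rintro a ⟨a', ha', rfl⟩
      have := (Subgroup.mem_centralizer_iff.mp (hKA hhK)) a' ha'
      have := congrArg Subtype.val this
      simpa using this.symm
    · rw [Subgroup.orderOf_coe]; exact hho
  have h1' : (h : G) = 1 := hsig1 _ hhsig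
  have h2' : h = 1 := Subtype.ext (by simpa using h1')
  apply Subtype.ext
  have : ((g ^ p ^ k : ↥(generalizedFittingSubgroup ↥M)) : ↥M) = h := by
    rw [hh, hg₀]; simp
  rw [this, h2']; rfl

end Cfsg.Agent.Lib.Helper9.BenderMax
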