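import Mathlib
import Cfsg.Agent.Lib.Helper9.BenderMax2

/-!
# Bender's maximal subgroup theorem (S1312): the case `F(M) = F(N) = 1` and the assembly
-/

set_option autoImplicit false
set_option linter.unusedSectionVars false
set_option linter.unusedVariables false

namespace Cfsg.Agent.Lib.Helper9.BenderMax

open Cfsg Cfsg.Agent.Lib.Helper9.Bender
open scoped commutatorElement

variable {G : Type*} [Group G] [Finite G]

/-- **Case 2**: if `F(N) = 1` then `E(M) ≤ F*(N)`. -/
theorem layer_le_of_fitting_eq_bot {M N : Subgroup G}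
    (h1 : (generalizedFittingSubgroup ↥M).map M.subtype ≤ N)
    (h2 : (generalizedFittingSubgroup ↥N).map N.subtype ≤ M)
    (hFN : fittingSubgroup ↥N = ⊥) :
    layer ↥M ≤ ((generalizedFittingSubgroup ↥N).map N.subtype).subgroupOf M := by
  have hgN : (generalizedFittingSubgroup ↥N).Normal := gfs_normal'
  have hE₁n : (layer ↥M).Normal := layer_normal'
  set E₂ : Subgroup G := (generalizedFittingSubgroup ↥N).map N.subtype with hE₂
  set E₂' : Subgroup ↥M := E₂.subgroupOf M with hE₂'
  set I' : Subgroup ↥M := layer ↥M ⊓ E₂' with hI'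
  have hlayN : ∀ e ∈ layer ↥M, ((e : ↥M) : G) ∈ N := fun e he =>
    h1 (Subgroup.mem_map_of_mem M.subtype (layer_le_gfs he))
  have hI'sub : I'.IsSubnormal := by
    refine Subgroup.IsSubnormal.step I' (layer ↥M) inf_le_left hE₁n.isSubnormal ?_
    refine ⟨fun n hn g => ?_⟩
    rw [Subgroup.mem_subgroupOf] at hn ⊢
    rw [hI', Subgroup.mem_inf] at hn ⊢
    refine ⟨(g * n * g⁻¹).2, ?_⟩
    rw [hE₂', Subgroup.mem_subgroupOf]
    have hgN' : (((g : ↥(layer ↥M)) : ↥M) : G) ∈ N := hlayN _ g.2
    have hn2 : (((n : ↥(layer ↥M)) : ↥M) : G) ∈ E₂ := by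
      have := hn.2
      rwa [hE₂', Subgroup.mem_subgroupOf] at this
    exact conj_mem_map_subtype hgN hgN' hn2
  apply sSup_le
  intro K hK
  rcases comp_le_or_commutator_eq_bot hK hI'sub with h | h
  · exact h.trans inf_le_right
  · exfalso
    have hKE : K ≤ layer ↥M := comp_le_layer hK
    have hcomm : ⁅K, E₂'⁆ ≤ I' := by
      rw [Subgroup.commutator_le]
      intro k hk e he
      rw [hI', Subgroup.mem_inf]
      constructor
      · rw [commutatorElement_def]
        have e1 : k * e * k⁻¹ * e⁻¹ = k * (e * k⁻¹ * e⁻¹) := by group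
        rw [e1]
        exact Subgroup.mul_mem _ (hKE hk)
          (hE₁n.conj_mem _ (Subgroup.inv_mem _ (hKE hk)) e)
      · rw [commutatorElement_def]
        refine Subgroup.mul_mem _ ?_ (Subgroup.inv_mem _ he)
        rw [hE₂', Subgroup.mem_subgroupOf] at he ⊢
        exact conj_mem_map_subtype hgN (hlayN _ (hKE hk)) he
    have h1' : ⁅⁅K, E₂'⁆, K⁆ = ⊥ := by
      rw [eq_bot_iff]
      calc ⁅⁅K, E₂'⁆, K⁆ ≤ ⁅I', K⁆ := Subgroup.commutator_mono hcomm le_rfl
        _ = ⁅K, I'⁆ := Subgroup.commutator_comm _ _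
        _ = ⊥ := h
    have h2' : ⁅⁅E₂', K⁆, K⁆ = ⊥ := by rw [Subgroup.commutator_comm E₂' K]; exact h1'
    have h3 : ⁅⁅K, K⁆, E₂'⁆ = ⊥ := Subgroup.commutator_commutator_eq_bot_of_rotate h1' h2'
    rw [comp_perfect hK] at h3
    have hKc : K ≤ Subgroup.centralizer (E₂' : Set ↥M) :=
      Subgroup.commutator_eq_bot_iff_le_centralizer.mp h3
    have hKbot : K = ⊥ := by
      rw [eq_bot_iff]
      intro k hk
      have hkN : ((k : ↥M) : G) ∈ N := hlayN _ (hKE hk)
      have hmem : (⟨(k : G), hkN⟩ : ↥N) ∈ fittingSubgroup ↥N := by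
        have hz : Subgroup.zpowers (⟨(k : G), hkN⟩ : ↥N) ≤
            Subgroup.centralizer (generalizedFittingSubgroup ↥N : Set ↥N) := by
          rw [Subgroup.zpowers_le, Subgroup.mem_centralizer_iff]
          intro y hy
          have hyE : ((y : ↥N) : G) ∈ E₂ := Subgroup.mem_map_of_mem N.subtype hy
          have hyM : ((y : ↥N) : G) ∈ M := h2 hyE
          have hyE' : (⟨(y : G), hyM⟩ : ↥M) ∈ E₂' := by
            rw [hE₂', Subgroup.mem_subgroupOf]; exact hyE
          have := (Subgroup.mem_centralizer_iff.mp (hKc hk)) ⟨(y : G), hyM⟩ hyE'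
          have := congrArg Subtype.val this
          apply Subtype.ext
          simpa using this
        exact le_fitting_of_le_centralizer_gfs hz (Subgroup.mem_zpowers _)
      rw [hFN, Subgroup.mem_bot] at hmem
      have h4 : ((k : ↥M) : G) = 1 := by
        have := congrArg Subtype.val hmem
        simpa using this
      rw [Subgroup.mem_bot]
      exact Subtype.ext (by simpa using h4)
    exact comp_ne_bot hK hKbot

theorem fitting_eq_bot_of_pCore_eq_bot {X : Type*} [Group X] [Finite X]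
    (h : ∀ p : ℕ, p.Prime → pCore p X = ⊥) : fittingSubgroup X = ⊥ := by
  rw [Cfsg.Agent.Lib.Helper1.fittingSubgroup_eq_iSup_primes, iSup_eq_bot]
  intro q
  exact h q q.2

/-- **Bender's maximal subgroup theorem**. -/
theorem bender_maximal [IsSimpleGroup G] {M N : Subgroup G} (hM : IsCoatom M)
    (hN : IsCoatom N) (hMN : M ≠ N)
    (h1 : (generalizedFittingSubgroup ↥M).map M.subtype ≤ N)
    (h2 : (generalizedFittingSubgroup ↥N).map N.subtype ≤ M) :
    ∃ p : ℕ, p.Prime ∧ IsPGroup p ↥(generalizedFittingSubgroup ↥M) ∧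
      IsPGroup p ↥(generalizedFittingSubgroup ↥N) := by
  by_cases hex : ∃ p : ℕ, p.Prime ∧ (pCore p ↥M ≠ ⊥ ∨ pCore p ↥N ≠ ⊥)
  · obtain ⟨p, hp, h⟩ := hex
    have : Fact p.Prime := ⟨hp⟩
    have hA : pCore p ↥M ≠ ⊥ := by
      rcases h with h | h
      · exact h
      · exact pCore_ne_bot_of_pCore_ne_bot h2 h1 h
    have hB : pCore p ↥N ≠ ⊥ := pCore_ne_bot_of_pCore_ne_bot h1 h2 hA
    exact ⟨p, hp, isPGroup_gfs_of_pCore_ne_bot hM hN hMN h1 h2 hA hB,
      isPGroup_gfs_of_pCore_ne_bot hN hM hMN.symm h2 h1 hB hA⟩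
  · push Not at hex
    have hFM : fittingSubgroup ↥M = ⊥ :=
      fitting_eq_bot_of_pCore_eq_bot fun p hp => (hex p hp).1
    have hFN : fittingSubgroup ↥N = ⊥ :=
      fitting_eq_bot_of_pCore_eq_bot fun p hp => (hex p hp).2
    have hgM : generalizedFittingSubgroup ↥M = layer ↥M := by
      unfold generalizedFittingSubgroup; rw [hFM, sup_bot_eq]
    have hgN : generalizedFittingSubgroup ↥N = layer ↥N := by
      unfold generalizedFittingSubgroup; rw [hFN, sup_bot_eq]
    set E₁ : Subgroup G := (generalizedFittingSubgroup ↥M).map M.subtype with hE₁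
    set E₂ : Subgroup G := (generalizedFittingSubgroup ↥N).map N.subtype with hE₂
    have h12 : E₁ ≤ E₂ := by
      have := layer_le_of_fitting_eq_bot h1 h2 hFN
      rw [← hgM] at this
      rintro x ⟨y, hy, rfl⟩
      have := this hy
      rwa [Subgroup.mem_subgroupOf] at this
    have h21 : E₂ ≤ E₁ := by
      have := layer_le_of_fitting_eq_bot h2 h1 hFM
      rw [← hgN] at this
      rintro x ⟨y, hy, rfl⟩
      have := this hy
      rwa [Subgroup.mem_subgroupOf] at this
    have hE : E₁ = E₂ := le_antisymm h12 h21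
    by_cases hbot : E₁ = ⊥
    · have hb1 : generalizedFittingSubgroup ↥M = ⊥ := by
        rwa [hE₁, Subgroup.map_eq_bot_iff_of_injective _ M.subtype_injective] at hbot
      have hb2 : generalizedFittingSubgroup ↥N = ⊥ := by
        rw [hE] at hbot
        rwa [hE₂, Subgroup.map_eq_bot_iff_of_injective _ N.subtype_injective] at hbot
      refine ⟨2, Nat.prime_two, ?_, ?_⟩
      · exact IsPGroup.to_le IsPGroup.of_bot (le_of_eq hb1)
      · exact IsPGroup.to_le IsPGroup.of_bot (le_of_eq hb2)
    · exfalso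
      have hn1 : Subgroup.normalizer (E₁ : Set G) = M :=
        normalizer_eq_of_isCoatom hM hbot (Subgroup.map_subtype_le _)
          (le_normalizer_map_subtype gfs_normal')
      have hn2 : Subgroup.normalizer (E₂ : Set G) = N :=
        normalizer_eq_of_isCoatom hN (hE ▸ hbot) (Subgroup.map_subtype_le _)
          (le_normalizer_map_subtype gfs_normal')
      rw [hE] at hn1
      exact hMN (hn1.symm.trans hn2)

end Cfsg.Agent.Lib.Helper9.BenderMax
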