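import Mathlib
import Cfsg.Agent.Lib.Helper9.BenderMax3

/-!
# Bender's relation `M ⇝ N` (`Cfsg.leadsTo`): set-up lemmas
-/

set_option autoImplicit false
set_option linter.unusedSectionVars false
set_option linter.unusedVariables false

namespace Cfsg.Agent.Lib.Helper9.BenderLeads

open Cfsg Cfsg.Agent.Lib.Helper9.Bender Cfsg.Agent.Lib.Helper9.BenderMax
open scoped commutatorElement

section XLevel

variable {X : Type*} [Group X] [Finite X]

/-- every subgroup between `E(X)` and `F*(X)` is subnormal -/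
theorem isSubnormal_of_layer_le_aux (n : ℕ) : ∀ T : Subgroup X,
    Nat.card ↥(generalizedFittingSubgroup X) - Nat.card ↥T = n → layer X ≤ T →
    T ≤ generalizedFittingSubgroup X → T.IsSubnormal := by
  induction n using Nat.strong_induction_on with
  | _ n ih =>
  intro T hn hET hTF
  have hgn : (generalizedFittingSubgroup X).Normal := gfs_normal'
  have hEn : (layer X).Normal := layer_normal'
  by_cases hTeq : T = generalizedFittingSubgroup X
  · rw [hTeq]; exact hgn.isSubnormal
  have hFin : (fittingSubgroup X).Normal := by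
    have : (fittingSubgroup X).Characteristic :=
      Cfsg.Agent.Lib.Helper1.fittingSubgroup_characteristic
    infer_instance
  have hnil : Group.IsNilpotent ↥(fittingSubgroup X) :=
    Cfsg.Agent.Lib.Helper1.fittingSubgroup_isNilpotent
  set H : Subgroup ↥(fittingSubgroup X) := (T ⊓ fittingSubgroup X).subgroupOf (fittingSubgroup X)
    with hH
  have hHlt : H < ⊤ := by
    rw [lt_top_iff_ne_top]
    intro htop
    apply hTeq
    apply le_antisymm hTF
    unfold generalizedFittingSubgroup
    apply sup_le hET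
    intro f hf
    have : (⟨f, hf⟩ : ↥(fittingSubgroup X)) ∈ H := by rw [htop]; exact Subgroup.mem_top _
    rw [hH, Subgroup.mem_subgroupOf] at this
    exact this.1
  have hnc := Group.normalizerCondition_of_isNilpotent (G := ↥(fittingSubgroup X)) H hHlt
  obtain ⟨y, hyN, hyH⟩ := SetLike.exists_of_lt hnc
  have hyT : (y : X) ∉ T := by
    intro h
    apply hyH
    rw [hH, Subgroup.mem_subgroupOf]
    exact ⟨h, y.2⟩
  -- `y` normalizes `T`
  have key : ∀ w : ↥(fittingSubgroup X), w ∈ Subgroup.normalizer (H : Set ↥(fittingSubgroup X)) →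
      ∀ t ∈ T, (w : X) * t * (w : X)⁻¹ ∈ T := by
    intro w hw t ht
    have h1 := hTF ht
    unfold generalizedFittingSubgroup at h1
    obtain ⟨e, he, f, hf, rfl⟩ := Subgroup.mem_sup_of_normal_left.mp h1
    have hfT : f ∈ T := by
      have : f = e⁻¹ * (e * f) := by group
      rw [this]
      exact T.mul_mem (T.inv_mem (hET he)) ht
    have hfH : (⟨f, hf⟩ : ↥(fittingSubgroup X)) ∈ H := by
      rw [hH, Subgroup.mem_subgroupOf]; exact ⟨hfT, hf⟩
    have h2 := (Subgroup.mem_normalizer_iff.mp hw ⟨f, hf⟩).mp hfH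
    rw [hH, Subgroup.mem_subgroupOf] at h2
    have e1 : (w : X) * (e * f) * (w : X)⁻¹ =
        ((w : X) * e * (w : X)⁻¹) * ((w : X) * f * (w : X)⁻¹) := by group
    rw [e1]
    exact T.mul_mem (hET (hEn.conj_mem e he _)) h2.1
  have hyNT : (y : X) ∈ Subgroup.normalizer (T : Set X) := by
    rw [Subgroup.mem_normalizer_iff]
    intro t
    constructor
    · exact key y hyN t
    · intro ht
      have := key y⁻¹ (Subgroup.inv_mem _ hyN) _ ht
      simpa [mul_assoc] using this
  set T' : Subgroup X := generalizedFittingSubgroup X ⊓ Subgroup.normalizer (T : Set X) with hT'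
  have hTT' : T ≤ T' := le_inf hTF Subgroup.le_normalizer
  have hyT' : (y : X) ∈ T' :=
    ⟨fitting_le_gfs y.2, hyNT⟩
  have hlt : T < T' := lt_of_le_of_ne hTT' (fun h => hyT (h ▸ hyT'))
  have hcard : Nat.card ↥T < Nat.card ↥T' := by
    have hle : Nat.card ↥T ≤ Nat.card ↥T' := Nat.le_of_dvd Nat.card_pos (Subgroup.card_dvd_of_le hTT')
    rcases hle.lt_or_eq with h | h
    · exact h
    · exact absurd (Subgroup.eq_of_le_of_card_ge hTT' h.ge) hlt.ne
  have hT'F : T' ≤ generalizedFittingSubgroup X := inf_le_left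
  have hcard' : Nat.card ↥T' ≤ Nat.card ↥(generalizedFittingSubgroup X) :=
    Nat.le_of_dvd Nat.card_pos (Subgroup.card_dvd_of_le hT'F)
  have hsub : T'.IsSubnormal :=
    ih (Nat.card ↥(generalizedFittingSubgroup X) - Nat.card ↥T') (by omega) T' rfl
      (hET.trans hTT') hT'F
  have hnormal : (T.subgroupOf T').Normal :=
    (Subgroup.normal_subgroupOf_iff_le_normalizer hTT').mpr inf_le_right
  exact Subgroup.IsSubnormal.step T T' hTT' hsub hnormal

theorem isSubnormal_of_layer_le {T : Subgroup X} (hET : layer X ≤ T)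
    (hTF : T ≤ generalizedFittingSubgroup X) : T.IsSubnormal :=
  isSubnormal_of_layer_le_aux _ T rfl hET hTF

/-- `N_{F*(X)}(Q)` for `Q ≤ F(X)`: contains `E(X)`, is subnormal and self-centralizing in `F*(X)` -/
theorem layer_le_normalizer_of_le_fitting {Q : Subgroup X} (hQ : Q ≤ fittingSubgroup X) :
    layer X ≤ Subgroup.normalizer (Q : Set X) := by
  have hEF := commutator_layer_fitting (G := X)
  rw [Subgroup.commutator_eq_bot_iff_le_centralizer] at hEF
  exact (hEF.trans (Subgroup.centralizer_le hQ)).trans (Subgroup.centralizer_le_normalizer _)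

end XLevel

section GLevel

variable {G : Type*} [Group G] [Finite G]

omit [Finite G] in
theorem subgroupOf_normalizer_eq {M Q : Subgroup G} (hQM : Q ≤ M) :
    (Subgroup.normalizer (Q : Set G)).subgroupOf M =
      Subgroup.normalizer ((Q.subgroupOf M : Subgroup ↥M) : Set ↥M) := by
  ext x
  rw [Subgroup.mem_subgroupOf, Subgroup.mem_normalizer_iff, Subgroup.mem_normalizer_iff]
  constructor
  · intro h n
    rw [Subgroup.mem_subgroupOf, Subgroup.mem_subgroupOf]
    exact h (n : G)
  · intro h g
    constructor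
    · intro hg
      have := (h ⟨g, hQM hg⟩).mp (by rw [Subgroup.mem_subgroupOf]; exact hg)
      rwa [Subgroup.mem_subgroupOf] at this
    · intro hg
      have hgM : g ∈ M := by
        have h1 : (x : G) * g * (x : G)⁻¹ ∈ M := hQM hg
        have e : g = (x : G)⁻¹ * ((x : G) * g * (x : G)⁻¹) * (x : G) := by group
        rw [e]
        exact M.mul_mem (M.mul_mem (M.inv_mem x.2) h1) x.2
      have := (h ⟨g, hgM⟩).mpr (by rw [Subgroup.mem_subgroupOf]; exact hg)
      rwa [Subgroup.mem_subgroupOf] at this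

/-- the data extracted from `M ⇝ N` -/
structure LeadsData (M N S : Subgroup G) : Prop where
  hSF : S ≤ (generalizedFittingSubgroup ↥M).map M.subtype
  hSsn : (S.subgroupOf ((generalizedFittingSubgroup ↥M).map M.subtype)).IsSubnormal
  hSC : (generalizedFittingSubgroup ↥M).map M.subtype ⊓ Subgroup.centralizer (S : Set G) ≤ S
  hSN : S ≤ N
  hES : (layer ↥M).map M.subtype ≤ S
  hFne : fittingSubgroup ↥M ≠ ⊥

theorem exists_leadsData {M N : Subgroup G} (h : Cfsg.leadsTo M N) :
    ∃ S : Subgroup G, LeadsData M N S := by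
  obtain ⟨Q, hQne, hQF, hQN⟩ := h
  set gM : Subgroup G := (generalizedFittingSubgroup ↥M).map M.subtype with hgM
  have hQM : Q ≤ M := hQF.trans (Subgroup.map_subtype_le _)
  have hQg : Q ≤ gM := hQF.trans (Subgroup.map_mono fitting_le_gfs)
  set S : Subgroup G := gM ⊓ Subgroup.normalizer (Q : Set G) with hS
  have hQ'F : Q.subgroupOf M ≤ fittingSubgroup ↥M := by
    intro x hx
    rw [Subgroup.mem_subgroupOf] at hx
    obtain ⟨f, hf, hfx⟩ := hQF hx
    have : f = x := Subtype.ext hfx
    rw [← this]; exact hf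
  have hSM : S.subgroupOf M = generalizedFittingSubgroup ↥M ⊓
      Subgroup.normalizer ((Q.subgroupOf M : Subgroup ↥M) : Set ↥M) := by
    rw [← subgroupOf_normalizer_eq hQM]
    ext x
    rw [Subgroup.mem_subgroupOf, hS, Subgroup.mem_inf, Subgroup.mem_inf, Subgroup.mem_subgroupOf]
    constructor
    · rintro ⟨⟨f, hf, hfx⟩, h2⟩
      have : f = x := Subtype.ext hfx
      exact ⟨this ▸ hf, h2⟩
    · rintro ⟨h1, h2⟩
      exact ⟨⟨x, h1, rfl⟩, h2⟩
  have hE' : layer ↥M ≤ S.subgroupOf M := by
    rw [hSM]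
    exact le_inf layer_le_gfs (layer_le_normalizer_of_le_fitting hQ'F)
  have hsubM : (S.subgroupOf M).IsSubnormal := by
    apply isSubnormal_of_layer_le hE'
    rw [hSM]; exact inf_le_left
  refine ⟨S, ⟨inf_le_left, ?_, ?_, hQN, ?_, ?_⟩⟩
  · have h1 := hsubM.comap (Subgroup.inclusion (Subgroup.map_subtype_le (generalizedFittingSubgroup ↥M)))
    have e : (S.subgroupOf M).comap
        (Subgroup.inclusion (Subgroup.map_subtype_le (generalizedFittingSubgroup ↥M))) =
        S.subgroupOf gM := by
      ext x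
      rw [Subgroup.mem_comap, Subgroup.mem_subgroupOf, Subgroup.mem_subgroupOf]
      rfl
    rw [e] at h1
    exact h1
  · rintro c ⟨hcg, hcS⟩
    refine ⟨hcg, ?_⟩
    have hQS : Q ≤ S := le_inf hQg Subgroup.le_normalizer
    apply Subgroup.centralizer_le_normalizer
    exact Subgroup.centralizer_le hQS hcS
  · rintro _ ⟨e, he, rfl⟩
    have := hE' he
    rwa [Subgroup.mem_subgroupOf] at this
  · intro hbot
    apply hQne
    rw [eq_bot_iff]
    intro q hq
    obtain ⟨f, hf, hfq⟩ := hQF hq
    rw [hbot] at hf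
    have hf1 : f = 1 := Subgroup.mem_bot.mp hf
    rw [Subgroup.mem_bot, ← hfq, hf1]; rfl

end GLevel

end Cfsg.Agent.Lib.Helper9.BenderLeads
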