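import Mathlib
import Cfsg.Agent.Lib.Helper9.BenderLeads1

/-!
# Bender's relation `M ⇝ N`: the theorems S1856 and S1857
-/

set_option autoImplicit false
set_option linter.unusedSectionVars false
set_option linter.unusedVariables false

namespace Cfsg.Agent.Lib.Helper9.BenderLeads

open Cfsg Cfsg.Agent.Lib.Helper9.Bender Cfsg.Agent.Lib.Helper9.BenderMax
open scoped commutatorElement

/-- a finite group all of whose `q'`-elements are trivial is a `q`-group -/
theorem isPGroup_of_coprime_eq_one {Y : Type*} [Group Y] [Finite Y] {q : ℕ} (hq : q.Prime)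
    (h : ∀ g : Y, (orderOf g).Coprime q → g = 1) : IsPGroup q Y := by
  intro g
  set n := orderOf g with hn
  have hn0 : n ≠ 0 := (orderOf_pos g).ne'
  refine ⟨n.factorization q, ?_⟩
  apply h
  rw [orderOf_pow, ← hn]
  have hdvd : q ^ n.factorization q ∣ n := Nat.ordProj_dvd n q
  rw [Nat.gcd_eq_right hdvd]
  exact (Nat.coprime_ordCompl hq hn0).symm

/-- an element of a `q`-group of `q'`-order is trivial -/
theorem eq_one_of_isPGroup_of_coprime {Y : Type*} [Group Y] {q : ℕ} {H : Subgroup Y}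
    (hH : IsPGroup q H) {g : Y} (hg : g ∈ H) (hco : (orderOf g).Coprime q) : g = 1 := by
  obtain ⟨k, hk⟩ := hH ⟨g, hg⟩
  have hk' : g ^ q ^ k = 1 := by
    have := congrArg Subtype.val hk
    simpa using this
  have h1 : orderOf g ∣ q ^ k := orderOf_dvd_of_pow_eq_one hk'
  exact orderOf_eq_one_iff.mp (Nat.Coprime.eq_one_of_dvd (Nat.Coprime.pow_right _ hco) h1)

section XLevel

variable {X : Type*} [Group X] [Finite X]

theorem primes_of_isPGroup_gfs {q : ℕ} [Fact q.Prime]
    (h : IsPGroup q ↥(generalizedFittingSubgroup X)) (hF : fittingSubgroup X ≠ ⊥) :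
    q ∣ Nat.card ↥(fittingSubgroup X) ∧
      ∀ r : ℕ, r.Prime → r ∣ Nat.card ↥(fittingSubgroup X) → r = q := by
  have hq : q.Prime := Fact.out
  have hFp : IsPGroup q ↥(fittingSubgroup X) := h.to_le fitting_le_gfs
  obtain ⟨k, hk⟩ := IsPGroup.iff_card.mp hFp
  have hk0 : k ≠ 0 := by
    intro h0
    rw [h0, pow_zero] at hk
    exact hF (Subgroup.card_eq_one.mp hk)
  refine ⟨by rw [hk]; exact dvd_pow_self q hk0, ?_⟩
  intro r hr hrd
  rw [hk] at hrd
  exact (Nat.prime_dvd_prime_iff_eq hr hq).mp (hr.dvd_of_dvd_pow hrd)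

/-- Sylow subgroups of `F(X)` lie in the cores -/
theorem sylow_fitting_map_le_pCore {q : ℕ} [Fact q.Prime] (R : Sylow q ↥(fittingSubgroup X)) :
    (R : Subgroup ↥(fittingSubgroup X)).map (fittingSubgroup X).subtype ≤ pCore q X := by
  have hFin : (fittingSubgroup X).Normal := by
    have : (fittingSubgroup X).Characteristic :=
      Cfsg.Agent.Lib.Helper1.fittingSubgroup_characteristic
    infer_instance
  have hnil : Group.IsNilpotent ↥(fittingSubgroup X) :=
    Cfsg.Agent.Lib.Helper1.fittingSubgroup_isNilpotent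
  have hRn : (R : Subgroup ↥(fittingSubgroup X)).Normal := inferInstance
  have hRc : (R : Subgroup ↥(fittingSubgroup X)).Characteristic := R.characteristic_of_normal hRn
  have hn : ((R : Subgroup ↥(fittingSubgroup X)).map (fittingSubgroup X).subtype).Normal :=
    inferInstance
  exact Cfsg.Agent.Lib.Helper1.le_pCore hn (R.isPGroup'.map _)

/-- if `π(F(X)) ⊆ {q}` then `D' = E(X)` -/
theorem residualPart_eq_layer {q : ℕ}
    (h : ∀ r : ℕ, r.Prime → r ∣ Nat.card ↥(fittingSubgroup X) → r = q) :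
    residualPart q X = layer X := by
  unfold residualPart
  apply le_antisymm
  · apply sup_le le_rfl
    apply iSup_le
    rintro ⟨r, hr⟩
    have : Fact (r : ℕ).Prime := ⟨r.2⟩
    have : pCore (r : ℕ) X = ⊥ := pCore_eq_bot_of_not_dvd (r : ℕ) (fun hd => hr (h _ r.2 hd))
    rw [this]; exact bot_le
  · exact le_sup_left

end XLevel

section GLevel

variable {G : Type*} [Group G] [Finite G]

/-- **(a)** -/
theorem core_inf_eq_bot {M N S : Subgroup G} (d : LeadsData M N S) (q : ℕ) [Fact q.Prime]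
    (hq : ¬ q ∣ Nat.card (fittingSubgroup ↥M)) : (pCore q ↥N).map N.subtype ⊓ M = ⊥ :=
  pCore_inf_eq_bot d.hSF d.hSsn d.hSC d.hSN q hq

/-- the subgroup generated by the `q'`-elements of `F*(M)` -/
def resid (M : Subgroup G) (q : ℕ) : Subgroup G :=
  Subgroup.closure {x : G | x ∈ (generalizedFittingSubgroup ↥M).map M.subtype ∧ (orderOf x).Coprime q}

/-- **(b)** -/
theorem core_le_centralizer_resid [IsSimpleGroup G] {M N S : Subgroup G} (hM : IsCoatom M)
    (d : LeadsData M N S) (q : ℕ) [Fact q.Prime] (hq : q ∣ Nat.card (fittingSubgroup ↥M)) :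
    (pCore q ↥N).map N.subtype ≤ Subgroup.centralizer (resid M q : Set G) := by
  have hb := pCore_commute_pResidual hM d.hSF d.hSsn d.hSC d.hSN q hq
  rw [Subgroup.le_centralizer_iff]
  unfold resid
  rw [Subgroup.closure_le]
  rintro x ⟨⟨m, hm, rfl⟩, hxo⟩
  rw [SetLike.mem_coe, Subgroup.mem_centralizer_iff]
  intro u hu
  have hmem : m ∈ (pResidual q ↥(generalizedFittingSubgroup ↥M)).map
      (generalizedFittingSubgroup ↥M).subtype := by
    refine ⟨⟨m, hm⟩, ?_, rfl⟩
    apply Subgroup.subset_closure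
    show (orderOf (⟨m, hm⟩ : ↥(generalizedFittingSubgroup ↥M))).Coprime q
    rw [Subgroup.orderOf_mk]
    rw [Subgroup.subtype_apply, Subgroup.orderOf_coe] at hxo
    exact hxo
  exact hb u hu m hmem

omit [Finite G] in
theorem resid_le (M : Subgroup G) (q : ℕ) : resid M q ≤ M := by
  unfold resid
  rw [Subgroup.closure_le]
  rintro x ⟨hx, -⟩
  exact Subgroup.map_subtype_le _ hx

omit [Finite G] in
theorem le_normalizer_resid (M : Subgroup G) (q : ℕ) :
    M ≤ Subgroup.normalizer (resid M q : Set G) := by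
  have key : ∀ m ∈ M, ∀ s ∈ {x : G | x ∈ (generalizedFittingSubgroup ↥M).map M.subtype ∧
      (orderOf x).Coprime q}, m * s * m⁻¹ ∈ {x : G | x ∈ (generalizedFittingSubgroup ↥M).map M.subtype ∧
      (orderOf x).Coprime q} := by
    rintro m hm s ⟨hs, hso⟩
    refine ⟨conj_mem_map_subtype gfs_normal' hm hs, ?_⟩
    have hsc : SemiconjBy m s (m * s * m⁻¹) := by
      unfold SemiconjBy; group
    rw [← hsc.orderOf_eq]; exact hso
  intro m hm
  rw [Subgroup.mem_normalizer_iff]
  intro n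
  constructor
  · exact fun hn => conj_mem_closure_of_forall (key m hm) n hn
  · intro hn
    have := conj_mem_closure_of_forall (key m⁻¹ (M.inv_mem hm)) _ hn
    have e : m⁻¹ * (m * n * m⁻¹) * m⁻¹⁻¹ = n := by group
    rw [e] at this
    exact this

/-- **T2** -/
theorem isPGroup_or_core_le [IsSimpleGroup G] {M N S : Subgroup G} (hM : IsCoatom M)
    (d : LeadsData M N S) (q : ℕ) [Fact q.Prime] (hq : q ∣ Nat.card (fittingSubgroup ↥M)) :
    IsPGroup q ↥(generalizedFittingSubgroup ↥M) ∨ (pCore q ↥N).map N.subtype ≤ M := by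
  have hqp : q.Prime := Fact.out
  by_cases hR : resid M q = ⊥
  · left
    apply isPGroup_of_coprime_eq_one hqp
    intro g hg
    have h1 : ((g : ↥M) : G) ∈ resid M q := by
      apply Subgroup.subset_closure
      refine ⟨Subgroup.mem_map_of_mem M.subtype g.2, ?_⟩
      rw [Subgroup.orderOf_coe, Subgroup.orderOf_coe]; exact hg
    rw [hR, Subgroup.mem_bot] at h1
    apply Subtype.ext
    apply Subtype.ext
    simpa using h1
  · right
    have hN := normalizer_eq_of_isCoatom hM hR (resid_le M q) (le_normalizer_resid M q)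
    exact ((core_le_centralizer_resid hM d q hq).trans (Subgroup.centralizer_le_normalizer _)).trans
      hN.le

/-- **T3** -/
theorem dvd_card_fitting [IsSimpleGroup G] {M N S S' : Subgroup G} (d : LeadsData M N S)
    (d' : LeadsData N M S') (q : ℕ) [Fact q.Prime] (hq : q ∣ Nat.card (fittingSubgroup ↥N)) :
    q ∣ Nat.card (fittingSubgroup ↥M) := by
  by_contra hqM
  have ha := core_inf_eq_bot d q hqM
  have h1 : pCore q ↥N ≠ ⊥ := pCore_ne_bot_of_dvd q hq
  have h2 : zCore q ↥N ≠ ⊥ := zCore_ne_bot q h1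
  have h3 : zCore q ↥N ≤ S'.subgroupOf N :=
    zCore_le_of_selfCentralizing q (subgroupOf_le_gfs d'.hSF)
      (subgroupOf_selfCentralizing d'.hSF d'.hSC)
  apply h2
  rw [eq_bot_iff]
  intro z hz
  have hzS : (z : G) ∈ S' := by
    have := h3 hz
    rwa [Subgroup.mem_subgroupOf] at this
  have hzM : (z : G) ∈ M := d'.hSN hzS
  have hzO : (z : G) ∈ (pCore q ↥N).map N.subtype :=
    Subgroup.mem_map_of_mem N.subtype (zCore_le q hz)
  have : (z : G) ∈ (pCore q ↥N).map N.subtype ⊓ M := ⟨hzO, hzM⟩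
  rw [ha, Subgroup.mem_bot] at this
  rw [Subgroup.mem_bot]
  exact Subtype.ext (by simpa using this)

/-- **T4** -/
theorem gfs_map_le {M N S' : Subgroup G} (d' : LeadsData N M S')
    (h : ∀ q : ℕ, q.Prime → q ∣ Nat.card (fittingSubgroup ↥N) → (pCore q ↥N).map N.subtype ≤ M) :
    (generalizedFittingSubgroup ↥N).map N.subtype ≤ M := by
  unfold generalizedFittingSubgroup
  rw [Subgroup.map_sup]
  apply sup_le (d'.hES.trans d'.hSN)
  rw [Cfsg.Agent.Lib.Helper1.fittingSubgroup_eq_iSup_primes, Subgroup.map_iSup]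
  apply iSup_le
  intro q
  have : Fact (q : ℕ).Prime := ⟨q.2⟩
  by_cases hq : (q : ℕ) ∣ Nat.card (fittingSubgroup ↥N)
  · exact h q q.2 hq
  · rw [pCore_eq_bot_of_not_dvd (q : ℕ) hq, Subgroup.map_bot]; exact bot_le

/-- Case I of S1857: `F*(M)` a `q`-group forces `F*(N)` to be a `q`-group. -/
theorem isPGroup_gfs_of_isPGroup_gfs [IsSimpleGroup G] {M N S S' : Subgroup G} (hM : IsCoatom M)
    (hN : IsCoatom N) (d : LeadsData M N S) (d' : LeadsData N M S') (q : ℕ) [Fact q.Prime]
    (h : IsPGroup q ↥(generalizedFittingSubgroup ↥M)) :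
    IsPGroup q ↥(generalizedFittingSubgroup ↥N) := by
  have hqp : q.Prime := Fact.out
  obtain ⟨hqM, hπ⟩ := primes_of_isPGroup_gfs h d.hFne
  -- σ = {q}
  have hσ : ∀ r : ℕ, r.Prime → r ∣ Nat.card ↥(fittingSubgroup ↥N) → r = q := by
    intro r hr hrd
    have : Fact r.Prime := ⟨hr⟩
    exact hπ r hr (dvd_card_fitting d d' r hrd)
  have hqN : q ∣ Nat.card ↥(fittingSubgroup ↥N) := dvd_card_fitting d' d q hqM
  rcases isPGroup_or_core_le hN d' q hqN with h1 | h1
  · exact h1
  -- `F*(M) ≤ O_q(M) ≤ N`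
  have hgle : generalizedFittingSubgroup ↥M ≤ pCore q ↥M :=
    Cfsg.Agent.Lib.Helper1.le_pCore gfs_normal' h
  have hcen := core_le_centralizer_resid hN d' q hqN
  apply isPGroup_of_coprime_eq_one hqp
  intro g hg
  -- `g` lies in the layer of `N`
  have hgD : (g : ↥N) ∈ residualPart q ↥N := by
    apply mem_residualPart_of_coprime q g.2
    rw [Subgroup.orderOf_coe]; exact hg
  rw [residualPart_eq_layer hσ] at hgD
  have hgS : ((g : ↥N) : G) ∈ S' := d'.hES (Subgroup.mem_map_of_mem N.subtype hgD)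
  have hgM : ((g : ↥N) : G) ∈ M := d'.hSN hgS
  have hgR : ((g : ↥N) : G) ∈ resid N q := by
    apply Subgroup.subset_closure
    refine ⟨Subgroup.mem_map_of_mem N.subtype g.2, ?_⟩
    rw [Subgroup.orderOf_coe, Subgroup.orderOf_coe]; exact hg
  have hcent : (⟨((g : ↥N) : G), hgM⟩ : ↥M) ∈
      Subgroup.centralizer (generalizedFittingSubgroup ↥M : Set ↥M) := by
    rw [Subgroup.mem_centralizer_iff]
    intro f hf
    have hfO : ((f : ↥M) : G) ∈ (pCore q ↥M).map M.subtype :=
      Subgroup.mem_map_of_mem M.subtype (hgle hf)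
    have := (Subgroup.mem_centralizer_iff.mp (hcen hfO)) _ hgR
    apply Subtype.ext
    simpa using this.symm
  have hin : (⟨((g : ↥N) : G), hgM⟩ : ↥M) ∈ generalizedFittingSubgroup ↥M :=
    centralizer_gfs_le hcent
  have ho : (orderOf (⟨((g : ↥N) : G), hgM⟩ : ↥M)).Coprime q := by
    rw [Subgroup.orderOf_mk, Subgroup.orderOf_coe, Subgroup.orderOf_coe]; exact hg
  have h1' := eq_one_of_isPGroup_of_coprime h hin ho
  have h2' : ((g : ↥N) : G) = 1 := by
    have := congrArg Subtype.val h1'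
    simpa using this
  apply Subtype.ext
  apply Subtype.ext
  simpa using h2'

/-- **S1857** -/
theorem leadsTo_symm [IsSimpleGroup G] {M N : Subgroup G} (hM : IsCoatom M) (hN : IsCoatom N)
    (hMN : Cfsg.leadsTo M N) (hNM : Cfsg.leadsTo N M) :
    M = N ∨ ∃ p : ℕ, p.Prime ∧ IsPGroup p ↥(generalizedFittingSubgroup ↥M) ∧
      IsPGroup p ↥(generalizedFittingSubgroup ↥N) := by
  obtain ⟨S, d⟩ := exists_leadsData hMN
  obtain ⟨S', d'⟩ := exists_leadsData hNM
  by_cases h1 : ∃ q : ℕ, q.Prime ∧ IsPGroup q ↥(generalizedFittingSubgroup ↥M)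
  · obtain ⟨q, hq, hqM⟩ := h1
    have : Fact q.Prime := ⟨hq⟩
    exact Or.inr ⟨q, hq, hqM, isPGroup_gfs_of_isPGroup_gfs hM hN d d' q hqM⟩
  by_cases h2 : ∃ q : ℕ, q.Prime ∧ IsPGroup q ↥(generalizedFittingSubgroup ↥N)
  · obtain ⟨q, hq, hqN⟩ := h2
    have : Fact q.Prime := ⟨hq⟩
    exact Or.inr ⟨q, hq, isPGroup_gfs_of_isPGroup_gfs hN hM d' d q hqN, hqN⟩
  -- general case
  have hN_le : (generalizedFittingSubgroup ↥N).map N.subtype ≤ M := by
    apply gfs_map_le d'
    intro q hq hqd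
    have : Fact q.Prime := ⟨hq⟩
    have hqM := dvd_card_fitting d d' q hqd
    rcases isPGroup_or_core_le hM d q hqM with h | h
    · exact absurd ⟨q, hq, h⟩ h1
    · exact h
  have hM_le : (generalizedFittingSubgroup ↥M).map M.subtype ≤ N := by
    apply gfs_map_le d
    intro q hq hqd
    have : Fact q.Prime := ⟨hq⟩
    have hqN := dvd_card_fitting d' d q hqd
    rcases isPGroup_or_core_le hN d' q hqN with h | h
    · exact absurd ⟨q, hq, h⟩ h2
    · exact h
  by_cases hMN' : M = N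
  · exact Or.inl hMN'
  · exact Or.inr (bender_maximal hM hN hMN' hM_le hN_le)

/-- **S1856** -/
theorem leadsTo_cores [IsSimpleGroup G] {M N : Subgroup G} (hM : IsCoatom M)
    (hMN : Cfsg.leadsTo M N) :
    ((∃ q₁ q₂ : ℕ, q₁.Prime ∧ q₂.Prime ∧ q₁ ≠ q₂ ∧ q₁ ∣ Nat.card ↥(fittingSubgroup ↥M) ∧
        q₂ ∣ Nat.card ↥(fittingSubgroup ↥M)) →
      ∀ q : ℕ, q.Prime → q ∣ Nat.card ↥(fittingSubgroup ↥M) →
        ∀ R : Sylow q ↥(fittingSubgroup ↥N),
          ((R : Subgroup ↥(fittingSubgroup ↥N)).map (fittingSubgroup ↥N).subtype).map N.subtype ≤ M) ∧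
    (∀ q : ℕ, q.Prime → ¬ q ∣ Nat.card ↥(fittingSubgroup ↥M) →
      ∀ R : Sylow q ↥(fittingSubgroup ↥N),
        ((R : Subgroup ↥(fittingSubgroup ↥N)).map (fittingSubgroup ↥N).subtype).map N.subtype ⊓ M = ⊥) := by
  obtain ⟨S, d⟩ := exists_leadsData hMN
  constructor
  · rintro ⟨q₁, q₂, hq₁, hq₂, hne, hd₁, hd₂⟩ q hq hqd R
    have : Fact q.Prime := ⟨hq⟩
    have hle := Subgroup.map_mono (f := N.subtype) (sylow_fitting_map_le_pCore R)
    refine hle.trans ?_
    rcases isPGroup_or_core_le hM d q hqd with h | h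
    · exfalso
      obtain ⟨-, hπ⟩ := primes_of_isPGroup_gfs h d.hFne
      exact hne ((hπ q₁ hq₁ hd₁).trans (hπ q₂ hq₂ hd₂).symm)
    · exact h
  · intro q hq hqd R
    have : Fact q.Prime := ⟨hq⟩
    have hle := Subgroup.map_mono (f := N.subtype) (sylow_fitting_map_le_pCore R)
    rw [eq_bot_iff, ← core_inf_eq_bot d q hqd]
    exact inf_le_inf_right M hle

end GLevel

end Cfsg.Agent.Lib.Helper9.BenderLeads
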