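import Mathlib
import Cfsg.Prelude
import Cfsg.Agent.Lib.Helper10.BGTen
import Cfsg.Agent.H5.Basic

/-!
# B & G, Lemmas 10.5 and 10.6: primes outside `σ(M)` with `M` of `p`-rank two
-/

set_option autoImplicit false
set_option linter.style.haveILetI false
set_option linter.unusedSectionVars false

open Cfsg
open Cfsg.Agent.Lib.Helper10.BG

namespace Cfsg.Agent.Lib.Helper9.BG10

variable {G : Type*} [Group G]

/-- If `p ∉ σ(M)` then no Sylow `p`-subgroup of `M` has its normalizer inside `M`. -/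
theorem exists_normalizer_not_mem [Finite G] {M T : Subgroup G} {p : ℕ} [Fact p.Prime]
    (hp : p ∉ sigma M) (hpM : p ∣ Nat.card M) (hT : IsSylowIn p T M) :
    ∃ g ∈ Subgroup.normalizer (T : Set G), g ∉ M := by
  by_contra hcon
  push Not at hcon
  apply hp
  refine ⟨Fact.out, hpM, hT.toSylow, ?_⟩
  have h1 : ((hT.toSylow : Sylow p ↥M) : Subgroup M).map M.subtype = T := by
    rw [hT.coe_toSylow, Subgroup.subgroupOf_map_subtype]
    exact inf_eq_left.mpr hT.le
  rw [h1]
  intro g hg
  exact hcon g hg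

/-- If `p ∉ σ(M)`, a Sylow `p`-subgroup of `M` is not a uniqueness subgroup. -/
theorem not_inUniqueMaximal_sylow [Finite G] (hG : IsMinSimpleOddOrder G) {M T : Subgroup G}
    (hM : IsCoatom M) {p : ℕ} [Fact p.Prime]
    (hp : p ∉ sigma M) (hpM : p ∣ Nat.card M) (hT : IsSylowIn p T M) :
    ¬ InUniqueMaximal T := by
  intro hU
  obtain ⟨g, hgN, hgM⟩ := exists_normalizer_not_mem hp hpM hT
  obtain ⟨L, hL, hTL, huniq⟩ := inUniqueMaximal_exists hU
  have h1 : M = L := huniq M hM hT.le
  have h2 : T ≤ M.map (MulAut.conj g).toMonoidHom := by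
    have h3 : T.map (MulAut.conj g).toMonoidHom = T := by
      ext x
      constructor
      · rintro ⟨y, hy, rfl⟩
        exact ((Subgroup.mem_normalizer_iff.mp hgN) y).mp hy
      · intro hx
        refine ⟨g⁻¹ * x * g, ?_, ?_⟩
        · have := (Subgroup.mem_normalizer_iff.mp (inv_mem hgN) x).mp hx
          simpa using this
        · simp [mul_assoc]
    rw [← h3]
    exact Subgroup.map_mono hT.le
  have h4 : M.map (MulAut.conj g).toMonoidHom = L := huniq _ (isCoatom_map_conj g hM) h2
  exact hgM (mem_of_map_conj_eq_self hG hM (h4.trans h1.symm))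

/-- A non-cyclic-type witness: from `¬ PRankLE p 1 M` and `PRankLE p 2 M` we get an elementary
abelian subgroup of `M` of order exactly `p ^ 2`. -/
theorem exists_elementary_sq [Finite G] {M : Subgroup G} {p : ℕ} [Fact p.Prime]
    (hr2 : PRankLE p 2 M) (hr1 : ¬ PRankLE p 1 M) :
    ∃ A : Subgroup G, A ≤ M ∧ IsElementaryAbelian p A ∧ Nat.card A = p ^ 2 := by
  obtain ⟨V, hVM, hVe, hVcard⟩ := Cfsg.Agent.S1400.exists_elementary_of_not_pRankLE hr1
  refine ⟨V, hVM, hVe, ?_⟩
  have hVp : IsPGroup p V := by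
    intro x
    refine ⟨1, ?_⟩
    apply Subtype.ext
    simpa using hVe.2 x x.2
  obtain ⟨k, hk⟩ := hVp.exists_card_eq
  have hle : Nat.card V ≤ p ^ 2 := by
    by_contra hcon
    push Not at hcon
    exact not_pRankLE_of_le hVM hVe hcon hr2
  have hp1 : 1 < p := (Fact.out : p.Prime).one_lt
  rw [hk] at hVcard hle ⊢
  have h1 : 1 < k := by
    have : p ^ 1 < p ^ k := hVcard
    exact (Nat.pow_lt_pow_iff_right hp1).mp this
  have h2 : k ≤ 2 := (Nat.pow_le_pow_iff_right hp1).mp hle
  have : k = 2 := by omega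
  rw [this]

/-- B & G, Lemma 10.5, second part: the elementary abelian subgroups of order `p ^ 2` of `M` are
maximal elementary abelian subgroups of `G`. -/
theorem elementary_sq_maximal [Finite G] (hG : IsMinSimpleOddOrder G) {M : Subgroup G}
    (hM : IsCoatom M) {p : ℕ} [Fact p.Prime] (hp : p ∉ sigma M)
    {A : Subgroup G} (hAM : A ≤ M) (hAe : IsElementaryAbelian p A) (hAcard : Nat.card A = p ^ 2)
    {B : Subgroup G} (hBe : IsElementaryAbelian p B) (hAB : A ≤ B) : B = A := by
  by_contra hne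
  have hp1 : 1 < p := (Fact.out : p.Prime).one_lt
  have hlt : Nat.card A < Nat.card B :=
    card_lt_of_le_of_ne hAB (fun h => hne h.symm)
  have hAtop : A ≠ ⊤ := ne_top_of_le_isCoatom hM hAM
  have hAp : IsPGroup p A := by
    intro x
    refine ⟨1, ?_⟩
    apply Subtype.ext
    simpa using hAe.2 x x.2
  have hpM : p ∣ Nat.card M := by
    have h1 : Nat.card A ∣ Nat.card M := Subgroup.card_dvd_of_le hAM
    rw [hAcard] at h1
    exact (dvd_pow_self p (by norm_num)).trans h1
  -- `A` is a uniqueness subgroup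
  have hU : InUniqueMaximal A := by
    apply Cfsg.Agent.S1403.result hG A hAtop
    · intro h1
      have h2 := h1 p Fact.out
      have h3 : ¬ PRankLE p 1 ↥A := by
        apply not_pRankLE_of_le (le_refl A) hAe
        rw [hAcard]
        exact Nat.pow_lt_pow_right hp1 (by norm_num)
      exact h3 h2
    · right
      intro h1
      have h2 := h1 p Fact.out
      have hBc : B ≤ Subgroup.centralizer (A : Set G) := by
        intro b hb
        rw [Subgroup.mem_centralizer_iff]
        intro a ha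
        have := hBe.1.is_comm.comm ⟨a, hAB ha⟩ ⟨b, hb⟩
        exact congrArg Subtype.val this
      have h3 : ¬ PRankLE p 2 ↥(Subgroup.centralizer (A : Set G)) := by
        apply not_pRankLE_of_le hBc hBe
        rw [← hAcard]
        exact hlt
      exact h3 h2
  obtain ⟨T, hT, hAT⟩ := exists_isSylowIn_ge hAM hAp
  have hTtop : T ≠ ⊤ := ne_top_of_le_isCoatom hM hT.le
  exact not_inUniqueMaximal_sylow hG hM hp hpM hT (inUniqueMaximal_mono hU hAT hTtop)


/-- B & G, Lemma 10.5. -/
theorem lemma_10_5 [Finite G] (hG : IsMinSimpleOddOrder G) {M : Subgroup G}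
    (hM : IsCoatom M) {p : ℕ} [Fact p.Prime] (hp : p ∉ sigma M)
    (hr2 : PRankLE p 2 M) (hr1 : ¬ PRankLE p 1 M) :
    ¬ IsIdealPrime p G ∧ ∀ A : Subgroup G, A ≤ M → IsElementaryAbelian p A → Nat.card A = p ^ 2 →
        ∀ B : Subgroup G, IsElementaryAbelian p B → A ≤ B → B = A := by
  refine ⟨?_, fun A hAM hAe hAcard B hBe hAB =>
    elementary_sq_maximal hG hM hp hAM hAe hAcard hBe hAB⟩
  rintro ⟨-, -, h⟩
  obtain ⟨A, hAM, hAe, hAcard⟩ := exists_elementary_sq hr2 hr1
  have hAp : IsPGroup p A := by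
    intro x
    refine ⟨1, ?_⟩
    apply Subtype.ext
    simpa using hAe.2 x x.2
  obtain ⟨P, hAP⟩ := hAp.exists_le_sylow
  obtain ⟨B, -, hBe, hAB⟩ := h P A hAP hAe hAcard
  have := elementary_sq_maximal hG hM hp hAM hAe hAcard hBe hAB.le
  exact (ne_of_lt hAB) this.symm

/-- A subgroup of prime order is elementary abelian. -/
theorem isElementaryAbelian_of_card_eq_prime {p : ℕ} [Fact p.Prime] {X : Subgroup G}
    (hX : Nat.card X = p) : IsElementaryAbelian p X := by
  haveI : IsCyclic X := isCyclic_of_prime_card hX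
  refine ⟨⟨⟨fun a b => ?_⟩⟩, ?_⟩
  · obtain ⟨g, hg⟩ := IsCyclic.exists_generator (α := X)
    obtain ⟨m, rfl⟩ := Subgroup.mem_zpowers_iff.mp (hg a)
    obtain ⟨n, rfl⟩ := Subgroup.mem_zpowers_iff.mp (hg b)
    rw [← zpow_add, ← zpow_add, add_comm]
  · intro a ha
    have h1 : (⟨a, ha⟩ : X) ^ Nat.card X = 1 := pow_card_eq_one'
    rw [hX] at h1
    exact congrArg Subtype.val h1

/-- two subgroups of the same prime order, one contained in the other, are equal -/
theorem eq_of_le_of_card_eq_prime [Finite G] {p : ℕ} {X Y : Subgroup G}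
    (hX : Nat.card X = p) (hY : Nat.card Y = p) (h : X ≤ Y) : X = Y :=
  Subgroup.eq_of_le_of_card_ge h (by rw [hX, hY])

/-- In a `p`-subgroup `T` with two distinct subgroups `X`, `Y` of order `p` there is an elementary
abelian subgroup of `T` of order greater than `p` containing `X`. -/
theorem exists_elementary_gt [Finite G] {p : ℕ} [Fact p.Prime] {T X Y : Subgroup G}
    (hT : IsPGroup p T) (hXT : X ≤ T) (hYT : Y ≤ T) (hX : Nat.card X = p) (hY : Nat.card Y = p)
    (hXY : X ≠ Y) :
    ∃ A : Subgroup G, A ≤ T ∧ IsElementaryAbelian p A ∧ X ≤ A ∧ p < Nat.card A := by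
  have hp : p.Prime := Fact.out
  -- a central element of order `p`
  haveI : Nontrivial ↥T := by
    have h1 : 1 < Nat.card X := by rw [hX]; exact hp.one_lt
    have h2 : Nat.card X ≤ Nat.card T := Subgroup.card_le_of_le hXT
    exact Finite.one_lt_card_iff_nontrivial.mp (lt_of_lt_of_le h1 h2)
  haveI := hT.center_nontrivial
  have hdvd : p ∣ Nat.card (Subgroup.center ↥T) := by
    have hZp : IsPGroup p (Subgroup.center ↥T) := hT.to_subgroup _
    obtain ⟨k, hk⟩ := hZp.exists_card_eq
    have h1 : 1 < Nat.card (Subgroup.center ↥T) := Finite.one_lt_card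
    rw [hk] at h1 ⊢
    have : k ≠ 0 := by
      rintro rfl
      simp at h1
    exact dvd_pow_self p this
  obtain ⟨z, hz⟩ := exists_prime_orderOf_dvd_card' p hdvd
  set z' : G := ((z : ↥T) : G) with hz'
  have hz'T : z' ∈ T := (z : ↥T).2
  have hz'ord : orderOf z' = p := by
    rw [hz', Subgroup.orderOf_coe, Subgroup.orderOf_coe]
    exact hz
  have hz'c : ∀ t ∈ T, z' * t = t * z' := by
    intro t ht
    have h1 := (Subgroup.mem_center_iff.mp z.2) ⟨t, ht⟩
    have h2 := congrArg Subtype.val h1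
    simpa using h2.symm
  have hz'p : z' ^ p = 1 := by rw [← hz'ord]; exact pow_orderOf_eq_one z'
  have hZcard : Nat.card (Subgroup.zpowers z') = p := by rw [Nat.card_zpowers, hz'ord]
  have hZT : Subgroup.zpowers z' ≤ T := Subgroup.zpowers_le.mpr hz'T
  have hZc : ∀ a ∈ Subgroup.zpowers z', ∀ t ∈ T, a * t = t * a := by
    intro a ha t ht
    obtain ⟨k, rfl⟩ := Subgroup.mem_zpowers_iff.mp ha
    have : Commute z' t := hz'c t ht
    exact (this.zpow_left k).eq
  have hXe := isElementaryAbelian_of_card_eq_prime hX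
  have hYe := isElementaryAbelian_of_card_eq_prime hY
  have hZe := isElementaryAbelian_of_card_eq_prime hZcard
  by_cases hZX : Subgroup.zpowers z' = X
  · -- `X` is central: take `X ⊔ Y`
    refine ⟨X ⊔ Y, sup_le hXT hYT, ?_, le_sup_left, ?_⟩
    · apply Cfsg.H5.isElementaryAbelian_sup hXe hYe
      intro a ha
      rw [Subgroup.mem_centralizer_iff]
      intro b hb
      rw [← hZX] at ha
      exact (hZc a ha b (hYT hb)).symm
    · have hlt : X < X ⊔ Y := by
        apply lt_of_le_of_ne le_sup_left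
        intro h
        have hYX : Y ≤ X := by rw [h]; exact le_sup_right
        exact hXY (eq_of_le_of_card_eq_prime hY hX hYX).symm
      have := card_lt_of_le_of_ne hlt.le (ne_of_lt hlt)
      rwa [hX] at this
  · refine ⟨X ⊔ Subgroup.zpowers z', sup_le hXT hZT, ?_, le_sup_left, ?_⟩
    · apply Cfsg.H5.isElementaryAbelian_sup hXe hZe
      intro a ha
      rw [Subgroup.mem_centralizer_iff]
      intro b hb
      exact hZc b hb a (hXT ha)
    · have hlt : X < X ⊔ Subgroup.zpowers z' := by
        apply lt_of_le_of_ne le_sup_left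
        intro h
        have hZX' : Subgroup.zpowers z' ≤ X := by rw [h]; exact le_sup_right
        exact hZX (eq_of_le_of_card_eq_prime hZcard hX hZX')
      have := card_lt_of_le_of_ne hlt.le (ne_of_lt hlt)
      rwa [hX] at this

/-- B & G, Lemma 10.6. -/
theorem lemma_10_6 [Finite G] (hG : IsMinSimpleOddOrder G) {M : Subgroup G}
    (hM : IsCoatom M) {p : ℕ} [Fact p.Prime] (hp : p ∉ sigma M) {X : Subgroup G}
    (hX : Nat.card X = p) (hNX : Subgroup.normalizer (X : Set G) ≤ M) :
    (PRankLE p 2 M ∧ ¬ PRankLE p 1 M) ∧ ¬ IsIdealPrime p G ∧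
      ∃ A : Subgroup G, IsElementaryAbelian p A ∧ Nat.card A = p ^ 2 ∧ X ≤ A := by
  have hpp : p.Prime := Fact.out
  have hp1 : 1 < p := hpp.one_lt
  have hXM : X ≤ M := Subgroup.le_normalizer.trans hNX
  have hXe := isElementaryAbelian_of_card_eq_prime hX
  have hXp : IsPGroup p X := by
    intro x
    refine ⟨1, ?_⟩
    apply Subtype.ext
    simpa using hXe.2 x x.2
  have hpM : p ∣ Nat.card M := by
    have h1 : Nat.card X ∣ Nat.card M := Subgroup.card_dvd_of_le hXM
    rwa [hX] at h1
  obtain ⟨T, hT, hXT⟩ := exists_isSylowIn_ge hXM hXp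
  obtain ⟨g, hgN, hgM⟩ := exists_normalizer_not_mem hp hpM hT
  -- the second subgroup of order `p`
  set Y : Subgroup G := X.map (MulAut.conj g).toMonoidHom with hYdef
  have hYT : Y ≤ T := by
    rintro _ ⟨x, hx, rfl⟩
    exact ((Subgroup.mem_normalizer_iff.mp hgN) x).mp (hXT hx)
  have hYcard : Nat.card Y = p := by
    rw [hYdef, Subgroup.card_map_of_injective (MulAut.conj g).injective, hX]
  have hXY : X ≠ Y := by
    intro h
    apply hgM
    apply hNX
    exact mem_normalizer_of_map_conj_eq h.symm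
  obtain ⟨A, hAT, hAe, hXA, hAcard⟩ := exists_elementary_gt hT.isPGroup hXT hYT hX hYcard hXY
  have hAM : A ≤ M := hAT.trans hT.le
  have hr1 : ¬ PRankLE p 1 M := by
    apply not_pRankLE_of_le hAM hAe
    rwa [pow_one]
  have hr2 : PRankLE p 2 M := by
    by_contra hcon
    obtain ⟨V, hVM, hVe, hVcard⟩ := Cfsg.Agent.S1400.exists_elementary_of_not_pRankLE hcon
    have hVp : IsPGroup p V := by
      intro x
      refine ⟨1, ?_⟩
      apply Subtype.ext
      simpa using hVe.2 x x.2
    obtain ⟨T', hT', hVT'⟩ := exists_isSylowIn_ge hVM hVp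
    have hT'top : T' ≠ ⊤ := ne_top_of_le_isCoatom hM hT'.le
    have h3 : ¬ PRankLE p 2 ↥T' := not_pRankLE_of_le hVT' hVe hVcard
    exact not_inUniqueMaximal_sylow hG hM hp hpM hT'
      (inUniqueMaximal_of_not_pRankLE hG hpp hT'top h3)
  refine ⟨⟨hr2, hr1⟩, (lemma_10_5 hG hM hp hr2 hr1).1, A, hAe, ?_, hXA⟩
  have hAp : IsPGroup p A := by
    intro x
    refine ⟨1, ?_⟩
    apply Subtype.ext
    simpa using hAe.2 x x.2
  obtain ⟨k, hk⟩ := hAp.exists_card_eq
  have hle : Nat.card A ≤ p ^ 2 := by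
    by_contra hcon
    push Not at hcon
    exact not_pRankLE_of_le hAM hAe hcon hr2
  rw [hk] at hAcard hle ⊢
  have h1 : 1 < k := by
    have : p ^ 1 < p ^ k := by rwa [pow_one]
    exact (Nat.pow_lt_pow_iff_right hp1).mp this
  have h2 : k ≤ 2 := (Nat.pow_le_pow_iff_right hp1).mp hle
  have : k = 2 := by omega
  rw [this]

end Cfsg.Agent.Lib.Helper9.BG10
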