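import Mathlib
import Cfsg.Agent.Lib.Helper1.CoprimeSylow
import Cfsg.Agent.Lib.Helper10.BGSylow
import Cfsg.Agent.Lib.Helper10.BGTen

/-!
# Helper9 library: general tools for the "exceptional maximal subgroup" development

Coprime action in `IsSylowIn` form, conjugation lemmas in `map` form.
-/

set_option autoImplicit false
set_option linter.style.haveILetI false
set_option linter.unusedSectionVars false

open Cfsg
open scoped commutatorElement
open Cfsg.Agent.Lib.Helper10.BG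
open Cfsg.Agent.Lib.Helper1 (CoprimeAct)

namespace Cfsg.Agent.Lib.Helper9.BGExc

variable {G : Type*} [Group G]

/-- conjugate of a subgroup, in `map` form (the form used by the `sigma_conj` API). -/
abbrev cj (g : G) (X : Subgroup G) : Subgroup G := X.map (MulAut.conj g).toMonoidHom

theorem mem_cj {g x : G} {X : Subgroup G} : x ∈ cj g X ↔ g⁻¹ * x * g ∈ X := by
  constructor
  · rintro ⟨y, hy, rfl⟩
    have : g⁻¹ * (MulAut.conj g).toMonoidHom y * g = y := by simp [mul_assoc]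
    rw [this]; exact hy
  · intro h
    exact ⟨g⁻¹ * x * g, h, by simp [mul_assoc]⟩

theorem conj_mem_cj {g x : G} {X : Subgroup G} (hx : x ∈ X) : g * x * g⁻¹ ∈ cj g X :=
  ⟨x, hx, by simp⟩

theorem cj_mono (g : G) {X Y : Subgroup G} (h : X ≤ Y) : cj g X ≤ cj g Y := Subgroup.map_mono h

theorem cj_cj (a b : G) (X : Subgroup G) : cj a (cj b X) = cj (a * b) X := map_conj_map_conj b a X

theorem cj_one (X : Subgroup G) : cj (1 : G) X = X := map_conj_one X

theorem cj_inv_cj (g : G) (X : Subgroup G) : cj g⁻¹ (cj g X) = X := map_conj_inv_map_conj g X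

theorem cj_cj_inv (g : G) (X : Subgroup G) : cj g (cj g⁻¹ X) = X := map_conj_map_conj_inv g X

theorem cj_le_iff {g : G} {X Y : Subgroup G} : cj g X ≤ Y ↔ X ≤ cj g⁻¹ Y := by
  constructor
  · intro h
    have := cj_mono g⁻¹ h
    rwa [cj_inv_cj] at this
  · intro h
    have := cj_mono g h
    rwa [cj_cj_inv] at this

theorem card_cj (g : G) (X : Subgroup G) : Nat.card (cj g X) = Nat.card X :=
  Subgroup.card_map_of_injective (MulAut.conj g).injective

theorem cj_eq_self_of_mem_normalizer {g : G} {X : Subgroup G}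
    (hg : g ∈ Subgroup.normalizer (X : Set G)) : cj g X = X :=
  Cfsg.Agent.Lib.Helper10.map_conj_eq_of_mem_normalizer X g hg

theorem cj_eq_self_of_mem {g : G} {M : Subgroup G} (hg : g ∈ M) : cj g M = M :=
  map_conj_eq_self_of_mem hg

theorem cj_le_of_mem {g : G} {X M : Subgroup G} (hg : g ∈ M) (hX : X ≤ M) : cj g X ≤ M := by
  have := cj_mono g hX
  rwa [cj_eq_self_of_mem hg] at this

theorem normalizer_cj (g : G) (X : Subgroup G) :
    Subgroup.normalizer ((cj g X : Subgroup G) : Set G) = cj g (Subgroup.normalizer (X : Set G)) :=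
  (Subgroup.map_equiv_normalizer_eq X (MulAut.conj g)).symm

theorem centralizer_cj (g : G) (X : Subgroup G) :
    Subgroup.centralizer ((cj g X : Subgroup G) : Set G) =
      cj g (Subgroup.centralizer (X : Set G)) := by
  ext x
  rw [mem_cj, Subgroup.mem_centralizer_iff, Subgroup.mem_centralizer_iff]
  constructor
  · intro h y hy
    have h1 := h (g * y * g⁻¹) (conj_mem_cj hy)
    have h2 : y * (g⁻¹ * x * g) = g⁻¹ * ((g * y * g⁻¹) * x) * g := by group
    rw [h2, h1]; group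
  · intro h y hy
    have h1 := h (g⁻¹ * y * g) (mem_cj.mp hy)
    have h2 : y * x = g * ((g⁻¹ * y * g) * (g⁻¹ * x * g)) * g⁻¹ := by group
    rw [h2, h1]; group

theorem cj_inf (g : G) (X Y : Subgroup G) : cj g (X ⊓ Y) = cj g X ⊓ cj g Y :=
  Subgroup.map_inf X Y _ (MulAut.conj g).injective

theorem cj_sup (g : G) (X Y : Subgroup G) : cj g (X ⊔ Y) = cj g X ⊔ cj g Y :=
  Subgroup.map_sup X Y _

theorem cj_bot (g : G) : cj g (⊥ : Subgroup G) = ⊥ := Subgroup.map_bot _

theorem cj_eq_bot_iff {g : G} {X : Subgroup G} : cj g X = ⊥ ↔ X = ⊥ :=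
  (Subgroup.map_eq_bot_iff_of_injective X (MulAut.conj g).injective)

theorem le_normalizer_cj {g : G} {A X : Subgroup G} (h : A ≤ Subgroup.normalizer (X : Set G)) :
    cj g A ≤ Subgroup.normalizer ((cj g X : Subgroup G) : Set G) := by
  rw [normalizer_cj]; exact cj_mono g h

theorem le_centralizer_cj {g : G} {A X : Subgroup G} (h : A ≤ Subgroup.centralizer (X : Set G)) :
    cj g A ≤ Subgroup.centralizer ((cj g X : Subgroup G) : Set G) := by
  rw [centralizer_cj]; exact cj_mono g h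

theorem le_cj_of_le_normalizer {X N : Subgroup G} {n : G}
    (hn : n ∈ Subgroup.normalizer (N : Set G)) (hX : X ≤ N) : X ≤ cj n N := by
  rw [cj_eq_self_of_mem_normalizer hn]; exact hX

section Coprime

variable [Finite G] {A K : Subgroup G} {q : ℕ} [Fact q.Prime]

theorem coprime_exists_isSylowIn_ge (h : CoprimeAct A K) {U : Subgroup G} (hUK : U ≤ K)
    (hU : IsPGroup q U) (hUA : A ≤ Subgroup.normalizer (U : Set G)) :
    ∃ Q : Subgroup G, IsSylowIn q Q K ∧ U ≤ Q ∧ A ≤ Subgroup.normalizer (Q : Set G) := by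
  obtain ⟨P, hUP, hAP⟩ := h.exists_invariant_sylow_ge U hUK hU hUA
  exact ⟨_, isSylowIn_of_sylow P, hUP, hAP⟩

theorem coprime_exists_isSylowIn (h : CoprimeAct A K) (q : ℕ) [Fact q.Prime] :
    ∃ Q : Subgroup G, IsSylowIn q Q K ∧ A ≤ Subgroup.normalizer (Q : Set G) := by
  obtain ⟨P, hAP⟩ := h.exists_invariant_sylow q
  exact ⟨_, isSylowIn_of_sylow P, hAP⟩

theorem coprime_isSylowIn_conj (h : CoprimeAct A K) {Q₁ Q₂ : Subgroup G}
    (h₁ : IsSylowIn q Q₁ K) (h₂ : IsSylowIn q Q₂ K)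
    (hA₁ : A ≤ Subgroup.normalizer (Q₁ : Set G)) (hA₂ : A ≤ Subgroup.normalizer (Q₂ : Set G)) :
    ∃ c ∈ K ⊓ Subgroup.centralizer (A : Set G), Q₂ = cj c Q₁ := by
  have e₁ : ((h₁.toSylow : Sylow q K) : Subgroup K).map K.subtype = Q₁ := by
    rw [h₁.coe_toSylow, Subgroup.map_subgroupOf_eq_of_le h₁.le]
  have e₂ : ((h₂.toSylow : Sylow q K) : Subgroup K).map K.subtype = Q₂ := by
    rw [h₂.coe_toSylow, Subgroup.map_subgroupOf_eq_of_le h₂.le]
  obtain ⟨c, hc, hcPQ⟩ := h.exists_conj_sylow h₁.toSylow h₂.toSylow (by rw [e₁]; exact hA₁)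
    (by rw [e₂]; exact hA₂)
  refine ⟨c, Subgroup.mem_inf.mpr ⟨c.2, hc⟩, ?_⟩
  have key : ∀ x : K, x ∈ (h₂.toSylow : Sylow q K) ↔ c⁻¹ * x * c ∈ (h₁.toSylow : Sylow q K) := by
    intro x
    rw [← hcPQ]
    change x ∈ ((MulAut.conj c • h₁.toSylow : Sylow q K) : Subgroup K) ↔ _
    rw [Sylow.pointwise_smul_def, Subgroup.mem_pointwise_smul_iff_inv_smul_mem]
    simp only [MulAut.smul_def, MulAut.conj_inv_apply]
    exact Iff.rfl
  ext x
  rw [mem_cj]
  constructor
  · intro hx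
    have h3 := (key ⟨x, h₂.le hx⟩).mp ((h₂.mem_toSylow _).mpr hx)
    exact (h₁.mem_toSylow _).mp h3
  · intro hx
    have hxK : x ∈ K := by
      have h4 := K.mul_mem (K.mul_mem c.2 (h₁.le hx)) (K.inv_mem c.2)
      have h5 : (c : G) * ((c : G)⁻¹ * x * c) * (c : G)⁻¹ = x := by group
      rwa [h5] at h4
    have h3 : (c⁻¹ * ⟨x, hxK⟩ * c : K) ∈ (h₁.toSylow : Sylow q K) := (h₁.mem_toSylow _).mpr hx
    exact (h₂.mem_toSylow _).mp ((key ⟨x, hxK⟩).mpr h3)

end Coprime

end Cfsg.Agent.Lib.Helper9.BGExc
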