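import Mathlib
import Cfsg.Agent.Lib.Helper10.BGTen3
import Cfsg.Agent.Lib.Helper10.BGTwelve
import Cfsg.Agent.Lib.Lead.BGTrans
import Cfsg.Agent.Lib.Lead.BGTransHyp
import Cfsg.Agent.S1350
import Cfsg.Agent.S1408
import Cfsg.Agent.S1409
import Cfsg.Agent.Lib.Helper9.BGExc0

/-!
# Helper9 library: exceptional maximal subgroups (Bender--Glauberman, sections 10-12), part 1

Basic set-up: the structure `Exc M p A₀ A` ("`M` is exceptional for `p` with respect to `A₀ ≤ A`"),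
its first consequences, and the transitivity tools (T1), (TT).
-/

set_option autoImplicit false
set_option linter.style.haveILetI false
set_option linter.unusedSectionVars false

open Cfsg
open scoped commutatorElement
open Cfsg.Agent.Lib.Helper10.BG
open Cfsg.Agent.Lib.Lead.Trans (Inv MaxInv)

namespace Cfsg.Agent.Lib.Helper9.BGExc

variable {G : Type*} [Group G]

/-- `A` is a maximal elementary abelian `p`-subgroup of `G`. -/
def MaxEA (p : ℕ) (A : Subgroup G) : Prop :=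
  IsElementaryAbelian p A ∧ ∀ B : Subgroup G, IsElementaryAbelian p B → A ≤ B → B = A

/-- `M` is exceptional for `p` with respect to `A₀ ≤ A`. -/
structure Exc (M : Subgroup G) (p : ℕ) (A₀ A : Subgroup G) : Prop where
  coatom : IsCoatom M
  notσ : p ∉ sigma M
  le₀ : A₀ ≤ A
  le : A ≤ M
  card₀ : Nat.card A₀ = p
  card : Nat.card A = p ^ 2
  elem : IsElementaryAbelian p A
  norm : Subgroup.normalizer (A₀ : Set G) ≤ M

section Basic

variable [Finite G] {p : ℕ} [Fact p.Prime] {M A₀ A : Subgroup G}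

theorem Exc.rank (hG : IsMinSimpleOddOrder G) (h : Exc M p A₀ A) :
    PRankLE p 2 M ∧ ¬ PRankLE p 1 M :=
  (Cfsg.Agent.S1409.result hG M h.coatom p h.notσ A₀ h.card₀ h.norm).1

theorem Exc.not_ideal (hG : IsMinSimpleOddOrder G) (h : Exc M p A₀ A) :
    ¬ IsIdealPrime p G :=
  (Cfsg.Agent.S1409.result hG M h.coatom p h.notσ A₀ h.card₀ h.norm).2.1

theorem Exc.maxEA (hG : IsMinSimpleOddOrder G) (h : Exc M p A₀ A) : MaxEA p A :=
  ⟨h.elem, (Cfsg.Agent.S1408.result hG M h.coatom p h.notσ (h.rank hG).1 (h.rank hG).2).2 A h.le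
    h.elem h.card⟩

theorem Exc.mem_tau2 (hG : IsMinSimpleOddOrder G) (h : Exc M p A₀ A) : p ∈ tau2 M :=
  ⟨Fact.out, h.notσ, (h.rank hG).1, (h.rank hG).2⟩

theorem Exc.centralizer_le (h : Exc M p A₀ A) : Subgroup.centralizer (A : Set G) ≤ M :=
  ((Subgroup.centralizer_le h.le₀).trans (Subgroup.centralizer_le_normalizer _)).trans h.norm

end Basic

section Trans

variable [Finite G] {p : ℕ} [Fact p.Prime] {A : Subgroup G}

omit [Fact p.Prime] in
theorem MaxEA.isPGroup (h : MaxEA p A) : IsPGroup p A :=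
  Cfsg.Agent.Lib.Lead.BGTrans.isPGroup_of_pow_eq_one h.1.2

omit [Finite G] [Fact p.Prime] in
theorem MaxEA.mem_of_mem_centralizer (h : MaxEA p A) {y : G}
    (hy : y ∈ Subgroup.centralizer (A : Set G)) (hyp : y ^ p = 1) : y ∈ A := by
  have h1 := isElementaryAbelian_sup_zpowers h.1 hyp (fun b hb => hy b hb)
  have h2 := h.2 _ h1 le_sup_left
  rw [← h2]
  exact Subgroup.mem_sup_right (Subgroup.mem_zpowers y)

theorem dvd_card_of_pgroup_ne_bot' {X : Subgroup G} (hX : IsPGroup p X) (hX1 : X ≠ ⊥) :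
    p ∣ Nat.card G := by
  obtain ⟨n, hn⟩ := hX.exists_card_eq
  have hn0 : n ≠ 0 := by
    rintro rfl
    rw [pow_zero] at hn
    exact hX1 (Subgroup.card_eq_one.mp hn)
  exact ((dvd_pow_self p hn0).trans (hn ▸ dvd_rfl)).trans (Subgroup.card_subgroup_dvd_card X)

theorem MaxEA.transitivity (hG : IsMinSimpleOddOrder G) (h : MaxEA p A) (hA1 : A ≠ ⊥) :
    TransitivityHypothesis A := by
  refine Cfsg.Agent.Lib.Lead.BGTransHyp.transitivityHypothesis_of_omega hG p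
    (dvd_card_of_pgroup_ne_bot' h.isPGroup hA1) A h.isPGroup hA1 ?_
  intro y hy hyo
  exact h.mem_of_mem_centralizer hy (hyo ▸ pow_orderOf_eq_one y)

/-- `O_{π(A)'}(X) ≤ O_{p'}(X)` when `A` is a nontrivial `p`-group. -/
theorem piCoreOf_le_ppCoreOf (hAp : IsPGroup p A) (hA1 : A ≠ ⊥) (X : Subgroup G) :
    piCoreOf (primesNotDvd (Nat.card A)) X ≤ ppCoreOf p X := by
  apply le_ppCoreOf (Cfsg.Agent.Lib.Lead.BGTrans.piCoreOf_le _ X)
    (Cfsg.Agent.Lib.Lead.BGTrans.le_normalizer_piCoreOf _ X)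
  have h1 := Cfsg.Agent.Lib.Lead.BGTrans.coprime_of_isPiNat_primesNotDvd
    (Cfsg.Agent.Lib.Lead.BGTrans.piCoreOf_isPiNat (primesNotDvd (Nat.card A)) X)
  obtain ⟨n, hn⟩ := hAp.exists_card_eq
  have hn0 : n ≠ 0 := by
    rintro rfl
    rw [pow_zero] at hn
    exact hA1 (Subgroup.card_eq_one.mp hn)
  exact Nat.Coprime.coprime_dvd_right (hn ▸ dvd_pow_self p hn0) h1

/-- (T1): `A`-invariant `p'`-subgroups of a proper subgroup `H ≥ A` lie in `O_{p'}(H)`. -/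
theorem T1 (hA : TransitivityHypothesis A) (hAp : IsPGroup p A) {H L : Subgroup G}
    (hH : H ≠ ⊤) (hAH : A ≤ H) (hLH : L ≤ H) (hL : (Nat.card L).Coprime p)
    (hAL : A ≤ Subgroup.normalizer (L : Set G)) : L ≤ ppCoreOf p H := by
  refine le_trans ?_ (piCoreOf_le_ppCoreOf hAp hA.1 H)
  rw [← hA.2.2 H hH hAH]
  refine le_sSup ⟨hLH, ?_, hAL⟩
  intro r hr hrd
  refine ⟨hr, fun hrA => ?_⟩
  obtain ⟨n, hn⟩ := hAp.exists_card_eq
  rw [hn] at hrA
  have hrp : r = p := (Nat.prime_dvd_prime_iff_eq hr Fact.out).mp (hr.dvd_of_dvd_pow hrA)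
  subst hrp
  exact hr.one_lt.ne' (Nat.eq_one_of_dvd_coprimes hL hrd dvd_rfl)

/-- (TT): an `A`-invariant `q`-subgroup meeting a maximal one nontrivially lies in a
`C_G(A)`-conjugate of it. -/
theorem TT (hG : IsMinSimpleOddOrder G) (hA : TransitivityHypothesis A) {q : ℕ} [Fact q.Prime]
    (hqA : ¬ q ∣ Nat.card A) {Q Y : Subgroup G} (hQ : MaxInv A q Q) (hY : Inv A q Y)
    (hne : Y ⊓ Q ≠ ⊥) :
    ∃ c ∈ Subgroup.centralizer (A : Set G), Y ≤ cj c Q := by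
  obtain ⟨Q₂, hYQ₂, hQ₂max⟩ := Finite.exists_le_maximal (p := Inv A q) hY
  have hQ₂ : MaxInv A q Q₂ :=
    ⟨hQ₂max.prop, fun R hR hle => le_antisymm (hQ₂max.le_of_ge hR hle) hle⟩
  have hD1 : Q ⊓ Q₂ ≠ ⊥ := by
    intro hbot
    apply hne
    rw [eq_bot_iff, ← hbot]
    exact le_inf inf_le_right (inf_le_left.trans hYQ₂)
  have hDq : IsPGroup q (Q ⊓ Q₂ : Subgroup G) := hQ.1.1.to_le inf_le_left
  have hAD : A ≤ Subgroup.normalizer ((Q ⊓ Q₂ : Subgroup G) : Set G) :=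
    Cfsg.Agent.Lib.Lead.Trans.le_normalizer_inf hQ.1.2 hQ₂.1.2
  have hN : Subgroup.normalizer ((Q ⊓ Q₂ : Subgroup G) : Set G) ≠ ⊤ :=
    Cfsg.Agent.Lib.Lead.BGTrans.normalizer_ne_top hG.2 hD1
      (Cfsg.Agent.Lib.Lead.BGTrans.pgroup_ne_top hG.2 hDq)
  have h1 : Subgroup.normalizer ((Q ⊓ Q₂ : Subgroup G) : Set G) ⊓ Q ≠ ⊥ := by
    intro hbot
    apply hD1
    rw [eq_bot_iff, ← hbot]
    exact le_inf Subgroup.le_normalizer inf_le_left
  have h2 : Subgroup.normalizer ((Q ⊓ Q₂ : Subgroup G) : Set G) ⊓ Q₂ ≠ ⊥ := by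
    intro hbot
    apply hD1
    rw [eq_bot_iff, ← hbot]
    exact le_inf Subgroup.le_normalizer inf_le_right
  obtain ⟨k, hk, hkQ⟩ := Cfsg.Agent.Lib.Lead.BGTrans.bg72 hG A hA q hqA hQ hQ₂ _ hN hAD h1 h2
  refine ⟨k, Cfsg.Agent.Lib.Lead.BGTrans.piCoreOf_le _ _ hk, ?_⟩
  rw [hkQ] at hYQ₂
  exact hYQ₂

end Trans

end Cfsg.Agent.Lib.Helper9.BGExc
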