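import Mathlib
import Cfsg.Agent.Lib.Helper9.BGExc1
import Cfsg.Agent.S0033
import Cfsg.Agent.Lib.Helper1.Frattini
import Cfsg.Agent.Lib.Helper9.BGTenB

/-!
# Helper9 library: exceptional maximal subgroups, part 2

Facts about `M_σ`; the TI property (E1), regular subgroups (E2), (E2'), nilpotency of `M_σ` (E3).
-/

set_option autoImplicit false
set_option linter.style.haveILetI false
set_option linter.unusedSectionVars false

open Cfsg
open scoped commutatorElement
open Cfsg.Agent.Lib.Helper10.BG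
open Cfsg.Agent.Lib.Helper1 (CoprimeAct)
open Cfsg.Agent.Lib.Lead.Trans (Inv MaxInv)

namespace Cfsg.Agent.Lib.Helper9.BGExc

variable {G : Type*} [Group G]

section SigmaCore

theorem sigmaCore_le (M : Subgroup G) : sigmaCore M ≤ M := by
  unfold sigmaCore
  exact Subgroup.map_subtype_le _

variable [Finite G]

theorem mem_sigma_of_dvd_card_sigmaCore (hG : IsMinSimpleOddOrder G) {M : Subgroup G}
    (hM : IsCoatom M) {q : ℕ} (hq : q.Prime) (hd : q ∣ Nat.card (sigmaCore M)) : q ∈ sigma M :=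
  (Cfsg.Agent.S1350.result hG M hM).1.2.1 q hq hd

theorem coprime_card_sigmaCore (hG : IsMinSimpleOddOrder G) {M : Subgroup G}
    (hM : IsCoatom M) {p : ℕ} (hp : p.Prime) (hpσ : p ∉ sigma M) :
    (Nat.card (sigmaCore M)).Coprime p := by
  rw [Nat.coprime_comm, Nat.Prime.coprime_iff_not_dvd hp]
  exact fun hd => hpσ (mem_sigma_of_dvd_card_sigmaCore hG hM hp hd)

theorem not_dvd_relIndex_sigmaCore (hG : IsMinSimpleOddOrder G) {M : Subgroup G}
    (hM : IsCoatom M) {q : ℕ} (hq : q.Prime) (hqσ : q ∈ sigma M) :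
    ¬ q ∣ (sigmaCore M).relIndex M :=
  (Cfsg.Agent.S1350.result hG M hM).1.2.2 q hq hqσ

theorem pgroup_le_sigmaCore (hG : IsMinSimpleOddOrder G) {M : Subgroup G}
    (hM : IsCoatom M) {q : ℕ} [Fact q.Prime] (hqσ : q ∈ sigma M) {Q : Subgroup G}
    (hQ : IsPGroup q Q) (hQM : Q ≤ M) : Q ≤ sigmaCore M :=
  pgroup_le_of_not_dvd_relIndex (le_normalizer_sigmaCore M)
    (not_dvd_relIndex_sigmaCore hG hM Fact.out hqσ) hQ hQM

theorem isSylowIn_of_sigmaCore (hG : IsMinSimpleOddOrder G) {M : Subgroup G}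
    (hM : IsCoatom M) {q : ℕ} [Fact q.Prime] (hqσ : q ∈ sigma M) {Q : Subgroup G}
    (hQ : IsSylowIn q Q (sigmaCore M)) : IsSylowIn q Q M ∧ IsSylowIn q Q ⊤ := by
  have h1 : IsSylowIn q Q M :=
    hQ.of_not_dvd_relIndex (sigmaCore_le M) (not_dvd_relIndex_sigmaCore hG hM Fact.out hqσ)
  exact ⟨h1, (sigmaProp_of_mem_sigma hM hqσ).isSylowIn_top h1⟩

end SigmaCore

section E1

variable [Finite G] {p : ℕ} [Fact p.Prime] {M A₀ A : Subgroup G}

theorem Exc.ne_bot (h : Exc M p A₀ A) : A ≠ ⊥ := by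
  intro hbot
  have h1 := h.card
  rw [hbot, Subgroup.card_bot] at h1
  have hp : p.Prime := Fact.out
  have : 1 < p ^ 2 := Nat.one_lt_pow (by norm_num) hp.one_lt
  omega

theorem Exc.isPGroup (h : Exc M p A₀ A) : IsPGroup p A :=
  Cfsg.Agent.Lib.Lead.BGTrans.isPGroup_of_pow_eq_one h.elem.2

theorem Exc.transitivity (hG : IsMinSimpleOddOrder G) (h : Exc M p A₀ A) :
    TransitivityHypothesis A := (h.maxEA hG).transitivity hG h.ne_bot

theorem Exc.ne_top (h : Exc M p A₀ A) : A ≠ ⊤ := by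
  intro htop
  exact h.coatom.1 (top_le_iff.mp (htop ▸ h.le))

theorem Exc.coprimeAct (hG : IsMinSimpleOddOrder G) (h : Exc M p A₀ A) {K : Subgroup G}
    (hAK : A ≤ Subgroup.normalizer (K : Set G)) (hK : (Nat.card K).Coprime p) :
    CoprimeAct A K where
  norm := hAK
  cop := by
    rw [h.card]
    exact Nat.Coprime.pow_left 2 hK.symm
  solv := Or.inl (isSolvable_of_ne_top hG h.ne_top)

theorem Exc.not_dvd_card (h : Exc M p A₀ A) {q : ℕ} (hq : q.Prime) (hqp : q ≠ p) :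
    ¬ q ∣ Nat.card A := by
  rw [h.card]
  intro hd
  exact hqp ((Nat.prime_dvd_prime_iff_eq hq Fact.out).mp (hq.dvd_of_dvd_pow hd))

/-- (E1): the TI property. -/
theorem Exc.E1 (hG : IsMinSimpleOddOrder G) (h : Exc M p A₀ A) {g : G} (hg : g ∉ M)
    (hAg : A ≤ cj g M) : sigmaCore M ⊓ cj g M = ⊥ := by
  have hp : p.Prime := Fact.out
  have hM := h.coatom
  by_contra hD
  have hTH := h.transitivity hG
  have hMσcop := coprime_card_sigmaCore hG hM hp h.notσ
  have hDcop : (Nat.card (sigmaCore M ⊓ cj g M : Subgroup G)).Coprime p :=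
    Nat.Coprime.coprime_dvd_left (Subgroup.card_dvd_of_le inf_le_left) hMσcop
  -- a prime divisor `q` of `|D|`
  have hD1 : Nat.card (sigmaCore M ⊓ cj g M : Subgroup G) ≠ 1 := by
    intro h1
    exact hD (Subgroup.card_eq_one.mp h1)
  obtain ⟨q, hq, hqD⟩ := Nat.exists_prime_and_dvd hD1
  haveI : Fact q.Prime := ⟨hq⟩
  have hqσ : q ∈ sigma M :=
    mem_sigma_of_dvd_card_sigmaCore hG hM hq (hqD.trans (Subgroup.card_dvd_of_le inf_le_left))
  have hqp : q ≠ p := fun hqp => h.notσ (hqp ▸ hqσ)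
  have hAMσ : A ≤ Subgroup.normalizer (sigmaCore M : Set G) := h.le.trans (le_normalizer_sigmaCore M)
  have hAMg : A ≤ Subgroup.normalizer ((cj g M : Subgroup G) : Set G) :=
    hAg.trans Subgroup.le_normalizer
  have hAD : A ≤ Subgroup.normalizer ((sigmaCore M ⊓ cj g M : Subgroup G) : Set G) :=
    Cfsg.Agent.Lib.Lead.Trans.le_normalizer_inf hAMσ hAMg
  have hactD := h.coprimeAct hG hAD hDcop
  obtain ⟨Dq, hDq, hADq⟩ := coprime_exists_isSylowIn hactD q
  have hDq1 : Dq ≠ ⊥ := hDq.ne_bot_of_dvd hqD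
  -- `Q`, an `A`-invariant Sylow `q`-subgroup of `M_σ` containing `D_q`
  have hactσ := h.coprimeAct hG hAMσ hMσcop
  obtain ⟨Q, hQ, hDqQ, hAQ⟩ := coprime_exists_isSylowIn_ge hactσ (hDq.le.trans inf_le_left) hDq.isPGroup hADq
  obtain ⟨hQM, hQG⟩ := isSylowIn_of_sigmaCore hG hM hqσ hQ
  have hQmax : MaxInv A q Q :=
    ⟨⟨hQ.isPGroup, hAQ⟩, fun R hR hle => hQG.eq_of_le le_top hR.1 hle⟩
  -- `D_q ≤ K' = O_{p'}(M^g)`
  have hMg : IsCoatom (cj g M) := isCoatom_map_conj g hM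
  have hqcop : ∀ {Y : Subgroup G}, IsPGroup q Y → (Nat.card Y).Coprime p := by
    intro Y hY
    obtain ⟨n, hn⟩ := hY.exists_card_eq
    rw [hn]
    exact Nat.Coprime.pow_left n ((Nat.coprime_primes hq hp).mpr hqp)
  have hDqK : Dq ≤ ppCoreOf p (cj g M) :=
    T1 hTH h.isPGroup hMg.1 hAg (hDq.le.trans inf_le_right) (hqcop hDq.isPGroup) hADq
  have hAK' : A ≤ Subgroup.normalizer ((ppCoreOf p (cj g M) : Subgroup G) : Set G) :=
    hAg.trans (le_normalizer_ppCoreOf p _)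
  have hactK := h.coprimeAct hG hAK' (coprime_card_ppCoreOf p _)
  obtain ⟨Q₂, hQ₂, hDqQ₂, hAQ₂⟩ := coprime_exists_isSylowIn_ge hactK hDqK hDq.isPGroup hADq
  -- transitivity
  have hne : Q₂ ⊓ Q ≠ ⊥ := by
    intro hbot
    apply hDq1
    rw [eq_bot_iff, ← hbot]
    exact le_inf hDqQ₂ hDqQ
  obtain ⟨c, hc, hQ₂c⟩ := TT hG hTH (h.not_dvd_card hq hqp) hQmax ⟨hQ₂.isPGroup, hAQ₂⟩ hne
  have hcM : c ∈ M := h.centralizer_le hc
  -- `(M_σ)^g ≤ K'`
  have hσgK : cj g (sigmaCore M) ≤ ppCoreOf p (cj g M) := by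
    apply le_ppCoreOf (cj_mono g (sigmaCore_le M)) (le_normalizer_cj (le_normalizer_sigmaCore M))
    rw [card_cj]
    exact hMσcop
  have hcard : Nat.card Q ≤ Nat.card Q₂ := by
    have h1 := hQ₂.card_le ((cj_mono g hQ.le).trans hσgK) (hQ.isPGroup.map _)
    rwa [card_cj] at h1
  have hQ₂eq : Q₂ = cj c Q := by
    apply Subgroup.eq_of_le_of_card_ge hQ₂c
    rw [card_cj]
    exact hcard
  -- now `X = Q^c` lies in `M` and in `M^g`
  have hXM : cj c Q ≤ M := cj_le_of_mem hcM hQM.le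
  have hXg : cj c Q ≤ cj g M := by
    rw [← hQ₂eq]
    exact hQ₂.le.trans (ppCoreOf_le p _)
  have hσP := sigmaProp_of_mem_sigma hM hqσ
  have hX1 : cj c Q ≠ ⊥ := by
    rw [Ne, cj_eq_bot_iff]
    intro hbot
    apply hDq1
    rw [eq_bot_iff, ← hbot]
    exact hDqQ
  obtain ⟨c', hc', m, hm, hgcm⟩ := sigma_conj hG hσP (hQ.isPGroup.map _) hX1 hXM hXg
  have hXsyl : IsSylowIn q (cj c Q) M := hQM.map_conj (Subgroup.le_normalizer hcM)
  have hc'M : c' ∈ M := hσP.2 _ hXsyl (Subgroup.centralizer_le_normalizer _ hc')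
  exact hg (hgcm ▸ M.mul_mem hc'M hm)

end E1

section Fpf

theorem exists_ne_one_of_ne_bot {X : Subgroup G} (h : X ≠ ⊥) : ∃ b ∈ X, b ≠ 1 := by
  rcases Subgroup.bot_or_exists_ne_one X with h1 | h1
  · exact absurd h1 h
  · exact h1

theorem centralizer_zpowers (b : G) :
    Subgroup.centralizer ((Subgroup.zpowers b : Subgroup G) : Set G) = Subgroup.centralizer {b} := by
  rw [Subgroup.zpowers_eq_closure, Subgroup.centralizer_closure]

theorem ne_bot_of_card_prime {p : ℕ} [Fact p.Prime] {X : Subgroup G} (hX : Nat.card X = p) :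
    X ≠ ⊥ := by
  have hp : p.Prime := Fact.out
  intro hbot
  rw [hbot, Subgroup.card_bot] at hX
  exact hp.one_lt.ne hX

/-- a subgroup of prime order is generated by each of its nontrivial elements -/
theorem eq_zpowers_of_card_prime [Finite G] {p : ℕ} [Fact p.Prime] {X : Subgroup G}
    (hX : Nat.card X = p) {b : G} (hbX : b ∈ X) (hb1 : b ≠ 1) : X = Subgroup.zpowers b := by
  have hp : p.Prime := Fact.out
  symm
  apply Subgroup.eq_of_le_of_card_ge (Subgroup.zpowers_le.mpr hbX)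
  rw [hX, Nat.card_zpowers]
  have h1 : orderOf b ∣ p := by
    rw [← hX]
    have := Subgroup.orderOf_dvd_natCard X hbX
    exact this
  rcases (Nat.dvd_prime hp).mp h1 with h | h
  · exact absurd (orderOf_eq_one_iff.mp h) hb1
  · exact h.ge

theorem pow_eq_one_of_card_prime [Finite G] {p : ℕ} {X : Subgroup G}
    (hX : Nat.card X = p) {b : G} (hbX : b ∈ X) : b ^ p = 1 := by
  have h1 : (⟨b, hbX⟩ : X) ^ Nat.card X = 1 := pow_card_eq_one'
  rw [hX] at h1
  exact congrArg Subtype.val h1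

/-- a subgroup normalized by an element `b` of prime order acting fixed-point-freely is
nilpotent (Thompson). -/
theorem isNilpotent_of_fpf [Finite G] {p : ℕ} (hp : p.Prime) {K : Subgroup G} {b : G}
    (hbK : b ∈ Subgroup.normalizer (K : Set G)) (hbp : b ^ p = 1)
    (hfix : K ⊓ Subgroup.centralizer {b} = ⊥) : Group.IsNilpotent K := by
  let φ : K ≃* K := Cfsg.Agent.Lib.Helper1.conjNormalizer K b hbK
  have hφ : ∀ x : K, ((φ x : K) : G) = b * x * b⁻¹ := fun x => rfl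
  have hfpf : MonoidHom.FixedPointFree (φ : K →* K) := by
    intro x hx
    have hx' : b * (x : G) * b⁻¹ = x := congrArg (fun y : K => (y : G)) hx
    have hxb : b * (x : G) = x * b := by
      calc b * (x : G) = b * x * b⁻¹ * b := by group
        _ = x * b := by rw [hx']
    have : (x : G) ∈ K ⊓ Subgroup.centralizer {b} :=
      Subgroup.mem_inf.mpr ⟨x.2, Subgroup.mem_centralizer_singleton_iff.mpr hxb.symm⟩
    rw [hfix, Subgroup.mem_bot] at this
    exact Subtype.ext this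
  have hpow : ∀ n : ℕ, ∀ x : K, (((φ ^ n) x : K) : G) = b ^ n * x * (b ^ n)⁻¹ := by
    intro n
    induction n with
    | zero => intro x; simp
    | succ n ih =>
      intro x
      rw [pow_succ', MulAut.mul_apply, hφ, ih, pow_succ']
      group
  have hφp : φ ^ p = 1 := by
    ext x
    rw [hpow, hbp]
    simp
  rcases (Nat.dvd_prime hp).mp (orderOf_dvd_of_pow_eq_one hφp) with h | h
  · have hφ1 : φ = 1 := orderOf_eq_one_iff.mp h
    haveI : Subsingleton K := by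
      constructor
      intro x y
      have hx : x = 1 := hfpf x (by rw [hφ1]; rfl)
      have hy : y = 1 := hfpf y (by rw [hφ1]; rfl)
      rw [hx, hy]
    infer_instance
  · exact Cfsg.Agent.S0033.result φ hfpf p hp h

end Fpf

section E2

variable [Finite G] {p : ℕ} [Fact p.Prime] {M A₀ A : Subgroup G}

theorem Exc.dvd_card (h : Exc M p A₀ A) : p ∣ Nat.card M :=
  (dvd_pow_self p two_ne_zero).trans (h.card ▸ Subgroup.card_dvd_of_le h.le)

/-- (E2'): for a Sylow `p`-subgroup `P ≥ A` of `M` and `x ∈ N_G(P) \ M`, `M_σ ∩ M^x = 1` and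
`A₀^x` acts regularly on `M_σ`. -/
theorem Exc.E2' (hG : IsMinSimpleOddOrder G) (h : Exc M p A₀ A) {P : Subgroup G}
    (hP : IsSylowIn p P M) (hAP : A ≤ P) {x : G} (hxP : x ∈ Subgroup.normalizer (P : Set G))
    (hxM : x ∉ M) :
    sigmaCore M ⊓ cj x M = ⊥ ∧ sigmaCore M ⊓ Subgroup.centralizer ((cj x A₀ : Subgroup G) : Set G) = ⊥ ∧
      cj x A₀ ≤ P ∧ cj x A ≤ P := by
  have hAx : A ≤ cj x M := by
    refine hAP.trans ?_
    rw [← cj_eq_self_of_mem_normalizer hxP]
    exact cj_mono x hP.le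
  have h1 := h.E1 hG hxM hAx
  have hAxP : cj x A ≤ P := by
    rw [← cj_eq_self_of_mem_normalizer hxP]
    exact cj_mono x hAP
  refine ⟨h1, ?_, (cj_mono x h.le₀).trans hAxP, hAxP⟩
  rw [eq_bot_iff, ← h1]
  refine le_inf inf_le_left (inf_le_right.trans ?_)
  refine (Subgroup.centralizer_le_normalizer _).trans ?_
  rw [normalizer_cj]
  exact cj_mono x h.norm

/-- (E2): there is a regular subgroup of order `p`. -/
theorem Exc.E2 (hG : IsMinSimpleOddOrder G) (h : Exc M p A₀ A) :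
    ∃ A₁ : Subgroup G, A₁ ≤ M ∧ Nat.card A₁ = p ∧
      sigmaCore M ⊓ Subgroup.centralizer (A₁ : Set G) = ⊥ := by
  obtain ⟨P, hP, hAP⟩ := exists_isSylowIn_ge h.le h.isPGroup
  obtain ⟨x, hxP, hxM⟩ := Cfsg.Agent.Lib.Helper9.BG10.exists_normalizer_not_mem h.notσ h.dvd_card hP
  obtain ⟨-, h2, h3, -⟩ := h.E2' hG hP hAP hxP hxM
  exact ⟨cj x A₀, h3.trans hP.le, by rw [card_cj, h.card₀], h2⟩

/-- (E3): `M_σ` is nilpotent. -/
theorem Exc.E3 (hG : IsMinSimpleOddOrder G) (h : Exc M p A₀ A) :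
    Group.IsNilpotent (sigmaCore M) := by
  obtain ⟨A₁, hA₁M, hA₁, hreg⟩ := h.E2 hG
  obtain ⟨b, hb, hb1⟩ := exists_ne_one_of_ne_bot (ne_bot_of_card_prime hA₁)
  have hA₁z := eq_zpowers_of_card_prime hA₁ hb hb1
  rw [hA₁z, centralizer_zpowers] at hreg
  exact isNilpotent_of_fpf Fact.out (le_normalizer_sigmaCore M (hA₁M hb))
    (pow_eq_one_of_card_prime hA₁ hb) hreg

end E2

end Cfsg.Agent.Lib.Helper9.BGExc
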