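import Mathlib
import Cfsg.Prelude
import Cfsg.Agent.Lib.Helper10.BGTen2
import Cfsg.Agent.Lib.Lead.BGTrans
import Cfsg.Agent.S1461

/-!
# Fusion in nilpotent Hall subgroups of a minimal simple group of odd order

Everything is conditional on `p`-length one of all proper subgroups (B & G, Corollary 10.7(a)).
-/

set_option autoImplicit false
set_option linter.style.haveILetI false
set_option linter.unusedSectionVars false

open Cfsg
open Cfsg.Agent.Lib.Helper10.BG

namespace Cfsg.Agent.Lib.Helper9.BG10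

variable {G : Type*} [Group G]

/-- the hypothesis that every proper subgroup has `p`-length one for every prime `p` -/
def AllPLengthOne (G : Type*) [Group G] : Prop :=
  ∀ (q : ℕ), q.Prime → ∀ Z : Subgroup G, Z ≠ ⊤ → PLengthLE q 1 ↥Z

theorem map_conj_le_of_finite [Finite G] {K : Subgroup G} {g : G}
    (h : K.map (MulAut.conj g).toMonoidHom ≤ K) : K.map (MulAut.conj g).toMonoidHom = K := by
  apply Subgroup.eq_of_le_of_card_ge h
  rw [Subgroup.card_map_of_injective (MulAut.conj g).injective]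

theorem map_conj_eq_of_mem_centralizer {K : Subgroup G} {d : G}
    (hd : d ∈ Subgroup.centralizer (K : Set G)) : K.map (MulAut.conj d).toMonoidHom = K := by
  rw [Subgroup.mem_centralizer_iff] at hd
  ext x
  constructor
  · rintro ⟨y, hy, rfl⟩
    have h1 : d * y * d⁻¹ = y := by
      rw [← hd y hy]; group
    show d * y * d⁻¹ ∈ K
    rw [h1]; exact hy
  · intro hx
    refine ⟨x, hx, ?_⟩
    show d * x * d⁻¹ = x
    rw [← hd x hx]; group

theorem map_conj_mul_eq_of_mem_centralizer {W : Subgroup G} {m c : G}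
    (hc : c ∈ Subgroup.centralizer (W : Set G)) :
    W.map (MulAut.conj (m * c)).toMonoidHom = W.map (MulAut.conj m).toMonoidHom := by
  rw [← map_conj_map_conj, map_conj_eq_of_mem_centralizer hc]

/-- Sylow fusion inside a subgroup of `p`-length one. -/
theorem sylow_fusion_of_pLength [Finite G] {p : ℕ} [Fact p.Prime] {X P W : Subgroup G}
    (hpl : PLengthLE p 1 ↥X) (hP : IsSylowIn p P X) {d : G} (hd : d ∈ X) (hW : W ≤ P)
    (hdW : W.map (MulAut.conj d).toMonoidHom ≤ P) :
    ∃ n ∈ X ⊓ Subgroup.normalizer (P : Set G), ∃ c ∈ X ⊓ Subgroup.centralizer (W : Set G),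
      d = n * c := by
  obtain ⟨g, hg, c, hc, hgc⟩ := Cfsg.Agent.S1461.fusion_aux p hpl hP.toSylow
    {y : ↥X | (y : G) ∈ W} ⟨d, hd⟩ (fun y hy => (hP.mem_toSylow y).mpr (hW hy))
    (by
      rintro _ ⟨y, hy, rfl⟩
      apply (hP.mem_toSylow _).mpr
      apply hdW
      exact ⟨(y : G), hy, rfl⟩)
  refine ⟨(g : G), Subgroup.mem_inf.mpr ⟨g.2, ?_⟩, (c : G), Subgroup.mem_inf.mpr ⟨c.2, ?_⟩, ?_⟩
  · apply mem_normalizer_of_map_conj_eq
    apply map_conj_le_of_finite
    rintro _ ⟨y, hy, rfl⟩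
    have h1 : (⟨y, hP.le hy⟩ : ↥X) ∈ ((hP.toSylow : Sylow p ↥X) : Subgroup ↥X) :=
      (hP.mem_toSylow _).mpr hy
    have h2 := (Subgroup.mem_normalizer_iff.mp hg _).mp h1
    exact (hP.mem_toSylow _).mp h2
  · rw [Subgroup.mem_centralizer_iff]
    intro w hw
    have h1 := Subgroup.mem_centralizer_iff.mp hc ⟨w, hP.le (hW hw)⟩ hw
    exact congrArg Subtype.val h1
  · have := congrArg Subtype.val hgc
    exact this.symm

/-- a Sylow subgroup of `G` lies in a maximal subgroup `M` with `p ∈ σ(M)` (in the form `SigmaProp`) -/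
theorem exists_sigmaProp_of_sylow [Finite G] (hG : IsMinSimpleOddOrder G) {p : ℕ} [Fact p.Prime]
    {P : Subgroup G} (hP : IsSylowIn p P ⊤) (hP1 : P ≠ ⊥) :
    ∃ M : Subgroup G, SigmaProp p M ∧ Subgroup.normalizer (P : Set G) ≤ M := by
  have hPtop : P ≠ ⊤ := Cfsg.Agent.Lib.Lead.BGTrans.pgroup_ne_top hG.2 hP.isPGroup
  have hN : Subgroup.normalizer (P : Set G) ≠ ⊤ :=
    Cfsg.Agent.Lib.Lead.BGTrans.normalizer_ne_top hG.2 hP1 hPtop
  obtain ⟨M, hM, hNM⟩ := exists_isCoatom_ge hN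
  refine ⟨M, ⟨hM, ?_⟩, hNM⟩
  intro Q hQ
  have hPM : IsSylowIn p P M := hP.of_le (Subgroup.le_normalizer.trans hNM) le_top
  obtain ⟨x, hxM, hx⟩ := hPM.exists_conj hQ
  intro n hn
  rw [hx] at hn
  have h1 := hNM (conj_mem_normalizer_of_mem_normalizer_map_conj hn)
  have h2 : n = x * (x⁻¹ * n * x) * x⁻¹ := by group
  rw [h2]
  exact mul_mem (mul_mem hxM h1) (inv_mem hxM)

/-- Sylow fusion in every subgroup of a minimal simple group of odd order (B & G, Corollary 10.7(d)
and its analogue for proper subgroups). -/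
theorem sylow_fusion [Finite G] (hG : IsMinSimpleOddOrder G) (hpl : AllPLengthOne G)
    {p : ℕ} [Fact p.Prime] {X P W : Subgroup G} (hP : IsSylowIn p P X) {d : G} (hd : d ∈ X)
    (hW : W ≤ P) (hdW : W.map (MulAut.conj d).toMonoidHom ≤ P) :
    ∃ n ∈ X ⊓ Subgroup.normalizer (P : Set G), ∃ c ∈ X ⊓ Subgroup.centralizer (W : Set G),
      d = n * c := by
  have hpp : p.Prime := Fact.out
  by_cases hX : X = ⊤
  · subst hX
    by_cases hW1 : W = ⊥
    · subst hW1
      refine ⟨1, one_mem _, d, Subgroup.mem_inf.mpr ⟨hd, ?_⟩, (one_mul d).symm⟩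
      rw [Subgroup.mem_centralizer_iff]
      intro w hw
      have : w = 1 := hw
      rw [this]; simp
    · have hP1 : P ≠ ⊥ := by
        rintro rfl
        exact hW1 (le_bot_iff.mp hW)
      obtain ⟨M, hσ, hNM⟩ := exists_sigmaProp_of_sylow hG hP hP1
      have hPM : P ≤ M := Subgroup.le_normalizer.trans hNM
      obtain ⟨m, hm, c, hc, hmc⟩ := sigma_fusion hG hσ (hP.isPGroup.to_le hW) hW1
        (hW.trans hPM) (hdW.trans hPM)
      have hmW : W.map (MulAut.conj m).toMonoidHom ≤ P := by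
        rw [← map_conj_mul_eq_of_mem_centralizer (m := m) hc, ← hmc]
        exact hdW
      have hMtop : M ≠ ⊤ := hσ.1.1
      obtain ⟨n, hn, c', hc', hnc⟩ := sylow_fusion_of_pLength (hpl p hpp M hMtop)
        (hP.of_le hPM le_top) hm hW hmW
      refine ⟨n, Subgroup.mem_inf.mpr ⟨Subgroup.mem_top _, (Subgroup.mem_inf.mp hn).2⟩, c' * c,
        Subgroup.mem_inf.mpr ⟨Subgroup.mem_top _, mul_mem (Subgroup.mem_inf.mp hc').2 hc⟩, ?_⟩
      rw [hmc, hnc, mul_assoc]
  · exact sylow_fusion_of_pLength (hpl p hpp X hX) hP hd hW hdW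

/-- two Sylow subgroups of `X` containing a common subgroup `W` are conjugate under `C_X(W)`. -/
theorem sylow_conj_centralizer [Finite G] (hG : IsMinSimpleOddOrder G) (hpl : AllPLengthOne G)
    {p : ℕ} [Fact p.Prime] {X P P' W : Subgroup G} (hP : IsSylowIn p P X)
    (hP' : IsSylowIn p P' X) (hW : W ≤ P) (hW' : W ≤ P') :
    ∃ c ∈ X ⊓ Subgroup.centralizer (W : Set G), P.map (MulAut.conj c).toMonoidHom = P' := by
  obtain ⟨d, hdX, hd⟩ := hP.exists_conj hP'
  have hdW : W.map (MulAut.conj d).toMonoidHom ≤ P' := by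
    rw [hd]; exact Subgroup.map_mono hW
  obtain ⟨n, hn, c, hc, hnc⟩ := sylow_fusion hG hpl hP' hdX hW' hdW
  refine ⟨c, hc, ?_⟩
  have h1 : c = n⁻¹ * d := by rw [hnc]; group
  rw [h1, ← map_conj_map_conj, ← hd]
  exact Cfsg.Agent.Lib.Helper10.map_conj_eq_of_mem_normalizer P' n⁻¹
    (inv_mem (Subgroup.mem_inf.mp hn).2)

theorem map_conj_le_centralizer_map_conj {A B : Subgroup G} (c : G)
    (h : A ≤ Subgroup.centralizer (B : Set G)) :
    A.map (MulAut.conj c).toMonoidHom ≤
      Subgroup.centralizer ((B.map (MulAut.conj c).toMonoidHom : Subgroup G) : Set G) := by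
  rintro _ ⟨a, ha, rfl⟩
  rw [Subgroup.mem_centralizer_iff]
  rintro _ ⟨b, hb, rfl⟩
  have h1 : b * a = a * b := Subgroup.mem_centralizer_iff.mp (h ha) b hb
  show c * b * c⁻¹ * (c * a * c⁻¹) = c * a * c⁻¹ * (c * b * c⁻¹)
  calc c * b * c⁻¹ * (c * a * c⁻¹) = c * (b * a) * c⁻¹ := by group
    _ = c * (a * b) * c⁻¹ := by rw [h1]
    _ = c * a * c⁻¹ * (c * b * c⁻¹) := by group

/-- Two families of pairwise commuting Sylow subgroups of `X` (for the primes in `π`), the members
of the same prime containing a common subgroup `W q`, are simultaneously conjugate by an element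
of `X` centralizing all the `W q`. -/
theorem hall_family_conj [Finite G] (hG : IsMinSimpleOddOrder G) (hpl : AllPLengthOne G)
    (S' W : ℕ → Subgroup G) (π : Finset ℕ) :
    ∀ (X : Subgroup G) (S : ℕ → Subgroup G),
      (∀ q ∈ π, q.Prime ∧ IsSylowIn q (S q) X ∧ IsSylowIn q (S' q) X ∧ W q ≤ S q ∧ W q ≤ S' q) →
      (∀ q ∈ π, ∀ r ∈ π, q ≠ r → S q ≤ Subgroup.centralizer (S r : Set G)) →
      (∀ q ∈ π, ∀ r ∈ π, q ≠ r → S' q ≤ Subgroup.centralizer (S' r : Set G)) →
      ∃ c ∈ X, (∀ q ∈ π, c ∈ Subgroup.centralizer (W q : Set G)) ∧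
        ∀ q ∈ π, (S q).map (MulAut.conj c).toMonoidHom = S' q := by
  induction π using Finset.induction_on with
  | empty =>
    intro X S _ _ _
    exact ⟨1, one_mem _, fun q hq => absurd hq (Finset.notMem_empty q),
      fun q hq => absurd hq (Finset.notMem_empty q)⟩
  | insert p π' hp ih =>
    intro X S h1 h2 h3
    obtain ⟨hpp, hSp, hSp', hWp, hWp'⟩ := h1 p (Finset.mem_insert_self p π')
    haveI : Fact p.Prime := ⟨hpp⟩
    have hne : ∀ q ∈ π', q ≠ p := fun q hq hqp => hp (hqp ▸ hq)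
    -- first step: the primes in `π'`, inside `C_X(W p)`
    have hS2 : ∀ q ∈ π', S q ≤ X ⊓ Subgroup.centralizer (W p : Set G) := fun q hq =>
      le_inf (h1 q (Finset.mem_insert_of_mem hq)).2.1.le
        ((h2 q (Finset.mem_insert_of_mem hq) p (Finset.mem_insert_self p π') (hne q hq)).trans
          (centralizer_anti hWp))
    have hS2' : ∀ q ∈ π', S' q ≤ X ⊓ Subgroup.centralizer (W p : Set G) := fun q hq =>
      le_inf (h1 q (Finset.mem_insert_of_mem hq)).2.2.1.le
        ((h3 q (Finset.mem_insert_of_mem hq) p (Finset.mem_insert_self p π') (hne q hq)).trans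
          (centralizer_anti hWp'))
    obtain ⟨c₂, hc₂X, hc₂W, hc₂S⟩ := ih (X ⊓ Subgroup.centralizer (W p : Set G)) S
      (fun q hq => by
        obtain ⟨a1, a2, a3, a4, a5⟩ := h1 q (Finset.mem_insert_of_mem hq)
        exact ⟨a1, a2.of_le (hS2 q hq) inf_le_left, a3.of_le (hS2' q hq) inf_le_left, a4, a5⟩)
      (fun q hq r hr hqr => h2 q (Finset.mem_insert_of_mem hq) r (Finset.mem_insert_of_mem hr) hqr)
      (fun q hq r hr hqr => h3 q (Finset.mem_insert_of_mem hq) r (Finset.mem_insert_of_mem hr) hqr)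
    obtain ⟨hc₂X', hc₂Wp⟩ := Subgroup.mem_inf.mp hc₂X
    -- second step: the prime `p`, inside the centralizer of the `S' q`, `q ∈ π'`
    have hP₁ : IsSylowIn p ((S p).map (MulAut.conj c₂).toMonoidHom) X :=
      hSp.map_conj (Subgroup.le_normalizer hc₂X')
    have hP₁D : (S p).map (MulAut.conj c₂).toMonoidHom ≤
        X ⊓ ⨅ q ∈ π', Subgroup.centralizer (S' q : Set G) := by
      refine le_inf hP₁.le (le_iInf₂ fun q hq => ?_)
      rw [← hc₂S q hq]
      exact map_conj_le_centralizer_map_conj c₂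
        (h2 p (Finset.mem_insert_self p π') q (Finset.mem_insert_of_mem hq) (hne q hq).symm)
    have hP'D : S' p ≤ X ⊓ ⨅ q ∈ π', Subgroup.centralizer (S' q : Set G) := by
      refine le_inf hSp'.le (le_iInf₂ fun q hq => ?_)
      exact h3 p (Finset.mem_insert_self p π') q (Finset.mem_insert_of_mem hq) (hne q hq).symm
    have hWP₁ : W p ≤ (S p).map (MulAut.conj c₂).toMonoidHom := by
      have h4 := Subgroup.map_mono (f := (MulAut.conj c₂).toMonoidHom) hWp
      rwa [map_conj_eq_of_mem_centralizer hc₂Wp] at h4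
    obtain ⟨d, hd, hdP⟩ := sylow_conj_centralizer hG hpl (hP₁.of_le hP₁D inf_le_left)
      (hSp'.of_le hP'D inf_le_left) hWP₁ hWp'
    obtain ⟨hdD, hdW⟩ := Subgroup.mem_inf.mp hd
    obtain ⟨hdX, hdC⟩ := Subgroup.mem_inf.mp hdD
    have hdC' : ∀ q ∈ π', d ∈ Subgroup.centralizer (S' q : Set G) := by
      intro q hq
      simp only [Subgroup.mem_iInf] at hdC
      exact hdC q hq
    refine ⟨d * c₂, mul_mem hdX hc₂X', ?_, ?_⟩
    · intro q hq
      rcases Finset.mem_insert.mp hq with rfl | hq'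
      · exact mul_mem hdW hc₂Wp
      · exact mul_mem (centralizer_anti (h1 q hq).2.2.2.2 (hdC' q hq')) (hc₂W q hq')
    · intro q hq
      rw [← map_conj_map_conj]
      rcases Finset.mem_insert.mp hq with rfl | hq'
      · exact hdP
      · rw [hc₂S q hq']
        exact map_conj_eq_of_mem_centralizer (hdC' q hq')

/-- a subgroup of `Z` containing a Sylow `q`-subgroup of `Z` for every prime `q` is `Z`. -/
theorem eq_of_forall_sylow_le [Finite G] {Z' Z : Subgroup G} (hle : Z' ≤ Z)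
    (h : ∀ q : ℕ, q.Prime → q ∣ Nat.card Z → ∃ Q : Subgroup G, Q ≤ Z' ∧ IsSylowIn q Q Z) :
    Z' = Z := by
  by_contra hne
  have h1 : Z'.relIndex Z ≠ 1 := by
    intro h1
    exact hne (le_antisymm hle (Subgroup.relIndex_eq_one.mp h1))
  obtain ⟨q, hq, hqd⟩ := Nat.exists_prime_and_dvd h1
  obtain ⟨Q, hQZ', hQ⟩ := h q hq (hqd.trans (Subgroup.relIndex_dvd_card Z' Z))
  haveI : Fact q.Prime := ⟨hq⟩
  have h2 : ¬ q ∣ (Q.subgroupOf Z).index := hQ.toSylow.not_dvd_index
  exact h2 (hqd.trans (Subgroup.relIndex_dvd_of_le_left Z hQZ'))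

/-- in a nilpotent subgroup `H`, every `q`-subgroup lies in `O_q(H)`. -/
theorem pgroup_le_pCoreOf_of_nilpotent [Finite G] {H Q : Subgroup G} (hH : Group.IsNilpotent H)
    {q : ℕ} (hq : q.Prime) (hQH : Q ≤ H) (hQ : IsPGroup q Q) : Q ≤ pCoreOf q H :=
  pgroup_le_pCoreOf_of_le_fittingOf hq (hQH.trans (le_fittingOf le_rfl Subgroup.le_normalizer hH)) hQ

theorem isSylowIn_pCoreOf_inf [Finite G] {H Z : Subgroup G} (hH : Group.IsNilpotent H)
    {q : ℕ} (hq : q.Prime) (hZH : Z ≤ H) : IsSylowIn q (pCoreOf q H ⊓ Z) Z :=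
  ⟨inf_le_right, (isPGroup_pCoreOf q H).to_le inf_le_left, fun _ hQZ hQ hle =>
    le_antisymm (le_inf (pgroup_le_pCoreOf_of_nilpotent hH hq (hQZ.trans hZH) hQ) hQZ) hle⟩

theorem isSylowIn_pCoreOf [Finite G] {H : Subgroup G} (hH : Group.IsNilpotent H)
    {q : ℕ} (hq : q.Prime) : IsSylowIn q (pCoreOf q H) H := by
  have := isSylowIn_pCoreOf_inf hH hq (le_refl H)
  rwa [inf_of_le_left (pCoreOf_le q H)] at this

theorem isSylowIn_top_pCoreOf [Finite G] {H : Subgroup G} (hH : Group.IsNilpotent H)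
    (hHall : (Nat.card H).Coprime H.index) {q : ℕ} (hq : q.Prime) (hqH : q ∣ Nat.card H) :
    IsSylowIn q (pCoreOf q H) ⊤ := by
  haveI : Fact q.Prime := ⟨hq⟩
  have h1 : ¬ q ∣ ((pCoreOf q H).subgroupOf H).index := (isSylowIn_pCoreOf hH hq).toSylow.not_dvd_index
  have h2 : ¬ q ∣ H.index := by
    intro h
    have := Nat.dvd_gcd hqH h
    rw [hHall.gcd_eq_one] at this
    exact hq.one_lt.ne' (Nat.dvd_one.mp this)
  have h3 : ¬ q ∣ (pCoreOf q H).index := by
    rw [← Subgroup.relIndex_mul_index (pCoreOf_le q H)]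
    intro h
    rcases (Nat.Prime.dvd_mul hq).mp h with h | h
    · exact h1 h
    · exact h2 h
  have h4 := isSylowIn_top_of_sylow ((isPGroup_pCoreOf q H).toSylow h3)
  rwa [IsPGroup.toSylow_coe] at h4

/-- **Fusion in nilpotent Hall subgroups** (conditional on `p`-length one of proper subgroups). -/
theorem nilpotent_hall_fusion [Finite G] (hG : IsMinSimpleOddOrder G) (hpl : AllPLengthOne G)
    (H : Subgroup G) (hHn : Group.IsNilpotent H) (hHall : (Nat.card H).Coprime H.index) :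
    ∀ x ∈ H, ∀ g : G, g * x * g⁻¹ ∈ H →
      ∃ n ∈ Subgroup.normalizer (H : Set G), n * x * n⁻¹ = g * x * g⁻¹ := by
  intro x hx g hgx
  have hcardH : Nat.card H ≠ 0 := Nat.card_pos.ne'
  have hmemπ : ∀ q, q ∈ (Nat.card H).primeFactors ↔ q.Prime ∧ q ∣ Nat.card H := by
    intro q
    rw [Nat.mem_primeFactors]
    exact ⟨fun h => ⟨h.1, h.2.1⟩, fun h => ⟨h.1, h.2, hcardH⟩⟩
  have hZH : Subgroup.zpowers (g * x * g⁻¹) ≤ H := Subgroup.zpowers_le.mpr hgx
  -- the `q`-parts of `⟨g x g⁻¹⟩` lie in the conjugate by `g` of `O_q(H)`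
  have hWS : ∀ q, q.Prime → pCoreOf q H ⊓ Subgroup.zpowers (g * x * g⁻¹) ≤
      (pCoreOf q H).map (MulAut.conj g).toMonoidHom := by
    intro q hq
    have h1 : (pCoreOf q H ⊓ Subgroup.zpowers (g * x * g⁻¹)).map (MulAut.conj g⁻¹).toMonoidHom ≤
        pCoreOf q H := by
      apply pgroup_le_pCoreOf_of_nilpotent hHn hq
      · refine (Subgroup.map_mono inf_le_right).trans ?_
        rw [MonoidHom.map_zpowers, Subgroup.zpowers_le]
        have : (MulAut.conj g⁻¹).toMonoidHom (g * x * g⁻¹) = x := by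
          show g⁻¹ * (g * x * g⁻¹) * g⁻¹⁻¹ = x
          group
        rw [this]; exact hx
      · exact ((isPGroup_pCoreOf q H).to_le inf_le_left).map _
    have h2 := Subgroup.map_mono (f := (MulAut.conj g).toMonoidHom) h1
    rwa [map_conj_map_conj_inv] at h2
  obtain ⟨c, -, hcW, hcS⟩ := hall_family_conj hG hpl (fun q => pCoreOf q H)
    (fun q => pCoreOf q H ⊓ Subgroup.zpowers (g * x * g⁻¹)) (Nat.card H).primeFactors ⊤
    (fun q => (pCoreOf q H).map (MulAut.conj g).toMonoidHom)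
    (fun q hq => by
      obtain ⟨hqp, hqd⟩ := (hmemπ q).mp hq
      haveI : Fact q.Prime := ⟨hqp⟩
      have h1 := isSylowIn_top_pCoreOf hHn hHall hqp hqd
      exact ⟨hqp, h1.map_conj (Subgroup.le_normalizer (Subgroup.mem_top g)), h1, hWS q hqp,
        inf_le_left⟩)
    (fun q hq r hr hqr => by
      apply map_conj_le_centralizer_map_conj
      intro a ha
      rw [Subgroup.mem_centralizer_iff]
      intro b hb
      exact commute_pCoreOf ((hmemπ r).mp hr).1 ((hmemπ q).mp hq).1 hqr.symm H hb ha)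
    (fun q hq r hr hqr => by
      intro a ha
      rw [Subgroup.mem_centralizer_iff]
      intro b hb
      exact commute_pCoreOf ((hmemπ r).mp hr).1 ((hmemπ q).mp hq).1 hqr.symm H hb ha)
  -- `c` centralizes `g x g⁻¹`
  have hcy : g * x * g⁻¹ ∈ Subgroup.centralizer ({c} : Set G) := by
    have h1 : Subgroup.zpowers (g * x * g⁻¹) ⊓ Subgroup.centralizer ({c} : Set G) =
        Subgroup.zpowers (g * x * g⁻¹) := by
      apply eq_of_forall_sylow_le inf_le_left
      intro q hq hqd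
      have hqH : q ∣ Nat.card H := hqd.trans (Subgroup.card_dvd_of_le hZH)
      refine ⟨pCoreOf q H ⊓ Subgroup.zpowers (g * x * g⁻¹), le_inf inf_le_right ?_,
        isSylowIn_pCoreOf_inf hHn hq hZH⟩
      intro w hw
      rw [Subgroup.mem_centralizer_iff]
      intro c' hc'
      rw [Set.mem_singleton_iff] at hc'
      subst hc'
      exact (Subgroup.mem_centralizer_iff.mp (hcW q ((hmemπ q).mpr ⟨hq, hqH⟩)) w hw).symm
    have h2 : g * x * g⁻¹ ∈ Subgroup.zpowers (g * x * g⁻¹) ⊓ Subgroup.centralizer ({c} : Set G) := by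
      rw [h1]; exact Subgroup.mem_zpowers _
    exact (Subgroup.mem_inf.mp h2).2
  have hcy' : c * (g * x * g⁻¹) = g * x * g⁻¹ * c :=
    Subgroup.mem_centralizer_iff.mp hcy c (Set.mem_singleton c)
  refine ⟨c * g, ?_, ?_⟩
  · -- `c g` normalizes `H`
    have h1 : H ⊓ H.map (MulAut.conj (c * g)).toMonoidHom = H := by
      apply eq_of_forall_sylow_le inf_le_left
      intro q hq hqd
      refine ⟨pCoreOf q H, le_inf (pCoreOf_le q H) ?_, isSylowIn_pCoreOf hHn hq⟩
      have h2 : ((pCoreOf q H).map (MulAut.conj g).toMonoidHom).map (MulAut.conj c).toMonoidHom =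
          pCoreOf q H := hcS q ((hmemπ q).mpr ⟨hq, hqd⟩)
      rw [map_conj_map_conj] at h2
      rw [← h2]
      exact Subgroup.map_mono (pCoreOf_le q H)
    have h2 : H ≤ H.map (MulAut.conj (c * g)).toMonoidHom := by
      intro u hu
      rw [← h1] at hu
      exact (Subgroup.mem_inf.mp hu).2
    apply mem_normalizer_of_map_conj_eq
    symm
    apply Subgroup.eq_of_le_of_card_ge h2
    rw [Subgroup.card_map_of_injective (MulAut.conj (c * g)).injective]
  · calc c * g * x * (c * g)⁻¹ = c * (g * x * g⁻¹) * c⁻¹ := by group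
      _ = g * x * g⁻¹ * c * c⁻¹ := by rw [hcy']
      _ = g * x * g⁻¹ := by group

end Cfsg.Agent.Lib.Helper9.BG10
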