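import Mathlib
import Cfsg.Prelude
import Cfsg.Agent.Lib.Helper10.BGTen2
import Cfsg.Agent.Lib.Helper10.BGTwelve
import Cfsg.Agent.Lib.Helper10.PLength
import Cfsg.Agent.Lib.Helper20.PLen
import Cfsg.Agent.Lib.Helper1.Hall
import Cfsg.Agent.S1405
import Cfsg.Agent.S1407
import Cfsg.Agent.S1450
import Cfsg.Agent.S1459

/-!
# B & G, Corollary 10.7(a): proper subgroups have `p`-length one, assuming B & G Theorem 6.5

The hypothesis `Thm65 G` below is the statement of B & G, Theorem 6.5 for the subgroups of `G`.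
-/

set_option autoImplicit false
set_option linter.style.haveILetI false
set_option linter.unusedSectionVars false

open Cfsg
open Cfsg.Agent.Lib.Helper10.BG

namespace Cfsg.Agent.Lib.Helper9.BG10

variable {G : Type*} [Group G]

/-- B & G, Theorem 6.5, for the (solvable, odd order) subgroups of `G`. -/
def Thm65 (G : Type*) [Group G] : Prop :=
  ∀ (M : Subgroup G), Group.IsSolvable ↥M → Odd (Nat.card ↥M) →
    ∀ (H R R₀ : Subgroup ↥M), H.Normal → (Nat.card H).Coprime H.index →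
      Subgroup.IsComplement' H R → R₀ ≤ R → (Nat.card R₀).Prime →
      IsZGroup ↥(H ⊓ Subgroup.centralizer (R₀ : Set ↥M)) →
      ∀ (p : ℕ), p.Prime → PLengthLE p 1 ↥⁅H, R⁆

/-- a `q`-subgroup of a group of order prime to `q` is trivial -/
theorem eq_bot_of_isPGroup_of_not_dvd' {X : Type*} [Group X] [Finite X] {q : ℕ} (hq : q.Prime)
    {Q : Subgroup X} (hQ : IsPGroup q Q) (h : ¬ q ∣ Nat.card Q) : Q = ⊥ := by
  haveI : Fact q.Prime := ⟨hq⟩
  obtain ⟨k, hk⟩ := hQ.exists_card_eq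
  rcases Nat.eq_zero_or_pos k with rfl | hk0
  · rw [pow_zero] at hk
    exact Subgroup.card_eq_one.mp hk
  · exfalso
    apply h
    rw [hk]
    exact dvd_pow_self q hk0.ne'

/-- some prime divisor of `#M` lies outside `σ(M)`. -/
theorem exists_prime_not_mem_sigma [Finite G] (hG : IsMinSimpleOddOrder G) {M : Subgroup G}
    (hM : IsCoatom M) : ∃ q : ℕ, q.Prime ∧ q ∣ Nat.card M ∧ q ∉ sigma M := by
  by_contra hcon
  push Not at hcon
  haveI : Group.IsSolvable ↥M := isSolvable_of_ne_top hG hM.1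
  haveI : Nontrivial ↥M := by
    rw [Subgroup.nontrivial_iff_ne_bot]
    exact ne_bot_of_isCoatom hG hM
  have hlt := Group.IsSolvable.commutator_lt_top_of_nontrivial ↥M
  apply hlt.ne
  rw [eq_top_iff]
  apply le_of_forall_sylow_le
  intro q hq
  haveI : Fact q.Prime := ⟨hq⟩
  obtain ⟨S⟩ := (inferInstance : Nonempty (Sylow q ↥M))
  refine ⟨(S : Subgroup ↥M), isSylowIn_top_of_sylow S, ?_⟩
  by_cases hqM : q ∣ Nat.card M
  · exact sylow_le_commutator_of_mem_sigma hG hM (hcon q hq hqM) S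
  · have h1 : (S : Subgroup ↥M) = ⊥ := by
      apply eq_bot_of_isPGroup_of_not_dvd' hq S.2
      intro h
      exact hqM (h.trans (Subgroup.card_subgroup_dvd_card _))
    rw [h1]
    exact bot_le

/-- B & G, Corollary 10.7(a) for maximal subgroups. -/
theorem pLengthLE_one_of_isCoatom [Finite G] (hG : IsMinSimpleOddOrder G) (h65 : Thm65 G)
    {M : Subgroup G} (hM : IsCoatom M) (p : ℕ) [Fact p.Prime] : PLengthLE p 1 ↥M := by
  have hpp : p.Prime := Fact.out
  haveI hsolv : Group.IsSolvable ↥M := isSolvable_of_ne_top hG hM.1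
  have hodd : Odd (Nat.card ↥M) := odd_card_subgroup hG M
  by_cases hpM : p ∣ Nat.card ↥M
  swap
  · apply Cfsg.Agent.Lib.Helper20.PLen.pLengthLE_mono (Nat.zero_le 1)
    rw [Cfsg.Agent.Lib.Helper20.PLen.pLengthLE_zero_iff]
    exact ((Nat.Prime.coprime_iff_not_dvd hpp).mpr hpM).symm
  by_cases hr : PRankLE p 2 ↥M
  · exact Cfsg.Agent.Lib.Helper10.pLengthLE_one_of_index_coprime p
      (Cfsg.Agent.S1450.result hodd p hpM hr).2.2.2.2.2
  -- now `p ∈ α(M)`
  have hpα : p ∈ alpha M := ⟨hpp, hr⟩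
  obtain ⟨⟨-, hα1, hα2⟩, -⟩ := Cfsg.Agent.S1405.result hG M hM
  set N : Subgroup ↥M := piCore (alpha M) ↥M with hN
  have hcardN : Nat.card (alphaCore M) = Nat.card N :=
    Subgroup.card_map_of_injective M.subtype_injective
  have hidxN : (alphaCore M).relIndex M = N.index := by
    show ((N.map M.subtype).subgroupOf M).index = N.index
    rw [Subgroup.subgroupOf, Subgroup.comap_map_eq_self_of_injective M.subtype_injective]
  have hN1 : ∀ q : ℕ, q.Prime → q ∣ Nat.card N → q ∈ alpha M := by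
    intro q hq hqd
    exact hα1 q hq (hcardN ▸ hqd)
  have hN2 : ∀ q : ℕ, q.Prime → q ∈ alpha M → ¬ q ∣ N.index := by
    intro q hq hqα
    rw [← hidxN]
    exact hα2 q hq hqα
  have hHall : (Nat.card N).Coprime N.index :=
    Nat.coprime_of_dvd fun q hq hqd => hN2 q hq (hN1 q hq hqd)
  have hpidx : ¬ p ∣ N.index := hN2 p hpp hpα
  have hpN : p ∣ Nat.card N := by
    have h1 : p ∣ N.index * Nat.card N := by
      rw [Subgroup.index_mul_card]; exact hpM
    rcases (Nat.Prime.dvd_mul hpp).mp h1 with h | h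
    · exact absurd h hpidx
    · exact h
  have hMα : alphaCore M ≠ ⊥ := by
    intro h
    have h1 : Nat.card (alphaCore M) = 1 := by rw [h]; exact Subgroup.card_bot
    rw [hcardN] at h1
    rw [h1] at hpN
    exact hpp.one_lt.ne' (Nat.dvd_one.mp hpN)
  -- `N ≤ M'`
  have hNcomm : N ≤ commutator ↥M := by
    apply le_of_forall_sylow_le
    intro q hq
    haveI : Fact q.Prime := ⟨hq⟩
    obtain ⟨Q, hQ⟩ := exists_isSylowIn q N
    refine ⟨Q, hQ, ?_⟩
    by_cases hqα : q ∈ alpha M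
    · obtain ⟨S, hQS⟩ := hQ.isPGroup.exists_le_sylow
      exact hQS.trans (sylow_le_commutator_of_mem_sigma hG hM (alpha_subset_sigma hG hM hqα) S)
    · have h1 : Q = ⊥ := by
        apply eq_bot_of_isPGroup_of_not_dvd' hq hQ.isPGroup
        intro h
        exact hqα (hN1 q hq (h.trans (Subgroup.card_dvd_of_le hQ.le)))
      rw [h1]
      exact bot_le
  -- a prime `q ∉ σ(M)` and the element `x`
  obtain ⟨q, hq, hqM, hqσ⟩ := exists_prime_not_mem_sigma hG hM
  haveI : Fact q.Prime := ⟨hq⟩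
  obtain ⟨Q⟩ := (inferInstance : Nonempty (Sylow q ↥M))
  obtain ⟨x, hxQ, hxq, hxZ, -⟩ := Cfsg.Agent.S1407.result hG M hM hMα q hqM hqσ Q
  obtain ⟨x', hx', rfl⟩ := hxQ
  obtain ⟨x'', -, rfl⟩ := hx'
  have hx'Q : ((x'' : ↥(Q : Subgroup ↥M)) : ↥M) ∈ (Q : Subgroup ↥M) := x''.2
  -- a complement of `N` containing `Q`
  have hqN : ¬ q ∣ Nat.card N := fun h => hqσ (alpha_subset_sigma hG hM (hN1 q hq h))
  have hQN : (Nat.card (Q : Subgroup ↥M)).Coprime (Nat.card N) := by
    obtain ⟨k, hk⟩ := Q.2.exists_card_eq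
    rw [hk]
    exact Nat.Coprime.pow_left k ((Nat.Prime.coprime_iff_not_dvd hq).mpr hqN)
  obtain ⟨E, hEcard, hQE⟩ := Cfsg.Agent.Lib.Helper1.hall_dominance (G := ↥M) N.index (Nat.card N)
    (Subgroup.index_mul_card N).symm hHall.symm (Q : Subgroup ↥M) hQN
  have hcompl : Subgroup.IsComplement' N E := by
    apply Subgroup.isComplement'_of_coprime
    · rw [hEcard, mul_comm]; exact Subgroup.index_mul_card N
    · rw [hEcard]; exact hHall
  -- `R₀ = ⟨x⟩`
  have hR₀E : Subgroup.zpowers ((x'' : ↥(Q : Subgroup ↥M)) : ↥M) ≤ E :=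
    Subgroup.zpowers_le.mpr (hQE hx'Q)
  have hR₀card : (Nat.card (Subgroup.zpowers ((x'' : ↥(Q : Subgroup ↥M)) : ↥M))).Prime := by
    rw [Nat.card_zpowers]
    have h1 : orderOf (((x'' : ↥(Q : Subgroup ↥M)) : ↥M) : G) =
        orderOf ((x'' : ↥(Q : Subgroup ↥M)) : ↥M) := Subgroup.orderOf_coe _
    have h2 : orderOf (((x'' : ↥(Q : Subgroup ↥M)) : ↥M) : G) = q := hxq
    rw [← h1, h2]
    exact hq
  have hZ : IsZGroup ↥(N ⊓ Subgroup.centralizer
      ((Subgroup.zpowers ((x'' : ↥(Q : Subgroup ↥M)) : ↥M) : Subgroup ↥M) : Set ↥M)) := by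
    haveI := hxZ
    let φ : ↥(N ⊓ Subgroup.centralizer
        ((Subgroup.zpowers ((x'' : ↥(Q : Subgroup ↥M)) : ↥M) : Subgroup ↥M) : Set ↥M)) →*
        ↥(alphaCore M ⊓ Subgroup.centralizer
          ({(M.subtype ((Q : Subgroup ↥M).subtype x''))} : Set G)) :=
      { toFun := fun y => ⟨((y : ↥M) : G), by
          obtain ⟨hy1, hy2⟩ := Subgroup.mem_inf.mp y.2
          refine Subgroup.mem_inf.mpr ⟨⟨(y : ↥M), hy1, rfl⟩, ?_⟩
          rw [Subgroup.mem_centralizer_iff]
          intro z hz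
          rw [Set.mem_singleton_iff] at hz
          subst hz
          have h3 := Subgroup.mem_centralizer_iff.mp hy2 _ (Subgroup.mem_zpowers _)
          exact congrArg Subtype.val h3⟩
        map_one' := rfl
        map_mul' := fun _ _ => rfl }
    apply IsZGroup.of_injective (f := φ)
    intro a b hab
    have h4 := congrArg Subtype.val hab
    exact Subtype.ext (Subtype.ext h4)
  have h1 := h65 M hsolv hodd N E _ inferInstance hHall hcompl hR₀E hR₀card hZ p hpp
  have h2 : N = ⁅N, E⁆ :=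
    ((Cfsg.Agent.S1459.result (G := ↥M)).1 N E inferInstance hHall hcompl hNcomm).1
  rw [← h2] at h1
  -- the quotient is a `p'`-group
  have h3 : PLengthLE p 0 (↥M ⧸ N) := by
    rw [Cfsg.Agent.Lib.Helper20.PLen.pLengthLE_zero_iff]
    have : Nat.card (↥M ⧸ N) = N.index := rfl
    rw [this]
    exact ((Nat.Prime.coprime_iff_not_dvd hpp).mpr hpidx).symm
  exact Cfsg.Agent.Lib.Helper20.PLen.pLengthLE_of_extension N h1 h3

/-- B & G, Corollary 10.7(a): every proper subgroup has `p`-length one (given Theorem 6.5). -/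
theorem allPLengthOne_of_thm65 [Finite G] (hG : IsMinSimpleOddOrder G) (h65 : Thm65 G)
    (p : ℕ) [Fact p.Prime] (H : Subgroup G) (hH : H ≠ ⊤) : PLengthLE p 1 ↥H := by
  obtain ⟨M, hM, hHM⟩ := exists_isCoatom_ge hH
  have h1 := pLengthLE_one_of_isCoatom hG h65 hM p
  have h2 := Cfsg.Agent.Lib.Helper20.PLen.pLengthLE_subgroup (H.subgroupOf M) h1
  exact Cfsg.Agent.Lib.Helper20.PLen.pLengthLE_of_mulEquiv (Subgroup.subgroupOfEquivOfLe hHM) h2

end Cfsg.Agent.Lib.Helper9.BG10
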