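import Mathlib
import Cfsg.Agent.Lib.Helper9.BGExc2
import Cfsg.Agent.Lib.Helper9.BGHallFus
import Cfsg.Agent.Lib.Helper13.BGBeta
import Cfsg.Agent.S1414

/-!
# Helper9 library: exceptional maximal subgroups, part 3

(E4): `M_σ ∩ H_σ = 1` for `H ∈ ℳ(A)`, `H ≠ M`.
-/

set_option autoImplicit false
set_option linter.style.haveILetI false
set_option linter.unusedSectionVars false

open Cfsg
open scoped commutatorElement
open Cfsg.Agent.Lib.Helper10.BG
open Cfsg.Agent.Lib.Helper1 (CoprimeAct)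
open Cfsg.Agent.Lib.Lead.Trans (Inv MaxInv)

namespace Cfsg.Agent.Lib.Helper9.BGExc

variable {G : Type*} [Group G]

section NPC

variable [Finite G]

/-- if `K` has a normal `p`-complement then every `q`-subgroup of `K`, `q ≠ p`, lies in
`O_{p'}(K)`. -/
theorem pgroup_le_ppCoreOf_of_hasNormalPComplement {p q : ℕ} [Fact p.Prime] [Fact q.Prime]
    (hqp : q ≠ p) {K X : Subgroup G} (h : HasNormalPComplement p ↥K) (hXK : X ≤ K)
    (hX : IsPGroup q X) : X ≤ ppCoreOf p K := by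
  have hp : p.Prime := Fact.out
  have hq : q.Prime := Fact.out
  obtain ⟨P, N, hN, hc⟩ := h
  have hNidx : N.index = Nat.card (P : Subgroup K) := hc.symm.index_eq_card
  have hNcard : Nat.card N = (P : Subgroup K).index := hc.index_eq_card.symm
  have h1 : X.subgroupOf K ≤ N := by
    apply Cfsg.Agent.Lib.Helper13.BGBeta.le_of_coprime_index
    rw [hNidx]
    have hXs : IsPGroup q (X.subgroupOf K) := hX.comap_subtype
    obtain ⟨n, hn⟩ := hXs.exists_card_eq
    obtain ⟨m, hm⟩ := P.2.exists_card_eq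
    rw [hn, hm]
    exact Nat.Coprime.pow n m ((Nat.coprime_primes hq hp).mpr hqp)
  have h2 : N ≤ pPrimeCore p K := by
    apply Cfsg.Agent.Lib.Helper1.le_pPrimeCore hN
    rw [hNcard, Nat.coprime_comm, Nat.Prime.coprime_iff_not_dvd hp]
    exact P.not_dvd_index
  intro x hx
  exact ⟨⟨x, hXK hx⟩, h2 (h1 (Subgroup.mem_subgroupOf.mpr hx)), rfl⟩

end NPC

section E4

variable [Finite G] {p : ℕ} [Fact p.Prime] {M A₀ A : Subgroup G}

/-- (E4): a maximal subgroup `H ≥ A` with `M_σ ∩ H_σ ≠ 1` is `M`. -/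
theorem Exc.E4 (hG : IsMinSimpleOddOrder G) (h : Exc M p A₀ A) {H : Subgroup G}
    (hH : IsCoatom H) (hAH : A ≤ H) (hne : sigmaCore M ⊓ sigmaCore H ≠ ⊥) : H = M := by
  have hp : p.Prime := Fact.out
  have hM := h.coatom
  have hTH := h.transitivity hG
  have hnil := h.E3 hG
  have hMσcop := coprime_card_sigmaCore hG hM hp h.notσ
  have hDcop : (Nat.card (sigmaCore M ⊓ sigmaCore H : Subgroup G)).Coprime p :=
    Nat.Coprime.coprime_dvd_left (Subgroup.card_dvd_of_le inf_le_left) hMσcop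
  have hD1 : Nat.card (sigmaCore M ⊓ sigmaCore H : Subgroup G) ≠ 1 :=
    fun h1 => hne (Subgroup.card_eq_one.mp h1)
  obtain ⟨q, hq, hqD⟩ := Nat.exists_prime_and_dvd hD1
  haveI : Fact q.Prime := ⟨hq⟩
  have hqσM : q ∈ sigma M :=
    mem_sigma_of_dvd_card_sigmaCore hG hM hq (hqD.trans (Subgroup.card_dvd_of_le inf_le_left))
  have hqσH : q ∈ sigma H :=
    mem_sigma_of_dvd_card_sigmaCore hG hH hq (hqD.trans (Subgroup.card_dvd_of_le inf_le_right))
  have hqp : q ≠ p := fun hqp => h.notσ (hqp ▸ hqσM)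
  have hAMσ : A ≤ Subgroup.normalizer (sigmaCore M : Set G) := h.le.trans (le_normalizer_sigmaCore M)
  have hAHσ : A ≤ Subgroup.normalizer (sigmaCore H : Set G) := hAH.trans (le_normalizer_sigmaCore H)
  have hAD : A ≤ Subgroup.normalizer ((sigmaCore M ⊓ sigmaCore H : Subgroup G) : Set G) :=
    Cfsg.Agent.Lib.Lead.Trans.le_normalizer_inf hAMσ hAHσ
  have hactD := h.coprimeAct hG hAD hDcop
  obtain ⟨X, hX, hAX⟩ := coprime_exists_isSylowIn hactD q
  have hX1 : X ≠ ⊥ := hX.ne_bot_of_dvd hqD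
  -- `Q = O_q(M_σ)`
  have hQ : IsSylowIn q (pCoreOf q (sigmaCore M)) (sigmaCore M) :=
    Cfsg.Agent.Lib.Helper9.BG10.isSylowIn_pCoreOf hnil hq
  have hMQ : M ≤ Subgroup.normalizer ((pCoreOf q (sigmaCore M) : Subgroup G) : Set G) :=
    le_normalizer_pCoreOf_of_le (le_normalizer_sigmaCore M)
  have hXQ : X ≤ pCoreOf q (sigmaCore M) :=
    Cfsg.Agent.Lib.Helper9.BG10.pgroup_le_pCoreOf_of_nilpotent hnil hq (hX.le.trans inf_le_left)
      hX.isPGroup
  obtain ⟨hQM, hQG⟩ := isSylowIn_of_sigmaCore hG hM hqσM hQ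
  have hQmax : MaxInv A q (pCoreOf q (sigmaCore M)) :=
    ⟨⟨hQ.isPGroup, h.le.trans hMQ⟩, fun R hR hle => hQG.eq_of_le le_top hR.1 hle⟩
  -- `T = O_{p'}(H_σ)`
  have hpH : p ∣ Nat.card H :=
    (dvd_pow_self p two_ne_zero).trans (h.card ▸ Subgroup.card_dvd_of_le hAH)
  have hpβ : p ∉ beta H := fun hβ => h.not_ideal hG hβ.2
  have hnpc : HasNormalPComplement p ↥(sigmaCore H) :=
    ((Cfsg.Agent.S1414.result hG H hH).2.2.2.2 p hp hpH hpβ).2.1
  have hqT : ∀ {Y : Subgroup G}, Y ≤ sigmaCore H → IsPGroup q Y → Y ≤ ppCoreOf p (sigmaCore H) :=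
    fun hY hYq => pgroup_le_ppCoreOf_of_hasNormalPComplement hqp hnpc hY hYq
  have hAT : A ≤ Subgroup.normalizer ((ppCoreOf p (sigmaCore H) : Subgroup G) : Set G) :=
    hAHσ.trans (normalizer_le_normalizer_ppCoreOf p _)
  have hactT := h.coprimeAct hG hAT (coprime_card_ppCoreOf p _)
  obtain ⟨QH, hQH, hXQH, hAQH⟩ := coprime_exists_isSylowIn_ge hactT
    (hqT (hX.le.trans inf_le_right) hX.isPGroup) hX.isPGroup hAX
  have hQHσ : IsSylowIn q QH (sigmaCore H) := by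
    refine ⟨hQH.le.trans (ppCoreOf_le p _), hQH.isPGroup, ?_⟩
    intro R hR hRq hle
    exact hQH.eq_of_le (hqT hR hRq) hRq hle
  obtain ⟨hQHH, hQHG⟩ := isSylowIn_of_sigmaCore hG hH hqσH hQHσ
  -- transitivity
  have hne' : QH ⊓ pCoreOf q (sigmaCore M) ≠ ⊥ := by
    intro hbot
    apply hX1
    rw [eq_bot_iff, ← hbot]
    exact le_inf hXQH hXQ
  obtain ⟨c, hc, hQHc⟩ := TT hG hTH (h.not_dvd_card hq hqp) hQmax ⟨hQH.isPGroup, hAQH⟩ hne'
  have hcM : c ∈ M := h.centralizer_le hc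
  rw [cj_eq_self_of_mem_normalizer (hMQ hcM)] at hQHc
  have hQeq : pCoreOf q (sigmaCore M) = QH := hQHG.eq_of_le le_top hQ.isPGroup hQHc
  -- conclusion
  have hσH := sigmaProp_of_mem_sigma hH hqσH
  have hMH : M ≤ H := by
    refine le_trans ?_ (hσH.2 _ hQHH)
    rw [← hQeq]
    exact hMQ
  rcases eq_or_lt_of_le hMH with h1 | h1
  · exact h1.symm
  · exact absurd (hM.2 H h1) hH.1

end E4

end Cfsg.Agent.Lib.Helper9.BGExc
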