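import Mathlib
import Cfsg.Agent.H5.Card
import Cfsg.Agent.Lib.Helper1.Coprime
import Cfsg.Agent.Lib.Helper1.CoprimeSylow
import Cfsg.Agent.Lib.Helper12.Generation
import Cfsg.Agent.Lib.Helper9.CompAct9

/-!
# Wielandt's fixed point order formula, part 1 (helper9)

`A` elementary abelian of order `p ^ 2` acting on a `p'`-group `K`, `B i` the subgroups of order
`p` of `A` (`N` of them).  Then `|K| |C_K(A)| ^ N = |C_K(A)| ∏ i, |C_K(B i)|`.

This file: the section analysis and the formula for nilpotent `K`.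
-/

set_option autoImplicit false
set_option linter.unusedSectionVars false
set_option linter.unusedVariables false

namespace Cfsg.Agent.Lib.Helper9.Wielandt

open Cfsg Subgroup
open Cfsg.Agent.Lib.Helper1
open Cfsg.Agent.Lib.Helper9.CompAct

variable {G : Type*} [Group G]

/-- `|C_K(B)|` -/
noncomputable def cfix (K B : Subgroup G) : ℕ :=
  Nat.card ↥(K ⊓ centralizer (B : Set G))

theorem cfix_pos [Finite G] (K B : Subgroup G) : 0 < cfix K B := Nat.card_pos

/-- the data: an abelian group `A` of exponent `p`, noncyclic, with a family `Bs` of subgroups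
playing the role of the subgroups of order `p`. -/
structure E2 (p : ℕ) (A : Subgroup G) {ι : Type*} (Bs : ι → Subgroup G) : Prop where
  comm : ∀ x ∈ A, ∀ y ∈ A, x * y = y * x
  exp : ∀ x ∈ A, x ^ p = 1
  noncyc : p < Nat.card A
  le : ∀ i, Bs i ≤ A
  cover : ∀ a ∈ A, a ≠ 1 → ∃ i, a ∈ Bs i
  gen : ∀ i, ∀ a ∈ Bs i, a ≠ 1 → Bs i ≤ zpowers a
  sup : ∀ i j, i ≠ j → Bs i ⊔ Bs j = A

/-- the order formula -/
def WF (A K : Subgroup G) {ι : Type*} [Fintype ι] (Bs : ι → Subgroup G) : Prop :=
  Nat.card K * cfix K A ^ Fintype.card ι = cfix K A * ∏ i, cfix K (Bs i)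

section Inv

/-- `A` abelian, `B ≤ A`: `A` normalizes `L ⊓ C(B)` when it normalizes `L`. -/
theorem le_normalizer_inf_centralizer {A B L : Subgroup G}
    (hcomm : ∀ x ∈ A, ∀ y ∈ A, x * y = y * x) (hBA : B ≤ A)
    (hAL : A ≤ normalizer (L : Set G)) :
    A ≤ normalizer ((L ⊓ centralizer (B : Set G) : Subgroup G) : Set G) := by
  apply le_normalizer_of_forall_conj_mem
  intro a ha x hx
  obtain ⟨hxL, hxC⟩ := Subgroup.mem_inf.mp hx
  refine Subgroup.mem_inf.mpr ⟨(Subgroup.mem_normalizer_iff.mp (hAL ha) x).mp hxL, ?_⟩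
  rw [Subgroup.mem_centralizer_iff] at hxC ⊢
  intro b hb
  have h1 : b * x = x * b := hxC b hb
  have h2 : a * b = b * a := hcomm a ha b (hBA hb)
  calc b * (a * x * a⁻¹) = (b * a) * x * a⁻¹ := by group
    _ = (a * b) * x * a⁻¹ := by rw [h2]
    _ = a * (b * x) * a⁻¹ := by group
    _ = a * (x * b) * a⁻¹ := by rw [h1]
    _ = a * x * (b * a⁻¹) := by group
    _ = a * x * (a⁻¹ * b) := by
        have : b * a⁻¹ = a⁻¹ * b := by
          have := congrArg (fun z => a⁻¹ * z * a⁻¹) h2
          simpa [mul_assoc] using this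
        rw [this]
    _ = a * x * a⁻¹ * b := by group

theorem le_normalizer_sup {A U V : Subgroup G} (hU : A ≤ normalizer (U : Set G))
    (hV : A ≤ normalizer (V : Set G)) : A ≤ normalizer ((U ⊔ V : Subgroup G) : Set G) := by
  intro a ha
  apply mem_normalizer_of_cj_eq
  change (U ⊔ V).map (MulAut.conj a).toMonoidHom = U ⊔ V
  rw [Subgroup.map_sup]
  have h1 : cj a U = U := cj_eq_of_mem_normalizer (hU ha)
  have h2 : cj a V = V := cj_eq_of_mem_normalizer (hV ha)
  change cj a U ⊔ cj a V = U ⊔ V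
  rw [h1, h2]

end Inv

/-- a minimal `A`-invariant section `L / M`. -/
structure MinSec (A M L : Subgroup G) : Prop where
  le : M ≤ L
  ne : M ≠ L
  normal : L ≤ normalizer (M : Set G)
  invM : A ≤ normalizer (M : Set G)
  invL : A ≤ normalizer (L : Set G)
  min : ∀ X : Subgroup G, M ≤ X → X ≤ L → A ≤ normalizer (X : Set G) → X = M ∨ X = L

section Section

variable [Finite G] {p : ℕ} [hp : Fact p.Prime] {A M L : Subgroup G}
  {ι : Type*} {Bs : ι → Subgroup G}

theorem MinSec.dichotomy (h : MinSec A M L) (hcomm : ∀ x ∈ A, ∀ y ∈ A, x * y = y * x)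
    {B : Subgroup G} (hBA : B ≤ A) :
    L ⊓ centralizer (B : Set G) ≤ M ∨ (L ⊓ centralizer (B : Set G)) ⊔ M = L := by
  have hinv : A ≤ normalizer (((L ⊓ centralizer (B : Set G)) ⊔ M : Subgroup G) : Set G) :=
    le_normalizer_sup (le_normalizer_inf_centralizer hcomm hBA h.invL) h.invM
  rcases h.min _ le_sup_right (sup_le inf_le_left h.le) hinv with h1 | h1
  · left
    rw [← h1]
    exact le_sup_left
  · right
    exact h1

theorem MinSec.cfix_of_le (h : MinSec A M L) {B : Subgroup G}
    (hB : L ⊓ centralizer (B : Set G) ≤ M) : cfix L B = cfix M B := by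
  unfold cfix
  have : L ⊓ centralizer (B : Set G) = M ⊓ centralizer (B : Set G) :=
    le_antisymm (le_inf hB inf_le_right) (inf_le_inf_right _ h.le)
  rw [this]

theorem MinSec.cfix_of_sup_eq (h : MinSec A M L) {B : Subgroup G}
    (hB : (L ⊓ centralizer (B : Set G)) ⊔ M = L) :
    cfix L B * Nat.card M = cfix M B * Nat.card L := by
  unfold cfix
  have h1 := Cfsg.H5.card_sup_mul_card_inf (H := L ⊓ centralizer (B : Set G)) (N := M)
    (inf_le_left.trans h.normal)
  rw [hB] at h1
  have h2 : L ⊓ centralizer (B : Set G) ⊓ M = M ⊓ centralizer (B : Set G) := by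
    rw [inf_comm, ← inf_assoc, inf_eq_left.mpr h.le]
  rw [h2] at h1
  rw [← h1]; ring

/-- some `B i` does not act fixed-point-freely on `L / M`. -/
theorem MinSec.exists_sup_eq (h : MinSec A M L) (hE : E2 p A Bs) (hpL : ¬ p ∣ Nat.card L) :
    ∃ i, (L ⊓ centralizer (Bs i : Set G)) ⊔ M = L := by
  by_contra hcon
  push Not at hcon
  have hall : ∀ i, L ⊓ centralizer (Bs i : Set G) ≤ M := by
    intro i
    rcases h.dichotomy hE.comm (hE.le i) with h1 | h1
    · exact h1
    · exact absurd h1 (hcon i)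
  have hgen : L ≤ Cfsg.Agent.Lib.Helper12.genC A L :=
    Cfsg.Agent.Lib.Helper12.le_genC_of_card hE.comm hE.exp h.invL hpL hE.noncyc
  apply h.ne
  apply le_antisymm h.le
  refine hgen.trans ?_
  unfold Cfsg.Agent.Lib.Helper12.genC
  apply iSup_le
  rintro ⟨a, haA, ha1⟩
  obtain ⟨i, hi⟩ := hE.cover a haA ha1
  refine le_trans ?_ (hall i)
  apply inf_le_inf_left
  intro x hx
  rw [Subgroup.mem_centralizer_iff] at hx ⊢
  intro b hb
  have hb' : b ∈ zpowers a := hE.gen i a hi ha1 hb
  obtain ⟨k, rfl⟩ := hb'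
  have h2 : Commute a x := hx a rfl
  exact (h2.zpow_left k).eq

theorem mem_centralizer_of_sup {B₁ B₂ A : Subgroup G} (hsup : B₁ ⊔ B₂ = A) {x : G}
    (h1 : x ∈ centralizer (B₁ : Set G)) (h2 : x ∈ centralizer (B₂ : Set G)) :
    x ∈ centralizer (A : Set G) := by
  have hle : A ≤ centralizer ({x} : Set G) := by
    rw [← hsup]
    apply sup_le
    · intro b hb
      rw [Subgroup.mem_centralizer_iff]
      intro y hy
      rw [Set.mem_singleton_iff] at hy
      subst hy
      exact ((Subgroup.mem_centralizer_iff.mp h1) b hb).symm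
    · intro b hb
      rw [Subgroup.mem_centralizer_iff]
      intro y hy
      rw [Set.mem_singleton_iff] at hy
      subst hy
      exact ((Subgroup.mem_centralizer_iff.mp h2) b hb).symm
  rw [Subgroup.mem_centralizer_iff]
  intro a ha
  exact ((Subgroup.mem_centralizer_iff.mp (hle ha)) x rfl).symm

/-- if two distinct `B i` have fixed points covering `L / M`, so has `A`. -/
theorem MinSec.sup_eq_of_two (h : MinSec A M L) (hE : E2 p A Bs) (hpL : ¬ p ∣ Nat.card L)
    {i j : ι} (hij : i ≠ j) (hi : (L ⊓ centralizer (Bs i : Set G)) ⊔ M = L)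
    (hj : (L ⊓ centralizer (Bs j : Set G)) ⊔ M = L) :
    (L ⊓ centralizer (A : Set G)) ⊔ M = L := by
  apply le_antisymm (sup_le inf_le_left h.le)
  intro x hx
  set Li := L ⊓ centralizer (Bs i : Set G) with hLi
  set Mi := M ⊓ centralizer (Bs i : Set G) with hMi
  have hnormi : Li ≤ normalizer (M : Set G) := inf_le_left.trans h.normal
  have hnormj : L ⊓ centralizer (Bs j : Set G) ≤ normalizer (M : Set G) :=
    inf_le_left.trans h.normal
  -- `x = m c` with `c ∈ C_L(B i)`
  have hx' : x ∈ M ⊔ Li := by rw [sup_comm, hi]; exact hx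
  obtain ⟨m, hm, c, hc, rfl⟩ := (Cfsg.Agent.Lib.Helper9.mem_sup_of_le_normalizer hnormi).mp hx'
  have hcL : c ∈ L := hc.1
  -- `c = m' c'` with `c' ∈ C_L(B j)`
  have hc' : c ∈ M ⊔ (L ⊓ centralizer (Bs j : Set G)) := by rw [sup_comm, hj]; exact hcL
  obtain ⟨m', hm', c', hc', hcc⟩ :=
    (Cfsg.Agent.Lib.Helper9.mem_sup_of_le_normalizer hnormj).mp hc'
  have hcomj : ∀ x ∈ Bs j, ∀ y ∈ Bs j, x * y = y * x :=
    fun x hx y hy => hE.comm x (hE.le j hx) y (hE.le j hy)
  have hexpj : ∀ x ∈ Bs j, x ^ p = 1 := fun x hx => hE.exp x (hE.le j hx)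
  have hALi : A ≤ normalizer (Li : Set G) :=
    le_normalizer_inf_centralizer hE.comm (hE.le i) h.invL
  have hAMi : A ≤ normalizer (Mi : Set G) :=
    le_normalizer_inf_centralizer hE.comm (hE.le i) h.invM
  have hpLi : ¬ p ∣ Nat.card Li := fun hd =>
    hpL (hd.trans (Subgroup.card_dvd_of_le inf_le_left))
  have hcop : CoprimeAct (Bs j) Li :=
    Cfsg.Agent.Lib.Helper12.coprimeAct_of_exponent hcomj hexpj ((hE.le j).trans hALi) hpLi
  have hMiLi : Mi ≤ Li := inf_le_inf_right _ h.le
  have hfix : ∀ b ∈ Bs j, c⁻¹ * (b * c * b⁻¹) ∈ Mi := by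
    intro b hb
    have hbA : b ∈ A := hE.le j hb
    refine Subgroup.mem_inf.mpr ⟨?_, ?_⟩
    · -- in `M`
      have hbc' : b * c' = c' * b :=
        (Subgroup.mem_centralizer_iff.mp hc'.2) b hb
      have h1 : b * m' * b⁻¹ ∈ M := (Subgroup.mem_normalizer_iff.mp (h.invM hbA) m').mp hm'
      have h2 : m'⁻¹ * (b * m' * b⁻¹) ∈ M := M.mul_mem (M.inv_mem hm') h1
      have h3 : c'⁻¹ * (m'⁻¹ * (b * m' * b⁻¹)) * c'⁻¹⁻¹ ∈ M :=
        (Subgroup.mem_normalizer_iff.mp (h.normal (L.inv_mem hc'.1)) _).mp h2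
      have e : c⁻¹ * (b * c * b⁻¹) = c'⁻¹ * (m'⁻¹ * (b * m' * b⁻¹)) * c'⁻¹⁻¹ := by
        rw [← hcc]
        have hb2 : b * c' * b⁻¹ = c' := by rw [hbc']; group
        calc (m' * c')⁻¹ * (b * (m' * c') * b⁻¹)
            = c'⁻¹ * m'⁻¹ * (b * m' * b⁻¹) * (b * c' * b⁻¹) := by group
          _ = c'⁻¹ * m'⁻¹ * (b * m' * b⁻¹) * c' := by rw [hb2]
          _ = c'⁻¹ * (m'⁻¹ * (b * m' * b⁻¹)) * c'⁻¹⁻¹ := by group
      rw [e]; exact h3
    · -- in `C(B i)`
      have h1 : b * c * b⁻¹ ∈ Li := (Subgroup.mem_normalizer_iff.mp (hALi hbA) c).mp hc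
      exact Subgroup.mul_mem _ (Subgroup.inv_mem _ hc.2) h1.2
  obtain ⟨u, hu, hcu⟩ := hcop.exists_mul_mem_centralizer hMiLi ((hE.le j).trans hAMi) c hc hfix
  have hcuA : c * u ∈ L ⊓ centralizer (A : Set G) := by
    obtain ⟨h1, h2⟩ := Subgroup.mem_inf.mp hcu
    exact Subgroup.mem_inf.mpr ⟨h1.1, mem_centralizer_of_sup (hE.sup i j hij) h1.2 h2⟩
  have e : m * c = m * ((c * u) * u⁻¹) := by group
  rw [e]
  have h5 : (c * u) * u⁻¹ ∈ (L ⊓ centralizer (A : Set G)) ⊔ M :=
    Subgroup.mul_mem _ (Subgroup.mem_sup_left hcuA) (Subgroup.mem_sup_right (M.inv_mem hu.1))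
  exact Subgroup.mul_mem _ (Subgroup.mem_sup_right hm) h5

theorem MinSec.sup_eq_of_le (h : MinSec A M L)
    (hA : (L ⊓ centralizer (A : Set G)) ⊔ M = L) {B : Subgroup G} (hBA : B ≤ A) :
    (L ⊓ centralizer (B : Set G)) ⊔ M = L := by
  apply le_antisymm (sup_le inf_le_left h.le)
  have h1 : L ⊓ centralizer (A : Set G) ⊔ M ≤ L ⊓ centralizer (B : Set G) ⊔ M :=
    sup_le_sup_right (inf_le_inf_left _ (Subgroup.centralizer_le hBA)) _
  rw [hA] at h1
  exact h1


/-- the induction step: the formula passes from `M` to `L` for a minimal section. -/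
theorem MinSec.wf_step [Fintype ι] [DecidableEq ι] (h : MinSec A M L) (hE : E2 p A Bs)
    (hpL : ¬ p ∣ Nat.card L) (hM : WF A M Bs) : WF A L Bs := by
  unfold WF at hM ⊢
  set N := Fintype.card ι with hN
  set m := Nat.card M with hm
  set l := Nat.card L with hl
  have hmpos : 0 < m := Nat.card_pos
  by_cases hA : (L ⊓ centralizer (A : Set G)) ⊔ M = L
  · -- case (i)
    have ha : cfix L A * m = cfix M A * l := h.cfix_of_sup_eq hA
    have hf : ∀ i, cfix L (Bs i) * m = cfix M (Bs i) * l :=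
      fun i => h.cfix_of_sup_eq (h.sup_eq_of_le hA (hE.le i))
    set a := cfix L A
    set a' := cfix M A
    set F := ∏ i, cfix L (Bs i) with hF
    set Gp := ∏ i, cfix M (Bs i) with hGp
    have hFG : F * m ^ N = Gp * l ^ N := by
      have e1 : F * m ^ N = ∏ i, (cfix L (Bs i) * m) := by
        rw [Finset.prod_mul_distrib, Finset.prod_const, Finset.card_univ]
      have e3 : ∏ i, (cfix M (Bs i) * l) = Gp * l ^ N := by
        rw [Finset.prod_mul_distrib, Finset.prod_const, Finset.card_univ]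
      rw [e1, ← e3]
      exact Finset.prod_congr rfl (fun i _ => hf i)
    have key : (l * a ^ N) * (m ^ N * m) = (a * F) * (m ^ N * m) := by
      have h1 : a ^ N * m ^ N = a' ^ N * l ^ N := by rw [← mul_pow, ← mul_pow, ha]
      calc (l * a ^ N) * (m ^ N * m) = l * m * (a ^ N * m ^ N) := by ring
        _ = l * m * (a' ^ N * l ^ N) := by rw [h1]
        _ = l ^ N * l * (m * a' ^ N) := by ring
        _ = l ^ N * l * (a' * Gp) := by rw [hM]
        _ = (a' * l) * (Gp * l ^ N) := by ring
        _ = (a * m) * (F * m ^ N) := by rw [← ha, hFG]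
        _ = (a * F) * (m ^ N * m) := by ring
    exact Nat.eq_of_mul_eq_mul_right (Nat.mul_pos (pow_pos hmpos N) hmpos) key
  · -- case (ii)
    have hAle : L ⊓ centralizer (A : Set G) ≤ M := by
      rcases h.dichotomy hE.comm (le_refl A) with h1 | h1
      · exact h1
      · exact absurd h1 hA
    have ha : cfix L A = cfix M A := h.cfix_of_le hAle
    obtain ⟨i₀, hi₀⟩ := h.exists_sup_eq hE hpL
    have hf0 : cfix L (Bs i₀) * m = cfix M (Bs i₀) * l := h.cfix_of_sup_eq hi₀
    have hf : ∀ i, i ≠ i₀ → cfix L (Bs i) = cfix M (Bs i) := by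
      intro i hi
      rcases h.dichotomy hE.comm (hE.le i) with h1 | h1
      · exact h.cfix_of_le h1
      · exact absurd (h.sup_eq_of_two hE hpL hi h1 hi₀) hA
    rw [ha]
    set a' := cfix M A
    have e1 : (∏ i, cfix L (Bs i)) =
        (∏ i ∈ Finset.univ.erase i₀, cfix L (Bs i)) * cfix L (Bs i₀) :=
      (Finset.prod_erase_mul _ _ (Finset.mem_univ i₀)).symm
    have e2 : (∏ i, cfix M (Bs i)) =
        (∏ i ∈ Finset.univ.erase i₀, cfix M (Bs i)) * cfix M (Bs i₀) :=
      (Finset.prod_erase_mul _ _ (Finset.mem_univ i₀)).symm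
    have e3 : (∏ i ∈ Finset.univ.erase i₀, cfix L (Bs i)) =
        (∏ i ∈ Finset.univ.erase i₀, cfix M (Bs i)) :=
      Finset.prod_congr rfl (fun i hi => hf i (Finset.ne_of_mem_erase hi))
    have key : (l * a' ^ N) * m = (a' * ∏ i, cfix L (Bs i)) * m := by
      rw [e1, e3]
      calc (l * a' ^ N) * m = (m * a' ^ N) * l := by ring
        _ = (a' * ∏ i, cfix M (Bs i)) * l := by rw [hM]
        _ = a' * ((∏ i ∈ Finset.univ.erase i₀, cfix M (Bs i)) * (cfix M (Bs i₀) * l)) := by
            rw [e2]; ring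
        _ = a' * ((∏ i ∈ Finset.univ.erase i₀, cfix M (Bs i)) * (cfix L (Bs i₀) * m)) := by
            rw [hf0]
        _ = (a' * ((∏ i ∈ Finset.univ.erase i₀, cfix M (Bs i)) * cfix L (Bs i₀))) * m := by
            ring
    exact Nat.eq_of_mul_eq_mul_right hmpos key

theorem cfix_bot (B : Subgroup G) : cfix (⊥ : Subgroup G) B = 1 := by
  unfold cfix
  rw [bot_inf_eq, Subgroup.card_bot]

/-- **Wielandt's formula** for `r`-groups. -/
theorem wf_of_isPGroup [Fintype ι] [DecidableEq ι] (hE : E2 p A Bs) {r : ℕ} [hr : Fact r.Prime] :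
    ∀ (n : ℕ) (L : Subgroup G), Nat.card L = n → IsPGroup r L →
      A ≤ normalizer (L : Set G) → ¬ p ∣ Nat.card L → WF A L Bs := by
  intro n
  induction n using Nat.strong_induction_on with
  | _ n ih =>
    intro L hn hL hAL hpL
    by_cases hbot : L = ⊥
    · subst hbot
      unfold WF
      simp only [cfix_bot, Subgroup.card_bot, one_pow, mul_one, Finset.prod_const_one]
    · -- a maximal proper invariant subgroup
      let S : Set (Subgroup G) := {X | X ≤ L ∧ X ≠ L ∧ A ≤ normalizer (X : Set G)}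
      have hSne : Nonempty S := ⟨⟨⊥, bot_le, fun h => hbot h.symm, by
        intro a _
        rw [Subgroup.mem_normalizer_iff]
        intro x
        simp only [Subgroup.mem_bot]
        constructor
        · rintro rfl; group
        · intro hx
          have : x = a⁻¹ * (a * x * a⁻¹) * a := by group
          rw [this, hx]; group⟩⟩
      obtain ⟨⟨M, hML, hMne, hAM⟩, hmax⟩ := Finite.exists_max (fun X : S => Nat.card (X : Subgroup G))
      have hmin : ∀ X : Subgroup G, M ≤ X → X ≤ L → A ≤ normalizer (X : Set G) →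
          X = M ∨ X = L := by
        intro X hMX hXL hAX
        by_cases hXL' : X = L
        · exact Or.inr hXL'
        · left
          have := hmax ⟨X, hXL, hXL', hAX⟩
          exact (Subgroup.eq_of_le_of_card_ge hMX this).symm
      -- `M` is normal in `L`
      have hnorm : L ≤ normalizer (M : Set G) := by
        have hinv : A ≤ normalizer ((normalizer (M : Set G) ⊓ L : Subgroup G) : Set G) :=
          CoprimeAct.le_normalizer_normalizer_inf hAM hAL
        rcases hmin _ (le_inf Subgroup.le_normalizer hML) inf_le_right hinv with h1 | h1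
        · exfalso
          have : Finite ↥L := inferInstance
          have hnil : Group.IsNilpotent ↥L := hL.isNilpotent
          have hnc := Group.normalizerCondition_of_isNilpotent (G := ↥L)
          have hlt : M.subgroupOf L < ⊤ := by
            rw [lt_top_iff_ne_top]
            intro htop
            apply hMne
            apply le_antisymm hML
            intro x hx
            have : (⟨x, hx⟩ : ↥L) ∈ M.subgroupOf L := by rw [htop]; trivial
            exact Subgroup.mem_subgroupOf.mp this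
          have h2 := hnc _ hlt
          rw [← Subgroup.subgroupOf_normalizer_eq hML] at h2
          obtain ⟨x, hx1, hx2⟩ := SetLike.exists_of_lt h2
          rw [Subgroup.mem_subgroupOf] at hx1 hx2
          apply hx2
          rw [← h1]
          exact Subgroup.mem_inf.mpr ⟨hx1, x.2⟩
        · rw [← h1]
          exact inf_le_left
      have hsec : MinSec A M L := ⟨hML, hMne, hnorm, hAM, hAL, hmin⟩
      have hlt : Nat.card M < Nat.card L := by
        rcases (Subgroup.card_le_of_le hML).lt_or_eq with h1 | h1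
        · exact h1
        · exact absurd (Subgroup.eq_of_le_of_card_ge hML h1.ge) hMne
      have hpM : ¬ p ∣ Nat.card M := fun hd => hpL (hd.trans (Subgroup.card_dvd_of_le hML))
      have hM := ih (Nat.card M) (hn ▸ hlt) M rfl (hL.to_le hML) hAM hpM
      exact hsec.wf_step hE hpL hM

end Section

end Cfsg.Agent.Lib.Helper9.Wielandt
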