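import Mathlib
import Cfsg.Agent.Lib.Helper9.Wielandt1
import Cfsg.Agent.Lib.Helper18.ProductFormula

/-!
# Wielandt's fixed point order formula, part 2 (helper9)

Sylow reduction and the general formula.
-/

set_option autoImplicit false
set_option linter.unusedSectionVars false
set_option linter.unusedVariables false

namespace Cfsg.Agent.Lib.Helper9.Wielandt

open Cfsg Subgroup
open Cfsg.Agent.Lib.Helper1
open Cfsg.Agent.Lib.Helper9.CompAct
open scoped Pointwise

variable {G : Type*} [Group G] [Finite G] {p : ℕ} [hp : Fact p.Prime] {A K : Subgroup G}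

/-- fixed points of `B ≤ A` in an `A`-invariant Sylow `r`-subgroup of `K` form a Sylow
`r`-subgroup of `C_K(B)`. -/
theorem cfix_sylSet (hcomm : ∀ x ∈ A, ∀ y ∈ A, x * y = y * x) (hexp : ∀ x ∈ A, x ^ p = 1)
    (hAK : A ≤ normalizer (K : Set G)) (hpK : ¬ p ∣ Nat.card K) {r : ℕ} [hr : Fact r.Prime]
    (R : SylSet r K) (hR : A ≤ normalizer (R.1 : Set G)) {B : Subgroup G} (hBA : B ≤ A) :
    cfix R.1 B = r ^ (cfix K B).factorization r := by
  have hK : CoprimeAct A K := Cfsg.Agent.Lib.Helper12.coprimeAct_of_exponent hcomm hexp hAK hpK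
  have hKB : CoprimeAct A (K ⊓ centralizer (B : Set G)) :=
    hK.mono inf_le_left (le_normalizer_inf_centralizer hcomm hBA hAK)
  obtain ⟨S, hS⟩ := hKB.exists_invariant_sylSet r
  have hSr : IsPGroup r S.1 := IsPGroup.of_card S.2.2
  obtain ⟨P, hSP, hP⟩ := hK.exists_invariant_sylSet_ge _ S.1 rfl (S.2.1.trans inf_le_left) hSr hS
  obtain ⟨c, hc, hcPR⟩ := hK.exists_conj_sylSet P R hP hR
  obtain ⟨hcK, hcA⟩ := Subgroup.mem_inf.mp hc
  have hcB : c ∈ centralizer (B : Set G) := Subgroup.centralizer_le hBA hcA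
  have hle : MulAut.conj c • S.1 ≤ R.1 ⊓ centralizer (B : Set G) := by
    rw [conj_smul_le_iff]
    intro s hs
    refine Subgroup.mem_inf.mpr ⟨?_, ?_⟩
    · rw [← hcPR]
      exact (mem_conj_smul).mpr (by simpa [mul_assoc] using hSP hs)
    · exact Subgroup.mul_mem _ (Subgroup.mul_mem _ hcB (S.2.1 hs).2) (Subgroup.inv_mem _ hcB)
  unfold cfix
  have h1 : r ^ (Nat.card ↥(K ⊓ centralizer (B : Set G))).factorization r ∣
      Nat.card ↥(R.1 ⊓ centralizer (B : Set G)) := by
    rw [← S.2.2, ← card_conj_smul c S.1]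
    exact Subgroup.card_dvd_of_le hle
  have hRr : IsPGroup r R.1 := IsPGroup.of_card R.2.2
  have hRBr : IsPGroup r ↥(R.1 ⊓ centralizer (B : Set G)) := hRr.to_le inf_le_left
  obtain ⟨j, hj⟩ := hRBr.exists_card_eq
  have h2 : Nat.card ↥(R.1 ⊓ centralizer (B : Set G)) ∣
      Nat.card ↥(K ⊓ centralizer (B : Set G)) :=
    Subgroup.card_dvd_of_le (inf_le_inf_right _ R.2.1)
  rw [hj] at h1 h2 ⊢
  have h3 : j ≤ (Nat.card ↥(K ⊓ centralizer (B : Set G))).factorization r :=
    (hr.out.pow_dvd_iff_le_factorization Nat.card_pos.ne').mp h2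
  have h4 : (Nat.card ↥(K ⊓ centralizer (B : Set G))).factorization r ≤ j :=
    (Nat.pow_dvd_pow_iff_le_right hr.out.one_lt).mp h1
  rw [le_antisymm h3 h4]

/-- **Wielandt's formula** for an arbitrary `A`-invariant `p'`-group `K`. -/
theorem wf_general {ι : Type*} [Fintype ι] [DecidableEq ι] {Bs : ι → Subgroup G}
    (hE : E2 p A Bs) (hAK : A ≤ normalizer (K : Set G)) (hpK : ¬ p ∣ Nat.card K) :
    WF A K Bs := by
  have hK : CoprimeAct A K :=
    Cfsg.Agent.Lib.Helper12.coprimeAct_of_exponent hE.comm hE.exp hAK hpK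
  unfold WF
  set N := Fintype.card ι with hN
  have hapos : cfix K A ≠ 0 := (cfix_pos K A).ne'
  have hfpos : ∀ i, cfix K (Bs i) ≠ 0 := fun i => (cfix_pos K (Bs i)).ne'
  have hKpos : Nat.card K ≠ 0 := Nat.card_pos.ne'
  have hL : Nat.card K * cfix K A ^ N ≠ 0 := mul_ne_zero hKpos (pow_ne_zero _ hapos)
  have hRne : cfix K A * ∏ i, cfix K (Bs i) ≠ 0 :=
    mul_ne_zero hapos (Finset.prod_ne_zero_iff.mpr (fun i _ => hfpos i))
  apply Nat.eq_of_factorization_eq hL hRne
  intro r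
  by_cases hrp : r.Prime
  · have : Fact r.Prime := ⟨hrp⟩
    obtain ⟨R, hR⟩ := hK.exists_invariant_sylSet r
    have hRr : IsPGroup r R.1 := IsPGroup.of_card R.2.2
    have hpR : ¬ p ∣ Nat.card R.1 := fun hd => hpK (hd.trans (Subgroup.card_dvd_of_le R.2.1))
    have hwf := wf_of_isPGroup hE (r := r) _ R.1 rfl hRr hR hpR
    unfold WF at hwf
    rw [cfix_sylSet hE.comm hE.exp hAK hpK R hR (le_refl A), R.2.2] at hwf
    have h2 : ∀ i, cfix R.1 (Bs i) = r ^ (cfix K (Bs i)).factorization r :=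
      fun i => cfix_sylSet hE.comm hE.exp hAK hpK R hR (hE.le i)
    rw [Finset.prod_congr rfl (fun i _ => h2 i), Finset.prod_pow_eq_pow_sum, ← pow_mul, ← pow_add,
      ← pow_add] at hwf
    have h3 := Nat.pow_right_injective hrp.two_le hwf
    rw [Nat.factorization_mul hKpos (pow_ne_zero _ hapos), Nat.factorization_pow,
      Nat.factorization_mul hapos (Finset.prod_ne_zero_iff.mpr (fun i _ => hfpos i)),
      Nat.factorization_prod (fun i _ => hfpos i)]
    simp only [Finsupp.coe_add, Finsupp.coe_smul, Pi.add_apply, Pi.smul_apply, smul_eq_mul,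
      Finsupp.coe_finsetSum, Finset.sum_apply]
    rw [← hN] at h3
    rw [← h3]; ring
  · rw [Nat.factorization_eq_zero_of_not_prime _ hrp, Nat.factorization_eq_zero_of_not_prime _ hrp]


/-- product formula for a factorized group. -/
theorem card_mul_card_inf_of_coe_eq_mul {S H K' : Subgroup G}
    (h : (S : Set G) = (H : Set G) * (K' : Set G)) :
    Nat.card S * Nat.card ↥(H ⊓ K') = Nat.card H * Nat.card K' := by
  have hHS : H ≤ S := by
    intro x hx
    have : x ∈ (S : Set G) := by rw [h]; exact ⟨x, hx, 1, K'.one_mem, mul_one x⟩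
    exact this
  have hKS : K' ≤ S := by
    intro x hx
    have : x ∈ (S : Set G) := by rw [h]; exact ⟨1, H.one_mem, x, hx, one_mul x⟩
    exact this
  have hsup : H ⊔ K' = S := by
    apply le_antisymm (sup_le hHS hKS)
    intro x hx
    have : x ∈ (H : Set G) * (K' : Set G) := by rw [← h]; exact hx
    obtain ⟨a, ha, b, hb, rfl⟩ := this
    exact Subgroup.mul_mem_sup ha hb
  subst hsup
  set e := Subgroup.quotientSubgroupOfEmbeddingOfLE K' (le_sup_left : H ≤ H ⊔ K') with he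
  have hsurj : Function.Surjective e := by
    intro q
    obtain ⟨⟨x, hx⟩, rfl⟩ := QuotientGroup.mk_surjective q
    have : x ∈ (H : Set G) * (K' : Set G) := by rw [← h]; exact hx
    obtain ⟨a, ha, b, hb, hab⟩ := this
    refine ⟨QuotientGroup.mk (⟨a, ha⟩ : ↥H), ?_⟩
    rw [he, Subgroup.quotientSubgroupOfEmbeddingOfLE_apply_mk, QuotientGroup.eq,
      Subgroup.mem_subgroupOf]
    have : (((Subgroup.inclusion (le_sup_left : H ≤ H ⊔ K') ⟨a, ha⟩)⁻¹ *
        (⟨x, hx⟩ : ↥(H ⊔ K')) : ↥(H ⊔ K')) : G) = b := by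
      simp only [Subgroup.coe_mul, Subgroup.coe_inv, Subgroup.coe_inclusion]
      rw [← hab]; group
    rw [this]; exact hb
  have hidx : K'.relIndex H = K'.relIndex (H ⊔ K') :=
    Nat.card_congr (Equiv.ofBijective e ⟨e.injective, hsurj⟩)
  rw [Cfsg.Agent.Lib.Helper18.card_sup_eq_card_mul_relIndex H K',
    Cfsg.Agent.Lib.Helper18.card_eq_card_inf_mul_relIndex H K', hidx]
  ring

section Inst

variable {A₀ : Subgroup G}

/-- the index type: subgroups of order `p` of `A₀`. -/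
abbrev OrdP (p : ℕ) (A₀ : Subgroup G) : Type _ :=
  {B : Subgroup G // B ≤ A₀ ∧ Nat.card B = p}

theorem e2_of_card (hA : IsElementaryAbelian p A₀) (hcard : Nat.card A₀ = p ^ 2) :
    E2 p A₀ (fun i : OrdP p A₀ => i.1) := by
  have hp2 : 2 ≤ p := hp.out.two_le
  have hcomm := Cfsg.Agent.Lib.Helper12.isElementaryAbelian_comm hA
  have hord : ∀ a ∈ A₀, a ≠ 1 → Nat.card (zpowers a) = p := by
    intro a ha ha1
    rw [Nat.card_zpowers]
    have h1 : orderOf a ∣ p := orderOf_dvd_of_pow_eq_one (hA.2 a ha)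
    rcases (Nat.dvd_prime hp.out).mp h1 with h2 | h2
    · exact absurd (orderOf_eq_one_iff.mp h2) ha1
    · exact h2
  refine ⟨hcomm, hA.2, ?_, fun i => i.2.1, ?_, ?_, ?_⟩
  · rw [hcard]; nlinarith
  · intro a ha ha1
    exact ⟨⟨zpowers a, zpowers_le.mpr ha, hord a ha ha1⟩, mem_zpowers a⟩
  · rintro ⟨B, hBA, hB⟩ a ha ha1
    have h1 : zpowers a ≤ B := zpowers_le.mpr ha
    have h2 : Nat.card B ≤ Nat.card (zpowers a) := by rw [hord a (hBA ha) ha1, hB]
    exact (Subgroup.eq_of_le_of_card_ge h1 h2).ge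
  · rintro ⟨B₁, hB₁A, hB₁⟩ ⟨B₂, hB₂A, hB₂⟩ hne
    have hne' : B₁ ≠ B₂ := fun h => hne (Subtype.ext h)
    have hinf : Nat.card ↥(B₁ ⊓ B₂) = 1 := by
      have h1 : Nat.card ↥(B₁ ⊓ B₂) ∣ p := by
        rw [← hB₁]; exact Subgroup.card_dvd_of_le inf_le_left
      rcases (Nat.dvd_prime hp.out).mp h1 with h2 | h2
      · exact h2
      · exfalso
        have e1 : B₁ ⊓ B₂ = B₁ := Subgroup.eq_of_le_of_card_ge inf_le_left (by rw [h2, hB₁])
        have e2 : B₁ ⊓ B₂ = B₂ := Subgroup.eq_of_le_of_card_ge inf_le_right (by rw [h2, hB₂])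
        exact hne' (e1.symm.trans e2)
    have hnorm : B₁ ≤ normalizer (B₂ : Set G) := by
      apply le_normalizer_of_forall_conj_mem
      intro b hb x hx
      have : b * x = x * b := hcomm b (hB₁A hb) x (hB₂A hx)
      rw [this, mul_inv_cancel_right]
      exact hx
    have hprod := Cfsg.H5.card_sup_mul_card_inf hnorm
    rw [hinf, mul_one, hB₁, hB₂] at hprod
    apply Subgroup.eq_of_le_of_card_ge (sup_le hB₁A hB₂A)
    rw [hprod, hcard, sq]

end Inst


section Factorization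

variable {A₀ X Y : Subgroup G}

theorem centralizer_eq_of_gen {B : Subgroup G} {a : G} (ha : a ∈ B) (hB : B ≤ zpowers a) :
    centralizer (B : Set G) = centralizer ({a} : Set G) := by
  have : B = zpowers a := le_antisymm hB (zpowers_le.mpr ha)
  subst this
  ext g
  exact Cfsg.Agent.Lib.Helper9.mem_centralizer_zpowers_iff

/-- the numerical core of the factorization lemma. -/
theorem card_mul_card_eq_of_wf {ι : Type*} [Fintype ι] {Bs : ι → Subgroup G} {D : Subgroup G}
    (hK : WF A₀ K Bs) (hD : WF A₀ D Bs) (hX : WF A₀ X Bs) (hY : WF A₀ Y Bs)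
    (hA : cfix K A₀ * cfix D A₀ = cfix X A₀ * cfix Y A₀)
    (hB : ∀ i, cfix K (Bs i) * cfix D (Bs i) = cfix X (Bs i) * cfix Y (Bs i)) :
    Nat.card K * Nat.card D = Nat.card X * Nat.card Y := by
  unfold WF at hK hD hX hY
  set N := Fintype.card ι
  have hprod : (∏ i, cfix K (Bs i)) * (∏ i, cfix D (Bs i)) =
      (∏ i, cfix X (Bs i)) * (∏ i, cfix Y (Bs i)) := by
    rw [← Finset.prod_mul_distrib, ← Finset.prod_mul_distrib]
    exact Finset.prod_congr rfl (fun i _ => hB i)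
  have hpos : 0 < (cfix K A₀ * cfix D A₀) ^ N :=
    pow_pos (Nat.mul_pos (cfix_pos K A₀) (cfix_pos D A₀)) N
  apply Nat.eq_of_mul_eq_mul_right hpos
  calc Nat.card K * Nat.card D * (cfix K A₀ * cfix D A₀) ^ N
      = (Nat.card K * cfix K A₀ ^ N) * (Nat.card D * cfix D A₀ ^ N) := by rw [mul_pow]; ring
    _ = (cfix K A₀ * ∏ i, cfix K (Bs i)) * (cfix D A₀ * ∏ i, cfix D (Bs i)) := by rw [hK, hD]
    _ = (cfix K A₀ * cfix D A₀) * ((∏ i, cfix K (Bs i)) * (∏ i, cfix D (Bs i))) := by ring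
    _ = (cfix X A₀ * cfix Y A₀) * ((∏ i, cfix X (Bs i)) * (∏ i, cfix Y (Bs i))) := by
        rw [hA, hprod]
    _ = (cfix X A₀ * ∏ i, cfix X (Bs i)) * (cfix Y A₀ * ∏ i, cfix Y (Bs i)) := by ring
    _ = (Nat.card X * cfix X A₀ ^ N) * (Nat.card Y * cfix Y A₀ ^ N) := by rw [hX, hY]
    _ = Nat.card X * Nat.card Y * (cfix X A₀ * cfix Y A₀) ^ N := by rw [mul_pow]; ring
    _ = Nat.card X * Nat.card Y * (cfix K A₀ * cfix D A₀) ^ N := by rw [hA]

theorem cfix_mul_of_coe_eq_mul {B : Subgroup G}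
    (h : ((K ⊓ centralizer (B : Set G) : Subgroup G) : Set G) =
      ((X ⊓ centralizer (B : Set G) : Subgroup G) : Set G) *
        ((Y ⊓ centralizer (B : Set G) : Subgroup G) : Set G)) :
    cfix K B * cfix (X ⊓ Y) B = cfix X B * cfix Y B := by
  unfold cfix
  have h1 := card_mul_card_inf_of_coe_eq_mul h
  have h2 : X ⊓ centralizer (B : Set G) ⊓ (Y ⊓ centralizer (B : Set G)) =
      X ⊓ Y ⊓ centralizer (B : Set G) :=
    (inf_inf_distrib_right X Y (centralizer (B : Set G))).symm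
  rw [h2] at h1
  exact h1

/-- **Factorization lemma** (S1287): if `C_K(a) = C_X(a) C_Y(a)` for all `a ∈ A#`, `A` noncyclic
elementary abelian acting on the `p'`-group `K`, then `K = X Y`. -/
theorem coe_eq_mul_of_forall_centralizer (hA : IsElementaryAbelian p A)
    (hA2 : p ^ 2 ≤ Nat.card A) (hpK : ¬ p ∣ Nat.card K) (hAK : A ≤ normalizer (K : Set G))
    (hX : X ≤ K) (hY : Y ≤ K) (hAX : A ≤ normalizer (X : Set G))
    (hAY : A ≤ normalizer (Y : Set G))
    (hfac : ∀ a ∈ A, a ≠ 1 →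
      ((K ⊓ centralizer {a} : Subgroup G) : Set G) =
        ((X ⊓ centralizer {a} : Subgroup G) : Set G) * ((Y ⊓ centralizer {a} : Subgroup G) : Set G)) :
    (K : Set G) = (X : Set G) * (Y : Set G) := by
  classical
  -- a subgroup of order `p ^ 2`
  have hAp : IsPGroup p A := Cfsg.Agent.Lib.Helper12.isPGroup_of_exponent hA.2
  obtain ⟨k, hk⟩ := hAp.exists_card_eq
  have hk2 : 2 ≤ k := by
    by_contra hlt
    push Not at hlt
    have : p ^ k ≤ p ^ 1 := Nat.pow_le_pow_right hp.out.pos (by omega)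
    rw [hk] at hA2
    have h3 : p ^ 1 < p ^ 2 := Nat.pow_lt_pow_right hp.out.one_lt (by norm_num)
    omega
  have hdvd : p ^ 2 ∣ Nat.card ↥A := by rw [hk]; exact pow_dvd_pow p hk2
  obtain ⟨A₀', hA₀'⟩ := Sylow.exists_subgroup_card_pow_prime p hdvd
  set A₀ : Subgroup G := A₀'.map A.subtype with hA₀def
  have hA₀A : A₀ ≤ A := Subgroup.map_subtype_le _
  have hA₀card : Nat.card A₀ = p ^ 2 := by
    rw [hA₀def, Subgroup.card_map_of_injective (Subgroup.subtype_injective _)]; exact hA₀'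
  have hA₀ : IsElementaryAbelian p A₀ := by
    have hcomm := Cfsg.Agent.Lib.Helper12.isElementaryAbelian_comm hA
    refine ⟨⟨⟨fun a b => ?_⟩⟩, fun a ha => hA.2 a (hA₀A ha)⟩
    exact Subtype.ext (hcomm a (hA₀A a.2) b (hA₀A b.2))
  have hE := e2_of_card hA₀ hA₀card
  have : Fintype (OrdP p A₀) := Fintype.ofFinite _
  set Bs : OrdP p A₀ → Subgroup G := fun i => i.1 with hBs
  -- invariance
  have hinvK : A₀ ≤ normalizer (K : Set G) := hA₀A.trans hAK
  have hinvX : A₀ ≤ normalizer (X : Set G) := hA₀A.trans hAX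
  have hinvY : A₀ ≤ normalizer (Y : Set G) := hA₀A.trans hAY
  have hinvD : A₀ ≤ normalizer ((X ⊓ Y : Subgroup G) : Set G) :=
    (le_inf hinvX hinvY).trans Subgroup.inf_normalizer_le_normalizer_inf
  have hpX : ¬ p ∣ Nat.card X := fun hd => hpK (hd.trans (Subgroup.card_dvd_of_le hX))
  have hpY : ¬ p ∣ Nat.card Y := fun hd => hpK (hd.trans (Subgroup.card_dvd_of_le hY))
  have hpD : ¬ p ∣ Nat.card ↥(X ⊓ Y) :=
    fun hd => hpX (hd.trans (Subgroup.card_dvd_of_le inf_le_left))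
  have wK := wf_general hE hinvK hpK
  have wX := wf_general hE hinvX hpX
  have wY := wf_general hE hinvY hpY
  have wD := wf_general hE hinvD hpD
  -- the factorizations of the centralizers
  have hfacB : ∀ i : OrdP p A₀,
      ((K ⊓ centralizer (Bs i : Set G) : Subgroup G) : Set G) =
        ((X ⊓ centralizer (Bs i : Set G) : Subgroup G) : Set G) *
          ((Y ⊓ centralizer (Bs i : Set G) : Subgroup G) : Set G) := by
    intro i
    have hne : (Bs i) ≠ ⊥ := by
      intro hbot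
      have h1 := i.2.2
      change Nat.card ↥(Bs i) = p at h1
      rw [hbot, Subgroup.card_bot] at h1
      exact hp.out.one_lt.ne h1
    obtain ⟨a, ha1⟩ := (Subgroup.ne_bot_iff_exists_ne_one.mp hne)
    have haB : (a : G) ∈ Bs i := a.2
    have ha1' : (a : G) ≠ 1 := fun h => ha1 (Subtype.ext h)
    rw [centralizer_eq_of_gen haB (hE.gen i a haB ha1')]
    exact hfac a (hA₀A (hE.le i haB)) ha1'
  have hfacA : ((K ⊓ centralizer (A₀ : Set G) : Subgroup G) : Set G) =
      ((X ⊓ centralizer (A₀ : Set G) : Subgroup G) : Set G) *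
        ((Y ⊓ centralizer (A₀ : Set G) : Subgroup G) : Set G) := by
    -- pick `a ∈ A₀#`
    have hne : A₀ ≠ ⊥ := by
      intro hbot
      rw [hbot, Subgroup.card_bot] at hA₀card
      have : 1 < p ^ 2 := Nat.one_lt_pow (by norm_num) hp.out.one_lt
      omega
    obtain ⟨a, ha1⟩ := (Subgroup.ne_bot_iff_exists_ne_one.mp hne)
    have haA₀ : (a : G) ∈ A₀ := a.2
    have ha1' : (a : G) ≠ 1 := fun h => ha1 (Subtype.ext h)
    have hcA₀ : centralizer (A₀ : Set G) ≤ centralizer ({(a : G)} : Set G) :=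
      Subgroup.centralizer_le (by intro x hx; rw [Set.mem_singleton_iff] at hx; rw [hx]; exact haA₀)
    have hza : zpowers (a : G) ≤ A₀ := zpowers_le.mpr haA₀
    have hcz : centralizer ((zpowers (a : G) : Subgroup G) : Set G) = centralizer ({(a : G)} : Set G) :=
      centralizer_eq_of_gen (mem_zpowers _) le_rfl
    have hinvKa : A₀ ≤ normalizer ((K ⊓ centralizer ({(a : G)} : Set G) : Subgroup G) : Set G) := by
      rw [← hcz]; exact le_normalizer_inf_centralizer hE.comm hza hinvK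
    have hinvXa : A₀ ≤ normalizer ((X ⊓ centralizer ({(a : G)} : Set G) : Subgroup G) : Set G) := by
      rw [← hcz]; exact le_normalizer_inf_centralizer hE.comm hza hinvX
    have hinvYa : A₀ ≤ normalizer ((Y ⊓ centralizer ({(a : G)} : Set G) : Subgroup G) : Set G) := by
      rw [← hcz]; exact le_normalizer_inf_centralizer hE.comm hza hinvY
    have hpKa : ¬ p ∣ Nat.card ↥(K ⊓ centralizer ({(a : G)} : Set G)) :=
      fun hd => hpK (hd.trans (Subgroup.card_dvd_of_le inf_le_left))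
    have hcop : CoprimeAct A₀ (K ⊓ centralizer ({(a : G)} : Set G)) :=
      Cfsg.Agent.Lib.Helper12.coprimeAct_of_exponent hE.comm hE.exp hinvKa hpKa
    have hXY : ∀ k ∈ K ⊓ centralizer ({(a : G)} : Set G),
        ∃ x ∈ X ⊓ centralizer ({(a : G)} : Set G), ∃ y ∈ Y ⊓ centralizer ({(a : G)} : Set G),
          k = x * y := by
      intro k hk
      have : k ∈ ((K ⊓ centralizer ({(a : G)} : Set G) : Subgroup G) : Set G) := hk
      rw [hfac a (hA₀A haA₀) ha1'] at this
      obtain ⟨x, hx, y, hy, hxy⟩ := this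
      exact ⟨x, hx, y, hy, hxy.symm⟩
    apply Set.Subset.antisymm
    · intro k hk
      have hk' : k ∈ (K ⊓ centralizer ({(a : G)} : Set G)) ⊓ centralizer (A₀ : Set G) :=
        Subgroup.mem_inf.mpr ⟨Subgroup.mem_inf.mpr ⟨hk.1, hcA₀ hk.2⟩, hk.2⟩
      obtain ⟨x, hx, y, hy, hxy⟩ := hcop.centralizer_mul (inf_le_inf_right _ hX)
        (inf_le_inf_right _ hY) hinvXa hinvYa hXY k hk'
      exact ⟨x, Subgroup.mem_inf.mpr ⟨hx.1.1, hx.2⟩, y, Subgroup.mem_inf.mpr ⟨hy.1.1, hy.2⟩,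
        hxy.symm⟩
    · rintro _ ⟨x, hx, y, hy, rfl⟩
      exact Subgroup.mul_mem _ (Subgroup.mem_inf.mpr ⟨hX hx.1, hx.2⟩)
        (Subgroup.mem_inf.mpr ⟨hY hy.1, hy.2⟩)
  have hcard : Nat.card K * Nat.card ↥(X ⊓ Y) = Nat.card X * Nat.card Y :=
    card_mul_card_eq_of_wf wK wD wX wY (cfix_mul_of_coe_eq_mul hfacA)
      (fun i => cfix_mul_of_coe_eq_mul (hfacB i))
  -- `X ⊔ Y = K`
  have hsup : X ⊔ Y = K := by
    apply le_antisymm (sup_le hX hY)
    have hgen : K ≤ Cfsg.Agent.Lib.Helper12.genC A₀ K :=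
      Cfsg.Agent.Lib.Helper12.le_genC_of_card hE.comm hE.exp hinvK hpK hE.noncyc
    refine hgen.trans ?_
    unfold Cfsg.Agent.Lib.Helper12.genC
    apply iSup_le
    rintro ⟨a, haA₀, ha1⟩
    intro k hk
    have : k ∈ ((K ⊓ centralizer ({a} : Set G) : Subgroup G) : Set G) := hk
    rw [hfac a (hA₀A haA₀) ha1] at this
    obtain ⟨x, hx, y, hy, rfl⟩ := this
    exact Subgroup.mul_mem_sup hx.1 hy.1
  have h := Cfsg.Agent.Lib.Helper18.coe_sup_eq_mul_of_card_eq X Y (by rw [hsup]; exact hcard.symm)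
  rw [hsup] at h
  exact h

end Factorization


end Cfsg.Agent.Lib.Helper9.Wielandt
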