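import Mathlib
import Cfsg.Agent.Lib.Helper9.BGExc3
import Cfsg.Agent.Lib.Helper1.Extraspecial
import Cfsg.Agent.Lib.Helper9.Wielandt2

/-!
# Helper9 library: exceptional maximal subgroups, part 4

`p`-group tools for Theorem 11.4: `omegaZ p P = Ω₁(Z(P))`, normalizers of maximal elementary
abelian subgroups, unipotent action on `E_{p²}`.
-/

set_option autoImplicit false
set_option linter.style.haveILetI false
set_option linter.unusedSectionVars false

open Cfsg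
open scoped commutatorElement
open Cfsg.Agent.Lib.Helper10.BG
open Cfsg.Agent.Lib.Helper1 (CoprimeAct)

namespace Cfsg.Agent.Lib.Helper9.BGExc

variable {G : Type*} [Group G]

section OmegaZ

/-- `Ω₁(Z(P))`: the elements of order dividing `p` in the centre of `P`. -/
def omegaZ (p : ℕ) (P : Subgroup G) : Subgroup G where
  carrier := {z | z ∈ P ∧ z ∈ Subgroup.centralizer (P : Set G) ∧ z ^ p = 1}
  one_mem' := ⟨P.one_mem, Subgroup.one_mem _, one_pow p⟩
  mul_mem' := by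
    rintro a b ⟨ha, hac, hap⟩ ⟨hb, hbc, hbp⟩
    refine ⟨P.mul_mem ha hb, Subgroup.mul_mem _ hac hbc, ?_⟩
    have hab : Commute a b := hbc a ha
    rw [hab.mul_pow, hap, hbp, one_mul]
  inv_mem' := by
    rintro a ⟨ha, hac, hap⟩
    exact ⟨P.inv_mem ha, Subgroup.inv_mem _ hac, by rw [inv_pow, hap, inv_one]⟩

theorem mem_omegaZ {p : ℕ} {P : Subgroup G} {z : G} :
    z ∈ omegaZ p P ↔ z ∈ P ∧ z ∈ Subgroup.centralizer (P : Set G) ∧ z ^ p = 1 := Iff.rfl

theorem omegaZ_le (p : ℕ) (P : Subgroup G) : omegaZ p P ≤ P := fun _ h => h.1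

theorem omegaZ_le_centralizer (p : ℕ) (P : Subgroup G) :
    omegaZ p P ≤ Subgroup.centralizer (P : Set G) := fun _ h => h.2.1

theorem le_centralizer_omegaZ (p : ℕ) (P : Subgroup G) :
    P ≤ Subgroup.centralizer ((omegaZ p P : Subgroup G) : Set G) :=
  le_centralizer_symm (omegaZ_le_centralizer p P)

theorem isElementaryAbelian_omegaZ (p : ℕ) (P : Subgroup G) :
    IsElementaryAbelian p (omegaZ p P) := by
  refine ⟨⟨⟨fun a b => ?_⟩⟩, fun a ha => ha.2.2⟩
  apply Subtype.ext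
  exact (b.2.2.1 a a.2.1)

theorem cj_omegaZ (g : G) (p : ℕ) (P : Subgroup G) : cj g (omegaZ p P) = omegaZ p (cj g P) := by
  ext z
  rw [mem_cj, mem_omegaZ, mem_omegaZ, mem_cj, centralizer_cj, mem_cj]
  constructor
  · rintro ⟨h1, h2, h3⟩
    refine ⟨h1, h2, ?_⟩
    have h4 : (g⁻¹ * z * g) ^ p = g⁻¹ * z ^ p * g := by
      have := conj_pow (a := g⁻¹) (b := z) (i := p)
      simpa using this
    rw [h4] at h3
    have h5 : z ^ p = g * (g⁻¹ * z ^ p * g) * g⁻¹ := by group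
    rw [h5, h3]; group
  · rintro ⟨h1, h2, h3⟩
    refine ⟨h1, h2, ?_⟩
    have h4 : (g⁻¹ * z * g) ^ p = g⁻¹ * z ^ p * g := by
      have := conj_pow (a := g⁻¹) (b := z) (i := p)
      simpa using this
    rw [h4, h3]; group

theorem normalizer_le_normalizer_omegaZ (p : ℕ) (P : Subgroup G) :
    Subgroup.normalizer (P : Set G) ≤ Subgroup.normalizer ((omegaZ p P : Subgroup G) : Set G) := by
  intro g hg
  apply mem_normalizer_of_map_conj_eq
  have h1 := cj_omegaZ g p P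
  rw [cj_eq_self_of_mem_normalizer hg] at h1
  exact h1

theorem omegaZ_ne_bot [Finite G] {p : ℕ} [Fact p.Prime] {P : Subgroup G} (hP : IsPGroup p P)
    (hP1 : P ≠ ⊥) : omegaZ p P ≠ ⊥ := by
  have hp : p.Prime := Fact.out
  obtain ⟨c, hc, hc1⟩ := exists_ne_one_of_ne_bot (inf_centralizer_ne_bot hP hP1)
  obtain ⟨hcP, hcC⟩ := Subgroup.mem_inf.mp hc
  obtain ⟨k, hk⟩ := hP ⟨c, hcP⟩
  have hk' : c ^ p ^ k = 1 := congrArg Subtype.val hk
  obtain ⟨n, -, hn⟩ := (Nat.dvd_prime_pow hp).mp (orderOf_dvd_of_pow_eq_one hk')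
  have hn0 : n ≠ 0 := by
    rintro rfl
    rw [pow_zero] at hn
    exact hc1 (orderOf_eq_one_iff.mp hn)
  have hpa : p ∣ orderOf c := by rw [hn]; exact dvd_pow_self p hn0
  have hz1 : orderOf (c ^ (orderOf c / p)) = p :=
    orderOf_pow_orderOf_div (orderOf_pos c).ne' hpa
  intro hbot
  have hmem : c ^ (orderOf c / p) ∈ omegaZ p P := by
    refine ⟨P.pow_mem hcP _, Subgroup.pow_mem _ hcC _, ?_⟩
    have := pow_orderOf_eq_one (c ^ (orderOf c / p))
    rwa [hz1] at this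
  rw [hbot, Subgroup.mem_bot] at hmem
  rw [hmem, orderOf_one] at hz1
  exact hp.one_lt.ne hz1

end OmegaZ

section EA

theorem isElementaryAbelian_sup {p : ℕ} {A B : Subgroup G} (hA : IsElementaryAbelian p A)
    (hB : IsElementaryAbelian p B) (hcomm : ∀ a ∈ A, ∀ b ∈ B, a * b = b * a) :
    IsElementaryAbelian p (A ⊔ B) := by
  have hdecomp : ∀ y ∈ A ⊔ B, ∃ a ∈ A, ∃ b ∈ B, y = a * b := fun y hy => mem_sup_of_commute' hcomm hy
  have hAc := Cfsg.Agent.Lib.Helper12.isElementaryAbelian_comm hA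
  have hBc := Cfsg.Agent.Lib.Helper12.isElementaryAbelian_comm hB
  refine ⟨⟨⟨fun x y => ?_⟩⟩, ?_⟩
  · apply Subtype.ext
    obtain ⟨a, ha, b, hb, hx⟩ := hdecomp x x.2
    obtain ⟨a', ha', b', hb', hy⟩ := hdecomp y y.2
    show (x : G) * y = y * x
    rw [hx, hy]
    have h1 := hAc a ha a' ha'
    have h2 := hBc b hb b' hb'
    have h3 := hcomm a ha b' hb'
    have h4 := hcomm a' ha' b hb
    calc a * b * (a' * b') = a * (b * a') * b' := by group
      _ = a * (a' * b) * b' := by rw [h4]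
      _ = (a * a') * (b * b') := by group
      _ = (a' * a) * (b' * b) := by rw [h1, h2]
      _ = a' * (a * b') * b := by group
      _ = a' * (b' * a) * b := by rw [h3]
      _ = a' * b' * (a * b) := by group
  · intro y hy
    obtain ⟨a, ha, b, hb, rfl⟩ := hdecomp y hy
    have hab : Commute a b := hcomm a ha b hb
    rw [hab.mul_pow, hA.2 a ha, hB.2 b hb, one_mul]

theorem isElementaryAbelian_cj {p : ℕ} {A : Subgroup G} (hA : IsElementaryAbelian p A) (g : G) :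
    IsElementaryAbelian p (cj g A) := isElementaryAbelian_map _ hA

theorem MaxEA.conj {p : ℕ} {A : Subgroup G} (h : MaxEA p A) (g : G) : MaxEA p (cj g A) := by
  refine ⟨isElementaryAbelian_cj h.1 g, fun B hB hle => ?_⟩
  have h1 := h.2 (cj g⁻¹ B) (isElementaryAbelian_cj hB g⁻¹) (cj_le_iff.mp hle)
  rw [← h1, cj_cj_inv]

/-- Lemma A: the normalizer in a `p`-group `P` of a maximal elementary abelian subgroup `A ≤ P`
of `G` that is not central in `P` is larger than its centralizer. -/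
theorem MaxEA.exists_normalizer_not_centralizer [Finite G] {p : ℕ} [Fact p.Prime]
    {A P : Subgroup G} (h : MaxEA p A) (hP : IsPGroup p P) (hAP : A ≤ P)
    (hnc : ¬ P ≤ Subgroup.centralizer (A : Set G)) :
    ∃ y ∈ P, y ∈ Subgroup.normalizer (A : Set G) ∧ y ∉ Subgroup.centralizer (A : Set G) := by
  have hAc := Cfsg.Agent.Lib.Helper12.isElementaryAbelian_comm h.1
  have hAT : A ≤ P ⊓ Subgroup.centralizer (A : Set G) := by
    refine le_inf hAP (fun a ha => ?_)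
    rw [Subgroup.mem_centralizer_iff]
    intro b hb
    exact hAc b hb a ha
  have hlt : P ⊓ Subgroup.centralizer (A : Set G) < P :=
    lt_of_le_of_ne inf_le_left (fun heq => hnc (heq ▸ inf_le_right))
  obtain ⟨u, huP, huN, huT⟩ := Cfsg.Agent.Lib.Lead.Trans.exists_normalizer_not_mem hP hlt
  have h1 : cj u A ≤ Subgroup.centralizer (A : Set G) := by
    have h2 : cj u A ≤ P ⊓ Subgroup.centralizer (A : Set G) := by
      rw [← cj_eq_self_of_mem_normalizer huN]
      exact cj_mono u hAT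
    exact h2.trans inf_le_right
  have h3 : IsElementaryAbelian p (A ⊔ cj u A) :=
    isElementaryAbelian_sup h.1 (isElementaryAbelian_cj h.1 u)
      (fun a ha b hb => (h1 hb a ha))
  have h4 := h.2 _ h3 le_sup_left
  have h5 : cj u A ≤ A := le_sup_right.trans h4.le
  have h6 : cj u A = A := Subgroup.eq_of_le_of_card_ge h5 (card_cj u A).ge
  refine ⟨u, huP, mem_normalizer_of_map_conj_eq h6, fun huC => huT ?_⟩
  exact Subgroup.mem_inf.mpr ⟨huP, huC⟩

end EA

section Unipotent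

variable [Finite G] {p : ℕ} [Fact p.Prime]

/-- Lemma B: a `p`-group normalizing a subgroup of order `p` centralizes it. -/
theorem le_centralizer_of_le_normalizer_of_card_prime {T X : Subgroup G} (hT : IsPGroup p T)
    (hX : Nat.card X = p) (hTX : T ≤ Subgroup.normalizer (X : Set G)) :
    T ≤ Subgroup.centralizer (X : Set G) := by
  have hXp : IsPGroup p X := IsPGroup.of_card (n := 1) (by rw [hX, pow_one])
  have hU : IsPGroup p (T ⊔ X : Subgroup G) := IsPGroup.to_sup_of_normal_right' hT hXp hTX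
  have hUX : T ⊔ X ≤ Subgroup.normalizer (X : Set G) := sup_le hTX Subgroup.le_normalizer
  haveI hXn : (X.subgroupOf (T ⊔ X)).Normal := Subgroup.normal_subgroupOf_of_le_normalizer hUX
  have hcard : Nat.card (X.subgroupOf (T ⊔ X)) = p := by
    rw [Nat.card_congr (Subgroup.subgroupOfEquivOfLe (le_sup_right : X ≤ T ⊔ X)).toEquiv, hX]
  have hcen := Cfsg.Agent.Lib.Helper1.le_center_of_normal_of_card_prime hU
    (X.subgroupOf (T ⊔ X)) hcard
  intro t ht
  rw [Subgroup.mem_centralizer_iff]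
  intro x hx
  have h1 : (⟨x, (le_sup_right : X ≤ T ⊔ X) hx⟩ : ↥(T ⊔ X)) ∈ Subgroup.center ↥(T ⊔ X) :=
    hcen (Subgroup.mem_subgroupOf.mpr hx)
  have h2 := (Subgroup.mem_center_iff.mp h1) ⟨t, (le_sup_left : T ≤ T ⊔ X) ht⟩
  have h3 := congrArg Subtype.val h2
  simp only [Subgroup.coe_mul] at h3
  exact h3.symm

/-- Lemma C: if a `p`-element `y` normalizes the abelian group `B` of order `p ^ 2` and has exactly
`p` fixed points on it, then all commutators `[y, b]` are fixed points. -/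
theorem commutator_mem_fixed {B : Subgroup G} (hBc : ∀ a ∈ B, ∀ b ∈ B, a * b = b * a)
    (hB : Nat.card B = p ^ 2) {y : G} (hy : y ∈ Subgroup.normalizer (B : Set G))
    (hyp : IsPGroup p (Subgroup.zpowers y))
    (hfix : Nat.card (B ⊓ Subgroup.centralizer {y} : Subgroup G) = p) :
    ∀ b ∈ B, y * b * y⁻¹ * b⁻¹ ∈ B ⊓ Subgroup.centralizer {y} := by
  have hp : p.Prime := Fact.out
  have hconj : ∀ b ∈ B, y * b * y⁻¹ ∈ B := fun b hb => conj_mem_of_mem_normalizer hy hb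
  have hmem : ∀ b ∈ B, y * b * y⁻¹ * b⁻¹ ∈ B := fun b hb => B.mul_mem (hconj b hb) (B.inv_mem hb)
  let φ : ↥B →* ↥B := MonoidHom.mk' (fun b => ⟨y * (b : G) * y⁻¹ * (b : G)⁻¹, hmem b b.2⟩) (by
    intro a b
    apply Subtype.ext
    simp only [Subgroup.coe_mul]
    have h1 := hBc _ (B.inv_mem a.2) _ (hconj b b.2)
    have h2 := hBc _ (B.inv_mem a.2) _ (B.inv_mem b.2)
    calc y * ((a : G) * b) * y⁻¹ * ((a : G) * b)⁻¹
        = y * a * y⁻¹ * ((y * b * y⁻¹) * ((b : G)⁻¹ * (a : G)⁻¹)) := by group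
      _ = y * a * y⁻¹ * ((y * b * y⁻¹) * ((a : G)⁻¹ * (b : G)⁻¹)) := by rw [h2]
      _ = y * a * y⁻¹ * (((y * b * y⁻¹) * (a : G)⁻¹) * (b : G)⁻¹) := by group
      _ = y * a * y⁻¹ * (((a : G)⁻¹ * (y * b * y⁻¹)) * (b : G)⁻¹) := by rw [h1]
      _ = y * a * y⁻¹ * (a : G)⁻¹ * (y * b * y⁻¹ * (b : G)⁻¹) := by group)
  have hφ : ∀ b : ↥B, ((φ b : ↥B) : G) = y * (b : G) * y⁻¹ * (b : G)⁻¹ := fun b => rfl
  have hker : φ.ker = (B ⊓ Subgroup.centralizer {y}).subgroupOf B := by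
    ext b
    rw [MonoidHom.mem_ker, Subgroup.mem_subgroupOf, Subgroup.mem_inf,
      Subgroup.mem_centralizer_singleton_iff]
    constructor
    · intro hb
      have h1 : y * (b : G) * y⁻¹ * (b : G)⁻¹ = 1 := congrArg Subtype.val hb
      refine ⟨b.2, ?_⟩
      calc (b : G) * y = (y * (b : G) * y⁻¹ * (b : G)⁻¹)⁻¹ * (y * b) := by group
        _ = y * b := by rw [h1]; group
    · rintro ⟨-, hb⟩
      apply Subtype.ext
      show y * (b : G) * y⁻¹ * (b : G)⁻¹ = 1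
      rw [← hb]; group
  have hkercard : Nat.card φ.ker = p := by
    rw [hker, Nat.card_congr (Subgroup.subgroupOfEquivOfLe
      (inf_le_left : B ⊓ Subgroup.centralizer {y} ≤ B)).toEquiv, hfix]
  have hrange : Nat.card φ.range = p := by
    have h1 : Nat.card φ.ker * φ.ker.index = Nat.card ↥B := Subgroup.card_mul_index _
    rw [Subgroup.index_ker, hkercard, hB, sq] at h1
    exact Nat.eq_of_mul_eq_mul_left hp.pos h1
  -- the image as a subgroup of `G`
  have hIcard : Nat.card (φ.range.map B.subtype) = p := by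
    rw [Subgroup.card_map_of_injective B.subtype_injective, hrange]
  have hIy : Subgroup.zpowers y ≤ Subgroup.normalizer ((φ.range.map B.subtype : Subgroup G) : Set G) := by
    rw [Subgroup.zpowers_le]
    apply mem_normalizer_of_map_conj_eq
    apply Subgroup.eq_of_le_of_card_ge
    · rintro _ ⟨_, ⟨_, ⟨b, rfl⟩, rfl⟩, rfl⟩
      refine ⟨_, ⟨⟨y * (b : G) * y⁻¹, hconj b b.2⟩, rfl⟩, ?_⟩
      simp only [Subgroup.coe_subtype, hφ, MulEquiv.coe_toMonoidHom, MulAut.conj_apply]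
      group
    · exact (card_cj y _).ge
  have hcen := le_centralizer_of_le_normalizer_of_card_prime hyp hIcard hIy
  intro b hb
  refine Subgroup.mem_inf.mpr ⟨hmem b hb, ?_⟩
  rw [Subgroup.mem_centralizer_singleton_iff]
  have h1 : y * b * y⁻¹ * b⁻¹ ∈ φ.range.map B.subtype := ⟨_, ⟨⟨b, hb⟩, rfl⟩, rfl⟩
  exact (hcen (Subgroup.mem_zpowers y) _ h1)

/-- two distinct subgroups of order `p` of an elementary abelian group of order `p ^ 2`
generate it. -/
theorem sup_eq_of_card_prime_of_ne {B Y Z : Subgroup G} (hBe : IsElementaryAbelian p B)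
    (hB : Nat.card B = p ^ 2) (hYB : Y ≤ B) (hY : Nat.card Y = p) (hZB : Z ≤ B)
    (hZ : Nat.card Z = p) (hne : Y ≠ Z) : Y ⊔ Z = B :=
  (Cfsg.Agent.Lib.Helper9.Wielandt.e2_of_card hBe hB).sup ⟨Y, hYB, hY⟩ ⟨Z, hZB, hZ⟩
    (fun h => hne (congrArg Subtype.val h))

/-- Lemma D: a `p`-element acting nontrivially on `B ≅ E_{p²}` and fixing the line `Z` is
transitive on the other lines. -/
theorem exists_pow_cj_eq {B Z B₀ : Subgroup G} (hBe : IsElementaryAbelian p B)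
    (hB : Nat.card B = p ^ 2) (hZB : Z ≤ B) (hZ : Nat.card Z = p) (hB₀B : B₀ ≤ B)
    (hB₀ : Nat.card B₀ = p) (hne : B₀ ≠ Z) {y : G}
    (hyN : y ∈ Subgroup.normalizer (B : Set G)) (hyZ : y ∈ Subgroup.centralizer (Z : Set G))
    (hyB : y ∉ Subgroup.centralizer (B : Set G)) (hyp : IsPGroup p (Subgroup.zpowers y)) :
    ∀ Y : Subgroup G, Y ≤ B → Nat.card Y = p → Y ≠ Z → ∃ k : ℕ, Y = cj (y ^ k) B₀ := by
  have hp : p.Prime := Fact.out
  have hBc := Cfsg.Agent.Lib.Helper12.isElementaryAbelian_comm hBe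
  -- the fixed points of `y` on `B` are `Z`
  have hZF : Z ≤ B ⊓ Subgroup.centralizer {y} := by
    refine le_inf hZB (fun z hz => ?_)
    rw [Subgroup.mem_centralizer_singleton_iff]
    exact hyZ z hz
  have hFne : B ⊓ Subgroup.centralizer {y} ≠ B := by
    intro heq
    apply hyB
    rw [Subgroup.mem_centralizer_iff]
    intro b hb
    have h1 : b ∈ B ⊓ Subgroup.centralizer {y} := by rw [heq]; exact hb
    exact Subgroup.mem_centralizer_singleton_iff.mp (Subgroup.mem_inf.mp h1).2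
  have hFcard : Nat.card (B ⊓ Subgroup.centralizer {y} : Subgroup G) = p := by
    have h1 : Nat.card (B ⊓ Subgroup.centralizer {y} : Subgroup G) ∣ p ^ 2 :=
      hB ▸ Subgroup.card_dvd_of_le inf_le_left
    obtain ⟨k, hk2, hk⟩ := (Nat.dvd_prime_pow hp).mp h1
    have h2 : p ≤ Nat.card (B ⊓ Subgroup.centralizer {y} : Subgroup G) :=
      hZ ▸ Subgroup.card_le_of_le hZF
    have hk0 : k ≠ 0 := by
      rintro rfl
      rw [hk, pow_zero] at h2
      exact absurd h2 (not_le.mpr hp.one_lt)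
    have hk2' : k ≠ 2 := by
      rintro rfl
      exact hFne (Subgroup.eq_of_le_of_card_ge inf_le_left (by rw [hk, hB]))
    have hk1 : k = 1 := by omega
    rw [hk, hk1, pow_one]
  have hFZ : B ⊓ Subgroup.centralizer {y} = Z :=
    (Subgroup.eq_of_le_of_card_ge hZF (by rw [hFcard, hZ])).symm
  -- a generator of `B₀`
  obtain ⟨b₀, hb₀, hb₀1⟩ := exists_ne_one_of_ne_bot (ne_bot_of_card_prime hB₀)
  have hB₀z := eq_zpowers_of_card_prime hB₀ hb₀ hb₀1
  have hb₀Z : b₀ ∉ Z := by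
    intro h
    apply hne
    apply Subgroup.eq_of_le_of_card_ge _ (by rw [hB₀, hZ])
    rw [hB₀z]
    exact Subgroup.zpowers_le.mpr h
  have hcF := commutator_mem_fixed hBc hB hyN hyp hFcard b₀ (hB₀B hb₀)
  rw [hFZ] at hcF
  have hc1 : y * b₀ * y⁻¹ * b₀⁻¹ ≠ 1 := by
    intro h1
    apply hb₀Z
    rw [← hFZ]
    refine Subgroup.mem_inf.mpr ⟨hB₀B hb₀, ?_⟩
    rw [Subgroup.mem_centralizer_singleton_iff]
    calc b₀ * y = (y * b₀ * y⁻¹ * b₀⁻¹)⁻¹ * (y * b₀) := by group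
      _ = y * b₀ := by rw [h1]; group
  have hZc := eq_zpowers_of_card_prime hZ hcF hc1
  -- the action of the powers of `y`
  have hyc : ∀ k : ℕ, y * (y * b₀ * y⁻¹ * b₀⁻¹) ^ k * y⁻¹ = (y * b₀ * y⁻¹ * b₀⁻¹) ^ k := by
    intro k
    have h1 : (y * b₀ * y⁻¹ * b₀⁻¹) ^ k * y = y * (y * b₀ * y⁻¹ * b₀⁻¹) ^ k :=
      hyZ _ (Z.pow_mem hcF k)
    rw [← h1]; group
  have hpow : ∀ k : ℕ, y ^ k * b₀ * (y ^ k)⁻¹ = b₀ * (y * b₀ * y⁻¹ * b₀⁻¹) ^ k := by
    intro k
    induction k with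
    | zero => simp
    | succ k ih =>
      have h1 : y ^ (k + 1) * b₀ * (y ^ (k + 1))⁻¹ = y * (y ^ k * b₀ * (y ^ k)⁻¹) * y⁻¹ := by
        rw [pow_succ']; group
      have h2 := hBc _ (hZB hcF) _ (hB₀B hb₀)
      rw [h1, ih]
      calc y * (b₀ * (y * b₀ * y⁻¹ * b₀⁻¹) ^ k) * y⁻¹
          = (y * b₀ * y⁻¹ * b₀⁻¹) * b₀ * (y * (y * b₀ * y⁻¹ * b₀⁻¹) ^ k * y⁻¹) := by group
        _ = b₀ * (y * b₀ * y⁻¹ * b₀⁻¹) * (y * b₀ * y⁻¹ * b₀⁻¹) ^ k := by rw [hyc k, h2]
        _ = b₀ * (y * b₀ * y⁻¹ * b₀⁻¹) ^ (k + 1) := by rw [pow_succ', mul_assoc]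
  -- the other lines
  intro Y hYB hY hYZ
  have hsup := sup_eq_of_card_prime_of_ne hBe hB hYB hY hZB hZ hYZ
  have hb₀sup : b₀ ∈ Y ⊔ Z := hsup ▸ hB₀B hb₀
  obtain ⟨u, hu, z', hz', hb₀eq⟩ :=
    mem_sup_of_commute' (fun a ha b hb => hBc a (hYB ha) b (hZB hb)) hb₀sup
  have hz'inv : z'⁻¹ ∈ Subgroup.zpowers (y * b₀ * y⁻¹ * b₀⁻¹) := hZc ▸ Z.inv_mem hz'
  rw [← mem_powers_iff_mem_zpowers] at hz'inv
  obtain ⟨k, hk⟩ := (Submonoid.mem_powers_iff _ _).mp hz'inv
  have hu_eq : u = y ^ k * b₀ * (y ^ k)⁻¹ := by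
    rw [hpow k, hk, hb₀eq]; group
  have hu1 : u ≠ 1 := by
    rintro rfl
    rw [one_mul] at hb₀eq
    exact hb₀Z (hb₀eq ▸ hz')
  refine ⟨k, ?_⟩
  have hucj : u ∈ cj (y ^ k) B₀ := hu_eq ▸ conj_mem_cj hb₀
  rw [eq_zpowers_of_card_prime hY hu hu1,
    eq_zpowers_of_card_prime (by rw [card_cj, hB₀]) hucj hu1]

end Unipotent

end Cfsg.Agent.Lib.Helper9.BGExc
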