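import Mathlib
import Cfsg.Agent.Lib.Helper9.BGExc4
import Cfsg.Agent.Lib.Helper23.WardBasic

/-!
# Helper9 library: exceptional maximal subgroups, part 5

Theorem 11.4 (Sylow `p`-subgroups of an exceptional maximal subgroup are abelian), modulo the
`p`-group facts (PG) about a Sylow `p`-subgroup of `G`, and modulo `M_σ ≠ 1`.
-/

set_option autoImplicit false
set_option linter.style.haveILetI false
set_option linter.unusedSectionVars false

open Cfsg
open scoped commutatorElement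
open Cfsg.Agent.Lib.Helper10.BG
open Cfsg.Agent.Lib.Helper1 (CoprimeAct)

namespace Cfsg.Agent.Lib.Helper9.BGExc

variable {G : Type*} [Group G]

section Aux

variable [Finite G] {p : ℕ} [Fact p.Prime]

/-- a proper subgroup of order at least `p` of a group of order `p ^ 2` has order `p`. -/
theorem card_eq_prime_of_le_of_ne {B X : Subgroup G} (hB : Nat.card B = p ^ 2) (hXB : X ≤ B)
    (hX : p ≤ Nat.card X) (hne : X ≠ B) : Nat.card X = p := by
  have hp : p.Prime := Fact.out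
  have h1 : Nat.card X ∣ p ^ 2 := hB ▸ Subgroup.card_dvd_of_le hXB
  obtain ⟨k, hk2, hk⟩ := (Nat.dvd_prime_pow hp).mp h1
  have hk0 : k ≠ 0 := by
    rintro rfl
    rw [hk, pow_zero] at hX
    exact absurd hX (not_le.mpr hp.one_lt)
  have hk2' : k ≠ 2 := by
    rintro rfl
    exact hne (Subgroup.eq_of_le_of_card_ge hXB (by rw [hk, hB]))
  have hk1 : k = 1 := by omega
  rw [hk, hk1, pow_one]

theorem prime_le_card_of_ne_bot {X : Subgroup G} (hX : IsPGroup p X) (hX1 : X ≠ ⊥) :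
    p ≤ Nat.card X := by
  have hp : p.Prime := Fact.out
  obtain ⟨n, hn⟩ := hX.exists_card_eq
  have hn0 : n ≠ 0 := by
    rintro rfl
    rw [pow_zero] at hn
    exact hX1 (Subgroup.card_eq_one.mp hn)
  rw [hn]
  calc p = p ^ 1 := (pow_one p).symm
    _ ≤ p ^ n := Nat.pow_le_pow_right hp.pos (Nat.one_le_iff_ne_zero.mpr hn0)

end Aux

section Thm114

variable [Finite G] {p : ℕ} [Fact p.Prime] {M A₀ A : Subgroup G}

/-- **Theorem 11.4**, core: given the `p`-group facts about a Sylow `p`-subgroup `S ≥ P` of `G`,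
the Sylow `p`-subgroup `P ≥ A` of `M` is abelian. -/
theorem Exc.sylow_comm_aux (hG : IsMinSimpleOddOrder G) (h : Exc M p A₀ A)
    (hF0 : sigmaCore M ≠ ⊥) {P S : Subgroup G} (hP : IsSylowIn p P M) (hAP : A ≤ P)
    (hS : IsSylowIn p S ⊤) (hPS : P ≤ S) (hZ : Nat.card (omegaZ p S) = p)
    (hC : ∀ u ∈ S ⊓ Subgroup.centralizer (A : Set G),
      ∀ v ∈ S ⊓ Subgroup.centralizer (A : Set G), u * v = v * u) :
    ∀ u ∈ P, ∀ v ∈ P, u * v = v * u := by
  have hp : p.Prime := Fact.out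
  have hM := h.coatom
  have hmax := h.maxEA hG
  by_contra hnab
  have hnc : ¬ P ≤ Subgroup.centralizer (A : Set G) := fun hle =>
    hnab (fun u hu v hv => hC u (Subgroup.mem_inf.mpr ⟨hPS hu, hle hu⟩) v
      (Subgroup.mem_inf.mpr ⟨hPS hv, hle hv⟩))
  have hAS : A ≤ S := hAP.trans hPS
  -- `Z = Ω₁(Z(S)) = Ω₁(Z(P))`
  have hZA : omegaZ p S ≤ A := fun z hz =>
    hmax.mem_of_mem_centralizer (Subgroup.centralizer_le hAS hz.2.1) hz.2.2
  have hZP : omegaZ p P ≤ A := fun z hz =>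
    hmax.mem_of_mem_centralizer (Subgroup.centralizer_le hAP hz.2.1) hz.2.2
  have hZZP : omegaZ p S ≤ omegaZ p P := fun z hz =>
    ⟨hAP (hZA hz), Subgroup.centralizer_le hPS hz.2.1, hz.2.2⟩
  have hZPne : omegaZ p P ≠ A := by
    intro heq
    apply hnc
    apply le_centralizer_symm
    rw [← heq]
    exact omegaZ_le_centralizer p P
  have hZPcard : Nat.card (omegaZ p P) = p :=
    card_eq_prime_of_le_of_ne h.card hZP (hZ.symm.le.trans (Subgroup.card_le_of_le hZZP)) hZPne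
  have hZeq : omegaZ p S = omegaZ p P :=
    Subgroup.eq_of_le_of_card_ge hZZP (by rw [hZ, hZPcard])
  have hZ1 : omegaZ p S ≠ ⊥ := ne_bot_of_card_prime hZ
  have hZp : IsPGroup p (omegaZ p S) := IsPGroup.of_card (n := 1) (by rw [hZ, pow_one])
  have hNPZ : Subgroup.normalizer (P : Set G) ≤
      Subgroup.normalizer ((omegaZ p S : Subgroup G) : Set G) := by
    rw [hZeq]
    exact normalizer_le_normalizer_omegaZ p P
  -- `x ∈ N_G(P) \ M`
  obtain ⟨x, hxP, hxM⟩ :=
    Cfsg.Agent.Lib.Helper9.BG10.exists_normalizer_not_mem h.notσ h.dvd_card hP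
  -- the maximal subgroup `H ≥ N_G(Z)`
  have hNZ : Subgroup.normalizer ((omegaZ p S : Subgroup G) : Set G) ≠ ⊤ :=
    Cfsg.Agent.Lib.Lead.BGTrans.normalizer_ne_top hG.2 hZ1
      (Cfsg.Agent.Lib.Lead.BGTrans.pgroup_ne_top hG.2 hZp)
  obtain ⟨H, hH, hNH⟩ := exists_isCoatom_ge hNZ
  have hHM : H ≠ M := fun heq => hxM (heq ▸ hNH (hNPZ hxP))
  have hSH : S ≤ H :=
    ((le_centralizer_omegaZ p S).trans (Subgroup.centralizer_le_normalizer _)).trans hNH
  have hNSH : Subgroup.normalizer (S : Set G) ≤ H :=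
    (normalizer_le_normalizer_omegaZ p S).trans hNH
  have hAH : A ≤ H := hAS.trans hSH
  have hSsylH : IsSylowIn p S H := hS.of_le hSH le_top
  have hpσH : p ∈ sigma H := by
    refine ⟨hp, (h.card ▸ (dvd_pow_self p two_ne_zero : p ∣ p ^ 2)).trans
      (Subgroup.card_dvd_of_le hAH), hSsylH.toSylow, ?_⟩
    have h1 : ((hSsylH.toSylow : Sylow p ↥H) : Subgroup H).map H.subtype = S := by
      rw [hSsylH.coe_toSylow, Subgroup.map_subgroupOf_eq_of_le hSH]
    rw [h1]
    exact hNSH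
  have hPHσ : P ≤ sigmaCore H :=
    pgroup_le_sigmaCore hG hH hpσH hP.isPGroup (hPS.trans hSH)
  have hE4 : sigmaCore M ⊓ sigmaCore H = ⊥ := by
    by_contra hne
    exact hHM (h.E4 hG hH hAH hne)
  -- `P` centralizes `M_σ ∩ H`
  have hPD : ∀ d ∈ sigmaCore M ⊓ H, ∀ u ∈ P, d * u = u * d := by
    intro d hd u hu
    obtain ⟨hdσ, hdH⟩ := Subgroup.mem_inf.mp hd
    have h1 : d * u * d⁻¹ * u⁻¹ ∈ sigmaCore M := by
      have h2 : u * d⁻¹ * u⁻¹ ∈ sigmaCore M :=
        conj_mem_of_mem_normalizer (le_normalizer_sigmaCore M (hP.le hu)) (inv_mem hdσ)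
      have h3 : d * u * d⁻¹ * u⁻¹ = d * (u * d⁻¹ * u⁻¹) := by group
      rw [h3]
      exact mul_mem hdσ h2
    have h2 : d * u * d⁻¹ * u⁻¹ ∈ sigmaCore H :=
      mul_mem (conj_mem_of_mem_normalizer (le_normalizer_sigmaCore H hdH) (hPHσ hu))
        (inv_mem (hPHσ hu))
    have h3 : d * u * d⁻¹ * u⁻¹ ∈ sigmaCore M ⊓ sigmaCore H := Subgroup.mem_inf.mpr ⟨h1, h2⟩
    rw [hE4, Subgroup.mem_bot] at h3
    calc d * u = (d * u * d⁻¹ * u⁻¹) * (u * d) := by group
      _ = u * d := by rw [h3, one_mul]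
  -- `C_{M_σ}(P) = 1`
  obtain ⟨-, hreg, hxA₀P, hxAP⟩ := h.E2' hG hP hAP hxP hxM
  have hCP : sigmaCore M ⊓ Subgroup.centralizer (P : Set G) = ⊥ := by
    rw [eq_bot_iff, ← hreg]
    exact le_inf inf_le_left (inf_le_right.trans (Subgroup.centralizer_le hxA₀P))
  have hCZ : sigmaCore M ⊓ Subgroup.centralizer ((omegaZ p S : Subgroup G) : Set G) = ⊥ := by
    rw [eq_bot_iff, ← hCP]
    intro d hd
    obtain ⟨hdσ, hdZ⟩ := Subgroup.mem_inf.mp hd
    refine Subgroup.mem_inf.mpr ⟨hdσ, ?_⟩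
    rw [Subgroup.mem_centralizer_iff]
    intro u hu
    exact (hPD d (Subgroup.mem_inf.mpr ⟨hdσ, hNH (Subgroup.centralizer_le_normalizer _ hdZ)⟩)
      u hu).symm
  -- the group `B = A^x`
  have hBmax : MaxEA p (cj x A) := hmax.conj x
  have hBcard : Nat.card (cj x A) = p ^ 2 := by rw [card_cj, h.card]
  have hZB : omegaZ p S ≤ cj x A := by
    have h1 : cj x (omegaZ p S) = omegaZ p S := cj_eq_self_of_mem_normalizer (hNPZ hxP)
    rw [← h1]
    exact cj_mono x hZA
  have hB₀B : cj x A₀ ≤ cj x A := cj_mono x h.le₀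
  have hB₀card : Nat.card (cj x A₀) = p := by rw [card_cj, h.card₀]
  have hB₀ne : cj x A₀ ≠ omegaZ p S := by
    intro heq
    have h1 : x ∈ Subgroup.normalizer ((cj x A₀ : Subgroup G) : Set G) := heq ▸ hNPZ hxP
    rw [normalizer_cj, mem_cj] at h1
    have h2 : x⁻¹ * x * x = x := by group
    rw [h2] at h1
    exact hxM (h.norm h1)
  have hncB : ¬ P ≤ Subgroup.centralizer ((cj x A : Subgroup G) : Set G) := by
    intro hle
    apply hnc
    have h1 := cj_mono x⁻¹ hle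
    rw [centralizer_cj, cj_inv_cj, cj_eq_self_of_mem_normalizer (inv_mem hxP)] at h1
    exact h1
  obtain ⟨y, hyP, hyN, hyC⟩ := hBmax.exists_normalizer_not_centralizer hP.isPGroup hxAP hncB
  have hyZ : y ∈ Subgroup.centralizer ((omegaZ p S : Subgroup G) : Set G) :=
    le_centralizer_omegaZ p S (hPS hyP)
  have hyp : IsPGroup p (Subgroup.zpowers y) := hP.isPGroup.to_le (Subgroup.zpowers_le.mpr hyP)
  have hlines := exists_pow_cj_eq hBmax.1 hBcard hZB hZ hB₀B hB₀card hB₀ne hyN hyZ hyC hyp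
  -- every line of `B` acts regularly on `M_σ`
  have hallreg : ∀ Y : Subgroup G, Y ≤ cj x A → Nat.card Y = p →
      sigmaCore M ⊓ Subgroup.centralizer (Y : Set G) = ⊥ := by
    intro Y hYB hY
    by_cases hYZ : Y = omegaZ p S
    · rw [hYZ]; exact hCZ
    · obtain ⟨k, hk⟩ := hlines Y hYB hY hYZ
      have hykP : y ^ k ∈ P := P.pow_mem hyP k
      have hw : y ^ k * x ∈ Subgroup.normalizer (P : Set G) :=
        mul_mem (Subgroup.le_normalizer hykP) hxP
      have hwM : y ^ k * x ∉ M := by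
        intro hmem
        apply hxM
        have h1 := M.mul_mem (M.inv_mem (hP.le hykP)) hmem
        rwa [inv_mul_cancel_left] at h1
      obtain ⟨-, hreg', -, -⟩ := h.E2' hG hP hAP hw hwM
      rw [hk, cj_cj]
      exact hreg'
  -- coprime generation
  have hBM : cj x A ≤ M := hxAP.trans hP.le
  have hBc := Cfsg.Agent.Lib.Helper12.isElementaryAbelian_comm hBmax.1
  have hgen := Cfsg.Agent.Lib.Helper23.Ward.eq_iSup_centralizer hp hBc hBmax.1.2 hBcard
    (hBM.trans (le_normalizer_sigmaCore M))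
    (fun hd => h.notσ (mem_sigma_of_dvd_card_sigmaCore hG hM hp hd))
  apply hF0
  rw [hgen]
  apply iSup_eq_bot.mpr
  rintro ⟨b, hbB, hb1⟩
  have hYcard : Nat.card (Subgroup.zpowers b) = p := by
    rw [Nat.card_zpowers]
    have h1 : orderOf b ∣ p := orderOf_dvd_of_pow_eq_one (hBmax.1.2 b hbB)
    rcases (Nat.dvd_prime hp).mp h1 with h2 | h2
    · exact absurd (orderOf_eq_one_iff.mp h2) hb1
    · exact h2
  have h1 := hallreg (Subgroup.zpowers b) (Subgroup.zpowers_le.mpr hbB) hYcard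
  rw [centralizer_zpowers] at h1
  exact h1

end Thm114

end Cfsg.Agent.Lib.Helper9.BGExc
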