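import Mathlib
import Cfsg.Agent.Lib.Helper9.BGExc5

/-!
# Helper9 library: exceptional maximal subgroups, part 6

Corollary 11.5: consequences of Theorem 11.4 (stated against the hypothesis `Thm114 G`).
-/

set_option autoImplicit false
set_option linter.style.haveILetI false
set_option linter.unusedSectionVars false

open Cfsg
open scoped commutatorElement
open Cfsg.Agent.Lib.Helper10.BG
open Cfsg.Agent.Lib.Helper1 (CoprimeAct)

namespace Cfsg.Agent.Lib.Helper9.BGExc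

variable {G : Type*} [Group G]

/-- the statement of Theorem 11.4, for all exceptional configurations of `G`. -/
def Thm114 (G : Type*) [Group G] : Prop :=
  ∀ (M : Subgroup G) (p : ℕ) (A₀ A P : Subgroup G), p.Prime → Exc M p A₀ A → IsSylowIn p P M →
    ∀ u ∈ P, ∀ v ∈ P, u * v = v * u

section Odd

theorem mem_of_sq_mem_of_odd [Finite G] (hodd : Odd (Nat.card G)) {H : Subgroup G} {x : G}
    (h : x ^ 2 ∈ H) : x ∈ H := by
  have h1 : Odd (orderOf x) := Odd.of_dvd_nat hodd (orderOf_dvd_natCard x)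
  obtain ⟨k, hk⟩ := h1
  have h2 : x = (x ^ 2) ^ (k + 1) := by
    rw [← pow_mul]
    have h3 : 2 * (k + 1) = orderOf x + 1 := by omega
    rw [h3, pow_succ, pow_orderOf_eq_one, one_mul]
  rw [h2]
  exact H.pow_mem h _

end Odd

section Cor115

variable [Finite G] {p : ℕ} [Fact p.Prime] {M A₀ A : Subgroup G}

/-- 11.5(a): `A = Ω₁(P)`. -/
theorem Exc.mem_iff_of_sylow (hG : IsMinSimpleOddOrder G) (h114 : Thm114 G) (h : Exc M p A₀ A)
    {P : Subgroup G} (hP : IsSylowIn p P M) (hAP : A ≤ P) : ∀ x ∈ P, x ^ p = 1 ↔ x ∈ A := by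
  intro x hx
  constructor
  · intro hxp
    apply (h.maxEA hG).mem_of_mem_centralizer _ hxp
    rw [Subgroup.mem_centralizer_iff]
    intro a ha
    exact h114 M p A₀ A P Fact.out h hP a (hAP ha) x hx
  · intro hxA
    exact h.elem.2 x hxA

/-- 11.5(b): `N_G(P) ≤ N_G(A)`. -/
theorem Exc.normalizer_sylow_le (hG : IsMinSimpleOddOrder G) (h114 : Thm114 G)
    (h : Exc M p A₀ A) {P : Subgroup G} (hP : IsSylowIn p P M) (hAP : A ≤ P) :
    Subgroup.normalizer (P : Set G) ≤ Subgroup.normalizer (A : Set G) := by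
  have hiff := h.mem_iff_of_sylow hG h114 hP hAP
  intro g hg
  apply mem_normalizer_of_map_conj_eq
  apply Subgroup.eq_of_le_of_card_ge _ (card_cj g A).ge
  rintro _ ⟨a, ha, rfl⟩
  have h1 : g * a * g⁻¹ ∈ P := conj_mem_of_mem_normalizer hg (hAP ha)
  apply (hiff _ h1).mp
  have h2 : (g * a * g⁻¹) ^ p = g * a ^ p * g⁻¹ := conj_pow
  show (g * a * g⁻¹) ^ p = 1
  rw [h2, h.elem.2 a ha]
  group

/-- 11.5(c): `N_G(A)` is not contained in `M`. -/
theorem Exc.normalizer_not_le (hG : IsMinSimpleOddOrder G) (h114 : Thm114 G)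
    (h : Exc M p A₀ A) : ¬ Subgroup.normalizer (A : Set G) ≤ M := by
  obtain ⟨P, hP, hAP⟩ := exists_isSylowIn_ge h.le h.isPGroup
  obtain ⟨x, hxP, hxM⟩ :=
    Cfsg.Agent.Lib.Helper9.BG10.exists_normalizer_not_mem h.notσ h.dvd_card hP
  exact fun hle => hxM (hle (h.normalizer_sylow_le hG h114 hP hAP hxP))

/-- (E2) for elements of `N_G(A) \ M`. -/
theorem Exc.E2A (hG : IsMinSimpleOddOrder G) (h : Exc M p A₀ A) {x : G}
    (hxA : x ∈ Subgroup.normalizer (A : Set G)) (hxM : x ∉ M) :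
    sigmaCore M ⊓ cj x M = ⊥ ∧
      sigmaCore M ⊓ Subgroup.centralizer ((cj x A₀ : Subgroup G) : Set G) = ⊥ ∧ cj x A₀ ≤ A := by
  have hAx : A ≤ cj x M := by
    rw [← cj_eq_self_of_mem_normalizer hxA]
    exact cj_mono x h.le
  have h1 := h.E1 hG hxM hAx
  refine ⟨h1, ?_, ?_⟩
  · rw [eq_bot_iff, ← h1]
    refine le_inf inf_le_left (inf_le_right.trans ?_)
    refine (Subgroup.centralizer_le_normalizer _).trans ?_
    rw [normalizer_cj]
    exact cj_mono x h.norm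
  · rw [← cj_eq_self_of_mem_normalizer hxA]
    exact cj_mono x h.le₀

/-- 11.5(e): two distinct regular subgroups of order `p` of `A`. -/
theorem Exc.exists_two_regular (hG : IsMinSimpleOddOrder G) (h114 : Thm114 G)
    (h : Exc M p A₀ A) :
    ∃ A₁ A₂ : Subgroup G, A₁ ≤ A ∧ A₂ ≤ A ∧ Nat.card A₁ = p ∧ Nat.card A₂ = p ∧ A₁ ≠ A₂ ∧
      A₁ ⊔ A₂ = A ∧ sigmaCore M ⊓ Subgroup.centralizer (A₁ : Set G) = ⊥ ∧
      sigmaCore M ⊓ Subgroup.centralizer (A₂ : Set G) = ⊥ := by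
  obtain ⟨P, hP, hAP⟩ := exists_isSylowIn_ge h.le h.isPGroup
  obtain ⟨x, hxP, hxM⟩ :=
    Cfsg.Agent.Lib.Helper9.BG10.exists_normalizer_not_mem h.notσ h.dvd_card hP
  have hxA := h.normalizer_sylow_le hG h114 hP hAP hxP
  have hx'A : x⁻¹ ∈ Subgroup.normalizer (A : Set G) := inv_mem hxA
  have hx'M : x⁻¹ ∉ M := fun hmem => hxM (by simpa using M.inv_mem hmem)
  obtain ⟨-, hr1, hle1⟩ := h.E2A hG hxA hxM
  obtain ⟨-, hr2, hle2⟩ := h.E2A hG hx'A hx'M
  have hc1 : Nat.card (cj x A₀) = p := by rw [card_cj, h.card₀]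
  have hc2 : Nat.card (cj x⁻¹ A₀) = p := by rw [card_cj, h.card₀]
  have hne : cj x A₀ ≠ cj x⁻¹ A₀ := by
    intro heq
    have h1 : cj (x ^ 2) A₀ = A₀ := by
      have h2 := congrArg (cj x) heq
      rw [cj_cj, cj_cj, mul_inv_cancel, cj_one] at h2
      rw [sq]
      exact h2
    have h3 : x ^ 2 ∈ M := h.norm (mem_normalizer_of_map_conj_eq h1)
    exact hxM (mem_of_sq_mem_of_odd hG.1 h3)
  exact ⟨_, _, hle1, hle2, hc1, hc2, hne,
    sup_eq_of_card_prime_of_ne h.elem h.card hle1 hc1 hle2 hc2 hne, hr1, hr2⟩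

/-- 11.5(f): `C_{M_σ}(A) = 1`. -/
theorem Exc.centralizer_regular (hG : IsMinSimpleOddOrder G) (h114 : Thm114 G)
    (h : Exc M p A₀ A) : sigmaCore M ⊓ Subgroup.centralizer (A : Set G) = ⊥ := by
  obtain ⟨A₁, -, hA₁, -, -, -, -, -, hr, -⟩ := h.exists_two_regular hG h114
  rw [eq_bot_iff, ← hr]
  exact le_inf inf_le_left (inf_le_right.trans (Subgroup.centralizer_le hA₁))

end Cor115

end Cfsg.Agent.Lib.Helper9.BGExc
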