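import Mathlib
import Cfsg.Agent.Lib.Helper9.BGExc6
import Cfsg.Agent.Lib.Helper1.Hall
import Cfsg.Agent.Lib.Helper10.FittingHall
import Cfsg.Agent.Lib.Helper10.BGNine

/-!
# Helper9 library: exceptional maximal subgroups, part 7

Complements of `M_σ` in `M`; Theorem 11.7, first half: if `A` centralizes `O_{p'}(E)` for a
complement `E ≥ A` of `M_σ`, then `M` normalizes `M_σ A`.
-/

set_option autoImplicit false
set_option linter.style.haveILetI false
set_option linter.unusedSectionVars false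

open Cfsg
open scoped commutatorElement
open Cfsg.Agent.Lib.Helper10.BG
open Cfsg.Agent.Lib.Helper1 (CoprimeAct)

namespace Cfsg.Agent.Lib.Helper9.BGExc

variable {G : Type*} [Group G]

section Compl

variable [Finite G]

/-- a subgroup `E` normalizing `N`, of coprime order, with `|E| |N| = |M|`, is a complement. -/
theorem isComplIn_of_card {E N M : Subgroup G} (hE : E ≤ M) (hN : N ≤ M)
    (hnorm : E ≤ Subgroup.normalizer (N : Set G)) (hcop : (Nat.card E).Coprime (Nat.card N))
    (hcard : Nat.card E * Nat.card N = Nat.card M) : IsComplIn E N M := by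
  have hinf : E ⊓ N = ⊥ := inf_eq_bot_of_coprime hcop
  have h1 := Cfsg.H5.card_sup_mul_card_inf hnorm
  rw [hinf, Subgroup.card_bot, mul_one] at h1
  have hsup : E ⊔ N = M :=
    Subgroup.eq_of_le_of_card_ge (sup_le hE hN) (by rw [h1, hcard])
  refine ⟨hE, hN, hinf, fun m hm => ?_⟩
  have hm' : m⁻¹ ∈ N ⊔ E := by rw [sup_comm, hsup]; exact M.inv_mem hm
  obtain ⟨n, hn, e, he, hne⟩ := exists_mul_of_mem_sup_of_le_normalizer hnorm hm'
  refine ⟨e⁻¹, E.inv_mem he, n⁻¹, N.inv_mem hn, ?_⟩
  have : m = (m⁻¹)⁻¹ := (inv_inv m).symm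
  rw [this, hne, mul_inv_rev]

theorem IsComplIn.sup_eq {E N M : Subgroup G} (h : IsComplIn E N M) : E ⊔ N = M := by
  apply le_antisymm (sup_le h.1 h.2.1)
  intro m hm
  obtain ⟨a, ha, b, hb, rfl⟩ := h.2.2.2 m hm
  exact mul_mem (Subgroup.mem_sup_left ha) (Subgroup.mem_sup_right hb)

/-- complements of `M_σ` containing a given subgroup of order prime to `|M_σ|`. -/
theorem exists_isComplIn_sigmaCore_ge (hG : IsMinSimpleOddOrder G) {M : Subgroup G}
    (hM : IsCoatom M) {X : Subgroup G} (hXM : X ≤ M)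
    (hX : (Nat.card X).Coprime (Nat.card (sigmaCore M))) :
    ∃ E : Subgroup G, IsComplIn E (sigmaCore M) M ∧ X ≤ E := by
  haveI : Group.IsSolvable M := isSolvable_of_ne_top hG hM.1
  have hHall := (Cfsg.Agent.S1350.result hG M hM).1
  have hle := sigmaCore_le M
  have hcardM : Nat.card M = (sigmaCore M).relIndex M * Nat.card (sigmaCore M) := by
    rw [mul_comm]; exact (Cfsg.Agent.Lib.Helper12.card_mul_relIndex_eq hle).symm
  have hcop : ((sigmaCore M).relIndex M).Coprime (Nat.card (sigmaCore M)) := by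
    apply Nat.coprime_of_dvd
    intro k hk hk1 hk2
    exact hHall.2.2 k hk (hHall.2.1 k hk hk2) hk1
  have hXcard : (Nat.card (X.subgroupOf M)).Coprime (Nat.card (sigmaCore M)) := by
    rw [Nat.card_congr (Subgroup.subgroupOfEquivOfLe hXM).toEquiv]; exact hX
  obtain ⟨H, hHcard, hXH⟩ := Cfsg.Agent.Lib.Helper1.hall_dominance (G := M) _ _ hcardM hcop
    (X.subgroupOf M) hXcard
  have hEcard : Nat.card (H.map M.subtype) = (sigmaCore M).relIndex M := by
    rw [Subgroup.card_map_of_injective M.subtype_injective, hHcard]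
  refine ⟨H.map M.subtype, ?_, ?_⟩
  · apply isComplIn_of_card (Subgroup.map_subtype_le H) hle
      ((Subgroup.map_subtype_le H).trans (le_normalizer_sigmaCore M))
    · rw [hEcard]; exact hcop
    · rw [hEcard, ← hcardM]
  · intro x hx
    exact ⟨⟨x, hXM hx⟩, hXH (Subgroup.mem_subgroupOf.mpr hx), rfl⟩

theorem IsComplIn.coprime_sigmaCore (hG : IsMinSimpleOddOrder G) {M E : Subgroup G}
    (hM : IsCoatom M) (hE : IsComplIn E (sigmaCore M) M) :
    (Nat.card E).Coprime (Nat.card (sigmaCore M)) := by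
  have hHall := (Cfsg.Agent.S1350.result hG M hM).1
  have hcard := Cfsg.Agent.Lib.Helper10.IsComplIn.card_eq hE
  have h1 := Cfsg.Agent.Lib.Helper12.card_mul_relIndex_eq (sigmaCore_le M)
  have h2 : Nat.card E = (sigmaCore M).relIndex M := by
    have h3 : Nat.card (sigmaCore M) * (sigmaCore M).relIndex M =
        Nat.card (sigmaCore M) * Nat.card E := by rw [h1, hcard, mul_comm]
    exact (Nat.eq_of_mul_eq_mul_left Nat.card_pos h3).symm
  rw [h2]
  apply Nat.coprime_of_dvd
  intro k hk hk1 hk2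
  exact hHall.2.2 k hk (hHall.2.1 k hk hk2) hk1

/-- a Sylow `q`-subgroup of a complement `E` is a Sylow `q`-subgroup of `M`, for `q ∉ σ(M)`. -/
theorem IsComplIn.isSylowIn (hG : IsMinSimpleOddOrder G) {M E : Subgroup G}
    (hM : IsCoatom M) (hE : IsComplIn E (sigmaCore M) M) {q : ℕ} [Fact q.Prime]
    (hq : q ∉ sigma M) {Q : Subgroup G} (hQ : IsSylowIn q Q E) : IsSylowIn q Q M := by
  apply hQ.of_not_dvd_relIndex hE.1
  intro hd
  have hcard := Cfsg.Agent.Lib.Helper10.IsComplIn.card_eq hE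
  have h1 := Cfsg.Agent.Lib.Helper12.card_mul_relIndex_eq hE.1
  have h2 : E.relIndex M = Nat.card (sigmaCore M) := by
    have h3 : Nat.card E * E.relIndex M = Nat.card E * Nat.card (sigmaCore M) := by
      rw [h1, hcard]
    exact Nat.eq_of_mul_eq_mul_left Nat.card_pos h3
  rw [h2] at hd
  exact hq (mem_sigma_of_dvd_card_sigmaCore hG hM Fact.out hd)

end Compl

section Thm117a

variable [Finite G] {p : ℕ} [Fact p.Prime] {M A₀ A : Subgroup G}

/-- Theorem 11.7, first half: if `A` centralizes `O_{p'}(E)` then `E` normalizes `A` and `M`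
normalizes `M_σ A`. -/
theorem Exc.normal_of_centralizes (hG : IsMinSimpleOddOrder G) (h114 : Thm114 G)
    (h : Exc M p A₀ A) {E : Subgroup G} (hE : IsComplIn E (sigmaCore M) M) (hAE : A ≤ E)
    (hcen : A ≤ Subgroup.centralizer ((ppCoreOf p E : Subgroup G) : Set G)) :
    E ≤ Subgroup.normalizer (A : Set G) ∧
      M ≤ Subgroup.normalizer ((sigmaCore M ⊔ A : Subgroup G) : Set G) := by
  have hM := h.coatom
  have hEM := hE.1
  have hEtop : E ≠ ⊤ := fun htop => hM.1 (top_le_iff.mp (htop ▸ hEM))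
  obtain ⟨P, hP, hAP⟩ := exists_isSylowIn_ge hAE h.isPGroup
  have hPM : IsSylowIn p P M := IsComplIn.isSylowIn hG hM hE h.notσ hP
  have hNPA := h.normalizer_sylow_le hG h114 hPM hAP
  have hpE : p ∣ Nat.card E :=
    (dvd_pow_self p two_ne_zero).trans (h.card ▸ Subgroup.card_dvd_of_le hAE)
  have hrE : PRankLE p 2 ↥E := by
    intro B hBc hBe
    have h1 := (h.rank hG).1 (B.map (Subgroup.inclusion hEM))
      (Cfsg.Agent.Lib.Helper10.isMulCommutative_map' _ hBc) (by
        rintro _ ⟨b, hb, rfl⟩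
        rw [← map_pow, hBe b hb, map_one])
    rwa [Subgroup.card_map_of_injective (Subgroup.inclusion_injective hEM)] at h1
  have hfr := le_ppCoreOf_sup_normalizer_of_pRankLE (isSolvable_of_ne_top hG hEtop)
    (odd_card_subgroup hG E) hpE hP hrE
  have hEA : E ≤ Subgroup.normalizer (A : Set G) := by
    refine hfr.trans (sup_le ?_ (inf_le_right.trans hNPA))
    exact (le_centralizer_symm hcen).trans (Subgroup.centralizer_le_normalizer _)
  refine ⟨hEA, fun m hm => ?_⟩
  obtain ⟨e, he, s, hs, rfl⟩ := hE.2.2.2 m hm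
  apply mul_mem
  · exact Cfsg.Agent.Lib.Lead.Trans.le_normalizer_sup (hEM.trans (le_normalizer_sigmaCore M)) hEA he
  · exact Subgroup.le_normalizer (Subgroup.mem_sup_left hs)

end Thm117a

end Cfsg.Agent.Lib.Helper9.BGExc
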