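import Mathlib
import Cfsg.Agent.Lib.Helper9.BGExc7
import Cfsg.Agent.Lib.Helper10.OmegaCentralize
import Cfsg.Agent.S1415

/-!
# Helper9 library: exceptional maximal subgroups, part 8

Theorem 11.7, second half: the obstruction.  If `A` does not centralize `O_{p'}(E)` then `M` has a
normal subgroup `B₀` of prime order `r ∉ σ(M)` centralizing `M_σ` on which `A` acts nontrivially.
-/

set_option autoImplicit false
set_option linter.style.haveILetI false
set_option linter.unusedSectionVars false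

open Cfsg
open scoped commutatorElement
open Cfsg.Agent.Lib.Helper10.BG
open Cfsg.Agent.Lib.Helper1 (CoprimeAct)

namespace Cfsg.Agent.Lib.Helper9.BGExc

variable {G : Type*} [Group G]

/-- Lemma X: a maximal subgroup `M` has no normal elementary abelian subgroup of order `r ^ 2`
for `r ∉ σ(M)`. -/
def LemX (G : Type*) [Group G] : Prop :=
  ∀ (M B : Subgroup G) (r : ℕ), r.Prime → IsCoatom M → r ∉ sigma M → B ≤ M →
    IsElementaryAbelian r B → Nat.card B = r ^ 2 → M ≤ Subgroup.normalizer (B : Set G) → False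

/-- Lemma (1a): if `A₁` of prime order `p` acts fixed-point-freely on the nilpotent group `Q`, and
`R` is an `A₁`-invariant `p'`-group of order prime to `|Q|` normalizing `Q`, then `[R, A₁]`
centralizes `Q`. -/
def Lem1a (G : Type*) [Group G] : Prop :=
  ∀ (Q R A₁ : Subgroup G) (p : ℕ), p.Prime → Nat.card A₁ = p → Group.IsNilpotent Q →
    A₁ ≤ Subgroup.normalizer (Q : Set G) → A₁ ≤ Subgroup.normalizer (R : Set G) →
    R ≤ Subgroup.normalizer (Q : Set G) → (Nat.card R).Coprime (Nat.card Q) →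
    (Nat.card R).Coprime p → (Nat.card Q).Coprime p →
    Q ⊓ Subgroup.centralizer (A₁ : Set G) = ⊥ → Group.IsSolvable ↥(Q ⊔ R ⊔ A₁) →
    ⁅R, A₁⁆ ≤ Subgroup.centralizer (Q : Set G)

/-- the obstruction to `M_σ A ⊲ M`. -/
structure Obs (M A : Subgroup G) (r : ℕ) (B₀ : Subgroup G) : Prop where
  prime : r.Prime
  notσ : r ∉ sigma M
  card : Nat.card B₀ = r
  normal : M ≤ Subgroup.normalizer (B₀ : Set G)
  cent : B₀ ≤ Subgroup.centralizer (sigmaCore M : Set G)
  act : ¬ A ≤ Subgroup.centralizer (B₀ : Set G)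

section Tools

variable [Finite G]

theorem card_le_of_pRankLE {r k : ℕ} {M B : Subgroup G} (hr : PRankLE r k ↥M) (hBM : B ≤ M)
    (hB : IsElementaryAbelian r B) : Nat.card B ≤ r ^ k := by
  have h1 := hr (B.subgroupOf M) (by
      refine ⟨⟨fun x y => ?_⟩⟩
      apply Subtype.ext
      apply Subtype.ext
      exact Cfsg.Agent.Lib.Helper12.isElementaryAbelian_comm hB _ x.2 _ y.2) (by
      intro a ha
      apply Subtype.ext
      exact hB.2 a ha)
  rwa [Nat.card_congr (Subgroup.subgroupOfEquivOfLe hBM).toEquiv] at h1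

/-- an element of order `p` acting nontrivially on a group of prime order `r`: `p ∣ r - 1`. -/
theorem prime_dvd_pred_of_acts {p r : ℕ} (hp : p.Prime) (hr : r.Prime) {B₀ : Subgroup G}
    (hB₀ : Nat.card B₀ = r) {a : G} (haN : a ∈ Subgroup.normalizer (B₀ : Set G))
    (hap : a ^ p = 1) (hac : a ∉ Subgroup.centralizer (B₀ : Set G)) : p ∣ r - 1 := by
  haveI : Fact r.Prime := ⟨hr⟩
  haveI : IsCyclic B₀ := isCyclic_of_prime_card hB₀
  have h1 : (Subgroup.normalizerMonoidHom B₀ ⟨a, haN⟩) ^ p = 1 := by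
    rw [← map_pow]
    have : (⟨a, haN⟩ : Subgroup.normalizer (B₀ : Set G)) ^ p = 1 := by
      apply Subtype.ext
      simpa using hap
    rw [this, map_one]
  have h2 : Subgroup.normalizerMonoidHom B₀ ⟨a, haN⟩ ≠ 1 := by
    intro h
    apply hac
    have h3 : (⟨a, haN⟩ : Subgroup.normalizer (B₀ : Set G)) ∈
        (Subgroup.normalizerMonoidHom B₀).ker := h
    rw [Subgroup.normalizerMonoidHom_ker, Subgroup.mem_subgroupOf] at h3
    exact h3
  have h3 : orderOf (Subgroup.normalizerMonoidHom B₀ ⟨a, haN⟩) = p := by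
    rcases (Nat.dvd_prime hp).mp (orderOf_dvd_of_pow_eq_one h1) with h | h
    · exact absurd (orderOf_eq_one_iff.mp h) h2
    · exact h
  have h4 : p ∣ Nat.card (MulAut ↥B₀) := h3 ▸ orderOf_dvd_natCard _
  rwa [IsCyclic.card_mulAut, hB₀, Nat.totient_prime hr] at h4

end Tools

section Obstruction

variable [Finite G] {p : ℕ} [Fact p.Prime] {M A₀ A : Subgroup G}

/-- Theorem 11.7, second half: the obstruction. -/
theorem Exc.exists_obs (hG : IsMinSimpleOddOrder G) (h114 : Thm114 G) (hX : LemX G)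
    (h1a : Lem1a G) (h : Exc M p A₀ A) {E : Subgroup G} (hE : IsComplIn E (sigmaCore M) M)
    (hAE : A ≤ E)
    (hnc : ¬ A ≤ Subgroup.centralizer ((ppCoreOf p E : Subgroup G) : Set G)) :
    ∃ (r : ℕ) (B₀ : Subgroup G), Obs M A r B₀ := by
  have hp : p.Prime := Fact.out
  have hM := h.coatom
  have hEM := hE.1
  have hMsolv : Group.IsSolvable M := isSolvable_of_ne_top hG hM.1
  have hnil := h.E3 hG
  have hMσcop := coprime_card_sigmaCore hG hM hp h.notσ
  have hEσcop := IsComplIn.coprime_sigmaCore hG hM hE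
  -- `R = O_{p'}(E)`
  have hRE : ppCoreOf p E ≤ E := ppCoreOf_le p E
  have hER : E ≤ Subgroup.normalizer ((ppCoreOf p E : Subgroup G) : Set G) :=
    le_normalizer_ppCoreOf p E
  have hRp : (Nat.card (ppCoreOf p E)).Coprime p := coprime_card_ppCoreOf p E
  have hRσ : (Nat.card (ppCoreOf p E)).Coprime (Nat.card (sigmaCore M)) :=
    Nat.Coprime.coprime_dvd_left (Subgroup.card_dvd_of_le hRE) hEσcop
  have hAR : A ≤ Subgroup.normalizer ((ppCoreOf p E : Subgroup G) : Set G) := hAE.trans hER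
  have hMC : M ≤ Subgroup.normalizer
      ((Subgroup.centralizer (sigmaCore M : Set G) : Subgroup G) : Set G) :=
    le_normalizer_centralizer (le_normalizer_sigmaCore M)
  -- `D = C_R(M_σ)`
  have hED : E ≤ Subgroup.normalizer
      ((ppCoreOf p E ⊓ Subgroup.centralizer (sigmaCore M : Set G) : Subgroup G) : Set G) :=
    Cfsg.Agent.Lib.Lead.Trans.le_normalizer_inf hER (hEM.trans hMC)
  obtain ⟨A₁, A₂, hA₁, hA₂, hc₁, hc₂, -, hsup, hr₁, hr₂⟩ := h.exists_two_regular hG h114
  have hclaim : ∀ A' : Subgroup G, A' ≤ A → Nat.card A' = p →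
      sigmaCore M ⊓ Subgroup.centralizer (A' : Set G) = ⊥ →
      ⁅ppCoreOf p E, A'⁆ ≤ ppCoreOf p E ⊓ Subgroup.centralizer (sigmaCore M : Set G) := by
    intro A' hA' hc hreg
    refine le_inf (Cfsg.Agent.Lib.Helper1.commutator_le_of_le_normalizer (hA'.trans hAR)) ?_
    refine h1a (sigmaCore M) (ppCoreOf p E) A' p hp hc hnil
      ((hA'.trans h.le).trans (le_normalizer_sigmaCore M)) (hA'.trans hAR)
      ((hRE.trans hEM).trans (le_normalizer_sigmaCore M)) hRσ hRp hMσcop hreg ?_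
    have hle : sigmaCore M ⊔ ppCoreOf p E ⊔ A' ≤ M :=
      sup_le (sup_le (sigmaCore_le M) (hRE.trans hEM)) (hA'.trans h.le)
    exact Group.isSolvable_of_isSolvable_injective (Subgroup.inclusion_injective hle)
  have hAc := Cfsg.Agent.Lib.Helper12.isElementaryAbelian_comm h.elem
  have hW : ⁅ppCoreOf p E, A⁆ ≤
      ppCoreOf p E ⊓ Subgroup.centralizer (sigmaCore M : Set G) := by
    rw [Subgroup.commutator_le]
    intro x hx a ha
    have ha' : a ∈ A₁ ⊔ A₂ := hsup ▸ ha
    obtain ⟨a₁, ha₁, a₂, ha₂, rfl⟩ :=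
      mem_sup_of_commute' (fun u hu v hv => hAc u (hA₁ hu) v (hA₂ hv)) ha'
    have e : ⁅x, a₁ * a₂⁆ = ⁅x, a₁⁆ * (a₁ * ⁅x, a₂⁆ * a₁⁻¹) := by
      simp only [commutatorElement_def]; group
    rw [e]
    apply mul_mem
    · exact hclaim A₁ hA₁ hc₁ hr₁ (Subgroup.commutator_mem_commutator hx ha₁)
    · exact conj_mem_of_mem_normalizer (hED (hAE (hA₁ ha₁)))
        (hclaim A₂ hA₂ hc₂ hr₂ (Subgroup.commutator_mem_commutator hx ha₂))
  have hW1 : ⁅ppCoreOf p E, A⁆ ≠ ⊥ := by
    intro hbot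
    exact hnc (le_centralizer_symm (Subgroup.commutator_eq_bot_iff_le_centralizer.mp hbot))
  -- `T = D ∩ E'`
  have hnilE : Group.IsNilpotent ↥⁅E, E⁆ := (Cfsg.Agent.S1415.result hG M hM E hE).1
  have hTnil : Group.IsNilpotent
      ↥(ppCoreOf p E ⊓ Subgroup.centralizer (sigmaCore M : Set G) ⊓ ⁅E, E⁆ : Subgroup G) :=
    isNilpotent_of_le inf_le_right hnilE
  have hWT : ⁅ppCoreOf p E, A⁆ ≤
      ppCoreOf p E ⊓ Subgroup.centralizer (sigmaCore M : Set G) ⊓ ⁅E, E⁆ :=
    le_inf hW (Subgroup.commutator_mono hRE hAE)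
  have hET : E ≤ Subgroup.normalizer
      ((ppCoreOf p E ⊓ Subgroup.centralizer (sigmaCore M : Set G) ⊓ ⁅E, E⁆ : Subgroup G) : Set G) :=
    Cfsg.Agent.Lib.Lead.Trans.le_normalizer_inf hED (le_normalizer_commutator_self E)
  have hσT : sigmaCore M ≤ Subgroup.centralizer
      ((ppCoreOf p E ⊓ Subgroup.centralizer (sigmaCore M : Set G) ⊓ ⁅E, E⁆ : Subgroup G) : Set G) :=
    le_centralizer_symm (inf_le_left.trans inf_le_right)
  have hMT : M ≤ Subgroup.normalizer
      ((ppCoreOf p E ⊓ Subgroup.centralizer (sigmaCore M : Set G) ⊓ ⁅E, E⁆ : Subgroup G) : Set G) := by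
    have h1 := sup_le hET (hσT.trans (Subgroup.centralizer_le_normalizer _))
    rwa [IsComplIn.sup_eq hE] at h1
  have hactR := h.coprimeAct hG hAR hRp
  have hAT : ¬ A ≤ Subgroup.centralizer
      ((ppCoreOf p E ⊓ Subgroup.centralizer (sigmaCore M : Set G) ⊓ ⁅E, E⁆ : Subgroup G) : Set G) := by
    intro hle
    apply hW1
    rw [← hactR.commutator_commutator_eq, Subgroup.commutator_eq_bot_iff_le_centralizer]
    exact hWT.trans (le_centralizer_symm hle)
  -- a prime `r` with `A` acting nontrivially on `O_r(T)`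
  obtain ⟨r, hr, hAV⟩ : ∃ r : ℕ, r.Prime ∧ ¬ A ≤ Subgroup.centralizer ((pCoreOf r
      (ppCoreOf p E ⊓ Subgroup.centralizer (sigmaCore M : Set G) ⊓ ⁅E, E⁆) : Subgroup G) : Set G) := by
    by_contra hcon
    apply hAT
    intro a ha
    have h2 : a ∈ Subgroup.centralizer ((fittingOf
        (ppCoreOf p E ⊓ Subgroup.centralizer (sigmaCore M : Set G) ⊓ ⁅E, E⁆) : Subgroup G) : Set G) := by
      rw [fittingOf_eq_iSup, mem_centralizer_iSup_iff]
      intro q
      by_contra hq
      exact hcon ⟨q, q.2, fun hle => hq (hle ha)⟩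
    exact Subgroup.centralizer_le (le_fittingOf le_rfl Subgroup.le_normalizer hTnil) h2
  haveI : Fact r.Prime := ⟨hr⟩
  set V := pCoreOf r (ppCoreOf p E ⊓ Subgroup.centralizer (sigmaCore M : Set G) ⊓ ⁅E, E⁆) with hVdef
  have hVT : V ≤ ppCoreOf p E ⊓ Subgroup.centralizer (sigmaCore M : Set G) ⊓ ⁅E, E⁆ :=
    pCoreOf_le r _
  have hVr : IsPGroup r V := isPGroup_pCoreOf r _
  have hMV : M ≤ Subgroup.normalizer (V : Set G) := le_normalizer_pCoreOf_of_le hMT
  have hV1 : V ≠ ⊥ := by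
    intro hbot
    apply hAV
    rw [hbot]
    intro a _
    rw [Subgroup.mem_centralizer_iff]
    intro x hx
    rw [SetLike.mem_coe, Subgroup.mem_bot] at hx
    rw [hx, mul_one, one_mul]
  have hVR : V ≤ ppCoreOf p E := hVT.trans (inf_le_left.trans inf_le_left)
  have hVE : V ≤ E := hVR.trans hRE
  have hVM : V ≤ M := hVE.trans hEM
  have hVσ : V ≤ Subgroup.centralizer (sigmaCore M : Set G) :=
    hVT.trans (inf_le_left.trans inf_le_right)
  have hrσ : r ∉ sigma M := by
    intro hrσ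
    apply hV1
    have h1 : V ≤ E ⊓ sigmaCore M := le_inf hVE (pgroup_le_sigmaCore hG hM hrσ hVr hVM)
    rwa [hE.2.2.1, le_bot_iff] at h1
  have hrp : r ≠ p := by
    rintro rfl
    have h1 : (Nat.card V).Coprime r := Nat.Coprime.coprime_dvd_left (Subgroup.card_dvd_of_le hVR) hRp
    have h2 := prime_le_card_of_ne_bot hVr hV1
    obtain ⟨n, hn⟩ := hVr.exists_card_eq
    have hn0 : n ≠ 0 := by
      rintro rfl
      rw [pow_zero] at hn
      exact hV1 (Subgroup.card_eq_one.mp hn)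
    rw [hn] at h1
    exact hr.one_lt.ne' (Nat.Coprime.eq_one_of_dvd h1.symm (dvd_pow_self r hn0))
  have hr2 : r ≠ 2 := prime_ne_two_of_pgroup hG hVr hV1
  -- `B₀ = Ω₁(Z(V))`
  have hZ1 : omegaZ r V ≠ ⊥ := omegaZ_ne_bot hVr hV1
  have hMZ : M ≤ Subgroup.normalizer ((omegaZ r V : Subgroup G) : Set G) :=
    hMV.trans (normalizer_le_normalizer_omegaZ r V)
  have hZe := isElementaryAbelian_omegaZ r V
  have hZM : omegaZ r V ≤ M := (omegaZ_le r V).trans hVM
  have hZr : IsPGroup r (omegaZ r V) := hVr.to_le (omegaZ_le r V)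
  have hrank : PRankLE r 2 ↥M :=
    alpha_rank M r hr (fun hα => hrσ (alpha_subset_sigma hG hM hα))
  have hZle : Nat.card (omegaZ r V) ≤ r ^ 2 := card_le_of_pRankLE hrank hZM hZe
  have hZcard : Nat.card (omegaZ r V) = r := by
    obtain ⟨n, hn⟩ := hZr.exists_card_eq
    have hn0 : n ≠ 0 := by
      rintro rfl
      rw [pow_zero] at hn
      exact hZ1 (Subgroup.card_eq_one.mp hn)
    have hn2 : n ≤ 2 := by
      rw [hn] at hZle
      exact (Nat.pow_le_pow_iff_right hr.one_lt).mp hZle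
    have hn2' : n ≠ 2 := by
      rintro rfl
      exact hX M (omegaZ r V) r hr hM hrσ hZM hZe hn hMZ
    have : n = 1 := by omega
    rw [hn, this, pow_one]
  have hZtop : omegaZ r V ≠ ⊤ := Cfsg.Agent.Lib.Lead.BGTrans.pgroup_ne_top hG.2 hZr
  have hNZ : Subgroup.normalizer ((omegaZ r V : Subgroup G) : Set G) = M :=
    normalizer_eq_of_isCoatom hG hM hZ1 hZtop hMZ
  obtain ⟨-, -, B', hB'e, hB'card, hZB'⟩ :=
    Cfsg.Agent.S1409.result hG M hM r hrσ (omegaZ r V) hZcard hNZ.le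
  have hB'M : B' ≤ M := by
    refine le_trans ?_ hNZ.le
    refine le_trans ?_ (Subgroup.centralizer_le_normalizer _)
    intro b hb
    rw [Subgroup.mem_centralizer_iff]
    intro z hz
    exact Cfsg.Agent.Lib.Helper12.isElementaryAbelian_comm hB'e z (hZB' hz) b hb
  have hExc' : Exc M r (omegaZ r V) B' :=
    ⟨hM, hrσ, hZB', hB'M, hZcard, hB'card, hB'e, hNZ.le⟩
  -- `V` is abelian
  obtain ⟨Pr, hPr, hVPr⟩ := exists_isSylowIn_ge hVM hVr
  have hVab : ∀ u ∈ V, ∀ v ∈ V, u * v = v * u := fun u hu v hv =>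
    h114 M r (omegaZ r V) B' Pr hr hExc' hPr u (hVPr hu) v (hVPr hv)
  -- `A` acts nontrivially on `B₀`
  have hAcopr : (Nat.card A).Coprime r := by
    rw [h.card]
    exact Nat.Coprime.pow_left 2 ((Nat.coprime_primes hp hr).mpr (Ne.symm hrp))
  have hact : ¬ A ≤ Subgroup.centralizer ((omegaZ r V : Subgroup G) : Set G) := by
    intro hle
    apply hAV
    apply Cfsg.Agent.Lib.Helper10.le_centralizer_of_centralizes_order_p r hr2 A V hAcopr hVr
      (h.le.trans hMV)
    intro x hx hxo a ha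
    have hxZ : x ∈ omegaZ r V := by
      refine ⟨hx, ?_, ?_⟩
      · rw [Subgroup.mem_centralizer_iff]
        intro v hv
        exact hVab v hv x hx
      · rw [← hxo]; exact pow_orderOf_eq_one x
    exact (Subgroup.mem_centralizer_iff.mp (hle ha) x hxZ).symm
  exact ⟨r, omegaZ r V, hr, hrσ, hZcard, hMZ, (omegaZ_le r V).trans hVσ, hact⟩

end Obstruction

end Cfsg.Agent.Lib.Helper9.BGExc
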