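import Mathlib
import Cfsg.Agent.Lib.Helper9.BGExc8
import Cfsg.Agent.Lib.Helper1.CoprimeAbelian
import Cfsg.Agent.Lib.Helper10.Rank2Core

/-!
# Helper9 library: exceptional maximal subgroups, part 9

General lemmas for the second half of Theorem 11.7: index lemma, fixed points of `r`-groups,
invariant lines of `E_{r²}` under a coprime abelian group.
-/

set_option autoImplicit false
set_option linter.style.haveILetI false
set_option linter.unusedSectionVars false

open Cfsg
open scoped commutatorElement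
open Cfsg.Agent.Lib.Helper10.BG
open Cfsg.Agent.Lib.Helper1 (CoprimeAct)

namespace Cfsg.Agent.Lib.Helper9.BGExc

variable {G : Type*} [Group G]

section General

variable [Finite G] {r : ℕ} [Fact r.Prime]

/-- if `X / N` is an `r`-group and `T` is a Sylow `r`-subgroup of `X` then `X = T N`. -/
theorem le_sup_of_pow_mem {X N T : Subgroup G} (hNX : N ≤ X)
    (hXN : X ≤ Subgroup.normalizer (N : Set G)) (hT : IsSylowIn r T X)
    (hpow : ∀ a ∈ X, ∃ k : ℕ, a ^ r ^ k ∈ N) : X ≤ T ⊔ N := by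
  have hr : r.Prime := Fact.out
  haveI hNn : (N.subgroupOf X).Normal := Subgroup.normal_subgroupOf_of_le_normalizer hXN
  have hQ : IsPGroup r (↥X ⧸ N.subgroupOf X) := by
    intro q
    induction q using QuotientGroup.induction_on with
    | H a =>
      obtain ⟨k, hk⟩ := hpow a a.2
      refine ⟨k, ?_⟩
      rw [← QuotientGroup.mk_pow, QuotientGroup.eq_one_iff, Subgroup.mem_subgroupOf]
      simpa using hk
  obtain ⟨n, hn⟩ := hQ.exists_card_eq
  have h1 : N.relIndex X = r ^ n := by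
    rw [← hn, Subgroup.relIndex, Subgroup.index_eq_card]
  have hT' : T ⊔ N ≤ X := sup_le hT.le hNX
  have h2 : (T ⊔ N).relIndex X ∣ r ^ n := h1 ▸ Subgroup.relIndex_dvd_of_le_left X le_sup_right
  have h3 : (T ⊔ N).relIndex X ∣ T.relIndex X := Subgroup.relIndex_dvd_of_le_left X le_sup_left
  have h4 : ¬ r ∣ T.relIndex X := hT.toSylow.not_dvd_index
  obtain ⟨j, -, hj⟩ := (Nat.dvd_prime_pow hr).mp h2
  have hj0 : j = 0 := by
    by_contra hj0
    exact h4 ((dvd_pow_self r hj0).trans (hj ▸ h3))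
  rw [hj0, pow_zero] at hj
  exact Subgroup.relIndex_eq_one.mp hj

/-- an `r`-group normalizing a nontrivial `r`-group has nontrivial fixed points on it. -/
theorem inf_centralizer_ne_bot_of_pgroup {T B : Subgroup G} (hT : IsPGroup r T)
    (hB : IsPGroup r B) (hTB : T ≤ Subgroup.normalizer (B : Set G)) (hB1 : B ≠ ⊥) :
    B ⊓ Subgroup.centralizer (T : Set G) ≠ ⊥ := by
  have hU : IsPGroup r (T ⊔ B : Subgroup G) := IsPGroup.to_sup_of_normal_right' hT hB hTB
  have hUB : T ⊔ B ≤ Subgroup.normalizer (B : Set G) := sup_le hTB Subgroup.le_normalizer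
  haveI hBn : (B.subgroupOf (T ⊔ B)).Normal := Subgroup.normal_subgroupOf_of_le_normalizer hUB
  haveI : Group.IsNilpotent ↥(T ⊔ B) := hU.isNilpotent
  have hne : B.subgroupOf (T ⊔ B) ≠ ⊥ := by
    intro hbot
    apply hB1
    rw [eq_bot_iff]
    intro b hb
    have h1 : (⟨b, (le_sup_right : B ≤ T ⊔ B) hb⟩ : ↥(T ⊔ B)) ∈ B.subgroupOf (T ⊔ B) :=
      Subgroup.mem_subgroupOf.mpr hb
    rw [hbot, Subgroup.mem_bot] at h1
    rw [Subgroup.mem_bot]
    exact congrArg Subtype.val h1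
  have h1 := Cfsg.Agent.Lib.Helper1.inf_center_ne_bot_of_normal (B.subgroupOf (T ⊔ B)) hne
  obtain ⟨z, hz, hz1⟩ := exists_ne_one_of_ne_bot h1
  obtain ⟨hzB, hzC⟩ := Subgroup.mem_inf.mp hz
  intro hbot
  apply hz1
  have h2 : (z : G) ∈ B ⊓ Subgroup.centralizer (T : Set G) := by
    refine Subgroup.mem_inf.mpr ⟨Subgroup.mem_subgroupOf.mp hzB, ?_⟩
    rw [Subgroup.mem_centralizer_iff]
    intro t ht
    have h3 := (Subgroup.mem_center_iff.mp hzC) ⟨t, (le_sup_left : T ≤ T ⊔ B) ht⟩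
    exact congrArg Subtype.val h3
  rw [hbot, Subgroup.mem_bot] at h2
  exact Subtype.ext h2

/-- `[R, A] ≤ D` when `A = A₁ A₂` is abelian, `[R, A₁], [R, A₂] ≤ D` and `A` normalizes `D`. -/
theorem commutator_le_of_two {R A A₁ A₂ D : Subgroup G}
    (hAc : ∀ x ∈ A, ∀ y ∈ A, x * y = y * x) (hA₁ : A₁ ≤ A) (hA₂ : A₂ ≤ A)
    (hsup : A₁ ⊔ A₂ = A) (hAD : A ≤ Subgroup.normalizer (D : Set G))
    (h₁ : ⁅R, A₁⁆ ≤ D) (h₂ : ⁅R, A₂⁆ ≤ D) : ⁅R, A⁆ ≤ D := by
  rw [Subgroup.commutator_le]
  intro x hx a ha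
  have ha' : a ∈ A₁ ⊔ A₂ := hsup ▸ ha
  obtain ⟨a₁, ha₁, a₂, ha₂, rfl⟩ :=
    mem_sup_of_commute' (fun u hu v hv => hAc u (hA₁ hu) v (hA₂ hv)) ha'
  have e : ⁅x, a₁ * a₂⁆ = ⁅x, a₁⁆ * (a₁ * ⁅x, a₂⁆ * a₁⁻¹) := by
    simp only [commutatorElement_def]; group
  rw [e]
  apply mul_mem
  · exact h₁ (Subgroup.commutator_mem_commutator hx ha₁)
  · exact conj_mem_of_mem_normalizer (hAD (hA₁ ha₁))
      (h₂ (Subgroup.commutator_mem_commutator hx ha₂))

/-- a nontrivial subgroup of a group of prime order is the whole group. -/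
theorem eq_of_le_of_ne_bot_of_card_prime {X Y : Subgroup G} (hY : Nat.card Y = r) (hXY : X ≤ Y)
    (hX1 : X ≠ ⊥) : X = Y := by
  have hr : r.Prime := Fact.out
  have h1 : Nat.card X ∣ r := hY ▸ Subgroup.card_dvd_of_le hXY
  rcases (Nat.dvd_prime hr).mp h1 with h2 | h2
  · exact absurd (Subgroup.card_eq_one.mp h2) hX1
  · exact Subgroup.eq_of_le_of_card_ge hXY (by rw [h2, hY])

/-- Step 3 of Theorem 11.7: the structure of `B ≅ E_{r²}` under a coprime group `A` with
`[B, A] ≤ B₀`, `|B₀| = r`, acting nontrivially on `B₀`. -/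
theorem lines_of_commutator_le {A B B₀ : Subgroup G} (hBe : IsElementaryAbelian r B)
    (hB : Nat.card B = r ^ 2) (hAB : A ≤ Subgroup.normalizer (B : Set G))
    (hcop : (Nat.card A).Coprime r) (hB₀B : B₀ ≤ B) (hB₀ : Nat.card B₀ = r)
    (hcomm : ⁅B, A⁆ ≤ B₀) (hact : ¬ A ≤ Subgroup.centralizer (B₀ : Set G)) :
    ⁅B, A⁆ = B₀ ∧ Nat.card (B ⊓ Subgroup.centralizer (A : Set G) : Subgroup G) = r ∧
      B₀ ≠ B ⊓ Subgroup.centralizer (A : Set G) ∧
      ∀ Y : Subgroup G, Y ≤ B → Nat.card Y = r → A ≤ Subgroup.normalizer (Y : Set G) →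
        Y = B₀ ∨ Y = B ⊓ Subgroup.centralizer (A : Set G) := by
  have hr : r.Prime := Fact.out
  haveI : IsMulCommutative B := hBe.1
  have hBc := Cfsg.Agent.Lib.Helper12.isElementaryAbelian_comm hBe
  have hcop' : (Nat.card A).Coprime (Nat.card B) := by
    rw [hB]; exact Nat.Coprime.pow_right 2 hcop
  have h0 : ⁅B₀, A⁆ ≠ ⊥ := by
    intro hbot
    exact hact (le_centralizer_symm (Subgroup.commutator_eq_bot_iff_le_centralizer.mp hbot))
  have h1 : ⁅B, A⁆ ≠ ⊥ := by
    intro hbot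
    apply h0
    rw [eq_bot_iff, ← hbot]
    exact Subgroup.commutator_mono hB₀B le_rfl
  have heq : ⁅B, A⁆ = B₀ := eq_of_le_of_ne_bot_of_card_prime hB₀ hcomm h1
  have hsup := Cfsg.Agent.Lib.Helper1.abelian_centralizer_sup_commutator_eq A B hAB hcop'
  have hinf := Cfsg.Agent.Lib.Helper1.abelian_centralizer_inf_commutator_eq_bot A B hAB hcop'
  rw [heq] at hsup hinf
  have hnorm : B ⊓ Subgroup.centralizer (A : Set G) ≤ Subgroup.normalizer (B₀ : Set G) := by
    intro x hx
    apply Subgroup.centralizer_le_normalizer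
    rw [Subgroup.mem_centralizer_iff]
    intro b hb
    exact hBc b (hB₀B hb) x (Subgroup.mem_inf.mp hx).1
  have hcard := Cfsg.H5.card_sup_mul_card_inf hnorm
  rw [hsup, hinf, Subgroup.card_bot, mul_one, hB, hB₀, sq] at hcard
  have hB₂ : Nat.card (B ⊓ Subgroup.centralizer (A : Set G) : Subgroup G) = r :=
    (Nat.eq_of_mul_eq_mul_right hr.pos hcard).symm
  refine ⟨heq, hB₂, ?_, ?_⟩
  · intro he
    have h2 : B₀ ≤ (B ⊓ Subgroup.centralizer (A : Set G)) ⊓ B₀ := le_inf he.le le_rfl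
    rw [hinf, le_bot_iff] at h2
    exact ne_bot_of_card_prime hB₀ h2
  · intro Y hYB hY hAY
    by_cases hc : A ≤ Subgroup.centralizer (Y : Set G)
    · right
      exact Subgroup.eq_of_le_of_card_ge (le_inf hYB (le_centralizer_symm hc)) (by rw [hB₂, hY])
    · left
      have h2 : ⁅Y, A⁆ ≠ ⊥ := by
        intro hbot
        exact hc (le_centralizer_symm (Subgroup.commutator_eq_bot_iff_le_centralizer.mp hbot))
      have h3 : ⁅Y, A⁆ = Y := eq_of_le_of_ne_bot_of_card_prime hY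
        (Cfsg.Agent.Lib.Helper1.commutator_le_of_le_normalizer hAY) h2
      have h4 : Y ≤ B₀ := by
        rw [← h3, ← heq]
        exact Subgroup.commutator_mono hYB le_rfl
      exact Subgroup.eq_of_le_of_card_ge h4 (by rw [hB₀, hY])

/-- Step 4 of Theorem 11.7: `N_G(B)` normalizes `C_B(A)` unless it normalizes `B₀ = [B, A]`. -/
theorem normalizer_le_normalizer_line (hG : IsMinSimpleOddOrder G) {A B B₀ : Subgroup G}
    (hBe : IsElementaryAbelian r B)
    (hB : Nat.card B = r ^ 2) (hAB : A ≤ Subgroup.normalizer (B : Set G))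
    (hcop : (Nat.card A).Coprime r) (hB₀B : B₀ ≤ B) (hB₀ : Nat.card B₀ = r)
    (hcomm : ⁅B, A⁆ ≤ B₀) (hact : ¬ A ≤ Subgroup.centralizer (B₀ : Set G))
    (hnot : ¬ Subgroup.normalizer (B : Set G) ≤ Subgroup.normalizer (B₀ : Set G)) :
    Subgroup.normalizer (B : Set G) ≤
      Subgroup.normalizer ((B ⊓ Subgroup.centralizer (A : Set G) : Subgroup G) : Set G) := by
  have hr : r.Prime := Fact.out
  obtain ⟨heq, hB₂, hne, hlines⟩ := lines_of_commutator_le hBe hB hAB hcop hB₀B hB₀ hcomm hact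
  have hBr : IsPGroup r B := IsPGroup.of_card hB
  have hB1 : B ≠ ⊥ := by
    intro hbot
    rw [hbot, Subgroup.card_bot] at hB
    have : 1 < r ^ 2 := Nat.one_lt_pow (by norm_num) hr.one_lt
    omega
  have hr2 : r ≠ 2 := prime_ne_two_of_pgroup hG hBr hB1
  have hLtop : Subgroup.normalizer (B : Set G) ≠ ⊤ :=
    Cfsg.Agent.Lib.Lead.BGTrans.normalizer_ne_top hG.2 hB1
      (Cfsg.Agent.Lib.Lead.BGTrans.pgroup_ne_top hG.2 hBr)
  have hrk : PRankLE r 2 ↥B := by
    intro X _ _
    rw [← hB]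
    exact Subgroup.card_le_card_group X
  have hpow := Cfsg.Agent.Lib.Helper10.rank_two_commutator_pgroup hr2 B
    (Subgroup.normalizer (B : Set G)) hBr hrk le_rfl (isSolvable_of_ne_top hG hLtop)
    (odd_card_subgroup hG _)
  have hLLc := le_normalizer_commutator_self (Subgroup.normalizer (B : Set G))
  have hLcL : ⁅Subgroup.normalizer (B : Set G), Subgroup.normalizer (B : Set G)⁆ ≤
      Subgroup.normalizer (B : Set G) := commutator_self_le _
  by_cases hcase : ⁅Subgroup.normalizer (B : Set G), Subgroup.normalizer (B : Set G)⁆ ≤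
      Subgroup.centralizer (B : Set G)
  · -- abelian action: `N_G(B)` normalizes `[B, A] = B₀`
    exfalso
    apply hnot
    intro g hg
    apply mem_normalizer_of_map_conj_eq
    apply Subgroup.eq_of_le_of_card_ge _ (card_cj g B₀).ge
    rw [cj_le_iff]
    have h1 : ⁅B, A⁆ ≤ cj g⁻¹ B₀ := by
      rw [Subgroup.commutator_le]
      intro b hb a ha
      rw [mem_cj, inv_inv]
      have hc : ⁅g, a⁆ ∈ Subgroup.centralizer (B : Set G) :=
        hcase (Subgroup.commutator_mem_commutator hg (hAB ha))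
      have hb' : g * b * g⁻¹ ∈ B := conj_mem_of_mem_normalizer hg hb
      have hba : ⁅g * b * g⁻¹, a⁆ ∈ B :=
        Cfsg.Agent.Lib.Helper1.commutator_le_of_le_normalizer hAB
          (Subgroup.commutator_mem_commutator hb' ha)
      have h2 : ⁅g, a⁆ * (g * b * g⁻¹) = (g * b * g⁻¹) * ⁅g, a⁆ :=
        (Subgroup.mem_centralizer_iff.mp hc _ hb').symm
      have h3 : ⁅g, a⁆ * ⁅g * b * g⁻¹, a⁆ = ⁅g * b * g⁻¹, a⁆ * ⁅g, a⁆ :=
        (Subgroup.mem_centralizer_iff.mp hc _ hba).symm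
      have e : g * ⁅b, a⁆ * g⁻¹ = ⁅g * b * g⁻¹, a⁆ := by
        have e1 : g * ⁅b, a⁆ * g⁻¹ =
            (g * b * g⁻¹) * ⁅g, a⁆ * a * (g * b * g⁻¹)⁻¹ * a⁻¹ * ⁅g, a⁆⁻¹ := by
          simp only [commutatorElement_def]; group
        rw [e1, ← h2]
        have e2 : ⁅g, a⁆ * (g * b * g⁻¹) * a * (g * b * g⁻¹)⁻¹ * a⁻¹ * ⁅g, a⁆⁻¹ =
            ⁅g, a⁆ * ⁅g * b * g⁻¹, a⁆ * ⁅g, a⁆⁻¹ := by
          simp only [commutatorElement_def]; group
        rw [e2, h3]; group
      rw [e, ← heq]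
      exact Subgroup.commutator_mem_commutator hb' ha
    rw [heq] at h1
    exact h1
  · -- the unipotent case
    obtain ⟨T, hT⟩ := exists_isSylowIn r
      ⁅Subgroup.normalizer (B : Set G), Subgroup.normalizer (B : Set G)⁆
    have hTL : T ≤ Subgroup.normalizer (B : Set G) := hT.le.trans hLcL
    have hN : ⁅Subgroup.normalizer (B : Set G), Subgroup.normalizer (B : Set G)⁆ ≤
        Subgroup.normalizer ((⁅Subgroup.normalizer (B : Set G), Subgroup.normalizer (B : Set G)⁆ ⊓
          Subgroup.centralizer (B : Set G) : Subgroup G) : Set G) :=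
      Cfsg.Agent.Lib.Lead.Trans.le_normalizer_inf Subgroup.le_normalizer
        (hLcL.trans (le_normalizer_centralizer le_rfl))
    have hsup := le_sup_of_pow_mem (inf_le_left) hN hT (fun a ha => by
      obtain ⟨k, hk⟩ := hpow a ha
      exact ⟨k, Subgroup.mem_inf.mpr ⟨Subgroup.pow_mem _ ha _, hk⟩⟩)
    have hfix := inf_centralizer_ne_bot_of_pgroup hT.isPGroup hBr hTL hB1
    have hfixle : B ⊓ Subgroup.centralizer (T : Set G) ≤ B ⊓ Subgroup.centralizer
        ((⁅Subgroup.normalizer (B : Set G), Subgroup.normalizer (B : Set G)⁆ : Subgroup G) : Set G) := by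
      intro b hb
      obtain ⟨hbB, hbT⟩ := Subgroup.mem_inf.mp hb
      refine Subgroup.mem_inf.mpr ⟨hbB, ?_⟩
      have h1 : T ⊔ (⁅Subgroup.normalizer (B : Set G), Subgroup.normalizer (B : Set G)⁆ ⊓
          Subgroup.centralizer (B : Set G)) ≤ Subgroup.centralizer {b} := by
        apply sup_le
        · intro t ht
          rw [Subgroup.mem_centralizer_singleton_iff]
          exact (Subgroup.mem_centralizer_iff.mp hbT t ht)
        · intro c hc
          rw [Subgroup.mem_centralizer_singleton_iff]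
          exact (Subgroup.mem_centralizer_iff.mp (Subgroup.mem_inf.mp hc).2 b hbB).symm
      rw [Subgroup.mem_centralizer_iff]
      intro c hc
      exact (Subgroup.mem_centralizer_singleton_iff.mp (h1 (hsup hc)))
    have hBu1 : B ⊓ Subgroup.centralizer
        ((⁅Subgroup.normalizer (B : Set G), Subgroup.normalizer (B : Set G)⁆ : Subgroup G) : Set G) ≠ ⊥ := by
      intro hbot
      apply hfix
      rw [eq_bot_iff, ← hbot]
      exact hfixle
    have hBuB : B ⊓ Subgroup.centralizer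
        ((⁅Subgroup.normalizer (B : Set G), Subgroup.normalizer (B : Set G)⁆ : Subgroup G) : Set G) ≠ B := by
      intro he
      apply hcase
      apply le_centralizer_symm
      exact he.ge.trans inf_le_right
    have hBucard := card_eq_prime_of_le_of_ne hB inf_le_left
      (prime_le_card_of_ne_bot (hBr.to_le inf_le_left) hBu1) hBuB
    have hLBu : Subgroup.normalizer (B : Set G) ≤ Subgroup.normalizer ((B ⊓ Subgroup.centralizer
        ((⁅Subgroup.normalizer (B : Set G), Subgroup.normalizer (B : Set G)⁆ : Subgroup G) : Set G) :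
          Subgroup G) : Set G) :=
      Cfsg.Agent.Lib.Lead.Trans.le_normalizer_inf le_rfl (le_normalizer_centralizer hLLc)
    rcases hlines _ inf_le_left hBucard (hAB.trans hLBu) with h1 | h1
    · exact absurd (h1 ▸ hLBu) hnot
    · exact h1 ▸ hLBu

end General

end Cfsg.Agent.Lib.Helper9.BGExc
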