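import Mathlib
import Cfsg.Agent.Lib.Helper9.BGExc9

/-!
# Helper9 library: exceptional maximal subgroups, part 10

Interfaces for the parallel formalization of B & G Theorem 11.7, Proposition 12.4 and
Theorem 12.5: the statements `Thm117`, `Thm125e`, `Prop124` as propositions, and the
configuration `Cfg` reached after Steps 1 to 4 of the proof of Theorem 11.7.
-/

set_option autoImplicit false
set_option linter.style.haveILetI false
set_option linter.unusedSectionVars false

open Cfsg
open scoped commutatorElement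
open Cfsg.Agent.Lib.Helper10.BG
open Cfsg.Agent.Lib.Helper1 (CoprimeAct)

namespace Cfsg.Agent.Lib.Helper9.BGExc

variable {G : Type*} [Group G]

/-- the statement of Theorem 11.7, for all exceptional configurations of `G`. -/
def Thm117 (G : Type*) [Group G] : Prop :=
  ∀ (M : Subgroup G) (p : ℕ) (A₀ A : Subgroup G), p.Prime → Exc M p A₀ A →
    M ≤ Subgroup.normalizer ((sigmaCore M ⊔ A : Subgroup G) : Set G)

/-- Theorem 12.5(e) for the prime `p`. -/
def Thm125e (G : Type*) [Group G] (p : ℕ) : Prop :=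
  ∀ (M A Mstar : Subgroup G), IsCoatom M → p ∈ tau2 M → A ≤ M → IsElementaryAbelian p A →
    Nat.card A = p ^ 2 → IsCoatom Mstar → Mstar ≠ M → A ≤ Mstar → sigmaCore M ⊓ Mstar = ⊥

/-- Proposition 12.4 for the prime `p`. -/
def Prop124 (G : Type*) [Group G] (p : ℕ) : Prop :=
  ∀ (M A : Subgroup G), IsCoatom M → A ≤ M → IsElementaryAbelian p A → Nat.card A = p ^ 2 →
    Subgroup.centralizer (A : Set G) ≤ M ∧
      ((∀ A₀ : Subgroup G, A₀ ≤ A → Nat.card A₀ = p →
          ¬ (Subgroup.normalizer (A₀ : Set G) ≤ M ∧ ∀ L : Subgroup G, IsCoatom L →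
            Subgroup.normalizer (A₀ : Set G) ≤ L → L = M)) →
        p ∈ sigma M ∧ alphaCore M = ⊥ ∧ Group.IsNilpotent (sigmaCore M))

/-- The configuration reached after Steps 1 to 4 of the proof of Theorem 11.7: `M` is exceptional
for `p` (with `A₀ ≤ A`) and for `r > p` (with `B₀ ≤ B`), `B₀ ⊲ M`, `A` acts nontrivially on `B₀`,
`P_r ≥ B` is an `A`-invariant Sylow `r`-subgroup of `M`, `M_σ B ⊲ M`, `[B, A] ≤ B₀` and
`N_G(B)` normalizes the line `B₂ = C_B(A)`. Steps 5 to 7 show that this is impossible. -/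
structure Cfg (M : Subgroup G) (p : ℕ) (A₀ A : Subgroup G) (r : ℕ) (B₀ B Pr : Subgroup G) :
    Prop where
  exc : Exc M p A₀ A
  excr : Exc M r B₀ B
  lt : p < r
  sylow : IsSylowIn r Pr M
  le : B ≤ Pr
  normPr : A ≤ Subgroup.normalizer (Pr : Set G)
  normB : A ≤ Subgroup.normalizer (B : Set G)
  normal : M ≤ Subgroup.normalizer (B₀ : Set G)
  act : ¬ A ≤ Subgroup.centralizer (B₀ : Set G)
  sup : M ≤ Subgroup.normalizer ((sigmaCore M ⊔ B : Subgroup G) : Set G)
  comm : ⁅B, A⁆ ≤ B₀
  line : Subgroup.normalizer (B : Set G) ≤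
    Subgroup.normalizer ((B ⊓ Subgroup.centralizer (A : Set G) : Subgroup G) : Set G)
  cardLine : Nat.card (B ⊓ Subgroup.centralizer (A : Set G) : Subgroup G) = r

end Cfsg.Agent.Lib.Helper9.BGExc
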