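import Mathlib
import Cfsg.Prelude
import Cfsg.Agent.Lib.Helper10.BGTen
import Cfsg.Agent.Lib.Helper10.Rank2Extra
import Cfsg.Agent.S1448

/-!
# B & G, Lemma 10.7(c): Sylow subgroups of rank at most two (conditional on Lemma 10.7(b))
-/

set_option autoImplicit false
set_option linter.style.haveILetI false
set_option linter.unusedSectionVars false

open Cfsg
open Cfsg.Agent.Lib.Helper10.BG

namespace Cfsg.Agent.Lib.Helper9.BG10

variable {G : Type*} [Group G]

/-- Schur–Zassenhaus: a Sylow `p`-subgroup has a complement in its normalizer. -/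
theorem exists_isComplIn_normalizer_sylow [Finite G] (p : ℕ) [Fact p.Prime] (P : Sylow p G) :
    ∃ V : Subgroup G, IsComplIn (P : Subgroup G) V (Subgroup.normalizer ((P : Subgroup G) : Set G)) ∧
      (Nat.card V).Coprime p := by
  have hpp : p.Prime := Fact.out
  set N : Subgroup G := Subgroup.normalizer ((P : Subgroup G) : Set G) with hN
  have hPN : (P : Subgroup G) ≤ N := Subgroup.le_normalizer
  haveI hnorm : ((P : Subgroup G).subgroupOf N).Normal := Subgroup.normal_in_normalizer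
  obtain ⟨k, hk⟩ := IsPGroup.iff_card.mp P.2
  have hcardP' : Nat.card ((P : Subgroup G).subgroupOf N) = p ^ k := by
    rw [← hk]
    exact Nat.card_congr (Subgroup.subgroupOfEquivOfLe hPN).toEquiv
  have hidx : ((P : Subgroup G).subgroupOf N).index = (P : Subgroup G).relIndex N := rfl
  have hdvd : (P : Subgroup G).relIndex N ∣ (P : Subgroup G).index := Subgroup.relIndex_dvd_index_of_le hPN
  have hcopidx : ((P : Subgroup G).relIndex N).Coprime p := by
    have h1 : ¬ p ∣ (P : Subgroup G).index := P.not_dvd_index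
    have h2 : ¬ p ∣ (P : Subgroup G).relIndex N := fun h => h1 (h.trans hdvd)
    exact ((Nat.Prime.coprime_iff_not_dvd hpp).mpr h2).symm
  have hcop : (Nat.card ((P : Subgroup G).subgroupOf N)).Coprime ((P : Subgroup G).subgroupOf N).index := by
    rw [hcardP', hidx]
    exact (Nat.Coprime.pow_right k hcopidx).symm
  obtain ⟨H, hH⟩ := Subgroup.exists_right_complement'_of_coprime hcop
  refine ⟨H.map N.subtype, ⟨hPN, Subgroup.map_subtype_le H, ?_, ?_⟩, ?_⟩
  · rw [eq_bot_iff]
    intro x hx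
    obtain ⟨hx1, hx2⟩ := Subgroup.mem_inf.mp hx
    obtain ⟨h, hh, rfl⟩ := Subgroup.mem_map.mp hx2
    have h1 : h ∈ (P : Subgroup G).subgroupOf N ⊓ H := Subgroup.mem_inf.mpr ⟨Subgroup.mem_subgroupOf.mpr hx1, hh⟩
    rw [hH.disjoint.eq_bot, Subgroup.mem_bot] at h1
    rw [h1]
    simp
  · intro m hm
    obtain ⟨⟨a, b⟩, hab, -⟩ := hH.existsUnique ⟨m, hm⟩
    refine ⟨(a : N), Subgroup.mem_subgroupOf.mp a.2, (b : N), Subgroup.mem_map.mpr ⟨b, b.2, rfl⟩, ?_⟩
    have := congrArg Subtype.val hab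
    simpa using this.symm
  · have h1 : Nat.card (H.map N.subtype) = Nat.card H :=
      Subgroup.card_map_of_injective N.subtype_injective
    have h2 : Nat.card H = ((P : Subgroup G).subgroupOf N).index := hH.symm.index_eq_card.symm
    rw [h1, h2, hidx]
    exact hcopidx

/-- In a nonabelian subgroup of order `p ^ 3` and exponent `p`, the derived subgroup is the centre. -/
theorem commutator_eq_inf_centralizer_of_card_cube [Finite G] {p : ℕ} [Fact p.Prime]
    (R : Subgroup G) (hcard : Nat.card R = p ^ 3) (hexp : Monoid.exponent R = p)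
    (hnab : ¬ IsMulCommutative R) : ⁅R, R⁆ = R ⊓ Subgroup.centralizer (R : Set G) := by
  have hP : IsPGroup p R := IsPGroup.of_card hcard
  have hcube : Cfsg.Agent.Lib.Helper10.OmegaCube p (⊤ : Subgroup R) := by
    refine ⟨fun x => ?_, ?_, ?_⟩
    · constructor
      · intro _
        rw [← hexp]
        exact Monoid.pow_exponent_eq_one x
      · intro _
        exact Subgroup.mem_top x
    · rw [Subgroup.card_top, hcard]
    · by_contra hcon
      push Not at hcon
      apply hnab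
      exact ⟨⟨fun a b => hcon a (Subgroup.mem_top a) b (Subgroup.mem_top b)⟩⟩
  have h1 := hcube.commutator_eq hP
  have h2 : ⁅R, R⁆ = Subgroup.map R.subtype ⁅(⊤ : Subgroup R), (⊤ : Subgroup R)⁆ := by
    rw [Subgroup.map_commutator, ← MonoidHom.range_eq_map, Subgroup.range_subtype]
  rw [h2, h1]
  ext x
  constructor
  · intro hx
    obtain ⟨y, hy, rfl⟩ := Subgroup.mem_map.mp hx
    rw [Cfsg.Agent.Lib.Helper10.mem_zS] at hy
    refine Subgroup.mem_inf.mpr ⟨y.2, ?_⟩
    rw [Subgroup.mem_centralizer_iff]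
    intro s hs
    have := hy.2 ⟨s, hs⟩ (Subgroup.mem_top _)
    exact congrArg Subtype.val this
  · intro hx
    obtain ⟨hx1, hx2⟩ := Subgroup.mem_inf.mp hx
    rw [Subgroup.mem_centralizer_iff] at hx2
    refine Subgroup.mem_map.mpr ⟨⟨x, hx1⟩, ?_, rfl⟩
    rw [Cfsg.Agent.Lib.Helper10.mem_zS]
    refine ⟨Subgroup.mem_top _, fun s _ => ?_⟩
    exact Subtype.ext (hx2 s s.2)

/-- B & G, Lemma 10.7(c), assuming the conclusion `P = [P, V]` of Lemma 10.7(b). -/
theorem lemma_10_7c_of_commutator [Finite G] (hG : IsMinSimpleOddOrder G) (p : ℕ) [Fact p.Prime]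
    (P : Sylow p G) (hr : PRankLE p 2 (P : Subgroup G))
    (h11 : ∀ V : Subgroup G,
      IsComplIn (P : Subgroup G) V (Subgroup.normalizer ((P : Subgroup G) : Set G)) →
        (P : Subgroup G) = ⁅(P : Subgroup G), V⁆) :
    IsMulCommutative (P : Subgroup G) ∨ ∃ P₁ P₂ : Subgroup G, P₁ ⊔ P₂ = (P : Subgroup G) ∧
      (∀ a ∈ P₁, ∀ b ∈ P₂, a * b = b * a) ∧
        ¬ IsMulCommutative P₁ ∧ Nat.card P₁ = p ^ 3 ∧ Monoid.exponent P₁ = p ∧ IsCyclic P₂ ∧
        Subgroup.closure {x : G | x ∈ P₂ ∧ x ^ p = 1} =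
          P₁ ⊓ Subgroup.centralizer (P₁ : Set G) := by
  have hpp : p.Prime := Fact.out
  by_cases hP1 : (P : Subgroup G) = ⊥
  · left
    refine ⟨⟨fun a b => ?_⟩⟩
    have hall : ∀ x ∈ (P : Subgroup G), x = 1 := by
      intro x hx
      rw [hP1, Subgroup.mem_bot] at hx
      exact hx
    have ha : (a : G) = 1 := hall _ a.2
    have hb : (b : G) = 1 := hall _ b.2
    apply Subtype.ext
    simp [ha, hb]
  have hp2 : p ≠ 2 := prime_ne_two_of_pgroup hG P.2 hP1
  obtain ⟨V, hV, hcop⟩ := exists_isComplIn_normalizer_sylow p P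
  have hRA : ⁅(P : Subgroup G), V⁆ = (P : Subgroup G) := (h11 V hV).symm
  obtain ⟨-, h | ⟨R₁, R₂, h1, h2, h3, h4, h5, h6, h7⟩⟩ :=
    Cfsg.Agent.S1448.result p hp2 (P : Subgroup G) V P.2 hP1 hr hV.2.1 hcop
      (odd_card_subgroup hG V) hRA
  · exact Or.inl h
  · right
    refine ⟨R₁, R₂, h1, h2, h3, h4, h5, h6, ?_⟩
    rw [h7]
    exact commutator_eq_inf_centralizer_of_card_cube R₁ h4 h5 h3

end Cfsg.Agent.Lib.Helper9.BG10
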