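import Mathlib
import Cfsg.Prelude
import Cfsg.Agent.Lib.Helper9.BGHallFus
import Cfsg.Agent.Lib.Helper1.Coprime

/-!
# B & G, Corollary 10.7 (b), (d), (e), conditional on `p`-length one of proper subgroups (10.7(a))
-/

set_option autoImplicit false
set_option linter.style.haveILetI false
set_option linter.unusedSectionVars false

open Cfsg
open Cfsg.Agent.Lib.Helper10.BG
open scoped commutatorElement

namespace Cfsg.Agent.Lib.Helper9.BG10

variable {G : Type*} [Group G]

theorem centralizer_le_normalizer' (Q : Subgroup G) :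
    Subgroup.centralizer (Q : Set G) ≤ Subgroup.normalizer (Q : Set G) := by
  intro c hc
  apply mem_normalizer_of_map_conj_eq
  exact map_conj_eq_of_mem_centralizer hc

/-- subgroups of a Sylow subgroup `P` conjugate in `G` are conjugate under `N_G(P)`. -/
theorem sylow_conj_in_normalizer [Finite G] (hG : IsMinSimpleOddOrder G) (hpl : AllPLengthOne G)
    {p : ℕ} [Fact p.Prime] (P : Sylow p G) (Q : Subgroup G) (x : G) (hQ : Q ≤ (P : Subgroup G))
    (hx : Q.map (MulAut.conj x).toMonoidHom ≤ (P : Subgroup G)) :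
    ∃ y ∈ Subgroup.normalizer ((P : Subgroup G) : Set G),
      Q.map (MulAut.conj x).toMonoidHom = Q.map (MulAut.conj y).toMonoidHom := by
  obtain ⟨n, hn, c, hc, hnc⟩ := sylow_fusion hG hpl (isSylowIn_top_of_sylow P)
    (Subgroup.mem_top x) hQ hx
  refine ⟨n, (Subgroup.mem_inf.mp hn).2, ?_⟩
  rw [hnc, map_conj_mul_eq_of_mem_centralizer (Subgroup.mem_inf.mp hc).2]

/-- `N_P(Q)` is a Sylow `p`-subgroup of `N_G(Q)`. -/
theorem isSylowIn_inf_normalizer [Finite G] (hG : IsMinSimpleOddOrder G) (hpl : AllPLengthOne G)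
    {p : ℕ} [Fact p.Prime] (P : Sylow p G) (Q : Subgroup G) (hQ : Q ≤ (P : Subgroup G)) :
    IsSylowIn p ((P : Subgroup G) ⊓ Subgroup.normalizer (Q : Set G))
      (Subgroup.normalizer (Q : Set G)) := by
  apply isSylowIn_of_card_ge inf_le_right (P.2.to_le inf_le_left)
  intro S hSN hS hTS
  have hQS : Q ≤ S := (le_inf hQ Subgroup.le_normalizer).trans hTS
  obtain ⟨P₂, hP₂, hSP₂⟩ := exists_isSylowIn_ge (le_top : S ≤ ⊤) hS
  obtain ⟨g, -, hg⟩ := (isSylowIn_top_of_sylow P).exists_conj hP₂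
  have hSg : S.map (MulAut.conj g⁻¹).toMonoidHom ≤ (P : Subgroup G) := by
    have := Subgroup.map_mono (f := (MulAut.conj g⁻¹).toMonoidHom) hSP₂
    rwa [hg, map_conj_inv_map_conj] at this
  obtain ⟨n, hn, c, hc, hnc⟩ := sylow_fusion hG hpl (isSylowIn_top_of_sylow P)
    (Subgroup.mem_top g⁻¹) hQ ((Subgroup.map_mono hQS).trans hSg)
  have hcC := (Subgroup.mem_inf.mp hc).2
  have hnN := (Subgroup.mem_inf.mp hn).2
  have h1 : S.map (MulAut.conj c).toMonoidHom ≤ (P : Subgroup G) := by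
    have h2 : c = n⁻¹ * g⁻¹ := by rw [hnc]; group
    rw [h2, ← map_conj_map_conj]
    have := Subgroup.map_mono (f := (MulAut.conj n⁻¹).toMonoidHom) hSg
    rwa [Cfsg.Agent.Lib.Helper10.map_conj_eq_of_mem_normalizer _ n⁻¹ (inv_mem hnN)] at this
  have h2 : S.map (MulAut.conj c).toMonoidHom ≤ Subgroup.normalizer (Q : Set G) := by
    have := Subgroup.map_mono (f := (MulAut.conj c).toMonoidHom) hSN
    rwa [map_conj_eq_self_of_mem (centralizer_le_normalizer' Q hcC)] at this
  have h3 := Subgroup.card_le_of_le (le_inf h1 h2)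
  rwa [Subgroup.card_map_of_injective (MulAut.conj c).injective] at h3

theorem not_dvd_relIndex_inf_normalizer [Finite G] (hG : IsMinSimpleOddOrder G)
    (hpl : AllPLengthOne G) {p : ℕ} [Fact p.Prime] (P : Sylow p G) (Q : Subgroup G)
    (hQ : Q ≤ (P : Subgroup G)) :
    ¬ p ∣ ((P : Subgroup G) ⊓ Subgroup.normalizer (Q : Set G)).relIndex
      (Subgroup.normalizer (Q : Set G)) :=
  (isSylowIn_inf_normalizer hG hpl P Q hQ).toSylow.not_dvd_index

/-- if `Q ≤ P` is normal in `N_G(P)` then every element conjugating `Q` into `P` normalizes `Q`. -/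
theorem mem_normalizer_of_map_conj_le [Finite G] (hG : IsMinSimpleOddOrder G)
    (hpl : AllPLengthOne G) {p : ℕ} [Fact p.Prime] (P : Sylow p G) {Q : Subgroup G}
    (hQ : Q ≤ (P : Subgroup G))
    (hN : Subgroup.normalizer ((P : Subgroup G) : Set G) ≤ Subgroup.normalizer (Q : Set G))
    {d : G} (hd : Q.map (MulAut.conj d).toMonoidHom ≤ (P : Subgroup G)) :
    d ∈ Subgroup.normalizer (Q : Set G) := by
  obtain ⟨n, hn, c, hc, hnc⟩ := sylow_fusion hG hpl (isSylowIn_top_of_sylow P)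
    (Subgroup.mem_top d) hQ hd
  rw [hnc]
  exact mul_mem (hN (Subgroup.mem_inf.mp hn).2)
    (centralizer_le_normalizer' Q (Subgroup.mem_inf.mp hc).2)

theorem normalizer_le_normalizer_of_le_inf [Finite G] (hG : IsMinSimpleOddOrder G)
    (hpl : AllPLengthOne G) {p : ℕ} [Fact p.Prime] (P : Sylow p G) (R Q : Subgroup G)
    (hR : IsPGroup p R) (hQ : Q ≤ (P : Subgroup G) ⊓ R)
    (hN : Subgroup.normalizer ((P : Subgroup G) : Set G) ≤ Subgroup.normalizer (Q : Set G)) :
    Subgroup.normalizer (R : Set G) ≤ Subgroup.normalizer (Q : Set G) := by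
  have hQP : Q ≤ (P : Subgroup G) := hQ.trans inf_le_left
  have hQR : Q ≤ R := hQ.trans inf_le_right
  obtain ⟨P₂, hP₂, hRP₂⟩ := exists_isSylowIn_ge (le_top : R ≤ ⊤) hR
  obtain ⟨g, -, hg⟩ := (isSylowIn_top_of_sylow P).exists_conj hP₂
  have hRg : R.map (MulAut.conj g⁻¹).toMonoidHom ≤ (P : Subgroup G) := by
    have := Subgroup.map_mono (f := (MulAut.conj g⁻¹).toMonoidHom) hRP₂
    rwa [hg, map_conj_inv_map_conj] at this
  have h1 : g⁻¹ ∈ Subgroup.normalizer (Q : Set G) :=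
    mem_normalizer_of_map_conj_le hG hpl P hQP hN ((Subgroup.map_mono hQR).trans hRg)
  intro u hu
  have h2 : g⁻¹ * u ∈ Subgroup.normalizer (Q : Set G) := by
    apply mem_normalizer_of_map_conj_le hG hpl P hQP hN
    rw [← map_conj_map_conj]
    refine (Subgroup.map_mono ?_).trans hRg
    have := Subgroup.map_mono (f := (MulAut.conj u).toMonoidHom) hQR
    rwa [Cfsg.Agent.Lib.Helper10.map_conj_eq_of_mem_normalizer R u hu] at this
  have h3 : u = (g⁻¹)⁻¹ * (g⁻¹ * u) := by group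
  rw [h3]
  exact mul_mem (inv_mem h1) h2

/-! ### Corollary 10.7(b) -/

/-- focal subgroup argument: `P ≤ [P, N_G(P)]`. -/
theorem sylow_le_commutator_normalizer [Finite G] (hG : IsMinSimpleOddOrder G)
    (hpl : AllPLengthOne G) {p : ℕ} [Fact p.Prime] (P : Sylow p G) :
    (P : Subgroup G) ≤ ⁅(P : Subgroup G), Subgroup.normalizer ((P : Subgroup G) : Set G)⁆ := by
  have h1 := Subgroup.commutator_inf_eq_focalSubgroup P
  rw [commutator_eq_top hG, top_inf_eq] at h1
  intro y hy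
  rw [h1, Subgroup.focalSubgroup_def] at hy
  revert y
  show Subgroup.closure _ ≤ _
  rw [Subgroup.closure_le]
  rintro g ⟨hgP, x, hxP, u, rfl⟩
  have hXP : Subgroup.zpowers x ≤ (P : Subgroup G) := Subgroup.zpowers_le.mpr hxP
  have h2 : u * x * u⁻¹ ∈ (P : Subgroup G) := by
    have h3 : u * x * u⁻¹ = (x⁻¹ * ⁅x, u⁆)⁻¹ := by
      rw [commutatorElement_def]; group
    rw [h3]
    exact inv_mem (mul_mem (inv_mem hxP) hgP)
  have h4 : (Subgroup.zpowers x).map (MulAut.conj u).toMonoidHom ≤ (P : Subgroup G) := by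
    rw [MonoidHom.map_zpowers, Subgroup.zpowers_le]
    exact h2
  obtain ⟨n, hn, c, hc, rfl⟩ := sylow_fusion hG hpl (isSylowIn_top_of_sylow P)
    (Subgroup.mem_top u) hXP h4
  have hcx : c * x⁻¹ = x⁻¹ * c := by
    have := Subgroup.mem_centralizer_iff.mp (Subgroup.mem_inf.mp hc).2 x⁻¹
      (inv_mem (Subgroup.mem_zpowers x))
    exact this.symm
  have h5 : ⁅x, n * c⁆ = ⁅x, n⁆ := by
    rw [commutatorElement_def, commutatorElement_def]
    calc x * (n * c) * x⁻¹ * (n * c)⁻¹ = x * n * (c * x⁻¹) * c⁻¹ * n⁻¹ := by group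
      _ = x * n * (x⁻¹ * c) * c⁻¹ * n⁻¹ := by rw [hcx]
      _ = x * n * x⁻¹ * n⁻¹ := by group
  rw [h5]
  exact Subgroup.commutator_mem_commutator hxP (Subgroup.mem_inf.mp hn).2

/-- a normal subgroup `D` of a `p`-group `P` with `P = P' D` is `P`. -/
theorem eq_of_le_commutator_sup [Finite G] {p : ℕ} [Fact p.Prime] {P D : Subgroup G}
    (hP : IsPGroup p P) (hDP : D ≤ P) (hn : P ≤ Subgroup.normalizer (D : Set G))
    (h : P ≤ ⁅P, P⁆ ⊔ D) : D = P := by
  haveI hN : (D.subgroupOf P).Normal := Subgroup.normal_subgroupOf_of_le_normalizer hn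
  haveI : Group.IsNilpotent ↥P := hP.isNilpotent
  haveI : Group.IsNilpotent (↥P ⧸ D.subgroupOf P) := inferInstance
  by_contra hne
  have hnt : Nontrivial (↥P ⧸ D.subgroupOf P) := by
    rw [QuotientGroup.nontrivial_iff]
    intro htop
    apply hne
    apply le_antisymm hDP
    intro x hx
    have : (⟨x, hx⟩ : ↥P) ∈ D.subgroupOf P := by rw [htop]; exact Subgroup.mem_top _
    exact Subgroup.mem_subgroupOf.mp this
  have hlt := Group.IsSolvable.commutator_lt_top_of_nontrivial (↥P ⧸ D.subgroupOf P)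
  apply hlt.ne
  rw [eq_top_iff]
  intro z _
  obtain ⟨x, rfl⟩ := QuotientGroup.mk_surjective z
  have hx : (x : G) ∈ D ⊔ ⁅P, P⁆ := by
    rw [sup_comm]; exact h x.2
  have hcP : (⁅P, P⁆ : Subgroup G) ≤ P :=
    Cfsg.Agent.Lib.Helper1.commutator_le_of_le_normalizer Subgroup.le_normalizer
  obtain ⟨d, hd, a, ha, hda⟩ := exists_mul_of_mem_sup_of_le_normalizer (hcP.trans hn) hx
  rw [← Subgroup.map_subtype_commutator] at ha
  obtain ⟨a', ha', rfl⟩ := ha
  have hxda : x = ⟨d, hDP hd⟩ * a' := Subtype.ext hda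
  have h1 : ((⟨d, hDP hd⟩ : ↥P) : ↥P ⧸ D.subgroupOf P) = 1 := by
    rw [QuotientGroup.eq_one_iff]
    exact Subgroup.mem_subgroupOf.mpr hd
  have h2 : ((a' : ↥P) : ↥P ⧸ D.subgroupOf P) ∈ commutator (↥P ⧸ D.subgroupOf P) := by
    have h3 : (QuotientGroup.mk' (D.subgroupOf P)) a' ∈
        (commutator ↥P).map (QuotientGroup.mk' (D.subgroupOf P)) := Subgroup.mem_map_of_mem _ ha'
    rw [commutator_def, Subgroup.map_commutator] at h3
    exact Subgroup.commutator_mono le_top le_top h3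
  rw [hxda, QuotientGroup.mk_mul, h1, one_mul]
  exact h2

/-- B & G, Corollary 10.7(b), conditional on `p`-length one of proper subgroups. -/
theorem lemma_10_7b [Finite G] (hG : IsMinSimpleOddOrder G) (hpl : AllPLengthOne G)
    {p : ℕ} [Fact p.Prime] (P : Sylow p G) (V : Subgroup G)
    (hV : IsComplIn (P : Subgroup G) V (Subgroup.normalizer ((P : Subgroup G) : Set G))) :
    (P : Subgroup G) = ⁅(P : Subgroup G), V⁆ ∧
      (P : Subgroup G) ≤ ⁅Subgroup.normalizer ((P : Subgroup G) : Set G),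
        Subgroup.normalizer ((P : Subgroup G) : Set G)⁆ := by
  obtain ⟨hPN, hVN, -, hprod⟩ := hV
  have hDP : ⁅(P : Subgroup G), V⁆ ≤ (P : Subgroup G) :=
    Cfsg.Agent.Lib.Helper1.commutator_le_of_le_normalizer hVN
  have hPD : (P : Subgroup G) ≤ Subgroup.normalizer ((⁅(P : Subgroup G), V⁆ : Subgroup G) : Set G) :=
    Cfsg.Agent.Lib.Helper1.le_normalizer_commutator_left
  have h1 : (P : Subgroup G) ≤ ⁅(P : Subgroup G), (P : Subgroup G)⁆ ⊔ ⁅(P : Subgroup G), V⁆ := by
    refine (sylow_le_commutator_normalizer hG hpl P).trans ?_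
    rw [Subgroup.commutator_le]
    intro x hx n hn
    obtain ⟨a, ha, b, hb, rfl⟩ := hprod n hn
    have h2 : ⁅x, a * b⁆ = ⁅x, a⁆ * (a * ⁅x, b⁆ * a⁻¹) := by
      simp only [commutatorElement_def]; group
    rw [h2]
    refine mul_mem (Subgroup.mem_sup_left (Subgroup.commutator_mem_commutator hx ha))
      (Subgroup.mem_sup_right ?_)
    exact conj_mem_of_mem_normalizer (hPD ha) (Subgroup.commutator_mem_commutator hx hb)
  have h3 : ⁅(P : Subgroup G), V⁆ = (P : Subgroup G) := eq_of_le_commutator_sup P.2 hDP hPD h1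
  exact ⟨h3.symm, (le_of_eq h3.symm).trans (Subgroup.commutator_mono hPN hVN)⟩

end Cfsg.Agent.Lib.Helper9.BG10
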