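import Mathlib
import Cfsg.Agent.Lib.Helper9.BGExc10
import Cfsg.Agent.Lib.Helper10.BGEleven
import Cfsg.Agent.Lib.Helper29.BGExcPG

/-!
# Helper9 library: exceptional maximal subgroups, part 11

Discharge of the hypotheses `LemX`, `Lem1a` and `Thm114` (Theorem 11.4).
-/

set_option autoImplicit false
set_option linter.style.haveILetI false
set_option linter.unusedSectionVars false

open Cfsg
open scoped commutatorElement
open Cfsg.Agent.Lib.Helper10.BG
open Cfsg.Agent.Lib.Helper1 (CoprimeAct)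

namespace Cfsg.Agent.Lib.Helper9.BGExc

variable {G : Type*} [Group G] [Finite G]

theorem lemX (hG : IsMinSimpleOddOrder G) : LemX G := by
  intro M B r hr hM hrσ hBM hBe hB hMB
  haveI : Fact r.Prime := ⟨hr⟩
  exact no_normal_elementary_sq hG hM hrσ hBM hMB hBe hB

theorem lem1a (hG : IsMinSimpleOddOrder G) : Lem1a G := by
  intro Q R A₁ p hp hA₁ hQn hAQ hAR hRQ hcop hRp hQp hfix hsolv
  haveI : Fact p.Prime := ⟨hp⟩
  rw [Subgroup.commutator_le]
  intro x hx a ha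
  by_cases ha1 : a = 1
  · rw [ha1, commutatorElement_one_right]
    exact Subgroup.one_mem _
  have hA₁eq : A₁ = Subgroup.zpowers a := eq_zpowers_of_card_prime hA₁ ha ha1
  refine commutator_centralizes_of_fpf (Y := Q ⊔ R ⊔ A₁) (Q := Q) (R := R) (a := a) (p := p)
    hsolv (odd_card_subgroup hG _) (le_sup_left.trans le_sup_left)
    (le_sup_right.trans le_sup_left) (le_sup_right (a := Q ⊔ R) ha) hQn hp
    (pow_eq_one_of_card_prime hA₁ ha) hRQ (hAQ ha) (hAR ha) hcop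
    (fun hd => hp.one_lt.ne' (Nat.eq_one_of_dvd_coprimes hQp hd (dvd_refl p)))
    (fun hd => hp.one_lt.ne' (Nat.eq_one_of_dvd_coprimes hRp hd (dvd_refl p))) ?_ x hx
  intro y hy hay
  have h1 : y ∈ Q ⊓ Subgroup.centralizer (A₁ : Set G) := by
    refine Subgroup.mem_inf.mpr ⟨hy, ?_⟩
    rw [hA₁eq, centralizer_zpowers, Subgroup.mem_centralizer_singleton_iff]
    exact hay.symm
  rw [hfix] at h1
  exact Subgroup.mem_bot.mp h1

theorem omegaZ_eq (p : ℕ) (S : Subgroup G) :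
    Cfsg.Agent.Lib.Helper29.BGExc.omegaZ p S = omegaZ p S := by
  ext z
  exact Iff.rfl

/-- B & G, Theorem 11.4. -/
theorem thm114 (hG : IsMinSimpleOddOrder G) : Thm114 G := by
  intro M p A₀ A P hp h hP
  haveI : Fact p.Prime := ⟨hp⟩
  obtain ⟨P₁, hP₁, hAP₁⟩ := exists_isSylowIn_ge h.le h.isPGroup
  have hab : ∀ u ∈ P₁, ∀ v ∈ P₁, u * v = v * u := by
    obtain ⟨S, hS, hPS⟩ := exists_isSylowIn_ge (le_top : P₁ ≤ ⊤) hP₁.isPGroup
    rcases Cfsg.Agent.Lib.Helper29.BGExc.PG hG hS (h.maxEA hG) h.card (hAP₁.trans hPS) with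
      h1 | ⟨h1, h2⟩
    · exact fun u hu v hv => h1 u (hPS hu) v (hPS hv)
    · rw [omegaZ_eq] at h1
      exact h.sylow_comm_aux hG (sigmaCore_ne_bot hG h.coatom) hP₁ hAP₁ hS hPS h1 h2
  obtain ⟨m, -, rfl⟩ := hP₁.exists_conj hP
  rintro _ ⟨u, hu, rfl⟩ _ ⟨v, hv, rfl⟩
  show m * u * m⁻¹ * (m * v * m⁻¹) = m * v * m⁻¹ * (m * u * m⁻¹)
  have e := hab u hu v hv
  calc m * u * m⁻¹ * (m * v * m⁻¹) = m * (u * v) * m⁻¹ := by group
    _ = m * (v * u) * m⁻¹ := by rw [e]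
    _ = m * v * m⁻¹ * (m * u * m⁻¹) := by group

end Cfsg.Agent.Lib.Helper9.BGExc
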