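import Mathlib
import Cfsg.Agent.Lib.Helper9.BGExc11
import Cfsg.Agent.S1409
import Cfsg.Agent.S1414

/-!
# Helper9 library: exceptional maximal subgroups, part 12

Steps 2 to 4 of the proof of Theorem 11.7: from the obstruction `Obs` and the induction hypothesis
to the configuration `Cfg`.
-/

set_option autoImplicit false
set_option linter.style.haveILetI false
set_option linter.unusedSectionVars false

open Cfsg
open scoped commutatorElement
open Cfsg.Agent.Lib.Helper10.BG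
open Cfsg.Agent.Lib.Helper1 (CoprimeAct)

namespace Cfsg.Agent.Lib.Helper9.BGExc

variable {G : Type*} [Group G] [Finite G]

theorem relIndex_ppCoreOf (p : ℕ) (M : Subgroup G) :
    (ppCoreOf p M).relIndex M = (pPrimeCore p ↥M).index := by
  have h1 := Cfsg.Agent.Lib.Helper12.card_mul_relIndex_eq (ppCoreOf_le p M)
  have h2 : Nat.card (ppCoreOf p M) = Nat.card (pPrimeCore p ↥M) := by
    unfold ppCoreOf
    rw [Subgroup.card_map_of_injective M.subtype_injective]
  have h3 := Subgroup.card_mul_index (pPrimeCore p ↥M)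
  rw [h2] at h1
  have h4 : Nat.card (pPrimeCore p ↥M) * (ppCoreOf p M).relIndex M =
      Nat.card (pPrimeCore p ↥M) * (pPrimeCore p ↥M).index := by rw [h1, h3]
  exact Nat.eq_of_mul_eq_mul_left Nat.card_pos h4

variable {p : ℕ} [Fact p.Prime] {M A₀ A : Subgroup G}

/-- Steps 2 to 4 of Theorem 11.7. -/
theorem Exc.exists_cfg (hG : IsMinSimpleOddOrder G) (h : Exc M p A₀ A) {r : ℕ} {B₀ : Subgroup G}
    (hobs : Obs M A r B₀)
    (hIH : ∀ B' : Subgroup G, Exc M r B₀ B' →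
      M ≤ Subgroup.normalizer ((sigmaCore M ⊔ B' : Subgroup G) : Set G)) :
    ∃ B Pr : Subgroup G, Cfg M p A₀ A r B₀ B Pr := by
  have hp : p.Prime := Fact.out
  have hr : r.Prime := hobs.prime
  haveI : Fact r.Prime := ⟨hr⟩
  have h114 : Thm114 G := thm114 hG
  have hM := h.coatom
  have hB₀r : IsPGroup r B₀ := IsPGroup.of_card (n := 1) (by rw [hobs.card, pow_one])
  have hB₀1 : B₀ ≠ ⊥ := ne_bot_of_card_prime hobs.card
  -- `p < r`
  obtain ⟨a, haA, hac⟩ : ∃ a ∈ A, a ∉ Subgroup.centralizer (B₀ : Set G) := by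
    by_contra hcon
    apply hobs.act
    intro a ha
    by_contra hac
    exact hcon ⟨a, ha, hac⟩
  have hdvd : p ∣ r - 1 := prime_dvd_pred_of_acts hp hr hobs.card (hobs.normal (h.le haA))
    (h.elem.2 a haA) hac
  have hlt : p < r := by
    have h1 : p ≤ r - 1 := Nat.le_of_dvd (by have := hr.two_le; omega) hdvd
    have := hr.two_le
    omega
  have hpr : p ≠ r := hlt.ne
  -- `N_G(B₀) = M`
  have hNB₀ : Subgroup.normalizer (B₀ : Set G) = M :=
    normalizer_eq_of_isCoatom hG hM hB₀1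
      (Cfsg.Agent.Lib.Lead.BGTrans.pgroup_ne_top hG.2 hB₀r) hobs.normal
  have hB₀M : B₀ ≤ M := hNB₀ ▸ Subgroup.le_normalizer
  -- `B_orig`
  obtain ⟨-, -, B₁, hB₁e, hB₁card, hB₀B₁⟩ :=
    Cfsg.Agent.S1409.result hG M hM r hobs.notσ B₀ hobs.card hNB₀.le
  have hB₁c := Cfsg.Agent.Lib.Helper12.isElementaryAbelian_comm hB₁e
  have hB₁M : B₁ ≤ M := by
    intro b hb
    apply hNB₀.le
    apply Subgroup.centralizer_le_normalizer
    rw [Subgroup.mem_centralizer_iff]
    intro x hx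
    exact hB₁c x (hB₀B₁ hx) b hb
  have hexc₁ : Exc M r B₀ B₁ :=
    ⟨hM, hobs.notσ, hB₀B₁, hB₁M, hobs.card, hB₁card, hB₁e, hNB₀.le⟩
  -- the `A`-invariant Sylow `r`-subgroup `P_r` of `K = O_{p'}(M)`
  have hAK : A ≤ Subgroup.normalizer ((ppCoreOf p M : Subgroup G) : Set G) :=
    h.le.trans (le_normalizer_ppCoreOf p M)
  have hact : CoprimeAct A (ppCoreOf p M) := h.coprimeAct hG hAK (coprime_card_ppCoreOf p M)
  have hB₀K : B₀ ≤ ppCoreOf p M := by
    apply le_ppCoreOf hB₀M hobs.normal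
    rw [hobs.card]
    exact (Nat.coprime_primes hr hp).mpr hpr.symm
  obtain ⟨Pr, hPrK, hB₀Pr, hAPr⟩ :=
    coprime_exists_isSylowIn_ge hact hB₀K hB₀r (h.le.trans hobs.normal)
  have hPrM : IsSylowIn r Pr M := by
    apply hPrK.of_not_dvd_relIndex (ppCoreOf_le p M)
    rw [relIndex_ppCoreOf]
    intro hd
    have hpβ : p ∉ beta M := fun hβ => h.not_ideal hG hβ.2
    have := ((Cfsg.Agent.S1414.result hG M hM).2.2.2.2 p hp h.dvd_card hpβ).2.2 r hr hd
    omega
  -- `B ≤ P_r`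
  obtain ⟨T, hT, hB₁T⟩ := exists_isSylowIn_ge hB₁M hexc₁.isPGroup
  obtain ⟨m, hm, hPrT⟩ := hT.exists_conj hPrM
  have hmB₀ : cj m B₀ = B₀ := cj_eq_self_of_mem_normalizer (hobs.normal hm)
  have hexc : Exc M r B₀ (cj m B₁) := by
    refine ⟨hM, hobs.notσ, ?_, ?_, hobs.card, ?_, isElementaryAbelian_cj hB₁e m, hNB₀.le⟩
    · rw [← hmB₀]
      exact cj_mono m hB₀B₁
    · exact cj_le_of_mem hm hB₁M
    · rw [card_cj, hB₁card]
  have hBPr : cj m B₁ ≤ Pr := by
    rw [hPrT]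
    exact cj_mono m hB₁T
  obtain ⟨B, hBdef⟩ : ∃ B, B = cj m B₁ := ⟨_, rfl⟩
  rw [← hBdef] at hexc hBPr
  have hNPrB := hexc.normalizer_sylow_le hG h114 hPrM hBPr
  have hAB : A ≤ Subgroup.normalizer (B : Set G) := hAPr.trans hNPrB
  have hsup := hIH B hexc
  -- Step 3
  have hBM : B ≤ M := hexc.le
  have hMσn := le_normalizer_sigmaCore M
  have hcopσr : (Nat.card (sigmaCore M)).Coprime r := coprime_card_sigmaCore hG hM hr hobs.notσ
  have hcopσp : (Nat.card (sigmaCore M)).Coprime p := coprime_card_sigmaCore hG hM hp h.notσ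
  have hcopBp : (Nat.card B).Coprime p := by
    rw [hexc.card]
    exact Nat.Coprime.pow_left 2 ((Nat.coprime_primes hr hp).mpr hpr.symm)
  have hcopBσ : (Nat.card B).Coprime (Nat.card (sigmaCore M)) := by
    rw [hexc.card]
    exact Nat.Coprime.pow_left 2 hcopσr.symm
  have hAD : A ≤ Subgroup.normalizer
      ((B ⊓ Subgroup.centralizer (sigmaCore M : Set G) : Subgroup G) : Set G) :=
    Cfsg.Agent.Lib.Lead.Trans.le_normalizer_inf hAB
      (le_normalizer_centralizer (h.le.trans hMσn))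
  have h1a := lem1a hG
  have hcomm1 : ∀ A₁ : Subgroup G, A₁ ≤ A → Nat.card A₁ = p →
      sigmaCore M ⊓ Subgroup.centralizer (A₁ : Set G) = ⊥ →
      ⁅B, A₁⁆ ≤ B ⊓ Subgroup.centralizer (sigmaCore M : Set G) := by
    intro A₁ hA₁A hA₁ hreg
    refine le_inf (Cfsg.Agent.Lib.Helper1.commutator_le_of_le_normalizer (hA₁A.trans hAB)) ?_
    apply h1a (sigmaCore M) B A₁ p hp hA₁ (h.E3 hG) ((hA₁A.trans h.le).trans hMσn)
      (hA₁A.trans hAB) (hBM.trans hMσn) hcopBσ hcopBp hcopσp hreg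
    apply isSolvable_of_ne_top hG
    apply ne_top_of_le_isCoatom hM
    exact sup_le (sup_le (sigmaCore_le M) hBM) (hA₁A.trans h.le)
  obtain ⟨A₁, A₂, hA₁A, hA₂A, hA₁, hA₂, -, hsupA, hreg₁, hreg₂⟩ := h.exists_two_regular hG h114
  have hcommD : ⁅B, A⁆ ≤ B ⊓ Subgroup.centralizer (sigmaCore M : Set G) :=
    commutator_le_of_two (Cfsg.Agent.Lib.Helper12.isElementaryAbelian_comm h.elem) hA₁A hA₂A
      hsupA hAD (hcomm1 A₁ hA₁A hA₁ hreg₁) (hcomm1 A₂ hA₂A hA₂ hreg₂)
  have hB₀B : B₀ ≤ B := hexc.le₀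
  have hB₀D : B₀ ≤ B ⊓ Subgroup.centralizer (sigmaCore M : Set G) := le_inf hB₀B hobs.cent
  have hDne : B ⊓ Subgroup.centralizer (sigmaCore M : Set G) ≠ B := by
    intro he
    have h1 : B ≤ Subgroup.centralizer (sigmaCore M : Set G) := he.ge.trans inf_le_right
    have h2 : sigmaCore M ≤ Subgroup.centralizer (B : Set G) := le_centralizer_symm h1
    have h3 := hexc.centralizer_regular hG h114
    apply sigmaCore_ne_bot hG hM
    rw [eq_bot_iff, ← h3]
    exact le_inf le_rfl h2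
  have hDcard : Nat.card (B ⊓ Subgroup.centralizer (sigmaCore M : Set G) : Subgroup G) = r :=
    card_eq_prime_of_le_of_ne hexc.card inf_le_left
      (hobs.card ▸ Subgroup.card_le_of_le hB₀D) hDne
  have hDeq : B ⊓ Subgroup.centralizer (sigmaCore M : Set G) = B₀ := by
    symm
    apply Subgroup.eq_of_le_of_card_ge hB₀D
    rw [hDcard, hobs.card]
  have hcomm : ⁅B, A⁆ ≤ B₀ := hDeq ▸ hcommD
  have hcopAr : (Nat.card A).Coprime r := by
    rw [h.card]
    exact Nat.Coprime.pow_left 2 ((Nat.coprime_primes hp hr).mpr hpr)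
  obtain ⟨-, hline, -, -⟩ :=
    lines_of_commutator_le hexc.elem hexc.card hAB hcopAr hB₀B hobs.card hcomm hobs.act
  have hnot : ¬ Subgroup.normalizer (B : Set G) ≤ Subgroup.normalizer (B₀ : Set G) := by
    rw [hNB₀]
    exact hexc.normalizer_not_le hG h114
  have hnline := normalizer_le_normalizer_line hG hexc.elem hexc.card hAB hcopAr hB₀B hobs.card
    hcomm hobs.act hnot
  exact ⟨B, Pr, ⟨h, hexc, hlt, hPrM, hBPr, hAPr, hAB, hobs.normal, hobs.act, hsup, hcomm, hnline,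
    hline⟩⟩

end Cfsg.Agent.Lib.Helper9.BGExc
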