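import Mathlib
import Cfsg.Agent.Lib.Helper9.BGExc12

/-!
# Helper9 library: exceptional maximal subgroups, part 13

Theorem 11.7 by downward induction on the prime, given that the configuration `Cfg` is
impossible (Steps 5 to 7).
-/

set_option autoImplicit false
set_option linter.style.haveILetI false
set_option linter.unusedSectionVars false

open Cfsg
open scoped commutatorElement
open Cfsg.Agent.Lib.Helper10.BG
open Cfsg.Agent.Lib.Helper1 (CoprimeAct)

namespace Cfsg.Agent.Lib.Helper9.BGExc

variable {G : Type*} [Group G]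

/-- Steps 5 to 7 of Theorem 11.7, as a proposition. -/
def CfgFalse (G : Type*) [Group G] : Prop :=
  ∀ (M A₀ A B₀ B Pr : Subgroup G) (p r : ℕ), p.Prime → r.Prime → Cfg M p A₀ A r B₀ B Pr → False

variable [Finite G]

theorem Obs.lt {p : ℕ} [Fact p.Prime] {M A₀ A : Subgroup G} (h : Exc M p A₀ A) {r : ℕ}
    {B₀ : Subgroup G} (hobs : Obs M A r B₀) : p < r := by
  have hp : p.Prime := Fact.out
  have hr : r.Prime := hobs.prime
  obtain ⟨a, haA, hac⟩ : ∃ a ∈ A, a ∉ Subgroup.centralizer (B₀ : Set G) := by
    by_contra hcon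
    apply hobs.act
    intro a ha
    by_contra hac
    exact hcon ⟨a, ha, hac⟩
  have hdvd : p ∣ r - 1 := prime_dvd_pred_of_acts hp hr hobs.card (hobs.normal (h.le haA))
    (h.elem.2 a haA) hac
  have h1 : p ≤ r - 1 := Nat.le_of_dvd (by have := hr.two_le; omega) hdvd
  have := hr.two_le
  omega

/-- B & G, Theorem 11.7, modulo Steps 5 to 7. -/
theorem thm117_of (hG : IsMinSimpleOddOrder G) (hcfg : CfgFalse G) : Thm117 G := by
  have key : ∀ n : ℕ, ∀ p : ℕ, p.Prime → Nat.card G - p = n → ∀ M A₀ A : Subgroup G,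
      Exc M p A₀ A → M ≤ Subgroup.normalizer ((sigmaCore M ⊔ A : Subgroup G) : Set G) := by
    intro n
    induction n using Nat.strong_induction_on with
    | _ n ih =>
      intro p hp hn M A₀ A h
      haveI : Fact p.Prime := ⟨hp⟩
      have hM := h.coatom
      have h114 := thm114 hG
      have hcop : (Nat.card A).Coprime (Nat.card (sigmaCore M)) := by
        rw [h.card]
        exact Nat.Coprime.pow_left 2 (coprime_card_sigmaCore hG hM hp h.notσ).symm
      obtain ⟨E, hE, hAE⟩ := exists_isComplIn_sigmaCore_ge hG hM h.le hcop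
      by_cases hcen : A ≤ Subgroup.centralizer ((ppCoreOf p E : Subgroup G) : Set G)
      · exact (h.normal_of_centralizes hG h114 hE hAE hcen).2
      · exfalso
        obtain ⟨r, B₀, hobs⟩ := h.exists_obs hG h114 (lemX hG) (lem1a hG) hE hAE hcen
        have hlt : p < r := hobs.lt h
        have hrG : r ≤ Nat.card G := hobs.card ▸ Subgroup.card_le_card_group B₀
        obtain ⟨B, Pr, hc⟩ := h.exists_cfg hG hobs (fun B' hB' =>
          ih (Nat.card G - r) (by omega) r hobs.prime rfl M B₀ B' hB')
        exact hcfg M A₀ A B₀ B Pr p r hp hobs.prime hc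
  intro M p A₀ A hp h
  exact key _ p hp rfl M A₀ A h

end Cfsg.Agent.Lib.Helper9.BGExc
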