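import Mathlib
import Cfsg.Agent.Lib.Helper9.BGExc13
import Cfsg.Agent.Lib.Helper29.BG125b

/-!
# Helper9 library: exceptional maximal subgroups, part 14

The final downward induction on the prime: Proposition 12.4 and Theorem 12.5(e) for all primes,
given the step "12.5(e) for all larger primes implies 12.4" and Theorem 11.7.
-/

set_option autoImplicit false
set_option linter.style.haveILetI false
set_option linter.unusedSectionVars false

open Cfsg
open scoped commutatorElement
open Cfsg.Agent.Lib.Helper10.BG

namespace Cfsg.Agent.Lib.Helper9.BGExc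

variable {G : Type*} [Group G]

/-- the inductive step of Proposition 12.4, as a proposition. -/
def Step124 (G : Type*) [Group G] : Prop :=
  ∀ p : ℕ, p.Prime → (∀ s : ℕ, s.Prime → p < s → Thm125e G s) → Prop124 G p

variable [Finite G]

theorem thm125e_of_gt {s : ℕ} (hs : Nat.card G < s) : Thm125e G s := by
  intro M A Mstar _ _ _ _ hAc _ _ _
  exfalso
  have h1 := Subgroup.card_le_card_group A
  rw [hAc] at h1
  nlinarith

theorem prop124_and_thm125e (hG : IsMinSimpleOddOrder G) (h117 : Thm117 G)
    (hstep : Step124 G) : ∀ p : ℕ, p.Prime → Prop124 G p ∧ Thm125e G p := by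
  have h114 := thm114 hG
  have key : ∀ n : ℕ, ∀ p : ℕ, p.Prime → Nat.card G - p = n → Prop124 G p ∧ Thm125e G p := by
    intro n
    induction n using Nat.strong_induction_on with
    | _ n ih =>
      intro p hp hn
      haveI : Fact p.Prime := ⟨hp⟩
      have h124 : Prop124 G p := by
        apply hstep p hp
        intro s hs hps
        by_cases hsG : Nat.card G < s
        · exact thm125e_of_gt hsG
        · exact (ih (Nat.card G - s) (by omega) s hs rfl).2
      exact ⟨h124, Cfsg.Agent.Lib.Helper29.BG125.thm125e_of hG h114 h117 h124⟩
  intro p hp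
  exact key _ p hp rfl

end Cfsg.Agent.Lib.Helper9.BGExc
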