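import Mathlib
import Cfsg.Agent.Lib.Helper9.BGExc14
import Cfsg.Agent.Lib.Helper9.BGTenD
import Cfsg.Agent.S1405
import Cfsg.Agent.S1410

/-!
# Helper9 library: exceptional maximal subgroups, part 15

Proposition 12.4: Step 3 (`M_σ` nilpotent when `M_α = 1`), part (a) under hypothesis (H), and the
reduction, given Steps 1 and 2.
-/

set_option autoImplicit false
set_option linter.style.haveILetI false
set_option linter.unusedSectionVars false

open Cfsg
open scoped commutatorElement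
open Cfsg.Agent.Lib.Helper10.BG

namespace Cfsg.Agent.Lib.Helper9.BGExc

variable {G : Type*} [Group G]

/-- Steps 1 and 2 of Proposition 12.4 for the prime `p`, as a proposition. -/
def Steps12 (G : Type*) [Group G] (p : ℕ) : Prop :=
  ∀ (M A : Subgroup G), IsCoatom M → A ≤ M → IsElementaryAbelian p A → Nat.card A = p ^ 2 →
    (∀ A₀ : Subgroup G, A₀ ≤ A → Nat.card A₀ = p →
      ¬ (Subgroup.normalizer (A₀ : Set G) ≤ M ∧ ∀ L : Subgroup G, IsCoatom L →
        Subgroup.normalizer (A₀ : Set G) ≤ L → L = M)) →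
    p ∈ sigma M ∧ alphaCore M = ⊥

variable [Finite G]

/-- `M_σ ≤ M'`. -/
theorem sigmaCore_le_commutator (hG : IsMinSimpleOddOrder G) {M : Subgroup G} (hM : IsCoatom M) :
    sigmaCore M ≤ ⁅M, M⁆ := by
  have hpl : Cfsg.Agent.Lib.Helper9.BG10.AllPLengthOne G := fun q hq Z hZ => by
    haveI : Fact q.Prime := ⟨hq⟩
    exact Cfsg.Agent.S1410.result hG q Z hZ
  apply le_of_forall_sylow_le
  intro q hq
  haveI : Fact q.Prime := ⟨hq⟩
  obtain ⟨Q, hQ⟩ := exists_isSylowIn q (sigmaCore M)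
  refine ⟨Q, hQ, ?_⟩
  by_cases hQ1 : Q = ⊥
  · rw [hQ1]; exact bot_le
  have hqd : q ∣ Nat.card (sigmaCore M) :=
    (dvd_card_of_pgroup_ne_bot hQ.isPGroup hQ1).trans (Subgroup.card_dvd_of_le hQ.le)
  have hqσ : q ∈ sigma M := mem_sigma_of_dvd_card_sigmaCore hG hM hq hqd
  obtain ⟨hQM, hQtop⟩ := isSylowIn_of_sigmaCore hG hM hqσ hQ
  have hN : Subgroup.normalizer (Q : Set G) ≤ M := (sigmaProp_of_mem_sigma hM hqσ).2 Q hQM
  have h1 := Cfsg.Agent.Lib.Helper9.BG10.sylow_le_commutator_normalizer hG hpl hQtop.toSylowTop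
  rw [hQtop.coe_toSylowTop] at h1
  exact h1.trans (Subgroup.commutator_mono hQM.le hN)

/-- Step 3 of Proposition 12.4. -/
theorem isNilpotent_sigmaCore_of_alphaCore_eq_bot (hG : IsMinSimpleOddOrder G) {M : Subgroup G}
    (hM : IsCoatom M) (hα : alphaCore M = ⊥) : Group.IsNilpotent (sigmaCore M) := by
  have h1 := (Cfsg.Agent.S1405.result hG M hM).2.2.2.2
  have h2 : piCore (alpha M) ↥M = ⊥ := by
    unfold alphaCore at hα
    exact (Subgroup.map_eq_bot_iff_of_injective _ M.subtype_injective).mp hα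
  have hinj : Function.Injective (QuotientGroup.mk' (piCore (alpha M) ↥M)) := by
    rw [← MonoidHom.ker_eq_bot_iff, QuotientGroup.ker_mk', h2]
  have h3 : Group.IsNilpotent ↥(commutator ↥M) :=
    Group.nilpotent_of_mulEquiv ((commutator ↥M).equivMapOfInjective _ hinj).symm
  have h4 : Group.IsNilpotent ↥⁅M, M⁆ := isNilpotent_commutator_subgroup h3
  exact isNilpotent_of_le (sigmaCore_le_commutator hG hM) h4

theorem not_mem_alpha_of_alphaCore_eq_bot (hG : IsMinSimpleOddOrder G) {M : Subgroup G}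
    (hM : IsCoatom M) (hα : alphaCore M = ⊥) {p : ℕ} (hp : p.Prime) (hpM : p ∣ Nat.card M) :
    p ∉ alpha M := by
  intro hpα
  have h1 := (Cfsg.Agent.S1405.result hG M hM).1.2.2 p hp hpα
  rw [hα, Subgroup.relIndex_bot_left] at h1
  exact h1 hpM

variable {p : ℕ} [Fact p.Prime]

/-- Proposition 12.4, given Steps 1 and 2. -/
theorem prop124_of_steps12 (hG : IsMinSimpleOddOrder G) (h12 : Steps12 G p) : Prop124 G p := by
  have hp : p.Prime := Fact.out
  intro M A hM hAM hAe hAcard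
  have hAp : IsPGroup p A := Cfsg.Agent.Lib.Lead.BGTrans.isPGroup_of_pow_eq_one hAe.2
  have hA1 : A ≠ ⊥ := by
    intro h
    rw [h, Subgroup.card_bot] at hAcard
    have : 1 < p ^ 2 := Nat.one_lt_pow (by norm_num) hp.one_lt
    omega
  by_cases hH : ∀ A₀ : Subgroup G, A₀ ≤ A → Nat.card A₀ = p →
      ¬ (Subgroup.normalizer (A₀ : Set G) ≤ M ∧ ∀ L : Subgroup G, IsCoatom L →
        Subgroup.normalizer (A₀ : Set G) ≤ L → L = M)
  · obtain ⟨hpσ, hα⟩ := h12 M A hM hAM hAe hAcard hH
    have hnil := isNilpotent_sigmaCore_of_alphaCore_eq_bot hG hM hα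
    refine ⟨?_, fun _ => ⟨hpσ, hα, hnil⟩⟩
    have hpM : p ∣ Nat.card M := hpσ.2.1
    have hpα := not_mem_alpha_of_alphaCore_eq_bot hG hM hα hp hpM
    have hrank : PRankLE p 2 ↥M := by
      by_contra hcon
      exact hpα ⟨hp, hcon⟩
    have hAσ : A ≤ sigmaCore M := pgroup_le_sigmaCore hG hM hpσ hAp hAM
    have hAP : A ≤ pCoreOf p (sigmaCore M) :=
      Cfsg.Agent.Lib.Helper9.BG10.pgroup_le_pCoreOf_of_nilpotent hnil hp hAσ hAp
    have hPp : IsPGroup p (pCoreOf p (sigmaCore M)) := isPGroup_pCoreOf p _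
    have hMP : M ≤ Subgroup.normalizer ((pCoreOf p (sigmaCore M) : Subgroup G) : Set G) :=
      le_normalizer_pCoreOf_of_le (le_normalizer_sigmaCore M)
    have hP1 : pCoreOf p (sigmaCore M) ≠ ⊥ := fun h => hA1 (le_bot_iff.mp (h ▸ hAP))
    have hZ1 := omegaZ_ne_bot hPp hP1
    have hMZ : M ≤ Subgroup.normalizer
        ((omegaZ p (pCoreOf p (sigmaCore M)) : Subgroup G) : Set G) :=
      hMP.trans (normalizer_le_normalizer_omegaZ p _)
    have hZM : omegaZ p (pCoreOf p (sigmaCore M)) ≤ M :=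
      (omegaZ_le p _).trans ((pCoreOf_le p _).trans (sigmaCore_le M))
    have hZe := isElementaryAbelian_omegaZ p (pCoreOf p (sigmaCore M))
    have hZA : omegaZ p (pCoreOf p (sigmaCore M)) ≤ A := by
      have hsup : IsElementaryAbelian p (A ⊔ omegaZ p (pCoreOf p (sigmaCore M))) := by
        apply isElementaryAbelian_sup hAe hZe
        intro a ha z hz
        exact (Subgroup.mem_centralizer_iff.mp (omegaZ_le_centralizer p _ hz) a (hAP ha))
      have hcard := card_le_of_pRankLE hrank (sup_le hAM hZM) hsup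
      have heq : A = A ⊔ omegaZ p (pCoreOf p (sigmaCore M)) :=
        Subgroup.eq_of_le_of_card_ge le_sup_left (by rw [hAcard]; exact hcard)
      rw [heq]
      exact le_sup_right
    have hNZ : Subgroup.normalizer ((omegaZ p (pCoreOf p (sigmaCore M)) : Subgroup G) : Set G) = M :=
      normalizer_eq_of_isCoatom' hG hM hZ1 hZM hMZ
    by_cases hZeq : omegaZ p (pCoreOf p (sigmaCore M)) = A
    · rw [hZeq] at hNZ
      rw [← hNZ]
      exact Subgroup.centralizer_le_normalizer _
    · exfalso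
      have hZcard : Nat.card (omegaZ p (pCoreOf p (sigmaCore M))) = p :=
        card_eq_prime_of_le_of_ne hAcard hZA
          (prime_le_card_of_ne_bot (hPp.to_le (omegaZ_le p _)) hZ1) hZeq
      apply hH _ hZA hZcard
      refine ⟨hNZ.le, fun L hL hNL => ?_⟩
      rw [hNZ] at hNL
      exact (hM.le_iff_eq hL.1).mp hNL
  · refine ⟨?_, fun h => absurd h hH⟩
    by_contra hcon
    apply hH
    rintro A₀ hA₀A hA₀ ⟨hN, -⟩
    apply hcon
    exact ((Subgroup.centralizer_le hA₀A).trans (Subgroup.centralizer_le_normalizer _)).trans hN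

end Cfsg.Agent.Lib.Helper9.BGExc
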