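import Mathlib
import Cfsg.Agent.Lib.Helper9.BGExc15
import Cfsg.Agent.Lib.Helper29.BGExcCfg
import Cfsg.Agent.Lib.Helper10.BGTwelveD

/-!
# Helper9 library: exceptional maximal subgroups, part 16

Assembly: Theorem 11.7 (`thm117`), the Section 11 package `sec11` for helper10's Proposition 12.4,
and Proposition 12.4 (`prop124`) for all primes.
-/

set_option autoImplicit false
set_option linter.style.haveILetI false
set_option linter.unusedSectionVars false

open Cfsg
open scoped commutatorElement
open Cfsg.Agent.Lib.Helper10.BG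

namespace Cfsg.Agent.Lib.Helper9.BGExc

variable {G : Type*} [Group G] [Finite G]

theorem cfgFalse (hG : IsMinSimpleOddOrder G) : CfgFalse G := by
  intro M A₀ A B₀ B Pr p r hp hr h
  haveI : Fact p.Prime := ⟨hp⟩
  haveI : Fact r.Prime := ⟨hr⟩
  exact Cfsg.Agent.Lib.Helper29.BGExcCfg.cfg_false hG (thm114 hG) h

/-- **Bender--Glauberman, Theorem 11.7.** -/
theorem thm117 (hG : IsMinSimpleOddOrder G) : Thm117 G := thm117_of hG (cfgFalse hG)

/-- the results of Section 11 in helper10's packaging. -/
theorem sec11 (hG : IsMinSimpleOddOrder G) : Cfsg.Agent.Lib.Helper10.BG.Sec11 G where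
  abelian := fun {M s _ B₀ B} h P hP x hx y hy => thm114 hG M s B₀ B P Fact.out h hP x hx y hy
  regular := fun h => h.centralizer_regular hG (thm114 hG)
  normal := fun {M s _ B₀ B} h => thm117 hG M s B₀ B Fact.out h

/-- **Bender--Glauberman, Proposition 12.4** for every prime. -/
theorem prop124 (hG : IsMinSimpleOddOrder G) (p : ℕ) [Fact p.Prime] : Prop124 G p :=
  fun M A hM hAM hAe hAc =>
    Cfsg.Agent.Lib.Helper10.BG.prop124 hG (sec11 hG) p M A hM hAM hAe hAc

end Cfsg.Agent.Lib.Helper9.BGExc
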