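import Mathlib
import Cfsg.Agent.Lib.Helper9.BGExc16
import Cfsg.Agent.Lib.Lead.BGTrans5

/-!
# Helper9 library: exceptional maximal subgroups, part 17

Normal `p`-subgroups of a maximal subgroup `M` for `p ∉ σ(M)` are cyclic, and the structure of
`O_{σ(M)'}(F(M))` (B & G, Lemma 15.?/ FT: `Y = O_{σ'}(F(M))` is a cyclic `τ₂(M)`-group).
-/

set_option autoImplicit false
set_option linter.style.haveILetI false
set_option linter.unusedSectionVars false

open Cfsg
open scoped commutatorElement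
open Cfsg.Agent.Lib.Helper10.BG

namespace Cfsg.Agent.Lib.Helper9.BGExc

variable {G : Type*} [Group G] [Finite G]

/-- a nontrivial normal `p`-subgroup `V` of a maximal subgroup `M`, `p ∉ σ(M)`, is abelian with
`Ω₁(V)` of order `p`. -/
theorem card_omegaZ_of_normal (hG : IsMinSimpleOddOrder G) {M : Subgroup G} (hM : IsCoatom M)
    {p : ℕ} [Fact p.Prime] (hpσ : p ∉ sigma M) {V : Subgroup G} (hVp : IsPGroup p V)
    (hV1 : V ≠ ⊥) (hVM : V ≤ M) (hMV : M ≤ Subgroup.normalizer (V : Set G)) :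
    Nat.card (omegaZ p V) = p ∧ ∀ u ∈ V, ∀ v ∈ V, u * v = v * u := by
  have hp : p.Prime := Fact.out
  have hrank2 : PRankLE p 2 ↥M :=
    alpha_rank M p hp (fun h => hpσ (alpha_subset_sigma hG hM h))
  have hZ1 := omegaZ_ne_bot hVp hV1
  have hZe := isElementaryAbelian_omegaZ p V
  have hZM : omegaZ p V ≤ M := (omegaZ_le p V).trans hVM
  have hMZ : M ≤ Subgroup.normalizer ((omegaZ p V : Subgroup G) : Set G) :=
    hMV.trans (normalizer_le_normalizer_omegaZ p V)
  have hZp : IsPGroup p (omegaZ p V) := hVp.to_le (omegaZ_le p V)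
  have hcard : Nat.card (omegaZ p V) = p := by
    obtain ⟨k, hk⟩ := hZp.exists_card_eq
    have h2 : Nat.card (omegaZ p V) ≤ p ^ 2 := card_le_of_pRankLE hrank2 hZM hZe
    have h1 : p ≤ Nat.card (omegaZ p V) := prime_le_card_of_ne_bot hZp hZ1
    rw [hk] at h1 h2 ⊢
    have hk2 : k ≤ 2 := (Nat.pow_le_pow_iff_right hp.one_lt).mp h2
    have hk0 : k ≠ 0 := by
      rintro rfl
      rw [pow_zero] at h1
      exact absurd h1 (by have := hp.two_le; omega)
    have hkne : k ≠ 2 := by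
      rintro rfl
      exact lemX hG M (omegaZ p V) p hp hM hpσ hZM hZe hk hMZ
    have : k = 1 := by omega
    rw [this, pow_one]
  refine ⟨hcard, ?_⟩
  have hNZ : Subgroup.normalizer ((omegaZ p V : Subgroup G) : Set G) = M :=
    normalizer_eq_of_isCoatom' hG hM hZ1 hZM hMZ
  obtain ⟨-, -, A, hAe, hAcard, hZA⟩ :=
    Cfsg.Agent.S1409.result hG M hM p hpσ (omegaZ p V) hcard hNZ.le
  have hAc := Cfsg.Agent.Lib.Helper12.isElementaryAbelian_comm hAe
  have hAM : A ≤ M := by
    intro a ha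
    apply hNZ.le
    apply Subgroup.centralizer_le_normalizer
    rw [Subgroup.mem_centralizer_iff]
    intro x hx
    exact hAc x (hZA hx) a ha
  have hexc : Exc M p (omegaZ p V) A := ⟨hM, hpσ, hZA, hAM, hcard, hAcard, hAe, hNZ.le⟩
  obtain ⟨P, hP, hVP⟩ := exists_isSylowIn_ge hVM hVp
  intro u hu v hv
  exact thm114 hG M p (omegaZ p V) A P hp hexc hP u (hVP hu) v (hVP hv)

/-- a normal `p`-subgroup of a maximal subgroup `M`, `p ∉ σ(M)`, has `p`-rank at most one. -/
theorem pRankLE_one_of_normal (hG : IsMinSimpleOddOrder G) {M : Subgroup G} (hM : IsCoatom M)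
    {p : ℕ} [Fact p.Prime] (hpσ : p ∉ sigma M) {V : Subgroup G} (hVp : IsPGroup p V)
    (hVM : V ≤ M) (hMV : M ≤ Subgroup.normalizer (V : Set G)) {B : Subgroup G} (hBV : B ≤ V)
    (hBe : IsElementaryAbelian p B) : Nat.card B ≤ p := by
  have hp : p.Prime := Fact.out
  by_cases hV1 : V = ⊥
  · have : B = ⊥ := le_bot_iff.mp (hV1 ▸ hBV)
    rw [this, Subgroup.card_bot]
    exact hp.one_lt.le
  obtain ⟨hcard, hcomm⟩ := card_omegaZ_of_normal hG hM hpσ hVp hV1 hVM hMV
  have hle : B ≤ omegaZ p V := by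
    intro b hb
    refine ⟨hBV hb, ?_, hBe.2 b hb⟩
    rw [Subgroup.mem_centralizer_iff]
    intro x hx
    exact hcomm x hx b (hBV hb)
  exact hcard ▸ Subgroup.card_le_of_le hle

end Cfsg.Agent.Lib.Helper9.BGExc
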