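import Mathlib
import Cfsg.Agent.Lib.Helper9.BGExc17
import Cfsg.Agent.Lib.Helper10.BGUniq3

/-!
# Helper9 library: B & G Section 13 (prime action), part 1

General lemmas, the later results of Section 12 as hypothesis-propositions (`H1420`, `H1423`,
`H1424`), and "Claim A": `M_σ ∩ (H_σ)' = 1` for distinct maximal subgroups.
-/

set_option autoImplicit false
set_option linter.style.haveILetI false
set_option linter.unusedSectionVars false

open Cfsg
open scoped commutatorElement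
open Cfsg.Agent.Lib.Helper10.BG
open Cfsg.Agent.Lib.Helper9.BGExc

namespace Cfsg.Agent.Lib.Helper9.BGPrime

variable {G : Type*} [Group G]

/-- S1420 (2): `E'` is abelian. -/
def H1420b (G : Type*) [Group G] : Prop :=
  ∀ (M E : Subgroup G), IsCoatom M → IsComplIn E (sigmaCore M) M → ∀ u ∈ ⁅E, E⁆, ∀ v ∈ ⁅E, E⁆,
    u * v = v * u

/-- S1420 (3): `N_G(P) ≤ M` for noncyclic `p`-subgroups `P` of `M`, `p ∈ σ(M)`. -/
def H1420c (G : Type*) [Group G] : Prop :=
  ∀ (M : Subgroup G), IsCoatom M → ∀ (p : ℕ) (P : Subgroup G), p ∈ sigma M → IsPGroup p P → P ≤ M →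
    ¬ IsCyclic P → Subgroup.normalizer (P : Set G) ≤ M

/-- S1423 in `IsSylowIn` form. -/
def H1423 (G : Type*) [Group G] : Prop :=
  ∀ (M : Subgroup G), IsCoatom M → ∀ (q : ℕ), q ∈ sigma M → ∀ X : Subgroup G, X ≤ M → Nat.card X = q →
    X ≤ ⁅sigmaCore M, sigmaCore M⁆ →
    (∀ L : Subgroup G, IsCoatom L → Subgroup.centralizer (X : Set G) ≤ L → L = M) ∧
    ∀ Q L : Subgroup G, IsSylowIn q Q (sigmaCore M) → IsCoatom L → Q ≤ L → L = M

/-- S1424 in `IsSylowIn` form. -/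
def H1424 (G : Type*) [Group G] : Prop :=
  ∀ (M : Subgroup G), IsCoatom M → ∀ (q : ℕ), q ∈ sigma M → ∀ X : Subgroup G, IsPGroup q X → X ≠ ⊥ →
    X ≤ M → ∀ Mstar : Subgroup G, IsCoatom Mstar → Mstar ≠ M →
    Subgroup.normalizer (X : Set G) ≤ Mstar →
    ∃ S : Subgroup G, X ≤ S ∧ S ≤ M ∧ IsSylowIn q S Mstar ∧ Subgroup.normalizer (S : Set G) ≤ M ∧
      ∀ g : G, Mstar ≠ cj g M

variable [Finite G]

section General

variable {p : ℕ} [Fact p.Prime]

/-- an elementary abelian subgroup of order `p ^ 2` inside a Sylow subgroup of a group of `p`-rank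
exactly two. -/
theorem exists_elemAb_sq_le {H T : Subgroup G}
    (hr2 : PRankLE p 2 ↥H) (hr1 : ¬ PRankLE p 1 ↥H) (hT : IsSylowIn p T H) :
    ∃ A : Subgroup G, A ≤ T ∧ IsElementaryAbelian p A ∧ Nat.card A = p ^ 2 := by
  have hp : p.Prime := Fact.out
  obtain ⟨V, hVH, hVe, hVcard⟩ := Cfsg.Agent.S1400.exists_elementary_of_not_pRankLE hr1
  have hVp : IsPGroup p V := Cfsg.Agent.Lib.Lead.BGTrans.isPGroup_of_pow_eq_one hVe.2
  have hV2 : Nat.card V = p ^ 2 := by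
    have h2 : Nat.card V ≤ p ^ 2 :=
      Cfsg.Agent.Lib.Helper9.BGExc.card_le_of_pRankLE hr2 hVH hVe
    obtain ⟨k, hk⟩ := hVp.exists_card_eq
    rw [hk] at h2 hVcard ⊢
    have hk2 : k ≤ 2 := (Nat.pow_le_pow_iff_right hp.one_lt).mp h2
    have hk1 : 1 < k := (Nat.pow_lt_pow_iff_right hp.one_lt).mp hVcard
    have : k = 2 := by omega
    rw [this]
  obtain ⟨T', hT', hVT'⟩ := exists_isSylowIn_ge hVH hVp
  obtain ⟨m, -, hconj⟩ := hT'.exists_conj hT
  refine ⟨cj m V, ?_, isElementaryAbelian_cj hVe m, ?_⟩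
  · rw [hconj]
    exact cj_mono m hVT'
  · rw [card_cj, hV2]

omit [Fact p.Prime] in
/-- a group with a cyclic Sylow `p`-subgroup has `p`-rank at most one. -/
theorem pRankLE_one_of_cyclic {M T : Subgroup G} (hp : p.Prime) (hT : IsSylowIn p T M)
    (hc : IsCyclic T) : PRankLE p 1 ↥M := by
  classical
  haveI : Fact p.Prime := ⟨hp⟩
  by_contra hcon
  obtain ⟨V, hVM, hVe, hVcard⟩ := Cfsg.Agent.S1400.exists_elementary_of_not_pRankLE hcon
  have hVp : IsPGroup p V := Cfsg.Agent.Lib.Lead.BGTrans.isPGroup_of_pow_eq_one hVe.2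
  obtain ⟨T', hT', hVT'⟩ := exists_isSylowIn_ge hVM hVp
  obtain ⟨m, -, hconj⟩ := hT'.exists_conj hT
  have hle : cj m V ≤ T := by
    rw [hconj]; exact cj_mono m hVT'
  have hcyc : IsCyclic ↥((cj m V).subgroupOf T) := by
    haveI := hc
    exact Subgroup.isCyclic _
  have hcard : Nat.card ↥((cj m V).subgroupOf T) = Nat.card V := by
    rw [Nat.card_congr (Subgroup.subgroupOfEquivOfLe hle).toEquiv, card_cj]
  have hexp : ∀ a : ↥((cj m V).subgroupOf T), a ^ p = 1 := by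
    intro a
    apply Subtype.ext
    apply Subtype.ext
    have h1 : ((a : T) : G) ∈ cj m V := a.2
    obtain ⟨v, hv, hva⟩ := h1
    show (((a : T) : G)) ^ p = 1
    rw [← hva]
    show (m * v * m⁻¹) ^ p = 1
    rw [conj_pow, hVe.2 v hv]
    group
  haveI : Finite ↥((cj m V).subgroupOf T) := inferInstance
  haveI := Fintype.ofFinite ↥((cj m V).subgroupOf T)
  have h2 := IsCyclic.card_pow_eq_one_le (α := ↥((cj m V).subgroupOf T)) hp.pos
  have h3 : (Finset.univ.filter fun a : ↥((cj m V).subgroupOf T) => a ^ p = 1) = Finset.univ := by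
    apply Finset.filter_true_of_mem
    intro a _
    exact hexp a
  rw [h3, Finset.card_univ, ← Nat.card_eq_fintype_card, hcard] at h2
  rw [pow_one] at hVcard
  omega

end General

section Disjoint

/-- `σ(M) ∩ σ(H) = ∅` if `H_σ` is nilpotent and `H` is not conjugate to `M`. -/
theorem sigma_disjoint_of_nilpotent (hG : IsMinSimpleOddOrder G) {M H : Subgroup G}
    (hM : IsCoatom M) (hH : IsCoatom H) (hnil : Group.IsNilpotent (sigmaCore H))
    (hconj : ∀ g : G, H ≠ cj g M) {q : ℕ} (hqM : q ∈ sigma M) (hqH : q ∈ sigma H) : False := by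
  have hq : q.Prime := hqM.1
  haveI : Fact q.Prime := ⟨hq⟩
  have hQs := Cfsg.Agent.Lib.Helper9.BG10.isSylowIn_pCoreOf hnil hq
  obtain ⟨hQH, hQtop⟩ := isSylowIn_of_sigmaCore hG hH hqH hQs
  have hQ1 : pCoreOf q (sigmaCore H) ≠ ⊥ := hQH.ne_bot_of_dvd hqH.2.1
  have hHQ : H ≤ Subgroup.normalizer ((pCoreOf q (sigmaCore H) : Subgroup G) : Set G) :=
    le_normalizer_pCoreOf_of_le (le_normalizer_sigmaCore H)
  obtain ⟨Q₂, hQ₂⟩ := exists_isSylowIn q M
  have hQ₂top := (sigmaProp_of_mem_sigma hM hqM).isSylowIn_top hQ₂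
  have hN₂ : Subgroup.normalizer (Q₂ : Set G) ≤ M := (sigmaProp_of_mem_sigma hM hqM).2 Q₂ hQ₂
  obtain ⟨g, -, hg⟩ := hQtop.exists_conj hQ₂top
  have h1 : cj g H ≤ M := by
    refine le_trans ?_ hN₂
    rw [hg, normalizer_cj]
    exact cj_mono g hHQ
  have h2 : cj g H = M := by
    have hc : IsCoatom (cj g H) := isCoatom_map_conj g hH
    exact ((hc.le_iff_eq hM.1).mp h1).symm
  apply hconj g⁻¹
  rw [← h2, cj_inv_cj]

/-- Claim A: `M_σ ∩ (H_σ)' = 1` for distinct maximal subgroups `M`, `H`. -/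
theorem sigmaCore_inf_commutator_eq_bot (hG : IsMinSimpleOddOrder G) (h23 : H1423 G)
    (h24 : H1424 G) {M H : Subgroup G} (hM : IsCoatom M) (hH : IsCoatom H) (hne : M ≠ H) :
    sigmaCore M ⊓ ⁅sigmaCore H, sigmaCore H⁆ = ⊥ := by
  by_contra hcon
  have hcard : Nat.card (sigmaCore M ⊓ ⁅sigmaCore H, sigmaCore H⁆ : Subgroup G) ≠ 1 :=
    fun h => hcon (Subgroup.card_eq_one.mp h)
  obtain ⟨q, hq, hqd⟩ := Nat.exists_prime_and_dvd hcard
  haveI : Fact q.Prime := ⟨hq⟩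
  obtain ⟨x, hx⟩ := exists_prime_orderOf_dvd_card' (G := ↥(sigmaCore M ⊓ ⁅sigmaCore H, sigmaCore H⁆ : Subgroup G)) q hqd
  have hxo : orderOf (x : G) = q := by rw [Subgroup.orderOf_coe]; exact hx
  have hxM : (x : G) ∈ sigmaCore M := (Subgroup.mem_inf.mp x.2).1
  have hxH : (x : G) ∈ ⁅sigmaCore H, sigmaCore H⁆ := (Subgroup.mem_inf.mp x.2).2
  have hHσH : ⁅sigmaCore H, sigmaCore H⁆ ≤ sigmaCore H := commutator_self_le _
  have hXcard : Nat.card (Subgroup.zpowers (x : G)) = q := by rw [Nat.card_zpowers, hxo]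
  have hqM : q ∈ sigma M := mem_sigma_of_dvd_card_sigmaCore hG hM hq
    (hxo ▸ (orderOf_dvd_natCard (⟨(x : G), hxM⟩ : sigmaCore M) |> fun h => by
      rwa [← Subgroup.orderOf_coe] at h))
  have hqH : q ∈ sigma H := mem_sigma_of_dvd_card_sigmaCore hG hH hq
    (hxo ▸ (orderOf_dvd_natCard (⟨(x : G), hHσH hxH⟩ : sigmaCore H) |> fun h => by
      rwa [← Subgroup.orderOf_coe] at h))
  have hXM : Subgroup.zpowers (x : G) ≤ M := Subgroup.zpowers_le.mpr (sigmaCore_le M hxM)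
  have hXH : Subgroup.zpowers (x : G) ≤ H := Subgroup.zpowers_le.mpr (sigmaCore_le H (hHσH hxH))
  have hXq : IsPGroup q (Subgroup.zpowers (x : G)) := IsPGroup.of_card (n := 1) (by rw [hXcard, pow_one])
  have hX1 : Subgroup.zpowers (x : G) ≠ ⊥ := ne_bot_of_card_prime hXcard
  obtain ⟨huniq, hsyl⟩ := h23 H hH q hqH (Subgroup.zpowers (x : G)) hXH hXcard
    (Subgroup.zpowers_le.mpr hxH)
  -- `N_G(X) ≤ H`
  have hNX : Subgroup.normalizer ((Subgroup.zpowers (x : G) : Subgroup G) : Set G) ≤ H := by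
    have hne' : Subgroup.normalizer ((Subgroup.zpowers (x : G) : Subgroup G) : Set G) ≠ ⊤ :=
      Cfsg.Agent.Lib.Lead.BGTrans.normalizer_ne_top hG.2 hX1
        (Cfsg.Agent.Lib.Lead.BGTrans.pgroup_ne_top hG.2 hXq)
    obtain ⟨L, hL, hNL⟩ := exists_isCoatom_ge hne'
    have hLH : L = H := huniq L hL ((Subgroup.centralizer_le_normalizer _).trans hNL)
    exact hLH ▸ hNL
  obtain ⟨S, hXS, hSM, hSH, -, -⟩ := h24 M hM q hqM _ hXq hX1 hXM H hH (Ne.symm hne) hNX
  have hSσ : S ≤ sigmaCore H := pgroup_le_sigmaCore hG hH hqH hSH.isPGroup hSH.le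
  have hSs : IsSylowIn q S (sigmaCore H) := hSH.of_le hSσ (sigmaCore_le H)
  exact hne (hsyl S M hSs hM hSM)

end Disjoint

end Cfsg.Agent.Lib.Helper9.BGPrime
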