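import Mathlib
import Cfsg.Agent.Lib.Helper9.BGPrime1
import Cfsg.Agent.Lib.Helper9.Signalizer
import Cfsg.Agent.Lib.Helper10.BGTwelveF
import Cfsg.Agent.Lib.Helper19.BGCompl
import Cfsg.Agent.Lib.Helper1.CoprimeAbelian
import Cfsg.Agent.S1417
import Cfsg.Agent.S1418

/-!
# Helper9 library: B & G Section 13 (prime action), part 2

A cyclic Sylow subgroup `S` of a complement `E` of `M_σ` acts in a prime manner on `M_σ`:
setup and the case `p ∈ σ(H)`.
-/

set_option autoImplicit false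
set_option linter.style.haveILetI false
set_option linter.unusedSectionVars false
set_option linter.unusedVariables false

open Cfsg
open scoped commutatorElement
open Cfsg.Agent.Lib.Helper10.BG
open Cfsg.Agent.Lib.Helper9.BGExc
open Cfsg.Agent.Lib.Helper1 (CoprimeAct)

namespace Cfsg.Agent.Lib.Helper9.BGPrime

variable {G : Type*} [Group G]

/-- a subgroup of a cyclic subgroup is characteristic. -/
theorem normalizer_le_normalizer_of_le_cyclic [Finite G] {T X : Subgroup G} (hc : IsCyclic T)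
    (hXT : X ≤ T) : Subgroup.normalizer (T : Set G) ≤ Subgroup.normalizer (X : Set G) := by
  intro n hn
  apply mem_normalizer_of_map_conj_eq
  have h2 : X.map (MulAut.conj n).toMonoidHom ≤ T := by
    rintro _ ⟨x, hx, rfl⟩
    exact conj_mem_of_mem_normalizer hn (hXT hx)
  haveI := hc
  exact Cfsg.Agent.Lib.Helper10.eq_of_card_eq_of_le_isCyclic T _ _ h2 hXT
    (Subgroup.card_map_of_injective (MulAut.conj n).injective)

/-- a cyclic subgroup is abelian. -/
theorem le_centralizer_of_cyclic {T X : Subgroup G} (hc : IsCyclic T)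
    (hXT : X ≤ T) : T ≤ Subgroup.centralizer (X : Set G) := by
  intro t ht
  rw [Subgroup.mem_centralizer_iff]
  intro x hx
  obtain ⟨g, hg⟩ := hc.exists_generator
  obtain ⟨a, ha⟩ := Subgroup.mem_zpowers_iff.mp (hg ⟨t, ht⟩)
  obtain ⟨b, hb⟩ := Subgroup.mem_zpowers_iff.mp (hg ⟨x, hXT hx⟩)
  have h1 : (g : G) ^ a = t := by
    have := congrArg Subtype.val ha
    simpa using this
  have h2 : (g : G) ^ b = x := by
    have := congrArg Subtype.val hb
    simpa using this
  rw [← h1, ← h2, ← zpow_add, ← zpow_add, add_comm]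

/-- `C_{M_σ}(P₀)`. -/
abbrev cent (M P₀ : Subgroup G) : Subgroup G :=
  sigmaCore M ⊓ Subgroup.centralizer (P₀ : Set G)

/-- the configuration of the theorem: `S` is a nontrivial cyclic Sylow `p`-subgroup of the
complement `E`, and `P₀ = Ω₁(S)`. -/
structure PCfg (p : ℕ) (M E S P₀ : Subgroup G) : Prop where
  hM : IsCoatom M
  hE : IsComplIn E (sigmaCore M) M
  hS : IsSylowIn p S E
  hSc : IsCyclic S
  hP₀ : P₀ ≤ S
  hcard : Nat.card P₀ = p

namespace PCfg

variable [Finite G] {p : ℕ} [Fact p.Prime] {M E S P₀ : Subgroup G}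

theorem dvd_card (h : PCfg p M E S P₀) : p ∣ Nat.card S := by
  have := Subgroup.card_dvd_of_le h.hP₀
  rwa [h.hcard] at this

theorem P₀_ne_bot (h : PCfg p M E S P₀) : P₀ ≠ ⊥ :=
  ne_bot_of_card_prime h.hcard

theorem S_ne_bot (h : PCfg p M E S P₀) : S ≠ ⊥ := by
  intro hS
  apply h.P₀_ne_bot
  have := h.hP₀
  rw [hS] at this
  exact le_bot_iff.mp this

theorem isPGroup (h : PCfg p M E S P₀) : IsPGroup p S := h.hS.isPGroup

theorem isPGroup_P₀ (h : PCfg p M E S P₀) : IsPGroup p P₀ := h.isPGroup.to_le h.hP₀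

theorem not_mem_sigma (hG : IsMinSimpleOddOrder G) (h : PCfg p M E S P₀) : p ∉ sigma M :=
  Cfsg.Agent.Lib.Helper19.BGCompl.compl_not_mem_sigma hG h.hM h.hE Fact.out
    (dvd_trans h.dvd_card (Subgroup.card_dvd_of_le h.hS.le))

theorem isSylowIn (hG : IsMinSimpleOddOrder G) (h : PCfg p M E S P₀) : IsSylowIn p S M :=
  IsComplIn.isSylowIn hG h.hM h.hE (h.not_mem_sigma hG) h.hS

theorem S_le (h : PCfg p M E S P₀) : S ≤ M := h.hS.le.trans h.hE.1

theorem pRankLE (hG : IsMinSimpleOddOrder G) (h : PCfg p M E S P₀) : PRankLE p 1 ↥M :=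
  pRankLE_one_of_cyclic Fact.out (h.isSylowIn hG) h.hSc

theorem le_centralizer (h : PCfg p M E S P₀) : S ≤ Subgroup.centralizer (P₀ : Set G) :=
  le_centralizer_of_cyclic h.hSc h.hP₀

theorem le_normalizer_cent (h : PCfg p M E S P₀) :
    S ≤ Subgroup.normalizer ((cent M P₀ : Subgroup G) : Set G) := by
  intro s hs
  have h1 := le_normalizer_sigmaCore M (h.S_le hs)
  have h2 : s ∈ Subgroup.normalizer
      ((Subgroup.centralizer (P₀ : Set G) : Subgroup G) : Set G) :=
    Subgroup.le_normalizer (h.le_centralizer hs)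
  rw [Subgroup.mem_normalizer_iff] at h1 h2 ⊢
  intro x
  rw [Subgroup.mem_inf, Subgroup.mem_inf, h1 x, h2 x]

theorem coprime (hG : IsMinSimpleOddOrder G) (h : PCfg p M E S P₀) :
    (Nat.card S).Coprime (Nat.card (cent M P₀)) := by
  obtain ⟨k, hk⟩ := h.isPGroup.exists_card_eq
  rw [hk]
  apply Nat.Coprime.pow_left
  apply Nat.Coprime.coprime_dvd_right (Subgroup.card_dvd_of_le (inf_le_left : cent M P₀ ≤ sigmaCore M))
  exact (coprime_card_sigmaCore hG h.hM Fact.out (h.not_mem_sigma hG)).symm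

theorem coprimeAct (hG : IsMinSimpleOddOrder G) (h : PCfg p M E S P₀) :
    CoprimeAct S (cent M P₀) where
  norm := h.le_normalizer_cent
  cop := h.coprime hG
  solv := Or.inl (isSolvable_of_ne_top hG (ne_top_of_le_ne_top h.hM.1 h.S_le))

theorem comm_le (h : PCfg p M E S P₀) : ⁅cent M P₀, S⁆ ≤ cent M P₀ :=
  Cfsg.Agent.Lib.Helper1.commutator_le_of_le_normalizer h.le_normalizer_cent

theorem comm_comm (hG : IsMinSimpleOddOrder G) (h : PCfg p M E S P₀) :
    ⁅⁅cent M P₀, S⁆, S⁆ = ⁅cent M P₀, S⁆ :=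
  (h.coprimeAct hG).commutator_commutator_eq

/-- no conjugate of an elementary abelian `p`-group of order `p ^ 2` lies in `M`. -/
theorem not_cj_le (hG : IsMinSimpleOddOrder G) (h : PCfg p M E S P₀) {A : Subgroup G}
    (hAe : IsElementaryAbelian p A) (hAcard : Nat.card A = p ^ 2) (g : G) : ¬ cj g A ≤ M := by
  intro hle
  have h1 := Cfsg.Agent.Lib.Helper9.BGExc.card_le_of_pRankLE (h.pRankLE hG) hle
    (isElementaryAbelian_cj hAe g)
  rw [card_cj, hAcard, pow_one] at h1
  have hp : p.Prime := Fact.out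
  nlinarith [hp.one_lt]

section WithH

variable {H : Subgroup G}

theorem cent_le (h : PCfg p M E S P₀) (hNH : Subgroup.normalizer (P₀ : Set G) ≤ H) :
    cent M P₀ ≤ H :=
  inf_le_right.trans ((Subgroup.centralizer_le_normalizer _).trans hNH)

theorem S_le_H (h : PCfg p M E S P₀) (hNH : Subgroup.normalizer (P₀ : Set G) ≤ H) :
    S ≤ H :=
  h.le_centralizer.trans ((Subgroup.centralizer_le_normalizer _).trans hNH)

theorem normalizer_S_le (h : PCfg p M E S P₀) (hNH : Subgroup.normalizer (P₀ : Set G) ≤ H) :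
    Subgroup.normalizer (S : Set G) ≤ H :=
  (normalizer_le_normalizer_of_le_cyclic h.hSc h.hP₀).trans hNH

theorem not_conj (hG : IsMinSimpleOddOrder G) (h : PCfg p M E S P₀) (hH : IsCoatom H)
    (hNH : Subgroup.normalizer (P₀ : Set G) ≤ H) (g : G) : H ≠ cj g M := by
  intro hconj
  have hMeq : cj g⁻¹ H = M := by rw [hconj, cj_inv_cj]
  have hS'M : cj g⁻¹ S ≤ M := by
    rw [← hMeq]; exact cj_mono _ (h.S_le_H hNH)
  have hS'p : IsPGroup p (cj g⁻¹ S) := h.isPGroup.map _
  have hS' : IsSylowIn p (cj g⁻¹ S) M := by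
    apply isSylowIn_of_card_ge hS'M hS'p
    intro Q hQM hQ _
    rw [card_cj]
    exact (h.isSylowIn hG).card_le hQM hQ
  have hN : Subgroup.normalizer ((cj g⁻¹ S : Subgroup G) : Set G) ≤ M := by
    rw [normalizer_cj, ← hMeq]
    exact cj_mono _ (h.normalizer_S_le hNH)
  have hpM : p ∣ Nat.card M := dvd_trans h.dvd_card (Subgroup.card_dvd_of_le h.S_le)
  exact h.not_mem_sigma hG (Cfsg.Agent.Lib.Helper29.BGExcCfg.mem_sigma_of_sylow hS' hN hpM)

theorem ne_H (hG : IsMinSimpleOddOrder G) (h : PCfg p M E S P₀) (hH : IsCoatom H)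
    (hNH : Subgroup.normalizer (P₀ : Set G) ≤ H) : M ≠ H := by
  intro hMH
  apply h.not_conj hG hH hNH 1
  rw [cj_one, hMH]

/-- Case (I): `p ∈ σ(H)`. -/
theorem caseI (hG : IsMinSimpleOddOrder G) (h23 : H1423 G) (h24 : H1424 G)
    (h : PCfg p M E S P₀) (hH : IsCoatom H)
    (hNH : Subgroup.normalizer (P₀ : Set G) ≤ H) (hpH : p ∈ sigma H) :
    ⁅cent M P₀, S⁆ = ⊥ := by
  have hSσ : S ≤ sigmaCore H := pgroup_le_sigmaCore hG hH hpH h.isPGroup (h.S_le_H hNH)
  have h1 : ⁅cent M P₀, S⁆ ≤ sigmaCore H := by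
    refine (Subgroup.commutator_mono (h.cent_le hNH) hSσ).trans ?_
    rw [Subgroup.commutator_comm]
    exact Cfsg.Agent.Lib.Helper1.commutator_le_of_le_normalizer (le_normalizer_sigmaCore H)
  have h2 : ⁅cent M P₀, S⁆ ≤ ⁅sigmaCore H, sigmaCore H⁆ := by
    rw [← h.comm_comm hG]
    exact Subgroup.commutator_mono h1 hSσ
  have h3 : ⁅cent M P₀, S⁆ ≤ sigmaCore M := h.comm_le.trans inf_le_left
  have hA := sigmaCore_inf_commutator_eq_bot hG h23 h24 h.hM hH (h.ne_H hG hH hNH)
  rw [eq_bot_iff, ← hA]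
  exact le_inf h3 h2

end WithH

end PCfg

end Cfsg.Agent.Lib.Helper9.BGPrime
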