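import Mathlib
import Cfsg.Agent.Lib.Helper9.BGPrime2

/-!
# Helper9 library: B & G Section 13 (prime action), part 3

The case `p ∈ τ₂(H)`: setup and the sub-case `q ∈ τ₂(H)`.
-/

set_option autoImplicit false
set_option linter.style.haveILetI false
set_option linter.unusedSectionVars false
set_option linter.unusedVariables false

open Cfsg
open scoped commutatorElement
open Cfsg.Agent.Lib.Helper10.BG
open Cfsg.Agent.Lib.Helper9.BGExc
open Cfsg.Agent.Lib.Helper1 (CoprimeAct)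

namespace Cfsg.Agent.Lib.Helper9.BGPrime

variable {G : Type*} [Group G]

/-- the configuration of case (II): `p ∈ τ₂(H)`. -/
structure HCfg (p : ℕ) (M S P₀ H EH A : Subgroup G) : Prop where
  hH : IsCoatom H
  hNH : Subgroup.normalizer (P₀ : Set G) ≤ H
  hτ : p ∈ tau2 H
  hEH : IsComplIn EH (sigmaCore H) H
  hcentE : cent M P₀ ≤ EH
  hSE : S ≤ EH
  hAE : A ≤ EH
  hAe : IsElementaryAbelian p A
  hAcard : Nat.card A = p ^ 2
  hdisj : ∀ q : ℕ, q ∈ sigma M → q ∈ sigma H → False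

/-- the data attached to a prime divisor `q` of `|R|`. -/
structure QCfg (q : ℕ) (M S H EH Rq : Subgroup G) : Prop where
  hq : q ∈ sigma M
  hqH : q ∉ sigma H
  hRq : IsPGroup q Rq
  hRq1 : Rq ≠ ⊥
  hRqM : Rq ≤ sigmaCore M
  hRqE : Rq ≤ ⁅EH, EH⁆
  hRqS : ⁅Rq, S⁆ = Rq

variable [Finite G] {p : ℕ} [Fact p.Prime] {M E S P₀ H EH A : Subgroup G}

theorem PCfg.exists_hCfg (hG : IsMinSimpleOddOrder G) (h : PCfg p M E S P₀) (hH : IsCoatom H)
    (hNH : Subgroup.normalizer (P₀ : Set G) ≤ H) (hτ : p ∈ tau2 H) :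
    ∃ EH A : Subgroup G, HCfg p M S P₀ H EH A := by
  have hp : p.Prime := Fact.out
  -- nilpotency of `H_σ`
  obtain ⟨T₀, hT₀⟩ := exists_isSylowIn p H
  obtain ⟨A₀, hA₀T, hA₀e, hA₀card⟩ := exists_elemAb_sq_le hτ.2.2.1 hτ.2.2.2 hT₀
  have hnil : Group.IsNilpotent (sigmaCore H) :=
    (Cfsg.Agent.S1417.result hG H hH p hτ A₀ ⟨hA₀T.trans hT₀.le, hA₀e, hA₀card⟩).1
  have hdisj : ∀ q : ℕ, q ∈ sigma M → q ∈ sigma H → False := fun q hqM hqH =>
    sigma_disjoint_of_nilpotent hG h.hM hH hnil (h.not_conj hG hH hNH) hqM hqH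
  -- the complement
  have hKH : cent M P₀ ⊔ S ≤ H := sup_le (h.cent_le hNH) (h.S_le_H hNH)
  have hK : ∀ q : ℕ, q.Prime → q ∣ Nat.card (cent M P₀ ⊔ S : Subgroup G) → q ∉ sigma H := by
    intro q hq hd hqH
    have h1 := dvd_trans hd
      (Cfsg.Agent.Lib.Helper9.card_sup_dvd_of_le_normalizer h.le_normalizer_cent)
    rcases (Nat.Prime.dvd_mul hq).mp h1 with h2 | h2
    · have h3 : q ∣ Nat.card (sigmaCore M) :=
        dvd_trans h2 (Subgroup.card_dvd_of_le (inf_le_left : cent M P₀ ≤ sigmaCore M))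
      exact hdisj q (mem_sigma_of_dvd_card_sigmaCore hG h.hM hq h3) hqH
    · obtain ⟨k, hk⟩ := h.isPGroup.exists_card_eq
      rw [hk] at h2
      have h3 : q = p := (Nat.prime_dvd_prime_iff_eq hq hp).mp (hq.dvd_of_dvd_pow h2)
      rw [h3] at hqH
      exact hτ.2.1 hqH
  obtain ⟨EH, hEH, hKE⟩ := exists_isComplIn_sigmaCore_ge hG hH hKH
    (Cfsg.Agent.Lib.Helper19.BGCompl.coprime_card_sigmaCore_of hG hH hK)
  obtain ⟨T, hT⟩ := exists_isSylowIn p EH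
  have hTH : IsSylowIn p T H := IsComplIn.isSylowIn hG hH hEH hτ.2.1 hT
  obtain ⟨A, hAT, hAe, hAcard⟩ := exists_elemAb_sq_le hτ.2.2.1 hτ.2.2.2 hTH
  exact ⟨EH, A, hH, hNH, hτ, hEH, le_sup_left.trans hKE, le_sup_right.trans hKE,
    hAT.trans hT.le, hAe, hAcard, hdisj⟩

/-- (*) no conjugate of `E_H` lies in `M`. -/
theorem HCfg.not_cj_le (hG : IsMinSimpleOddOrder G) (h : PCfg p M E S P₀)
    (h2 : HCfg p M S P₀ H EH A) (g : G) : ¬ cj g EH ≤ M := fun hle =>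
  h.not_cj_le hG h2.hAe h2.hAcard g ((cj_mono g h2.hAE).trans hle)

theorem HCfg.comm_le (h2 : HCfg p M S P₀ H EH A) : ⁅cent M P₀, S⁆ ≤ ⁅EH, EH⁆ :=
  Subgroup.commutator_mono h2.hcentE h2.hSE

/-- the data for a prime divisor `q` of `|R|`. -/
theorem HCfg.exists_qCfg (hG : IsMinSimpleOddOrder G) (h20b : H1420b G) (h : PCfg p M E S P₀)
    (h2 : HCfg p M S P₀ H EH A) {q : ℕ} (hq : q.Prime)
    (hqd : q ∣ Nat.card (⁅cent M P₀, S⁆ : Subgroup G)) :
    ∃ Rq : Subgroup G, QCfg q M S H EH Rq := by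
  haveI : Fact q.Prime := ⟨hq⟩
  have hRE := h2.comm_le
  have hRc : ∀ u ∈ ⁅cent M P₀, S⁆, ∀ v ∈ ⁅cent M P₀, S⁆, u * v = v * u := fun u hu v hv =>
    h20b H EH h2.hH h2.hEH u (hRE hu) v (hRE hv)
  haveI hRcomm : IsMulCommutative ↥(⁅cent M P₀, S⁆ : Subgroup G) :=
    ⟨⟨fun a b => Subtype.ext (hRc a a.2 b b.2)⟩⟩
  have hRnil : Group.IsNilpotent ↥(⁅cent M P₀, S⁆ : Subgroup G) := by
    letI : CommGroup ↥(⁅cent M P₀, S⁆ : Subgroup G) :=
      { (inferInstance : Group ↥(⁅cent M P₀, S⁆ : Subgroup G)) with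
        mul_comm := fun a b => Subtype.ext (hRc a a.2 b b.2) }
    exact CommGroup.isNilpotent
  have hRqs := Cfsg.Agent.Lib.Helper9.BG10.isSylowIn_pCoreOf hRnil hq
  have hRq1 : pCoreOf q (⁅cent M P₀, S⁆ : Subgroup G) ≠ ⊥ := hRqs.ne_bot_of_dvd hqd
  have hRqR : pCoreOf q (⁅cent M P₀, S⁆ : Subgroup G) ≤ ⁅cent M P₀, S⁆ := pCoreOf_le q _
  have hRqM : pCoreOf q (⁅cent M P₀, S⁆ : Subgroup G) ≤ sigmaCore M :=
    hRqR.trans (h.comm_le.trans inf_le_left)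
  have hqM : q ∈ sigma M := by
    apply mem_sigma_of_dvd_card_sigmaCore hG h.hM hq
    refine dvd_trans ?_ (Subgroup.card_dvd_of_le hRqM)
    obtain ⟨k, hk⟩ := hRqs.isPGroup.exists_card_eq
    rw [hk]
    apply dvd_pow_self
    rintro rfl
    rw [pow_zero] at hk
    exact hRq1 (Subgroup.card_eq_one.mp hk)
  -- `S` normalizes `R` and `R_q`
  have hSR : S ≤ Subgroup.normalizer ((⁅cent M P₀, S⁆ : Subgroup G) : Set G) :=
    Cfsg.Agent.Lib.Helper1.le_normalizer_commutator_right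
  have hSRq : S ≤ Subgroup.normalizer
      ((pCoreOf q (⁅cent M P₀, S⁆ : Subgroup G) : Subgroup G) : Set G) :=
    le_normalizer_pCoreOf_of_le hSR
  -- coprimality
  have hcopR : (Nat.card S).Coprime (Nat.card (⁅cent M P₀, S⁆ : Subgroup G)) :=
    Nat.Coprime.coprime_dvd_right (Subgroup.card_dvd_of_le h.comm_le) (h.coprime hG)
  have hcopRq : (Nat.card S).Coprime
      (Nat.card (pCoreOf q (⁅cent M P₀, S⁆ : Subgroup G) : Subgroup G)) :=
    Nat.Coprime.coprime_dvd_right (Subgroup.card_dvd_of_le hRqR) hcopR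
  -- `C_R(S) = 1`
  have hCR : (⁅cent M P₀, S⁆ : Subgroup G) ⊓ Subgroup.centralizer (S : Set G) = ⊥ := by
    have h1 := Cfsg.Agent.Lib.Helper1.abelian_centralizer_inf_commutator_eq_bot S
      (⁅cent M P₀, S⁆ : Subgroup G) hSR hcopR
    rw [h.comm_comm hG] at h1
    rw [eq_bot_iff, ← h1]
    exact le_inf le_rfl inf_le_left
  haveI hRqcomm : IsMulCommutative ↥(pCoreOf q (⁅cent M P₀, S⁆ : Subgroup G) : Subgroup G) :=
    ⟨⟨fun a b => Subtype.ext (hRc a (hRqR a.2) b (hRqR b.2))⟩⟩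
  have hRqS : ⁅pCoreOf q (⁅cent M P₀, S⁆ : Subgroup G), S⁆ =
      pCoreOf q (⁅cent M P₀, S⁆ : Subgroup G) := by
    have h1 := Cfsg.Agent.Lib.Helper1.abelian_centralizer_sup_commutator_eq S
      (pCoreOf q (⁅cent M P₀, S⁆ : Subgroup G)) hSRq hcopRq
    have h2' : pCoreOf q (⁅cent M P₀, S⁆ : Subgroup G) ⊓ Subgroup.centralizer (S : Set G) = ⊥ := by
      rw [eq_bot_iff, ← hCR]
      exact inf_le_inf_right _ hRqR
    rw [h2', bot_sup_eq] at h1
    exact h1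
  exact ⟨_, hqM, fun hqH => h2.hdisj q hqM hqH, hRqs.isPGroup, hRq1, hRqM, hRqR.trans hRE, hRqS⟩

end Cfsg.Agent.Lib.Helper9.BGPrime
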