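import Mathlib
import Cfsg.Agent.Lib.Helper9.BGPrime3

/-!
# Helper9 library: B & G Section 13 (prime action), part 4

The case `p ∈ τ₂(H)`: the sub-cases `q ∈ τ₂(H)` and `q ∈ τ₃(H)`, and the theorem.
-/

set_option autoImplicit false
set_option linter.style.haveILetI false
set_option linter.unusedSectionVars false
set_option linter.unusedVariables false

open Cfsg
open scoped commutatorElement
open Cfsg.Agent.Lib.Helper10.BG
open Cfsg.Agent.Lib.Helper9.BGExc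
open Cfsg.Agent.Lib.Helper1 (CoprimeAct)

namespace Cfsg.Agent.Lib.Helper9.BGPrime

variable {G : Type*} [Group G]

theorem dvd_card_of_pgroup_ne_bot [Finite G] {q : ℕ} [Fact q.Prime] {Q : Subgroup G} (hQ : IsPGroup q Q)
    (hQ1 : Q ≠ ⊥) : q ∣ Nat.card Q := by
  obtain ⟨k, hk⟩ := hQ.exists_card_eq
  rw [hk]
  apply dvd_pow_self
  rintro rfl
  rw [pow_zero] at hk
  exact hQ1 (Subgroup.card_eq_one.mp hk)

/-- a cyclic Sylow `q`-subgroup of `X` lies in `X'` if `q` divides `|X'|`. -/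
theorem isSylowIn_le_commutator_of_cyclic [Finite G] {q : ℕ} [Fact q.Prime] {X T : Subgroup G}
    (hT : IsSylowIn q T X) (hc : IsCyclic T) (hd : q ∣ Nat.card (⁅X, X⁆ : Subgroup G)) :
    T ≤ ⁅X, X⁆ := by
  haveI : IsCyclic ↥((hT.toSylow : Sylow q ↥X) : Subgroup ↥X) := by
    rw [hT.coe_toSylow]
    haveI := hc
    exact isCyclic_of_surjective (Subgroup.subgroupOfEquivOfLe hT.le).symm.toMonoidHom
      (Subgroup.subgroupOfEquivOfLe hT.le).symm.surjective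
  have h1 := Sylow.not_dvd_card_commutator_or_not_dvd_index_commutator (hT.toSylow : Sylow q ↥X)
  rw [← card_commutator_subgroup, ← relIndex_commutator_subgroup] at h1
  rcases h1 with h1 | h1
  · exact absurd hd h1
  · exact pgroup_le_of_not_dvd_relIndex (le_normalizer_commutator_self X) h1 hT.isPGroup hT.le

variable [Finite G] {p : ℕ} [Fact p.Prime] {M E S P₀ H EH A : Subgroup G}

/-- (II.2): `q ∈ τ₂(H)`. -/
theorem caseII2 (hG : IsMinSimpleOddOrder G) (h20c : H1420c G) (h24 : H1424 G)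
    (h : PCfg p M E S P₀) (h2 : HCfg p M S P₀ H EH A) {q : ℕ} {Rq : Subgroup G}
    (hq : QCfg q M S H EH Rq) (hr : ¬ PRankLE q 1 ↥H) : False := by
  have hqp : q.Prime := hq.hq.1
  haveI : Fact q.Prime := ⟨hqp⟩
  have hqτ : q ∈ tau2 H := ⟨hqp, hq.hqH, by
    by_contra h2'
    exact hq.hqH (alpha_subset_sigma hG h2.hH ⟨hqp, h2'⟩), hr⟩
  obtain ⟨T, hT⟩ := exists_isSylowIn q EH
  have hTH : IsSylowIn q T H := IsComplIn.isSylowIn hG h2.hH h2.hEH hq.hqH hT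
  obtain ⟨Aq, hAqT, hAqe, hAqcard⟩ := exists_elemAb_sq_le hqτ.2.2.1 hqτ.2.2.2 hTH
  have hAqE : Aq ≤ EH := hAqT.trans hT.le
  obtain ⟨⟨hEN, hsub⟩, -, -⟩ :=
    Cfsg.Agent.S1418.result hG H h2.hH EH h2.hEH q hqτ Aq ⟨hAqE, hAqe, hAqcard⟩
  -- `B₁`
  have hqd : q ∣ Nat.card Rq := dvd_card_of_pgroup_ne_bot hq.hRq hq.hRq1
  obtain ⟨x, hx⟩ := exists_prime_orderOf_dvd_card' (G := ↥Rq) q hqd
  have hxo : orderOf (x : G) = q := by rw [Subgroup.orderOf_coe]; exact hx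
  have hB₁card : Nat.card (Subgroup.zpowers (x : G)) = q := by rw [Nat.card_zpowers, hxo]
  have hB₁Rq : Subgroup.zpowers (x : G) ≤ Rq := Subgroup.zpowers_le.mpr x.2
  have hB₁E : Subgroup.zpowers (x : G) ≤ EH :=
    (hB₁Rq.trans hq.hRqE).trans (commutator_self_le _)
  have hB₁A : Subgroup.zpowers (x : G) ≤ Aq := hsub _ hB₁E hB₁card
  have hB₁M : Subgroup.zpowers (x : G) ≤ M := (hB₁Rq.trans hq.hRqM).trans (sigmaCore_le M)
  have hB₁q : IsPGroup q (Subgroup.zpowers (x : G)) := hq.hRq.to_le hB₁Rq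
  have hB₁1 : Subgroup.zpowers (x : G) ≠ ⊥ := ne_bot_of_card_prime hB₁card
  have hAqC : Aq ≤ Subgroup.centralizer ((Subgroup.zpowers (x : G) : Subgroup G) : Set G) := by
    intro a ha
    rw [Subgroup.mem_centralizer_iff]
    intro b hb
    exact Cfsg.Agent.Lib.Helper12.isElementaryAbelian_comm hAqe b (hB₁A hb) a ha
  have hAqN : Aq ≤ Subgroup.normalizer ((Subgroup.zpowers (x : G) : Subgroup G) : Set G) :=
    hAqC.trans (Subgroup.centralizer_le_normalizer _)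
  have hne' : Subgroup.normalizer ((Subgroup.zpowers (x : G) : Subgroup G) : Set G) ≠ ⊤ :=
    Cfsg.Agent.Lib.Lead.BGTrans.normalizer_ne_top hG.2 hB₁1
      (Cfsg.Agent.Lib.Lead.BGTrans.pgroup_ne_top hG.2 hB₁q)
  obtain ⟨M2, hM2, hNM2⟩ := exists_isCoatom_ge hne'
  have hAqp : IsPGroup q Aq := Cfsg.Agent.Lib.Lead.BGTrans.isPGroup_of_pow_eq_one hAqe.2
  have hclaim : ∃ m : G, cj m Aq ≤ M := by
    by_cases hMM : M2 = M
    · refine ⟨1, ?_⟩
      rw [cj_one]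
      exact hAqN.trans (hMM ▸ hNM2)
    · obtain ⟨Sq, hB₁Sq, hSqM, hSqM2, -, -⟩ :=
        h24 M h.hM q hq.hq _ hB₁q hB₁1 hB₁M M2 hM2 hMM hNM2
      obtain ⟨T', hT', hAT'⟩ := exists_isSylowIn_ge (hAqN.trans hNM2) hAqp
      obtain ⟨m, -, hm⟩ := hT'.exists_conj hSqM2
      refine ⟨m, (cj_mono m hAT').trans ?_⟩
      have hm' : cj m T' = Sq := hm.symm
      rw [hm']
      exact hSqM
  obtain ⟨m, hm⟩ := hclaim
  have hnc : ¬ IsCyclic ↥(cj m Aq) :=
    not_isCyclic_of_elementary_sq (isElementaryAbelian_cj hAqe m) (by rw [card_cj, hAqcard])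
  have hN := h20c M h.hM q (cj m Aq) hq.hq (hAqp.map _) hm hnc
  exact h2.not_cj_le hG h m ((le_normalizer_cj hEN).trans hN)

/-- (II.3): `q ∈ τ₃(H)`. -/
theorem caseII3 (hG : IsMinSimpleOddOrder G) (h20b : H1420b G) (h20c : H1420c G)
    (h23 : H1423 G) (h24 : H1424 G)
    (h : PCfg p M E S P₀) (h2 : HCfg p M S P₀ H EH A) {q : ℕ} {Rq : Subgroup G}
    (hq : QCfg q M S H EH Rq) (hr : PRankLE q 1 ↥H) : False := by
  have hp : p.Prime := Fact.out
  have hqp : q.Prime := hq.hq.1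
  haveI : Fact q.Prime := ⟨hqp⟩
  have hq2 : q ≠ 2 := prime_ne_two_of_pgroup hG hq.hRq hq.hRq1
  have hRqE : Rq ≤ EH := hq.hRqE.trans (commutator_self_le _)
  obtain ⟨Tq, hTq, hRqTq⟩ := exists_isSylowIn_ge hRqE hq.hRq
  have hTqH : IsSylowIn q Tq H := IsComplIn.isSylowIn hG h2.hH h2.hEH hq.hqH hTq
  have hTqc : IsCyclic ↥Tq := isCyclic_of_pRankLE_one hq2 hr hTqH.le hTq.isPGroup
  have hqdE' : q ∣ Nat.card (⁅EH, EH⁆ : Subgroup G) :=
    dvd_trans (dvd_card_of_pgroup_ne_bot hq.hRq hq.hRq1) (Subgroup.card_dvd_of_le hq.hRqE)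
  have hTqE' : Tq ≤ ⁅EH, EH⁆ := isSylowIn_le_commutator_of_cyclic hTq hTqc hqdE'
  have hE'c : ∀ u ∈ ⁅EH, EH⁆, ∀ v ∈ ⁅EH, EH⁆, u * v = v * u := h20b H EH h2.hH h2.hEH
  have hE'nil : Group.IsNilpotent ↥(⁅EH, EH⁆ : Subgroup G) := by
    letI : CommGroup ↥(⁅EH, EH⁆ : Subgroup G) :=
      { (inferInstance : Group ↥(⁅EH, EH⁆ : Subgroup G)) with
        mul_comm := fun a b => Subtype.ext (hE'c a a.2 b b.2) }
    exact CommGroup.isNilpotent
  have hENTq : EH ≤ Subgroup.normalizer (Tq : Set G) :=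
    le_normalizer_of_isSylowIn_of_le_nilpotent hE'nil (commutator_self_le EH)
      (le_normalizer_commutator_self EH) hTqE' hTq
  have hENRq : EH ≤ Subgroup.normalizer (Rq : Set G) :=
    hENTq.trans (normalizer_le_normalizer_of_le_cyclic hTqc hRqTq)
  have hne' : Subgroup.normalizer (Rq : Set G) ≠ ⊤ :=
    Cfsg.Agent.Lib.Lead.BGTrans.normalizer_ne_top hG.2 hq.hRq1
      (Cfsg.Agent.Lib.Lead.BGTrans.pgroup_ne_top hG.2 hq.hRq)
  obtain ⟨M2, hM2, hNM2⟩ := exists_isCoatom_ge hne'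
  have hEM2 : EH ≤ M2 := hENRq.trans hNM2
  have hM2M : M2 ≠ M := by
    intro hh
    apply h2.not_cj_le hG h 1
    rw [cj_one, ← hh]
    exact hEM2
  have hRqM' : Rq ≤ M := hq.hRqM.trans (sigmaCore_le M)
  obtain ⟨Sq, hRqSq, hSqM, hSqM2, hNSq, -⟩ :=
    h24 M h.hM q hq.hq Rq hq.hRq hq.hRq1 hRqM' M2 hM2 hM2M hNM2
  have hAM2 : A ≤ M2 := h2.hAE.trans hEM2
  have hAH : A ≤ H := h2.hAE.trans h2.hEH.1
  by_cases hM2H : M2 = H
  · rw [hM2H] at hSqM2
    obtain ⟨x, hxH, hx⟩ := hTqH.exists_conj hSqM2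
    apply h2.not_cj_le hG h x
    refine (le_normalizer_cj hENTq).trans ?_
    have hx' : cj x Tq = Sq := hx.symm
    rw [hx']
    exact hNSq
  · rcases mem_sigma_or_tau2_of_normalizer_le hG hM2 hq.hRq hq.hRq1 hNM2 with hqσ2 | hqτ2
    · -- `q ∈ σ(M2)`
      have hRqσ2 : Rq ≤ sigmaCore M2 :=
        pgroup_le_sigmaCore hG hM2 hqσ2 hq.hRq (Subgroup.le_normalizer.trans hNM2)
      by_cases hpσ2 : p ∈ sigma M2
      · have hSσ2 : S ≤ sigmaCore M2 :=
          pgroup_le_sigmaCore hG hM2 hpσ2 h.isPGroup (h2.hSE.trans hEM2)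
        have h1 : Rq ≤ ⁅sigmaCore M2, sigmaCore M2⁆ := by
          rw [← hq.hRqS]
          exact Subgroup.commutator_mono hRqσ2 hSσ2
        have hA := sigmaCore_inf_commutator_eq_bot hG h23 h24 h.hM hM2 (Ne.symm hM2M)
        apply hq.hRq1
        rw [eq_bot_iff, ← hA]
        exact le_inf hq.hRqM h1
      · have hpτ2 : p ∈ tau2 M2 := ⟨hp, hpσ2, by
          by_contra h2'
          exact hpσ2 (alpha_subset_sigma hG hM2 ⟨hp, h2'⟩),
          not_pRankLE_of_le hAM2 h2.hAe (by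
            rw [h2.hAcard]; exact Nat.pow_lt_pow_right hp.one_lt (by norm_num))⟩
        have h17 := (Cfsg.Agent.S1417.result hG M2 hM2 p hpτ2 A
          ⟨hAM2, h2.hAe, h2.hAcard⟩).2.2.2.2.1 H h2.hH (Ne.symm hM2H) hAH
        apply hq.hRq1
        rw [eq_bot_iff, ← h17]
        exact le_inf hRqσ2 (hRqE.trans h2.hEH.1)
    · -- `q ∈ τ₂(M2)`
      obtain ⟨A', hA'Sq, hA'e, hA'card⟩ := exists_elemAb_sq_le hqτ2.2.2.1 hqτ2.2.2.2 hSqM2
      have hA'M : A' ≤ M := hA'Sq.trans hSqM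
      have hA'M2 : A' ≤ M2 := hA'Sq.trans hSqM2.le
      have hA'p : IsPGroup q A' := Cfsg.Agent.Lib.Lead.BGTrans.isPGroup_of_pow_eq_one hA'e.2
      have hnc : ¬ IsCyclic ↥A' := not_isCyclic_of_elementary_sq hA'e hA'card
      have hNA' := h20c M h.hM q A' hq.hq hA'p hA'M hnc
      have hcop : (Nat.card A').Coprime (Nat.card (sigmaCore M2)) := by
        rw [hA'card]
        apply Nat.Coprime.pow_left
        exact (coprime_card_sigmaCore hG hM2 hqp hqτ2.2.1).symm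
      obtain ⟨E2, hE2, hA'E2⟩ := exists_isComplIn_sigmaCore_ge hG hM2 hA'M2 hcop
      have h18 := (Cfsg.Agent.S1418.result hG M2 hM2 E2 hE2 q hqτ2 A'
        ⟨hA'E2, hA'e, hA'card⟩).2.1.2.1
      have hE2M : E2 ≤ M := by
        rw [← h18]
        exact inf_le_right.trans hNA'
      by_cases hpσ2 : p ∈ sigma M2
      · have h17 := (Cfsg.Agent.S1417.result hG M2 hM2 q hqτ2 A'
          ⟨hA'M2, hA'e, hA'card⟩).2.2.2.2.1 M h.hM (Ne.symm hM2M) hA'M
        have hSσ2 : S ≤ sigmaCore M2 :=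
          pgroup_le_sigmaCore hG hM2 hpσ2 h.isPGroup (h2.hSE.trans hEM2)
        apply h.S_ne_bot
        rw [eq_bot_iff, ← h17]
        exact le_inf hSσ2 h.S_le
      · have hAK : ∀ r : ℕ, r.Prime → r ∣ Nat.card A → r ∉ sigma M2 := by
          intro r hr hd
          rw [h2.hAcard] at hd
          have h3 : r = p := (Nat.prime_dvd_prime_iff_eq hr hp).mp (hr.dvd_of_dvd_pow hd)
          rw [h3]
          exact hpσ2
        obtain ⟨m, hmM2, hAm⟩ :=
          Cfsg.Agent.Lib.Helper19.BGCompl.compl_dominance hG hM2 hE2 hAM2 hAK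
        apply h.not_cj_le hG h2.hAe h2.hAcard m⁻¹
        refine le_trans ?_ hE2M
        rw [cj_le_iff, inv_inv]
        exact hAm

/-- **Bender--Glauberman, Theorem 13.4-type**: a cyclic Sylow subgroup `S` of a complement `E` of
`M_σ` acts in a prime manner on `M_σ`, i.e. `C_{M_σ}(Ω₁(S)) ≤ C(S)`. -/
theorem PCfg.cent_le_centralizer (hG : IsMinSimpleOddOrder G) (h20b : H1420b G)
    (h20c : H1420c G) (h23 : H1423 G) (h24 : H1424 G) (h : PCfg p M E S P₀) :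
    cent M P₀ ≤ Subgroup.centralizer (S : Set G) := by
  rw [← Subgroup.commutator_eq_bot_iff_le_centralizer]
  by_contra hR
  have hne' : Subgroup.normalizer (P₀ : Set G) ≠ ⊤ :=
    Cfsg.Agent.Lib.Lead.BGTrans.normalizer_ne_top hG.2 h.P₀_ne_bot
      (Cfsg.Agent.Lib.Lead.BGTrans.pgroup_ne_top hG.2 h.isPGroup_P₀)
  obtain ⟨H, hH, hNH⟩ := exists_isCoatom_ge hne'
  rcases mem_sigma_or_tau2_of_normalizer_le hG hH h.isPGroup_P₀ h.P₀_ne_bot hNH with hpσ | hpτ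
  · exact hR (h.caseI hG h23 h24 hH hNH hpσ)
  · obtain ⟨EH, A, h2⟩ := h.exists_hCfg hG hH hNH hpτ
    have hcard : Nat.card (⁅cent M P₀, S⁆ : Subgroup G) ≠ 1 :=
      fun hc => hR (Subgroup.card_eq_one.mp hc)
    obtain ⟨q, hq, hqd⟩ := Nat.exists_prime_and_dvd hcard
    obtain ⟨Rq, hRq⟩ := h2.exists_qCfg hG h20b h hq hqd
    by_cases hr : PRankLE q 1 ↥H
    · exact caseII3 hG h20b h20c h23 h24 h h2 hRq hr
    · exact caseII2 hG h20c h24 h h2 hRq hr

end Cfsg.Agent.Lib.Helper9.BGPrime
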