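import Mathlib

set_option autoImplicit false

/-!
# Automorphisms stabilizing a chain

Tools for showing that the automorphism group of a `2`-group is a `2`-group.
-/

namespace Cfsg.Agent.Lib.Helper9.AutChain

variable {X : Type*} [Group X]

theorem pow_apply_mem (α : MulAut X) (N : Subgroup X) (hN : ∀ c ∈ N, α c ∈ N) (j : ℕ) :
    ∀ c ∈ N, (α ^ j) c ∈ N := by
  induction j with
  | zero => intro c hc; simpa using hc
  | succ j ih =>
    intro c hc
    rw [pow_succ, MulAut.mul_apply]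
    exact ih _ (hN c hc)

theorem pow_apply_eq (α : MulAut X) {c : X} (hc : α c = c) (j : ℕ) : (α ^ j) c = c := by
  induction j with
  | zero => simp
  | succ j ih => rw [pow_succ, MulAut.mul_apply, hc, ih]

/-- **One step of a stable chain.** If `α ^ k` fixes `N` pointwise, `α ^ l` acts trivially on
`T` modulo `N`, and `N` has exponent dividing `e`, then `α ^ (k * l * e)` fixes `T` pointwise. -/
theorem step (α : MulAut X) (N T : Subgroup X) (k l e : ℕ)
    (hN : ∀ c ∈ N, α c ∈ N)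
    (hk : ∀ c ∈ N, (α ^ k) c = c)
    (hl : ∀ g ∈ T, g⁻¹ * (α ^ l) g ∈ N)
    (he : ∀ c ∈ N, c ^ e = 1) :
    ∀ g ∈ T, (α ^ (k * l * e)) g = g := by
  -- `γ = α ^ l`
  have hγN : ∀ c ∈ N, (α ^ l) c ∈ N := pow_apply_mem α N hN l
  have hγ : ∀ j : ℕ, ∀ g ∈ T, g⁻¹ * ((α ^ l) ^ j) g ∈ N := by
    intro j
    induction j with
    | zero => intro g _; simp
    | succ j ih =>
      intro g hg
      rw [pow_succ, MulAut.mul_apply]
      have h1 := hl g hg
      have h2 : (α ^ l) g = g * (g⁻¹ * (α ^ l) g) := by group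
      rw [h2, map_mul]
      have h3 := pow_apply_mem (α ^ l) N hγN j _ h1
      have h4 := ih g hg
      have : g⁻¹ * (((α ^ l) ^ j) g * ((α ^ l) ^ j) (g⁻¹ * (α ^ l) g)) =
          (g⁻¹ * ((α ^ l) ^ j) g) * ((α ^ l) ^ j) (g⁻¹ * (α ^ l) g) := by group
      rw [this]
      exact N.mul_mem h4 h3
  -- `β = α ^ (k * l)`
  set β : MulAut X := α ^ (k * l) with hβ
  have hβN : ∀ c ∈ N, β c = c := by
    intro c hc
    rw [hβ, pow_mul]
    exact pow_apply_eq _ (hk c hc) l
  have hβT : ∀ g ∈ T, g⁻¹ * β g ∈ N := by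
    intro g hg
    rw [hβ, mul_comm, pow_mul]
    exact hγ k g hg
  have hβpow : ∀ (j : ℕ), ∀ g ∈ T, (β ^ j) g = g * (g⁻¹ * β g) ^ j := by
    intro j
    induction j with
    | zero => intro g _; simp
    | succ j ih =>
      intro g hg
      rw [pow_succ', MulAut.mul_apply, ih g hg, map_mul, map_pow, hβN _ (hβT g hg), pow_succ',
        ← mul_assoc, mul_inv_cancel_left]
  intro g hg
  rw [pow_mul, ← hβ, hβpow e g hg, he _ (hβT g hg), mul_one]

/-- an automorphism of a cyclic group of order `2 ^ k`, generated by `w`: `α ^ (2 ^ (k - 1))` fixes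
`w`. Stated inside an ambient group: `α w` is a power of `w`. -/
theorem pow_fix_of_cyclic (α : MulAut X) (w : X) (k : ℕ) (hk : 0 < k) (hw : orderOf w = 2 ^ k)
    (hαw : α w ∈ Subgroup.zpowers w) : (α ^ (2 ^ (k - 1))) w = w := by
  have hfin : IsOfFinOrder w := by
    rw [← orderOf_pos_iff, hw]; positivity
  rw [← hfin.mem_powers_iff_mem_zpowers, Submonoid.mem_powers_iff] at hαw
  obtain ⟨a, ha⟩ := hαw
  have hcop : Nat.Coprime a (2 ^ k) := by
    have h1 : orderOf (w ^ a) = orderOf w := by rw [ha]; exact MulEquiv.orderOf_eq α w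
    rw [hfin.orderOf_pow, hw] at h1
    have h2 : (2 ^ k : ℕ) ≠ 0 := by positivity
    rcases Nat.div_eq_self.mp h1 with h3 | h3
    · exact absurd h3 h2
    · rw [Nat.coprime_comm]; exact h3
  have hpow : ∀ t : ℕ, (α ^ t) w = w ^ (a ^ t) := by
    intro t
    induction t with
    | zero => simp
    | succ t ih =>
      rw [pow_succ, MulAut.mul_apply, ← ha, map_pow, ih, ← pow_mul, pow_succ]
  have htot : Nat.totient (2 ^ k) = 2 ^ (k - 1) := by
    rw [Nat.totient_prime_pow Nat.prime_two hk]; simp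
  rw [hpow]
  have h1 : a ^ (2 ^ (k - 1)) ≡ 1 [MOD orderOf w] := by
    rw [hw, ← htot]
    exact Nat.ModEq.pow_totient hcop
  have := pow_eq_pow_iff_modEq.mpr h1
  rw [this, pow_one]

/-- if `α ^ j` fixes `w` then it fixes `zpowers w` pointwise -/
theorem fix_zpowers (β : MulAut X) {w : X} (hw : β w = w) : ∀ c ∈ Subgroup.zpowers w, β c = c := by
  intro c hc
  obtain ⟨m, rfl⟩ := Subgroup.mem_zpowers_iff.mp hc
  rw [map_zpow, hw]

end Cfsg.Agent.Lib.Helper9.AutChain

namespace Cfsg.Agent.Lib.Helper9.AutChain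

variable {X : Type*} [Group X]

/-- the induced automorphism of a characteristic quotient -/
theorem congr_pow_mk (N : Subgroup X) [N.Normal] (α : MulAut X)
    (hα : N.map α.toMonoidHom = N) (j : ℕ) (g : X) :
    ((QuotientGroup.congr N N α hα : MulAut (X ⧸ N)) ^ j) (QuotientGroup.mk g) =
      QuotientGroup.mk ((α ^ j) g) := by
  induction j generalizing g with
  | zero => simp
  | succ j ih =>
    rw [pow_succ, MulAut.mul_apply, pow_succ, MulAut.mul_apply]
    have : (QuotientGroup.congr N N α hα : MulAut (X ⧸ N)) (QuotientGroup.mk g) =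
        QuotientGroup.mk (α g) := QuotientGroup.congr_mk N N α hα g
    rw [this, ih]

/-- **Aut of an extension.** If `N` is characteristic of `2`-power exponent, every automorphism
has `2`-power order on `N`, and `Aut (X ⧸ N)` is a `2`-group, then `Aut X` is a `2`-group. -/
theorem isPGroup_of_quotient (N : Subgroup X) [N.Normal]
    (hchar : ∀ α : MulAut X, N.map α.toMonoidHom = N)
    (hfix : ∀ α : MulAut X, ∃ a : ℕ, ∀ c ∈ N, (α ^ (2 ^ a)) c = c)
    (e : ℕ) (he : ∀ c ∈ N, c ^ (2 ^ e) = 1)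
    (hQ : IsPGroup 2 (MulAut (X ⧸ N))) : IsPGroup 2 (MulAut X) := by
  intro α
  obtain ⟨a, ha⟩ := hfix α
  obtain ⟨b, hb⟩ := hQ (QuotientGroup.congr N N α (hchar α))
  have hN : ∀ c ∈ N, α c ∈ N := by
    intro c hc
    rw [← hchar α]
    exact ⟨c, hc, rfl⟩
  have hl : ∀ g ∈ (⊤ : Subgroup X), g⁻¹ * (α ^ (2 ^ b)) g ∈ N := by
    intro g _
    have h1 := congr_pow_mk N α (hchar α) (2 ^ b) g
    rw [hb, MulAut.one_apply] at h1
    rw [← QuotientGroup.eq]
    exact h1
  have h2 := step α N ⊤ (2 ^ a) (2 ^ b) (2 ^ e) hN ha hl he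
  refine ⟨a + b + e, ?_⟩
  ext g
  rw [pow_add, pow_add, h2 g (Subgroup.mem_top g), MulAut.one_apply]

end Cfsg.Agent.Lib.Helper9.AutChain

namespace Cfsg.Agent.Lib.Helper9.AutChain

variable {X : Type*} [Group X]

/-- **Three-step chains.** `1 ≤ C ≤ D ≤ X` with `C = ⟨w⟩` cyclic of order `2 ^ k`, `|D : C| ≤ 2`,
`|X : D| ≤ 2`, all terms invariant under every automorphism: then `Aut X` is a `2`-group. -/
theorem isPGroup_of_chain3 (w : X) (k : ℕ) (hk : 0 < k) (hw : orderOf w = 2 ^ k)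
    (D : Subgroup X) (e : ℕ) (hDe : ∀ g ∈ D, g ^ (2 ^ e) = 1)
    (h1 : ∀ α : MulAut X, α w ∈ Subgroup.zpowers w)
    (h2 : ∀ α : MulAut X, ∀ g ∈ D, α g ∈ D)
    (hidxC : ∀ g ∈ D, ∀ g' ∈ D, g ∉ Subgroup.zpowers w → g' ∉ Subgroup.zpowers w →
      g⁻¹ * g' ∈ Subgroup.zpowers w)
    (hidxD : ∀ g g' : X, g ∉ D → g' ∉ D → g⁻¹ * g' ∈ D) :
    IsPGroup 2 (MulAut X) := by
  have hCinv : ∀ α : MulAut X, ∀ c ∈ Subgroup.zpowers w, α c ∈ Subgroup.zpowers w := by
    intro α c hc
    obtain ⟨m, rfl⟩ := Subgroup.mem_zpowers_iff.mp hc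
    rw [map_zpow]
    exact Subgroup.zpow_mem _ (h1 α) m
  have hCe : ∀ c ∈ Subgroup.zpowers w, c ^ (2 ^ k) = 1 := by
    intro c hc
    obtain ⟨m, rfl⟩ := Subgroup.mem_zpowers_iff.mp hc
    rw [← zpow_natCast, ← zpow_mul, mul_comm, zpow_mul, zpow_natCast, ← hw, pow_orderOf_eq_one,
      one_zpow]
  intro α
  have hfix : ∀ c ∈ Subgroup.zpowers w, (α ^ (2 ^ (k - 1))) c = c :=
    fix_zpowers _ (pow_fix_of_cyclic α w k hk hw (h1 α))
  have hlC : ∀ g ∈ D, g⁻¹ * (α ^ 1) g ∈ Subgroup.zpowers w := by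
    intro g hg
    rw [pow_one]
    by_cases hgC : g ∈ Subgroup.zpowers w
    · exact Subgroup.mul_mem _ (Subgroup.inv_mem _ hgC) (hCinv α g hgC)
    · apply hidxC g hg (α g) (h2 α g hg) hgC
      intro hc
      apply hgC
      have := hCinv α⁻¹ _ hc
      simpa using this
  have hD := step α (Subgroup.zpowers w) D (2 ^ (k - 1)) 1 (2 ^ k) (hCinv α) hfix hlC hCe
  have hlD : ∀ g ∈ (⊤ : Subgroup X), g⁻¹ * (α ^ 1) g ∈ D := by
    intro g _
    rw [pow_one]
    by_cases hgD : g ∈ D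
    · exact D.mul_mem (D.inv_mem hgD) (h2 α g hgD)
    · apply hidxD g (α g) hgD
      intro hc
      apply hgD
      have := h2 α⁻¹ _ hc
      simpa using this
  have hX := step α D ⊤ (2 ^ (k - 1) * 1 * 2 ^ k) 1 (2 ^ e) (h2 α) hD hlD hDe
  refine ⟨(k - 1) + k + e, ?_⟩
  ext g
  have := hX g (Subgroup.mem_top g)
  rw [mul_one, mul_one] at this
  rw [pow_add, pow_add, this, MulAut.one_apply]

end Cfsg.Agent.Lib.Helper9.AutChain
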