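import Mathlib
import Cfsg.Agent.Lib.Helper9.Conj
import Cfsg.Agent.Lib.Helper13.SylowRel

set_option autoImplicit false

/-!
# Automizers `N_G(H)/C_G(H)`: elementary lemmas
-/

namespace Cfsg.Agent.Lib.Helper9

variable {G : Type*} [Group G]

/-- a `p'`-element normalizing `H` centralizes `H` when `Aut(H)` is a `p`-group -/
theorem mem_centralizer_of_isPGroup_mulAut {p : ℕ} [Fact p.Prime] (H : Subgroup G)
    (hA : IsPGroup p (MulAut H)) {g : G} (hg : g ∈ Subgroup.normalizer (H : Set G))
    (hcop : (orderOf g).Coprime p) : g ∈ Subgroup.centralizer (H : Set G) := by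
  set α : MulAut H := H.normalizerMonoidHom ⟨g, hg⟩ with hα
  have h1 : α ^ orderOf g = 1 := by
    rw [hα, ← map_pow]
    have : (⟨g, hg⟩ : Subgroup.normalizer (H : Set G)) ^ orderOf g = 1 := by
      apply Subtype.ext
      simp [pow_orderOf_eq_one]
    rw [this, map_one]
  obtain ⟨k, hk⟩ := hA α
  have h2 : orderOf α ∣ orderOf g := orderOf_dvd_of_pow_eq_one h1
  have h3 : orderOf α ∣ p ^ k := orderOf_dvd_of_pow_eq_one hk
  have h4 : orderOf α = 1 := by
    have hc : (orderOf g).Coprime (p ^ k) := Nat.Coprime.pow_right k hcop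
    exact Nat.eq_one_of_dvd_coprimes hc h2 h3
  have h5 : α = 1 := orderOf_eq_one_iff.mp h4
  have h6 : (⟨g, hg⟩ : Subgroup.normalizer (H : Set G)) ∈ H.normalizerMonoidHom.ker := by
    rw [MonoidHom.mem_ker]; exact h5
  rw [Subgroup.normalizerMonoidHom_ker, Subgroup.mem_subgroupOf] at h6
  exact h6

/-- if `q ∣ |N : C|` there is a `q`-element of `N` outside `C` -/
theorem exists_prime_pow_not_mem_of_dvd_relIndex [Finite G] {q : ℕ} [Fact q.Prime]
    (C N : Subgroup G) (h : q ∣ C.relIndex N) :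
    ∃ g ∈ N, (∃ k : ℕ, orderOf g = q ^ k) ∧ g ∉ C := by
  obtain ⟨P⟩ : Nonempty (Sylow q N) := inferInstance
  by_contra hcon
  push Not at hcon
  have hle : (P : Subgroup N) ≤ C.subgroupOf N := by
    rintro ⟨g, hgN⟩ hgP
    rw [Subgroup.mem_subgroupOf]
    apply hcon g hgN
    obtain ⟨k, hk⟩ := P.2 ⟨⟨g, hgN⟩, hgP⟩
    have h1 : g ^ q ^ k = 1 := by
      have := congrArg (fun t : (P : Subgroup N) => ((t : N) : G)) hk
      simpa using this
    have h2 : orderOf g ∣ q ^ k := orderOf_dvd_of_pow_eq_one h1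
    obtain ⟨j, -, hj⟩ := (Nat.dvd_prime_pow Fact.out).mp h2
    exact ⟨j, hj⟩
  have h1 : (C.subgroupOf N).index ∣ (P : Subgroup N).index := Subgroup.index_dvd_of_le hle
  have h2 : ¬ q ∣ (P : Subgroup N).index := P.not_dvd_index
  exact h2 (dvd_trans h h1)

/-- an element of odd order of `N` lies in every subgroup of index `2` of `N` -/
theorem mem_of_odd_of_relIndex_two (C N : Subgroup G) (h : C.relIndex N = 2) {g : G} (hg : g ∈ N)
    (hodd : Odd (orderOf g)) : g ∈ C := by
  have hsq : g * g ∈ C := by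
    have : (⟨g, hg⟩ : N) * ⟨g, hg⟩ ∈ C.subgroupOf N := by
      rw [Subgroup.mul_mem_iff_of_index_two h]
    rw [Subgroup.mem_subgroupOf] at this
    exact this
  obtain ⟨m, hm⟩ := hodd
  have h1 : g = (g * g) ^ (m + 1) := by
    rw [← pow_two, ← pow_mul]
    have : 2 * (m + 1) = orderOf g + 1 := by omega
    rw [this, pow_succ, pow_orderOf_eq_one, one_mul]
  rw [h1]
  exact C.pow_mem hsq _

theorem centralizer_conjMap (H : Subgroup G) (s : G) :
    Subgroup.centralizer ((H.map (MulAut.conj s).toMonoidHom : Subgroup G) : Set G) =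
      (Subgroup.centralizer (H : Set G)).map (MulAut.conj s).toMonoidHom := by
  ext g
  rw [mem_conjMap, Subgroup.mem_centralizer_iff, Subgroup.mem_centralizer_iff]
  constructor
  · intro hg t ht
    have h1 := hg (s * t * s⁻¹) (conj_mem_conjMap ht)
    calc t * (s⁻¹ * g * s) = s⁻¹ * ((s * t * s⁻¹) * g) * s := by group
      _ = s⁻¹ * (g * (s * t * s⁻¹)) * s := by rw [h1]
      _ = s⁻¹ * g * s * t := by group
  · intro hg t ht
    rw [SetLike.mem_coe, mem_conjMap] at ht
    have h1 := hg _ ht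
    calc t * g = s * ((s⁻¹ * t * s) * (s⁻¹ * g * s)) * s⁻¹ := by group
      _ = s * ((s⁻¹ * g * s) * (s⁻¹ * t * s)) * s⁻¹ := by rw [h1]
      _ = g * t := by group

/-- the automizer index is invariant under conjugation -/
theorem relIndex_centralizer_normalizer_conjMap (H : Subgroup G) (s : G) :
    (Subgroup.centralizer ((H.map (MulAut.conj s).toMonoidHom : Subgroup G) : Set G)).relIndex
      (Subgroup.normalizer ((H.map (MulAut.conj s).toMonoidHom : Subgroup G) : Set G)) =
    (Subgroup.centralizer (H : Set G)).relIndex (Subgroup.normalizer (H : Set G)) := by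
  rw [centralizer_conjMap, Cfsg.Agent.Lib.Helper13.normalizer_map_conj,
    Cfsg.Agent.Lib.Helper13.relIndex_map_conj]

/-- same with `H ⊔ C_G(H)` in place of `C_G(H)` -/
theorem relIndex_sup_centralizer_normalizer_conjMap (H : Subgroup G) (s : G) :
    ((H.map (MulAut.conj s).toMonoidHom) ⊔
      Subgroup.centralizer ((H.map (MulAut.conj s).toMonoidHom : Subgroup G) : Set G)).relIndex
      (Subgroup.normalizer ((H.map (MulAut.conj s).toMonoidHom : Subgroup G) : Set G)) =
    (H ⊔ Subgroup.centralizer (H : Set G)).relIndex (Subgroup.normalizer (H : Set G)) := by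
  rw [centralizer_conjMap, Cfsg.Agent.Lib.Helper13.normalizer_map_conj, ← Subgroup.map_sup,
    Cfsg.Agent.Lib.Helper13.relIndex_map_conj]

end Cfsg.Agent.Lib.Helper9
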