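import Mathlib
import Cfsg.Agent.Lib.Helper10.BGEleven
import Cfsg.Agent.Lib.Helper1.Coprime

/-!
# Helper9 library: coprime action lemmas for B & G Theorem 13.3 (the swap argument), part 1

`rel_fpf`: the relative form of the coprime action lemma `commutator_centralizes_of_fpf`
(Lemma 1a): if `a` of prime order acts fixed-point-freely on `T / C`, then `[R₀, a]` centralizes
`T / C`.
-/

set_option autoImplicit false
set_option linter.style.haveILetI false
set_option linter.unusedSectionVars false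
set_option linter.unusedVariables false

open Cfsg
open scoped commutatorElement

namespace Cfsg.Agent.Lib.Helper9.BGSwap

variable {X : Type*} [Group X] [Finite X]

/-- relative form of Lemma (1a). -/
theorem rel_fpf {Y T C R₀ : Subgroup X} {a : X} {p : ℕ}
    (hYs : Group.IsSolvable ↥Y) (hYodd : Odd (Nat.card ↥Y))
    (hTY : T ≤ Y) (hRY : R₀ ≤ Y) (haY : a ∈ Y) (hCT : C ≤ T)
    (hTn : Group.IsNilpotent ↥T) (hp : p.Prime) (hap : a ^ p = 1)
    (hTC : T ≤ Subgroup.normalizer (C : Set X)) (hRC : R₀ ≤ Subgroup.normalizer (C : Set X))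
    (haC : a ∈ Subgroup.normalizer (C : Set X))
    (hRT : R₀ ≤ Subgroup.normalizer (T : Set X)) (haT : a ∈ Subgroup.normalizer (T : Set X))
    (haR : a ∈ Subgroup.normalizer (R₀ : Set X))
    (hcop : (Nat.card R₀).Coprime (Nat.card T)) (hpT : ¬ p ∣ Nat.card T)
    (hpR : ¬ p ∣ Nat.card R₀)
    (hfix : ∀ x ∈ T, ⁅x, a⁆ ∈ C → x ∈ C)
    (hgen : R₀ ≤ Subgroup.closure {c : X | ∃ x ∈ R₀, c = ⁅x, a⁆}) :
    ⁅T, R₀⁆ ≤ C := by
  obtain ⟨N, hN⟩ : ∃ N, N = T ⊔ R₀ ⊔ Subgroup.zpowers a := ⟨_, rfl⟩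
  have hTN : T ≤ N := hN ▸ (le_sup_left.trans le_sup_left)
  have hRN : R₀ ≤ N := hN ▸ (le_sup_right.trans le_sup_left)
  have haN : a ∈ N := hN ▸ Subgroup.mem_sup_right (Subgroup.mem_zpowers a)
  have hCN : C ≤ N := hCT.trans hTN
  have hNY : N ≤ Y := by
    rw [hN]
    exact sup_le (sup_le hTY hRY) (Subgroup.zpowers_le.mpr haY)
  have hNC : N ≤ Subgroup.normalizer (C : Set X) := by
    rw [hN]
    exact sup_le (sup_le hTC hRC) (Subgroup.zpowers_le.mpr haC)
  haveI hCn : (C.subgroupOf N).Normal := Subgroup.normal_subgroupOf_of_le_normalizer hNC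
  haveI hNs : Group.IsSolvable ↥N :=
    Group.isSolvable_of_isSolvable_injective (Subgroup.inclusion_injective hNY)
  obtain ⟨π, hπdef⟩ : ∃ π : ↥N →* ↥N ⧸ C.subgroupOf N, π = QuotientGroup.mk' _ := ⟨_, rfl⟩
  have hπ : ∀ x : ↥N, π x = 1 ↔ (x : X) ∈ C := by
    intro x
    rw [hπdef, QuotientGroup.mk'_apply, QuotientGroup.eq_one_iff, Subgroup.mem_subgroupOf]
  have hπs : Function.Surjective π := by
    rw [hπdef]
    exact QuotientGroup.mk'_surjective _
  obtain ⟨Q', hQ'⟩ : ∃ Q', Q' = (T.subgroupOf N).map π := ⟨_, rfl⟩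
  obtain ⟨R', hR'⟩ : ∃ R', R' = (R₀.subgroupOf N).map π := ⟨_, rfl⟩
  obtain ⟨a', ha'⟩ : ∃ a', a' = π ⟨a, haN⟩ := ⟨_, rfl⟩
  -- hypotheses in the quotient
  have h1 : Group.IsSolvable ↥(⊤ : Subgroup (↥N ⧸ C.subgroupOf N)) :=
    Group.isSolvable_of_isSolvable_injective (f := (⊤ : Subgroup (↥N ⧸ C.subgroupOf N)).subtype)
      Subtype.val_injective
  have h2 : Odd (Nat.card ↥(⊤ : Subgroup (↥N ⧸ C.subgroupOf N))) := by
    rw [Subgroup.card_top]
    have hd1 : Nat.card (↥N ⧸ C.subgroupOf N) ∣ Nat.card ↥N :=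
      Subgroup.card_quotient_dvd_card _
    exact (hYodd.of_dvd_nat (Subgroup.card_dvd_of_le hNY)).of_dvd_nat hd1
  have h3 : Group.IsNilpotent ↥Q' := by
    haveI : Group.IsNilpotent ↥(T.subgroupOf N) := by
      haveI := hTn
      exact Group.nilpotent_of_mulEquiv (Subgroup.subgroupOfEquivOfLe hTN).symm
    rw [hQ']
    exact Group.nilpotent_of_surjective (π.subgroupMap (T.subgroupOf N))
      (π.subgroupMap_surjective _)
  have h4 : a' ^ p = 1 := by
    rw [ha', ← map_pow]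
    have : (⟨a, haN⟩ : ↥N) ^ p = 1 := Subtype.ext (by rw [Subgroup.coe_pow]; exact hap)
    rw [this, map_one]
  have hnorm : ∀ {A B : Subgroup X}, A ≤ Subgroup.normalizer (B : Set X) →
      A.subgroupOf N ≤ Subgroup.normalizer ((B.subgroupOf N : Subgroup ↥N) : Set ↥N) := by
    intro A B hAB x hx
    rw [Subgroup.mem_subgroupOf] at hx
    have hx' := hAB hx
    rw [Subgroup.mem_normalizer_iff] at hx' ⊢
    intro y
    rw [Subgroup.mem_subgroupOf, Subgroup.mem_subgroupOf]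
    exact hx' y
  have h5 : R' ≤ Subgroup.normalizer (Q' : Set (↥N ⧸ C.subgroupOf N)) := by
    rw [hR', hQ']
    exact (Subgroup.map_mono (hnorm hRT)).trans (Subgroup.le_normalizer_map π)
  have hanorm : ∀ {B : Subgroup X}, a ∈ Subgroup.normalizer (B : Set X) →
      a' ∈ Subgroup.normalizer (((B.subgroupOf N).map π : Subgroup _) : Set _) := by
    intro B hB
    apply Subgroup.le_normalizer_map π
    rw [ha']
    refine Subgroup.mem_map_of_mem π ?_
    have := hnorm (A := Subgroup.zpowers a) (B := B) (Subgroup.zpowers_le.mpr hB)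
    apply this
    rw [Subgroup.mem_subgroupOf]
    exact Subgroup.mem_zpowers a
  have h6 : a' ∈ Subgroup.normalizer (Q' : Set (↥N ⧸ C.subgroupOf N)) := hQ' ▸ hanorm haT
  have h7 : a' ∈ Subgroup.normalizer (R' : Set (↥N ⧸ C.subgroupOf N)) := hR' ▸ hanorm haR
  have hcT : Nat.card ↥(T.subgroupOf N) = Nat.card ↥T :=
    Nat.card_congr (Subgroup.subgroupOfEquivOfLe hTN).toEquiv
  have hcR : Nat.card ↥(R₀.subgroupOf N) = Nat.card ↥R₀ :=
    Nat.card_congr (Subgroup.subgroupOfEquivOfLe hRN).toEquiv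
  have hdQ : Nat.card ↥Q' ∣ Nat.card ↥T := by
    rw [hQ', ← hcT]
    exact Subgroup.card_map_dvd _ π
  have hdR : Nat.card ↥R' ∣ Nat.card ↥R₀ := by
    rw [hR', ← hcR]
    exact Subgroup.card_map_dvd _ π
  have h8 : (Nat.card ↥R').Coprime (Nat.card ↥Q') :=
    Nat.Coprime.coprime_dvd_left hdR (Nat.Coprime.coprime_dvd_right hdQ hcop)
  have h9 : ¬ p ∣ Nat.card ↥Q' := fun h => hpT (h.trans hdQ)
  have h10 : ¬ p ∣ Nat.card ↥R' := fun h => hpR (h.trans hdR)
  have h11 : ∀ x ∈ Q', a' * x = x * a' → x = 1 := by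
    intro x hx hc
    rw [hQ'] at hx
    obtain ⟨y, hy, rfl⟩ := hx
    rw [SetLike.mem_coe, Subgroup.mem_subgroupOf] at hy
    rw [hπ]
    apply hfix _ hy
    have h12 : π ⁅y, ⟨a, haN⟩⁆ = 1 := by
      rw [map_commutatorElement, commutatorElement_eq_one_iff_commute, ← ha']
      exact hc.symm
    rw [hπ] at h12
    exact h12
  have key := Cfsg.Agent.Lib.Helper10.BG.commutator_centralizes_of_fpf
    (X := ↥N ⧸ C.subgroupOf N) (Y := ⊤) (Q := Q') (R := R') (a := a') (p := p)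
    h1 h2 le_top le_top (Subgroup.mem_top _) h3 hp h4 h5 h6 h7 h8 h9 h10 h11
  -- pull back
  obtain ⟨S, hS⟩ : ∃ S : Subgroup X,
      S = ((Subgroup.centralizer (Q' : Set (↥N ⧸ C.subgroupOf N))).comap π).map N.subtype :=
    ⟨_, rfl⟩
  have hmemS : ∀ x : X, x ∈ S ↔ ∃ hx : x ∈ N,
      π ⟨x, hx⟩ ∈ Subgroup.centralizer (Q' : Set (↥N ⧸ C.subgroupOf N)) := by
    intro x
    rw [hS]
    constructor
    · rintro ⟨y, hy, rfl⟩
      exact ⟨y.2, hy⟩
    · rintro ⟨hx, h⟩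
      exact ⟨⟨x, hx⟩, h, rfl⟩
  have hRS : R₀ ≤ S := by
    refine hgen.trans ?_
    rw [Subgroup.closure_le]
    rintro _ ⟨x, hx, rfl⟩
    rw [SetLike.mem_coe, hmemS]
    have hxN : x ∈ N := hRN hx
    have hcN : ⁅x, a⁆ ∈ N := by
      rw [commutatorElement_def]
      exact mul_mem (mul_mem (mul_mem hxN haN) (inv_mem hxN)) (inv_mem haN)
    refine ⟨hcN, ?_⟩
    have : π ⟨⁅x, a⁆, hcN⟩ = ⁅π ⟨x, hxN⟩, a'⁆ := by
      rw [ha', ← map_commutatorElement]
      rfl
    rw [this]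
    apply key
    rw [hR']
    exact Subgroup.mem_map_of_mem π (Subgroup.mem_subgroupOf.mpr hx)
  rw [Subgroup.commutator_le]
  intro t ht y hy
  obtain ⟨hyN, hyc⟩ := (hmemS y).mp (hRS hy)
  have htN : t ∈ N := hTN ht
  have h13 : π ⟨t, htN⟩ ∈ Q' := by
    rw [hQ']
    exact Subgroup.mem_map_of_mem π (Subgroup.mem_subgroupOf.mpr ht)
  have h14 : π ⁅(⟨t, htN⟩ : ↥N), ⟨y, hyN⟩⁆ = 1 := by
    rw [map_commutatorElement, commutatorElement_eq_one_iff_commute]
    exact (Subgroup.mem_centralizer_iff.mp hyc _ h13)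
  rw [hπ] at h14
  exact h14

end Cfsg.Agent.Lib.Helper9.BGSwap
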