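import Mathlib
import Cfsg.Agent.Lib.Helper9.BGSwap1

/-!
# Helper9 library: coprime action lemmas for B & G Theorem 13.3 (the swap argument), part 2

`Act Y U Q a r`: a subgroup `Q` and an element `a` of prime order `r` normalizing `Q` act coprimely
on `U`, inside a solvable subgroup `Y` of odd order, with `Q = [Q, a]`.
`Act.lemF`: if `C_U(a) ≤ C_U(Q)` and `U` is a `p`-group then `Q` centralizes `U`.
-/

set_option autoImplicit false
set_option linter.style.haveILetI false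
set_option linter.unusedSectionVars false
set_option linter.unusedVariables false

open Cfsg
open scoped commutatorElement
open Cfsg.Agent.Lib.Helper1 (CoprimeAct)

namespace Cfsg.Agent.Lib.Helper9.BGSwap

variable {X : Type*} [Group X]

theorem map_conj_eq {H : Subgroup X} {g : X} (hg : g ∈ Subgroup.normalizer (H : Set X)) :
    H.map (MulAut.conj g).toMonoidHom = H := by
  apply le_antisymm
  · rintro _ ⟨x, hx, rfl⟩
    exact (Subgroup.mem_normalizer_iff.mp hg x).mp hx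
  · intro x hx
    refine ⟨g⁻¹ * x * g, ?_, ?_⟩
    · have := (Subgroup.mem_normalizer_iff.mp (inv_mem hg) x).mp hx
      simpa using this
    · simp [MulAut.conj_apply, mul_assoc]

/-- an element normalizing two subgroups normalizes their commutator. -/
theorem mem_normalizer_commutator {A B : Subgroup X} {g : X}
    (hA : g ∈ Subgroup.normalizer (A : Set X)) (hB : g ∈ Subgroup.normalizer (B : Set X)) :
    g ∈ Subgroup.normalizer ((⁅A, B⁆ : Subgroup X) : Set X) := by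
  apply Cfsg.Agent.Lib.Helper10.BG.mem_normalizer_of_map_conj_eq
  rw [Subgroup.map_commutator, map_conj_eq hA, map_conj_eq hB]

/-- an element normalizing a subgroup normalizes its centralizer. -/
theorem mem_normalizer_centralizer {Q : Subgroup X} {g : X}
    (hg : g ∈ Subgroup.normalizer (Q : Set X)) :
    g ∈ Subgroup.normalizer ((Subgroup.centralizer (Q : Set X) : Subgroup X) : Set X) := by
  have key : ∀ g : X, g ∈ Subgroup.normalizer (Q : Set X) →
      ∀ x ∈ Subgroup.centralizer (Q : Set X), g * x * g⁻¹ ∈ Subgroup.centralizer (Q : Set X) := by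
    intro g hg x hx
    rw [Subgroup.mem_centralizer_iff]
    intro q hq
    have hq' : g⁻¹ * q * g ∈ Q := by
      have := (Subgroup.mem_normalizer_iff.mp (inv_mem hg) q).mp hq
      simpa using this
    have h1 := Subgroup.mem_centralizer_iff.mp hx _ hq'
    calc q * (g * x * g⁻¹) = g * ((g⁻¹ * q * g) * x) * g⁻¹ := by group
      _ = g * (x * (g⁻¹ * q * g)) * g⁻¹ := by rw [h1]
      _ = g * x * g⁻¹ * q := by group
  rw [Subgroup.mem_normalizer_iff]
  intro x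
  refine ⟨key g hg x, fun hx => ?_⟩
  have := key g⁻¹ (inv_mem hg) _ hx
  simpa [mul_assoc] using this

theorem mem_normalizer_inf {A B : Subgroup X} {g : X}
    (hA : g ∈ Subgroup.normalizer (A : Set X)) (hB : g ∈ Subgroup.normalizer (B : Set X)) :
    g ∈ Subgroup.normalizer ((A ⊓ B : Subgroup X) : Set X) := by
  rw [Subgroup.mem_normalizer_iff] at hA hB ⊢
  intro x
  rw [Subgroup.mem_inf, Subgroup.mem_inf, hA x, hB x]

/-- the elements `b` normalizing `C` with `[x⁻¹, b] ∈ C`. -/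
def cosetStab (C : Subgroup X) (x : X) : Subgroup X where
  carrier := {b | b ∈ Subgroup.normalizer (C : Set X) ∧ x⁻¹ * (b * x * b⁻¹) ∈ C}
  one_mem' := by
    refine ⟨Subgroup.one_mem _, ?_⟩
    simp
  mul_mem' := by
    rintro b c ⟨hb, hb'⟩ ⟨hc, hc'⟩
    refine ⟨mul_mem hb hc, ?_⟩
    have h1 : x⁻¹ * (b * c * x * (b * c)⁻¹) =
        (x⁻¹ * (b * x * b⁻¹)) * (b * (x⁻¹ * (c * x * c⁻¹)) * b⁻¹) := by group
    rw [h1]
    exact mul_mem hb' ((Subgroup.mem_normalizer_iff.mp hb _).mp hc')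
  inv_mem' := by
    rintro b ⟨hb, hb'⟩
    refine ⟨inv_mem hb, ?_⟩
    have h1 : x⁻¹ * (b⁻¹ * x * b⁻¹⁻¹) = b⁻¹ * (x⁻¹ * (b * x * b⁻¹))⁻¹ * b⁻¹⁻¹ := by group
    rw [h1]
    exact (Subgroup.mem_normalizer_iff.mp (inv_mem hb) _).mp (inv_mem hb')

theorem mem_cosetStab {C : Subgroup X} {x b : X} :
    b ∈ cosetStab C x ↔ b ∈ Subgroup.normalizer (C : Set X) ∧ x⁻¹ * (b * x * b⁻¹) ∈ C :=
  Iff.rfl

variable [Finite X]

/-- the coprime action data. -/
structure Act (Y U Q : Subgroup X) (a : X) (r : ℕ) : Prop where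
  hYs : Group.IsSolvable ↥Y
  hYodd : Odd (Nat.card ↥Y)
  hUY : U ≤ Y
  hQY : Q ≤ Y
  haY : a ∈ Y
  hr : r.Prime
  har : a ^ r = 1
  hQU : Q ≤ Subgroup.normalizer (U : Set X)
  haU : a ∈ Subgroup.normalizer (U : Set X)
  haQ : a ∈ Subgroup.normalizer (Q : Set X)
  hcop : (Nat.card Q).Coprime (Nat.card U)
  hrU : ¬ r ∣ Nat.card U
  hrQ : ¬ r ∣ Nat.card Q
  hgen : Q ≤ Subgroup.closure {c : X | ∃ x ∈ Q, c = ⁅x, a⁆}

namespace Act

variable {Y U Q : Subgroup X} {a : X} {r : ℕ}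

theorem mono (h : Act Y U Q a r) {U₁ : Subgroup X} (hU₁ : U₁ ≤ U)
    (hQU₁ : Q ≤ Subgroup.normalizer (U₁ : Set X)) (haU₁ : a ∈ Subgroup.normalizer (U₁ : Set X)) :
    Act Y U₁ Q a r where
  hYs := h.hYs
  hYodd := h.hYodd
  hUY := hU₁.trans h.hUY
  hQY := h.hQY
  haY := h.haY
  hr := h.hr
  har := h.har
  hQU := hQU₁
  haU := haU₁
  haQ := h.haQ
  hcop := Nat.Coprime.coprime_dvd_right (Subgroup.card_dvd_of_le hU₁) h.hcop
  hrU := fun hd => h.hrU (hd.trans (Subgroup.card_dvd_of_le hU₁))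
  hrQ := h.hrQ
  hgen := h.hgen

theorem coprimeQ (h : Act Y U Q a r) : CoprimeAct Q U :=
  ⟨h.hQU, h.hcop, Or.inl (by
    haveI := h.hYs
    exact Group.isSolvable_of_isSolvable_injective (Subgroup.inclusion_injective h.hQY))⟩

theorem coprimeA (h : Act Y U Q a r) : CoprimeAct (Subgroup.zpowers a) U := by
  refine ⟨Subgroup.zpowers_le.mpr h.haU, ?_, Or.inl ?_⟩
  · rw [Nat.card_zpowers]
    have h1 : orderOf a ∣ r := orderOf_dvd_of_pow_eq_one h.har
    exact Nat.Coprime.coprime_dvd_left h1 ((Nat.Prime.coprime_iff_not_dvd h.hr).mpr h.hrU)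
  · haveI := h.hYs
    exact Group.isSolvable_of_isSolvable_injective
      (Subgroup.inclusion_injective (Subgroup.zpowers_le.mpr h.haY))

/-- Lemma F: if `C_U(a) ≤ C_U(Q)` then `Q` centralizes the `p`-group `U`. -/
theorem lemF (h : Act Y U Q a r) {p : ℕ} [Fact p.Prime] (hUp : IsPGroup p ↥U)
    (hc : ∀ u ∈ U, a * u = u * a → ∀ x ∈ Q, x * u = u * x) :
    U ≤ Subgroup.centralizer (Q : Set X) := by
  by_contra hne
  have hfin : ({U₁ : Subgroup X | U₁ ≤ U ∧ Q ≤ Subgroup.normalizer (U₁ : Set X) ∧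
      a ∈ Subgroup.normalizer (U₁ : Set X) ∧ ¬ U₁ ≤ Subgroup.centralizer (Q : Set X)} :
      Set (Subgroup X)).Finite := Set.toFinite _
  obtain ⟨U₀, ⟨hU₀U, hQU₀, haU₀, hU₀ne⟩, hmin⟩ :=
    hfin.exists_minimal ⟨U, le_rfl, h.hQU, h.haU, hne⟩
  have h0 : Act Y U₀ Q a r := h.mono hU₀U hQU₀ haU₀
  have hA : ∀ U₁ : Subgroup X, U₁ ≤ U₀ → U₁ ≠ U₀ → Q ≤ Subgroup.normalizer (U₁ : Set X) →
      a ∈ Subgroup.normalizer (U₁ : Set X) → U₁ ≤ Subgroup.centralizer (Q : Set X) := by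
    intro U₁ h1 h2 h3 h4
    by_contra h5
    exact h2 (le_antisymm h1 (hmin ⟨h1.trans hU₀U, h3, h4, h5⟩ h1))
  obtain ⟨C₀, hC₀⟩ : ∃ C₀, C₀ = U₀ ⊓ Subgroup.centralizer (Q : Set X) := ⟨_, rfl⟩
  have hC₀U : C₀ ≤ U₀ := hC₀ ▸ inf_le_left
  -- `[U₀, Q] = U₀`
  have hB : ⁅U₀, Q⁆ = U₀ := by
    by_contra h1
    have h2 : ⁅U₀, Q⁆ ≤ U₀ := Cfsg.Agent.Lib.Helper1.commutator_le_of_le_normalizer hQU₀
    have h3 := hA ⁅U₀, Q⁆ h2 h1 Cfsg.Agent.Lib.Helper1.le_normalizer_commutator_right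
      (mem_normalizer_commutator haU₀ h.haQ)
    have h4 : ⁅⁅U₀, Q⁆, Q⁆ = ⊥ := Subgroup.commutator_eq_bot_iff_le_centralizer.mpr h3
    rw [h0.coprimeQ.commutator_commutator_eq] at h4
    exact hU₀ne (Subgroup.commutator_eq_bot_iff_le_centralizer.mp h4)
  -- the derived subgroup lies in `C₀`
  have hU₀p : IsPGroup p ↥U₀ := hUp.to_le hU₀U
  have hU₀bot : U₀ ≠ ⊥ := by
    rintro rfl
    exact hU₀ne bot_le
  have hder : ⁅U₀, U₀⁆ ≤ C₀ := by
    have h1 : ⁅U₀, U₀⁆ ≤ U₀ := Cfsg.Agent.Lib.Helper1.commutator_le_of_le_normalizer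
      Subgroup.le_normalizer
    have h2 : ⁅U₀, U₀⁆ ≠ U₀ := by
      intro heq
      haveI : Group.IsNilpotent ↥U₀ := hU₀p.isNilpotent
      haveI : Nontrivial ↥U₀ := (Subgroup.nontrivial_iff_ne_bot U₀).mpr hU₀bot
      have h3 := Group.IsSolvable.commutator_lt_top_of_nontrivial ↥U₀
      have h4 : (commutator ↥U₀).map U₀.subtype = U₀ := by
        rw [Subgroup.map_subtype_commutator, heq]
      have h5 : (commutator ↥U₀).map U₀.subtype = (⊤ : Subgroup ↥U₀).map U₀.subtype := by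
        rw [h4, ← MonoidHom.range_eq_map, U₀.range_subtype]
      exact h3.ne (Subgroup.map_injective U₀.subtype_injective h5)
    rw [hC₀]
    refine le_inf h1 (hA _ h1 h2 ?_ (mem_normalizer_commutator haU₀ haU₀))
    intro x hx
    exact mem_normalizer_commutator (hQU₀ hx) (hQU₀ hx)
  have hU₀C₀ : U₀ ≤ Subgroup.normalizer (C₀ : Set X) := by
    apply Cfsg.Agent.Lib.Helper1.le_normalizer_of_forall_conj_mem
    intro u hu c hc
    have h1 : u * c * u⁻¹ = ⁅u, c⁆ * c := by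
      rw [commutatorElement_def]
      group
    rw [h1]
    exact mul_mem (hder (Subgroup.commutator_mem_commutator hu (hC₀U hc))) hc
  have hQC₀ : Q ≤ Subgroup.normalizer (C₀ : Set X) := by
    intro x hx
    rw [hC₀]
    exact mem_normalizer_inf (hQU₀ hx) (mem_normalizer_centralizer (Subgroup.le_normalizer hx))
  have haC₀ : a ∈ Subgroup.normalizer (C₀ : Set X) := by
    rw [hC₀]
    exact mem_normalizer_inf haU₀ (mem_normalizer_centralizer h.haQ)
  -- fixed point freeness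
  have hfix : ∀ x ∈ U₀, ⁅x, a⁆ ∈ C₀ → x ∈ C₀ := by
    intro x hx hxa
    have h1 : Subgroup.zpowers a ≤ cosetStab C₀ x := by
      rw [Subgroup.zpowers_le, mem_cosetStab]
      refine ⟨haC₀, ?_⟩
      have h2 : x⁻¹ * (a * x * a⁻¹) = x⁻¹ * ⁅x, a⁆⁻¹ * x⁻¹⁻¹ := by
        rw [commutatorElement_def]
        group
      rw [h2]
      exact (Subgroup.mem_normalizer_iff.mp (hU₀C₀ (inv_mem hx)) _).mp (inv_mem hxa)
    obtain ⟨u, hu, hxu⟩ := h0.coprimeA.exists_mul_mem_centralizer hC₀U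
      (Subgroup.zpowers_le.mpr haC₀) x hx (fun b hb => (mem_cosetStab.mp (h1 hb)).2)
    obtain ⟨hxuU, hxuc⟩ := Subgroup.mem_inf.mp hxu
    have h3 : a * (x * u) = (x * u) * a :=
      (Subgroup.mem_centralizer_iff.mp hxuc a (Subgroup.mem_zpowers a))
    have h4 : x * u ∈ C₀ := by
      rw [hC₀]
      refine Subgroup.mem_inf.mpr ⟨hxuU, ?_⟩
      rw [Subgroup.mem_centralizer_iff]
      intro q hq
      exact hc (x * u) (hU₀U hxuU) h3 q hq
    have h5 : x = (x * u) * u⁻¹ := by group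
    rw [h5]
    exact mul_mem h4 (inv_mem hu)
  have hfin2 := rel_fpf (Y := Y) (T := U₀) (C := C₀) (R₀ := Q) (a := a) (p := r)
    h.hYs h.hYodd h0.hUY h.hQY h.haY hC₀U hU₀p.isNilpotent h.hr h.har hU₀C₀ hQC₀ haC₀
    hQU₀ haU₀ h.haQ h0.hcop h0.hrU h.hrQ hfix h.hgen
  rw [hB] at hfin2
  exact hU₀ne (hfin2.trans (hC₀ ▸ inf_le_right))

end Act

end Cfsg.Agent.Lib.Helper9.BGSwap
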