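import Mathlib
import Cfsg.Agent.Lib.Helper9.BGSwap2
import Cfsg.Agent.Lib.Helper29.BG95a
import Cfsg.Agent.Lib.Helper1.ClassTwo
import Cfsg.Agent.S1400

/-!
# Helper9 library: coprime action lemmas for B & G Theorem 13.3 (the swap argument), part 3

`Act.claimN`: the "noncyclic centralizer lemma".  If `Q = [Q, a]` and `a` act coprimely on a
noncyclic `p`-group `T` (`p` odd), and `Q` centralizes every element of order `p` of `C_T(a)`,
then `C_T(Q)` is not cyclic.
-/

set_option autoImplicit false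
set_option linter.style.haveILetI false
set_option linter.unusedSectionVars false
set_option linter.unusedVariables false

open Cfsg
open scoped commutatorElement
open Cfsg.Agent.Lib.Helper1 (CoprimeAct)

namespace Cfsg.Agent.Lib.Helper9.BGSwap

variable {X : Type*} [Group X]

theorem isCyclic_of_le_cyclic {A B : Subgroup X} (hAB : A ≤ B) (hB : IsCyclic ↥B) :
    IsCyclic ↥A := by
  haveI := hB
  exact isCyclic_of_injective (Subgroup.inclusion hAB) (Subgroup.inclusion_injective hAB)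

/-- a cyclic subgroup is abelian. -/
theorem comm_of_cyclic {T : Subgroup X} (hc : IsCyclic ↥T) {t x : X} (ht : t ∈ T) (hx : x ∈ T) :
    t * x = x * t := by
  obtain ⟨g, hg⟩ := hc.exists_generator
  obtain ⟨a, ha⟩ := Subgroup.mem_zpowers_iff.mp (hg ⟨t, ht⟩)
  obtain ⟨b, hb⟩ := Subgroup.mem_zpowers_iff.mp (hg ⟨x, hx⟩)
  have h1 : (g : X) ^ a = t := by
    have := congrArg Subtype.val ha
    simpa using this
  have h2 : (g : X) ^ b = x := by
    have := congrArg Subtype.val hb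
    simpa using this
  rw [← h1, ← h2, ← zpow_add, ← zpow_add, add_comm]

/-- a nontrivial `p`-subgroup is not perfect. -/
theorem commutator_ne_self_of_pgroup [Finite X] {p : ℕ} [Fact p.Prime] {U : Subgroup X}
    (hUp : IsPGroup p ↥U) (hU : U ≠ ⊥) : ⁅U, U⁆ ≠ U := by
  intro heq
  haveI : Group.IsNilpotent ↥U := hUp.isNilpotent
  haveI : Nontrivial ↥U := (Subgroup.nontrivial_iff_ne_bot U).mpr hU
  have h3 := Group.IsSolvable.commutator_lt_top_of_nontrivial ↥U
  have h4 : (commutator ↥U).map U.subtype = U := by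
    rw [Subgroup.map_subtype_commutator, heq]
  have h5 : (commutator ↥U).map U.subtype = (⊤ : Subgroup ↥U).map U.subtype := by
    rw [h4, ← MonoidHom.range_eq_map, U.range_subtype]
  exact h3.ne (Subgroup.map_injective U.subtype_injective h5)

/-- the elements of order dividing `p` of a subgroup of class at most two, `p` odd. -/
def omegaSub {p : ℕ} [Fact p.Prime] (hp2 : p ≠ 2) (T : Subgroup X)
    (hcl : commutator ↥T ≤ Subgroup.center ↥T) : Subgroup X where
  carrier := {x | x ∈ T ∧ x ^ p = 1}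
  one_mem' := ⟨T.one_mem, one_pow p⟩
  mul_mem' := by
    rintro x y ⟨hx, hx'⟩ ⟨hy, hy'⟩
    refine ⟨T.mul_mem hx hy, ?_⟩
    have h1 : (⟨x, hx⟩ : ↥T) ^ p = 1 := Subtype.ext (by rw [Subgroup.coe_pow]; exact hx')
    have h2 : (⟨y, hy⟩ : ↥T) ^ p = 1 := Subtype.ext (by rw [Subgroup.coe_pow]; exact hy')
    have h3 := Cfsg.Agent.Lib.Helper1.mul_pow_prime_eq_one_of_class_two hp2 hcl h1 h2
    have h4 := congrArg Subtype.val h3
    simpa using h4
  inv_mem' := by
    rintro x ⟨hx, hx'⟩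
    exact ⟨T.inv_mem hx, by rw [inv_pow, hx', inv_one]⟩

theorem mem_omegaSub {p : ℕ} [Fact p.Prime] (hp2 : p ≠ 2) (T : Subgroup X)
    (hcl : commutator ↥T ≤ Subgroup.center ↥T) {x : X} :
    x ∈ omegaSub hp2 T hcl ↔ x ∈ T ∧ x ^ p = 1 := Iff.rfl

theorem mem_normalizer_omegaSub {p : ℕ} [Fact p.Prime] (hp2 : p ≠ 2) (T : Subgroup X)
    (hcl : commutator ↥T ≤ Subgroup.center ↥T) {g : X}
    (hg : g ∈ Subgroup.normalizer (T : Set X)) :
    g ∈ Subgroup.normalizer ((omegaSub hp2 T hcl : Subgroup X) : Set X) := by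
  have key : ∀ g : X, g ∈ Subgroup.normalizer (T : Set X) →
      ∀ x ∈ omegaSub hp2 T hcl, g * x * g⁻¹ ∈ omegaSub hp2 T hcl := by
    intro g hg x hx
    obtain ⟨hxT, hxp⟩ := (mem_omegaSub hp2 T hcl).mp hx
    refine (mem_omegaSub hp2 T hcl).mpr ⟨(Subgroup.mem_normalizer_iff.mp hg x).mp hxT, ?_⟩
    rw [conj_pow, hxp, mul_one, mul_inv_cancel]
  rw [Subgroup.mem_normalizer_iff]
  intro x
  refine ⟨key g hg x, fun hx => ?_⟩
  have := key g⁻¹ (inv_mem hg) _ hx
  simpa [mul_assoc] using this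

variable [Finite X]

namespace Act

variable {Y T Q : Subgroup X} {a : X} {r : ℕ}

/-- the noncyclic centralizer lemma. -/
theorem claimN (h : Act Y T Q a r) {p : ℕ} [Fact p.Prime] (hTp : IsPGroup p ↥T)
    (hP : ∀ u ∈ T, u ^ p = 1 → a * u = u * a → ∀ x ∈ Q, x * u = u * x)
    (hnc : ¬ IsCyclic ↥T) :
    ¬ IsCyclic ↥(T ⊓ Subgroup.centralizer (Q : Set X) : Subgroup X) := by
  intro hcycC
  have hpp : p.Prime := Fact.out
  have hfin : ({T₁ : Subgroup X | T₁ ≤ T ∧ Q ≤ Subgroup.normalizer (T₁ : Set X) ∧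
      a ∈ Subgroup.normalizer (T₁ : Set X) ∧ ¬ IsCyclic ↥T₁} : Set (Subgroup X)).Finite :=
    Set.toFinite _
  obtain ⟨T₀, ⟨hT₀T, hQT₀, haT₀, hT₀nc⟩, hmin⟩ :=
    hfin.exists_minimal ⟨T, le_rfl, h.hQU, h.haU, hnc⟩
  have h0 : Act Y T₀ Q a r := h.mono hT₀T hQT₀ haT₀
  have hT₀p : IsPGroup p ↥T₀ := hTp.to_le hT₀T
  have hT₀bot : T₀ ≠ ⊥ := by
    rintro rfl
    exact hT₀nc isCyclic_of_subsingleton
  -- `p` is odd
  have hp2 : p ≠ 2 := by
    rintro rfl
    have h1 : 2 ∣ Nat.card ↥T₀ := by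
      obtain ⟨k, hk⟩ := hT₀p.exists_card_eq
      rcases Nat.eq_zero_or_pos k with rfl | hk0
      · rw [pow_zero] at hk
        exact absurd (Subgroup.card_eq_one.mp hk) hT₀bot
      · rw [hk]
        exact dvd_pow_self 2 hk0.ne'
    have h2 : 2 ∣ Nat.card ↥Y := h1.trans (Subgroup.card_dvd_of_le h0.hUY)
    exact (Nat.not_even_iff_odd.mpr h.hYodd) (even_iff_two_dvd.mpr h2)
  obtain ⟨C, hC⟩ : ∃ C, C = T₀ ⊓ Subgroup.centralizer (Q : Set X) := ⟨_, rfl⟩
  have hCT₀ : C ≤ T₀ := hC ▸ inf_le_left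
  have hCQ : C ≤ Subgroup.centralizer (Q : Set X) := hC ▸ inf_le_right
  have hCc : IsCyclic ↥C :=
    isCyclic_of_le_cyclic (hC ▸ inf_le_inf_right _ hT₀T) hcycC
  -- proper invariant subgroups lie in `C`
  have hA : ∀ T₁ : Subgroup X, T₁ ≤ T₀ → T₁ ≠ T₀ → Q ≤ Subgroup.normalizer (T₁ : Set X) →
      a ∈ Subgroup.normalizer (T₁ : Set X) → T₁ ≤ C := by
    intro T₁ h1 h2 h3 h4
    have h5 : IsCyclic ↥T₁ := by
      by_contra h5
      exact h2 (le_antisymm h1 (hmin ⟨h1.trans hT₀T, h3, h4, h5⟩ h1))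
    have h6 : Q ⊔ Subgroup.zpowers a ≤ Subgroup.normalizer (T₁ : Set X) :=
      sup_le h3 (Subgroup.zpowers_le.mpr h4)
    have h7 := Cfsg.Agent.Lib.Helper29.BG95.commutator_le_centralizer_of_isCyclic h5 h6
    have h8 : Q ≤ Subgroup.centralizer (T₁ : Set X) := by
      refine h.hgen.trans ?_
      rw [Subgroup.closure_le]
      rintro _ ⟨x, hx, rfl⟩
      exact h7 (Subgroup.commutator_mem_commutator (Subgroup.mem_sup_left hx)
        (Subgroup.mem_sup_right (Subgroup.mem_zpowers a)))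
    rw [hC]
    exact le_inf h1 (Subgroup.le_centralizer_iff.mp h8)
  -- the derived subgroup lies in `C`
  have hder : ⁅T₀, T₀⁆ ≤ C := by
    have h1 : ⁅T₀, T₀⁆ ≤ T₀ := Cfsg.Agent.Lib.Helper1.commutator_le_of_le_normalizer
      Subgroup.le_normalizer
    refine hA _ h1 (commutator_ne_self_of_pgroup hT₀p hT₀bot) ?_
      (mem_normalizer_commutator haT₀ haT₀)
    intro x hx
    exact mem_normalizer_commutator (hQT₀ hx) (hQT₀ hx)
  have hT₀C : T₀ ≤ Subgroup.normalizer (C : Set X) := by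
    apply Cfsg.Agent.Lib.Helper1.le_normalizer_of_forall_conj_mem
    intro u hu c hc
    have h1 : u * c * u⁻¹ = ⁅u, c⁆ * c := by
      rw [commutatorElement_def]
      group
    rw [h1]
    exact mul_mem (hder (Subgroup.commutator_mem_commutator hu (hCT₀ hc))) hc
  -- `C` is central in `T₀`
  have hcent : T₀ ≤ Subgroup.centralizer (C : Set X) := by
    have h1 : ⁅T₀, Q⁆ ⊔ (T₀ ⊓ Subgroup.centralizer (Q : Set X)) = T₀ :=
      h0.coprimeQ.commutator_sup_centralizer
    rw [← hC] at h1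
    rw [← h1]
    refine sup_le ?_ ?_
    · rw [Subgroup.commutator_le]
      intro x hx y hy
      rw [Subgroup.mem_centralizer_iff]
      intro c hc
      have hyc : ∀ c' ∈ C, y * c' = c' * y := fun c' hc' =>
        (Subgroup.mem_centralizer_iff.mp (hCQ hc') y hy)
      have hc' : x⁻¹ * c * x ∈ C := by
        have := (Subgroup.mem_normalizer_iff.mp (hT₀C (inv_mem hx)) c).mp hc
        simpa using this
      have e1 : y⁻¹ * c = c * y⁻¹ := by
        have h2 := hyc c hc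
        calc y⁻¹ * c = y⁻¹ * (c * y) * y⁻¹ := by group
          _ = y⁻¹ * (y * c) * y⁻¹ := by rw [h2]
          _ = c * y⁻¹ := by group
      rw [commutatorElement_def]
      symm
      calc x * y * x⁻¹ * y⁻¹ * c = x * y * x⁻¹ * (y⁻¹ * c) := by group
        _ = x * y * x⁻¹ * (c * y⁻¹) := by rw [e1]
        _ = x * (y * (x⁻¹ * c * x)) * x⁻¹ * y⁻¹ := by group
        _ = x * ((x⁻¹ * c * x) * y) * x⁻¹ * y⁻¹ := by rw [hyc _ hc']
        _ = c * (x * y * x⁻¹ * y⁻¹) := by group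
    · intro c hc
      rw [Subgroup.mem_centralizer_iff]
      intro c' hc'
      exact comm_of_cyclic hCc hc' hc
  -- class two
  have hcl : commutator ↥T₀ ≤ Subgroup.center ↥T₀ := by
    intro z hz
    have hz' : (z : X) ∈ ⁅T₀, T₀⁆ := by
      rw [← Subgroup.map_subtype_commutator]
      exact ⟨z, hz, rfl⟩
    rw [Subgroup.mem_center_iff]
    intro t
    apply Subtype.ext
    rw [Subgroup.coe_mul, Subgroup.coe_mul]
    exact (Subgroup.mem_centralizer_iff.mp (hcent t.2) _ (hder hz')).symm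
  -- the elements of order `p`
  obtain ⟨B, hB⟩ : ∃ B, B = omegaSub hp2 T₀ hcl := ⟨_, rfl⟩
  have hBT₀ : B ≤ T₀ := by
    intro x hx
    rw [hB] at hx
    exact ((mem_omegaSub hp2 T₀ hcl).mp hx).1
  have hBeq : B = T₀ := by
    by_contra hne
    have h1 : B ≤ C := by
      refine hA B hBT₀ hne ?_ ?_
      · intro x hx
        rw [hB]
        exact mem_normalizer_omegaSub hp2 T₀ hcl (hQT₀ hx)
      · rw [hB]
        exact mem_normalizer_omegaSub hp2 T₀ hcl haT₀
    have h2 : ¬ PRankLE p 1 ↥T₀ :=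
      Cfsg.Agent.Lib.Helper10.BG.not_pRankLE_one_of_not_isCyclic hp2 hT₀p hT₀nc
    obtain ⟨V, hVT₀, hVe, hVcard⟩ := Cfsg.Agent.S1400.exists_elementary_of_not_pRankLE h2
    have hVB : V ≤ B := by
      intro v hv
      rw [hB]
      exact (mem_omegaSub hp2 T₀ hcl).mpr ⟨hVT₀ hv, hVe.2 v hv⟩
    have hVc : IsCyclic ↥V := isCyclic_of_le_cyclic (hVB.trans h1) hCc
    obtain ⟨g, hg⟩ := hVc.exists_generator
    have h3 : orderOf g = Nat.card ↥V := orderOf_eq_card_of_forall_mem_zpowers hg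
    have h4 : g ^ p = 1 := by
      apply Subtype.ext
      rw [Subgroup.coe_pow, Subgroup.coe_one]
      exact hVe.2 g g.2
    have h5 : orderOf g ≤ p := Nat.le_of_dvd hpp.pos (orderOf_dvd_of_pow_eq_one h4)
    rw [pow_one] at hVcard
    omega
  -- `T₀` has exponent `p`, so Lemma F applies
  have hexp : ∀ x ∈ T₀, x ^ p = 1 := by
    intro x hx
    rw [← hBeq, hB] at hx
    exact ((mem_omegaSub hp2 T₀ hcl).mp hx).2
  have hfinal : T₀ ≤ Subgroup.centralizer (Q : Set X) :=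
    h0.lemF hT₀p (fun u hu hau => hP u (hT₀T hu) (hexp u hu) hau)
  apply hT₀nc
  have : T₀ = C := le_antisymm (hC ▸ le_inf le_rfl hfinal) hCT₀
  rw [this]
  exact hCc

end Act

end Cfsg.Agent.Lib.Helper9.BGSwap
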