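import Mathlib
import Cfsg.Agent.Lib.Helper9.BGSwap3
import Cfsg.Agent.Lib.Helper9.BGExc2
import Cfsg.Agent.Lib.Helper9.Signalizer
import Cfsg.Agent.Lib.Helper10.BGTwelveG
import Cfsg.Agent.Lib.Helper1.CoprimeSylow
import Cfsg.Agent.Lib.Lead.BGTrans
import Cfsg.Agent.S1406

/-!
# Helper9 library: B & G Theorem 13.3 (the swap argument), part 4

`swap_of_bad`: the swap lemma.  In a counterexample configuration `(M, P, R, Q)` to Theorem 13.3
in which `Q = [Q, R]` does not centralize `M_β`, the subgroup `P` does not centralize `C_{M_σ}(R)`.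
-/

set_option autoImplicit false
set_option linter.style.haveILetI false
set_option linter.unusedSectionVars false
set_option linter.unusedVariables false

open Cfsg
open scoped commutatorElement
open Cfsg.Agent.Lib.Helper1 (CoprimeAct)
open Cfsg.Agent.Lib.Helper10.BG
open Cfsg.Agent.Lib.Helper12 (IsPiNat)

namespace Cfsg.Agent.Lib.Helper9.BGSwap

section General

variable {X : Type*} [Group X]

/-- `[x, a ^ k]` is a product of commutators `[y, a]`. -/
theorem commutator_pow_mem_closure {Q : Subgroup X} {a : X}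
    (ha : a ∈ Subgroup.normalizer (Q : Set X)) (k : ℕ) :
    ∀ x ∈ Q, ⁅x, a ^ k⁆ ∈ Subgroup.closure {c : X | ∃ y ∈ Q, c = ⁅y, a⁆} := by
  induction k with
  | zero =>
    intro x hx
    rw [pow_zero, commutatorElement_one_right]
    exact Subgroup.one_mem _
  | succ k ih =>
    intro x hx
    have h1 : ⁅x, a ^ (k + 1)⁆ = ⁅x, a⁆ * ⁅a * x * a⁻¹, a ^ k⁆ := by
      simp only [commutatorElement_def, pow_succ']
      group
    rw [h1]
    exact mul_mem (Subgroup.subset_closure ⟨x, hx, rfl⟩)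
      (ih _ ((Subgroup.mem_normalizer_iff.mp ha x).mp hx))

/-- `[Q, ⟨a⟩]` is generated by the commutators `[y, a]`. -/
theorem commutator_zpowers_le [Finite X] {Q : Subgroup X} {a : X}
    (ha : a ∈ Subgroup.normalizer (Q : Set X)) :
    ⁅Q, Subgroup.zpowers a⁆ ≤ Subgroup.closure {c : X | ∃ y ∈ Q, c = ⁅y, a⁆} := by
  rw [Subgroup.commutator_le]
  intro x hx b hb
  obtain ⟨k, rfl⟩ := (mem_powers_iff_mem_zpowers (x := a) (y := b)).mpr hb
  exact commutator_pow_mem_closure ha k x hx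

/-- in a nilpotent group a normal subgroup `Q` with `[Q, R] = Q` is trivial. -/
theorem eq_bot_of_commutator_eq_of_nilpotent {K Q R : Subgroup X} (hK : Group.IsNilpotent ↥K)
    (hQK : Q ≤ K) (hRK : R ≤ K) (hQR : ⁅Q, R⁆ = Q) : Q = ⊥ := by
  have h2 : ∀ n : ℕ, Q ≤ K.lowerCentralSeries n := by
    intro n
    induction n with
    | zero =>
      rw [Subgroup.lowerCentralSeries_zero]
      exact hQK
    | succ n ih =>
      rw [Subgroup.lowerCentralSeries_succ, ← hQR]
      exact Subgroup.commutator_mono ih hRK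
  obtain ⟨n, hn⟩ := (Subgroup.isNilpotent_iff_lowerCentralSeries K).mp hK
  rw [eq_bot_iff, ← hn]
  exact h2 n

end General


section Main

variable {G : Type*} [Group G] [Finite G]

/-- the swap lemma. -/
theorem swap_of_bad (hG : IsMinSimpleOddOrder G) {M H P R Q : Subgroup G} (hM : IsCoatom M)
    (hH : IsCoatom H) (hHM : H ≠ M) {p r q : ℕ} [Fact p.Prime] [Fact r.Prime] [Fact q.Prime]
    (hpσ : p ∉ sigma M) (hP : Nat.card P = p) (hPM : P ≤ M)
    (hCP : M ⊓ Subgroup.centralizer (P : Set G) ≤ H)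
    (hrσ : r ∉ sigma M) (hR : Nat.card R = r) (hRM : R ≤ M)
    (hQq : IsPGroup q Q) (hQM : Q ≤ M) (hqβ : q ∉ beta M)
    (hRQ : R ≤ Subgroup.normalizer (Q : Set G)) (hQR : ⁅Q, R⁆ = Q)
    (hQP : Q ≤ Subgroup.centralizer (P : Set G)) (hRP : R ≤ Subgroup.centralizer (P : Set G))
    (hQβ : ¬ piCoreOf (beta M) M ≤ Subgroup.centralizer (Q : Set G)) :
    ¬ sigmaCore M ⊓ Subgroup.centralizer (R : Set G) ≤ Subgroup.centralizer (P : Set G) := by
  intro hcon
  have hpp : p.Prime := Fact.out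
  have hrp : r.Prime := Fact.out
  have hqp : q.Prime := Fact.out
  obtain ⟨Mβ, hMβ⟩ : ∃ Mβ, Mβ = piCoreOf (beta M) M := ⟨_, rfl⟩
  rw [← hMβ] at hQβ
  have hβM : Mβ ≤ M := hMβ ▸ Cfsg.Agent.Lib.Lead.BGTrans.piCoreOf_le _ _
  have hβσ : Mβ ≤ sigmaCore M := by
    rw [hMβ]
    exact Subgroup.map_mono (piCore_mono_set (fun s hs => alpha_subset_sigma hG hM hs.1))
  have hβα : Mβ ≤ alphaCore M := by
    rw [hMβ]
    exact Subgroup.map_mono (piCore_mono_set (fun s hs => hs.1))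
  have hβpi : IsPiNat (beta M) (Nat.card Mβ) :=
    hMβ ▸ Cfsg.Agent.Lib.Lead.BGTrans.piCoreOf_isPiNat _ _
  have hMnβ : M ≤ Subgroup.normalizer (Mβ : Set G) :=
    hMβ ▸ Cfsg.Agent.Lib.Lead.BGTrans.le_normalizer_piCoreOf _ _
  have hMtop : M ≠ ⊤ := hM.1
  have hMs : Group.IsSolvable ↥M := isSolvable_of_ne_top hG hMtop
  have hMo : Odd (Nat.card ↥M) := odd_card_subgroup hG M
  -- `Q ≠ ⊥` and `q ≠ r`
  have hQ1 : Q ≠ ⊥ := by
    rintro rfl
    apply hQβ
    intro x _
    rw [Subgroup.mem_centralizer_iff]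
    intro y hy
    rw [Subgroup.coe_bot, Set.mem_singleton_iff] at hy
    rw [hy, one_mul, mul_one]
  have hqr : q ≠ r := by
    rintro rfl
    apply hQ1
    have hdvd : Nat.card ↥(Q ⊔ R) ∣ Nat.card Q * Nat.card R :=
      Cfsg.Agent.Lib.Helper9.card_sup_dvd_of_le_normalizer hRQ
    obtain ⟨k, hk⟩ := hQq.exists_card_eq
    rw [hk, hR, ← pow_succ] at hdvd
    obtain ⟨j, -, hj⟩ := (Nat.dvd_prime_pow hqp).mp hdvd
    have hKp : IsPGroup q ↥(Q ⊔ R) := IsPGroup.of_card hj
    exact eq_bot_of_commutator_eq_of_nilpotent hKp.isNilpotent le_sup_left le_sup_right hQR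
  -- the acting group
  have hPQR : P ≤ Subgroup.normalizer ((Q ⊔ R : Subgroup G) : Set G) := by
    have h1 : Q ⊔ R ≤ Subgroup.centralizer (P : Set G) := sup_le hQP hRP
    exact (Subgroup.le_centralizer_iff.mp h1).trans (Subgroup.centralizer_le_normalizer _)
  obtain ⟨A, hA⟩ : ∃ A, A = Q ⊔ R ⊔ P := ⟨_, rfl⟩
  have hQA : Q ≤ A := hA ▸ (le_sup_left.trans le_sup_left)
  have hRA : R ≤ A := hA ▸ (le_sup_right.trans le_sup_left)
  have hPA : P ≤ A := hA ▸ le_sup_right
  have hAM : A ≤ M := hA ▸ sup_le (sup_le hQM hRM) hPM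
  have hnβ : ∀ s : ℕ, s.Prime → s ∉ beta M → ¬ s ∣ Nat.card Mβ := fun s hs hsβ hd =>
    hsβ (hβpi s hs hd)
  have hrβ : r ∉ beta M := fun h => hrσ (alpha_subset_sigma hG hM h.1)
  have hpβ : p ∉ beta M := fun h => hpσ (alpha_subset_sigma hG hM h.1)
  have hcQ : (Nat.card Q).Coprime (Nat.card Mβ) := by
    obtain ⟨k, hk⟩ := hQq.exists_card_eq
    rw [hk]
    exact Nat.Coprime.pow_left _ ((Nat.Prime.coprime_iff_not_dvd hqp).mpr (hnβ q hqp hqβ))
  have hcR : (Nat.card R).Coprime (Nat.card Mβ) := by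
    rw [hR]
    exact (Nat.Prime.coprime_iff_not_dvd hrp).mpr (hnβ r hrp hrβ)
  have hcP : (Nat.card P).Coprime (Nat.card Mβ) := by
    rw [hP]
    exact (Nat.Prime.coprime_iff_not_dvd hpp).mpr (hnβ p hpp hpβ)
  have hcA : (Nat.card A).Coprime (Nat.card Mβ) := by
    have h1 : Nat.card ↥(Q ⊔ R) ∣ Nat.card Q * Nat.card R :=
      Cfsg.Agent.Lib.Helper9.card_sup_dvd_of_le_normalizer hRQ
    have h2 : Nat.card A ∣ Nat.card ↥(Q ⊔ R) * Nat.card P := by
      rw [hA]
      exact Cfsg.Agent.Lib.Helper9.card_sup_dvd_of_le_normalizer hPQR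
    have h3 : (Nat.card ↥(Q ⊔ R)).Coprime (Nat.card Mβ) :=
      Nat.Coprime.coprime_dvd_left h1 (Nat.Coprime.mul_left hcQ hcR)
    exact Nat.Coprime.coprime_dvd_left h2 (Nat.Coprime.mul_left h3 hcP)
  have hAact : CoprimeAct A Mβ :=
    ⟨hAM.trans hMnβ, hcA, Or.inl (Group.isSolvable_of_isSolvable_injective
      (Subgroup.inclusion_injective hAM))⟩
  -- an invariant Sylow subgroup of `M_β` not centralized by `Q`
  obtain ⟨s, hsp, U, hUsyl, hAU, hUQ⟩ : ∃ s : ℕ, s.Prime ∧ ∃ U : Subgroup G,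
      IsSylowIn s U Mβ ∧ A ≤ Subgroup.normalizer (U : Set G) ∧
      ¬ U ≤ Subgroup.centralizer (Q : Set G) := by
    by_contra hno
    apply hQβ
    apply le_of_forall_sylow_le
    intro s hs
    haveI : Fact s.Prime := ⟨hs⟩
    obtain ⟨S, hS⟩ := hAact.exists_invariant_sylow s
    refine ⟨_, isSylowIn_of_sylow S, ?_⟩
    by_contra hnc
    exact hno ⟨s, hs, _, isSylowIn_of_sylow S, hS, hnc⟩
  haveI : Fact s.Prime := ⟨hsp⟩
  have hUβ : U ≤ Mβ := hUsyl.le
  have hUM : U ≤ M := hUβ.trans hβM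
  have hUs : IsPGroup s ↥U := hUsyl.isPGroup
  have hU1 : U ≠ ⊥ := by
    rintro rfl
    exact hUQ bot_le
  have hs2 : s ≠ 2 := prime_ne_two_of_pgroup hG hUs hU1
  have hQU : Q ≤ Subgroup.normalizer (U : Set G) := hQA.trans hAU
  have hRU : R ≤ Subgroup.normalizer (U : Set G) := hRA.trans hAU
  have hPU : P ≤ Subgroup.normalizer (U : Set G) := hPA.trans hAU
  have hcQU : (Nat.card Q).Coprime (Nat.card U) :=
    Nat.Coprime.coprime_dvd_right (Subgroup.card_dvd_of_le hUβ) hcQ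
  have hcRU : (Nat.card R).Coprime (Nat.card U) :=
    Nat.Coprime.coprime_dvd_right (Subgroup.card_dvd_of_le hUβ) hcR
  -- `C_U(P)` is cyclic
  obtain ⟨D, hD⟩ : ∃ D, D = U ⊓ Subgroup.centralizer (P : Set G) := ⟨_, rfl⟩
  have hDc : IsCyclic ↥D := by
    have hrank : RankLE 1 ↥(alphaCore M ⊓ Subgroup.centralizer (P : Set G) : Subgroup G) := by
      by_contra hr
      have hXα : ∀ t : ℕ, t.Prime → t ∣ Nat.card P → t ∉ alpha M := by
        intro t ht htd hta
        rw [hP] at htd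
        have : t = p := (Nat.prime_dvd_prime_iff_eq ht hpp).mp htd
        rw [this] at hta
        exact hpσ (alpha_subset_sigma hG hM hta)
      obtain ⟨L, ⟨hL, hLle⟩, hLuniq⟩ := Cfsg.Agent.S1406.result hG M hM P hPM hXα hr
      have h1 : M = L := hLuniq M ⟨hM, inf_le_left⟩
      have h2 : H = L := hLuniq H ⟨hH, hCP⟩
      exact hHM (h2.trans h1.symm)
    have hDle : D ≤ alphaCore M ⊓ Subgroup.centralizer (P : Set G) := by
      rw [hD]
      exact inf_le_inf_right _ (hUβ.trans hβα)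
    exact isCyclic_of_pRankLE_one hs2 (hrank s hsp) hDle (hUs.to_le (hD ▸ inf_le_left))
  -- `Q` centralizes `C_U(P)`
  have hDQ : D ≤ Subgroup.centralizer (Q : Set G) := by
    have hnP : ∀ {B : Subgroup G}, B ≤ Subgroup.centralizer (P : Set G) →
        B ≤ Subgroup.normalizer ((Subgroup.centralizer (P : Set G) : Subgroup G) : Set G) := by
      intro B hB
      exact hB.trans Subgroup.le_normalizer
    have h1 : Q ⊔ R ≤ Subgroup.normalizer (D : Set G) := by
      rw [hD]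
      refine sup_le ?_ ?_
      · intro x hx
        exact mem_normalizer_inf (hQU hx) (hnP hQP hx)
      · intro x hx
        exact mem_normalizer_inf (hRU hx) (hnP hRP hx)
    have h2 := Cfsg.Agent.Lib.Helper29.BG95.commutator_le_centralizer_of_isCyclic hDc h1
    have h3 : Q ≤ Subgroup.centralizer (D : Set G) := by
      rw [← hQR]
      exact (Subgroup.commutator_mono le_sup_left le_sup_right).trans h2
    exact Subgroup.le_centralizer_iff.mp h3
  -- the generator of `R`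
  have hRbot : R ≠ ⊥ := by
    rintro rfl
    rw [Subgroup.card_bot] at hR
    exact hrp.one_lt.ne hR
  obtain ⟨a, haR, ha1⟩ : ∃ a ∈ R, a ≠ 1 := by
    by_contra hno
    apply hRbot
    rw [eq_bot_iff]
    intro x hx
    by_contra hx1
    exact hno ⟨x, hx, hx1⟩
  have hRa : R = Subgroup.zpowers a :=
    Cfsg.Agent.Lib.Helper9.BGExc.eq_zpowers_of_card_prime hR haR ha1
  have har : a ^ r = 1 := Cfsg.Agent.Lib.Helper9.BGExc.pow_eq_one_of_card_prime hR haR
  -- `W = [U, Q]`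
  obtain ⟨W, hW⟩ : ∃ W, W = ⁅U, Q⁆ := ⟨_, rfl⟩
  have hWU : W ≤ U := hW ▸ Cfsg.Agent.Lib.Helper1.commutator_le_of_le_normalizer hQU
  have hQW : Q ≤ Subgroup.normalizer (W : Set G) :=
    hW ▸ Cfsg.Agent.Lib.Helper1.le_normalizer_commutator_right
  have haW : a ∈ Subgroup.normalizer (W : Set G) :=
    hW ▸ mem_normalizer_commutator (hRU haR) (hRQ haR)
  have hrU : ¬ r ∣ Nat.card W := by
    intro hd
    have h1 : r ∣ Nat.card U := hd.trans (Subgroup.card_dvd_of_le hWU)
    rw [hR] at hcRU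
    exact (Nat.Prime.coprime_iff_not_dvd hrp).mp hcRU h1
  have hrQ : ¬ r ∣ Nat.card Q := by
    intro hd
    obtain ⟨k, hk⟩ := hQq.exists_card_eq
    rw [hk] at hd
    exact hqr ((Nat.prime_dvd_prime_iff_eq hrp hqp).mp (hrp.dvd_of_dvd_pow hd)).symm
  have hgen : Q ≤ Subgroup.closure {c : G | ∃ x ∈ Q, c = ⁅x, a⁆} := by
    have h1 : ⁅Q, Subgroup.zpowers a⁆ ≤ Subgroup.closure {c : G | ∃ x ∈ Q, c = ⁅x, a⁆} :=
      commutator_zpowers_le (hRQ haR)
    rw [← hRa, hQR] at h1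
    exact h1
  have hact : Act M W Q a r :=
    { hYs := hMs
      hYodd := hMo
      hUY := hWU.trans hUM
      hQY := hQM
      haY := hRM haR
      hr := hrp
      har := har
      hQU := hQW
      haU := haW
      haQ := hRQ haR
      hcop := Nat.Coprime.coprime_dvd_right (Subgroup.card_dvd_of_le hWU) hcQU
      hrU := hrU
      hrQ := hrQ
      hgen := hgen }
  have hWcent : W ≤ Subgroup.centralizer (Q : Set G) := by
    apply hact.lemF (hUs.to_le hWU)
    intro u hu hau x hx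
    have huU : u ∈ U := hWU hu
    have h1 : u ∈ sigmaCore M ⊓ Subgroup.centralizer (R : Set G) := by
      refine Subgroup.mem_inf.mpr ⟨hβσ (hUβ huU), ?_⟩
      rw [hRa, Cfsg.Agent.Lib.Helper9.mem_centralizer_zpowers_iff, Subgroup.mem_centralizer_singleton_iff]
      exact hau.symm
    have h2 : u ∈ D := by
      rw [hD]
      exact Subgroup.mem_inf.mpr ⟨huU, hcon h1⟩
    exact (Subgroup.mem_centralizer_iff.mp (hDQ h2) x hx)
  have hQUact : CoprimeAct Q U :=
    ⟨hQU, hcQU, Or.inl (Group.isSolvable_of_isSolvable_injective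
      (Subgroup.inclusion_injective hQM))⟩
  have h4 : ⁅⁅U, Q⁆, Q⁆ = ⊥ := by
    rw [← hW]
    exact Subgroup.commutator_eq_bot_iff_le_centralizer.mpr hWcent
  rw [hQUact.commutator_commutator_eq] at h4
  exact hUQ (Subgroup.commutator_eq_bot_iff_le_centralizer.mp h4)

end Main

end Cfsg.Agent.Lib.Helper9.BGSwap
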