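import Mathlib
import Cfsg.Agent.Lib.Helper19.BG12A
import Cfsg.Agent.Lib.Helper29.BG129
import Cfsg.Agent.S1428
import Cfsg.Agent.S1378
import Cfsg.Agent.S1423
import Cfsg.Agent.S1426
import Cfsg.Agent.S3745
import Cfsg.Agent.Lib.Helper7.BG13B
import Cfsg.Agent.Lib.Helper29.BG13K1
import Cfsg.Agent.Lib.Helper9.BGExc7
import Cfsg.Agent.Lib.Helper9.Signalizer

/-!
Pieces of B&G Lemma 14.2 (statement S1430), following `notes/BG_S1430_split_helper21.md`:

* `tau1_tau2_abelian` (L0): a nonregular subgroup of prime order `p ∈ τ₁(M)` of a complement `E`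
  centralizes no subgroup of order `s ∈ τ₂(M)` of `E`, when the Sylow `s`-subgroups of `G` are
  abelian.
-/

set_option autoImplicit false
set_option linter.style.haveILetI false
set_option linter.unusedSectionVars false
set_option linter.unusedVariables false
open Cfsg
open scoped commutatorElement

namespace Cfsg.Agent.Lib.Helper9.BG1430a

open Cfsg.Agent.Lib.Helper10.BG Cfsg.Agent.Lib.Helper10 Cfsg.Agent.Lib.Helper9.BGExc
open Cfsg.Agent.Lib.Helper19.BGCompl Cfsg.Agent.Lib.Helper19.BG12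

variable {G : Type*} [Group G] [Finite G]

/-- if `[N, N] ≤ C_G(A)` and `P ≤ N`, then `N ∩ N_G(A)` normalizes `C_A(P)`. -/
theorem le_normalizer_inf_centralizer {N A P : Subgroup G}
    (hNA : N ≤ Subgroup.normalizer (A : Set G)) (hPN : P ≤ N)
    (hNN : ⁅N, N⁆ ≤ Subgroup.centralizer (A : Set G)) :
    N ≤ Subgroup.normalizer ((A ⊓ Subgroup.centralizer (P : Set G) : Subgroup G) : Set G) := by
  apply Cfsg.Agent.Lib.Helper1.le_normalizer_of_forall_conj_mem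
  intro n hn a ha
  refine Subgroup.mem_inf.mpr ⟨((Subgroup.mem_normalizer_iff.mp (hNA hn)) a).mp ha.1, ?_⟩
  rw [Subgroup.mem_centralizer_iff]
  intro x hx
  -- c := x⁻¹ n⁻¹ x n ∈ [N,N] centralizes a
  have hc : ⁅x⁻¹, n⁻¹⁆ ∈ Subgroup.centralizer (A : Set G) :=
    hNN (Subgroup.commutator_mem_commutator (inv_mem (hPN hx)) (inv_mem hn))
  have hca : a * ⁅x⁻¹, n⁻¹⁆ = ⁅x⁻¹, n⁻¹⁆ * a := (Subgroup.mem_centralizer_iff.mp hc) a ha.1
  have hxa : a * x = x * a := ((Subgroup.mem_centralizer_iff.mp ha.2) x hx).symm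
  -- n⁻¹ x n = x c
  have h1 : n⁻¹ * x * n = x * ⁅x⁻¹, n⁻¹⁆ := by
    simp [commutatorElement_def, mul_assoc]
  -- goal: x * (n a n⁻¹) = (n a n⁻¹) * x
  have h2 : (n⁻¹ * x * n) * a = a * (n⁻¹ * x * n) := by
    rw [h1, mul_assoc, ← hca, ← mul_assoc, ← hxa, mul_assoc]
  calc x * (n * a * n⁻¹) = n * ((n⁻¹ * x * n) * a) * n⁻¹ := by simp [mul_assoc]
    _ = n * (a * (n⁻¹ * x * n)) * n⁻¹ := by rw [h2]
    _ = n * a * n⁻¹ * x := by simp [mul_assoc]

/-- a subgroup `B` of an elementary abelian group `A` of order `s ^ 2`, with `Y ≤ B`, `|Y| = s`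
and `B ≠ A`, equals `Y`. -/
theorem eq_of_le_of_card_sq {s : ℕ} (hsp : s.Prime) {A B Y : Subgroup G} (hAc : Nat.card A = s ^ 2)
    (hBA : B ≤ A) (hYB : Y ≤ B) (hY : Nat.card Y = s) (hne : B ≠ A) : B = Y := by
  have hd : Nat.card B ∣ s ^ 2 := hAc ▸ Subgroup.card_dvd_of_le hBA
  obtain ⟨m, hm, hBm⟩ := (Nat.dvd_prime_pow hsp).mp hd
  have hYd : s ∣ Nat.card B := hY ▸ Subgroup.card_dvd_of_le hYB
  have hm2 : m ≠ 2 := by
    intro h
    apply hne
    apply Subgroup.eq_of_le_of_card_ge hBA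
    rw [hAc, hBm, h]
  have hm0 : m ≠ 0 := by
    intro h
    rw [hBm, h, pow_zero] at hYd
    exact hsp.one_lt.ne' (Nat.dvd_one.mp hYd)
  have hm1 : m = 1 := by omega
  symm
  apply Subgroup.eq_of_le_of_card_ge hYB
  rw [hBm, hm1, pow_one, hY]

/-- **L0** (`notes/BG_S1430_split_helper21.md`, sec. A0 of helper21's proof): let `p ∈ τ₁(M)`,
`P ≤ E` of order `p` with `C_{M_σ}(P) ≠ 1`, and `s ∈ τ₂(M)` such that the Sylow `s`-subgroups of
`G` are abelian.  Then `P` centralizes no subgroup of order `s` of `E`. -/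
theorem tau1_tau2_abelian (hG : IsMinSimpleOddOrder G) {M E P Y : Subgroup G} (hM : IsCoatom M)
    (hE : IsComplIn E (sigmaCore M) M) {p : ℕ} (hp : p ∈ tau1 M) (hPE : P ≤ E)
    (hP : Nat.card P = p)
    (hK : sigmaCore M ⊓ Subgroup.centralizer (P : Set G) ≠ ⊥)
    {s : ℕ} [Fact s.Prime] (hs : s ∈ tau2 M)
    (hab : ∀ S : Subgroup G, IsSylowIn s S ⊤ → ∀ u ∈ S, ∀ v ∈ S, u * v = v * u)
    (hYE : Y ≤ E ⊓ Subgroup.centralizer (P : Set G)) (hY : Nat.card Y = s) : False := by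
  have hsp : s.Prime := Fact.out
  obtain ⟨A, hAE, hAe, hAc⟩ := tau2_elem_sq_compl hG hM hE hs
  have hEM : E ≤ M := hE.1
  have h18 := Cfsg.Agent.S1418.result hG M hM E hE s hs A ⟨hAE, hAe, hAc⟩
  have h17 := Cfsg.Agent.S1417.result hG M hM s hs A ⟨hAE.trans hEM, hAe, hAc⟩
  have hYA : Y ≤ A := h18.1.2 Y (hYE.trans inf_le_left) hY
  -- `C_{M_σ}(Y) ≠ 1`
  have h28 := Cfsg.Agent.S1428.result hG M hM E hE p hp P hPE hP Y hYE (hY ▸ hsp)
  have hYs : sigmaCore M ⊓ Subgroup.centralizer (Y : Set G) ≠ ⊥ :=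
    fun h => hK (le_bot_iff.mp (h ▸ h28))
  obtain ⟨hCY, hu⟩ := h18.2.2 Y hYA hY hYs
  have hNY : Subgroup.normalizer (Y : Set G) ≤ M := normalizer_le_of_unique hG hM hCY hu
  -- `P` does not centralize `A`
  have hPA : ¬ A ≤ Subgroup.centralizer (P : Set G) := by
    intro hAP
    obtain ⟨A₁, hA₁A, hA₁c, hA₁⟩ := h17.2.2.2.2.2
    have := Cfsg.Agent.S1428.result hG M hM E hE p hp P hPE hP A₁
      (le_inf (hA₁A.trans hAE) (hA₁A.trans hAP)) (hA₁c ▸ hsp)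
    exact hK (le_bot_iff.mp (hA₁ ▸ this))
  -- so `C_A(P) = Y`
  have heq : A ⊓ Subgroup.centralizer (P : Set G) = Y :=
    eq_of_le_of_card_sq hsp hAc inf_le_left (le_inf hYA (hYE.trans inf_le_right)) hY
      (fun h => hPA (h ▸ inf_le_right))
  obtain ⟨Ps, hPs⟩ := exists_isSylowIn s E
  have h129 := Cfsg.Agent.Lib.Helper29.BG129.abelian_tau2 hG hM hE hs ⟨hAE, hAe, hAc⟩ hPs hab
  have hNN := h129.2.2.2.1
  have hEN : E ≤ Subgroup.normalizer (A : Set G) := h18.1.1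
  have h1 := le_normalizer_inf_centralizer (N := Subgroup.normalizer (A : Set G)) (A := A)
    (P := P) le_rfl (hPE.trans hEN) hNN
  rw [heq] at h1
  exact h18.2.1.2.2 (h1.trans hNY)

/-- `σ`-partition (S1378) in the form: for non-conjugate maximal subgroups a prime of `σ(M)` is
not in `σ(H)`. -/
theorem not_mem_sigma_of_not_conj (hG : IsMinSimpleOddOrder G) {M H : Subgroup G}
    (hM : IsCoatom M) (hH : IsCoatom H) (hnc : ∀ g : G, H ≠ M.map (MulAut.conj g).toMonoidHom)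
    {q : ℕ} (hq : q ∈ sigma M) : q ∉ sigma H := by
  intro hqH
  obtain ⟨g, hg⟩ := (Cfsg.Agent.S1378.result hG).2 M H hM hH ⟨q, hq, hqH⟩
  exact hnc g hg

/-- **Core of C1, abelian Sylow case** (helper21's notes B1 / B3-abelian).  `X ≤ M` of order `p`
with `r_p(M) ≤ 1`, `K* = C_{M_σ}(X) ≠ 1`, `N_G(X) ≤ M*`, `M*` not conjugate to `M`, `p ∈ τ₂(M*)`,
Sylow `p`-subgroups of `G` abelian, and `C_G(Z) ≤ M` for the subgroups `Z` of prime order of `K*`:
contradiction. -/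
theorem c1_abelian_core (hG : IsMinSimpleOddOrder G) {M Mstar X : Subgroup G} (hM : IsCoatom M)
    (hMs : IsCoatom Mstar) (hnc : ∀ g : G, Mstar ≠ M.map (MulAut.conj g).toMonoidHom)
    {p : ℕ} [Fact p.Prime] (hr1 : PRankLE p 1 ↥M) (hX : Nat.card X = p)
    (hK : sigmaCore M ⊓ Subgroup.centralizer (X : Set G) ≠ ⊥)
    (hNX : Subgroup.normalizer (X : Set G) ≤ Mstar) (hpτ : p ∈ tau2 Mstar)
    (hab : ∀ S : Subgroup G, IsSylowIn p S ⊤ → ∀ u ∈ S, ∀ v ∈ S, u * v = v * u)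
    (h136 : ∀ Z : Subgroup G, Z ≤ sigmaCore M ⊓ Subgroup.centralizer (X : Set G) →
      (Nat.card Z).Prime → Subgroup.centralizer (Z : Set G) ≤ M) : False := by
  have hpp : p.Prime := Fact.out
  obtain ⟨K, hKdef⟩ : ∃ K : Subgroup G, K = sigmaCore M ⊓ Subgroup.centralizer (X : Set G) :=
    ⟨_, rfl⟩
  rw [← hKdef] at hK h136
  have hKσ : K ≤ sigmaCore M := hKdef ▸ inf_le_left
  have hKC : K ≤ Subgroup.centralizer (X : Set G) := hKdef ▸ inf_le_right
  have hKMs : K ≤ Mstar := hKC.trans ((Subgroup.centralizer_le_normalizer _).trans hNX)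
  have hXMs : X ≤ Mstar := Subgroup.le_normalizer.trans hNX
  have hXK : X ≤ Subgroup.centralizer (K : Set G) := by
    intro x hx
    rw [Subgroup.mem_centralizer_iff]
    intro k hk
    exact ((Subgroup.mem_centralizer_iff.mp (hKC hk)) x hx).symm
  -- `K ⊔ X` is a `σ(M*)'`-subgroup of `M*`
  have hXnK : X ≤ Subgroup.normalizer (K : Set G) :=
    hXK.trans (Subgroup.centralizer_le_normalizer _)
  have hcop : (Nat.card ↥(K ⊔ X)).Coprime (Nat.card (sigmaCore Mstar)) := by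
    apply Nat.coprime_of_dvd
    intro q hq hd1 hd2
    have hqσ : q ∈ sigma Mstar := mem_sigma_of_dvd_card_sigmaCore hG hMs hq hd2
    have hd3 := hd1.trans (Cfsg.Agent.Lib.Helper9.card_sup_dvd_of_le_normalizer hXnK)
    rcases (Nat.Prime.dvd_mul hq).mp hd3 with h | h
    · have hqM : q ∈ sigma M :=
        mem_sigma_of_dvd_card_sigmaCore hG hM hq (h.trans (Subgroup.card_dvd_of_le hKσ))
      exact not_mem_sigma_of_not_conj hG hM hMs hnc hqM hqσ
    · rw [hX] at h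
      have : q = p := (Nat.prime_dvd_prime_iff_eq hq hpp).mp h
      exact hpτ.2.1 (this ▸ hqσ)
  obtain ⟨Es, hEs, hKXE⟩ := exists_isComplIn_sigmaCore_ge hG hMs (sup_le hKMs hXMs) hcop
  have hKE : K ≤ Es := le_sup_left.trans hKXE
  have hXE : X ≤ Es := le_sup_right.trans hKXE
  obtain ⟨A, hAE, hAe, hAc⟩ := tau2_elem_sq_compl hG hMs hEs hpτ
  have h18 := Cfsg.Agent.S1418.result hG Mstar hMs Es hEs p hpτ A ⟨hAE, hAe, hAc⟩
  have hXA : X ≤ A := h18.1.2 X hXE hX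
  -- `A` does not centralize `K`
  have hAK : ¬ A ≤ Subgroup.centralizer (K : Set G) := by
    intro hAC
    obtain ⟨Z, hZK, hZ⟩ := Cfsg.Agent.Lib.Helper29.BG13K.exists_le_card_prime hK
    have hAM : A ≤ M := (hAC.trans (Subgroup.centralizer_le hZK)).trans (h136 Z hZK hZ)
    refine not_pRankLE_of_le hAM hAe ?_ hr1
    rw [hAc, pow_one]
    calc p = p ^ 1 := (pow_one p).symm
      _ < p ^ 2 := Nat.pow_lt_pow_right hpp.one_lt (by norm_num)
  have heq : A ⊓ Subgroup.centralizer (K : Set G) = X :=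
    eq_of_le_of_card_sq hpp hAc inf_le_left (le_inf hXA hXK) hX (fun h => hAK (h ▸ inf_le_right))
  obtain ⟨Ps, hPs⟩ := exists_isSylowIn p Es
  have h129 := Cfsg.Agent.Lib.Helper29.BG129.abelian_tau2 hG hMs hEs hpτ ⟨hAE, hAe, hAc⟩ hPs hab
  have hNN := h129.2.2.2.1
  have hEN : Es ≤ Subgroup.normalizer (A : Set G) := h18.1.1
  have h1 := le_normalizer_inf_centralizer (N := Subgroup.normalizer (A : Set G)) (A := A)
    (P := K) le_rfl (hKE.trans hEN) hNN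
  rw [heq] at h1
  exact h18.2.1.2.2 (h1.trans hNX)

/-- a subgroup `X` of order `p ∉ σ(M)` of `M` lies in a complement of `M_σ`. -/
theorem exists_compl_ge_of_card (hG : IsMinSimpleOddOrder G) {M X : Subgroup G} (hM : IsCoatom M)
    {p : ℕ} [Fact p.Prime] (hpσ : p ∉ sigma M) (hXM : X ≤ M) (hX : Nat.card X = p) :
    ∃ E : Subgroup G, IsComplIn E (sigmaCore M) M ∧ X ≤ E := by
  have hpp : p.Prime := Fact.out
  apply exists_isComplIn_sigmaCore_ge hG hM hXM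
  rw [hX]
  apply (Nat.Prime.coprime_iff_not_dvd hpp).mpr
  intro hd
  exact hpσ (mem_sigma_of_dvd_card_sigmaCore hG hM hpp hd)

/-- for `p ∈ τ₃(M)` and `X ≤ E` of order `p`, the complement `E` normalizes `X`. -/
theorem compl_le_normalizer_of_tau3 (hG : IsMinSimpleOddOrder G) {M E X : Subgroup G}
    (hM : IsCoatom M) (hE : IsComplIn E (sigmaCore M) M) {p : ℕ} [Fact p.Prime]
    (hp : p ∈ tau3 M) (hXE : X ≤ E) (hX : Nat.card X = p) :
    E ≤ Subgroup.normalizer (X : Set G) := by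
  have hpp : p.Prime := Fact.out
  have hEtop : E ≠ ⊤ := ne_top_of_le_isCoatom hM hE.1
  have hsolv : Group.IsSolvable ↥E := isSolvable_of_ne_top hG hEtop
  have hcop : (Nat.card (⊥ : Subgroup G)).Coprime (Nat.card E) := by
    rw [Subgroup.card_bot]; exact Nat.coprime_one_left _
  have hXπ : ∀ q : ℕ, q.Prime → q ∣ Nat.card X → q ∈ tau3 M := by
    intro q hq hd
    rw [hX] at hd
    have : q = p := (Nat.prime_dvd_prime_iff_eq hq hpp).mp hd
    exact this ▸ hp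
  obtain ⟨E₃, hE₃, -, hXE₃⟩ := (Cfsg.Agent.S3745.result (⊥ : Subgroup G) E bot_le hcop hsolv
    (tau3 M)).2.2 X hXE bot_le hXπ
  obtain ⟨hcyc, -, hEn⟩ := (Cfsg.Agent.S1415.result hG M hM E hE).2.2 E₃ hE₃
  exact Cfsg.Agent.Lib.Helper29.BG13K.le_normalizer_of_le_cyclic hEn hcyc hXE₃

/-- **B3, first step**: `p ∈ τ₃(M)`, `X ≤ M` of order `p`, `N_G(X) ≤ M*`, `p ∈ τ₂(M*)`.  Then
every subgroup `Z` of prime order of `C_{M_σ}(X)` has `ℳ(C_G(Z)) = {M}`. -/
theorem centralizer_le_of_tau3 (hG : IsMinSimpleOddOrder G) {M Mstar X : Subgroup G}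
    (hM : IsCoatom M) (hMs : IsCoatom Mstar)
    (hnc : ∀ g : G, Mstar ≠ M.map (MulAut.conj g).toMonoidHom)
    {p : ℕ} [Fact p.Prime] (hp : p ∈ tau3 M) (hXM : X ≤ M) (hX : Nat.card X = p)
    (hNX : Subgroup.normalizer (X : Set G) ≤ Mstar) (hpτ : p ∈ tau2 Mstar)
    {Z : Subgroup G} (hZ : Z ≤ sigmaCore M ⊓ Subgroup.centralizer (X : Set G))
    (hZp : (Nat.card Z).Prime) :
    Subgroup.centralizer (Z : Set G) ≤ M ∧
      ∀ L : Subgroup G, IsCoatom L → Subgroup.centralizer (Z : Set G) ≤ L → L = M := by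
  have hpp : p.Prime := Fact.out
  have hpσ : p ∉ sigma M := hp.2.1
  obtain ⟨E, hE, hXE⟩ := exists_compl_ge_of_card hG hM hpσ hXM hX
  have hEX : E ≤ Subgroup.normalizer (X : Set G) := compl_le_normalizer_of_tau3 hG hM hE hp hXE hX
  have hEMs : E ≤ Mstar := hEX.trans hNX
  have hpM : p ∣ Nat.card M := hX ▸ Subgroup.card_dvd_of_le hXM
  have hpMs : p ∣ Nat.card Mstar :=
    hX ▸ Subgroup.card_dvd_of_le (Subgroup.le_normalizer.trans hNX)
  have hpτ1 : p ∉ tau1 Mstar := fun h => hpτ.2.2.2 h.2.2.2.2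
  have hcomm : ⁅sigmaCore M ⊓ Mstar, M ⊓ Mstar⁆ = ⊥ := by
    by_contra hne
    exact (Cfsg.Agent.Lib.Helper7.BG13.lemma_13_1 hG hM hMs hnc hpσ hpM hpMs hpτ1 hne).2.1 hpτ
  have hZσ : Z ≤ sigmaCore M := hZ.trans inf_le_left
  have hZMs : Z ≤ Mstar :=
    (hZ.trans inf_le_right).trans ((Subgroup.centralizer_le_normalizer _).trans hNX)
  have hZE : Z ≤ sigmaCore M ⊓ Subgroup.centralizer (E : Set G) := by
    apply le_inf hZσ
    intro z hz
    rw [Subgroup.mem_centralizer_iff]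
    intro e he
    have h1 : ⁅z, e⁆ ∈ ⁅sigmaCore M ⊓ Mstar, M ⊓ Mstar⁆ :=
      Subgroup.commutator_mem_commutator ⟨hZσ hz, hZMs hz⟩ ⟨hE.1 he, hEMs he⟩
    rw [hcomm, Subgroup.mem_bot] at h1
    exact (commutatorElement_eq_one_iff_mul_comm.mp h1).symm
  have hZ' : Z ≤ ⁅sigmaCore M, sigmaCore M⁆ :=
    hZE.trans (Cfsg.Agent.S1426.result hG M hM E hE).1
  haveI : Fact (Nat.card Z).Prime := ⟨hZp⟩
  have hqσ : Nat.card Z ∈ sigma M :=
    mem_sigma_of_dvd_card_sigmaCore hG hM hZp (Subgroup.card_dvd_of_le hZσ)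
  exact (Cfsg.Agent.S1423.result hG M hM (Nat.card Z) hqσ Z (hZσ.trans (sigmaCore_le M)) rfl
    default (Or.inr hZ')).1

/-- **L2a = C1 in the abelian Sylow case** (`notes/BG_S1430_split_helper21.md`).  Let
`p ∈ τ₁(M) ∪ τ₃(M)`, `X ≤ M` of order `p` with `C_{M_σ}(X) ≠ 1`, `M*` a maximal subgroup
containing `N_G(X)`, and assume the Sylow `p`-subgroups of `G` are abelian.  Then `p ∈ σ(M*)`.
For `p ∈ τ₁(M)` the B&G 13.6 input (`C_G(Z) ≤ M` for `Z ≤ C_{M_σ}(X)` of prime order) is a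
hypothesis. -/
theorem mem_sigma_of_nonregular_abelian (hG : IsMinSimpleOddOrder G) {M Mstar X : Subgroup G}
    (hM : IsCoatom M) (hMs : IsCoatom Mstar) {p : ℕ} [Fact p.Prime]
    (hp : p ∈ tau1 M ∨ p ∈ tau3 M) (hXM : X ≤ M) (hX : Nat.card X = p)
    (hK : sigmaCore M ⊓ Subgroup.centralizer (X : Set G) ≠ ⊥)
    (hNX : Subgroup.normalizer (X : Set G) ≤ Mstar)
    (hab : ∀ S : Subgroup G, IsSylowIn p S ⊤ → ∀ u ∈ S, ∀ v ∈ S, u * v = v * u)
    (h136 : p ∈ tau1 M → ∀ Z : Subgroup G,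
      Z ≤ sigmaCore M ⊓ Subgroup.centralizer (X : Set G) → (Nat.card Z).Prime →
        Subgroup.centralizer (Z : Set G) ≤ M) : p ∈ sigma Mstar := by
  have hpp : p.Prime := Fact.out
  by_contra hσ
  have hXp : IsPGroup p X := IsPGroup.of_card (n := 1) (by rw [hX, pow_one])
  have hX1 : X ≠ ⊥ := by
    intro h
    rw [h, Subgroup.card_bot] at hX
    exact hpp.one_lt.ne hX
  have hnc := (Cfsg.Agent.Lib.Helper7.BG13.cor_13_2 hG hM hMs hp hXp hX1 hNX).1
  have h09 := Cfsg.Agent.S1409.result hG Mstar hMs p hσ X hX hNX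
  have hpτ : p ∈ tau2 Mstar := ⟨hpp, hσ, h09.1.1, h09.1.2⟩
  have hr1 : PRankLE p 1 ↥M := by
    rcases hp with h | h
    · exact h.2.2.2.2
    · exact h.2.2.2
  rcases hp with h | h
  · exact c1_abelian_core hG hM hMs hnc hr1 hX hK hNX hpτ hab (h136 h)
  · exact c1_abelian_core hG hM hMs hnc hr1 hX hK hNX hpτ hab
      (fun Z hZ hZp => (centralizer_le_of_tau3 hG hM hMs hnc h hXM hX hNX hpτ hZ hZp).1)

end Cfsg.Agent.Lib.Helper9.BG1430a
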