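import Mathlib
import Cfsg.Agent.Lib.Helper9.BG1430a
import Cfsg.Agent.Lib.Helper22.BG1212N

/-!
Discharge of the `τ₂`-hypothesis of B&G 13.6 for `τ₁` (L1 of `notes/BG_S1430_split_helper21.md`):
an `s`-element `t` (`s ∈ τ₂(M)`) of `C_E(P)`, `P ≤ E` of order `p ∈ τ₁(M)`, centralizes
`C_{M_σ}(P)`.
-/

set_option autoImplicit false
set_option linter.style.haveILetI false
set_option linter.unusedSectionVars false
set_option linter.unusedVariables false
open Cfsg
open scoped commutatorElement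

namespace Cfsg.Agent.Lib.Helper9.BG1430a

open Cfsg.Agent.Lib.Helper10.BG Cfsg.Agent.Lib.Helper10 Cfsg.Agent.Lib.Helper9.BGExc
open Cfsg.Agent.Lib.Helper19.BGCompl Cfsg.Agent.Lib.Helper19.BG12

variable {G : Type*} [Group G] [Finite G]

/-- either all Sylow `s`-subgroups of `G` are abelian or none is. -/
theorem sylow_comm_dichotomy (s : ℕ) [Fact s.Prime] :
    (∀ S : Subgroup G, IsSylowIn s S ⊤ → ∀ u ∈ S, ∀ v ∈ S, u * v = v * u) ∨
      ∀ S : Sylow s G, ¬ IsMulCommutative ↥(S : Subgroup G) := by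
  by_cases h : ∃ S : Sylow s G, IsMulCommutative ↥(S : Subgroup G)
  · left
    obtain ⟨S, hS⟩ := h
    intro S₀ hS₀ u hu v hv
    obtain ⟨x, -, hx⟩ := (isSylowIn_top_of_sylow S).exists_conj hS₀
    rw [hx] at hu hv
    obtain ⟨u', hu', rfl⟩ := hu
    obtain ⟨v', hv', rfl⟩ := hv
    have h1 : u' * v' = v' * u' :=
      congrArg Subtype.val (mul_comm' (⟨u', hu'⟩ : ↥(S : Subgroup G)) ⟨v', hv'⟩)
    rw [← map_mul, ← map_mul, h1]
  · right
    intro S hS
    exact h ⟨S, hS⟩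

/-- **the `τ₂`-hypothesis of 13.6(`τ₁`)**: `p ∈ τ₁(M)`, `P ≤ E` of order `p`, `s ∈ τ₂(M)`,
`t ∈ C_E(P)` an `s`-element.  Then `t` centralizes `C_{M_σ}(P)`. -/
theorem tau2_elt_centralizes (hG : IsMinSimpleOddOrder G) {M E P : Subgroup G} (hM : IsCoatom M)
    (hE : IsComplIn E (sigmaCore M) M) {p : ℕ} (hp : p ∈ tau1 M) (hPE : P ≤ E)
    (hP : Nat.card P = p) {s : ℕ} (hs : s ∈ tau2 M) {t : G}
    (ht : t ∈ E ⊓ Subgroup.centralizer (P : Set G)) {k : ℕ} (hk : orderOf t = s ^ k) :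
    t ∈ Subgroup.centralizer ((sigmaCore M ⊓ Subgroup.centralizer (P : Set G) : Subgroup G) :
      Set G) := by
  haveI : Fact s.Prime := ⟨hs.1⟩
  have hsp : s.Prime := hs.1
  by_cases hK : sigmaCore M ⊓ Subgroup.centralizer (P : Set G) = ⊥
  · rw [hK, Subgroup.mem_centralizer_iff]
    intro x hx
    rw [Subgroup.mem_bot.mp hx, one_mul, mul_one]
  rcases Nat.eq_zero_or_pos k with hk0 | hkpos
  · rw [hk0, pow_zero, orderOf_eq_one_iff] at hk
    rw [hk]
    exact one_mem _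
  -- `y := t ^ (s ^ (k - 1))` has order `s`
  obtain ⟨y, hydef⟩ : ∃ y : G, y = t ^ (s ^ (k - 1)) := ⟨_, rfl⟩
  have hyo : orderOf y = s := by
    rw [hydef, orderOf_pow_of_dvd (pow_ne_zero _ hsp.ne_zero)
      (hk ▸ pow_dvd_pow s (Nat.sub_le k 1)), hk, Nat.pow_div (Nat.sub_le k 1) hsp.pos]
    have : k - (k - 1) = 1 := by omega
    rw [this, pow_one]
  have hyY : y ∈ E ⊓ Subgroup.centralizer (P : Set G) := hydef ▸ pow_mem ht _
  have hY : Nat.card (Subgroup.zpowers y) = s := by rw [Nat.card_zpowers, hyo]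
  have hYE : Subgroup.zpowers y ≤ E ⊓ Subgroup.centralizer (P : Set G) :=
    Subgroup.zpowers_le.mpr hyY
  rcases sylow_comm_dichotomy (G := G) s with hab | hS
  · exact (tau1_tau2_abelian hG hM hE hp hPE hP hK hs hab hYE hY).elim
  · obtain ⟨A, hAE, hAe, hAc⟩ := tau2_elem_sq_compl hG hM hE hs
    have h28 := Cfsg.Agent.S1428.result hG M hM E hE p hp P hPE hP (Subgroup.zpowers y) hYE
      (hY ▸ hsp)
    obtain ⟨x, hx1⟩ := (Subgroup.ne_bot_iff_exists_ne_one).mp hK
    have hxy : y * x.1 = x.1 * y := by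
      have h1 := (h28 x.2).2
      have := (Subgroup.mem_centralizer_iff.mp h1) y (Subgroup.mem_zpowers y)
      exact this
    have hx1' : (x : G) ≠ 1 := fun h => hx1 (Subtype.ext h)
    have hyA : y ∈ A ⊓ Subgroup.centralizer (sigmaCore M : Set G) :=
      Cfsg.Agent.Lib.Helper22.BG1212N.pelt_mem_A0 hG hM hE hs hS hAE hAe hAc hyY.1 (k := 1)
        (by rw [hyo, pow_one]) x.2.1 hx1' hxy
    -- `k = 1`
    have hk1 : k = 1 := by
      by_contra hne
      have hk2 : 2 ≤ k := by omega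
      obtain ⟨v, hvdef⟩ : ∃ v : G, v = t ^ (s ^ (k - 2)) := ⟨_, rfl⟩
      have hvs : v ^ s = y := by
        rw [hvdef, hydef, ← pow_mul, ← pow_succ]
        congr 2
        omega
      have hvE : v ∈ E := hvdef ▸ pow_mem ht.1 _
      have hvp : IsPGroup s (Subgroup.zpowers v) := by
        apply IsPGroup.of_card (n := 2)
        rw [Nat.card_zpowers, hvdef, orderOf_pow_of_dvd (pow_ne_zero _ hsp.ne_zero)
          (hk ▸ pow_dvd_pow s (Nat.sub_le k 2)), hk, Nat.pow_div (Nat.sub_le k 2) hsp.pos]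
        congr 1
        omega
      have := Cfsg.Agent.Lib.Helper22.BG1212N.no_sq_E hG hM hE hs hS hAE hAe hAc hvE hvp
        (hvs ▸ hyA)
      rw [hvs] at this
      rw [this, orderOf_one] at hyo
      exact hsp.one_lt.ne hyo
    have hty : t = y := by rw [hydef, hk1]; simp
    rw [hty]
    exact Subgroup.centralizer_le (inf_le_left) hyA.2

end Cfsg.Agent.Lib.Helper9.BG1430a
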