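import Mathlib
import Cfsg.Agent.Lib.Helper9.BG1430b
import Cfsg.Agent.Lib.Helper10.BGTwelveF
import Cfsg.Agent.S1420

/-!
L3 of `notes/BG_S1430_split_helper21.md`: `K` acts regularly on the `τ₂`-part of `E`, in all
cases, from C1 (= L2, `mem_sigma_of_nonregular`) applied twice.
-/

set_option autoImplicit false
set_option linter.style.haveILetI false
set_option linter.unusedSectionVars false
set_option linter.unusedVariables false
open Cfsg
open scoped commutatorElement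

namespace Cfsg.Agent.Lib.Helper9.BG1430a

open Cfsg.Agent.Lib.Helper10.BG Cfsg.Agent.Lib.Helper10 Cfsg.Agent.Lib.Helper9.BGExc
open Cfsg.Agent.Lib.Helper19.BGCompl Cfsg.Agent.Lib.Helper19.BG12

variable {G : Type*} [Group G] [Finite G]

/-- the statement C1 (= L2): a nonregular subgroup `X` of prime order `p ∈ τ₁(M) ∪ τ₃(M)` of `M`
lies in `σ(M*)` for every maximal `M* ≥ N_G(X)`. -/
def C1 (G : Type*) [Group G] : Prop :=
  ∀ M Mstar X : Subgroup G, IsCoatom M → IsCoatom Mstar → ∀ p : ℕ, (p ∈ tau1 M ∨ p ∈ tau3 M) →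
    X ≤ M → Nat.card X = p → sigmaCore M ⊓ Subgroup.centralizer (X : Set G) ≠ ⊥ →
    Subgroup.normalizer (X : Set G) ≤ Mstar → p ∈ sigma Mstar

/-- **L3**: let `p ∈ τ₁(M)`, `P ≤ E` of order `p` with `C_{M_σ}(P) ≠ 1`, and `s ∈ τ₂(M)`.  Then `P`
centralizes no subgroup of order `s` of `E` (given C1). -/
theorem tau1_tau2_regular (hG : IsMinSimpleOddOrder G) (hC1 : C1 G) {M E P Y : Subgroup G}
    (hM : IsCoatom M) (hE : IsComplIn E (sigmaCore M) M) {p : ℕ} (hp : p ∈ tau1 M) (hPE : P ≤ E)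
    (hP : Nat.card P = p)
    (hK : sigmaCore M ⊓ Subgroup.centralizer (P : Set G) ≠ ⊥)
    {s : ℕ} (hs : s ∈ tau2 M)
    (hYE : Y ≤ E ⊓ Subgroup.centralizer (P : Set G)) (hY : Nat.card Y = s) : False := by
  haveI : Fact s.Prime := ⟨hs.1⟩
  haveI : Fact p.Prime := ⟨hp.1⟩
  have hsp : s.Prime := hs.1
  have hpp : p.Prime := hp.1
  have hEM : E ≤ M := hE.1
  obtain ⟨A, hAE, hAe, hAc⟩ := tau2_elem_sq_compl hG hM hE hs
  have hAM : A ≤ M := hAE.trans hEM
  have h18 := Cfsg.Agent.S1418.result hG M hM E hE s hs A ⟨hAE, hAe, hAc⟩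
  have h17 := Cfsg.Agent.S1417.result hG M hM s hs A ⟨hAM, hAe, hAc⟩
  have hYA : Y ≤ A := h18.1.2 Y (hYE.trans inf_le_left) hY
  have h28 := Cfsg.Agent.S1428.result hG M hM E hE p hp P hPE hP Y hYE (hY ▸ hsp)
  have hYs : sigmaCore M ⊓ Subgroup.centralizer (Y : Set G) ≠ ⊥ :=
    fun h => hK (le_bot_iff.mp (h ▸ h28))
  obtain ⟨hCY, hu⟩ := h18.2.2 Y hYA hY hYs
  have hNY : Subgroup.normalizer (Y : Set G) ≤ M := normalizer_le_of_unique hG hM hCY hu
  -- the partner `M*` of `P`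
  obtain ⟨Ms, hMs, hNP⟩ := Cfsg.Agent.Lib.Helper29.BG13K.exists_coatom_normalizer_ge hG
    (P := P) (hP ▸ hpp)
  have hPM : P ≤ M := hPE.trans hEM
  have hpσ : p ∈ sigma Ms := hC1 M Ms P hM hMs p (Or.inl hp) hPM hP hK hNP
  have hPp : IsPGroup p P := IsPGroup.of_card (n := 1) (by rw [hP, pow_one])
  have hP1 : P ≠ ⊥ := by
    intro h
    rw [h, Subgroup.card_bot] at hP
    exact hpp.one_lt.ne hP
  have hnc := (Cfsg.Agent.Lib.Helper7.BG13.cor_13_2 hG hM hMs (Or.inl hp) hPp hP1 hNP).1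
  have hne : Ms ≠ M := by
    intro h
    apply hnc 1
    rw [h]
    ext x
    simp
  have hCPMs : Subgroup.centralizer (P : Set G) ≤ Ms :=
    (Subgroup.centralizer_le_normalizer _).trans hNP
  have hPMs : P ≤ Ms := Subgroup.le_normalizer.trans hNP
  have hPσ : P ≤ sigmaCore Ms := pgroup_le_sigmaCore hG hMs hpσ hPp hPMs
  have hYMs : Y ≤ Ms := (hYE.trans inf_le_right).trans hCPMs
  have hKMs : sigmaCore M ⊓ Subgroup.centralizer (P : Set G) ≤ sigmaCore M ⊓ Ms :=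
    inf_le_inf_left _ hCPMs
  have hYp : IsPGroup s Y := IsPGroup.of_card (n := 1) (by rw [hY, pow_one])
  have hY1 : Y ≠ ⊥ := by
    intro h
    rw [h, Subgroup.card_bot] at hY
    exact hsp.one_lt.ne hY
  -- (i) `s ∉ σ(M*)`
  have hsσ : s ∉ sigma Ms := by
    intro hsσ
    obtain ⟨S, hS, hYS⟩ := exists_isSylowIn_ge (p := s) (le_inf hYMs (hYA.trans hAM)) hYp
    have h15 := lemma_12_15 hG hMs hsσ hYp hY1 hNY hS hYS
    have hAp : IsPGroup s A := isPGroup_of_elem hAe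
    obtain ⟨T, hT, hAT⟩ := exists_isSylowIn_ge (p := s) hAM hAp
    obtain ⟨m, hm, hconj⟩ := hT.exists_conj h15.2
    have hA'S : cj m A ≤ S := by
      rw [hconj]
      exact cj_mono m hAT
    have hA'Ms : cj m A ≤ Ms := hA'S.trans (hS.le.trans inf_le_left)
    have hA'M : cj m A ≤ M := hA'S.trans (hS.le.trans inf_le_right)
    have h17' := Cfsg.Agent.S1417.result hG M hM s hs (cj m A)
      ⟨hA'M, isElementaryAbelian_map _ hAe, by rw [card_cj, hAc]⟩
    have := h17'.2.2.2.2.1 Ms hMs hne hA'Ms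
    exact hK (le_bot_iff.mp (this ▸ hKMs))
  -- (ii) `s ∉ τ₂(M*)`
  obtain ⟨y, hy1⟩ := (Subgroup.ne_bot_iff_exists_ne_one).mp hY1
  have hy1' : (y : G) ≠ 1 := fun h => hy1 (Subtype.ext h)
  have hYz : Y = Subgroup.zpowers (y : G) := eq_zpowers_of_card_prime hY y.2 hy1'
  have hsτ2 : s ∉ tau2 Ms := by
    intro hsτ
    obtain ⟨Es, hEs, -⟩ := exists_isComplIn_sigmaCore_ge hG hMs (X := ⊥) bot_le
      (by rw [Subgroup.card_bot]; exact Nat.coprime_one_left _)
    have h20 := (Cfsg.Agent.S1420.result hG Ms hMs Es hEs).2.2.2 (y : G) (hYMs y.2) hy1' ?_ ?_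
    · have h1 : Subgroup.centralizer (Y : Set G) ≤ M := hCY
      rw [hYz, centralizer_zpowers] at h1
      exact hne (h20.2 M hM h1).symm
    · intro r hr hd
      have hoy : orderOf (y : G) = s := by
        have h1 : orderOf (y : G) ∣ s := by
          rw [← hY]
          exact Subgroup.orderOf_dvd_natCard Y y.2
        rcases (Nat.dvd_prime hsp).mp h1 with h | h
        · exact (hy1' (orderOf_eq_one_iff.mp h)).elim
        · exact h
      rw [hoy] at hd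
      have : r = s := (Nat.prime_dvd_prime_iff_eq hr hsp).mp hd
      exact this ▸ hsτ
    · obtain ⟨x, hx1⟩ := (Subgroup.ne_bot_iff_exists_ne_one).mp hP1
      refine ⟨hYMs y.2, (x : G), hPσ x.2, fun h => hx1 (Subtype.ext h), ?_⟩
      have := (Subgroup.mem_centralizer_iff.mp ((hYE y.2).2)) (x : G) x.2
      exact this.symm
  -- so `s ∈ τ₁(M*) ∪ τ₃(M*)`, and C1 for `(M*, Y, M)` gives `s ∈ σ(M)`
  have hsMs : s ∣ Nat.card Ms := hY ▸ Subgroup.card_dvd_of_le hYMs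
  have hr2 : PRankLE s 2 ↥Ms :=
    alpha_rank Ms s hsp (fun hα => hsσ (alpha_subset_sigma hG hMs hα))
  have hr1 : PRankLE s 1 ↥Ms := by
    by_contra h
    exact hsτ2 ⟨hsp, hsσ, hr2, h⟩
  have hs13 : s ∈ tau1 Ms ∨ s ∈ tau3 Ms := by
    by_cases hd : s ∣ Nat.card ↥⁅Ms, Ms⁆
    · exact Or.inr ⟨hsp, hsσ, hd, hr1⟩
    · exact Or.inl ⟨hsp, hsσ, hsMs, hd, hr1⟩
  have hYσ : sigmaCore Ms ⊓ Subgroup.centralizer (Y : Set G) ≠ ⊥ := by
    intro h
    apply hP1
    apply le_bot_iff.mp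
    rw [← h]
    refine le_inf hPσ ?_
    intro x hx
    rw [Subgroup.mem_centralizer_iff]
    intro z hz
    exact ((Subgroup.mem_centralizer_iff.mp ((hYE hz).2)) x hx).symm
  exact hs.2.1 (hC1 Ms M Y hMs hM s hs13 hYMs hY hYσ hNY)

end Cfsg.Agent.Lib.Helper9.BG1430a
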