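import Mathlib
import Cfsg.Agent.Lib.Helper9.BG1430c
import Cfsg.Agent.Lib.Helper22.BG1430L

/-!
Assembly of L2 = C1 (`mem_sigma_of_nonregular`) of `notes/BG_S1430_split_helper21.md` from
B&G 13.6 for `τ₁` (`Stmt136 G`, helper25's L1), helper22's L2b and helper9's L2a.
-/

set_option autoImplicit false
set_option linter.style.haveILetI false
set_option linter.unusedSectionVars false
set_option linter.unusedVariables false
open Cfsg
open scoped commutatorElement

namespace Cfsg.Agent.Lib.Helper9.BG1430a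

open Cfsg.Agent.Lib.Helper10.BG Cfsg.Agent.Lib.Helper10 Cfsg.Agent.Lib.Helper9.BGExc
open Cfsg.Agent.Lib.Helper22.BG1430N Cfsg.Agent.Lib.Helper22.BG1430L

variable {G : Type*} [Group G] [Finite G]

/-- **L2 = C1** from B&G 13.6 for `τ₁`. -/
theorem stmtC1_of_stmt136 (hG : IsMinSimpleOddOrder G) (h136 : Stmt136 G) : StmtC1 G := by
  apply stmtC1_of hG h136
  intro M Mstar X hM hMs p hp hXM hX hK hNX hab
  have hpp : p.Prime := by
    rcases hp with h | h
    · exact h.1
    · exact h.1
  haveI : Fact p.Prime := ⟨hpp⟩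
  apply mem_sigma_of_nonregular_abelian hG hM hMs hp hXM hX hK hNX hab
  intro hp1 Z hZ hZp
  obtain ⟨E, hE, hXE⟩ := exists_compl_ge_of_card hG hM hp1.2.1 hXM hX
  exact (h136 M E X Z p hM hE hp1 hXE hX hZ hZp).1

/-- the same, in the `C1` shape of `BG1430c` / helper10's `BGCaseIIAsm` / helper19's msg. -/
theorem c1_of_stmt136 (hG : IsMinSimpleOddOrder G) (h136 : Stmt136 G) : C1 G :=
  stmtC1_of_stmt136 hG h136

end Cfsg.Agent.Lib.Helper9.BG1430a
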