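import Mathlib
import Cfsg.Agent.Lib.Helper19.BG14D
import Cfsg.Agent.Lib.Helper1.CoprimeSylow
import Cfsg.Agent.S1428
import Cfsg.Agent.S1415

/-!
B & G, Section 13/14, "Case II", exclusion of (II-α), **Step 3**: in the situation of
`Cfsg.Agent.Lib.Helper19.BG14C` (`P ≤ E₃` of prime order, `N_G(P) ≤ H`, `D = C_{M_σ}(E₃) ≠ 1`) let
`R ≤ E` have prime order `r ∈ τ₁(M)`, not centralizing `P`, with `r ∉ σ(H)` and `r ∈ τ₁(H)`
(Steps 1, 2).  Then every prime divisor of `|D|` lies in `τ₃(H)`.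
-/

set_option autoImplicit false
set_option linter.unusedVariables false
set_option linter.unusedSectionVars false
set_option linter.style.longLine false
set_option linter.unusedSimpArgs false
set_option linter.style.haveILetI false

open Cfsg
open scoped commutatorElement
open Cfsg.Agent.Lib.Helper10.BG
open Cfsg.Agent.Lib.Helper10
open Cfsg.Agent.Lib.Helper9.BGExc
open Cfsg.Agent.Lib.Helper19.BG12
open Cfsg.Agent.Lib.Helper19.BGCompl
open Cfsg.Agent.Lib.Helper29.BG1212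
open Cfsg.Agent.Lib.Helper29.BG13K
open Cfsg.Agent.Lib.Helper7.BG13
open Cfsg.Agent.Lib.Helper19.BG14C
open Cfsg.Agent.Lib.Helper19.BG14D

namespace Cfsg.Agent.Lib.Helper9.BG1430a

variable {G : Type*} [Group G] [Finite G]

/-- a subgroup normalizing `A` and `B` normalizes `A ⊓ C_G(B)`. -/
theorem le_normalizer_inf_centralizer_of_le {R A B : Subgroup G}
    (hRA : R ≤ Subgroup.normalizer (A : Set G)) (hRB : R ≤ Subgroup.normalizer (B : Set G)) :
    R ≤ Subgroup.normalizer ((A ⊓ Subgroup.centralizer (B : Set G) : Subgroup G) : Set G) := by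
  apply Cfsg.Agent.Lib.Helper1.le_normalizer_of_forall_conj_mem
  intro x hx a ha
  refine Subgroup.mem_inf.mpr ⟨((Subgroup.mem_normalizer_iff.mp (hRA hx)) a).mp ha.1, ?_⟩
  rw [Subgroup.mem_centralizer_iff]
  intro b hb
  have hb' : x⁻¹ * b * x ∈ B := by
    have := (Subgroup.mem_normalizer_iff.mp (hRB (R.inv_mem hx)) b).mp hb
    simpa using this
  have hc : (x⁻¹ * b * x) * a = a * (x⁻¹ * b * x) :=
    (Subgroup.mem_centralizer_iff.mp ha.2) _ hb'
  calc b * (x * a * x⁻¹) = x * ((x⁻¹ * b * x) * a) * x⁻¹ := by group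
    _ = x * (a * (x⁻¹ * b * x)) * x⁻¹ := by rw [hc]
    _ = x * a * x⁻¹ * b := by group

variable {M E E₃ P H R : Subgroup G}

/-- **Step 3** of the exclusion of (II-α). -/
theorem step3 (hG : IsMinSimpleOddOrder G) (hC1 : Cfsg.Agent.Lib.Helper19.BG14C.C1 G)
    (hM : IsCoatom M)
    (hE : IsComplIn E (sigmaCore M) M) (hE₃ : IsPiHallOf (tau3 M) E₃ E)
    (hD : sigmaCore M ⊓ Subgroup.centralizer (E₃ : Set G) ≠ ⊥)
    (hPE₃ : P ≤ E₃) (hP : (Nat.card P).Prime) (hH : IsCoatom H)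
    (hNH : Subgroup.normalizer (P : Set G) ≤ H)
    (hRE : R ≤ E) (hr : Nat.card R ∈ tau1 M)
    (hRP : ¬ R ≤ Subgroup.centralizer (P : Set G))
    (hs1 : Nat.card R ∉ sigma H) (hs2 : Nat.card R ∈ tau1 H) :
    ∀ q : ℕ, q.Prime → q ∣ Nat.card ↥(sigmaCore M ⊓ Subgroup.centralizer (E₃ : Set G)) →
      q ∈ tau3 H := by
  intro q hq hd
  rcases mem_tau13 hG hC1 hM hE hE₃ hD hPE₃ hP hH hNH q hq hd with h1 | h3
  swap
  · exact h3
  exfalso
  apply hRP
  haveI : Fact q.Prime := ⟨hq⟩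
  have hrp : (Nat.card R).Prime := hr.1
  obtain ⟨D, hDdef⟩ : ∃ D : Subgroup G, D = sigmaCore M ⊓ Subgroup.centralizer (E₃ : Set G) :=
    ⟨_, rfl⟩
  rw [← hDdef] at hd
  have hDH : D ≤ H := by rw [hDdef]; exact D_le hPE₃ hNH
  have hDP : D ≤ Subgroup.centralizer (P : Set G) := by rw [hDdef]; exact D_le_centralizer hPE₃
  have hEH : E ≤ H := compl_le hG hM hE hE₃ hPE₃ hNH
  -- `R` normalizes `D`
  obtain ⟨-, -, h15⟩ := Cfsg.Agent.S1415.result hG M hM E hE
  obtain ⟨hcyc, -, hEn⟩ := h15 E₃ hE₃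
  have hRD : R ≤ Subgroup.normalizer (D : Set G) := by
    rw [hDdef]
    exact le_normalizer_inf_centralizer_of_le
      ((hRE.trans hE.1).trans (le_normalizer_sigmaCore M)) (hRE.trans hEn)
  -- coprime action
  have hDpr : ∀ t : ℕ, t.Prime → t ∣ Nat.card D → t ∈ sigma M ∧ t ∉ sigma H := by
    intro t ht htd
    rw [hDdef] at htd
    exact D_primes hG hM hE hE₃ hPE₃ hP hH hNH t ht htd
  have hcop : (Nat.card R).Coprime (Nat.card D) := by
    rw [Nat.Prime.coprime_iff_not_dvd hrp]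
    intro h
    exact hr.2.1 (hDpr _ hrp h).1
  have hRsolv : Group.IsSolvable R := by
    haveI : Fact (Nat.card R).Prime := ⟨hrp⟩
    haveI : IsCyclic R := isCyclic_of_prime_card rfl
    haveI : IsMulCommutative R := IsCyclic.isMulCommutative
    infer_instance
  have hact : Cfsg.Agent.Lib.Helper1.CoprimeAct R D := ⟨hRD, hcop, Or.inl hRsolv⟩
  obtain ⟨Q, hQ⟩ := hact.exists_invariant_sylow q
  obtain ⟨Dq, hDq⟩ : ∃ Dq : Subgroup G, Dq = (Q : Subgroup D).map D.subtype := ⟨_, rfl⟩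
  rw [← hDq] at hQ
  have hDqD : Dq ≤ D := by rw [hDq]; exact Subgroup.map_subtype_le _
  have hDqp : IsPGroup q Dq := by rw [hDq]; exact Q.2.map _
  have hDqcard : Nat.card Dq = Nat.card (Q : Subgroup D) := by
    rw [hDq]
    exact Subgroup.card_map_of_injective D.subtype_injective
  have hqQ : q ∣ Nat.card (Q : Subgroup D) := Q.dvd_card_of_dvd_card hd
  -- an element of order `q` in `Dq`
  obtain ⟨z, hz⟩ := exists_prime_orderOf_dvd_card' (G := Dq) q (by rw [hDqcard]; exact hqQ)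
  have hzo : orderOf (z : G) = q := by rw [Subgroup.orderOf_coe]; exact hz
  -- `R ⊔ Dq` is a `τ₁(H)`-group
  have hJH : R ⊔ Dq ≤ H := sup_le (hRE.trans hEH) (hDqD.trans hDH)
  have hJcard : Nat.card ↥(R ⊔ Dq) ∣ Nat.card R * Nat.card Dq :=
    Dvd.intro _ (Cfsg.H5.card_sup_mul_card_inf hQ)
  have hJτ : ∀ t : ℕ, t.Prime → t ∣ Nat.card ↥(R ⊔ Dq) → t ∈ tau1 H := by
    intro t ht htd
    rcases (Nat.Prime.dvd_mul ht).mp (htd.trans hJcard) with h | h
    · rw [(Nat.prime_dvd_prime_iff_eq ht hrp).mp h]; exact hs2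
    · obtain ⟨n, hn⟩ := IsPGroup.iff_card.mp hDqp
      rw [hn] at h
      rw [(Nat.prime_dvd_prime_iff_eq ht hq).mp (ht.dvd_of_dvd_pow h)]
      exact h1
  have hcomm := commute_of_tau1_group hJH hJτ
  have hzR : ∀ x ∈ R, x * (z : G) = (z : G) * x := fun x hx =>
    hcomm x (Subgroup.mem_sup_left hx) z (Subgroup.mem_sup_right z.2)
  -- a complement of `H_σ` containing `R ⊔ ⟨z⟩`
  obtain ⟨Z, hZ⟩ : ∃ Z : Subgroup G, Z = Subgroup.zpowers (z : G) := ⟨_, rfl⟩
  have hZcard : Nat.card Z = q := by rw [hZ, Nat.card_zpowers]; exact hzo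
  have hZDq : Z ≤ Dq := by rw [hZ, Subgroup.zpowers_le]; exact z.2
  have hRZ : R ≤ Subgroup.centralizer (Z : Set G) := by
    intro x hx
    rw [hZ, Cfsg.Agent.Lib.Helper9.BGExc.centralizer_zpowers,
      Subgroup.mem_centralizer_singleton_iff]
    exact hzR x hx
  have hRZH : R ⊔ Z ≤ H := sup_le (hRE.trans hEH) ((hZDq.trans hDqD).trans hDH)
  have hRZcard : Nat.card ↥(R ⊔ Z) ∣ Nat.card R * Nat.card Z :=
    Dvd.intro _ (Cfsg.H5.card_sup_mul_card_inf
      (hRZ.trans (Subgroup.centralizer_le_normalizer _)))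
  have hRZcop : (Nat.card ↥(R ⊔ Z)).Coprime (Nat.card (sigmaCore H)) := by
    apply coprime_card_sigmaCore_of hG hH
    intro t ht htd
    rcases (Nat.Prime.dvd_mul ht).mp (htd.trans hRZcard) with h | h
    · rw [(Nat.prime_dvd_prime_iff_eq ht hrp).mp h]; exact hs1
    · rw [hZcard] at h
      rw [(Nat.prime_dvd_prime_iff_eq ht hq).mp h]
      exact h1.2.1
  obtain ⟨EH, hEHc, hRZEH⟩ := exists_isComplIn_sigmaCore_ge hG hH hRZH hRZcop
  -- S1428 inside `H`
  have h28 := Cfsg.Agent.S1428.result hG H hH EH hEHc q h1 Z (le_sup_right.trans hRZEH) hZcard R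
    (le_inf (le_sup_left.trans hRZEH) hRZ) hrp
  have hPσ : P ≤ sigmaCore H := le_sigmaCore hG hC1 hM hE hE₃ hD hPE₃ hP hH hNH
  have hPZ : P ≤ Subgroup.centralizer (Z : Set G) := by
    intro x hx
    rw [Subgroup.mem_centralizer_iff]
    intro y hy
    exact ((Subgroup.mem_centralizer_iff.mp (hDP (hDqD (hZDq hy)))) x hx).symm
  have hPR : P ≤ Subgroup.centralizer (R : Set G) := (le_inf hPσ hPZ).trans (h28.trans inf_le_right)
  intro x hx
  rw [Subgroup.mem_centralizer_iff]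
  intro y hy
  exact ((Subgroup.mem_centralizer_iff.mp (hPR hy)) x hx).symm

end Cfsg.Agent.Lib.Helper9.BG1430a
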