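import Mathlib
import Cfsg.Prelude.Def_KGroupFacts
import Cfsg.Agent.H5.TCkSound
import Cfsg.Agent.H5.StemTC
import Cfsg.Agent.Lib.Helper12.McLWData
import Cfsg.Agent.Lib.Helper12.SchurBasic
import Cfsg.Agent.Lib.Helper16.McLWE
import Cfsg.Agent.Lib.Helper1.Co2MData

/-!
# S2044 piece [A] (helper9 for helper1): the lifts of the McL generators inside the perfect core of the preimage

`M = ⟨g 0, …, g 4⟩` carries a McL tuple; the commutator subgroup `L` of the preimage of `M` under a stem extension
`τ` with `2`-group kernel maps onto `M` by a stem extension (helper12's `isStemExtension_commutator`), whose kernel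
is a `2`-group of odd order (helper12/21's [ODD], a hypothesis here), so `L ≅ M`.
-/

set_option autoImplicit false
set_option linter.unusedVariables false

namespace Cfsg.Agent.Lib.Helper1.Co2M

open Cfsg Cfsg.H5.TCk
open Cfsg.H5.StemTC (cword cwords)
open Cfsg.Agent.Lib.Helper12.McLW (relsG relsU relsW IsMcLTuple)

universe u

namespace Helper9

theorem gl_congr {Γ : Type*} [Group Γ] (a b : ℕ → Γ) (n : ℕ) (h : ∀ i < n, a i = b i) (l : ℕ)
    (hl : l < 2 * n) : gl a l = gl b l := by
  unfold gl
  rw [h (l / 2) (by omega)]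

theorem ev_congr {Γ : Type*} [Group Γ] (a b : ℕ → Γ) (n : ℕ) (h : ∀ i < n, a i = b i) (w : List ℕ)
    (hw : ∀ l ∈ w, l < 2 * n) : ev a w = ev b w := by
  induction w with
  | nil => rfl
  | cons l w ih =>
    show gl a l * ev a w = gl b l * ev b w
    rw [gl_congr a b n h l (hw l List.mem_cons_self),
      ih fun l' hl' => hw l' (List.mem_cons_of_mem _ hl')]

theorem map_gl {Γ Δ : Type*} [Group Γ] [Group Δ] (f : Γ →* Δ) (a : ℕ → Γ) (l : ℕ) :
    f (gl a l) = gl (fun i => f (a i)) l := by
  unfold gl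
  split
  · rfl
  · rw [map_inv]

theorem map_ev {Γ Δ : Type*} [Group Γ] [Group Δ] (f : Γ →* Δ) (a : ℕ → Γ) (w : List ℕ) :
    f (ev a w) = ev (fun i => f (a i)) w := by
  induction w with
  | nil => exact map_one f
  | cons l w ih =>
    show f (gl a l * ev a w) = gl (fun i => f (a i)) l * ev (fun i => f (a i)) w
    rw [map_mul, map_gl, ih]

theorem lt_of_all {w : List ℕ} {k : ℕ} (h : w.all (fun l => decide (l < k)) = true) :
    ∀ l ∈ w, l < k := by
  intro l hl
  rw [List.all_eq_true] at h
  exact of_decide_eq_true (h l hl)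

theorem relsG_letters : ∀ r ∈ relsG, ∀ l ∈ r, l < 2 * 5 := by
  have h : (relsG.all fun r => r.all fun l => decide (l < 10)) = true := by decide +kernel
  intro r hr
  rw [List.all_eq_true] at h
  exact lt_of_all (h r hr)

theorem relsU_letters : ∀ r ∈ relsU, ∀ l ∈ r, l < 2 * 2 := by
  have h : (relsU.all fun r => r.all fun l => decide (l < 4)) = true := by decide +kernel
  intro r hr
  rw [List.all_eq_true] at h
  exact lt_of_all (h r hr)

theorem wordU_letters : ∀ l ∈ wordU, l < 2 * 5 := by decide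

/-- the cardinality of the closure of a finite family inside a subgroup -/
theorem card_closure_coe {G : Type*} [Group G] (M : Subgroup G) {ι : Type*} (a : ι → ↥M) :
    Nat.card (Subgroup.closure (Set.range a)) =
      Nat.card (Subgroup.closure (Set.range fun i => (a i : G))) := by
  have h : (Subgroup.closure (Set.range a)).map M.subtype =
      Subgroup.closure (Set.range fun i => (a i : G)) := by
    rw [MonoidHom.map_closure]
    congr 1
    ext x
    constructor
    · rintro ⟨_, ⟨i, rfl⟩, rfl⟩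
      exact ⟨i, rfl⟩
    · rintro ⟨i, rfl⟩
      exact ⟨a i, ⟨i, rfl⟩, rfl⟩
  rw [← h]
  exact (Nat.card_congr ((Subgroup.closure (Set.range a)).equivMapOfInjective M.subtype
    M.subtype_injective).toEquiv)

end Helper9

open Helper9 in
/-- **[A]** -/
theorem exists_mcl_lifts
    (hP : ∀ {H : Type u} [Group H] (h : ℕ → H),
      Subgroup.closure (Set.range fun i : Fin 5 => h i.val) = ⊤ →
      (∀ r ∈ relsW, ev h r = 1) → commutator H = ⊤)
    (hOdd : ∀ {H : Type u} [Group H] (g' u' : ℕ → H), IsMcLTuple g' u' →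
      ∀ {Δ' : Type u} [Group Δ'] [Finite Δ'] (τ' : Δ' →* H), IsStemExtension τ' → Odd (Nat.card τ'.ker))
    {G : Type u} [Group G] {Δ : Type u} [Group Δ] [Finite Δ]
    (τ : Δ →* G) (hτ : IsStemExtension τ) (hk : IsPGroup 2 τ.ker) (g u : ℕ → G)
    (hcard : Nat.card (Subgroup.closure (Set.range fun i : Fin 5 => g i.val)) = 898128000)
    (h168 : 168 ≤ Nat.card (Subgroup.closure (Set.range fun i : Fin 2 => g i.val)))
    (hu0 : u 0 = ev g wordU) (hu1 : u 1 = g 0)
    (h40320 : 40320 ≤ Nat.card (Subgroup.closure (Set.range fun i : Fin 2 => u i.val)))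
    (hG : ∀ r ∈ relsG, ev g r = 1) (hU : ∀ r ∈ relsU, ev u r = 1) :
    ∃ γ : ℕ → Δ, (∀ i < 5, τ (γ i) = g i) ∧
      Nat.card (Subgroup.closure (Set.range fun i : Fin 5 => γ i.val)) ≤ 898128000 ∧
      ∀ w : List ℕ, w.all (fun l => decide (l < 10)) = true → ev g w = 1 → ev γ w = 1 := by
  classical
  -- the subgroup `M` and the tuple inside it
  obtain ⟨M, hM⟩ : ∃ M : Subgroup G, M = Subgroup.closure (Set.range fun i : Fin 5 => g i.val) :=
    ⟨_, rfl⟩
  have hgM : ∀ i, i < 5 → g i ∈ M := by
    intro i hi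
    rw [hM]
    exact Subgroup.subset_closure ⟨⟨i, hi⟩, rfl⟩
  let g' : ℕ → ↥M := fun i => if h : i < 5 then ⟨g i, hgM i h⟩ else 1
  have hg'coe : ∀ i < 5, ((g' i : ↥M) : G) = g i := by
    intro i hi
    simp only [g', dif_pos hi]
  have hevg' : ∀ w : List ℕ, (∀ l ∈ w, l < 2 * 5) → ((ev g' w : ↥M) : G) = ev g w := by
    intro w hw
    have h1 := map_ev M.subtype g' w
    rw [Subgroup.coe_subtype] at h1
    rw [h1]
    exact ev_congr _ _ 5 (fun i hi => hg'coe i hi) w hw
  have hu0M : u 0 ∈ M := by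
    rw [hu0, ← hevg' wordU wordU_letters]
    exact (ev g' wordU).2
  let u' : ℕ → ↥M := fun i => if i = 0 then ⟨u 0, hu0M⟩ else if i = 1 then g' 0 else 1
  have hu'coe : ∀ i < 2, ((u' i : ↥M) : G) = u i := by
    intro i hi
    interval_cases i
    · rfl
    · show ((g' 0 : ↥M) : G) = u 1
      rw [hu1]
      exact hg'coe 0 (by norm_num)
  have hevu' : ∀ w : List ℕ, (∀ l ∈ w, l < 2 * 2) → ((ev u' w : ↥M) : G) = ev u w := by
    intro w hw
    have h1 := map_ev M.subtype u' w
    rw [Subgroup.coe_subtype] at h1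
    rw [h1]
    exact ev_congr _ _ 2 (fun i hi => hu'coe i hi) w hw
  have hcardM : Nat.card ↥M = 898128000 := by rw [hM]; exact hcard
  have htop : Subgroup.closure (Set.range fun i : Fin 5 => g' i.val) = ⊤ := by
    have h1 : (Set.range fun i : Fin 5 => g' i.val) =
        ((↑) ⁻¹' (Set.range fun i : Fin 5 => g i.val) : Set ↥M) := by
      ext x
      constructor
      · rintro ⟨i, rfl⟩
        exact ⟨i, (hg'coe i.val i.isLt).symm⟩
      · rintro ⟨i, hi⟩
        exact ⟨i, Subtype.ext ((hg'coe i.val i.isLt).trans hi)⟩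
    rw [h1]
    subst hM
    exact Subgroup.closure_closure_coe_preimage
  have hrelG' : ∀ r ∈ relsG, ev g' r = 1 := by
    intro r hr
    apply Subtype.ext
    rw [hevg' r (relsG_letters r hr), hG r hr]
    rfl
  have hrelU' : ∀ r ∈ relsU, ev u' r = 1 := by
    intro r hr
    apply Subtype.ext
    rw [hevu' r (relsU_letters r hr), hU r hr]
    rfl
  have h168' : 168 ≤ Nat.card (Subgroup.closure (Set.range fun i : Fin 2 => g' i.val)) := by
    rw [card_closure_coe M fun i : Fin 2 => g' i.val]
    have h1 : (fun i : Fin 2 => ((g' i.val : ↥M) : G)) = fun i : Fin 2 => g i.val := by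
      funext i
      exact hg'coe i.val (by omega)
    rw [h1]
    exact h168
  have h40320' : 40320 ≤ Nat.card (Subgroup.closure (Set.range fun i : Fin 2 => u' i.val)) := by
    rw [card_closure_coe M fun i : Fin 2 => u' i.val]
    have h1 : (fun i : Fin 2 => ((u' i.val : ↥M) : G)) = fun i : Fin 2 => u i.val := by
      funext i
      exact hu'coe i.val i.isLt
    rw [h1]
    exact h40320
  have htuple : IsMcLTuple g' u' := ⟨hcardM, htop, hrelG', h168', hrelU', h40320'⟩
  -- `M` is perfect
  have hMperf : commutator ↥M = ⊤ :=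
    hP g' htop (Cfsg.Agent.Lib.Helper12.McLW.Helper16E.relsW_of_relsG g' hrelG')
  -- the preimage of `M` and its commutator subgroup
  let ψ : ↥(M.comap τ) →* ↥M := τ.subgroupComap M
  have hψsurj : Function.Surjective ψ := by
    rintro ⟨y, hy⟩
    obtain ⟨x, rfl⟩ := hτ.1 y
    exact ⟨⟨x, hy⟩, rfl⟩
  have hψcen : ψ.ker ≤ Subgroup.center ↥(M.comap τ) := by
    intro x hx
    have hx' : (x : Δ) ∈ τ.ker := by
      rw [MonoidHom.mem_ker] at hx ⊢
      exact congrArg Subtype.val hx
    rw [Subgroup.mem_center_iff]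
    intro y
    apply Subtype.ext
    exact Subgroup.mem_center_iff.mp (hτ.2.1 hx') y
  let τ' : ↥(commutator ↥(M.comap τ)) →* ↥M := ψ.comp (commutator ↥(M.comap τ)).subtype
  have hτ' : IsStemExtension τ' :=
    Cfsg.Agent.Lib.Helper12.Schur.isStemExtension_commutator ψ hψsurj hψcen hMperf
  -- the kernel of `τ'` is trivial
  have hker2 : IsPGroup 2 τ'.ker := by
    intro x
    have hx' : (((x : ↥(commutator ↥(M.comap τ))) : ↥(M.comap τ)) : Δ) ∈ τ.ker := by
      have h1 : τ' (x : ↥(commutator ↥(M.comap τ))) = 1 := x.2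
      rw [MonoidHom.mem_ker]
      exact congrArg Subtype.val h1
    obtain ⟨k, hk'⟩ := hk ⟨_, hx'⟩
    refine ⟨k, ?_⟩
    have h2 : ((((x ^ 2 ^ k : τ'.ker) : ↥(commutator ↥(M.comap τ))) : ↥(M.comap τ)) : Δ) = 1 := by
      have := congrArg Subtype.val hk'
      simpa using this
    apply Subtype.ext
    apply Subtype.ext
    apply Subtype.ext
    exact h2
  have hodd : Odd (Nat.card τ'.ker) := hOdd g' u' htuple τ' hτ'
  have hker1 : Nat.card τ'.ker = 1 := by
    obtain ⟨n, hn⟩ := hker2.exists_card_eq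
    rw [hn] at hodd ⊢
    cases n with
    | zero => rfl
    | succ n =>
      exfalso
      rw [pow_succ] at hodd
      exact (Nat.not_even_iff_odd.mpr hodd) (Even.mul_left even_two _)
  have hinj : Function.Injective τ' := by
    rw [← MonoidHom.ker_eq_bot_iff]
    exact Subgroup.card_eq_one.mp hker1
  -- the lifts
  have hex : ∀ i, ∃ x : ↥(commutator ↥(M.comap τ)), τ' x = g' i := fun i => hτ'.1 (g' i)
  choose x hx using hex
  let c : ↥(commutator ↥(M.comap τ)) →* Δ :=
    (M.comap τ).subtype.comp (commutator ↥(M.comap τ)).subtype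
  have hτc : ∀ y, τ (c y) = ((τ' y : ↥M) : G) := fun y => rfl
  have hcinj : Function.Injective c :=
    (Subgroup.subtype_injective _).comp (Subgroup.subtype_injective _)
  refine ⟨fun i => c (x i), ?_, ?_, ?_⟩
  · intro i hi
    show τ (c (x i)) = g i
    rw [hτc, hx i]
    exact hg'coe i hi
  · -- the closure lies in the image of `c`
    have hle : Subgroup.closure (Set.range fun i : Fin 5 => c (x i.val)) ≤ c.range := by
      rw [Subgroup.closure_le]
      rintro _ ⟨i, rfl⟩
      exact ⟨x i.val, rfl⟩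
    have h1 : Nat.card c.range = 898128000 := by
      rw [← hcardM]
      have e1 : Nat.card c.range = Nat.card ↥(commutator ↥(M.comap τ)) :=
        (Nat.card_congr (MonoidHom.ofInjective hcinj).toEquiv).symm
      have e2 : Nat.card ↥(commutator ↥(M.comap τ)) = Nat.card ↥M :=
        Nat.card_congr (Equiv.ofBijective τ' ⟨hinj, hτ'.1⟩)
      rw [e1, e2]
    rw [← h1]
    exact Subgroup.card_le_of_le hle
  · intro w hw hgw
    have hw' : ∀ l ∈ w, l < 2 * 5 := lt_of_all hw
    have h1 : ev (fun i => c (x i)) w = c (ev x w) := (map_ev c x w).symm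
    rw [h1]
    have h2 : τ' (ev x w) = 1 := by
      rw [map_ev τ' x w]
      have h3 : (fun i => τ' (x i)) = g' := funext hx
      rw [h3]
      apply Subtype.ext
      rw [hevg' w hw', hgw]
      rfl
    have h4 : ev x w = 1 := hinj (h2.trans (map_one τ').symm)
    rw [h4, map_one]

end Cfsg.Agent.Lib.Helper1.Co2M
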