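import Mathlib
import Cfsg.Prelude.Def_KGroupFacts
import Cfsg.Agent.Lib.Helper12.SchurMore

/-!
# Stem extensions and abelian two-generator Sylow subgroups (helper9, S2036 piece T2)

If `a`, `b` are commuting elements of `G` with `a ^ p = b ^ p = 1` and the subgroup they generate has
index prime to `p` (so it contains a Sylow `p`-subgroup, elementary abelian of rank at most 2), then
`p ^ 2` does not divide the order of the kernel of a finite stem extension of `G`.

Proof: transfer into the full preimage `H` of `⟨a, b⟩` (`Helper12.Schur.pow_index_mem_commutator`)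
puts the `[G : ⟨a,b⟩]`-th powers of the kernel into `H'`, and `H'` is generated by the single
commutator `c = [ã, b̃]`, which is central with `c ^ p = 1`.
-/

set_option autoImplicit false

namespace Cfsg.Agent.Lib.Helper9.StemTwoGen

open scoped commutatorElement

variable {Γ G : Type*} [Group Γ] [Group G]

/-- the preimage of `closure {a, b}` is generated by the kernel and two lifts -/
theorem comap_le_closure (σ : Γ →* G) (a b : G) (x y : Γ) (hx : σ x = a) (hy : σ y = b) :
    (Subgroup.closure {a, b}).comap σ ≤ Subgroup.closure ((σ.ker : Set Γ) ∪ {x, y}) := by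
  intro g hg
  rw [Subgroup.mem_comap] at hg
  have hle : Subgroup.closure {a, b} ≤
      (Subgroup.closure ((σ.ker : Set Γ) ∪ {x, y})).map σ := by
    rw [Subgroup.closure_le]
    intro t ht
    rcases ht with rfl | ht
    · exact ⟨x, Subgroup.subset_closure (Or.inr (Or.inl rfl)), hx⟩
    · rw [Set.mem_singleton_iff] at ht
      subst ht
      exact ⟨y, Subgroup.subset_closure (Or.inr (Or.inr rfl)), hy⟩
  obtain ⟨t, ht, hte⟩ := hle hg
  have hk : g * t⁻¹ ∈ σ.ker := by
    rw [MonoidHom.mem_ker, map_mul, map_inv, hte, mul_inv_cancel]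
  have : g = (g * t⁻¹) * t := by group
  rw [this]
  exact Subgroup.mul_mem _ (Subgroup.subset_closure (Or.inl hk)) ht

/-- commutators of elements of the preimage lie in the cyclic group generated by `[x, y]` -/
theorem comm_mem_zpowers (σ : Γ →* G) (hcen : σ.ker ≤ Subgroup.center Γ) (a b : G)
    (hab : a * b = b * a) (x y : Γ) (hx : σ x = a) (hy : σ y = b) (g h : Γ)
    (hg : g ∈ (Subgroup.closure {a, b}).comap σ) (hh : h ∈ (Subgroup.closure {a, b}).comap σ) :
    ⁅g, h⁆ ∈ Subgroup.zpowers ⁅x, y⁆ := by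
  have hcker : ⁅x, y⁆ ∈ σ.ker := by
    rw [MonoidHom.mem_ker, commutatorElement_def, map_mul, map_mul, map_mul, map_inv, map_inv, hx,
      hy, hab]
    group
  have hccen : ⁅x, y⁆ ∈ Subgroup.center Γ := hcen hcker
  have hCle : Subgroup.zpowers ⁅x, y⁆ ≤ Subgroup.center Γ := by
    rw [Subgroup.zpowers_le]
    exact hccen
  have hCn : (Subgroup.zpowers ⁅x, y⁆).Normal :=
    ⟨fun n hn t => by
      have := Subgroup.mem_center_iff.mp (hCle hn) t
      rw [this, mul_inv_cancel_right]
      exact hn⟩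
  -- in the quotient by `C`, the images of the generators commute
  let π := QuotientGroup.mk' (Subgroup.zpowers ⁅x, y⁆)
  have hπxy : π x * π y = π y * π x := by
    rw [← map_mul, ← map_mul]
    apply (QuotientGroup.eq).mpr
    have : (x * y)⁻¹ * (y * x) = ((x * y)⁻¹ * (⁅x, y⁆)⁻¹ * (x * y)) := by
      rw [commutatorElement_def]
      group
    rw [this]
    have h1 := Subgroup.mem_center_iff.mp (Subgroup.inv_mem _ hccen) (x * y)⁻¹
    rw [h1, inv_mul_cancel_right]
    exact Subgroup.inv_mem _ (Subgroup.mem_zpowers _)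
  have hcomm : ∀ u ∈ π '' ((σ.ker : Set Γ) ∪ {x, y}), ∀ v ∈ π '' ((σ.ker : Set Γ) ∪ {x, y}),
      u * v = v * u := by
    rintro _ ⟨u, hu, rfl⟩ _ ⟨v, hv, rfl⟩
    rcases hu with hu | hu
    · have := Subgroup.mem_center_iff.mp (hcen hu) v
      rw [← map_mul, ← map_mul, this]
    · rcases hv with hv | hv
      · have := Subgroup.mem_center_iff.mp (hcen hv) u
        rw [← map_mul, ← map_mul, this]
      · rcases hu with rfl | hu <;> rcases hv with rfl | hv
        · rfl
        · rw [Set.mem_singleton_iff] at hv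
          subst hv
          exact hπxy
        · rw [Set.mem_singleton_iff] at hu
          subst hu
          exact hπxy.symm
        · rw [Set.mem_singleton_iff] at hu hv
          subst hu
          subst hv
          rfl
  have hmc := Subgroup.isMulCommutative_closure hcomm
  have hmem : ∀ t ∈ (Subgroup.closure {a, b}).comap σ,
      π t ∈ Subgroup.closure (π '' ((σ.ker : Set Γ) ∪ {x, y})) := by
    intro t ht
    rw [← MonoidHom.map_closure]
    exact ⟨t, comap_le_closure σ a b x y hx hy ht, rfl⟩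
  have h1 : π g * π h = π h * π g := by
    have := hmc.is_comm.comm ⟨π g, hmem g hg⟩ ⟨π h, hmem h hh⟩
    exact congrArg Subtype.val this
  have h2 : π ⁅g, h⁆ = 1 := by
    show π (g * h * g⁻¹ * h⁻¹) = 1
    rw [map_mul, map_mul, map_mul, map_inv, map_inv, h1]
    group
  exact (QuotientGroup.eq_one_iff _).mp h2

/-- the commutator of the two lifts has order dividing `p` -/
theorem comm_pow_eq_one (σ : Γ →* G) (hcen : σ.ker ≤ Subgroup.center Γ) (a b : G)
    (hab : a * b = b * a) (p : ℕ) (ha : a ^ p = 1) (x y : Γ) (hx : σ x = a) (hy : σ y = b) :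
    ⁅x, y⁆ ^ p = 1 := by
  have hcker : ⁅x, y⁆ ∈ σ.ker := by
    rw [MonoidHom.mem_ker, commutatorElement_def, map_mul, map_mul, map_mul, map_inv, map_inv, hx,
      hy, hab]
    group
  have hccen : ⁅x, y⁆ ∈ Subgroup.center Γ := hcen hcker
  have hxp : x ^ p ∈ Subgroup.center Γ := by
    apply hcen
    rw [MonoidHom.mem_ker, map_pow, hx, ha]
  -- `y * x * y⁻¹ = c⁻¹ * x`
  have h1 : y * x * y⁻¹ = (⁅x, y⁆)⁻¹ * x := by
    rw [commutatorElement_def]
    group
  have h2 : y * x ^ p * y⁻¹ = ((⁅x, y⁆)⁻¹ * x) ^ p := by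
    rw [← h1, conj_pow]
  have hcomm : Commute (⁅x, y⁆)⁻¹ x :=
    (Subgroup.mem_center_iff.mp (Subgroup.inv_mem _ hccen) x).symm
  rw [hcomm.mul_pow] at h2
  have h3 : y * x ^ p * y⁻¹ = x ^ p := by
    have := Subgroup.mem_center_iff.mp hxp y
    rw [this, mul_inv_cancel_right]
  rw [h3] at h2
  have h4 : ((⁅x, y⁆)⁻¹) ^ p = 1 := by
    have : x ^ p = (⁅x, y⁆)⁻¹ ^ p * x ^ p := h2
    exact (mul_eq_right.mp this.symm)
  rw [inv_pow, inv_eq_one] at h4
  exact h4

/-- **Two-generator elementary abelian Sylow subgroups.**  If `⟨a, b⟩` (commuting elements of order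
dividing `p`) has index prime to `p` in `G`, then `p ^ 2` does not divide the order of the kernel of
a finite stem extension of `G`. -/
theorem sq_not_dvd_card_ker [Finite Γ] (σ : Γ →* G) (hσ : Cfsg.IsStemExtension σ) (p : ℕ)
    [hp : Fact p.Prime] (a b : G) (hab : a * b = b * a) (ha : a ^ p = 1)
    (hidx : ¬ p ∣ (Subgroup.closure {a, b}).index) : ¬ p ^ 2 ∣ Nat.card σ.ker := by
  intro hdvd
  obtain ⟨x, hx⟩ := hσ.1 a
  obtain ⟨y, hy⟩ := hσ.1 b
  have hcen := hσ.2.1
  set H := (Subgroup.closure {a, b}).comap σ with hH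
  have hHidx : H.index = (Subgroup.closure {a, b}).index :=
    Subgroup.index_comap_of_surjective _ hσ.1
  have hcp : ⁅x, y⁆ ^ p = 1 := comm_pow_eq_one σ hcen a b hab p ha x y hx hy
  have hCcard : Nat.card (Subgroup.zpowers ⁅x, y⁆) ∣ p := by
    rw [Nat.card_zpowers]
    exact orderOf_dvd_of_pow_eq_one hcp
  -- powers of kernel elements lie in `C`
  have hpow : ∀ z ∈ σ.ker, z ^ H.index ∈ Subgroup.zpowers ⁅x, y⁆ := by
    intro z hz
    obtain ⟨hzH, hzc⟩ := Cfsg.Agent.Lib.Helper12.Schur.pow_index_mem_commutator H (hcen hz)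
      (hσ.2.2 hz)
    have hle : commutator H ≤ (Subgroup.zpowers ⁅x, y⁆).comap H.subtype := by
      rw [commutator_def, Subgroup.commutator_le]
      intro g _ h _
      rw [Subgroup.mem_comap]
      exact comm_mem_zpowers σ hcen a b hab x y hx hy g.1 h.1 g.2 h.2
    exact hle hzc
  -- a subgroup of order `p ^ 2` of the kernel
  obtain ⟨S, hS⟩ := Sylow.exists_subgroup_card_pow_prime p hdvd
  have hSC : ∀ s : S, ((s : σ.ker) : Γ) ∈ Subgroup.zpowers ⁅x, y⁆ := by
    intro s
    have ho : orderOf ((s : σ.ker) : Γ) ∣ p ^ 2 := by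
      rw [Subgroup.orderOf_coe, Subgroup.orderOf_coe, ← hS]
      exact orderOf_dvd_natCard s
    have hcop : (H.index).Coprime (orderOf ((s : σ.ker) : Γ)) := by
      apply Nat.Coprime.coprime_dvd_right ho
      apply Nat.Coprime.pow_right
      rw [Nat.coprime_comm, Nat.Prime.coprime_iff_not_dvd hp.out, hHidx]
      exact hidx
    obtain ⟨m, hm⟩ := exists_pow_eq_self_of_coprime hcop
    rw [← hm]
    exact Subgroup.pow_mem _ (hpow _ (s : σ.ker).2) m
  have hinj : Function.Injective
      (fun s : S => (⟨((s : σ.ker) : Γ), hSC s⟩ : Subgroup.zpowers ⁅x, y⁆)) := by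
    intro s t hst
    have hst' : (⟨((s : σ.ker) : Γ), hSC s⟩ : Subgroup.zpowers ⁅x, y⁆) =
        ⟨((t : σ.ker) : Γ), hSC t⟩ := hst
    have : ((s : σ.ker) : Γ) = ((t : σ.ker) : Γ) := Subtype.mk.inj hst'
    exact Subtype.ext (Subtype.ext this)
  have hle := Nat.card_le_card_of_injective _ hinj
  rw [hS] at hle
  have h2 := Nat.le_of_dvd hp.out.pos hCcard
  have h3 : p < p ^ 2 := by
    have := hp.out.two_le
    nlinarith
  omega

/-- the same bound in terms of the `p`-adic valuation of the order of the kernel -/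
theorem factorization_card_ker_le_one [Finite Γ] (σ : Γ →* G) (hσ : Cfsg.IsStemExtension σ) (p : ℕ)
    [hp : Fact p.Prime] (a b : G) (hab : a * b = b * a) (ha : a ^ p = 1)
    (hidx : ¬ p ∣ (Subgroup.closure {a, b}).index) : (Nat.card σ.ker).factorization p ≤ 1 := by
  by_contra hcon
  push Not at hcon
  exact sq_not_dvd_card_ker σ hσ p a b hab ha hidx
    ((Nat.Prime.pow_dvd_iff_le_factorization hp.out Nat.card_pos.ne').mpr hcon)

end Cfsg.Agent.Lib.Helper9.StemTwoGen
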