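import Mathlib
import Cfsg.Agent.Lib.Helper9.SURUDefs

/-!
# Regular unipotent generation of `SU_n(q)`: generic closure lemmas (B0, B1, B6)
-/

set_option autoImplicit false
set_option linter.unusedSectionVars false
set_option linter.unusedVariables false

namespace Cfsg.Agent.Lib.Helper9.SURU

open Matrix Cfsg.Agent.Lib.Helper6 Cfsg.Agent.S0779 Cfsg.Agent.S0781
open Cfsg.Agent.Lib.Helper6.SUG Cfsg.Agent.Lib.Helper13 Cfsg.Agent.Lib.Helper9.SUGen

section B
variable {F : Type*} [Field F] [Fintype F] {q : ℕ}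

/-- B0.  `XL` of a conjugate subgroup. -/
theorem XL_conj (hF : Fintype.card F = q ^ 2) {n : ℕ} (H : Subgroup ↥(Cfsg.SU n F q))
    (g : ↥(Cfsg.SU n F q)) (x : Fin n → F) :
    XL (H.map (MulAut.conj g).toMonoidHom) x ↔ XL H (av g⁻¹ x) := by
  constructor
  · intro hx
    have hxx : Cfsg.hermForm n F q (av g⁻¹ x) (av g⁻¹ x) = 0 := by
      rw [herm_av]
      exact hx.1
    apply XL.intro hF hxx
    intro c hc
    have h1 := hx.tv_mem hF c hc
    rw [Subgroup.mem_map] at h1
    obtain ⟨a, ha, hga⟩ := h1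
    have h2 : a = g⁻¹ * tv hF x c hx.1 hc * g := by
      rw [← hga]
      simp [MulAut.conj_apply]
      group
    have h3 := conj_tv hF g⁻¹ x c hx.1 hc
    rw [inv_inv] at h3
    rw [← h3, ← h2]
    exact ha
  · intro hx
    have hxx : Cfsg.hermForm n F q x x = 0 := by
      have := hx.1
      rwa [herm_av] at this
    apply XL.intro hF hxx
    intro c hc
    have h1 := hx.tv_mem hF c hc
    rw [Subgroup.mem_map]
    refine ⟨_, h1, ?_⟩
    have h3 := conj_tv hF g (av g⁻¹ x) c hx.1 hc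
    simp only [av_av_inv] at h3
    simp only [MulEquiv.coe_toMonoidHom, MulAut.conj_apply]
    rw [h3]

/-- B6.  `AllIso L 0` is everything. -/
theorem top_of_AllIso (hF : Fintype.card F = q ^ 2) {n : ℕ} (hn : 1 ≤ n)
    (h32 : ¬ (n = 3 ∧ q = 2)) (L : Subgroup ↥(Cfsg.SU n F q)) (h : AllIso L 0) : L = ⊤ := by
  apply top_of_forall hF hn h32
  intro a ha
  exact h a (fun j hj => absurd hj (Nat.not_lt_zero _)) ha

/-- B1.  one-dimensional growth, `embSU` form. -/
theorem step1 (hF : Fintype.card F = q ^ 2) (n : ℕ) (hn : 2 ≤ n) (h32 : ¬ (n = 3 ∧ q = 2))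
    (L : Subgroup ↥(Cfsg.SU (n + 1) F q))
    (hall : ∀ v : Fin n → F, Cfsg.hermForm n F q v v = 0 → XL (L.comap embSU) v)
    (xw : Fin (n + 1) → F) (hxw : XL L xw) (hxw0 : xw 0 ≠ 0) :
    ∀ x, Cfsg.hermForm (n + 1) F q x x = 0 → XL L x := by
  have hn2 : 2 ≤ n := hn
  have hTT : ∀ t ∈ TT n F q, embSU t ∈ L := by
    intro t ht
    exact TT_le_of_forall hF _ hall ht
  intro x hxx
  by_cases hx0 : x 0 = 0
  · have hx : x = up (Fin.tail x) := by
      conv_lhs => rw [← Fin.cons_self_tail x, hx0]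
      rfl
    rw [hx] at hxx ⊢
    rw [herm_up] at hxx
    exact XL_up hF (hall _ hxx)
  · obtain ⟨lam, hlam⟩ : ∃ lam : F, lam = xw 0 / x 0 := ⟨_, rfl⟩
    have hlam0 : lam ≠ 0 := by
      rw [hlam]
      exact div_ne_zero hxw0 hx0
    have hx : lam • x = Fin.cons (xw 0) (lam • Fin.tail x) := by
      funext j
      refine Fin.cases ?_ (fun j' => ?_) j
      · simp [hlam, div_mul_cancel₀ _ hx0]
      · simp [Fin.tail]
    have hw : xw = Fin.cons (xw 0) (Fin.tail xw) := (Fin.cons_self_tail xw).symm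
    obtain ⟨N, hN⟩ : ∃ N : F, N = -(xw 0 * xw 0 ^ q) := ⟨_, rfl⟩
    have hN0 : N ≠ 0 := by
      rw [hN]
      exact neg_ne_zero.mpr (mul_ne_zero hxw0 (pow_ne_zero _ hxw0))
    have hNq : N ^ q = N := by
      rw [hN, neg_pow_q hF, mul_pow, pow_q_q hF]
      ring
    have hn1 : Cfsg.hermForm n F q (Fin.tail xw) (Fin.tail xw) = N := by
      have h := hxw.1
      rw [herm_succ] at h
      rw [hN]
      linear_combination h
    have hn2' : Cfsg.hermForm n F q (lam • Fin.tail x) (lam • Fin.tail x) = N := by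
      have h : Cfsg.hermForm (n + 1) F q (lam • x) (lam • x) = 0 := by
        rw [herm_smul_left, herm_smul_right, hxx, mul_zero, mul_zero]
      rw [hx, herm_succ] at h
      simp only [Fin.cons_zero, Fin.tail_cons] at h
      rw [hN]
      linear_combination h
    obtain ⟨ρ, hρ⟩ := exists_norm (conjQ hF) (conjQ_ne_id hF) (conjQ_conjQ hF) N⁻¹
      (inv_ne_zero hN0) (by rw [conjQ_apply, inv_pow, hNq])
    rw [conjQ_apply] at hρ
    have hρ0 : ρ ≠ 0 := by
      rintro rfl
      rw [zero_mul] at hρ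
      exact inv_ne_zero hN0 hρ.symm
    have hρN : ρ * ρ ^ q * N = 1 := by rw [hρ, inv_mul_cancel₀ hN0]
    obtain ⟨t, ht, htv⟩ := rel_norm_one hF hn2 h32 (ρ • (lam • Fin.tail x))
      (ρ • Fin.tail xw)
      (by rw [herm_smul_left, herm_smul_right, hn2']; linear_combination hρN)
      (by rw [herm_smul_left, herm_smul_right, hn1]; linear_combination hρN)
    have htv' : av t (lam • Fin.tail x) = Fin.tail xw := by
      rw [av_smul] at htv
      have h5 := congrArg (fun y => ρ⁻¹ • y) htv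
      simp only [smul_smul, inv_mul_cancel₀ hρ0, one_smul] at h5
      exact h5
    have hgoal : av (embSU t) (lam • x) = xw := by
      rw [hx, av_embSU]
      simp only [Fin.cons_zero, Fin.tail_cons]
      rw [htv']
      exact hw.symm
    rw [← hgoal] at hxw
    have h6 := hxw.map _ (L.inv_mem (hTT t ht))
    rw [av_inv_av] at h6
    have h7 := h6.smul hF lam⁻¹
    rwa [smul_smul, inv_mul_cancel₀ hlam0, one_smul] at h7

end B

end Cfsg.Agent.Lib.Helper9.SURU
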