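import Mathlib
import Cfsg.Agent.Lib.Helper9.SURUB

/-!
# Regular unipotent generation of `SU_n(q)`: support lemmas and the inverse of an Eichler element
-/

set_option autoImplicit false
set_option linter.unusedSectionVars false
set_option linter.unusedVariables false

namespace Cfsg.Agent.Lib.Helper9.SURU

open Matrix Cfsg.Agent.Lib.Helper6 Cfsg.Agent.S0779 Cfsg.Agent.S0781
open Cfsg.Agent.Lib.Helper6.SUG Cfsg.Agent.Lib.Helper13 Cfsg.Agent.Lib.Helper9.SUGen

section sup
variable {F : Type*} [Field F] [Fintype F] {q : ℕ}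

theorem Sup.add {n c : ℕ} {v v' : Fin n → F} (h : Sup n c v) (h' : Sup n c v') :
    Sup n c (v + v') := by
  intro a ha
  rw [Pi.add_apply, h a ha, h' a ha, add_zero]

theorem Sup.sub {n c : ℕ} {v v' : Fin n → F} (h : Sup n c v) (h' : Sup n c v') :
    Sup n c (v - v') := by
  intro a ha
  rw [Pi.sub_apply, h a ha, h' a ha, sub_zero]

theorem Sup.smul {n c : ℕ} {v : Fin n → F} (h : Sup n c v) (l : F) : Sup n c (l • v) := by
  intro a ha
  rw [Pi.smul_apply, h a ha, smul_zero]

theorem Sup.neg {n c : ℕ} {v : Fin n → F} (h : Sup n c v) : Sup n c (-v) := by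
  intro a ha
  rw [Pi.neg_apply, h a ha, neg_zero]

theorem Sup.zero {n c : ℕ} : Sup n c (0 : Fin n → F) := fun _ _ => rfl

theorem Sup.mono {n c c' : ℕ} {v : Fin n → F} (h : Sup n c v) (hc : c' ≤ c) : Sup n c' v :=
  fun a ha => h a (by omega)

theorem Sup_pl {n c k : ℕ} (hk : c ≤ k) (a b : F) : Sup n c (pl n k a b) := by
  intro j hj
  exact pl_apply_of_ne k a b j (by omega) (by omega)

theorem Sup_sv {n c k : ℕ} (hk : c ≤ k) : Sup n c (sv n k : Fin n → F) := by
  intro j hj
  have : j.val ≠ k := by omega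
  simp [sv, this]

theorem sv_apply_same {n k : ℕ} (hk : k < n) : (sv n k : Fin n → F) ⟨k, hk⟩ = 1 := by
  simp [sv]

theorem sv_apply_of_ne {n k : ℕ} (j : Fin n) (h : j.val ≠ k) : (sv n k : Fin n → F) j = 0 := by
  simp [sv, h]

end sup

section eichinv
variable {F : Type*} [Field F] [Fintype F] {q n : ℕ}

local notation "hh" => Cfsg.hermForm n F q

/-- the inverse of an Eichler element -/
theorem av_eich_inv (hF : Fintype.card F = q ^ 2) (u v : Fin n → F) (c : F) (huu : hh u u = 0)
    (huv : hh u v = 0) (hc : c + c ^ q = hh v v) (x : Fin n → F) :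
    av (eich hF u v c huu huv hc)⁻¹ x = x - hh x u • (v + c ^ q • u) + hh x v • u := by
  have hvu : hh v u = 0 := herm_swap_zero hF huv
  have key : av (eich hF u v c huu huv hc) (x - hh x u • (v + c ^ q • u) + hh x v • u) = x := by
    rw [av_eich]
    simp only [herm_add_left, herm_sub_left', herm_smul_left, huu, huv, hvu, ← hc]
    module
  conv_lhs => rw [← key]
  rw [av_inv_av]

end eichinv

end Cfsg.Agent.Lib.Helper9.SURU
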