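import Mathlib
import Cfsg.Agent.Lib.Helper9.SURUC0
import Cfsg.Agent.Lib.Helper13.SubfField

/-!
# The unitary subfield subgroups `GU_n(q₀) < SU_n(q)`, `q = q₀ ^ r`, `r` odd: definitions

`K` is a subfield of `F` (`|F| = q²`, `|K| = q₀²`) on which `x ↦ x ^ q` is the involution
`x ↦ x ^ q₀`.  Rational vectors are `rvec K u`.  We work with a subgroup `L` of `SU n F q`
containing all rational elements.
-/

set_option autoImplicit false
set_option linter.unusedSectionVars false

namespace Cfsg.Agent.Lib.Helper9.USub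

open Matrix Cfsg.Agent.Lib.Helper6 Cfsg.Agent.S0779 Cfsg.Agent.S0781
open Cfsg.Agent.Lib.Helper6.SUG Cfsg.Agent.Lib.Helper13 Cfsg.Agent.Lib.Helper9.SUGen

section defs
variable {F : Type*} [Field F] [Fintype F] {q q₀ n : ℕ}

local notation "hh" => Cfsg.hermForm n F q

/-- the standing hypotheses on the subfield -/
structure SubD (q q₀ : ℕ) (K : Subfield F) [Fintype K] : Prop where
  hF : Fintype.card F = q ^ 2
  hK : Fintype.card K = q₀ ^ 2
  fr : ∀ x : K, (x : F) ^ q = (x : F) ^ q₀

/-- the matrix of `g` is rational -/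
def RatSU (K : Subfield F) (g : ↥(Cfsg.SU n F q)) : Prop :=
  ∀ i j, ((g : Matrix.SpecialLinearGroup (Fin n) F) : Matrix (Fin n) (Fin n) F) i j ∈ K

/-- a scalar multiple of a rational vector -/
def Pure (K : Subfield F) (x : Fin n → F) : Prop :=
  ∃ (l : F) (r : Fin n → K), x = l • rvec K r

/-- isotropic vectors all of whose transvections with rational parameter lie in `L` -/
def XK (K : Subfield F) (L : Subgroup ↥(Cfsg.SU n F q)) (w : Fin n → F) : Prop :=
  hh w w = 0 ∧ ∀ (A : ↥(Cfsg.SU n F q)) (c : F), c ∈ K → c ^ q = -c →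
    ((A : Matrix.SpecialLinearGroup (Fin n) F) : Matrix (Fin n) (Fin n) F) =
      Cfsg.unitaryTransvection n q w c → A ∈ L

/-- `L` contains a transvection with rational centre and non-rational parameter -/
def Good (K : Subfield F) (L : Subgroup ↥(Cfsg.SU n F q)) : Prop :=
  ∃ (p : Fin n → K) (b : F), p ≠ 0 ∧ hh (rvec K p) (rvec K p) = 0 ∧ b ^ q = -b ∧ b ∉ K ∧
    ∀ A : ↥(Cfsg.SU n F q),
      ((A : Matrix.SpecialLinearGroup (Fin n) F) : Matrix (Fin n) (Fin n) F) =
        Cfsg.unitaryTransvection n q (rvec K p) b → A ∈ L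

theorem XK.tv_mem (hF : Fintype.card F = q ^ 2) {K : Subfield F}
    {L : Subgroup ↥(Cfsg.SU n F q)} {w : Fin n → F} (hw : XK K L w) (c : F) (hcK : c ∈ K)
    (hc : c ^ q = -c) : tv hF w c hw.1 hc ∈ L :=
  hw.2 _ c hcK hc rfl

theorem XK.intro (hF : Fintype.card F = q ^ 2) {K : Subfield F}
    {L : Subgroup ↥(Cfsg.SU n F q)} {w : Fin n → F} (hww : hh w w = 0)
    (h : ∀ (c : F) (_ : c ∈ K) (hc : c ^ q = -c), tv hF w c hww hc ∈ L) : XK K L w := by
  refine ⟨hww, ?_⟩
  intro A c hcK hc hA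
  have : A = tv hF w c hww hc := by
    apply Subtype.ext
    apply Subtype.ext
    exact hA
  rw [this]
  exact h c hcK hc

theorem XK.map (hF : Fintype.card F = q ^ 2) {K : Subfield F}
    {L : Subgroup ↥(Cfsg.SU n F q)} {w : Fin n → F} (hw : XK K L w)
    (g : ↥(Cfsg.SU n F q)) (hg : g ∈ L) : XK K L (av g w) := by
  have hgw : hh (av g w) (av g w) = 0 := by rw [herm_av]; exact hw.1
  apply XK.intro hF hgw
  intro c hcK hc
  rw [← conj_tv hF g w c hw.1 hc]
  exact L.mul_mem (L.mul_mem hg (hw.tv_mem hF c hcK hc)) (L.inv_mem hg)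

theorem Good.intro (hF : Fintype.card F = q ^ 2) {K : Subfield F}
    {L : Subgroup ↥(Cfsg.SU n F q)} (p : Fin n → K) (b : F) (hp : p ≠ 0)
    (hpp : hh (rvec K p) (rvec K p) = 0) (hb : b ^ q = -b) (hbK : b ∉ K)
    (h : tv hF (rvec K p) b hpp hb ∈ L) : Good K L := by
  refine ⟨p, b, hp, hpp, hb, hbK, ?_⟩
  intro A hA
  have : A = tv hF (rvec K p) b hpp hb := by
    apply Subtype.ext
    apply Subtype.ext
    exact hA
  rw [this]
  exact h

theorem RatSU.one (K : Subfield F) : RatSU K (1 : ↥(Cfsg.SU n F q)) := by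
  intro i j
  change (1 : Matrix (Fin n) (Fin n) F) i j ∈ K
  by_cases hij : i = j
  · subst hij
    rw [Matrix.one_apply_eq]
    exact K.one_mem
  · rw [Matrix.one_apply_ne hij]
    exact K.zero_mem

theorem RatSU.mul {K : Subfield F} {g h : ↥(Cfsg.SU n F q)} (hg : RatSU K g) (hh' : RatSU K h) :
    RatSU K (g * h) := by
  intro i j
  change (((g : Matrix.SpecialLinearGroup (Fin n) F) : Matrix (Fin n) (Fin n) F) *
    ((h : Matrix.SpecialLinearGroup (Fin n) F) : Matrix (Fin n) (Fin n) F)) i j ∈ K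
  rw [Matrix.mul_apply]
  exact K.sum_mem (fun k _ => K.mul_mem (hg i k) (hh' k j))

/-- the matrix entries of an element of `SU` in terms of `av` -/
theorem av_single (g : ↥(Cfsg.SU n F q)) (i j : Fin n) :
    av g (Pi.single j 1) i =
      ((g : Matrix.SpecialLinearGroup (Fin n) F) : Matrix (Fin n) (Fin n) F) i j := by
  unfold av
  rw [Matrix.mulVec_single_one]
  rfl

theorem RatSU.of_av {K : Subfield F} {g : ↥(Cfsg.SU n F q)}
    (h : ∀ j, ∃ r : Fin n → K, av g (Pi.single j 1) = rvec K r) : RatSU K g := by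
  intro i j
  obtain ⟨r, hr⟩ := h j
  rw [← av_single, hr]
  exact (r i).2

theorem RatSU.av_rvec {K : Subfield F} {g : ↥(Cfsg.SU n F q)} (hg : RatSU K g)
    (u : Fin n → K) : ∃ r : Fin n → K, av g (rvec K u) = rvec K r := by
  refine ⟨fun i => ∑ j, ⟨_, hg i j⟩ * u j, ?_⟩
  funext i
  unfold av rvec
  simp only [Matrix.mulVec, dotProduct]
  push_cast
  rfl

/-- a rational element of `SU` lies in the subfield subgroup of the identity matrix -/
theorem RatSU.mem_subfield {K : Subfield F} {g : ↥(Cfsg.SU n F q)} (hg : RatSU K g) :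
    suGL n F q g ∈ Cfsg.Geo.subfieldSubgroup K (1 : GL (Fin n) F) := by
  refine mem_subfieldSubgroup_of_eq K 1 _ 1 one_ne_zero (fun i j => ⟨_, hg i j⟩) ?_
  rw [one_smul, inv_one, one_mul, mul_one]
  rfl

theorem herm_single_left' (v : Fin n → F) (j : Fin n) :
    hh (Pi.single j 1) v = (v j) ^ q := by
  classical
  simp only [Cfsg.hermForm]
  rw [Finset.sum_eq_single j]
  · simp
  · intro i _ hij
    simp [hij]
  · intro h
    exact absurd (Finset.mem_univ j) h

/-- a transvection with rational centre and rational parameter is rational -/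
theorem ratSU_tv (hF : Fintype.card F = q ^ 2) (K : Subfield F) (u : Fin n → K) (c : F)
    (hcK : c ∈ K) (huu : hh (rvec K u) (rvec K u) = 0) (hc : c ^ q = -c) :
    RatSU K (tv hF (rvec K u) c huu hc) := by
  apply RatSU.of_av
  intro j
  refine ⟨fun i => (Pi.single j (1 : K) : Fin n → K) i + (⟨c, hcK⟩ * (u j) ^ q) * u i, ?_⟩
  rw [av_tv, herm_single_left']
  funext i
  simp only [rvec, Pi.add_apply, Pi.smul_apply, smul_eq_mul]
  by_cases hij : i = j
  · subst hij
    simp
  · simp [hij]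

/-- the form on rational vectors is the standard form over `K` -/
theorem herm_rvec {K : Subfield F} [Fintype K] (D : SubD q q₀ K) (u v : Fin n → K) :
    hh (rvec K u) (rvec K v) = ((Cfsg.hermForm n K q₀ u v : K) : F) := by
  simp only [Cfsg.hermForm, rvec]
  push_cast
  apply Finset.sum_congr rfl
  intro i _
  rw [D.fr]

theorem herm_rvec_mem {K : Subfield F} [Fintype K] (D : SubD q q₀ K) (u v : Fin n → K) :
    hh (rvec K u) (rvec K v) ∈ K := by
  rw [herm_rvec D]
  exact Subtype.property _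

theorem SubD.pow_mem {K : Subfield F} [Fintype K] (_D : SubD q q₀ K) {x : F} (hx : x ∈ K) :
    x ^ q ∈ K := K.pow_mem hx q

/-- a hyperbolic frame over `K` gives a hyperbolic frame over `F` -/
def upHyp {K : Subfield F} [Fintype K] (D : SubD q q₀ K) (C₀ : Hyp K q₀) : Hyp F q where
  u0 := C₀.u0
  u1 := C₀.u1
  v0 := C₀.v0
  v1 := C₀.v1
  huu := by
    have := congrArg (fun x : K => (x : F)) C₀.huu
    push_cast at this
    rw [D.fr, D.fr]
    exact this
  hvv := by
    have := congrArg (fun x : K => (x : F)) C₀.hvv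
    push_cast at this
    rw [D.fr, D.fr]
    exact this
  huv := by
    have := congrArg (fun x : K => (x : F)) C₀.huv
    push_cast at this
    rw [D.fr, D.fr]
    exact this

theorem rvec_pl (K : Subfield F) (n k : ℕ) (a b : K) :
    rvec K (pl n k a b) = pl n k (a : F) (b : F) := by
  funext j
  simp only [rvec, pl]
  split_ifs <;> simp

theorem rvec_ev {K : Subfield F} [Fintype K] (D : SubD q q₀ K) (C₀ : Hyp K q₀) (n k : ℕ) :
    rvec K (ev C₀ n k) = ev (upHyp D C₀) n k := rvec_pl K n k _ _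

theorem rvec_fv {K : Subfield F} [Fintype K] (D : SubD q q₀ K) (C₀ : Hyp K q₀) (n k : ℕ) :
    rvec K (fv C₀ n k) = fv (upHyp D C₀) n k := rvec_pl K n k _ _

end defs

end Cfsg.Agent.Lib.Helper9.USub
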