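import Mathlib
import Cfsg.Agent.Lib.Helper9.USubDefs

/-!
# Unitary subfield subgroups: the Sylow trick

Two transvections `tv u z`, `tv w z` in `L` with `h(u, w) ≠ 0`: some element of the group they
generate maps `u` into `F w` and fixes `⟨u, w⟩^⊥` pointwise.
-/

set_option autoImplicit false
set_option linter.unusedSectionVars false
set_option linter.unusedVariables false

namespace Cfsg.Agent.Lib.Helper9.USub

open Matrix Cfsg.Agent.Lib.Helper6 Cfsg.Agent.S0779 Cfsg.Agent.S0781
open Cfsg.Agent.Lib.Helper6.SUG Cfsg.Agent.Lib.Helper13 Cfsg.Agent.Lib.Helper9.SUGen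

/-- two `p`-elements of a finite group: a conjugate of the first (inside the group they generate)
generates a `p`-group together with the second -/
theorem exists_conj_mul_pow {G : Type*} [Group G] [Finite G] (p : ℕ) [hp : Fact p.Prime]
    (x t : G) (hx : x ^ p = 1) (ht : t ^ p = 1) :
    ∃ d ∈ Subgroup.closure ({x, t} : Set G), ∃ k : ℕ, (d * x * d⁻¹ * t) ^ (p ^ k) = 1 := by
  classical
  have hxm : x ∈ Subgroup.closure ({x, t} : Set G) := Subgroup.subset_closure (by simp)
  have htm : t ∈ Subgroup.closure ({x, t} : Set G) := Subgroup.subset_closure (by simp)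
  set D := Subgroup.closure ({x, t} : Set G) with hD
  let x' : D := ⟨x, hxm⟩
  let t' : D := ⟨t, htm⟩
  have hx' : x' ^ p = 1 := Subtype.ext hx
  have ht' : t' ^ p = 1 := Subtype.ext ht
  have hpg : ∀ y : D, y ^ p = 1 → IsPGroup p (Subgroup.zpowers y) := by
    intro y hy
    rintro ⟨g, hg⟩
    obtain ⟨m, rfl⟩ := Subgroup.mem_zpowers_iff.mp hg
    refine ⟨1, Subtype.ext ?_⟩
    change (y ^ m) ^ p ^ 1 = 1
    rw [pow_one, ← zpow_natCast, ← _root_.zpow_mul, mul_comm, _root_.zpow_mul, zpow_natCast, hy, _root_.one_zpow]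
  obtain ⟨Px, hPx⟩ := (hpg x' hx').exists_le_sylow
  obtain ⟨Pt, hPt⟩ := (hpg t' ht').exists_le_sylow
  obtain ⟨d, hd⟩ := MulAction.exists_smul_eq D Px Pt
  have h1 : d * x' * d⁻¹ ∈ (Pt : Subgroup D) := by
    rw [← hd, Sylow.coe_subgroup_smul, Subgroup.mem_pointwise_smul_iff_inv_smul_mem,
      MulAut.smul_def, MulAut.inv_apply, MulAut.conj_symm_apply]
    have : d⁻¹ * (d * x' * d⁻¹) * d = x' := by group
    rw [this]
    exact hPx (Subgroup.mem_zpowers x')
  have h2 : t' ∈ (Pt : Subgroup D) := hPt (Subgroup.mem_zpowers t')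
  have h3 := Pt.isPGroup' ⟨d * x' * d⁻¹ * t', (Pt : Subgroup D).mul_mem h1 h2⟩
  obtain ⟨k, hk⟩ := h3
  refine ⟨d, d.2, k, ?_⟩
  have h4 := congrArg (fun g : (Pt : Subgroup D) => ((g : D) : G)) hk
  simpa using h4

section sylow
variable {F : Type*} [Field F] [Fintype F] {q n : ℕ}

local notation "hh" => Cfsg.hermForm n F q

theorem av_tv_pow (hF : Fintype.card F = q ^ 2) (u : Fin n → F) (z : F) (huu : hh u u = 0)
    (hz : z ^ q = -z) (k : ℕ) (y : Fin n → F) :
    av ((tv hF u z huu hz) ^ k) y = y + ((k : F) * z * hh y u) • u := by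
  induction k generalizing y with
  | zero => simp [av_one]
  | succ k ih =>
    rw [pow_succ, av_mul, ih, av_tv, herm_add_left, herm_smul_left, huu]
    push_cast
    module

theorem tv_pow_char (hF : Fintype.card F = q ^ 2) (p : ℕ) [CharP F p] (u : Fin n → F) (z : F)
    (huu : hh u u = 0) (hz : z ^ q = -z) : (tv hF u z huu hz) ^ p = 1 := by
  apply ext_av
  intro y
  rw [av_tv_pow, av_one, CharP.cast_eq_zero F p]
  simp

theorem tv_inv' (hF : Fintype.card F = q ^ 2) (u : Fin n → F) (z : F) (huu : hh u u = 0)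
    (hz : z ^ q = -z) (y : Fin n → F) :
    av (tv hF u z huu hz)⁻¹ y = y + (-z * hh y u) • u := by
  have key : av (tv hF u z huu hz) (y + (-z * hh y u) • u) = y := by
    rw [av_tv, herm_add_left, herm_smul_left, huu]
    module
  conv_lhs => rw [← key]
  rw [av_inv_av]

/-- the trace of `tv a c * tv b c' - 1` -/
theorem trace_tv_mul_tv (hF : Fintype.card F = q ^ 2) (a b : Fin n → F) (c c' : F) :
    Matrix.trace (Cfsg.unitaryTransvection n q a c * Cfsg.unitaryTransvection n q b c' - 1) =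
      c * hh a a + c' * hh b b + c * c' * (hh b a * hh a b) := by
  unfold Cfsg.unitaryTransvection
  have e : (1 + c • vecMulVec a fun j => a j ^ q) * (1 + c' • vecMulVec b fun j => b j ^ q) - 1 =
      c • vecMulVec a (fun j => a j ^ q) + c' • vecMulVec b (fun j => b j ^ q) +
        (c * c') • (vecMulVec a (fun j => a j ^ q) * vecMulVec b (fun j => b j ^ q)) := by
    rw [add_mul, one_mul, mul_add, mul_one, Matrix.smul_mul, Matrix.mul_smul, smul_smul]
    abel
  rw [e, vecMulVec_mul_vecMulVec, Matrix.trace_add, Matrix.trace_add, Matrix.trace_smul,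
    Matrix.trace_smul, Matrix.trace_smul, trace_vecMulVec, trace_vecMulVec, trace_vecMulVec]
  simp only [Cfsg.hermForm, dotProduct, Pi.smul_apply, smul_eq_mul]
  have e2 : ∑ x, a x ^ q * b x = ∑ i, b i * a i ^ q :=
    Finset.sum_congr rfl (fun i _ => mul_comm _ _)
  have e3 : ∑ i, a i * ((∑ x, a x ^ q * b x) * b i ^ q) =
      (∑ i, b i * a i ^ q) * ∑ i, a i * b i ^ q := by
    rw [e2, Finset.mul_sum]
    apply Finset.sum_congr rfl
    intro i _
    ring
  rw [e3]

/-- if `tv a z * tv w z` has `p`-power order then `a ⟂ w` -/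
theorem herm_eq_zero_of_pow (hF : Fintype.card F = q ^ 2) (p : ℕ) [hp : Fact p.Prime] [CharP F p]
    (a w : Fin n → F) (haa : hh a a = 0) (hww : hh w w = 0) (z : F) (hz0 : z ≠ 0)
    (hz : z ^ q = -z) (k : ℕ) (h : (tv hF a z haa hz * tv hF w z hww hz) ^ (p ^ k) = 1) :
    hh a w = 0 := by
  classical
  by_cases hn : n = 0
  · subst hn
    simp [Cfsg.hermForm]
  have : Nonempty (Fin n) := ⟨⟨0, by omega⟩⟩
  have hM : (Cfsg.unitaryTransvection n q a z * Cfsg.unitaryTransvection n q w z) ^ (p ^ k) = 1 := by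
    have h1 := congrArg (fun g : ↥(Cfsg.SU n F q) =>
      ((g : Matrix.SpecialLinearGroup (Fin n) F) : Matrix (Fin n) (Fin n) F)) h
    simp only [Subgroup.coe_pow, Matrix.SpecialLinearGroup.coe_pow, Subgroup.coe_mul,
      Matrix.SpecialLinearGroup.coe_mul] at h1
    exact h1
  have hnil : IsNilpotent
      (Cfsg.unitaryTransvection n q a z * Cfsg.unitaryTransvection n q w z - 1) := by
    refine ⟨p ^ k, ?_⟩
    have hc : Commute (Cfsg.unitaryTransvection n q a z * Cfsg.unitaryTransvection n q w z)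
        (1 : Matrix (Fin n) (Fin n) F) := Commute.one_right _
    rw [sub_pow_char_pow_of_commute p k hc, hM, one_pow, sub_self]
  have htr := (Matrix.isNilpotent_trace_of_isNilpotent hnil).eq_zero
  rw [trace_tv_mul_tv hF, haa, hww, mul_zero, zero_add, zero_add] at htr
  have hwa : hh w a = (hh a w) ^ q := (herm_conj hF a w).symm
  rw [hwa] at htr
  by_contra hne
  have : z * z * ((hh a w) ^ q * hh a w) ≠ 0 :=
    mul_ne_zero (mul_ne_zero hz0 hz0) (mul_ne_zero (pow_ne_zero _ hne) hne)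
  exact this htr

/-- the elements of the group generated by `tv u z`, `tv w z` fix `⟨u, w⟩^⊥` pointwise and
preserve `⟨u, w⟩` -/
theorem closure_props (hF : Fintype.card F = q ^ 2) (u w : Fin n → F) (huu : hh u u = 0)
    (hww : hh w w = 0) (z : F) (hz : z ^ q = -z) (d : ↥(Cfsg.SU n F q))
    (hd : d ∈ Subgroup.closure ({tv hF u z huu hz, tv hF w z hww hz} : Set ↥(Cfsg.SU n F q))) :
    (∀ y, hh y u = 0 → hh y w = 0 → av d y = y) ∧
      ∀ α β : F, ∃ α' β' : F, av d (α • u + β • w) = α' • u + β' • w := by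
  induction hd using Subgroup.closure_induction'' with
  | mem x hx =>
    rcases hx with rfl | rfl
    · refine ⟨fun y h1 _ => by rw [av_tv, h1, mul_zero, zero_smul, add_zero], fun α β => ?_⟩
      exact ⟨α + z * hh (α • u + β • w) u, β, by rw [av_tv]; module⟩
    · refine ⟨fun y _ h2 => by rw [av_tv, h2, mul_zero, zero_smul, add_zero], fun α β => ?_⟩
      exact ⟨α, β + z * hh (α • u + β • w) w, by rw [av_tv]; module⟩
  | inv_mem x hx =>
    rcases hx with rfl | rfl
    · refine ⟨fun y h1 _ => by rw [tv_inv', h1, mul_zero, zero_smul, add_zero], fun α β => ?_⟩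
      exact ⟨α + -z * hh (α • u + β • w) u, β, by rw [tv_inv']; module⟩
    · refine ⟨fun y _ h2 => by rw [tv_inv', h2, mul_zero, zero_smul, add_zero], fun α β => ?_⟩
      exact ⟨α, β + -z * hh (α • u + β • w) w, by rw [tv_inv']; module⟩
  | one =>
    exact ⟨fun y _ _ => av_one y, fun α β => ⟨α, β, av_one _⟩⟩
  | mul x y _ _ ihx ihy =>
    refine ⟨fun v h1 h2 => by rw [av_mul, ihy.1 v h1 h2, ihx.1 v h1 h2], fun α β => ?_⟩
    obtain ⟨α', β', h1⟩ := ihy.2 α β
    obtain ⟨α'', β'', h2⟩ := ihx.2 α' β'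
    exact ⟨α'', β'', by rw [av_mul, h1, h2]⟩

/-- **B5, the Sylow trick** -/
theorem exists_delta (hF : Fintype.card F = q ^ 2) (L : Subgroup ↥(Cfsg.SU n F q))
    (u w : Fin n → F) (huu : hh u u = 0) (hww : hh w w = 0) (huw : hh u w ≠ 0) (z : F)
    (hz0 : z ≠ 0) (hz : z ^ q = -z) (hu : tv hF u z huu hz ∈ L) (hw : tv hF w z hww hz ∈ L) :
    ∃ d ∈ L, (∀ y, hh y u = 0 → hh y w = 0 → av d y = y) ∧ ∃ c : F, av d u = c • w := by
  classical
  obtain ⟨p, hchar⟩ := CharP.exists F
  have hp : Fact p.Prime := ⟨CharP.char_is_prime F p⟩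
  have : Finite ↥(Cfsg.SU n F q) := inferInstance
  obtain ⟨d, hd, k, hk⟩ := exists_conj_mul_pow p (tv hF u z huu hz) (tv hF w z hww hz)
    (tv_pow_char hF p u z huu hz) (tv_pow_char hF p w z hww hz)
  have hdL : d ∈ L := by
    have hle : Subgroup.closure ({tv hF u z huu hz, tv hF w z hww hz} : Set ↥(Cfsg.SU n F q)) ≤ L := by
      rw [Subgroup.closure_le]
      rintro x (rfl | rfl)
      · exact hu
      · exact hw
    exact hle hd
  obtain ⟨hfix, hspan⟩ := closure_props hF u w huu hww z hz d hd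
  refine ⟨d, hdL, hfix, ?_⟩
  obtain ⟨α, β, hαβ⟩ := hspan 1 0
  rw [one_smul, zero_smul, add_zero] at hαβ
  rw [conj_tv hF d u z huu hz] at hk
  have h0 := herm_eq_zero_of_pow hF p (av d u) w (by rw [herm_av]; exact huu) hww z hz0 hz k hk
  rw [hαβ, herm_add_left, herm_smul_left, herm_smul_left, hww, mul_zero, add_zero] at h0
  have hα : α = 0 := (mul_eq_zero.mp h0).resolve_right huw
  exact ⟨β, by rw [hαβ, hα, zero_smul, zero_add]⟩

end sylow

end Cfsg.Agent.Lib.Helper9.USub
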