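import Mathlib
import Cfsg.Agent.Lib.Helper1.OrthSubfDefs
import Cfsg.Agent.Lib.Helper9.USubB5

/-!
# The Sylow trick for two opposite totally singular lines of a quadratic form

`(u,c)` and `(w,y)` totally singular pairs of a quadratic form `Q` over a finite field with
`Δ = B(u,w)B(c,y) - B(u,y)B(c,w) ≠ 0`.  If a subgroup `M` of `GL_n(F)` contains the long root elements
`ρ_{u,c}` and `ρ_{w,y}`, then some isometry `δ ∈ M` maps `u` to a non-zero multiple of
`B(u,y) w - B(u,w) y` (a vector of the line `⟨w,y⟩`).  All characteristics.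
-/

set_option autoImplicit false
set_option linter.unusedSectionVars false
set_option linter.unusedVariables false

namespace Cfsg.Agent.Lib.Helper9.OrthSyl

open Matrix QuadraticMap Cfsg.Agent.Lib.Helper6 Cfsg.Agent.Lib.Helper1.SubfSL
open Cfsg.Agent.Lib.Helper1.OrthSubf

universe u
variable {F : Type u} [Field F] {n : ℕ} (Q : QuadraticForm F (Fin n → F))


/-- powers of a Siegel transformation -/
theorem siegIso_pow (u c : Fin n → F) (hu : Q u = 0) (huc : polar (⇑Q) u c = 0) (j : ℕ) :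
    (siegIso Q u c hu huc) ^ j =
      siegIso Q u ((j : F) • c) hu (by rw [polar_smul_right, huc, smul_zero]) := by
  induction j with
  | zero =>
    rw [pow_zero]
    rw [siegIso_congr Q u (((0 : ℕ) : F) • c) 0 hu _ (by simp)]
    exact (siegIso_zero Q u hu).symm
  | succ j ih =>
    rw [pow_succ, ih, siegIso_mul]
    exact siegIso_congr Q u _ _ hu _ (by push_cast; rw [add_smul, one_smul])

theorem siegIso_pow_char (p : ℕ) [CharP F p] (u c : Fin n → F) (hu : Q u = 0) (huc : polar (⇑Q) u c = 0) :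
    (siegIso Q u c hu huc) ^ p = 1 := by
  rw [siegIso_pow]
  rw [siegIso_congr Q u (((p : ℕ) : F) • c) 0 hu _ (by rw [CharP.cast_eq_zero F p, zero_smul])]
  exact siegIso_zero Q u hu

/-- a nilpotent operator acting on a plane `⟨u, b⟩` through a `2 × 2` matrix has trace zero there -/
theorem trace_zero_of_nilpotent (m : Matrix (Fin n) (Fin n) F) (N : ℕ) (hm : m ^ N = 0)
    (u b : Fin n → F) (hind : ∀ s t : F, s • u + t • b = 0 → s = 0 ∧ t = 0)
    (m11 m12 m21 m22 : F) (h1 : m *ᵥ u = m11 • u + m21 • b) (h2 : m *ᵥ b = m12 • u + m22 • b) :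
    m11 + m22 = 0 := by
  set m₂ : Matrix (Fin 2) (Fin 2) F := !![m11, m12; m21, m22] with hm₂
  have key : ∀ (j : ℕ) (v : Fin 2 → F), (m ^ j) *ᵥ (v 0 • u + v 1 • b) =
      ((m₂ ^ j) *ᵥ v) 0 • u + ((m₂ ^ j) *ᵥ v) 1 • b := by
    intro j
    induction j with
    | zero => intro v; simp
    | succ j ih =>
      intro v
      rw [pow_succ, ← mulVec_mulVec, mulVec_add, mulVec_smul, mulVec_smul, h1, h2]
      have e : v 0 • (m11 • u + m21 • b) + v 1 • (m12 • u + m22 • b) =
          (m₂ *ᵥ v) 0 • u + (m₂ *ᵥ v) 1 • b := by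
        have e0 : (m₂ *ᵥ v) 0 = m11 * v 0 + m12 * v 1 := by
          simp [hm₂, Matrix.mulVec, dotProduct, Fin.sum_univ_two]
        have e1 : (m₂ *ᵥ v) 1 = m21 * v 0 + m22 * v 1 := by
          simp [hm₂, Matrix.mulVec, dotProduct, Fin.sum_univ_two]
        rw [e0, e1]
        module
      rw [e, ih (m₂ *ᵥ v), pow_succ, mulVec_mulVec]
  have hz : m₂ ^ N = 0 := by
    apply matrix_ext_mulVec
    intro v
    have h := key N v
    rw [hm, zero_mulVec] at h
    obtain ⟨e0, e1⟩ := hind _ _ h.symm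
    rw [zero_mulVec]
    ext i
    fin_cases i
    · exact e0
    · exact e1
  have hnil : IsNilpotent m₂ := ⟨N, hz⟩
  have htr := (Matrix.isNilpotent_trace_of_isNilpotent hnil).eq_zero
  rw [Matrix.trace_fin_two] at htr
  simpa [hm₂] using htr

section core
variable [Fintype F]

/-- the core computation: if `ρ_{αu+γb, αc-γa} τ` is a `p`-element then `α = 0` -/
theorem alpha_eq_zero (p : ℕ) [hp : Fact p.Prime] [CharP F p] (u c a b : Fin n → F) (Δ : F)
    (hΔ : Δ ≠ 0) (huu : polar (⇑Q) u u = 0) (hbb : polar (⇑Q) b b = 0) (hub : polar (⇑Q) u b = 0) (hcu : polar (⇑Q) c u = 0)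
    (hcb : polar (⇑Q) c b = Δ) (hau : polar (⇑Q) a u = Δ) (hab : polar (⇑Q) a b = 0)
    (τ : ↥(Cfsg.isometryGroup F ⇑Q)) (hτu : gact Q τ u = u - b) (hτb : gact Q τ b = b)
    (α γ : F) (u' c' : Fin n → F) (hu' : Q u' = 0) (hu'c' : polar (⇑Q) u' c' = 0)
    (eu : u' = α • u + γ • b) (ec : c' = α • c - γ • a) (k : ℕ)
    (hpow : (siegIso Q u' c' hu' hu'c' * τ) ^ (p ^ k) = 1) : α = 0 := by
  classical
  by_cases hn : n = 0
  · subst hn
    exfalso
    apply hΔ
    rw [← hcb]
    have : c = 0 := Subsingleton.elim _ _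
    rw [this, polar_zero_left]
  have : Nonempty (Fin n) := ⟨⟨0, by omega⟩⟩
  set T := siegIso Q u' c' hu' hu'c' * τ with hT
  obtain ⟨Tm, hTm⟩ : ∃ Tm : Matrix (Fin n) (Fin n) F, Tm = ((T : GL (Fin n) F) : Matrix (Fin n) (Fin n) F) :=
    ⟨_, rfl⟩
  have hTpow : Tm ^ (p ^ k) = 1 := by
    have h1 := congrArg (fun g : ↥(Cfsg.isometryGroup F ⇑Q) =>
      ((g : GL (Fin n) F) : Matrix (Fin n) (Fin n) F)) hpow
    simp only [Subgroup.coe_pow, Units.val_pow_eq_pow_val, Subgroup.coe_one, Units.val_one] at h1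
    rw [hTm]
    exact h1
  have hnil : (Tm - 1) ^ (p ^ k) = 0 := by
    have hc : Commute Tm (1 : Matrix (Fin n) (Fin n) F) := Commute.one_right _
    rw [sub_pow_char_pow_of_commute p k hc, hTpow, one_pow, sub_self]
  have hTv : ∀ x, Tm *ᵥ x = gact Q T x := fun x => by rw [hTm]; rfl
  -- pairings with `u'`, `c'`
  have hbu : polar (⇑Q) b u = 0 := by rw [polar_comm, hub]
  have hu'u : polar (⇑Q) u' u = 0 := by
    rw [eu, polar_add_left, polar_smul_left, polar_smul_left, huu, hbu, smul_zero, smul_zero, add_zero]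
  have hu'b : polar (⇑Q) u' b = 0 := by
    rw [eu, polar_add_left, polar_smul_left, polar_smul_left, hub, hbb, smul_zero, smul_zero, add_zero]
  have hc'u : polar (⇑Q) c' u = -(γ * Δ) := by
    rw [ec, polar_sub_left, polar_smul_left, polar_smul_left, hcu, hau, smul_zero, zero_sub, smul_eq_mul]
  have hc'b : polar (⇑Q) c' b = α * Δ := by
    rw [ec, polar_sub_left, polar_smul_left, polar_smul_left, hcb, hab, smul_zero, sub_zero, smul_eq_mul]
  have hAu : gact Q (siegIso Q u' c' hu' hu'c') u = u + (-(γ * Δ)) • u' := by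
    rw [gact_siegIso, hu'u, hc'u]
    simp
  have hAb : gact Q (siegIso Q u' c' hu' hu'c') b = b + (α * Δ) • u' := by
    rw [gact_siegIso, hu'b, hc'b]
    simp
  have h1 : (Tm - 1) *ᵥ u = (-((α + γ) * Δ * α)) • u + (-1 - (α + γ) * Δ * γ) • b := by
    rw [sub_mulVec, one_mulVec, hTv, hT, gact_mul, hτu, gact_sub, hAu, hAb, eu]
    module
  have h2 : (Tm - 1) *ᵥ b = (α * α * Δ) • u + (α * Δ * γ) • b := by
    rw [sub_mulVec, one_mulVec, hTv, hT, gact_mul, hτb, hAb, eu]
    module
  have hind : ∀ s t : F, s • u + t • b = 0 → s = 0 ∧ t = 0 := by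
    intro s t h
    have e1 := congrArg (fun v => polar (⇑Q) c v) h
    have e2 := congrArg (fun v => polar (⇑Q) a v) h
    simp only [polar_add_right, polar_smul_right, hcu, hcb, hau, hab, smul_eq_mul, mul_zero,
      zero_add, add_zero, polar_zero_right] at e1 e2
    exact ⟨(mul_eq_zero.mp e2).resolve_right hΔ, (mul_eq_zero.mp e1).resolve_right hΔ⟩
  have htr := trace_zero_of_nilpotent (Tm - 1) (p ^ k) hnil u b hind _ _ _ _ h1 h2
  have h3 : α * α * Δ = 0 := by linear_combination -htr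
  rcases mul_eq_zero.mp h3 with h4 | h4
  · exact mul_self_eq_zero.mp h4
  · exact absurd h4 hΔ

end core

/-- the elements of the group generated by `ρ_{u,c}` and `ρ_{w,y}` act on the two lines
`⟨u, b⟩`, `⟨c, a⟩` of the opposite regulus through the same `2 × 2` matrix -/
theorem closure_props (u c w y : Fin n → F) (hu : Q u = 0) (hc : Q c = 0) (huc : polar (⇑Q) u c = 0)
    (hw : Q w = 0) (hy : Q y = 0) (hwy : polar (⇑Q) w y = 0) (a b : Fin n → F) (Δ : F)
    (ha : a = polar (⇑Q) c y • w - polar (⇑Q) c w • y) (hb : b = polar (⇑Q) u w • y - polar (⇑Q) u y • w)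
    (hΔ : Δ = polar (⇑Q) u w * polar (⇑Q) c y - polar (⇑Q) u y * polar (⇑Q) c w)
    (d : ↥(Cfsg.isometryGroup F ⇑Q))
    (hd : d ∈ Subgroup.closure ({siegIso Q u c hu huc, siegIso Q w y hw hwy} :
      Set ↥(Cfsg.isometryGroup F ⇑Q))) :
    ∀ s t : F, ∃ s' t' : F, gact Q d (s • u + t • b) = s' • u + t' • b ∧
      gact Q d (s • c - t • a) = s' • c - t' • a := by
  have huu : polar (⇑Q) u u = 0 := by rw [polar_self, hu, smul_zero]
  have hcc : polar (⇑Q) c c = 0 := by rw [polar_self, hc, smul_zero]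
  have hww : polar (⇑Q) w w = 0 := by rw [polar_self, hw, smul_zero]
  have hyy : polar (⇑Q) y y = 0 := by rw [polar_self, hy, smul_zero]
  have hcu : polar (⇑Q) c u = 0 := by rw [polar_comm, huc]
  have hyw : polar (⇑Q) y w = 0 := by rw [polar_comm, hwy]
  have hwu : polar (⇑Q) w u = polar (⇑Q) u w := polar_comm _ _ _
  have hyu : polar (⇑Q) y u = polar (⇑Q) u y := polar_comm _ _ _
  have hwc : polar (⇑Q) w c = polar (⇑Q) c w := polar_comm _ _ _
  have hyc : polar (⇑Q) y c = polar (⇑Q) c y := polar_comm _ _ _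
  -- pairings
  have hub : polar (⇑Q) u b = 0 := by
    rw [hb, polar_sub_right, polar_smul_right, polar_smul_right, smul_eq_mul, smul_eq_mul]; ring
  have hcb : polar (⇑Q) c b = Δ := by
    rw [hb, polar_sub_right, polar_smul_right, polar_smul_right, smul_eq_mul, smul_eq_mul, hΔ]
  have hua : polar (⇑Q) u a = Δ := by
    rw [ha, polar_sub_right, polar_smul_right, polar_smul_right, smul_eq_mul, smul_eq_mul, hΔ]; ring
  have hca : polar (⇑Q) c a = 0 := by
    rw [ha, polar_sub_right, polar_smul_right, polar_smul_right, smul_eq_mul, smul_eq_mul]; ring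
  have hwb : polar (⇑Q) w b = 0 := by
    rw [hb, polar_sub_right, polar_smul_right, polar_smul_right, hwy, hww, smul_zero, smul_zero,
      sub_zero]
  have hyb : polar (⇑Q) y b = 0 := by
    rw [hb, polar_sub_right, polar_smul_right, polar_smul_right, hyy, hyw, smul_zero, smul_zero,
      sub_zero]
  have hwa : polar (⇑Q) w a = 0 := by
    rw [ha, polar_sub_right, polar_smul_right, polar_smul_right, hwy, hww, smul_zero, smul_zero,
      sub_zero]
  have hya : polar (⇑Q) y a = 0 := by
    rw [ha, polar_sub_right, polar_smul_right, polar_smul_right, hyy, hyw, smul_zero, smul_zero,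
      sub_zero]
  -- the generators, with a sign `e`
  have gen1 : ∀ (e : F) (h : polar (⇑Q) u (e • c) = 0) (s t : F),
      gact Q (siegIso Q u (e • c) hu h) (s • u + t • b) = (s + e * t * Δ) • u + t • b ∧
      gact Q (siegIso Q u (e • c) hu h) (s • c - t • a) = (s + e * t * Δ) • c - t • a := by
    intro e h s t
    constructor
    · rw [gact_siegIso, Q_smul, hc]
      simp only [polar_add_right, polar_smul_right, polar_smul_left, smul_eq_mul, hcu, hcb, huu, hub,
        mul_zero, add_zero, zero_add, sub_zero, neg_zero, zero_smul]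
      module
    · rw [gact_siegIso, Q_smul, hc]
      simp only [polar_sub_right, polar_smul_right, polar_smul_left, smul_eq_mul, hcc, hca, huc, hua,
        mul_zero, zero_mul, sub_zero, zero_sub]
      module
  have gen2 : ∀ (e : F) (h : polar (⇑Q) w (e • y) = 0) (s t : F),
      gact Q (siegIso Q w (e • y) hw h) (s • u + t • b) = s • u + (t - e * s) • b ∧
      gact Q (siegIso Q w (e • y) hw h) (s • c - t • a) = s • c - (t - e * s) • a := by
    intro e h s t
    constructor
    · rw [gact_siegIso, Q_smul, hy]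
      simp only [polar_add_right, polar_smul_right, polar_smul_left, smul_eq_mul, hyu, hyb, hwu, hwb,
        mul_zero, zero_mul, add_zero, sub_zero]
      rw [hb]
      module
    · rw [gact_siegIso, Q_smul, hy]
      simp only [polar_sub_right, polar_smul_right, polar_smul_left, smul_eq_mul, hyc, hya, hwc, hwa,
        mul_zero, zero_mul, sub_zero]
      rw [ha]
      module
  have e1 : siegIso Q u c hu huc = siegIso Q u ((1 : F) • c) hu (by rw [one_smul]; exact huc) :=
    siegIso_congr Q u _ _ hu _ (one_smul F c).symm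
  have e1' : (siegIso Q u c hu huc)⁻¹ =
      siegIso Q u ((-1 : F) • c) hu (by rw [polar_smul_right, huc, smul_zero]) := by
    rw [siegIso_inv]
    exact siegIso_congr Q u _ _ hu _ (by rw [neg_smul, one_smul])
  have e2 : siegIso Q w y hw hwy = siegIso Q w ((1 : F) • y) hw (by rw [one_smul]; exact hwy) :=
    siegIso_congr Q w _ _ hw _ (one_smul F y).symm
  have e2' : (siegIso Q w y hw hwy)⁻¹ =
      siegIso Q w ((-1 : F) • y) hw (by rw [polar_smul_right, hwy, smul_zero]) := by
    rw [siegIso_inv]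
    exact siegIso_congr Q w _ _ hw _ (by rw [neg_smul, one_smul])
  induction hd using Subgroup.closure_induction'' with
  | mem x hx =>
    intro s t
    rcases hx with rfl | rfl
    · rw [e1]
      exact ⟨_, _, gen1 1 _ s t⟩
    · rw [e2]
      exact ⟨_, _, gen2 1 _ s t⟩
  | inv_mem x hx =>
    intro s t
    rcases hx with rfl | rfl
    · rw [e1']
      exact ⟨_, _, gen1 (-1) _ s t⟩
    · rw [e2']
      exact ⟨_, _, gen2 (-1) _ s t⟩
  | one =>
    intro s t
    exact ⟨s, t, gact_one Q _, gact_one Q _⟩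
  | mul x y _ _ ihx ihy =>
    intro s t
    obtain ⟨s₁, t₁, h1, h1'⟩ := ihy s t
    obtain ⟨s₂, t₂, h2, h2'⟩ := ihx s₁ t₁
    exact ⟨s₂, t₂, by rw [gact_mul, h1, h2], by rw [gact_mul, h1', h2']⟩

/-- **The Sylow trick** for two opposite totally singular lines -/
theorem exists_sylow_conj4 [Fintype F] (M : Subgroup (GL (Fin n) F)) (u c w y : Fin n → F)
    (hu : Q u = 0) (hc : Q c = 0) (huc : polar (⇑Q) u c = 0) (hw : Q w = 0) (hy : Q y = 0)
    (hwy : polar (⇑Q) w y = 0) (hΔ : polar (⇑Q) u w * polar (⇑Q) c y - polar (⇑Q) u y * polar (⇑Q) c w ≠ 0)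
    (ha : InM M (sieg Q u c)) (hb : InM M (sieg Q w y)) :
    ∃ δ : ↥(Cfsg.isometryGroup F ⇑Q), (δ : GL (Fin n) F) ∈ M ∧ ∃ β : F, β ≠ 0 ∧
      gact Q δ u = β • (polar (⇑Q) u y • w - polar (⇑Q) u w • y) := by
  classical
  obtain ⟨p, hchar⟩ := CharP.exists F
  have hprime : p.Prime := CharP.char_is_prime F p
  have : Fact p.Prime := ⟨hprime⟩
  obtain ⟨a, haa⟩ : ∃ a : Fin n → F, a = polar (⇑Q) c y • w - polar (⇑Q) c w • y := ⟨_, rfl⟩
  obtain ⟨b, hbb⟩ : ∃ b : Fin n → F, b = polar (⇑Q) u w • y - polar (⇑Q) u y • w := ⟨_, rfl⟩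
  obtain ⟨Δ, hΔdef⟩ : ∃ Δ : F, Δ = polar (⇑Q) u w * polar (⇑Q) c y - polar (⇑Q) u y * polar (⇑Q) c w := ⟨_, rfl⟩
  rw [← hΔdef] at hΔ
  set A := siegIso Q u c hu huc with hA
  set Bt := siegIso Q w y hw hwy with hBt
  have hAM : (A : GL (Fin n) F) ∈ M := by
    apply InM.mem
    rw [hA, siegIso_val]
    exact ha
  have hBM : (Bt : GL (Fin n) F) ∈ M := by
    apply InM.mem
    rw [hBt, siegIso_val]
    exact hb
  have hAp : A ^ p = 1 := siegIso_pow_char Q p u c hu huc
  have hBp : Bt ^ p = 1 := siegIso_pow_char Q p w y hw hwy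
  obtain ⟨δ, hδ, k, hk⟩ := Cfsg.Agent.Lib.Helper9.USub.exists_conj_mul_pow p A Bt hAp hBp
  have hδM : (δ : GL (Fin n) F) ∈ M := by
    have hle : Subgroup.closure ({A, Bt} : Set ↥(Cfsg.isometryGroup F ⇑Q)) ≤
        M.comap (Cfsg.isometryGroup F ⇑Q).subtype := by
      rw [Subgroup.closure_le]
      intro x hx
      rcases hx with rfl | rfl
      · exact hAM
      · exact hBM
    exact hle hδ
  obtain ⟨α, γ, h1, h2⟩ := closure_props Q u c w y hu hc huc hw hy hwy a b Δ haa hbb hΔdef δ hδ 1 0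
  simp only [one_smul, zero_smul, add_zero, sub_zero] at h1 h2
  -- the pairings needed by the core lemma
  have huu : polar (⇑Q) u u = 0 := by rw [polar_self, hu, smul_zero]
  have hww : polar (⇑Q) w w = 0 := by rw [polar_self, hw, smul_zero]
  have hyy : polar (⇑Q) y y = 0 := by rw [polar_self, hy, smul_zero]
  have hyw : polar (⇑Q) y w = 0 := by rw [polar_comm, hwy]
  have hcu : polar (⇑Q) c u = 0 := by rw [polar_comm, huc]
  have hub : polar (⇑Q) u b = 0 := by
    rw [hbb, polar_sub_right, polar_smul_right, polar_smul_right, smul_eq_mul, smul_eq_mul]; ring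
  have hcb : polar (⇑Q) c b = Δ := by
    rw [hbb, polar_sub_right, polar_smul_right, polar_smul_right, smul_eq_mul, smul_eq_mul, hΔdef]
  have hau : polar (⇑Q) a u = Δ := by
    rw [haa, polar_sub_left, polar_smul_left, polar_smul_left, smul_eq_mul, smul_eq_mul, hΔdef,
      polar_comm (⇑Q) w u, polar_comm (⇑Q) y u]
    ring
  have hwb : polar (⇑Q) w b = 0 := by
    rw [hbb, polar_sub_right, polar_smul_right, polar_smul_right, hwy, hww, smul_zero, smul_zero,
      sub_zero]
  have hyb : polar (⇑Q) y b = 0 := by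
    rw [hbb, polar_sub_right, polar_smul_right, polar_smul_right, hyy, hyw, smul_zero, smul_zero,
      sub_zero]
  have hab : polar (⇑Q) a b = 0 := by
    rw [haa, polar_sub_left, polar_smul_left, polar_smul_left, hwb, hyb, smul_zero, smul_zero,
      sub_zero]
  have hbb' : polar (⇑Q) b b = 0 := by
    rw [hbb, polar_sub_left, polar_smul_left, polar_smul_left, ← hbb, hyb, hwb, smul_zero, smul_zero,
      sub_zero]
  have hτu : gact Q Bt u = u - b := by
    rw [hBt, gact_siegIso, hy, polar_comm (⇑Q) y u, polar_comm (⇑Q) w u, hbb]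
    module
  have hτb : gact Q Bt b = b := by
    rw [hBt, gact_siegIso, hyb, hwb]
    simp
  have hconj := conj_siegIso Q δ u c hu huc
  have hα : α = 0 := by
    refine alpha_eq_zero Q p u c a b Δ hΔ huu hbb' hub hcu hcb hau hab Bt hτu hτb α γ
      (gact Q δ u) (gact Q δ c) (by rw [Q_gact, hu]) (by rw [polar_gact, huc]) h1 h2 k ?_
    rw [← hconj]
    exact hk
  rw [hα, zero_smul, zero_add] at h1
  refine ⟨δ, hδM, -γ, ?_, ?_⟩
  · intro h0
    have hγ : γ = 0 := neg_eq_zero.mp h0
    rw [hγ, zero_smul] at h1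
    have hu0 : u = 0 := (gact_eq_zero_iff Q δ u).mp h1
    apply hΔ
    rw [hΔdef, hu0, polar_zero_left, polar_zero_left]
    ring
  · rw [h1, hbb]
    module

end Cfsg.Agent.Lib.Helper9.OrthSyl
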