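import Mathlib
import Cfsg.Agent.S0765
import Cfsg.Agent.Lib.Helper6.Symp

/-!
# Two-generation of the symplectic group: basic calculus

Action of `Matrix.symplecticGroup (Fin m) F` on vectors, transvections `T a c`, Siegel elements
`S w v`, conjugation formulas.
-/

set_option autoImplicit false

namespace Cfsg.Agent.Lib.Helper9.SpGen

open Matrix Cfsg.Agent.Lib.Helper6

section basic
variable {m : ℕ} {F : Type*} [Field F]

local notation "ff" => Cfsg.sympForm m F
local notation "VV" => (Fin m ⊕ Fin m → F)
local notation "GG" => Matrix.symplecticGroup (Fin m) F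
local notation "Mat" => Matrix (Fin m ⊕ Fin m) (Fin m ⊕ Fin m) F

/-- the action on vectors -/
def act (g : GG) (x : VV) : VV := (g : Mat) *ᵥ x

theorem act_def (g : GG) (x : VV) : act g x = (g : Mat) *ᵥ x := rfl

theorem act_mul (g h : GG) (x : VV) : act (g * h) x = act g (act h x) := by
  unfold act
  change ((g : Mat) * (h : Mat)) *ᵥ x = _
  rw [mulVec_mulVec]

theorem act_one (x : VV) : act (1 : GG) x = x := by
  unfold act
  change (1 : Mat) *ᵥ x = x
  rw [one_mulVec]

theorem act_inv_act (g : GG) (x : VV) : act g⁻¹ (act g x) = x := by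
  rw [← act_mul, inv_mul_cancel, act_one]

theorem act_act_inv (g : GG) (x : VV) : act g (act g⁻¹ x) = x := by
  rw [← act_mul, mul_inv_cancel, act_one]

theorem act_add (g : GG) (x y : VV) : act g (x + y) = act g x + act g y := by
  unfold act
  rw [mulVec_add]

theorem act_smul (g : GG) (c : F) (x : VV) : act g (c • x) = c • act g x := by
  unfold act
  rw [mulVec_smul]

theorem act_neg (g : GG) (x : VV) : act g (-x) = - act g x := by
  unfold act
  rw [mulVec_neg]

theorem act_zero (g : GG) : act g (0 : VV) = 0 := by
  unfold act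
  rw [mulVec_zero]

theorem form_act (g : GG) (x y : VV) : ff (act g x) (act g y) = ff x y :=
  (mem_symplecticGroup_iff_preserves (g : Mat)).mp g.2 x y

theorem form_act_left (g : GG) (x y : VV) : ff (act g x) y = ff x (act g⁻¹ y) := by
  rw [← form_act g x (act g⁻¹ y), act_act_inv]

theorem ext_act {g h : GG} (H : ∀ x, act g x = act h x) : g = h := by
  apply Subtype.ext
  exact matrix_ext_mulVec H

/-- transvections -/
def T (a : VV) (c : F) : GG := ⟨Cfsg.sympTransvection m a c, sympTransvection_mem a c⟩

theorem act_T (a : VV) (c : F) (x : VV) : act (T a c) x = x + (c * ff x a) • a :=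
  sympTransvection_mulVec a c x

theorem T_add (a : VV) (c d : F) : T a c * T a d = T a (c + d) := by
  apply Subtype.ext
  exact sympTransvection_mul a c d

theorem T_zero (a : VV) : T a (0 : F) = 1 := by
  apply ext_act
  intro x
  rw [act_T, act_one]
  simp

theorem T_inv (a : VV) (c : F) : (T a c)⁻¹ = T a (-c) := by
  rw [inv_eq_iff_mul_eq_one, T_add, add_neg_cancel, T_zero]

theorem conj_T (g : GG) (a : VV) (c : F) : g * T a c * g⁻¹ = T (act g a) c := by
  apply ext_act
  intro x
  rw [act_mul, act_mul, act_T, act_T, act_add, act_smul, act_act_inv, form_act_left, inv_inv]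

theorem T_smul (l : F) (a : VV) (c : F) : T (l • a) c = T a (l ^ 2 * c) := by
  apply ext_act
  intro x
  rw [act_T, act_T, sympForm_smul_right, smul_smul]
  congr 2
  ring

/-- Siegel elements (meaningful when `ff w v = 0`) -/
def S (w v : VV) : GG := T (w + v) 1 * T w (-1) * T v (-1)

theorem act_S {w v : VV} (h : ff w v = 0) (x : VV) :
    act (S w v) x = x + ff x v • w + ff x w • v := by
  have h' : ff v w = 0 := by rw [sympForm_swap, h, neg_zero]
  unfold S
  rw [act_mul, act_mul, act_T, act_T, act_T]
  funext k
  simp only [Pi.add_apply, Pi.smul_apply, smul_eq_mul, sympForm_add_left, sympForm_add_right,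
    sympForm_smul_left, sympForm_smul_right, sympForm_self, h, h']
  ring

theorem conj_S (g : GG) (w v : VV) : g * S w v * g⁻¹ = S (act g w) (act g v) := by
  unfold S
  have e1 := conj_T g (w + v) 1
  rw [act_add] at e1
  rw [← e1, ← conj_T g w, ← conj_T g v]
  group

theorem S_add_right {w v v' : VV} (h : ff w v = 0) (h' : ff w v' = 0) (h'' : ff v v' = 0) :
    S w v * S w v' = S w (v + v') := by
  have e : ff w (v + v') = 0 := by rw [sympForm_add_right, h, h', add_zero]
  have hv'w : ff v' w = 0 := by rw [sympForm_swap, h', neg_zero]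
  have hv'v : ff v' v = 0 := by rw [sympForm_swap, h'', neg_zero]
  apply ext_act
  intro x
  rw [act_mul, act_S h, act_S h', act_S e]
  funext k
  simp only [Pi.add_apply, Pi.smul_apply, smul_eq_mul, sympForm_add_left, sympForm_add_right,
    sympForm_smul_left, sympForm_smul_right, sympForm_self, h, h', h'', hv'w, hv'v]
  ring

theorem S_zero_right (w : VV) : S w (0 : VV) = 1 := by
  apply ext_act
  intro x
  rw [act_S (sympForm_zero_right w), act_one]
  simp [sympForm_zero_right]

theorem S_smul_comm {w v : VV} (h : ff w v = 0) (l : F) : S (l • w) v = S w (l • v) := by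
  have h1 : ff (l • w) v = 0 := by rw [sympForm_smul_left, h, mul_zero]
  have h2 : ff w (l • v) = 0 := by rw [sympForm_smul_right, h, mul_zero]
  apply ext_act
  intro x
  rw [act_S h1, act_S h2]
  funext k
  simp only [Pi.add_apply, Pi.smul_apply, smul_eq_mul, sympForm_smul_right]
  ring

/-- product formula giving a transvection -/
theorem S_mul_left {w w' v : VV} (h : ff w v = 0) (h' : ff w' v = 0) :
    S w v * S w' v = T v (ff w' w) * S (w + w') v := by
  have e : ff (w + w') v = 0 := by rw [sympForm_add_left, h, h', add_zero]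
  have hvw : ff v w = 0 := by rw [sympForm_swap, h, neg_zero]
  apply ext_act
  intro x
  rw [act_mul, act_S h, act_S h', act_mul, act_T, act_S e]
  funext k
  simp only [Pi.add_apply, Pi.smul_apply, smul_eq_mul, sympForm_add_left, sympForm_add_right,
    sympForm_smul_left, sympForm_smul_right, sympForm_self, h, h', hvw]
  ring

end basic

end Cfsg.Agent.Lib.Helper9.SpGen
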