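import Mathlib
import Cfsg.Agent.Lib.Helper9.SpGenA

/-!
# Two-generation of the symplectic group: the closure lemma

A set `X` of vectors closed under `u ↦ u + l • v` (`u, v ∈ X` non-orthogonal), under nonzero
scalars, containing the standard basis and vectors `e_i + s e_j` linking consecutive hyperbolic
planes contains all nonzero vectors.
-/

set_option autoImplicit false

namespace Cfsg.Agent.Lib.Helper9.SpGen

open Matrix Cfsg.Agent.Lib.Helper6

section basis
variable {m : ℕ} {F : Type*} [Field F]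

local notation "ff" => Cfsg.sympForm m F
local notation "VV" => (Fin m ⊕ Fin m → F)

/-- basis vectors -/
def e (i : Fin m) : VV := Pi.single (Sum.inl i) 1
/-- basis vectors -/
def f (i : Fin m) : VV := Pi.single (Sum.inr i) 1

theorem e_inl (i j : Fin m) : (e i : VV) (Sum.inl j) = if j = i then 1 else 0 := by
  unfold e
  rw [Pi.single_apply]
  simp only [Sum.inl.injEq]

theorem e_inr (i j : Fin m) : (e i : VV) (Sum.inr j) = 0 := by
  unfold e
  rw [Pi.single_apply]
  simp

theorem f_inr (i j : Fin m) : (f i : VV) (Sum.inr j) = if j = i then 1 else 0 := by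
  unfold f
  rw [Pi.single_apply]
  simp only [Sum.inr.injEq]

theorem f_inl (i j : Fin m) : (f i : VV) (Sum.inl j) = 0 := by
  unfold f
  rw [Pi.single_apply]
  simp

theorem form_e_right (u : VV) (i : Fin m) : ff u (e i) = u (Sum.inr i) := by
  rw [sympForm_eq_sum]
  simp only [e_inl, e_inr, mul_zero, sub_zero, mul_ite, mul_one]
  rw [Finset.sum_ite_eq' Finset.univ i]
  simp

theorem form_f_right (u : VV) (i : Fin m) : ff u (f i) = - u (Sum.inl i) := by
  rw [sympForm_eq_sum]
  simp only [f_inl, f_inr, mul_zero, zero_sub, mul_ite, mul_one]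
  rw [Finset.sum_neg_distrib, Finset.sum_ite_eq' Finset.univ i]
  simp

theorem form_e_left (u : VV) (i : Fin m) : ff (e i) u = - u (Sum.inr i) := by
  rw [sympForm_swap, form_e_right]

theorem form_f_left (u : VV) (i : Fin m) : ff (f i) u = u (Sum.inl i) := by
  rw [sympForm_swap, form_f_right, neg_neg]

theorem e_ne_zero (i : Fin m) : (e i : VV) ≠ 0 := by
  intro h
  have := congrFun h (Sum.inl i)
  rw [e_inl] at this
  simp at this

theorem f_ne_zero (i : Fin m) : (f i : VV) ≠ 0 := by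
  intro h
  have := congrFun h (Sum.inr i)
  rw [f_inr] at this
  simp at this

end basis

section closure
variable {m : ℕ} {F : Type*} [Field F]

local notation "ff" => Cfsg.sympForm m F
local notation "VV" => (Fin m ⊕ Fin m → F)

/-- vectors supported on the first `k` hyperbolic planes -/
def Wk (m : ℕ) (F : Type*) [Field F] (k : ℕ) : Submodule F (Fin m ⊕ Fin m → F) where
  carrier := {v | ∀ i : Fin m, k ≤ i.val → v (Sum.inl i) = 0 ∧ v (Sum.inr i) = 0}
  add_mem' := by
    intro a b ha hb i hi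
    simp [ha i hi, hb i hi]
  zero_mem' := by
    intro i _
    simp
  smul_mem' := by
    intro c a ha i hi
    simp [ha i hi]

/-- vectors supported on one hyperbolic plane -/
def Pl (F : Type*) [Field F] (i₀ : Fin m) : Submodule F (Fin m ⊕ Fin m → F) where
  carrier := {v | ∀ i : Fin m, i ≠ i₀ → v (Sum.inl i) = 0 ∧ v (Sum.inr i) = 0}
  add_mem' := by
    intro a b ha hb i hi
    simp [ha i hi, hb i hi]
  zero_mem' := by
    intro i _
    simp
  smul_mem' := by
    intro c a ha i hi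
    simp [ha i hi]

theorem mem_Wk {k : ℕ} {v : VV} :
    v ∈ Wk m F k ↔ ∀ i : Fin m, k ≤ i.val → v (Sum.inl i) = 0 ∧ v (Sum.inr i) = 0 := Iff.rfl

theorem mem_Pl {i₀ : Fin m} {v : VV} :
    v ∈ Pl F i₀ ↔ ∀ i : Fin m, i ≠ i₀ → v (Sum.inl i) = 0 ∧ v (Sum.inr i) = 0 := Iff.rfl

theorem e_mem_Wk {k : ℕ} (i : Fin m) (hi : i.val < k) : (e i : VV) ∈ Wk m F k := by
  intro j hj
  have : j ≠ i := fun h => by rw [h] at hj; omega
  rw [e_inl, e_inr, if_neg this]
  exact ⟨rfl, rfl⟩

theorem f_mem_Wk {k : ℕ} (i : Fin m) (hi : i.val < k) : (f i : VV) ∈ Wk m F k := by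
  intro j hj
  have : j ≠ i := fun h => by rw [h] at hj; omega
  rw [f_inl, f_inr, if_neg this]
  exact ⟨rfl, rfl⟩

theorem e_mem_Pl (i : Fin m) : (e i : VV) ∈ Pl F i := by
  intro j hj
  rw [e_inl, e_inr, if_neg hj]
  exact ⟨rfl, rfl⟩

theorem f_mem_Pl (i : Fin m) : (f i : VV) ∈ Pl F i := by
  intro j hj
  rw [f_inl, f_inr, if_neg hj]
  exact ⟨rfl, rfl⟩

/-- orthogonality of disjointly supported vectors -/
theorem form_eq_zero_of_disjoint {u v : VV}
    (h : ∀ i : Fin m, (u (Sum.inl i) = 0 ∧ u (Sum.inr i) = 0) ∨ (v (Sum.inl i) = 0 ∧ v (Sum.inr i) = 0)) :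
    ff u v = 0 := by
  rw [sympForm_eq_sum]
  apply Finset.sum_eq_zero
  intro i _
  rcases h i with ⟨h1, h2⟩ | ⟨h1, h2⟩ <;> rw [h1, h2] <;> ring

theorem form_Pl_Wk {k : ℕ} {i₀ : Fin m} (hi₀ : k ≤ i₀.val) {y u : VV} (hy : y ∈ Pl F i₀)
    (hu : u ∈ Wk m F k) : ff y u = 0 := by
  apply form_eq_zero_of_disjoint
  intro i
  by_cases h : i = i₀
  · right
    exact hu i (by rw [h]; exact hi₀)
  · left
    exact hy i h

theorem form_Wk_Pl {k : ℕ} {i₀ : Fin m} (hi₀ : k ≤ i₀.val) {y u : VV} (hy : y ∈ Pl F i₀)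
    (hu : u ∈ Wk m F k) : ff u y = 0 := by
  rw [sympForm_swap, form_Pl_Wk hi₀ hy hu, neg_zero]

/-- nondegeneracy on `Wk` -/
theorem nondeg_Wk {k : ℕ} {u : VV} (hu : u ∈ Wk m F k) (h0 : u ≠ 0) :
    ∃ z ∈ Wk m F k, ff u z ≠ 0 := by
  obtain ⟨c, hc⟩ : ∃ c, u c ≠ 0 := by
    by_contra hcon
    push Not at hcon
    exact h0 (funext hcon)
  rcases c with i | i
  · have hi : i.val < k := by
      by_contra hik
      exact hc (hu i (not_lt.mp hik)).1
    refine ⟨f i, f_mem_Wk i hi, ?_⟩
    rw [form_f_right]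
    exact neg_ne_zero.mpr hc
  · have hi : i.val < k := by
      by_contra hik
      exact hc (hu i (not_lt.mp hik)).2
    refine ⟨e i, e_mem_Wk i hi, ?_⟩
    rw [form_e_right]
    exact hc

/-- nondegeneracy on a plane -/
theorem nondeg_Pl {i₀ : Fin m} {u : VV} (hu : u ∈ Pl F i₀) (h0 : u ≠ 0) :
    ∃ z ∈ Pl F i₀, ff u z ≠ 0 := by
  obtain ⟨c, hc⟩ : ∃ c, u c ≠ 0 := by
    by_contra hcon
    push Not at hcon
    exact h0 (funext hcon)
  rcases c with i | i
  · have hi : i = i₀ := by
      by_contra hik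
      exact hc (hu i hik).1
    subst hi
    refine ⟨f i, f_mem_Pl i, ?_⟩
    rw [form_f_right]
    exact neg_ne_zero.mpr hc
  · have hi : i = i₀ := by
      by_contra hik
      exact hc (hu i hik).2
    subst hi
    refine ⟨e i, e_mem_Pl i, ?_⟩
    rw [form_e_right]
    exact hc

/-- moving inside a nondegenerate subspace all of whose nonzero vectors are in `X` -/
theorem move_in (X : Set VV) (H1 : ∀ u v, u ∈ X → v ∈ X → ff u v ≠ 0 → ∀ l : F, u + l • v ∈ X)
    (U : Submodule F VV) (hU : ∀ u ∈ U, u ≠ 0 → u ∈ X)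
    (hnd : ∀ u ∈ U, u ≠ 0 → ∃ z ∈ U, ff u z ≠ 0) (y : VV) (hy : ∀ u ∈ U, ff y u = 0)
    {u₁ u₂ : VV} (hu₁ : u₁ ∈ U) (hu₂ : u₂ ∈ U) (h1 : u₁ ≠ 0) (h2 : u₂ ≠ 0)
    (hX : u₁ + y ∈ X) : u₂ + y ∈ X := by
  have step : ∀ a ∈ U, ∀ b ∈ U, ff a b ≠ 0 → a + y ∈ X → b + y ∈ X := by
    intro a ha b hb hab haX
    have hx : b - a ∈ U := U.sub_mem hb ha
    have hx0 : b - a ≠ 0 := by
      intro h
      rw [sub_eq_zero] at h
      rw [h, sympForm_self] at hab
      exact hab rfl
    have hne : ff (a + y) (b - a) ≠ 0 := by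
      rw [sympForm_add_left, hy _ hx, add_zero, sympForm_sub_right, sympForm_self, sub_zero]
      exact hab
    have := H1 (a + y) (b - a) haX (hU _ hx hx0) hne 1
    have e0 : a + y + (1 : F) • (b - a) = b + y := by
      rw [one_smul]
      abel
    rw [e0] at this
    exact this
  by_cases h : ff u₁ u₂ = 0
  · obtain ⟨z₁, hz₁, hz₁'⟩ := hnd u₁ hu₁ h1
    obtain ⟨z₂, hz₂, hz₂'⟩ := hnd u₂ hu₂ h2
    have key : ∃ z ∈ U, ff u₁ z ≠ 0 ∧ ff u₂ z ≠ 0 := by
      by_cases c1 : ff u₂ z₁ ≠ 0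
      · exact ⟨z₁, hz₁, hz₁', c1⟩
      by_cases c2 : ff u₁ z₂ ≠ 0
      · exact ⟨z₂, hz₂, c2, hz₂'⟩
      push Not at c1 c2
      refine ⟨z₁ + z₂, U.add_mem hz₁ hz₂, ?_, ?_⟩
      · rw [sympForm_add_right, c2, add_zero]
        exact hz₁'
      · rw [sympForm_add_right, c1, zero_add]
        exact hz₂'
    obtain ⟨z, hz, hz1, hz2⟩ := key
    have hzX := step u₁ hu₁ z hz hz1 hX
    have hz2' : ff z u₂ ≠ 0 := by
      rw [sympForm_swap]
      exact neg_ne_zero.mpr hz2
    exact step z hz u₂ hu₂ hz2' hzX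
  · exact step u₁ hu₁ u₂ hu₂ h hX

/-- all nonzero vectors of a plane lie in `X` -/
theorem plane_sub (X : Set VV) (H1 : ∀ u v, u ∈ X → v ∈ X → ff u v ≠ 0 → ∀ l : F, u + l • v ∈ X)
    (H2 : ∀ u, u ∈ X → ∀ l : F, l ≠ 0 → l • u ∈ X)
    (i : Fin m) (he : (e i : VV) ∈ X) (hf : (f i : VV) ∈ X) (a b : F) (hab : a ≠ 0 ∨ b ≠ 0) :
    a • (e i : VV) + b • (f i : VV) ∈ X := by
  by_cases ha : a = 0
  · have hb : b ≠ 0 := by
      rcases hab with h | h
      · exact absurd ha h
      · exact h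
    rw [ha, zero_smul, zero_add]
    exact H2 _ hf b hb
  · have hne : ff (e i : VV) (f i : VV) ≠ 0 := by
      rw [form_e_left, f_inr, if_pos rfl]
      simp
    have h1 := H1 _ _ he hf hne (b / a)
    have h2 := H2 _ h1 a ha
    have e1 : a • ((e i : VV) + (b / a) • (f i : VV)) = a • (e i : VV) + b • (f i : VV) := by
      rw [smul_add, smul_smul, mul_div_cancel₀ b ha]
    rw [e1] at h2
    exact h2

theorem mem_Pl_eq {i₀ : Fin m} {p : VV} (hp : p ∈ Pl F i₀) :
    p = p (Sum.inl i₀) • (e i₀ : VV) + p (Sum.inr i₀) • (f i₀ : VV) := by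
  funext c
  rcases c with i | i
  · simp only [Pi.add_apply, Pi.smul_apply, smul_eq_mul, e_inl, f_inl, mul_zero, add_zero]
    by_cases h : i = i₀
    · rw [if_pos h, h, mul_one]
    · rw [if_neg h, mul_zero]
      exact (hp i h).1
  · simp only [Pi.add_apply, Pi.smul_apply, smul_eq_mul, e_inr, f_inr, mul_zero, zero_add]
    by_cases h : i = i₀
    · rw [if_pos h, h, mul_one]
    · rw [if_neg h, mul_zero]
      exact (hp i h).2

/-- the closure lemma -/
theorem closure_lemma (X : Set VV) (H1 : ∀ u v, u ∈ X → v ∈ X → ff u v ≠ 0 → ∀ l : F, u + l • v ∈ X)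
    (H2 : ∀ u, u ∈ X → ∀ l : F, l ≠ 0 → l • u ∈ X)
    (H3 : ∀ i : Fin m, (e i : VV) ∈ X ∧ (f i : VV) ∈ X)
    (H4 : ∀ i j : Fin m, j.val + 1 = i.val → ∃ s : F, s ≠ 0 ∧ (e i : VV) + s • (e j : VV) ∈ X) :
    ∀ v : VV, v ≠ 0 → v ∈ X := by
  have hPl : ∀ i₀ : Fin m, ∀ p ∈ Pl F i₀, p ≠ 0 → p ∈ X := by
    intro i₀ p hp hp0
    rw [mem_Pl_eq hp]
    apply plane_sub X H1 H2 i₀ (H3 i₀).1 (H3 i₀).2
    by_contra hcon
    push Not at hcon
    apply hp0
    rw [mem_Pl_eq hp, hcon.1, hcon.2, zero_smul, zero_smul, add_zero]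
  have main : ∀ k : ℕ, ∀ v ∈ Wk m F k, v ≠ 0 → v ∈ X := by
    intro k
    induction k with
    | zero =>
      intro v hv hv0
      exfalso
      apply hv0
      funext c
      rcases c with i | i
      · exact (hv i (Nat.zero_le _)).1
      · exact (hv i (Nat.zero_le _)).2
    | succ k ih =>
      intro v hv hv0
      by_cases hk : k < m
      · set i₀ : Fin m := ⟨k, hk⟩ with hi₀
        set p : VV := v (Sum.inl i₀) • (e i₀ : VV) + v (Sum.inr i₀) • (f i₀ : VV) with hp
        have hpPl : p ∈ Pl F i₀ :=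
          (Pl F i₀).add_mem ((Pl F i₀).smul_mem _ (e_mem_Pl i₀)) ((Pl F i₀).smul_mem _ (f_mem_Pl i₀))
        set w : VV := v - p with hw
        have hwW : w ∈ Wk m F k := by
          intro i hi
          by_cases h : i = i₀
          · subst h
            simp only [hw, hp, Pi.sub_apply, Pi.add_apply, Pi.smul_apply, smul_eq_mul, e_inl, e_inr,
              f_inl, f_inr, mul_zero, add_zero, zero_add]
            simp
          · have hlt : k + 1 ≤ i.val := by
              have : i.val ≠ k := fun hh => h (Fin.ext hh)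
              omega
            have hv' := hv i hlt
            simp only [hw, hp, Pi.sub_apply, Pi.add_apply, Pi.smul_apply, smul_eq_mul, e_inl, e_inr,
              f_inl, f_inr, if_neg h, mul_zero, add_zero, hv'.1, hv'.2, sub_self]
            simp
        have hvwp : v = w + p := by rw [hw]; abel
        by_cases hp0 : p = 0
        · rw [hvwp, hp0, add_zero]
          rw [hvwp, hp0, add_zero] at hv0
          exact ih w hwW hv0
        by_cases hw0 : w = 0
        · rw [hvwp, hw0, zero_add]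
          exact hPl i₀ p hpPl hp0
        -- both parts nonzero
        have hkpos : 0 < k := by
          by_contra hk0
          have hk0' : k = 0 := by omega
          apply hw0
          funext c
          rcases c with i | i
          · exact (hwW i (by omega)).1
          · exact (hwW i (by omega)).2
        set j : Fin m := ⟨k - 1, by omega⟩ with hj
        obtain ⟨s, hs, hsX⟩ := H4 i₀ j (by simp only [hj, hi₀]; omega)
        have hejW : s • (e j : VV) ∈ Wk m F k :=
          (Wk m F k).smul_mem _ (e_mem_Wk j (by simp only [hj]; omega))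
        have hej0 : s • (e j : VV) ≠ 0 := smul_ne_zero hs (e_ne_zero j)
        -- move in `Wk`
        have h1 : w + (e i₀ : VV) ∈ X := by
          apply move_in X H1 (Wk m F k) ih (fun u hu hu0 => nondeg_Wk hu hu0) (e i₀ : VV)
            (fun u hu => form_Pl_Wk (le_refl _) (e_mem_Pl i₀) hu) hejW hwW hej0 hw0
          rw [add_comm]
          exact hsX
        -- move in the plane
        have h2 : p + w ∈ X := by
          apply move_in X H1 (Pl F i₀) (hPl i₀) (fun u hu hu0 => nondeg_Pl hu hu0) w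
            (fun u hu => form_Wk_Pl (le_refl _) hu hwW) (e_mem_Pl i₀) hpPl (e_ne_zero i₀) hp0
          rw [add_comm]
          exact h1
        rw [hvwp, add_comm]
        exact h2
      · -- `k ≥ m`: nothing new
        apply ih v _ hv0
        intro i hi
        exact absurd i.isLt (by omega)
  intro v hv0
  apply main m v _ hv0
  intro i hi
  exact absurd i.isLt (by omega)

end closure

end Cfsg.Agent.Lib.Helper9.SpGen
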