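import Mathlib
import Cfsg.Agent.Lib.Helper9.SpGenB

/-!
# Two-generation of the symplectic group: Coxeter and torus elements
-/

set_option autoImplicit false

namespace Cfsg.Agent.Lib.Helper9.SpGen

open Matrix Cfsg.Agent.Lib.Helper6

section mono
variable {ι : Type*} [Fintype ι] [DecidableEq ι] {F : Type*} [Field F]

/-- monomial matrices -/
def mono (ρ : ι → ι) (s : ι → F) : Matrix ι ι F := Matrix.of fun k l => if l = ρ k then s k else 0

theorem mono_mulVec (ρ : ι → ι) (s : ι → F) (x : ι → F) (k : ι) :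
    (mono ρ s *ᵥ x) k = s k * x (ρ k) := by
  unfold mono
  simp only [mulVec, dotProduct, Matrix.of_apply, ite_mul, zero_mul]
  rw [Finset.sum_ite_eq' Finset.univ (ρ k)]
  simp

end mono

section torus
variable {m : ℕ} {F : Type*} [Field F]

local notation "ff" => Cfsg.sympForm m F
local notation "VV" => (Fin m ⊕ Fin m → F)
local notation "GG" => Matrix.symplecticGroup (Fin m) F

/-- diagonal entries of a torus element -/
def torD (d : Fin m → Fˣ) : Fin m ⊕ Fin m → F :=
  Sum.elim (fun i => (d i : F)) (fun i => ((d i)⁻¹ : Fˣ))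

theorem tor_mem (d : Fin m → Fˣ) :
    mono id (torD d) ∈ Matrix.symplecticGroup (Fin m) F := by
  rw [mem_symplecticGroup_iff_preserves]
  intro u v
  rw [sympForm_eq_sum, sympForm_eq_sum]
  apply Finset.sum_congr rfl
  intro i _
  simp only [mono_mulVec, torD, Sum.elim_inl, Sum.elim_inr, id]
  have h1 : ((d i)⁻¹ : Fˣ) * (d i : F) = 1 := by
    rw [← Units.val_mul, inv_mul_cancel, Units.val_one]
  have h2 : (d i : F) * ((d i)⁻¹ : Fˣ) = 1 := by
    rw [← Units.val_mul, mul_inv_cancel, Units.val_one]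
  linear_combination (u (Sum.inr i) * v (Sum.inl i)) * h1 - (u (Sum.inl i) * v (Sum.inr i)) * h2

/-- torus elements -/
def tor (d : Fin m → Fˣ) : GG := ⟨mono id (torD d), tor_mem d⟩

theorem act_tor_inl (d : Fin m → Fˣ) (x : VV) (i : Fin m) :
    act (tor d) x (Sum.inl i) = (d i : F) * x (Sum.inl i) := by
  unfold act tor
  simp only [mono_mulVec, torD, Sum.elim_inl, id]

theorem act_tor_inr (d : Fin m → Fˣ) (x : VV) (i : Fin m) :
    act (tor d) x (Sum.inr i) = ((d i)⁻¹ : Fˣ) * x (Sum.inr i) := by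
  unfold act tor
  simp only [mono_mulVec, torD, Sum.elim_inr, id]

theorem tor_mul (d d' : Fin m → Fˣ) : tor d * tor d' = tor (d * d') := by
  apply ext_act
  intro x
  rw [act_mul]
  funext c
  rcases c with i | i
  · rw [act_tor_inl, act_tor_inl, act_tor_inl, Pi.mul_apply, Units.val_mul, mul_assoc]
  · rw [act_tor_inr, act_tor_inr, act_tor_inr, Pi.mul_apply, mul_inv, Units.val_mul, mul_assoc]

theorem tor_one : tor (1 : Fin m → Fˣ) = 1 := by
  apply ext_act
  intro x
  rw [act_one]
  funext c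
  rcases c with i | i
  · rw [act_tor_inl, Pi.one_apply, Units.val_one, one_mul]
  · rw [act_tor_inr, Pi.one_apply, inv_one, Units.val_one, one_mul]

theorem tor_comm (d d' : Fin m → Fˣ) : tor d * tor d' = tor d' * tor d := by
  rw [tor_mul, tor_mul, mul_comm]

theorem tor_pow (d : Fin m → Fˣ) (k : ℕ) : tor d ^ k = tor (d ^ k) := by
  induction k with
  | zero => rw [pow_zero, pow_zero, tor_one]
  | succ k ih => rw [pow_succ, pow_succ, ih, tor_mul]

theorem act_tor_e (d : Fin m → Fˣ) (i : Fin m) : act (tor d) (e i : VV) = (d i : F) • (e i : VV) := by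
  funext c
  rcases c with j | j
  · rw [act_tor_inl, Pi.smul_apply, smul_eq_mul, e_inl]
    by_cases h : j = i
    · rw [if_pos h, h]
    · rw [if_neg h, mul_zero, mul_zero]
  · rw [act_tor_inr, Pi.smul_apply, smul_eq_mul, e_inr, mul_zero, mul_zero]

theorem act_tor_f (d : Fin m → Fˣ) (i : Fin m) :
    act (tor d) (f i : VV) = (((d i)⁻¹ : Fˣ) : F) • (f i : VV) := by
  funext c
  rcases c with j | j
  · rw [act_tor_inl, Pi.smul_apply, smul_eq_mul, f_inl, mul_zero, mul_zero]
  · rw [act_tor_inr, Pi.smul_apply, smul_eq_mul, f_inr]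
    by_cases h : j = i
    · rw [if_pos h, h]
    · rw [if_neg h, mul_zero, mul_zero]

/-- a torus element fixes vectors supported where it is trivial -/
theorem act_tor_fix (d : Fin m → Fˣ) (x : VV)
    (h : ∀ i, d i ≠ 1 → x (Sum.inl i) = 0 ∧ x (Sum.inr i) = 0) : act (tor d) x = x := by
  funext c
  rcases c with i | i
  · rw [act_tor_inl]
    by_cases hd : d i = 1
    · rw [hd, Units.val_one, one_mul]
    · rw [(h i hd).1, mul_zero]
  · rw [act_tor_inr]
    by_cases hd : d i = 1
    · rw [hd, inv_one, Units.val_one, one_mul]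
    · rw [(h i hd).2, mul_zero]

end torus

section coxeter
variable {n : ℕ} {F : Type*} [Field F]

local notation "ff" => Cfsg.sympForm (n + 1) F
local notation "VV" => (Fin (n + 1) ⊕ Fin (n + 1) → F)
local notation "GG" => Matrix.symplecticGroup (Fin (n + 1)) F

/-- the index map of the Coxeter element -/
def coxR (n : ℕ) : Fin (n + 1) ⊕ Fin (n + 1) → Fin (n + 1) ⊕ Fin (n + 1)
  | Sum.inl i => Fin.cases (Sum.inr (Fin.last n)) (fun j => Sum.inl j.castSucc) i
  | Sum.inr i => Fin.cases (Sum.inl (Fin.last n)) (fun j => Sum.inr j.castSucc) i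

/-- the signs of the Coxeter element -/
def coxS (n : ℕ) (F : Type*) [Field F] : Fin (n + 1) ⊕ Fin (n + 1) → F
  | Sum.inl i => Fin.cases (-1) (fun _ => 1) i
  | Sum.inr _ => 1

theorem cox_mem : mono (coxR n) (coxS n F) ∈ Matrix.symplecticGroup (Fin (n + 1)) F := by
  rw [mem_symplecticGroup_iff_preserves]
  intro u v
  rw [sympForm_eq_sum, sympForm_eq_sum, Fin.sum_univ_succ, Fin.sum_univ_castSucc]
  simp only [mono_mulVec, coxR, coxS, Fin.cases_zero, Fin.cases_succ]
  ring_nf

/-- the Coxeter element -/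
def cox (n : ℕ) (F : Type*) [Field F] : Matrix.symplecticGroup (Fin (n + 1)) F :=
  ⟨mono (coxR n) (coxS n F), cox_mem⟩

theorem act_cox_inl_zero (x : VV) : act (cox n F) x (Sum.inl 0) = - x (Sum.inr (Fin.last n)) := by
  unfold act cox
  simp only [mono_mulVec, coxR, coxS, Fin.cases_zero]
  ring

theorem act_cox_inl_succ (x : VV) (j : Fin n) :
    act (cox n F) x (Sum.inl j.succ) = x (Sum.inl j.castSucc) := by
  unfold act cox
  simp only [mono_mulVec, coxR, coxS, Fin.cases_succ]
  ring

theorem act_cox_inr_zero (x : VV) : act (cox n F) x (Sum.inr 0) = x (Sum.inl (Fin.last n)) := by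
  unfold act cox
  simp only [mono_mulVec, coxR, coxS, Fin.cases_zero]
  ring

theorem act_cox_inr_succ (x : VV) (j : Fin n) :
    act (cox n F) x (Sum.inr j.succ) = x (Sum.inr j.castSucc) := by
  unfold act cox
  simp only [mono_mulVec, coxR, coxS, Fin.cases_succ]
  ring

theorem act_cox_e_castSucc (j : Fin n) : act (cox n F) (e j.castSucc : VV) = (e j.succ : VV) := by
  funext c
  rcases c with i | i
  · refine Fin.cases ?_ ?_ i
    · rw [act_cox_inl_zero, e_inr, e_inl, if_neg (Fin.succ_ne_zero j).symm, neg_zero]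
    · intro i'
      rw [act_cox_inl_succ, e_inl, e_inl]
      simp only [Fin.castSucc_inj, Fin.succ_inj]
  · refine Fin.cases ?_ ?_ i
    · rw [act_cox_inr_zero, e_inl, e_inr, if_neg (Fin.castSucc_lt_last j).ne']
    · intro i'
      rw [act_cox_inr_succ, e_inr, e_inr]

theorem act_cox_e_last : act (cox n F) (e (Fin.last n) : VV) = (f 0 : VV) := by
  funext c
  rcases c with i | i
  · refine Fin.cases ?_ ?_ i
    · rw [act_cox_inl_zero, e_inr, f_inl, neg_zero]
    · intro i'
      rw [act_cox_inl_succ, e_inl, f_inl, if_neg (Fin.castSucc_lt_last i').ne]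
  · refine Fin.cases ?_ ?_ i
    · rw [act_cox_inr_zero, e_inl, f_inr, if_pos rfl, if_pos rfl]
    · intro i'
      rw [act_cox_inr_succ, e_inr, f_inr, if_neg (Fin.succ_ne_zero i')]

theorem act_cox_f_castSucc (j : Fin n) : act (cox n F) (f j.castSucc : VV) = (f j.succ : VV) := by
  funext c
  rcases c with i | i
  · refine Fin.cases ?_ ?_ i
    · rw [act_cox_inl_zero, f_inr, f_inl, if_neg (Fin.castSucc_lt_last j).ne', neg_zero]
    · intro i'
      rw [act_cox_inl_succ, f_inl, f_inl]
  · refine Fin.cases ?_ ?_ i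
    · rw [act_cox_inr_zero, f_inl, f_inr, if_neg (Fin.succ_ne_zero j).symm]
    · intro i'
      rw [act_cox_inr_succ, f_inr, f_inr]
      simp only [Fin.castSucc_inj, Fin.succ_inj]

theorem act_cox_f_last : act (cox n F) (f (Fin.last n) : VV) = - (e 0 : VV) := by
  funext c
  rcases c with i | i
  · refine Fin.cases ?_ ?_ i
    · rw [act_cox_inl_zero, f_inr, if_pos rfl, Pi.neg_apply, e_inl, if_pos rfl]
    · intro i'
      rw [act_cox_inl_succ, f_inl, Pi.neg_apply, e_inl, if_neg (Fin.succ_ne_zero i'), neg_zero]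
  · refine Fin.cases ?_ ?_ i
    · rw [act_cox_inr_zero, f_inl, Pi.neg_apply, e_inr, neg_zero]
    · intro i'
      rw [act_cox_inr_succ, f_inr, Pi.neg_apply, e_inr, neg_zero,
        if_neg (Fin.castSucc_lt_last i').ne]

/-- rotation of torus parameters -/
def rot (d : Fin (n + 1) → Fˣ) : Fin (n + 1) → Fˣ :=
  Fin.cases ((d (Fin.last n))⁻¹) (fun j => d j.castSucc)

theorem cox_mul_tor (d : Fin (n + 1) → Fˣ) : cox n F * tor d = tor (rot d) * cox n F := by
  apply ext_act
  intro x
  rw [act_mul, act_mul]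
  funext c
  rcases c with i | i
  · refine Fin.cases ?_ ?_ i
    · rw [act_cox_inl_zero, act_tor_inr, act_tor_inl, act_cox_inl_zero]
      simp only [rot, Fin.cases_zero]
      ring
    · intro j
      rw [act_cox_inl_succ, act_tor_inl, act_tor_inl, act_cox_inl_succ]
      simp only [rot, Fin.cases_succ]
  · refine Fin.cases ?_ ?_ i
    · rw [act_cox_inr_zero, act_tor_inl, act_tor_inr, act_cox_inr_zero]
      simp only [rot, Fin.cases_zero, inv_inv]
    · intro j
      rw [act_cox_inr_succ, act_tor_inr, act_tor_inr, act_cox_inr_succ]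
      simp only [rot, Fin.cases_succ]

theorem conj_tor (d : Fin (n + 1) → Fˣ) : cox n F * tor d * (cox n F)⁻¹ = tor (rot d) := by
  rw [cox_mul_tor, mul_assoc, mul_inv_cancel, mul_one]

end coxeter

end Cfsg.Agent.Lib.Helper9.SpGen
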