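import Mathlib
import Cfsg.Agent.Lib.Helper9.SpGenC

/-!
# Two-generation of the symplectic group: the final step

A subgroup containing the Coxeter element, a full transvection group and one element linking two
consecutive planes is everything.
-/

set_option autoImplicit false

namespace Cfsg.Agent.Lib.Helper9.SpGen

open Matrix Cfsg.Agent.Lib.Helper6

/-- extraction of commuting factors with coprime exponents -/
theorem mem_of_comm_coprime {G : Type*} [Group G] (h u : G) (hc : Commute h u) (N M : ℕ)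
    (hN : h ^ N = 1) (hM : u ^ M = 1) (hco : Nat.Coprime N M) (L : Subgroup G)
    (ha : h * u ∈ L) : h ∈ L ∧ u ∈ L := by
  constructor
  · have h1 : (h * u) ^ M = h ^ M := by rw [hc.mul_pow, hM, mul_one]
    have h2 : Nat.Coprime M (orderOf h) :=
      Nat.Coprime.coprime_dvd_right (orderOf_dvd_of_pow_eq_one hN) hco.symm
    obtain ⟨j, hj⟩ := exists_pow_eq_self_of_coprime h2
    rw [← hj, ← h1]
    exact L.pow_mem (L.pow_mem ha M) j
  · have h1 : (h * u) ^ N = u ^ N := by rw [hc.mul_pow, hN, one_mul]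
    have h2 : Nat.Coprime N (orderOf u) :=
      Nat.Coprime.coprime_dvd_right (orderOf_dvd_of_pow_eq_one hM) hco
    obtain ⟨j, hj⟩ := exists_pow_eq_self_of_coprime h2
    rw [← hj, ← h1]
    exact L.pow_mem (L.pow_mem ha N) j

section final
variable {n : ℕ} {F : Type*} [Field F]

local notation "ff" => Cfsg.sympForm (n + 2) F
local notation "VV" => (Fin (n + 2) ⊕ Fin (n + 2) → F)
local notation "GG" => Matrix.symplecticGroup (Fin (n + 2)) F

theorem T_zero_vec (t : F) : T (0 : VV) t = 1 := by
  apply ext_act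
  intro x
  rw [act_T, act_one, smul_zero, add_zero]

theorem T_pow (a : VV) (c : F) (k : ℕ) : T a c ^ k = T a (k * c) := by
  induction k with
  | zero => rw [pow_zero, Nat.cast_zero, zero_mul, T_zero]
  | succ k ih =>
    rw [pow_succ, ih, T_add]
    congr 1
    push_cast
    ring

theorem final (L : Subgroup GG) (hc : cox (n + 1) F ∈ L) (hT : ∀ t : F, T (e 0 : VV) t ∈ L)
    (g : GG) (hg : g ∈ L) (s : F) (hs : s ≠ 0)
    (hge : act g (e 1 : VV) = (e 1 : VV) + s • (e 0 : VV)) : L = ⊤ := by
  set X : Set VV := {v | ∀ t : F, T v t ∈ L} with hX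
  have Xinv : ∀ k ∈ L, ∀ v ∈ X, act k v ∈ X := by
    intro k hk v hv t
    rw [← conj_T]
    exact L.mul_mem (L.mul_mem hk (hv t)) (L.inv_mem hk)
  have H1 : ∀ u v, u ∈ X → v ∈ X → ff u v ≠ 0 → ∀ l : F, u + l • v ∈ X := by
    intro u v hu hv huv l
    have := Xinv (T v (l / ff u v)) (hv _) u hu
    rw [act_T, div_mul_cancel₀ l huv] at this
    exact this
  have H2 : ∀ u, u ∈ X → ∀ l : F, l ≠ 0 → l • u ∈ X := by
    intro u hu l _ t
    rw [T_smul]
    exact hu _
  have hneg : ∀ u, u ∈ X → -u ∈ X := by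
    intro u hu
    have := H2 u hu (-1) (neg_ne_zero.mpr one_ne_zero)
    rw [neg_one_smul] at this
    exact this
  have He : ∀ i : Fin (n + 2), (e i : VV) ∈ X := by
    intro i
    induction i using Fin.induction with
    | zero => exact hT
    | succ j ih =>
      rw [← act_cox_e_castSucc]
      exact Xinv _ hc _ ih
  have Hf : ∀ i : Fin (n + 2), (f i : VV) ∈ X := by
    intro i
    induction i using Fin.induction with
    | zero =>
      rw [← act_cox_e_last]
      exact Xinv _ hc _ (He _)
    | succ j ih =>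
      rw [← act_cox_f_castSucc]
      exact Xinv _ hc _ ih
  have H4' : ∀ k : ℕ, ∀ hk : k + 1 < n + 2,
      (e (⟨k + 1, hk⟩ : Fin (n + 2)) : VV) + s • (e (⟨k, by omega⟩ : Fin (n + 2)) : VV) ∈ X := by
    intro k
    induction k with
    | zero =>
      intro hk
      have := Xinv g hg _ (He 1)
      rw [hge] at this
      exact this
    | succ k ih =>
      intro hk
      have ih' := ih (by omega)
      have := Xinv _ hc _ ih'
      rw [act_add, act_smul] at this
      have e1 : (⟨k + 1, by omega⟩ : Fin (n + 2)) = Fin.castSucc (⟨k + 1, by omega⟩ : Fin (n + 1)) := rfl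
      have e2 : (⟨k, by omega⟩ : Fin (n + 2)) = Fin.castSucc (⟨k, by omega⟩ : Fin (n + 1)) := rfl
      rw [e1, e2, act_cox_e_castSucc, act_cox_e_castSucc] at this
      exact this
  have H4 : ∀ i j : Fin (n + 2), j.val + 1 = i.val →
      ∃ s : F, s ≠ 0 ∧ (e i : VV) + s • (e j : VV) ∈ X := by
    intro i j hij
    refine ⟨s, hs, ?_⟩
    have := H4' j.val (by rw [hij]; exact i.isLt)
    have e1 : (⟨j.val + 1, by rw [hij]; exact i.isLt⟩ : Fin (n + 2)) = i := Fin.ext hij
    rw [e1] at this
    exact this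
  have hall := closure_lemma X H1 H2 (fun i => ⟨He i, Hf i⟩) H4
  rw [eq_top_iff, ← Cfsg.Agent.S0765.result (F := F) (n + 2)]
  apply (Subgroup.closure_le L).mpr
  rintro A ⟨w, c, hA⟩
  have hAT : A = T w c := Subtype.ext hA
  rw [hAT]
  by_cases hw : w = 0
  · rw [hw, T_zero_vec]
    exact L.one_mem
  · exact hall w hw c

end final

end Cfsg.Agent.Lib.Helper9.SpGen
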