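import Mathlib
import Cfsg.Agent.Lib.Helper9.OExtDefs
import Cfsg.Agent.Lib.Helper7.SpExtBas
import Cfsg.Agent.Lib.Helper26.S5701FOBAS
import Cfsg.Agent.Lib.Helper26.S5701FOSIEG

/-!
# S5701 FO-E2 : the double commutator `[x_w, [y, x_w]]` is an `F`-Siegel element
-/

set_option autoImplicit false
set_option linter.unusedSectionVars false

namespace Cfsg.Agent.Lib.Helper9.OExtE2

open Matrix Module QuadraticMap Cfsg.Agent.Lib.Helper7.SpExt Cfsg.Agent.Lib.Helper9.OExt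
  Cfsg.Agent.Lib.Helper6 Cfsg.Agent.Lib.Helper26.S5701BAS Cfsg.Agent.Lib.Helper26.S5701SIEG

variable {F : Type*} [Field F] {L : Type*} [Field L] [Algebra F L] {ι : Type} [Fintype ι]
  [DecidableEq ι] {ρ : L →ₐ[F] Matrix ι ι F} {Q : QuadraticForm F (ι → F)} {τ : L →ₗ[F] F}
  {B : (ι → F) →ₗ[F] (ι → F) →ₗ[F] L} {r : ℕ}

/-- the Siegel element `x_w` on a vector perpendicular to `v₁` -/
theorem sieg_perp {v₁ w : ι → F} {t : GL ι F} (ht : IsSieg ρ B v₁ w t) {z : ι → F}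
    (hz : B z v₁ = 0) : act t z = z + ρ (B z w) *ᵥ v₁ := by
  rw [ht z, hz, mul_zero]
  simp only [rho_zero_mulVec, sub_zero]

/-- the Siegel element `x_w` fixes `L v₁` pointwise -/
theorem sieg_fix (S : OStr ρ Q τ B) {v₁ w : ι → F} (hv₁ : B v₁ v₁ = 0) (hw : B w v₁ = 0)
    {t : GL ι F} (ht : IsSieg ρ B v₁ w t) (c : L) : act t (ρ c *ᵥ v₁) = ρ c *ᵥ v₁ := by
  have h1 : B (ρ c *ᵥ v₁) v₁ = 0 := by rw [S.lin, hv₁, mul_zero]
  rw [sieg_perp ht h1, S.lin, S.symm v₁ w, hw, mul_zero, rho_zero_mulVec, add_zero]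

/-- the `F`-smul version of `S.lin` -/
theorem B_smul_left (a : F) (v w : ι → F) : B (a • v) w = a • B v w := by
  rw [map_smul, LinearMap.smul_apply]

/-- the action of `γ = y t y⁻¹ t⁻¹` on `v₁^⊥`. -/
theorem gamma_perp (S : OStr ρ Q τ B) {v₁ u ω w : ι → F} (hv₁ : B v₁ v₁ = 0) (hu : B u v₁ = 0)
    (hω : B ω v₁ = 0) (hw : B w v₁ = 0) {y t : GL ι F}
    (hyfix : ∀ c : L, act y (ρ c *ᵥ v₁) = ρ c *ᵥ v₁)
    (hyact : ∀ z, B z v₁ = 0 → ∃ d : L, act y⁻¹ z =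
      z - polar (⇑Q) z ω • u + polar (⇑Q) z u • ω - (Q ω * polar (⇑Q) z u) • u + ρ d *ᵥ v₁)
    (ht : IsSieg ρ B v₁ w t) (hti : IsSieg ρ B v₁ (-w) t⁻¹) {z : ι → F} (hz : B z v₁ = 0) :
    act (y * t * y⁻¹ * t⁻¹) z = z + ρ (-(polar (⇑Q) z ω • B u w) + polar (⇑Q) z u • B ω w
      - (Q ω * polar (⇑Q) z u) • B u w) *ᵥ v₁ := by
  obtain ⟨d, hd⟩ := hyact z hz
  have hyinvfix : ∀ c : L, act y⁻¹ (ρ c *ᵥ v₁) = ρ c *ᵥ v₁ := by
    intro c
    conv_lhs => rw [← hyfix c]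
    exact act_inv_act y _
  have hvw : B v₁ w = 0 := by rw [S.symm]; exact hw
  -- z' = y⁻¹ z is perpendicular to v₁
  have hz' : B (act y⁻¹ z) v₁ = 0 := by
    rw [hd]
    simp only [map_add, map_sub, LinearMap.add_apply, LinearMap.sub_apply, B_smul_left, S.lin, hz,
      hu, hω, hv₁, smul_zero, mul_zero, sub_zero, add_zero]
  have hBz' : B (act y⁻¹ z) w = B z w - polar (⇑Q) z ω • B u w + polar (⇑Q) z u • B ω w
      - (Q ω * polar (⇑Q) z u) • B u w := by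
    rw [hd]
    simp only [map_add, map_sub, LinearMap.add_apply, LinearMap.sub_apply, B_smul_left, S.lin,
      hvw, mul_zero, add_zero]
  rw [act_mul, act_mul, act_mul, sieg_perp hti hz, act_add, hyinvfix, act_add,
    sieg_perp ht hz', sieg_fix S hv₁ hw ht, act_add, act_add, act_act_inv, hyfix, hyfix, hBz']
  rw [map_neg (B z) w, add_assoc, ← rho_add_mulVec]
  congr 3
  ring

/-- conjugating `γ` (which fixes `L v₁` pointwise and acts on `v₁^⊥` as `z ↦ z + ℓ(z)∙v₁`) by the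
Siegel element `t = x_w`: the general formula. -/
theorem comm_formula (S : OStr ρ Q τ B) {v₁ w : ι → F} (hv₁ : B v₁ v₁ = 0) (hw : B w v₁ = 0)
    {t γ : GL ι F} (ht : IsSieg ρ B v₁ w t) (hti : IsSieg ρ B v₁ (-w) t⁻¹)
    (ℓ : (ι → F) → L) (hγfix : ∀ c : L, act γ (ρ c *ᵥ v₁) = ρ c *ᵥ v₁)
    (hγperp : ∀ z, B z v₁ = 0 → act γ z = z + ρ (ℓ z) *ᵥ v₁) (z : ι → F)
    (hβ : B (act γ⁻¹ z) v₁ = B z v₁) :
    act (t * γ * t⁻¹ * γ⁻¹) z = z + ρ (B z w - B (act γ⁻¹ z) w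
      + ℓ (ρ (B z v₁) *ᵥ w)) *ᵥ v₁ := by
  have h2 : (2 : L) ≠ 0 := two_ne_zero_L S
  set z₁ := act γ⁻¹ z with hz₁
  set β := B z v₁ with hβdef
  have hβw : B (ρ β *ᵥ w) v₁ = 0 := by rw [S.lin, hw, mul_zero]
  have e1 : act t⁻¹ z₁ = z₁ - ρ (B z₁ w + B w w / 2 * β) *ᵥ v₁ + ρ β *ᵥ w := by
    rw [hti z₁, hβ, map_neg (B z₁) w, map_neg (B (-w)) w, map_neg B w, LinearMap.neg_apply,
      neg_neg, mulVec_neg, rho_neg_mulVec, rho_add_mulVec]
    abel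
  have e3 : act t z = z + ρ (B z w - B w w / 2 * β) *ᵥ v₁ - ρ β *ᵥ w := by
    rw [ht z, rho_sub_mulVec]
    abel
  have e4 : act t (ρ β *ᵥ w) = ρ β *ᵥ w + ρ (β * B w w) *ᵥ v₁ := by
    rw [sieg_perp ht hβw, S.lin]
  have key : ρ (B z w - B z₁ w + ℓ (ρ β *ᵥ w)) *ᵥ v₁ = ρ (B z w - B w w / 2 * β) *ᵥ v₁
      - ρ (B z₁ w + B w w / 2 * β) *ᵥ v₁ + ρ (β * B w w) *ᵥ v₁ + ρ (ℓ (ρ β *ᵥ w)) *ᵥ v₁ := by
    rw [← rho_sub_mulVec, ← rho_add_mulVec, ← rho_add_mulVec]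
    congr 2
    field_simp
    ring
  rw [act_mul, act_mul, act_mul, ← hz₁, e1, act_add, act_sub, hγfix, hγperp _ hβw, hz₁,
    act_act_inv, act_add, act_sub, act_add, sieg_fix S hv₁ hw ht, sieg_fix S hv₁ hw ht, e3, e4,
    key]
  abel

theorem tau_mul_smul (τ : L →ₗ[F] F) (c : L) (s : F) (x : L) : τ (c * (s • x)) = s * τ (c * x) := by
  rw [mul_smul_comm, map_smul, smul_eq_mul]

theorem double_comm (S : OStr ρ Q τ B) (H : Subgroup (GL ι F)) (hS : HasSieg ρ B H)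
    (hH : H ≤ Cfsg.isometryGroup F ⇑Q) {v₁ u ω : ι → F} (hv₁ : LSing B v₁) (hu : B u v₁ = 0)
    (hω : B ω v₁ = 0) (hY : IsY ρ Q B H v₁ u ω) (w : ι → F) (hw : B w v₁ = 0) :
    SiegIn Q H (ρ (B ω w) *ᵥ v₁) (ρ (2 * B u w) *ᵥ v₁) := by
  obtain ⟨y, hyH, hyfix, hyact⟩ := hY
  have hvw : B v₁ w = 0 := by rw [S.symm]; exact hw
  have hτ : τ ≠ 0 := tau_ne S hv₁.1
  obtain ⟨t, ht, hti, -, -, -⟩ := exists_sieg S v₁ w hv₁.2 hvw
  have htH : t ∈ H := hS v₁ w t hv₁.2 hvw ht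
  set b := B u w with hb
  set e := B ω w with he
  set ℓ : (ι → F) → L := fun z => -(polar (⇑Q) z ω • b) + polar (⇑Q) z u • e
      - (Q ω * polar (⇑Q) z u) • b with hℓ
  set γ := y * t * y⁻¹ * t⁻¹ with hγ
  have hγH : γ ∈ H := H.mul_mem (H.mul_mem (H.mul_mem hyH htH) (H.inv_mem hyH)) (H.inv_mem htH)
  have hγiso : γ ∈ Cfsg.isometryGroup F ⇑Q := hH hγH
  have hγperp : ∀ z, B z v₁ = 0 → act γ z = z + ρ (ℓ z) *ᵥ v₁ := fun z hz =>
    gamma_perp S hv₁.2 hu hω hw hyfix hyact ht hti hz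
  have hyinvfix : ∀ c : L, act y⁻¹ (ρ c *ᵥ v₁) = ρ c *ᵥ v₁ := by
    intro c
    conv_lhs => rw [← hyfix c]
    exact act_inv_act y _
  have htinvfix : ∀ c : L, act t⁻¹ (ρ c *ᵥ v₁) = ρ c *ᵥ v₁ := by
    intro c
    conv_lhs => rw [← sieg_fix S hv₁.2 hw ht c]
    exact act_inv_act t _
  have hγfix : ∀ c : L, act γ (ρ c *ᵥ v₁) = ρ c *ᵥ v₁ := by
    intro c
    rw [hγ, act_mul, act_mul, act_mul, htinvfix, hyinvfix, sieg_fix S hv₁.2 hw ht, hyfix]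
  -- polar (γ⁻¹ z) x = polar z (γ x)
  have hadj : ∀ z x, polar (⇑Q) (act γ⁻¹ z) x = polar (⇑Q) z (act γ x) := by
    intro z x
    rw [← polar_act hγiso (act γ⁻¹ z) x, act_act_inv]
  intro g hg
  have hgeq : g = t * γ * t⁻¹ * γ⁻¹ := by
    apply gl_ext
    intro z
    have hβ : B (act γ⁻¹ z) v₁ = B z v₁ := by
      apply sub_eq_zero.1
      apply tau_sep hτ
      intro c
      rw [mul_sub, map_sub, ← polar_rho_right S, ← polar_rho_right S, hadj, hγfix, sub_self]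
    rw [hg z, comm_formula S hv₁.2 hw ht hti ℓ hγfix hγperp z hβ, sieg_mulVec,
      Q_rho_of_sing S hv₁.2, zero_mul, sub_zero, polar_rho_left S, polar_rho_left S,
      S.symm v₁ z, ← rho_smul_mulVec, ← rho_smul_mulVec, add_assoc, ← rho_add_mulVec]
    congr 3
    set β := B z v₁ with hβdef
    have hβw : ∀ c : L, B (ρ c *ᵥ w) v₁ = 0 := by intro c; rw [S.lin, hw, mul_zero]
    -- the key identity, tested against τ(c ·)
    symm
    apply sub_eq_zero.1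
    apply tau_sep hτ
    intro c
    have h1 : τ (c * B z w) = polar (⇑Q) z (ρ c *ᵥ w) := (polar_rho_right S c z w).symm
    have h2 : τ (c * B (act γ⁻¹ z) w) = polar (⇑Q) z (ρ c *ᵥ w) + τ (ℓ (ρ c *ᵥ w) * β) := by
      rw [← polar_rho_right S, hadj, hγperp _ (hβw c), polar_add_right,
        polar_rho_right S (ℓ (ρ c *ᵥ w)) z v₁]
    have hp1 : ∀ c : L, polar (⇑Q) (ρ c *ᵥ w) ω = τ (c * e) := by
      intro c; rw [polar_rho_left S, S.symm w ω]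
    have hp2 : ∀ c : L, polar (⇑Q) (ρ c *ᵥ w) u = τ (c * b) := by
      intro c; rw [polar_rho_left S, S.symm w u]
    have h3 : τ (ℓ (ρ c *ᵥ w) * β) = -(τ (c * e) * τ (b * β)) + τ (c * b) * τ (e * β)
        - Q ω * τ (c * b) * τ (b * β) := by
      simp only [hℓ, hp1, hp2, sub_mul, add_mul, neg_mul, smul_mul_assoc, map_sub, map_add,
        map_neg, map_smul, smul_eq_mul]
      try ring
    have h4 : τ (c * ℓ (ρ β *ᵥ w)) = -(τ (β * e) * τ (c * b)) + τ (β * b) * τ (c * e)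
        - Q ω * τ (β * b) * τ (c * b) := by
      simp only [hℓ, hp1, hp2, mul_sub, mul_add, mul_neg, tau_mul_smul, map_sub, map_add,
        map_neg]
      try ring
    rw [mul_sub, mul_add, mul_sub, mul_add, map_sub, map_add, map_sub, map_add, h1, h2, h3, h4,
      tau_mul_smul, tau_mul_smul, mul_comm β e, mul_comm β b,
      show (2 : L) * b * β = (2 : F) • (b * β) by rw [mul_assoc, ofNat_smul_eq_nsmul, two_mul, two_nsmul],
      show c * (2 * b) = (2 : F) • (c * b) by rw [ofNat_smul_eq_nsmul, two_nsmul]; ring,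
      map_smul, map_smul, smul_eq_mul, smul_eq_mul]
    ring
  rw [hgeq]
  exact H.mul_mem (H.mul_mem (H.mul_mem htH hγH) (H.inv_mem htH)) (H.inv_mem hγH)

end Cfsg.Agent.Lib.Helper9.OExtE2
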