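import Mathlib
import Cfsg.Agent.Lib.Helper9.OExtDefs
import Cfsg.Agent.Lib.Helper7.SpExtBas
import Cfsg.Agent.Lib.Helper26.S5701FOBAS

/-!
# S5701 FO-G2, G4, G5, G6 : partners, dual vectors and the dimension of perps
-/

set_option autoImplicit false
set_option linter.unusedSectionVars false

namespace Cfsg.Agent.Lib.Helper9.OExtG

open Matrix Module QuadraticMap Cfsg.Agent.Lib.Helper7.SpExt Cfsg.Agent.Lib.Helper9.OExt
  Cfsg.Agent.Lib.Helper26.S5701BAS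

variable {F : Type*} [Field F] {L : Type*} [Field L] [Algebra F L] {ι : Type} [Fintype ι]
  [DecidableEq ι] {ρ : L →ₐ[F] Matrix ι ι F} {Q : QuadraticForm F (ι → F)} {τ : L →ₗ[F] F}
  {B : (ι → F) →ₗ[F] (ι → F) →ₗ[F] L} {r : ℕ}

theorem two_ne_zero_L (S : OStr ρ Q τ B) : (2 : L) ≠ 0 := by
  have h : algebraMap F L 2 ≠ 0 := by
    intro h0
    apply S.two
    exact (map_eq_zero (algebraMap F L)).mp h0
  rwa [map_ofNat] at h

theorem B_sub_left (x y z : ι → F) : B (x - y) z = B x z - B y z := by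
  rw [map_sub, LinearMap.sub_apply]

theorem B_add_left (x y z : ι → F) : B (x + y) z = B x z + B y z := by
  rw [map_add, LinearMap.add_apply]

/-- nondegeneracy: a vector perpendicular to everything vanishes -/
theorem eq_zero_of_B (S : OStr ρ Q τ B) {v : ι → F} (h : ∀ x, B x v = 0) : v = 0 := by
  by_contra hv
  obtain ⟨w, hw⟩ := B_nondeg S hv
  rw [S.symm, h w] at hw
  exact zero_ne_one hw

theorem exists_partner (S : OStr ρ Q τ B) {v : ι → F} (hv : LSing B v) :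
    ∃ v₂, LSing B v₂ ∧ B v v₂ = 1 := by
  obtain ⟨w, hw⟩ := B_nondeg S hv.1
  have h2 := two_ne_zero_L S
  have hwv : B w v = 1 := by rw [S.symm]; exact hw
  have h1 : B v (w - ρ (B w w / 2) *ᵥ v) = 1 := by
    rw [map_sub, B_lin_right S, hv.2, mul_zero, sub_zero, hw]
  refine ⟨w - ρ (B w w / 2) *ᵥ v, ⟨?_, ?_⟩, h1⟩
  · intro h0
    rw [h0, map_zero] at h1
    exact zero_ne_one h1
  · rw [B_sub_left, map_sub, map_sub, B_lin_right S, S.lin, S.lin, B_lin_right S, hv.2, hw, hwv]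
    field_simp
    ring

/-- the product map `x ↦ (B x v, B x v')` is onto `L × L` when `v, v'` are `L`-independent -/
theorem exists_dual_pair (S : OStr ρ Q τ B) {v v' : ι → F} (hv : v ≠ 0) (hv' : v' ∉ pt ρ v)
    (a a' : L) : ∃ x, B x v = a ∧ B x v' = a' := by
  obtain ⟨w₀, hw₀⟩ := B_nondeg S hv
  have hw₀v : B w₀ v = 1 := by rw [S.symm]; exact hw₀
  -- some `w₁ ⟂ v` is not perpendicular to `v'`
  have hex : ∃ w₁, B w₁ v = 0 ∧ B w₁ v' ≠ 0 := by
    by_contra hcon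
    push Not at hcon
    apply hv'
    rw [mem_pt]
    refine ⟨B w₀ v', ?_⟩
    have hz : v' - ρ (B w₀ v') *ᵥ v = 0 := by
      apply eq_zero_of_B S
      intro x
      have hx : B (x - ρ (B x v) *ᵥ w₀) v = 0 := by
        rw [B_sub_left, S.lin, hw₀v, mul_one, sub_self]
      have := hcon _ hx
      rw [B_sub_left, S.lin] at this
      rw [map_sub, B_lin_right S, sub_eq_zero.1 this]
      ring
    exact (sub_eq_zero.1 hz).symm
  obtain ⟨w₁, hw₁v, hw₁⟩ := hex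
  refine ⟨ρ a *ᵥ w₀ + ρ ((a' - a * B w₀ v') * (B w₁ v')⁻¹) *ᵥ w₁, ?_, ?_⟩
  · rw [B_add_left, S.lin, S.lin, hw₀v, hw₁v, mul_zero, mul_one, add_zero]
  · rw [B_add_left, S.lin, S.lin, mul_assoc, inv_mul_cancel₀ hw₁, mul_one]
    ring

theorem exists_dual1 (S : OStr ρ Q τ B) {v₁ u : ι → F} (hv₁ : LSing B v₁) (hu : B u v₁ = 0)
    (hnot : u ∉ pt ρ v₁) (b : L) : ∃ w, B w v₁ = 0 ∧ B u w = b := by
  obtain ⟨v₂, hv₂, h12⟩ := exists_partner S hv₁
  have h21 : B v₂ v₁ = 1 := by rw [S.symm]; exact h12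
  have hz : u - ρ (B u v₂) *ᵥ v₁ ≠ 0 := by
    intro h0
    apply hnot
    rw [mem_pt]
    exact ⟨B u v₂, (sub_eq_zero.1 h0).symm⟩
  obtain ⟨w', hw'⟩ := B_nondeg S hz
  refine ⟨ρ b *ᵥ (w' - ρ (B w' v₂) *ᵥ v₁ - ρ (B w' v₁) *ᵥ v₂), ?_, ?_⟩
  · rw [S.lin, B_sub_left, B_sub_left, S.lin, S.lin, hv₁.2, h21]
    ring
  · rw [B_sub_left, S.lin, S.symm v₁ w'] at hw'
    rw [B_lin_right S, map_sub, map_sub, B_lin_right S, B_lin_right S, hu, mul_zero, sub_zero,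
      mul_comm (B w' v₁), hw', mul_one]

theorem exists_dual2 (S : OStr ρ Q τ B) {v₁ u ω : ι → F} (hv₁ : LSing B v₁) (hu : B u v₁ = 0)
    (hω : B ω v₁ = 0) (hnot : u ∉ pt ρ v₁) (hnot' : ∀ c d : L, ω ≠ ρ c *ᵥ u + ρ d *ᵥ v₁) (a b : L) :
    ∃ w, B w v₁ = 0 ∧ B u w = b ∧ B ω w = a := by
  obtain ⟨v₂, hv₂, h12⟩ := exists_partner S hv₁
  have h21 : B v₂ v₁ = 1 := by rw [S.symm]; exact h12
  set u' := u - ρ (B u v₂) *ᵥ v₁ with hu'
  set ω' := ω - ρ (B ω v₂) *ᵥ v₁ with hω'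
  have hu'0 : u' ≠ 0 := by
    intro h0
    apply hnot
    rw [mem_pt]
    exact ⟨B u v₂, (sub_eq_zero.1 h0).symm⟩
  have hω'n : ω' ∉ pt ρ u' := by
    intro hmem
    obtain ⟨c, hc⟩ := (mem_pt ρ u' ω').mp hmem
    apply hnot' c (B ω v₂ - c * B u v₂)
    have h1 : ω = ρ c *ᵥ u' + ρ (B ω v₂) *ᵥ v₁ := by rw [hc, hω']; abel
    have h2 : ρ c *ᵥ u' = ρ c *ᵥ u - ρ (c * B u v₂) *ᵥ v₁ := by
      rw [hu', mulVec_sub, ← rho_mul_mulVec]
    rw [rho_sub_mulVec]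
    calc ω = ρ c *ᵥ u' + ρ (B ω v₂) *ᵥ v₁ := h1
      _ = _ := by rw [h2]; abel
  have hu'1 : B u' v₁ = 0 := by rw [hu', B_sub_left, S.lin, hv₁.2, hu, mul_zero, sub_zero]
  have hu'2 : B u' v₂ = 0 := by rw [hu', B_sub_left, S.lin, h12, mul_one, sub_self]
  have hω'1 : B ω' v₁ = 0 := by rw [hω', B_sub_left, S.lin, hv₁.2, hω, mul_zero, sub_zero]
  have hω'2 : B ω' v₂ = 0 := by rw [hω', B_sub_left, S.lin, h12, mul_one, sub_self]
  obtain ⟨x, hxu, hxω⟩ := exists_dual_pair S hu'0 hω'n b a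
  set w := x - ρ (B x v₂) *ᵥ v₁ - ρ (B x v₁) *ᵥ v₂ with hw
  have hw1 : B w v₁ = 0 := by
    rw [hw, B_sub_left, B_sub_left, S.lin, S.lin, hv₁.2, h21]
    ring
  have hv₁w : B v₁ w = 0 := by rw [S.symm]; exact hw1
  refine ⟨w, hw1, ?_, ?_⟩
  · have : u = u' + ρ (B u v₂) *ᵥ v₁ := by rw [hu']; abel
    rw [this, B_add_left, S.lin, hv₁w, mul_zero, add_zero, hw, map_sub, map_sub,
      B_lin_right S, B_lin_right S, hu'1, hu'2, mul_zero, mul_zero, sub_zero, sub_zero, S.symm,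
      hxu]
  · have : ω = ω' + ρ (B ω v₂) *ᵥ v₁ := by rw [hω']; abel
    rw [this, B_add_left, S.lin, hv₁w, mul_zero, add_zero, hw, map_sub, map_sub,
      B_lin_right S, B_lin_right S, hω'1, hω'2, mul_zero, mul_zero, sub_zero, sub_zero, S.symm,
      hxω]

theorem finrank_perp1 (S : OStr ρ Q τ B) (hrk : finrank F L = r) (hr : 0 < r) {v : ι → F}
    (hv : v ≠ 0) : finrank F ↥(LinearMap.ker (B.flip v)) + r = Fintype.card ι := by
  have : FiniteDimensional F L := Module.finite_of_finrank_pos (by omega)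
  have hsurj : LinearMap.range (B.flip v) = ⊤ := by
    rw [LinearMap.range_eq_top]
    intro c
    obtain ⟨w, hw⟩ := B_nondeg S hv
    refine ⟨ρ c *ᵥ w, ?_⟩
    rw [LinearMap.flip_apply, S.lin, S.symm, hw, mul_one]
  have h := LinearMap.finrank_range_add_finrank_ker (B.flip v)
  rw [hsurj, finrank_top, hrk, Module.finrank_fintype_fun_eq_card] at h
  omega

theorem finrank_perp2 (S : OStr ρ Q τ B) (hrk : finrank F L = r) (hr : 0 < r) {v v' : ι → F}
    (hv : v ≠ 0) (hv' : v' ∉ pt ρ v) :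
    finrank F ↥(LinearMap.ker (B.flip v) ⊓ LinearMap.ker (B.flip v')) + 2 * r = Fintype.card ι := by
  have : FiniteDimensional F L := Module.finite_of_finrank_pos (by omega)
  have hsurj : LinearMap.range ((B.flip v).prod (B.flip v')) = ⊤ := by
    rw [LinearMap.range_eq_top]
    rintro ⟨a, a'⟩
    obtain ⟨x, hx, hx'⟩ := exists_dual_pair S hv hv' a a'
    refine ⟨x, ?_⟩
    rw [LinearMap.prod_apply]
    show (B.flip v x, B.flip v' x) = (a, a')
    rw [LinearMap.flip_apply, LinearMap.flip_apply, hx, hx']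
  have h := LinearMap.finrank_range_add_finrank_ker ((B.flip v).prod (B.flip v'))
  rw [hsurj, finrank_top, LinearMap.ker_prod, Module.finrank_prod, hrk,
    Module.finrank_fintype_fun_eq_card] at h
  omega

end Cfsg.Agent.Lib.Helper9.OExtG
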