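import Mathlib
import Cfsg.Agent.Lib.Helper9.OExtDefs
import Cfsg.Agent.Lib.Helper9.OExtE2
import Cfsg.Agent.Lib.Helper9.OExtG
import Cfsg.Agent.Lib.Helper7.SpExtBas
import Cfsg.Agent.Lib.Helper21.S5664FOBASb
import Cfsg.Agent.Lib.Helper22.S5664FOIIa
import Cfsg.Agent.Lib.Helper26.S5701FOBAS
import Cfsg.Agent.Lib.Helper26.S5701FOSIEG

/-!
# S5701 FO-C1 : for a maximal intersecting pair `(P₁, P')` (no perpendicular pairs at all),
`P' ∩ P₁^⊥ = P₁ ∩ P'`.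
-/

set_option autoImplicit false
set_option linter.unusedSectionVars false
set_option linter.unusedVariables false

namespace Cfsg.Agent.Lib.Helper9.OExtC1

open Matrix Module QuadraticMap Cfsg.Agent.Lib.Helper7.SpExt Cfsg.Agent.Lib.Helper9.OExt
  Cfsg.Agent.Lib.Helper26.S5701BAS Cfsg.Agent.Lib.Helper26.S5701SIEG
  Cfsg.Agent.Lib.Helper9.OExtE2

variable {F : Type*} [Field F] [Fintype F] {L : Type*} [Field L] [Algebra F L] {ι : Type} [Fintype ι]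
  [DecidableEq ι] {ρ : L →ₐ[F] Matrix ι ι F} {Q : QuadraticForm F (ι → F)} {τ : L →ₗ[F] F}
  {B : (ι → F) →ₗ[F] (ι → F) →ₗ[F] L} {r : ℕ}

/-- the dichotomy for a maximal intersecting pair: an element of `H` fixing `P₁` pointwise either
stabilises `P'` or moves it to a member meeting `P'` exactly in `P₁ ∩ P'`. -/
theorem maxI_dichotomy {H : Subgroup (GL ι F)} {v₁ v₀ : ι → F} {g₀ : GL ι F}
    (hmax : MaxI ρ B H v₁ v₀ g₀) {x : GL ι F} (hxH : x ∈ H)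
    (hfix : ∀ c : L, act x (ρ c *ᵥ v₁) = ρ c *ᵥ v₁) :
    (Img ρ g₀ v₀).map (actL x) = Img ρ g₀ v₀ ∨
      (Img ρ g₀ v₀).map (actL x) ⊓ Img ρ g₀ v₀ = pt ρ v₁ ⊓ Img ρ g₀ v₀ := by
  obtain ⟨hg₀, hv₁, hv₀, hne, hbot, hmaxi⟩ := hmax
  by_cases heq : (Img ρ g₀ v₀).map (actL x) = Img ρ g₀ v₀
  · left; exact heq
  right
  have hle : pt ρ v₁ ⊓ Img ρ g₀ v₀ ≤ (Img ρ g₀ v₀).map (actL x) ⊓ Img ρ g₀ v₀ := by
    intro d hd
    refine ⟨?_, hd.2⟩
    obtain ⟨c, rfl⟩ := (mem_pt ρ v₁ d).mp hd.1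
    exact ⟨ρ c *ᵥ v₁, hd.2, hfix c⟩
  have hI : IPair ρ B H (x * g₀) g₀ v₀ v₀ := by
    refine ⟨H.mul_mem hxH hg₀, hg₀, hv₀, hv₀, ?_, ?_⟩
    · rw [Cfsg.Agent.Lib.Helper22.S5664II.Img_mul]; exact heq
    · rw [Cfsg.Agent.Lib.Helper22.S5664II.Img_mul]
      intro h0
      apply hbot
      rw [eq_bot_iff, ← h0]
      exact hle
  have hfin := hmaxi _ _ _ _ hI
  rw [Cfsg.Agent.Lib.Helper22.S5664II.Img_mul] at hfin
  exact (Submodule.eq_of_le_of_finrank_le hle hfin).symm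

theorem inter_perp_le (S : OStr ρ Q τ B) (hr : r.Prime) (hrk : finrank F L = r)
    (hn : 4 * r ≤ Fintype.card ι) (H : Subgroup (GL ι F)) (hS : HasSieg ρ B H)
    (hH : H ≤ Cfsg.isometryGroup F ⇑Q) (hnoP : ∀ h h' v v', ¬ PPair ρ Q B H h h' v v')
    (v₁ v₀ : ι → F) (g₀ : GL ι F) (hmax : MaxI ρ B H v₁ v₀ g₀) :
    ∀ u ∈ Img ρ g₀ v₀, B u v₁ = 0 → u ∈ pt ρ v₁ := by
  classical
  have hmax' := hmax
  obtain ⟨hg₀, hv₁, hv₀, hne, hbot, hmaxi⟩ := hmax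
  intro u₁ hu₁P hu₁v
  by_contra hu₁n
  have hfd : FiniteDimensional F L := Module.finite_of_finrank_pos (by rw [hrk]; exact hr.pos)
  have hfP₁ : finrank F ↥(pt ρ v₁) = r :=
    Cfsg.Agent.Lib.Helper21.S5664BASb.finrank_pt ρ hrk hr.pos hv₁.1
  have hfP' : finrank F ↥(Img ρ g₀ v₀) = r :=
    Cfsg.Agent.Lib.Helper21.S5664BASb.finrank_Img ρ hrk hr.pos g₀ hv₀.1
  -- Step 1: some `u₀ ∈ P'` is not perpendicular to `v₁`
  have hex : ∃ u₀ ∈ Img ρ g₀ v₀, B u₀ v₁ ≠ 0 := by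
    by_contra hcon
    push Not at hcon
    apply hnoP 1 g₀ v₁ v₀
    refine ⟨⟨H.one_mem, hg₀, hv₁, hv₀, ?_, ?_⟩, ?_⟩
    · rw [Img_one]; exact hne
    · rw [Img_one]; exact hbot
    · intro x hx y hy
      rw [Img_one] at hx
      rw [polar_comm]
      exact (B_eq_zero_iff S y v₁).1 (hcon y hy) x hx
  obtain ⟨u₀, hu₀P, hu₀v⟩ := hex
  -- the subspaces
  set K : Submodule F (ι → F) := LinearMap.ker (B.flip v₁) with hK
  set Dt : Submodule F L := (Img ρ g₀ v₀).comap (orb ρ v₁) with hDt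
  set W₁ : Submodule F (ι → F) := K ⊓ Dt.comap (B u₁) with hW₁
  set K₁ : Submodule F (ι → F) := Img ρ g₀ v₀ ⊓ K with hK₁
  set ψ : (ι → F) →ₗ[F] (ι → F) := (ρ (B u₀ v₁)).mulVecLin with hψ
  have hψinj : Function.Injective ψ := by
    intro a b hab
    have h1 : ρ (B u₀ v₁)⁻¹ *ᵥ (ρ (B u₀ v₁) *ᵥ a) = ρ (B u₀ v₁)⁻¹ *ᵥ (ρ (B u₀ v₁) *ᵥ b) :=
      congrArg _ hab
    rwa [← rho_mul_mulVec, ← rho_mul_mulVec, inv_mul_cancel₀ hu₀v, rho_one_mulVec,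
      rho_one_mulVec] at h1
  have hP₁K : pt ρ v₁ ≤ K := by
    intro x hx
    obtain ⟨c, rfl⟩ := (mem_pt ρ v₁ x).mp hx
    rw [hK, LinearMap.mem_ker, LinearMap.flip_apply, S.lin, hv₁.2, mul_zero]
  -- Step 2: the key inclusion
  have hkey : W₁.map ψ ≤ K₁ ⊔ pt ρ v₁ := by
    rintro _ ⟨w, hw, rfl⟩
    have hwv : B w v₁ = 0 := hw.1
    have hwD : ρ (B u₁ w) *ᵥ v₁ ∈ Img ρ g₀ v₀ := hw.2
    have hvw : B v₁ w = 0 := by rw [S.symm]; exact hwv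
    obtain ⟨x, hx, hxi, -, hxB, -⟩ := exists_sieg S v₁ w hv₁.2 hvw
    have hxH : x ∈ H := hS v₁ w x hv₁.2 hvw hx
    have hxfix : ∀ c : L, act x (ρ c *ᵥ v₁) = ρ c *ᵥ v₁ := sieg_fix S hv₁.2 hwv hx
    rcases maxI_dichotomy hmax' hxH hxfix with hstab | hmeet
    · -- `x` stabilises `P'`
      have h1 : act x u₀ ∈ Img ρ g₀ v₀ := by
        rw [← hstab]
        exact ⟨u₀, hu₀P, rfl⟩
      have hxv₁ : act x v₁ = v₁ := by
        have := hxfix 1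
        rwa [rho_one_mulVec] at this
      have h2 : B (act x u₀) v₁ = B u₀ v₁ := by
        conv_lhs => rw [← hxv₁]
        exact hxB u₀ v₁
      have h3 : ψ w = (u₀ - act x u₀) + ρ (B u₀ w - B w w / 2 * B u₀ v₁) *ᵥ v₁ := by
        rw [hx u₀, rho_sub_mulVec]
        show ρ (B u₀ v₁) *ᵥ w = _
        abel
      rw [h3]
      refine Submodule.add_mem _ (Submodule.mem_sup_left ⟨?_, ?_⟩)
        (Submodule.mem_sup_right (smul_mem_pt ρ v₁ _))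
      · exact Submodule.sub_mem _ hu₀P h1
      · show B.flip v₁ (u₀ - act x u₀) = 0
        rw [LinearMap.flip_apply, map_sub, LinearMap.sub_apply, h2, sub_self]
    · -- `x P'` meets `P'` in `D` only: then `u₁ ∈ P₁`
      exfalso
      apply hu₁n
      have h1 : act x u₁ = u₁ + ρ (B u₁ w) *ᵥ v₁ := sieg_perp hx hu₁v
      have h2 : act x u₁ ∈ (Img ρ g₀ v₀).map (actL x) ⊓ Img ρ g₀ v₀ := by
        refine ⟨⟨u₁, hu₁P, rfl⟩, ?_⟩
        rw [h1]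
        exact Submodule.add_mem _ hu₁P hwD
      rw [hmeet] at h2
      obtain ⟨c, hc⟩ := (mem_pt ρ v₁ _).mp h2.1
      have h3 : u₁ = act x⁻¹ (act x u₁) := (act_inv_act x u₁).symm
      rw [h3, ← hc, ← hxfix c, act_inv_act]
      exact smul_mem_pt ρ v₁ c
  -- Step 3: upper bound for `finrank W₁`
  have hW₁map : finrank F ↥(W₁.map ψ) = finrank F ↥W₁ :=
    (Submodule.equivMapOfInjective ψ hψinj W₁).finrank_eq.symm
  have hup1 : finrank F ↥W₁ ≤ finrank F ↥(K₁ ⊔ pt ρ v₁) := by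
    rw [← hW₁map]
    exact Submodule.finrank_mono hkey
  have hup2 := Submodule.finrank_sup_add_finrank_inf_eq K₁ (pt ρ v₁)
  have hDle : pt ρ v₁ ⊓ Img ρ g₀ v₀ ≤ K₁ ⊓ pt ρ v₁ := by
    intro d hd
    exact ⟨⟨hd.2, hP₁K hd.1⟩, hd.1⟩
  have hup3 : finrank F ↥(pt ρ v₁ ⊓ Img ρ g₀ v₀) ≤ finrank F ↥(K₁ ⊓ pt ρ v₁) :=
    Submodule.finrank_mono hDle
  have hK₁lt : K₁ < Img ρ g₀ v₀ := by
    refine lt_of_le_of_ne inf_le_left ?_
    intro heq
    have : u₀ ∈ K₁ := by rw [heq]; exact hu₀P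
    exact hu₀v this.2
  have hup4 : finrank F ↥K₁ < r := by
    rw [← hfP']
    exact Submodule.finrank_lt_finrank_of_lt hK₁lt
  -- Step 4: lower bound for `finrank W₁`
  have hfK : finrank F ↥K + r = Fintype.card ι :=
    Cfsg.Agent.Lib.Helper9.OExtG.finrank_perp1 S hrk hr.pos hv₁.1
  have hfDt : finrank F ↥Dt = finrank F ↥(pt ρ v₁ ⊓ Img ρ g₀ v₀) := by
    have hinj : Function.Injective (orb ρ v₁) :=
      Cfsg.Agent.Lib.Helper21.S5664BASb.orb_injective ρ hv₁.1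
    have h1 : Dt.map (orb ρ v₁) = pt ρ v₁ ⊓ Img ρ g₀ v₀ := by
      rw [hDt, Submodule.map_comap_eq]
      rfl
    rw [← h1]
    exact (Submodule.equivMapOfInjective (orb ρ v₁) hinj Dt).finrank_eq
  set g : ↥K →ₗ[F] (L ⧸ Dt) := Dt.mkQ ∘ₗ (B u₁) ∘ₗ K.subtype with hg
  have hrn := LinearMap.finrank_range_add_finrank_ker g
  have hrange : finrank F ↥(LinearMap.range g) ≤ finrank F (L ⧸ Dt) := Submodule.finrank_le _
  have hquot := Submodule.finrank_quotient_add_finrank Dt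
  have hker : finrank F ↥(LinearMap.ker g) ≤ finrank F ↥W₁ := by
    have h1 : (LinearMap.ker g).map K.subtype ≤ W₁ := by
      rintro _ ⟨⟨w, hwK⟩, hw, rfl⟩
      refine ⟨hwK, ?_⟩
      have : g ⟨w, hwK⟩ = 0 := hw
      rw [hg, LinearMap.comp_apply, LinearMap.comp_apply, Submodule.mkQ_apply,
        Submodule.Quotient.mk_eq_zero] at this
      exact this
    have h2 : finrank F ↥((LinearMap.ker g).map K.subtype) = finrank F ↥(LinearMap.ker g) :=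
      (Submodule.equivMapOfInjective K.subtype K.injective_subtype _).finrank_eq.symm
    rw [← h2]
    exact Submodule.finrank_mono h1
  omega

end Cfsg.Agent.Lib.Helper9.OExtC1
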