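import Mathlib
import Cfsg.Agent.S0201
import Cfsg.Agent.Lib.Helper9.ZStarAssembly
import Cfsg.Agent.Lib.Lead.ZStarCore

/-!
Glauberman's `Z*`-theorem, unconditional forms.
-/

set_option autoImplicit false

namespace Cfsg.Agent.Lib.Helper9

open Cfsg

universe u

/-- The Brauer–Suzuki theorem in every universe. -/
theorem brauerSuzukiHyp_holds : BrauerSuzukiHyp.{u} :=
  fun _ _ _ S n e hO => Cfsg.Agent.S0201.result S n (Classical.choice e) hO

/-- The character-theoretic core step in every universe. -/
theorem zStarCoreHyp_holds : ZStarCoreHyp.{u} :=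
  fun _ _ _ _ _ ht hs hc hne h1 h2 hg =>
    Cfsg.Agent.Lib.Lead.ZStarCore.false_of_isolated ht hs hc hne h1 h2 hg

/-- **Glauberman's `Z*`-theorem**: an isolated involution is central modulo `O(G)`. -/
theorem zstar {G : Type u} [Group G] [Finite G] {t : G} (ht : IsIsolatedInvolution t) (g : G) :
    t * g * t⁻¹ * g⁻¹ ∈ pPrimeCore 2 G :=
  isolated_zstar brauerSuzukiHyp_holds zStarCoreHyp_holds ht g

/-- `Z*`-theorem, weakly closed form. -/
theorem zstar_of_weakly_closed {G : Type u} [Group G] [Finite G] (P : Sylow 2 G) {t : G}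
    (ht2 : orderOf t = 2) (htP : t ∈ P) (hiso : ∀ g : G, g * t * g⁻¹ ∈ P → g * t * g⁻¹ = t)
    (g : G) : t * g * t⁻¹ * g⁻¹ ∈ pPrimeCore 2 G :=
  zstar (isolated_of_weakly_closed P ht2 htP hiso) g

/-- An isolated involution in a group with `O(G) = 1` is central. -/
theorem isolated_mem_center {G : Type u} [Group G] [Finite G] {t : G}
    (ht : IsIsolatedInvolution t) (hO : pPrimeCore 2 G = ⊥) : t ∈ Subgroup.center G := by
  rw [Subgroup.mem_center_iff]
  intro g
  have h := zstar ht g
  rw [hO, Subgroup.mem_bot] at h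
  have : t * g = g * t := by
    have h2 : t * g * t⁻¹ = g := by
      have := congrArg (· * g) h
      simpa using this
    have := congrArg (· * t) h2
    simpa using this
  exact this.symm

end Cfsg.Agent.Lib.Helper9
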