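import Cfsg.Agent.Lib.Helper9.Co2M3RELDefs

/-! S2044, the prime 3, piece [P3-REL] (helper9 for helper10): the relators 0, …, 15 of `rels0` are trivial on the 4600 points -/

set_option autoImplicit false
set_option maxRecDepth 100000
set_option Elab.async false

namespace Cfsg.Agent.Lib.Helper10.Co2M3.Helper9

theorem ok3_0 : ok3 0 = true := by decide +kernel
theorem ok3_1 : ok3 1 = true := by decide +kernel
theorem ok3_2 : ok3 2 = true := by decide +kernel
theorem ok3_3 : ok3 3 = true := by decide +kernel
theorem ok3_4 : ok3 4 = true := by decide +kernel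
theorem ok3_5 : ok3 5 = true := by decide +kernel
theorem ok3_6 : ok3 6 = true := by decide +kernel
theorem ok3_7 : ok3 7 = true := by decide +kernel
theorem ok3_8 : ok3 8 = true := by decide +kernel
theorem ok3_9 : ok3 9 = true := by decide +kernel
theorem ok3_10 : ok3 10 = true := by decide +kernel
theorem ok3_11 : ok3 11 = true := by decide +kernel
theorem ok3_12 : ok3 12 = true := by decide +kernel
theorem ok3_13 : ok3 13 = true := by decide +kernel
theorem ok3_14 : ok3 14 = true := by decide +kernel
theorem ok3_15 : ok3 15 = true := by decide +kernel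

theorem ok3_chunk1 (j : ℕ) (h1 : 0 ≤ j) (h2 : j < 16) : ok3 j = true := by
  interval_cases j
  · exact ok3_0
  · exact ok3_1
  · exact ok3_2
  · exact ok3_3
  · exact ok3_4
  · exact ok3_5
  · exact ok3_6
  · exact ok3_7
  · exact ok3_8
  · exact ok3_9
  · exact ok3_10
  · exact ok3_11
  · exact ok3_12
  · exact ok3_13
  · exact ok3_14
  · exact ok3_15

end Cfsg.Agent.Lib.Helper10.Co2M3.Helper9
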