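import Cfsg.Agent.Lib.Helper9.Co2M3RELDefs

/-! S2044, the prime 3, piece [P3-REL] (helper9 for helper10): the relators 16, …, 29 of `rels0` are trivial on the 4600 points -/

set_option autoImplicit false
set_option maxRecDepth 100000
set_option Elab.async false

namespace Cfsg.Agent.Lib.Helper10.Co2M3.Helper9

theorem ok3_16 : ok3 16 = true := by decide +kernel
theorem ok3_17 : ok3 17 = true := by decide +kernel
theorem ok3_18 : ok3 18 = true := by decide +kernel
theorem ok3_19 : ok3 19 = true := by decide +kernel
theorem ok3_20 : ok3 20 = true := by decide +kernel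
theorem ok3_21 : ok3 21 = true := by decide +kernel
theorem ok3_22 : ok3 22 = true := by decide +kernel
theorem ok3_23 : ok3 23 = true := by decide +kernel
theorem ok3_24 : ok3 24 = true := by decide +kernel
theorem ok3_25 : ok3 25 = true := by decide +kernel
theorem ok3_26 : ok3 26 = true := by decide +kernel
theorem ok3_27 : ok3 27 = true := by decide +kernel
theorem ok3_28 : ok3 28 = true := by decide +kernel
theorem ok3_29 : ok3 29 = true := by decide +kernel

theorem ok3_chunk2 (j : ℕ) (h1 : 16 ≤ j) (h2 : j < 30) : ok3 j = true := by
  interval_cases j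
  · exact ok3_16
  · exact ok3_17
  · exact ok3_18
  · exact ok3_19
  · exact ok3_20
  · exact ok3_21
  · exact ok3_22
  · exact ok3_23
  · exact ok3_24
  · exact ok3_25
  · exact ok3_26
  · exact ok3_27
  · exact ok3_28
  · exact ok3_29

end Cfsg.Agent.Lib.Helper10.Co2M3.Helper9
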