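import Cfsg.Agent.Lib.Helper9.Co2M3RELDefs

/-! S2044, the prime 3, piece [P3-REL] (helper9 for helper10): the relators 30, …, 42 of `rels0` are trivial on the 4600 points -/

set_option autoImplicit false
set_option maxRecDepth 100000
set_option Elab.async false

namespace Cfsg.Agent.Lib.Helper10.Co2M3.Helper9

theorem ok3_30 : ok3 30 = true := by decide +kernel
theorem ok3_31 : ok3 31 = true := by decide +kernel
theorem ok3_32 : ok3 32 = true := by decide +kernel
theorem ok3_33 : ok3 33 = true := by decide +kernel
theorem ok3_34 : ok3 34 = true := by decide +kernel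
theorem ok3_35 : ok3 35 = true := by decide +kernel
theorem ok3_36 : ok3 36 = true := by decide +kernel
theorem ok3_37 : ok3 37 = true := by decide +kernel
theorem ok3_38 : ok3 38 = true := by decide +kernel
theorem ok3_39 : ok3 39 = true := by decide +kernel
theorem ok3_40 : ok3 40 = true := by decide +kernel
theorem ok3_41 : ok3 41 = true := by decide +kernel
theorem ok3_42 : ok3 42 = true := by decide +kernel

theorem ok3_chunk3 (j : ℕ) (h1 : 30 ≤ j) (h2 : j < 43) : ok3 j = true := by
  interval_cases j
  · exact ok3_30
  · exact ok3_31
  · exact ok3_32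
  · exact ok3_33
  · exact ok3_34
  · exact ok3_35
  · exact ok3_36
  · exact ok3_37
  · exact ok3_38
  · exact ok3_39
  · exact ok3_40
  · exact ok3_41
  · exact ok3_42

end Cfsg.Agent.Lib.Helper10.Co2M3.Helper9
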