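import Cfsg.Agent.Lib.Helper9.Co2M3RELDefs
import Cfsg.Agent.Lib.Helper9.Co2M3RELC1
import Cfsg.Agent.Lib.Helper9.Co2M3RELC2
import Cfsg.Agent.Lib.Helper9.Co2M3RELC3

/-!
# S2044, the prime 3, piece [P3-REL] (helper9 for helper10): the relators `rels0` hold for `gP`
-/

set_option autoImplicit false

namespace Cfsg.Agent.Lib.Helper10.Co2M3

open Cfsg.H5.TCk

namespace Helper9

theorem ok3_all (j : ℕ) (hj : j < 43) : ok3 j = true := by
  by_cases h1 : j < 16
  · exact ok3_chunk1 j (by omega) h1
  by_cases h2 : j < 30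
  · exact ok3_chunk2 j (by omega) h2
  exact ok3_chunk3 j (by omega) (by omega)

end Helper9

/-- the relators of the group of order 933120 hold for the three permutations -/
theorem rels0_hold : ∀ r ∈ rels0, Cfsg.H5.TCk.ev gP r = 1 := Helper9.all_of_ok3 Helper9.ok3_all

/-- the relators of the complement hold for the first two permutations -/
theorem rels1_hold : ∀ r ∈ rels1, Cfsg.H5.TCk.ev gP r = 1 :=
  fun r hr => rels0_hold r (Helper9.rels1_sub r hr)

end Cfsg.Agent.Lib.Helper10.Co2M3
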