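import Mathlib

/-!
# S2046 piece [C2], generic part (helper9 for helper18): orders of two-generator `p`-subgroups

* `sq_dvd_card_closure_pair`: commuting `x, y` of order dividing `p`, `x ≠ 1`, `y ∉ ⟨x⟩`: `p² ∣ |⟨x, y⟩|`;
* `cube_dvd_card_closure_pair`: `a, b` of order dividing `p` whose commutator `z ≠ 1` commutes with both:
  `p³ ∣ |⟨a, b⟩|`;
* `not_dvd_index_of_pow_dvd`: if `p ^ k ∣ |H|` and `p ^ (k + 1) ∤ |G|` then `p ∤ [G : H]`.
-/

set_option autoImplicit false

namespace Cfsg.Agent.Lib.Helper18.HSMult.Helper9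

open scoped commutatorElement

variable {G : Type*} [Group G]

theorem isPGroup_zpowers (p : ℕ) (g : G) (hg : g ^ p = 1) : IsPGroup p (Subgroup.zpowers g) := by
  rintro ⟨h, hh⟩
  obtain ⟨n, rfl⟩ := Subgroup.mem_zpowers_iff.mp hh
  refine ⟨1, ?_⟩
  apply Subtype.ext
  rw [pow_one, Subgroup.coe_pow, Subgroup.coe_one]
  show (g ^ n) ^ p = 1
  rw [← zpow_natCast, ← zpow_mul, mul_comm, zpow_mul, zpow_natCast, hg, one_zpow]

theorem zpowers_le_centralizer (x y : G) (h : x * y = y * x) :
    Subgroup.zpowers x ≤ Subgroup.centralizer (Subgroup.zpowers y : Set G) := by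
  rw [Subgroup.zpowers_le]
  rw [Subgroup.mem_centralizer_iff]
  intro w hw
  obtain ⟨n, rfl⟩ := Subgroup.mem_zpowers_iff.mp hw
  have hc : Commute x y := h
  exact ((hc.zpow_right n).eq).symm

/-- commuting elements of order dividing `p` generate a `p`-group -/
theorem isPGroup_closure_pair (p : ℕ) [Fact p.Prime] (x y : G) (hxy : x * y = y * x)
    (hx : x ^ p = 1) (hy : y ^ p = 1) : IsPGroup p (Subgroup.closure ({x, y} : Set G)) := by
  have h1 : IsPGroup p (Subgroup.zpowers x ⊔ Subgroup.zpowers y : Subgroup G) :=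
    IsPGroup.to_sup_of_normal_right' (isPGroup_zpowers p x hx) (isPGroup_zpowers p y hy)
      ((zpowers_le_centralizer x y hxy).trans (Subgroup.centralizer_le_normalizer _))
  refine h1.to_le ?_
  rw [Subgroup.closure_le]
  intro w hw
  rcases hw with rfl | hw
  · exact (le_sup_left : Subgroup.zpowers w ≤ _) (Subgroup.mem_zpowers w)
  · rw [Set.mem_singleton_iff] at hw
    subst hw
    exact (le_sup_right : Subgroup.zpowers w ≤ _) (Subgroup.mem_zpowers w)

theorem pow_dvd_of_isPGroup_of_lt [Finite G] (p : ℕ) [Fact p.Prime] (H : Subgroup G)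
    (hH : IsPGroup p H) (k : ℕ) (hk : p ^ k < Nat.card H) : p ^ (k + 1) ∣ Nat.card H := by
  obtain ⟨n, hn⟩ := hH.exists_card_eq
  rw [hn] at hk ⊢
  have hp : p.Prime := Fact.out
  have : k < n := (Nat.pow_lt_pow_iff_right hp.one_lt).mp hk
  exact pow_dvd_pow p this

theorem card_lt_of_lt [Finite G] (H K : Subgroup G) (hle : H ≤ K) (g : G) (hgK : g ∈ K)
    (hgH : g ∉ H) : Nat.card H < Nat.card K := by
  by_contra hcon
  push Not at hcon
  have h := Subgroup.eq_of_le_of_card_ge hle hcon
  exact hgH (h ▸ hgK)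

/-- commuting `x, y` of order dividing `p`, `x ≠ 1`, `y ∉ ⟨x⟩`: `p² ∣ |⟨x, y⟩|` -/
theorem sq_dvd_card_closure_pair [Finite G] (p : ℕ) [Fact p.Prime] (x y : G) (hxy : x * y = y * x)
    (hx : x ^ p = 1) (hy : y ^ p = 1) (hx1 : x ≠ 1) (hyx : y ∉ Subgroup.zpowers x) :
    p ^ 2 ∣ Nat.card (Subgroup.closure ({x, y} : Set G)) := by
  have hp : p.Prime := Fact.out
  have hP := isPGroup_closure_pair p x y hxy hx hy
  have hxH : x ∈ Subgroup.closure ({x, y} : Set G) := Subgroup.subset_closure (Set.mem_insert _ _)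
  have hyH : y ∈ Subgroup.closure ({x, y} : Set G) :=
    Subgroup.subset_closure (Set.mem_insert_of_mem _ (Set.mem_singleton _))
  have hle : Subgroup.zpowers x ≤ Subgroup.closure ({x, y} : Set G) :=
    (Subgroup.zpowers_le).mpr hxH
  have hlt := card_lt_of_lt _ _ hle y hyH hyx
  have hcx : Nat.card (Subgroup.zpowers x) = p := by
    rw [Nat.card_zpowers]
    exact orderOf_eq_prime hx hx1
  rw [hcx] at hlt
  have := pow_dvd_of_isPGroup_of_lt p _ hP 1 (by rwa [pow_one])
  simpa using this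

/-- conjugation by `g` maps `closure S` into itself if it does so on `S` -/
theorem conj_mem_closure (S : Set G) (g : G)
    (h : ∀ s ∈ S, g * s * g⁻¹ ∈ Subgroup.closure S) :
    ∀ w ∈ Subgroup.closure S, g * w * g⁻¹ ∈ Subgroup.closure S := by
  intro w hw
  induction hw using Subgroup.closure_induction with
  | mem s hs => exact h s hs
  | one => simp
  | mul a b _ _ iha ihb =>
    have : g * (a * b) * g⁻¹ = (g * a * g⁻¹) * (g * b * g⁻¹) := by group
    rw [this]
    exact Subgroup.mul_mem _ iha ihb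
  | inv a _ iha =>
    have : g * a⁻¹ * g⁻¹ = (g * a * g⁻¹)⁻¹ := by group
    rw [this]
    exact Subgroup.inv_mem _ iha

/-- `a, b` of order dividing `p` whose commutator `z ≠ 1` commutes with both: `p³ ∣ |⟨a, b⟩|` -/
theorem cube_dvd_card_closure_pair [Finite G] (p : ℕ) [Fact p.Prime] (a b : G)
    (ha : a ^ p = 1) (hb : b ^ p = 1) (hza : ⁅a, b⁆ * a = a * ⁅a, b⁆)
    (hzb : ⁅a, b⁆ * b = b * ⁅a, b⁆) (hz : ⁅a, b⁆ ≠ 1) :
    p ^ 3 ∣ Nat.card (Subgroup.closure ({a, b} : Set G)) := by
  have hp : p.Prime := Fact.out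
  obtain ⟨z, hzdef⟩ : ∃ z : G, z = ⁅a, b⁆ := ⟨_, rfl⟩
  rw [← hzdef] at hza hzb hz
  have hzexp : z = a * b * a⁻¹ * b⁻¹ := by rw [hzdef, commutatorElement_def]
  -- `a b a⁻¹ = z b`
  have hconj : a * b * a⁻¹ = z * b := by rw [hzexp]; group
  -- `z ^ p = 1`
  have hzp : z ^ p = 1 := by
    have h1 : a * b ^ p * a⁻¹ = (z * b) ^ p := by
      rw [← hconj]
      exact (conj_pow (a := a) (b := b) (i := p)).symm
    have hc : Commute z b := hzb
    rw [hc.mul_pow, hb, mul_one, mul_one, mul_inv_cancel] at h1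
    exact h1.symm
  -- `N = ⟨z, a⟩`
  have haN : a ∉ Subgroup.zpowers z := by
    intro hmem
    obtain ⟨n, hn⟩ := Subgroup.mem_zpowers_iff.mp hmem
    have hc : Commute z b := hzb
    have hab : Commute a b := by rw [← hn]; exact hc.zpow_left n
    apply hz
    rw [hzexp]
    have : a * b = b * a := hab
    rw [this]
    group
  have hN2 : p ^ 2 ∣ Nat.card (Subgroup.closure ({z, a} : Set G)) :=
    sq_dvd_card_closure_pair p z a hza hzp ha hz haN
  have hNP : IsPGroup p (Subgroup.closure ({z, a} : Set G)) := isPGroup_closure_pair p z a hza hzp ha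
  -- membership facts
  have haH : a ∈ Subgroup.closure ({a, b} : Set G) := Subgroup.subset_closure (Set.mem_insert _ _)
  have hbH : b ∈ Subgroup.closure ({a, b} : Set G) :=
    Subgroup.subset_closure (Set.mem_insert_of_mem _ (Set.mem_singleton _))
  have hzH : z ∈ Subgroup.closure ({a, b} : Set G) := by
    rw [hzexp]
    exact Subgroup.mul_mem _ (Subgroup.mul_mem _ (Subgroup.mul_mem _ haH hbH)
      (Subgroup.inv_mem _ haH)) (Subgroup.inv_mem _ hbH)
  have hNle : Subgroup.closure ({z, a} : Set G) ≤ Subgroup.closure ({a, b} : Set G) := by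
    rw [Subgroup.closure_le]
    intro w hw
    rcases hw with rfl | hw
    · exact hzH
    · rw [Set.mem_singleton_iff] at hw; subst hw; exact haH
  -- `b ∉ N` since `N` centralizes `a`
  have hNcent : Subgroup.closure ({z, a} : Set G) ≤ Subgroup.centralizer ({a} : Set G) := by
    rw [Subgroup.closure_le]
    intro w hw
    rw [SetLike.mem_coe, Subgroup.mem_centralizer_iff]
    intro c hc
    rw [Set.mem_singleton_iff] at hc
    subst hc
    rcases hw with rfl | hw
    · exact hza.symm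
    · rw [Set.mem_singleton_iff] at hw; subst hw; rfl
  have hbN : b ∉ Subgroup.closure ({z, a} : Set G) := by
    intro hmem
    have h1 := hNcent hmem
    rw [Subgroup.mem_centralizer_iff] at h1
    have h2 : a * b = b * a := h1 a (Set.mem_singleton a)
    apply hz
    rw [hzexp, h2]
    group
  have hlt := card_lt_of_lt _ _ hNle b hbH hbN
  -- `b` normalizes `N`
  have hzmemN : z ∈ Subgroup.closure ({z, a} : Set G) := Subgroup.subset_closure (Set.mem_insert _ _)
  have hamemN : a ∈ Subgroup.closure ({z, a} : Set G) :=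
    Subgroup.subset_closure (Set.mem_insert_of_mem _ (Set.mem_singleton _))
  have hbz : b * z * b⁻¹ = z := by
    have : b * z = z * b := hzb.symm
    rw [this]; group
  have hbz' : b⁻¹ * z * b⁻¹⁻¹ = z := by
    rw [inv_inv]
    have : z * b = b * z := hzb
    rw [mul_assoc, this]; group
  have hba : b * a * b⁻¹ = z⁻¹ * a := by
    rw [hzexp]; group
  have hba' : b⁻¹ * a * b⁻¹⁻¹ = z * a := by
    rw [inv_inv]
    -- `z a = b⁻¹ a b`  ⟸  `b z a = a b`
    have h1 : b * z = z * b := hzb.symm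
    have h2 : z * b * a = a * b := by rw [hzexp]; group
    calc b⁻¹ * a * b = b⁻¹ * (a * b) := by group
      _ = b⁻¹ * (z * b * a) := by rw [h2]
      _ = b⁻¹ * (b * z * a) := by rw [h1]
      _ = z * a := by group
  have hconj1 : ∀ w ∈ Subgroup.closure ({z, a} : Set G), b * w * b⁻¹ ∈ Subgroup.closure ({z, a} : Set G) := by
    apply conj_mem_closure
    intro s hs
    rcases hs with rfl | hs
    · rw [hbz]; exact hzmemN
    · rw [Set.mem_singleton_iff] at hs; subst hs
      rw [hba]; exact Subgroup.mul_mem _ (Subgroup.inv_mem _ hzmemN) hamemN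
  have hconj2 : ∀ w ∈ Subgroup.closure ({z, a} : Set G), b⁻¹ * w * b⁻¹⁻¹ ∈ Subgroup.closure ({z, a} : Set G) := by
    apply conj_mem_closure
    intro s hs
    rcases hs with rfl | hs
    · rw [hbz']; exact hzmemN
    · rw [Set.mem_singleton_iff] at hs; subst hs
      rw [hba']; exact Subgroup.mul_mem _ hzmemN hamemN
  have hbnorm : b ∈ Subgroup.normalizer (Subgroup.closure ({z, a} : Set G) : Set G) := by
    rw [Subgroup.mem_normalizer_iff]
    intro w
    constructor
    · exact hconj1 w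
    · intro hw
      have := hconj2 _ hw
      have e : b⁻¹ * (b * w * b⁻¹) * b⁻¹⁻¹ = w := by group
      rwa [e] at this
  have hKP : IsPGroup p (Subgroup.zpowers b ⊔ Subgroup.closure ({z, a} : Set G) : Subgroup G) :=
    IsPGroup.to_sup_of_normal_right' (isPGroup_zpowers p b hb) hNP
      ((Subgroup.zpowers_le).mpr hbnorm)
  have hHP : IsPGroup p (Subgroup.closure ({a, b} : Set G)) := by
    refine hKP.to_le ?_
    rw [Subgroup.closure_le]
    intro w hw
    rcases hw with rfl | hw
    · exact (le_sup_right : Subgroup.closure ({z, w} : Set G) ≤ _) hamemN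
    · rw [Set.mem_singleton_iff] at hw; subst hw
      exact (le_sup_left : Subgroup.zpowers w ≤ _) (Subgroup.mem_zpowers w)
  have hge : p ^ 2 ≤ Nat.card (Subgroup.closure ({z, a} : Set G)) :=
    Nat.le_of_dvd Nat.card_pos hN2
  exact pow_dvd_of_isPGroup_of_lt p _ hHP 2 (lt_of_le_of_lt hge hlt)

/-- if `p ^ k ∣ |H|` and `p ^ (k + 1) ∤ |G|` then `p ∤ [G : H]` -/
theorem not_dvd_index_of_pow_dvd [Finite G] (p : ℕ) (H : Subgroup G) (k : ℕ)
    (h1 : p ^ k ∣ Nat.card H) (h2 : ¬ p ^ (k + 1) ∣ Nat.card G) : ¬ p ∣ H.index := by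
  intro h3
  apply h2
  rw [← Subgroup.card_mul_index H, pow_succ]
  exact Nat.mul_dvd_mul h1 h3

end Cfsg.Agent.Lib.Helper18.HSMult.Helper9
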