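import Mathlib
import Cfsg.Agent.H5.TCkSound
import Cfsg.Agent.H5.StemTC
import Cfsg.Agent.Lib.Helper28.BSGSPerm
import Cfsg.Agent.Lib.Helper1.WeakL3
import Cfsg.Agent.Lib.Helper17.WeakL9
import Cfsg.Agent.Lib.Helper10.Co2M3Data

/-!
# S2044, the prime 3, piece [P3-UB] (helper9 for helper10): the upper bound `|⟨a3, b3, c3⟩| ≤ 933120`

`gP i` is the permutation of the `i`-th pair of tables of `gabc`.  If the relators `rels0` hold for `gP` then the two
coset enumerations (index 480 of `⟨a3⟩` in `⟨a3, b3⟩`, index 243 of `⟨a3, b3⟩` in `⟨a3, b3, c3⟩`) and `a3 ^ 8 = 1` give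
`|⟨a3, b3, c3⟩| ≤ 243 * 480 * 8 = 933120`.
-/

set_option autoImplicit false
set_option maxRecDepth 100000

namespace Cfsg.Agent.Lib.Helper10.Co2M3

open Cfsg.Agent.Lib.Helper28.BSGS Cfsg.H5.TCk Cfsg.Agent.Lib.Helper10.Weak

/-- the permutations `a3`, `b3`, `c3` of the 4600 points -/
noncomputable def gP (i : ℕ) : Equiv.Perm (Fin 4600) :=
  permOf 4600 13 (gabc.getD i (0, 0)).1 (gabc.getD i (0, 0)).2

theorem genGroup_eq : Cfsg.Agent.Lib.Helper28.BSGS.genGroup 4600 13 gabc =
    Subgroup.closure (Set.range fun i : Fin 3 => gP i.val) := by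
  unfold Cfsg.Agent.Lib.Helper28.BSGS.genGroup
  congr 1
  ext s
  simp only [Set.mem_ofPred_eq, Set.mem_range]
  unfold semGens gabc
  simp only [List.map_cons, List.map_nil, List.mem_cons, List.not_mem_nil, or_false]
  constructor
  · rintro (rfl | rfl | rfl)
    · exact ⟨0, rfl⟩
    · exact ⟨1, rfl⟩
    · exact ⟨2, rfl⟩
  · rintro ⟨i, rfl⟩
    fin_cases i
    · exact Or.inl rfl
    · exact Or.inr (Or.inl rfl)
    · exact Or.inr (Or.inr rfl)

namespace Helper9

theorem card_zpowers_le {Γ : Type*} [Group Γ] (x : Γ) {n : ℕ} (hn : 0 < n) (hx : x ^ n = 1) :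
    Finite (Subgroup.zpowers x) ∧ Nat.card (Subgroup.zpowers x) ≤ n := by
  have hfin : IsOfFinOrder x := isOfFinOrder_iff_pow_eq_one.mpr ⟨n, hn, hx⟩
  refine ⟨?_, ?_⟩
  · exact Nat.finite_of_card_ne_zero (by
      rw [Nat.card_zpowers]; exact (orderOf_pos_iff.mpr hfin).ne')
  · rw [Nat.card_zpowers]
    exact Nat.le_of_dvd hn (orderOf_dvd_of_pow_eq_one hx)

theorem ev_single {Γ : Type*} [Group Γ] (γ : ℕ → Γ) (i : ℕ) : ev γ [2 * i] = γ i := by
  show gl γ (2 * i) * 1 = γ i
  rw [mul_one, Helper1.gl_even]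

theorem mem_closure_range {Γ : Type*} [Group Γ] (γ : ℕ → Γ) {t i : ℕ} (hi : i < t) :
    γ i ∈ Subgroup.closure (Set.range fun k : Fin t => γ k.val) :=
  Subgroup.subset_closure ⟨⟨i, hi⟩, rfl⟩

theorem rels1_letters : ∀ r ∈ rels1, r.all (fun l => decide (l < 2 * 2)) = true := by
  have h : (rels1.all fun r => r.all fun l => decide (l < 2 * 2)) = true := by decide +kernel
  intro r hr
  rw [List.all_eq_true] at h
  exact h r hr

theorem rels0_letters : ∀ r ∈ rels0, r.all (fun l => decide (l < 2 * 3)) = true := by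
  have h : (rels0.all fun r => r.all fun l => decide (l < 2 * 3)) = true := by decide +kernel
  intro r hr
  rw [List.all_eq_true] at h
  exact h r hr

theorem rels1_sub : ∀ r ∈ rels1, r ∈ rels0 := by
  intro r hr
  unfold rels1 at hr
  unfold rels0
  rw [List.mem_append] at hr
  rcases hr with hr | hr
  · simp only [List.mem_cons, List.not_mem_nil, or_false] at hr
    rcases hr with rfl | rfl
    · simp
    · simp
  · exact List.mem_append_left _ (List.mem_append_right _ hr)

theorem pow8_mem : List.replicate 8 0 ∈ rels0 := by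
  unfold rels0
  simp

end Helper9

open Helper9

theorem card_le_of (hrel : ∀ r ∈ rels0, Cfsg.H5.TCk.ev gP r = 1)
    (h1 : Cfsg.H5.TCk.check 40 20 (2 * 2) 500 480 defs1 rels1 [[0]] log1 = true)
    (h0 : Cfsg.H5.TCk.check 40 20 (2 * 3) 1077 243 defs0 rels0 [[0], [2]] log0 = true) :
    Nat.card ↥(Cfsg.Agent.Lib.Helper28.BSGS.genGroup 4600 13 gabc) ≤ 933120 := by
  rw [genGroup_eq]
  have hp : gP 0 ^ 8 = 1 := by
    have h := hrel _ pow8_mem
    rw [Helper1.ev_replicate] at h
    have h2 : gl gP 0 = gP 0 := Helper1.gl_even gP 0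
    rw [h2] at h
    exact h
  have hz := card_zpowers_le (gP 0) (by norm_num : 0 < 8) hp
  have := hz.1
  have e0 : ev gP [0] = gP 0 := ev_single gP 0
  have e2 : ev gP [2] = gP 1 := ev_single gP 1
  have hK := card_closure_le gP 2 rels1 rels1_letters (fun r hr => hrel r (rels1_sub r hr)) [[0]]
    (by decide) (Subgroup.zpowers (gP 0))
    (by
      intro g hg
      rw [List.mem_singleton] at hg
      rw [hg, e0]
      exact Subgroup.mem_zpowers _)
    40 20 500 480 defs1 log1 h1
  have := hK.1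
  have hN := card_closure_le gP 3 rels0 rels0_letters hrel [[0], [2]] (by decide)
    (Subgroup.closure (Set.range fun i : Fin 2 => gP i.val))
    (by
      intro g hg
      simp only [List.mem_cons, List.not_mem_nil, or_false] at hg
      rcases hg with rfl | rfl
      · rw [e0]; exact mem_closure_range gP (by norm_num)
      · rw [e2]; exact mem_closure_range gP (by norm_num))
    40 20 1077 243 defs0 log0 h0
  have a1 := hz.2
  have a2 := hK.2
  have a3 := hN.2
  calc Nat.card ↥(Subgroup.closure (Set.range fun i : Fin 3 => gP i.val))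
      ≤ 243 * Nat.card ↥(Subgroup.closure (Set.range fun i : Fin 2 => gP i.val)) := a3
    _ ≤ 243 * (480 * Nat.card ↥(Subgroup.zpowers (gP 0))) := Nat.mul_le_mul_left _ a2
    _ ≤ 243 * (480 * 8) := Nat.mul_le_mul_left _ (Nat.mul_le_mul_left _ a1)
    _ = 933120 := by norm_num

end Cfsg.Agent.Lib.Helper10.Co2M3
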