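import Cfsg.Agent.Lib.Helper9.StCCBBTDefs

set_option autoImplicit false

/-! Steinberg's Theorem 10, PART B, piece [BT]: the shapes of the commutator formulas of type
`E6` (kernel-checked certificate). -/

namespace Cfsg.Agent.Lib.Helper14.StCC.B

open Cfsg.Lie Cfsg.Agent.Lib.Helper8.Chev

namespace Helper9

set_option maxRecDepth 1000000 in
theorem rows_E6 : rowsB chevE6 (List.range chevE6.nroots) = true := by decide +kernel

end Helper9

theorem shapeP_E6 {r s : ℕ} (hr : r < chevE6.nroots) (hs : s < chevE6.nroots) (h1 : s ≠ r)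
    (h2 : s ≠ chevE6.neg r) : ShapeP chevE6 r s :=
  Helper9.rowsB_spec Helper9.rows_E6 (List.mem_range.mpr hr) hs h1 h2

end Cfsg.Agent.Lib.Helper14.StCC.B
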