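import Cfsg.Agent.Lib.Helper9.StCCBBTDefs

set_option autoImplicit false

/-! Steinberg's Theorem 10, PART B, piece [BT]: the shapes of the commutator formulas of the
types `G2`, `B2`, `D4`, `F4` (kernel-checked certificates). -/

namespace Cfsg.Agent.Lib.Helper14.StCC.B

open Cfsg.Lie Cfsg.Agent.Lib.Helper8.Chev

namespace Helper9

set_option maxRecDepth 1000000 in
theorem rows_G2 : rowsB chevG2 (List.range chevG2.nroots) = true := by decide +kernel

set_option maxRecDepth 1000000 in
theorem rows_B2 : rowsB chevB2 (List.range chevB2.nroots) = true := by decide +kernel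

set_option maxRecDepth 1000000 in
theorem rows_D4 : rowsB chevD4 (List.range chevD4.nroots) = true := by decide +kernel

set_option maxRecDepth 1000000 in
theorem rows_F4 : rowsB chevF4 (List.range chevF4.nroots) = true := by decide +kernel

end Helper9

theorem shapeP_G2 {r s : ℕ} (hr : r < chevG2.nroots) (hs : s < chevG2.nroots) (h1 : s ≠ r)
    (h2 : s ≠ chevG2.neg r) : ShapeP chevG2 r s :=
  Helper9.rowsB_spec Helper9.rows_G2 (List.mem_range.mpr hr) hs h1 h2

theorem shapeP_B2 {r s : ℕ} (hr : r < chevB2.nroots) (hs : s < chevB2.nroots) (h1 : s ≠ r)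
    (h2 : s ≠ chevB2.neg r) : ShapeP chevB2 r s :=
  Helper9.rowsB_spec Helper9.rows_B2 (List.mem_range.mpr hr) hs h1 h2

theorem shapeP_D4 {r s : ℕ} (hr : r < chevD4.nroots) (hs : s < chevD4.nroots) (h1 : s ≠ r)
    (h2 : s ≠ chevD4.neg r) : ShapeP chevD4 r s :=
  Helper9.rowsB_spec Helper9.rows_D4 (List.mem_range.mpr hr) hs h1 h2

theorem shapeP_F4 {r s : ℕ} (hr : r < chevF4.nroots) (hs : s < chevF4.nroots) (h1 : s ≠ r)
    (h2 : s ≠ chevF4.neg r) : ShapeP chevF4 r s :=
  Helper9.rowsB_spec Helper9.rows_F4 (List.mem_range.mpr hr) hs h1 h2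

end Cfsg.Agent.Lib.Helper14.StCC.B
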