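import Cfsg.Agent.Lib.Helper9.E8CCDDefs

set_option autoImplicit false
set_option Elab.async false

/-! S2107 piece [E8-D]: certificates `(a, b)` and kernel checks of `Dec1 chevE8 r s` for the rows
`r = 60..119` (sliced to keep the memory of each declaration small). -/

namespace Cfsg.Agent.Lib.Helper10.E8CC.Helper9

open Cfsg.Lie Cfsg.Agent.Lib.Helper8.Chev

set_option maxHeartbeats 0 in
/-- certificates for the rows `60..69` -/
def certE8_60 : List (List (ℕ × ℕ)) :=
  [
    [(2, 117), (0, 120), (0, 122), (0, 125), (0, 129), (0, 134), (0, 140), (0, 146), (0, 151),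
     (0, 155), (0, 158), (0, 160), (0, 161), (1, 161), (0, 168), (0, 173), (0, 177), (0, 0),
     (0, 182), (0, 0), (2, 182), (0, 187), (0, 190), (0, 192), (0, 193), (1, 193), (0, 196),
     (0, 198), (0, 199), (1, 199), (0, 201), (0, 0), (2, 201), (0, 203), (1, 203), (2, 203),
     (0, 206), (0, 208), (0, 209), (1, 209), (0, 211), (0, 0), (2, 211), (0, 213), (1, 213),
     (2, 213), (0, 215), (0, 0), (2, 215), (0, 217), (1, 217), (2, 217), (0, 0), (4, 215), (0, 0),
     (4, 217), (0, 220), (0, 221), (1, 221), (0, 222), (0, 0), (2, 222), (0, 223), (1, 223),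
     (2, 223), (3, 223), (0, 224), (1, 224), (2, 224), (3, 224), (4, 224), (0, 225), (1, 225),
     (2, 225), (3, 225), (4, 225), (5, 225), (6, 225), (0, 227), (0, 0), (2, 227), (0, 229),
     (1, 229), (2, 229), (0, 0), (4, 227), (0, 0), (4, 229), (0, 0), (5, 227), (0, 0), (5, 229),
     (0, 0), (0, 232), (1, 232), (2, 232), (3, 232), (4, 232), (5, 232), (0, 0), (7, 227), (0, 0),
     (7, 229), (0, 0), (0, 0), (0, 234), (1, 234), (2, 234), (3, 234), (4, 234), (0, 235),
     (1, 235), (2, 235), (3, 235), (0, 0), (10, 227), (0, 0), (0, 237), (1, 237), (0, 0), (1, 239),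
     (0, 0), (2, 239), (3, 237), (12, 229), (3, 239), (0, 0), (4, 237), (0, 0), (4, 239), (5, 235),
     (0, 0), (5, 237), (0, 0), (5, 239), (6, 234), (6, 235), (10, 232), (6, 237), (12, 232),
     (6, 239), (7, 234), (7, 235), (0, 0), (7, 237), (0, 0), (7, 239), (8, 235), (10, 234),
     (8, 237), (12, 234), (8, 239), (10, 235), (9, 237), (12, 235), (9, 239), (10, 237), (0, 0),
     (10, 239), (12, 237), (11, 239), (12, 239), (0, 0), (14, 234), (14, 235), (0, 0), (14, 237),
     (0, 0), (14, 239), (15, 235), (0, 0), (15, 237), (0, 0), (15, 239), (0, 0), (16, 237), (0, 0),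
     (16, 239), (0, 0), (0, 0), (0, 0), (0, 0), (18, 239), (0, 0), (22, 235), (21, 237), (24, 235),
     (21, 239), (22, 237), (0, 0), (22, 239), (24, 237), (23, 239), (24, 239), (26, 237), (0, 0),
     (26, 239), (28, 237), (27, 239), (28, 239), (0, 0), (30, 239), (0, 0), (33, 239), (36, 237),
     (0, 0), (36, 239), (38, 237), (37, 239), (38, 239), (0, 0), (40, 239), (0, 0), (43, 239),
     (0, 0), (46, 239), (0, 0), (49, 239), (0, 0), (57, 237), (56, 239), (57, 239), (59, 239),
     (62, 239), (66, 239), (71, 239), (0, 0), (78, 239), (0, 0), (81, 239), (0, 0), (0, 0),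
     (93, 239), (0, 0), (105, 239), (110, 239), (0, 0), (117, 239), (0, 0), (122, 237)],
    [(1, 119), (0, 120), (0, 122), (0, 125), (0, 129), (0, 134), (0, 140), (0, 146), (0, 151),
     (0, 155), (0, 158), (0, 160), (0, 161), (1, 161), (0, 168), (0, 173), (0, 177), (0, 0),
     (0, 0), (0, 183), (1, 183), (0, 187), (0, 190), (0, 192), (0, 193), (1, 193), (0, 196),
     (0, 198), (0, 199), (1, 199), (0, 0), (0, 202), (1, 202), (0, 203), (1, 203), (2, 203),
     (0, 206), (0, 208), (0, 209), (1, 209), (0, 0), (0, 212), (1, 212), (0, 213), (1, 213),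
     (2, 213), (0, 0), (0, 216), (1, 216), (0, 217), (1, 217), (2, 217), (0, 0), (0, 0), (4, 216),
     (4, 217), (0, 220), (0, 221), (1, 221), (0, 222), (1, 222), (0, 0), (0, 223), (1, 223),
     (2, 223), (3, 223), (0, 224), (1, 224), (2, 224), (3, 224), (4, 224), (0, 225), (1, 225),
     (2, 225), (3, 225), (4, 225), (5, 225), (6, 225), (0, 0), (0, 228), (1, 228), (0, 229),
     (1, 229), (2, 229), (0, 0), (0, 0), (4, 228), (4, 229), (0, 0), (0, 0), (5, 228), (5, 229),
     (0, 0), (0, 232), (1, 232), (2, 232), (3, 232), (4, 232), (5, 232), (0, 0), (0, 0), (7, 228),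
     (7, 229), (0, 0), (0, 0), (0, 234), (1, 234), (2, 234), (3, 234), (4, 234), (0, 235),
     (1, 235), (2, 235), (3, 235), (0, 0), (0, 0), (10, 228), (0, 0), (0, 0), (0, 238), (1, 239),
     (2, 238), (2, 239), (11, 229), (3, 238), (3, 239), (0, 0), (0, 0), (4, 238), (4, 239),
     (5, 235), (0, 0), (0, 0), (5, 238), (5, 239), (6, 234), (6, 235), (10, 232), (11, 232),
     (6, 238), (6, 239), (7, 234), (7, 235), (0, 0), (0, 0), (7, 238), (7, 239), (8, 235),
     (10, 234), (11, 234), (8, 238), (8, 239), (10, 235), (11, 235), (9, 238), (9, 239), (0, 0),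
     (10, 238), (10, 239), (11, 238), (11, 239), (12, 239), (0, 0), (14, 234), (14, 235), (0, 0),
     (0, 0), (14, 238), (14, 239), (15, 235), (0, 0), (0, 0), (15, 238), (15, 239), (0, 0), (0, 0),
     (16, 238), (16, 239), (0, 0), (0, 0), (0, 0), (0, 0), (0, 0), (19, 239), (22, 235), (23, 235),
     (21, 238), (21, 239), (0, 0), (22, 238), (22, 239), (23, 238), (23, 239), (24, 239), (0, 0),
     (26, 238), (26, 239), (27, 238), (27, 239), (28, 239), (0, 0), (0, 0), (31, 239), (33, 239),
     (0, 0), (36, 238), (36, 239), (37, 238), (37, 239), (38, 239), (0, 0), (0, 0), (41, 239),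
     (43, 239), (0, 0), (0, 0), (47, 239), (49, 239), (0, 0), (56, 238), (56, 239), (57, 239),
     (59, 239), (62, 239), (66, 239), (71, 239), (0, 0), (0, 0), (79, 239), (81, 239), (0, 0),
     (0, 0), (93, 239), (0, 0), (105, 239), (110, 239), (0, 0), (0, 0), (119, 239), (120, 238)],
    [(1, 119), (2, 118), (1, 121), (1, 124), (0, 129), (1, 133), (0, 140), (1, 145), (0, 151),
     (1, 154), (0, 158), (0, 160), (0, 161), (1, 161), (1, 167), (1, 172), (0, 0), (1, 179),
     (1, 181), (2, 181), (0, 0), (1, 186), (0, 190), (0, 192), (0, 193), (1, 193), (1, 195),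
     (1, 197), (2, 197), (0, 0), (0, 201), (0, 202), (1, 202), (0, 203), (1, 203), (2, 203),
     (1, 205), (1, 207), (2, 207), (0, 0), (0, 211), (0, 212), (1, 212), (0, 213), (1, 213),
     (2, 213), (1, 214), (2, 214), (0, 0), (3, 214), (0, 0), (0, 0), (0, 218), (1, 218), (2, 218),
     (3, 218), (0, 220), (0, 221), (1, 221), (0, 222), (1, 222), (2, 222), (0, 0), (1, 223),
     (2, 223), (3, 223), (0, 224), (1, 224), (2, 224), (3, 224), (4, 224), (0, 225), (1, 225),
     (2, 225), (3, 225), (4, 225), (5, 225), (6, 225), (1, 226), (2, 226), (0, 0), (3, 226),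
     (0, 0), (0, 0), (0, 230), (1, 230), (2, 230), (3, 230), (5, 226), (0, 0), (0, 0), (0, 0),
     (5, 230), (0, 232), (1, 232), (2, 232), (3, 232), (4, 232), (5, 232), (7, 226), (0, 0),
     (0, 0), (0, 0), (7, 230), (0, 0), (0, 234), (1, 234), (2, 234), (3, 234), (4, 234), (9, 226),
     (0, 0), (0, 0), (0, 0), (0, 236), (1, 236), (2, 236), (0, 237), (1, 237), (0, 238), (0, 0),
     (2, 238), (0, 0), (3, 237), (3, 238), (0, 0), (4, 236), (4, 237), (4, 238), (13, 230), (0, 0),
     (5, 236), (5, 237), (5, 238), (0, 0), (6, 234), (9, 232), (6, 236), (6, 237), (6, 238),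
     (13, 232), (7, 234), (0, 0), (7, 236), (7, 237), (7, 238), (0, 0), (9, 234), (8, 236),
     (8, 237), (8, 238), (13, 234), (9, 236), (9, 237), (9, 238), (0, 0), (10, 237), (10, 238),
     (13, 236), (11, 238), (13, 237), (13, 238), (0, 0), (14, 234), (0, 0), (14, 236), (14, 237),
     (14, 238), (0, 0), (0, 0), (15, 236), (15, 237), (15, 238), (0, 0), (0, 0), (0, 0), (0, 0),
     (0, 0), (17, 237), (17, 238), (0, 0), (18, 238), (0, 0), (0, 0), (21, 236), (21, 237),
     (21, 238), (0, 0), (22, 237), (22, 238), (25, 236), (23, 238), (25, 237), (25, 238),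
     (26, 237), (26, 238), (0, 0), (27, 238), (0, 0), (0, 0), (30, 238), (32, 237), (32, 238),
     (34, 238), (36, 237), (36, 238), (0, 0), (37, 238), (0, 0), (0, 0), (40, 238), (42, 237),
     (42, 238), (44, 238), (46, 238), (0, 0), (0, 0), (0, 0), (53, 238), (56, 238), (58, 237),
     (58, 238), (60, 238), (63, 238), (67, 238), (72, 238), (78, 238), (0, 0), (0, 0), (0, 0),
     (85, 238), (0, 0), (94, 238), (0, 0), (106, 238), (0, 0), (115, 238), (118, 238), (121, 237),
     (0, 0)],
    [(2, 117), (0, 120), (0, 122), (0, 125), (0, 129), (0, 134), (0, 140), (0, 146), (0, 151),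
     (0, 155), (0, 158), (0, 160), (0, 161), (1, 161), (0, 168), (0, 173), (0, 0), (0, 180),
     (0, 182), (0, 0), (2, 182), (0, 187), (0, 190), (0, 192), (0, 193), (1, 193), (0, 196),
     (0, 198), (0, 0), (2, 198), (0, 201), (0, 202), (1, 202), (0, 203), (1, 203), (2, 203),
     (0, 206), (0, 208), (0, 0), (2, 208), (0, 211), (0, 212), (1, 212), (0, 213), (1, 213),
     (2, 213), (0, 215), (0, 0), (2, 215), (0, 0), (3, 215), (0, 0), (0, 218), (1, 218), (2, 218),
     (3, 218), (0, 220), (0, 221), (1, 221), (0, 222), (1, 222), (2, 222), (0, 223), (0, 0),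
     (2, 223), (3, 223), (0, 224), (1, 224), (2, 224), (3, 224), (4, 224), (0, 225), (1, 225),
     (2, 225), (3, 225), (4, 225), (5, 225), (6, 225), (0, 227), (0, 0), (2, 227), (0, 0),
     (3, 227), (0, 0), (0, 230), (1, 230), (2, 230), (3, 230), (0, 0), (5, 227), (0, 0), (0, 0),
     (5, 230), (0, 232), (1, 232), (2, 232), (3, 232), (4, 232), (5, 232), (0, 0), (7, 227),
     (0, 0), (0, 0), (7, 230), (0, 0), (0, 234), (1, 234), (2, 234), (3, 234), (4, 234), (0, 0),
     (9, 227), (0, 0), (0, 0), (0, 236), (1, 236), (2, 236), (0, 237), (1, 237), (0, 0), (1, 239),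
     (0, 0), (2, 239), (3, 237), (0, 0), (3, 239), (4, 236), (4, 237), (12, 230), (4, 239), (0, 0),
     (5, 236), (5, 237), (0, 0), (5, 239), (6, 234), (9, 232), (6, 236), (6, 237), (12, 232),
     (6, 239), (7, 234), (0, 0), (7, 236), (7, 237), (0, 0), (7, 239), (9, 234), (8, 236),
     (8, 237), (12, 234), (8, 239), (9, 236), (9, 237), (0, 0), (9, 239), (10, 237), (12, 236),
     (10, 239), (12, 237), (11, 239), (12, 239), (0, 0), (14, 234), (0, 0), (14, 236), (14, 237),
     (0, 0), (14, 239), (0, 0), (15, 236), (15, 237), (0, 0), (15, 239), (0, 0), (0, 0), (0, 0),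
     (0, 0), (17, 237), (0, 0), (17, 239), (0, 0), (18, 239), (0, 0), (21, 236), (21, 237), (0, 0),
     (21, 239), (22, 237), (24, 236), (22, 239), (24, 237), (23, 239), (24, 239), (26, 237),
     (0, 0), (26, 239), (0, 0), (27, 239), (0, 0), (31, 237), (30, 239), (31, 239), (33, 239),
     (36, 237), (0, 0), (36, 239), (0, 0), (37, 239), (0, 0), (41, 237), (40, 239), (41, 239),
     (43, 239), (0, 0), (46, 239), (0, 0), (0, 0), (52, 239), (57, 237), (56, 239), (57, 239),
     (59, 239), (62, 239), (66, 239), (71, 239), (0, 0), (78, 239), (0, 0), (0, 0), (84, 239),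
     (0, 0), (93, 239), (0, 0), (105, 239), (0, 0), (114, 239), (117, 239), (0, 0), (122, 237)],
    [(1, 119), (0, 120), (0, 122), (0, 125), (0, 129), (0, 134), (0, 140), (0, 146), (0, 151),
     (0, 155), (0, 158), (0, 160), (0, 161), (1, 161), (0, 168), (0, 173), (0, 0), (0, 180),
     (0, 0), (0, 183), (1, 183), (0, 187), (0, 190), (0, 192), (0, 193), (1, 193), (0, 196),
     (0, 0), (0, 199), (1, 199), (0, 201), (0, 202), (1, 202), (0, 203), (1, 203), (2, 203),
     (0, 206), (0, 0), (0, 209), (1, 209), (0, 211), (0, 212), (1, 212), (0, 213), (1, 213),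
     (2, 213), (0, 0), (0, 216), (1, 216), (0, 0), (0, 0), (3, 216), (0, 218), (1, 218), (2, 218),
     (3, 218), (0, 220), (0, 221), (1, 221), (0, 222), (1, 222), (2, 222), (0, 223), (1, 223),
     (0, 0), (3, 223), (0, 224), (1, 224), (2, 224), (3, 224), (4, 224), (0, 225), (1, 225),
     (2, 225), (3, 225), (4, 225), (5, 225), (6, 225), (0, 0), (0, 228), (1, 228), (0, 0), (0, 0),
     (3, 228), (0, 230), (1, 230), (2, 230), (3, 230), (0, 0), (0, 0), (5, 228), (0, 0), (5, 230),
     (0, 232), (1, 232), (2, 232), (3, 232), (4, 232), (5, 232), (0, 0), (0, 0), (7, 228), (0, 0),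
     (7, 230), (0, 0), (0, 234), (1, 234), (2, 234), (3, 234), (4, 234), (0, 0), (0, 0), (9, 228),
     (0, 0), (0, 236), (1, 236), (2, 236), (0, 0), (0, 0), (0, 238), (1, 239), (2, 238), (2, 239),
     (0, 0), (3, 238), (3, 239), (4, 236), (11, 230), (4, 238), (4, 239), (0, 0), (5, 236), (0, 0),
     (5, 238), (5, 239), (6, 234), (9, 232), (6, 236), (11, 232), (6, 238), (6, 239), (7, 234),
     (0, 0), (7, 236), (0, 0), (7, 238), (7, 239), (9, 234), (8, 236), (11, 234), (8, 238),
     (8, 239), (9, 236), (0, 0), (9, 238), (9, 239), (11, 236), (10, 238), (10, 239), (11, 238),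
     (11, 239), (12, 239), (0, 0), (14, 234), (0, 0), (14, 236), (0, 0), (14, 238), (14, 239),
     (0, 0), (15, 236), (0, 0), (15, 238), (15, 239), (0, 0), (0, 0), (0, 0), (0, 0), (0, 0),
     (17, 238), (17, 239), (0, 0), (0, 0), (19, 239), (21, 236), (0, 0), (21, 238), (21, 239),
     (23, 236), (22, 238), (22, 239), (23, 238), (23, 239), (24, 239), (0, 0), (26, 238),
     (26, 239), (0, 0), (0, 0), (28, 239), (30, 238), (30, 239), (31, 239), (33, 239), (0, 0),
     (36, 238), (36, 239), (0, 0), (0, 0), (38, 239), (40, 238), (40, 239), (41, 239), (43, 239),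
     (0, 0), (0, 0), (47, 239), (0, 0), (52, 239), (56, 238), (56, 239), (57, 239), (59, 239),
     (62, 239), (66, 239), (71, 239), (0, 0), (0, 0), (79, 239), (0, 0), (84, 239), (0, 0),
     (93, 239), (0, 0), (105, 239), (0, 0), (114, 239), (0, 0), (119, 239), (120, 238)],
    [(1, 119), (0, 120), (0, 122), (0, 125), (0, 129), (0, 134), (0, 140), (0, 146), (0, 151),
     (0, 155), (0, 158), (0, 160), (0, 161), (1, 161), (0, 168), (0, 173), (0, 0), (0, 0),
     (0, 182), (0, 183), (1, 183), (0, 187), (0, 190), (0, 192), (0, 193), (1, 193), (0, 0),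
     (0, 198), (0, 199), (1, 199), (0, 201), (0, 202), (1, 202), (0, 203), (1, 203), (2, 203),
     (0, 0), (0, 208), (0, 209), (1, 209), (0, 211), (0, 212), (1, 212), (0, 213), (1, 213),
     (2, 213), (0, 0), (0, 0), (0, 0), (0, 217), (1, 217), (2, 217), (0, 218), (1, 218), (2, 218),
     (3, 218), (0, 220), (0, 221), (1, 221), (0, 222), (1, 222), (2, 222), (0, 223), (1, 223),
     (2, 223), (0, 0), (0, 224), (1, 224), (2, 224), (3, 224), (4, 224), (0, 225), (1, 225),
     (2, 225), (3, 225), (4, 225), (5, 225), (6, 225), (0, 0), (0, 0), (0, 0), (0, 229), (1, 229),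
     (2, 229), (0, 230), (1, 230), (2, 230), (3, 230), (0, 0), (0, 0), (0, 0), (5, 229), (5, 230),
     (0, 232), (1, 232), (2, 232), (3, 232), (4, 232), (5, 232), (0, 0), (0, 0), (0, 0), (7, 229),
     (7, 230), (0, 0), (0, 234), (1, 234), (2, 234), (3, 234), (4, 234), (0, 0), (0, 0), (0, 0),
     (9, 229), (0, 0), (0, 0), (0, 0), (0, 237), (1, 237), (0, 238), (1, 239), (2, 238), (2, 239),
     (3, 237), (3, 238), (3, 239), (10, 230), (4, 237), (4, 238), (4, 239), (0, 0), (0, 0),
     (5, 237), (5, 238), (5, 239), (6, 234), (9, 232), (10, 232), (6, 237), (6, 238), (6, 239),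
     (7, 234), (0, 0), (0, 0), (7, 237), (7, 238), (7, 239), (9, 234), (10, 234), (8, 237),
     (8, 238), (8, 239), (0, 0), (9, 237), (9, 238), (9, 239), (10, 237), (10, 238), (10, 239),
     (11, 238), (11, 239), (12, 239), (0, 0), (14, 234), (0, 0), (0, 0), (14, 237), (14, 238),
     (14, 239), (0, 0), (0, 0), (15, 237), (15, 238), (15, 239), (0, 0), (0, 0), (0, 0), (0, 0),
     (0, 0), (0, 0), (0, 0), (18, 238), (18, 239), (19, 239), (0, 0), (21, 237), (21, 238),
     (21, 239), (22, 237), (22, 238), (22, 239), (23, 238), (23, 239), (24, 239), (0, 0), (0, 0),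
     (0, 0), (27, 238), (27, 239), (28, 239), (30, 238), (30, 239), (31, 239), (33, 239), (0, 0),
     (0, 0), (0, 0), (37, 238), (37, 239), (38, 239), (40, 238), (40, 239), (41, 239), (43, 239),
     (0, 0), (0, 0), (0, 0), (49, 239), (52, 239), (56, 238), (56, 239), (57, 239), (59, 239),
     (62, 239), (66, 239), (71, 239), (0, 0), (0, 0), (0, 0), (81, 239), (84, 239), (0, 0),
     (93, 239), (0, 0), (105, 239), (0, 0), (0, 0), (117, 239), (119, 239), (120, 238)],
    [(1, 119), (2, 118), (1, 121), (1, 124), (1, 128), (0, 134), (0, 140), (1, 145), (1, 150),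
     (0, 155), (0, 158), (0, 160), (0, 161), (1, 161), (1, 167), (0, 0), (1, 176), (1, 179),
     (1, 181), (2, 181), (0, 0), (1, 186), (1, 189), (1, 191), (2, 191), (0, 0), (0, 196),
     (0, 198), (0, 199), (1, 199), (0, 201), (0, 202), (1, 202), (0, 203), (1, 203), (2, 203),
     (1, 205), (1, 207), (2, 207), (0, 0), (1, 210), (2, 210), (0, 0), (3, 210), (0, 0), (0, 0),
     (0, 215), (0, 216), (1, 216), (0, 217), (1, 217), (2, 217), (0, 218), (1, 218), (2, 218),
     (3, 218), (0, 220), (0, 221), (1, 221), (0, 222), (1, 222), (2, 222), (0, 223), (1, 223),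
     (2, 223), (3, 223), (0, 0), (1, 224), (2, 224), (3, 224), (4, 224), (0, 225), (1, 225),
     (2, 225), (3, 225), (4, 225), (5, 225), (6, 225), (1, 226), (2, 226), (0, 0), (3, 226),
     (0, 0), (0, 0), (4, 226), (0, 0), (0, 0), (0, 0), (0, 231), (1, 231), (2, 231), (3, 231),
     (4, 231), (0, 232), (1, 232), (2, 232), (3, 232), (4, 232), (5, 232), (7, 226), (0, 0),
     (0, 0), (0, 0), (0, 0), (7, 231), (8, 226), (0, 0), (0, 0), (0, 0), (0, 0), (0, 235),
     (1, 235), (2, 235), (3, 235), (0, 236), (1, 236), (2, 236), (0, 237), (1, 237), (0, 238),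
     (0, 0), (2, 238), (0, 0), (3, 237), (3, 238), (0, 0), (4, 236), (4, 237), (4, 238), (0, 0),
     (5, 235), (5, 236), (5, 237), (5, 238), (13, 231), (8, 232), (6, 235), (6, 236), (6, 237),
     (6, 238), (13, 232), (0, 0), (7, 235), (7, 236), (7, 237), (7, 238), (0, 0), (8, 235),
     (8, 236), (8, 237), (8, 238), (0, 0), (9, 236), (9, 237), (9, 238), (13, 235), (10, 237),
     (10, 238), (13, 236), (11, 238), (13, 237), (13, 238), (0, 0), (0, 0), (14, 235), (14, 236),
     (14, 237), (14, 238), (0, 0), (0, 0), (0, 0), (0, 0), (0, 0), (0, 0), (16, 236), (16, 237),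
     (16, 238), (0, 0), (17, 237), (17, 238), (0, 0), (18, 238), (0, 0), (0, 0), (21, 236),
     (21, 237), (21, 238), (0, 0), (22, 237), (22, 238), (0, 0), (23, 238), (0, 0), (0, 0),
     (26, 237), (26, 238), (29, 236), (27, 238), (29, 237), (29, 238), (30, 238), (32, 237),
     (32, 238), (34, 238), (36, 237), (36, 238), (0, 0), (37, 238), (0, 0), (0, 0), (40, 238),
     (0, 0), (0, 0), (0, 0), (46, 238), (48, 237), (48, 238), (50, 238), (53, 238), (56, 238),
     (58, 237), (58, 238), (60, 238), (63, 238), (67, 238), (72, 238), (78, 238), (0, 0), (0, 0),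
     (0, 0), (0, 0), (89, 238), (94, 238), (0, 0), (0, 0), (111, 238), (115, 238), (118, 238),
     (121, 237), (0, 0)],
    [(2, 117), (0, 120), (0, 122), (0, 125), (0, 129), (0, 134), (0, 140), (0, 146), (0, 151),
     (0, 155), (0, 158), (0, 160), (0, 161), (1, 161), (0, 168), (0, 0), (0, 177), (0, 180),
     (0, 182), (0, 0), (2, 182), (0, 187), (0, 190), (0, 192), (0, 0), (2, 192), (0, 196),
     (0, 198), (0, 199), (1, 199), (0, 201), (0, 202), (1, 202), (0, 203), (1, 203), (2, 203),
     (0, 206), (0, 208), (0, 0), (2, 208), (0, 211), (0, 0), (2, 211), (0, 0), (3, 211), (0, 0),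
     (0, 215), (0, 216), (1, 216), (0, 217), (1, 217), (2, 217), (0, 218), (1, 218), (2, 218),
     (3, 218), (0, 220), (0, 221), (1, 221), (0, 222), (1, 222), (2, 222), (0, 223), (1, 223),
     (2, 223), (3, 223), (0, 224), (0, 0), (2, 224), (3, 224), (4, 224), (0, 225), (1, 225),
     (2, 225), (3, 225), (4, 225), (5, 225), (6, 225), (0, 227), (0, 0), (2, 227), (0, 0),
     (3, 227), (0, 0), (0, 0), (4, 227), (0, 0), (0, 0), (0, 231), (1, 231), (2, 231), (3, 231),
     (4, 231), (0, 232), (1, 232), (2, 232), (3, 232), (4, 232), (5, 232), (0, 0), (7, 227),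
     (0, 0), (0, 0), (0, 0), (7, 231), (0, 0), (8, 227), (0, 0), (0, 0), (0, 0), (0, 235),
     (1, 235), (2, 235), (3, 235), (0, 236), (1, 236), (2, 236), (0, 237), (1, 237), (0, 0),
     (1, 239), (0, 0), (2, 239), (3, 237), (0, 0), (3, 239), (4, 236), (4, 237), (0, 0), (4, 239),
     (5, 235), (5, 236), (5, 237), (12, 231), (5, 239), (8, 232), (6, 235), (6, 236), (6, 237),
     (12, 232), (6, 239), (0, 0), (7, 235), (7, 236), (7, 237), (0, 0), (7, 239), (8, 235),
     (8, 236), (8, 237), (0, 0), (8, 239), (9, 236), (9, 237), (12, 235), (9, 239), (10, 237),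
     (12, 236), (10, 239), (12, 237), (11, 239), (12, 239), (0, 0), (0, 0), (14, 235), (14, 236),
     (14, 237), (0, 0), (14, 239), (0, 0), (0, 0), (0, 0), (0, 0), (0, 0), (16, 236), (16, 237),
     (0, 0), (16, 239), (17, 237), (0, 0), (17, 239), (0, 0), (18, 239), (0, 0), (21, 236),
     (21, 237), (0, 0), (21, 239), (22, 237), (0, 0), (22, 239), (0, 0), (23, 239), (0, 0),
     (26, 237), (28, 236), (26, 239), (28, 237), (27, 239), (28, 239), (31, 237), (30, 239),
     (31, 239), (33, 239), (36, 237), (0, 0), (36, 239), (0, 0), (37, 239), (0, 0), (0, 0),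
     (40, 239), (0, 0), (0, 0), (47, 237), (46, 239), (47, 239), (49, 239), (52, 239), (57, 237),
     (56, 239), (57, 239), (59, 239), (62, 239), (66, 239), (71, 239), (0, 0), (78, 239), (0, 0),
     (0, 0), (0, 0), (88, 239), (93, 239), (0, 0), (0, 0), (110, 239), (114, 239), (117, 239),
     (0, 0), (122, 237)],
    [(1, 119), (0, 120), (0, 122), (0, 125), (0, 129), (0, 134), (0, 140), (0, 146), (0, 151),
     (0, 155), (0, 158), (0, 160), (0, 161), (1, 161), (0, 168), (0, 0), (0, 177), (0, 180),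
     (0, 0), (0, 183), (1, 183), (0, 187), (0, 190), (0, 0), (0, 193), (1, 193), (0, 196),
     (0, 198), (0, 199), (1, 199), (0, 201), (0, 202), (1, 202), (0, 203), (1, 203), (2, 203),
     (0, 206), (0, 0), (0, 209), (1, 209), (0, 0), (0, 212), (1, 212), (0, 0), (0, 0), (3, 212),
     (0, 215), (0, 216), (1, 216), (0, 217), (1, 217), (2, 217), (0, 218), (1, 218), (2, 218),
     (3, 218), (0, 220), (0, 221), (1, 221), (0, 222), (1, 222), (2, 222), (0, 223), (1, 223),
     (2, 223), (3, 223), (0, 224), (1, 224), (0, 0), (3, 224), (4, 224), (0, 225), (1, 225),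
     (2, 225), (3, 225), (4, 225), (5, 225), (6, 225), (0, 0), (0, 228), (1, 228), (0, 0), (0, 0),
     (3, 228), (0, 0), (0, 0), (4, 228), (0, 0), (0, 231), (1, 231), (2, 231), (3, 231), (4, 231),
     (0, 232), (1, 232), (2, 232), (3, 232), (4, 232), (5, 232), (0, 0), (0, 0), (7, 228), (0, 0),
     (0, 0), (7, 231), (0, 0), (0, 0), (8, 228), (0, 0), (0, 0), (0, 235), (1, 235), (2, 235),
     (3, 235), (0, 236), (1, 236), (2, 236), (0, 0), (0, 0), (0, 238), (1, 239), (2, 238),
     (2, 239), (0, 0), (3, 238), (3, 239), (4, 236), (0, 0), (4, 238), (4, 239), (5, 235),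
     (5, 236), (11, 231), (5, 238), (5, 239), (8, 232), (6, 235), (6, 236), (11, 232), (6, 238),
     (6, 239), (0, 0), (7, 235), (7, 236), (0, 0), (7, 238), (7, 239), (8, 235), (8, 236), (0, 0),
     (8, 238), (8, 239), (9, 236), (11, 235), (9, 238), (9, 239), (11, 236), (10, 238), (10, 239),
     (11, 238), (11, 239), (12, 239), (0, 0), (0, 0), (14, 235), (14, 236), (0, 0), (14, 238),
     (14, 239), (0, 0), (0, 0), (0, 0), (0, 0), (0, 0), (16, 236), (0, 0), (16, 238), (16, 239),
     (0, 0), (17, 238), (17, 239), (0, 0), (0, 0), (19, 239), (21, 236), (0, 0), (21, 238),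
     (21, 239), (0, 0), (22, 238), (22, 239), (0, 0), (0, 0), (24, 239), (27, 236), (26, 238),
     (26, 239), (27, 238), (27, 239), (28, 239), (30, 238), (30, 239), (31, 239), (33, 239),
     (0, 0), (36, 238), (36, 239), (0, 0), (0, 0), (38, 239), (0, 0), (0, 0), (41, 239), (0, 0),
     (46, 238), (46, 239), (47, 239), (49, 239), (52, 239), (56, 238), (56, 239), (57, 239),
     (59, 239), (62, 239), (66, 239), (71, 239), (0, 0), (0, 0), (79, 239), (0, 0), (0, 0),
     (88, 239), (93, 239), (0, 0), (0, 0), (110, 239), (114, 239), (0, 0), (119, 239), (120, 238)],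
    [(1, 119), (0, 120), (0, 122), (0, 125), (0, 129), (0, 134), (0, 140), (0, 146), (0, 151),
     (0, 155), (0, 158), (0, 160), (0, 161), (1, 161), (0, 168), (0, 0), (0, 177), (0, 0),
     (0, 182), (0, 183), (1, 183), (0, 187), (0, 0), (0, 192), (0, 193), (1, 193), (0, 196),
     (0, 198), (0, 199), (1, 199), (0, 201), (0, 202), (1, 202), (0, 203), (1, 203), (2, 203),
     (0, 0), (0, 208), (0, 209), (1, 209), (0, 0), (0, 0), (0, 0), (0, 213), (1, 213), (2, 213),
     (0, 215), (0, 216), (1, 216), (0, 217), (1, 217), (2, 217), (0, 218), (1, 218), (2, 218),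
     (3, 218), (0, 220), (0, 221), (1, 221), (0, 222), (1, 222), (2, 222), (0, 223), (1, 223),
     (2, 223), (3, 223), (0, 224), (1, 224), (2, 224), (0, 0), (4, 224), (0, 225), (1, 225),
     (2, 225), (3, 225), (4, 225), (5, 225), (6, 225), (0, 0), (0, 0), (0, 0), (0, 229), (1, 229),
     (2, 229), (0, 0), (0, 0), (0, 0), (4, 229), (0, 231), (1, 231), (2, 231), (3, 231), (4, 231),
     (0, 232), (1, 232), (2, 232), (3, 232), (4, 232), (5, 232), (0, 0), (0, 0), (0, 0), (7, 229),
     (0, 0), (7, 231), (0, 0), (0, 0), (0, 0), (8, 229), (0, 0), (0, 235), (1, 235), (2, 235),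
     (3, 235), (0, 0), (0, 0), (0, 0), (0, 237), (1, 237), (0, 238), (1, 239), (2, 238), (2, 239),
     (3, 237), (3, 238), (3, 239), (0, 0), (4, 237), (4, 238), (4, 239), (5, 235), (10, 231),
     (5, 237), (5, 238), (5, 239), (8, 232), (6, 235), (10, 232), (6, 237), (6, 238), (6, 239),
     (0, 0), (7, 235), (0, 0), (7, 237), (7, 238), (7, 239), (8, 235), (0, 0), (8, 237), (8, 238),
     (8, 239), (10, 235), (9, 237), (9, 238), (9, 239), (10, 237), (10, 238), (10, 239), (11, 238),
     (11, 239), (12, 239), (0, 0), (0, 0), (14, 235), (0, 0), (14, 237), (14, 238), (14, 239),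
     (0, 0), (0, 0), (0, 0), (0, 0), (0, 0), (0, 0), (16, 237), (16, 238), (16, 239), (0, 0),
     (0, 0), (0, 0), (18, 238), (18, 239), (19, 239), (0, 0), (21, 237), (21, 238), (21, 239),
     (0, 0), (0, 0), (0, 0), (23, 238), (23, 239), (24, 239), (26, 237), (26, 238), (26, 239),
     (27, 238), (27, 239), (28, 239), (30, 238), (30, 239), (31, 239), (33, 239), (0, 0), (0, 0),
     (0, 0), (37, 238), (37, 239), (38, 239), (0, 0), (0, 0), (0, 0), (43, 239), (46, 238),
     (46, 239), (47, 239), (49, 239), (52, 239), (56, 238), (56, 239), (57, 239), (59, 239),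
     (62, 239), (66, 239), (71, 239), (0, 0), (0, 0), (0, 0), (81, 239), (0, 0), (88, 239),
     (93, 239), (0, 0), (0, 0), (110, 239), (0, 0), (117, 239), (119, 239), (120, 238)]
  ]

set_option maxRecDepth 1000000 in
theorem rowsD_E8_60 : rowsDB chevE8 certE8_60 60 = true := by decide +kernel

set_option maxHeartbeats 0 in
/-- certificates for the rows `70..79` -/
def certE8_70 : List (List (ℕ × ℕ)) :=
  [
    [(1, 119), (0, 120), (0, 122), (0, 125), (0, 129), (0, 134), (0, 140), (0, 146), (0, 151),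
     (0, 155), (0, 158), (0, 160), (0, 161), (1, 161), (0, 168), (0, 0), (0, 0), (0, 180),
     (0, 182), (0, 183), (1, 183), (0, 0), (0, 190), (0, 192), (0, 193), (1, 193), (0, 196),
     (0, 198), (0, 199), (1, 199), (0, 201), (0, 202), (1, 202), (0, 203), (1, 203), (2, 203),
     (0, 0), (0, 0), (0, 0), (0, 0), (0, 211), (0, 212), (1, 212), (0, 213), (1, 213), (2, 213),
     (0, 215), (0, 216), (1, 216), (0, 217), (1, 217), (2, 217), (0, 218), (1, 218), (2, 218),
     (3, 218), (0, 220), (0, 221), (1, 221), (0, 222), (1, 222), (2, 222), (0, 223), (1, 223),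
     (2, 223), (3, 223), (0, 224), (1, 224), (2, 224), (3, 224), (0, 0), (0, 225), (1, 225),
     (2, 225), (3, 225), (4, 225), (5, 225), (6, 225), (0, 0), (0, 0), (0, 0), (0, 0), (0, 0),
     (0, 0), (0, 230), (1, 230), (2, 230), (3, 230), (0, 231), (1, 231), (2, 231), (3, 231),
     (4, 231), (0, 232), (1, 232), (2, 232), (3, 232), (4, 232), (5, 232), (0, 0), (0, 0), (0, 0),
     (0, 0), (7, 230), (7, 231), (0, 0), (0, 0), (0, 0), (0, 0), (8, 230), (0, 0), (0, 0), (0, 0),
     (0, 0), (0, 236), (1, 236), (2, 236), (0, 237), (1, 237), (0, 238), (1, 239), (2, 238),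
     (2, 239), (3, 237), (3, 238), (3, 239), (4, 236), (4, 237), (4, 238), (4, 239), (9, 231),
     (5, 236), (5, 237), (5, 238), (5, 239), (8, 232), (9, 232), (6, 236), (6, 237), (6, 238),
     (6, 239), (0, 0), (0, 0), (7, 236), (7, 237), (7, 238), (7, 239), (0, 0), (8, 236), (8, 237),
     (8, 238), (8, 239), (9, 236), (9, 237), (9, 238), (9, 239), (10, 237), (10, 238), (10, 239),
     (11, 238), (11, 239), (12, 239), (0, 0), (0, 0), (0, 0), (14, 236), (14, 237), (14, 238),
     (14, 239), (0, 0), (0, 0), (0, 0), (0, 0), (0, 0), (0, 0), (0, 0), (0, 0), (0, 0), (17, 237),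
     (17, 238), (17, 239), (18, 238), (18, 239), (19, 239), (0, 0), (0, 0), (0, 0), (0, 0),
     (22, 237), (22, 238), (22, 239), (23, 238), (23, 239), (24, 239), (26, 237), (26, 238),
     (26, 239), (27, 238), (27, 239), (28, 239), (30, 238), (30, 239), (31, 239), (33, 239),
     (0, 0), (0, 0), (0, 0), (0, 0), (0, 0), (0, 0), (40, 238), (40, 239), (41, 239), (43, 239),
     (46, 238), (46, 239), (47, 239), (49, 239), (52, 239), (56, 238), (56, 239), (57, 239),
     (59, 239), (62, 239), (66, 239), (71, 239), (0, 0), (0, 0), (0, 0), (0, 0), (84, 239),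
     (88, 239), (93, 239), (0, 0), (0, 0), (0, 0), (114, 239), (117, 239), (119, 239), (120, 238)],
    [(1, 119), (2, 118), (1, 121), (1, 124), (1, 128), (1, 133), (1, 139), (0, 146), (0, 151),
     (0, 155), (0, 158), (0, 160), (0, 161), (1, 161), (0, 0), (1, 172), (1, 176), (1, 179),
     (1, 181), (2, 181), (0, 0), (1, 186), (1, 189), (1, 191), (2, 191), (0, 0), (1, 195),
     (1, 197), (2, 197), (0, 0), (1, 200), (2, 200), (0, 0), (3, 200), (0, 0), (0, 0), (0, 206),
     (0, 208), (0, 209), (1, 209), (0, 211), (0, 212), (1, 212), (0, 213), (1, 213), (2, 213),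
     (0, 215), (0, 216), (1, 216), (0, 217), (1, 217), (2, 217), (0, 218), (1, 218), (2, 218),
     (3, 218), (0, 220), (0, 221), (1, 221), (0, 222), (1, 222), (2, 222), (0, 223), (1, 223),
     (2, 223), (3, 223), (0, 224), (1, 224), (2, 224), (3, 224), (4, 224), (0, 0), (1, 225),
     (2, 225), (3, 225), (4, 225), (5, 225), (6, 225), (1, 226), (2, 226), (0, 0), (3, 226),
     (0, 0), (0, 0), (4, 226), (0, 0), (0, 0), (0, 0), (5, 226), (0, 0), (0, 0), (0, 0), (0, 0),
     (6, 226), (0, 0), (0, 0), (0, 0), (0, 0), (0, 0), (0, 233), (1, 233), (2, 233), (3, 233),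
     (4, 233), (5, 233), (0, 234), (1, 234), (2, 234), (3, 234), (4, 234), (0, 235), (1, 235),
     (2, 235), (3, 235), (0, 236), (1, 236), (2, 236), (0, 237), (1, 237), (0, 238), (0, 0),
     (2, 238), (0, 0), (3, 237), (3, 238), (0, 0), (4, 236), (4, 237), (4, 238), (0, 0), (5, 235),
     (5, 236), (5, 237), (5, 238), (0, 0), (6, 234), (6, 235), (6, 236), (6, 237), (6, 238),
     (0, 0), (7, 234), (7, 235), (7, 236), (7, 237), (7, 238), (13, 233), (8, 235), (8, 236),
     (8, 237), (8, 238), (13, 234), (9, 236), (9, 237), (9, 238), (13, 235), (10, 237), (10, 238),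
     (13, 236), (11, 238), (13, 237), (13, 238), (0, 0), (0, 0), (0, 0), (0, 0), (0, 0), (0, 0),
     (0, 0), (15, 235), (15, 236), (15, 237), (15, 238), (0, 0), (16, 236), (16, 237), (16, 238),
     (0, 0), (17, 237), (17, 238), (0, 0), (18, 238), (0, 0), (0, 0), (21, 236), (21, 237),
     (21, 238), (0, 0), (22, 237), (22, 238), (0, 0), (23, 238), (0, 0), (0, 0), (26, 237),
     (26, 238), (0, 0), (27, 238), (0, 0), (0, 0), (30, 238), (0, 0), (0, 0), (0, 0), (36, 237),
     (36, 238), (39, 236), (37, 238), (39, 237), (39, 238), (40, 238), (42, 237), (42, 238),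
     (44, 238), (46, 238), (48, 237), (48, 238), (50, 238), (53, 238), (56, 238), (58, 237),
     (58, 238), (60, 238), (63, 238), (67, 238), (72, 238), (78, 238), (0, 0), (0, 0), (0, 0),
     (0, 0), (0, 0), (0, 0), (100, 238), (106, 238), (111, 238), (115, 238), (118, 238),
     (121, 237), (0, 0)],
    [(2, 117), (0, 120), (0, 122), (0, 125), (0, 129), (0, 134), (0, 140), (0, 146), (0, 151),
     (0, 155), (0, 158), (0, 160), (0, 161), (1, 161), (0, 0), (0, 173), (0, 177), (0, 180),
     (0, 182), (0, 0), (2, 182), (0, 187), (0, 190), (0, 192), (0, 0), (2, 192), (0, 196),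
     (0, 198), (0, 0), (2, 198), (0, 201), (0, 0), (2, 201), (0, 0), (3, 201), (0, 0), (0, 206),
     (0, 208), (0, 209), (1, 209), (0, 211), (0, 212), (1, 212), (0, 213), (1, 213), (2, 213),
     (0, 215), (0, 216), (1, 216), (0, 217), (1, 217), (2, 217), (0, 218), (1, 218), (2, 218),
     (3, 218), (0, 220), (0, 221), (1, 221), (0, 222), (1, 222), (2, 222), (0, 223), (1, 223),
     (2, 223), (3, 223), (0, 224), (1, 224), (2, 224), (3, 224), (4, 224), (0, 225), (0, 0),
     (2, 225), (3, 225), (4, 225), (5, 225), (6, 225), (0, 227), (0, 0), (2, 227), (0, 0),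
     (3, 227), (0, 0), (0, 0), (4, 227), (0, 0), (0, 0), (0, 0), (5, 227), (0, 0), (0, 0), (0, 0),
     (0, 0), (6, 227), (0, 0), (0, 0), (0, 0), (0, 0), (0, 233), (1, 233), (2, 233), (3, 233),
     (4, 233), (5, 233), (0, 234), (1, 234), (2, 234), (3, 234), (4, 234), (0, 235), (1, 235),
     (2, 235), (3, 235), (0, 236), (1, 236), (2, 236), (0, 237), (1, 237), (0, 0), (1, 239),
     (0, 0), (2, 239), (3, 237), (0, 0), (3, 239), (4, 236), (4, 237), (0, 0), (4, 239), (5, 235),
     (5, 236), (5, 237), (0, 0), (5, 239), (6, 234), (6, 235), (6, 236), (6, 237), (0, 0),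
     (6, 239), (7, 234), (7, 235), (7, 236), (7, 237), (12, 233), (7, 239), (8, 235), (8, 236),
     (8, 237), (12, 234), (8, 239), (9, 236), (9, 237), (12, 235), (9, 239), (10, 237), (12, 236),
     (10, 239), (12, 237), (11, 239), (12, 239), (0, 0), (0, 0), (0, 0), (0, 0), (0, 0), (0, 0),
     (0, 0), (15, 235), (15, 236), (15, 237), (0, 0), (15, 239), (16, 236), (16, 237), (0, 0),
     (16, 239), (17, 237), (0, 0), (17, 239), (0, 0), (18, 239), (0, 0), (21, 236), (21, 237),
     (0, 0), (21, 239), (22, 237), (0, 0), (22, 239), (0, 0), (23, 239), (0, 0), (26, 237), (0, 0),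
     (26, 239), (0, 0), (27, 239), (0, 0), (0, 0), (30, 239), (0, 0), (0, 0), (36, 237), (38, 236),
     (36, 239), (38, 237), (37, 239), (38, 239), (41, 237), (40, 239), (41, 239), (43, 239),
     (47, 237), (46, 239), (47, 239), (49, 239), (52, 239), (57, 237), (56, 239), (57, 239),
     (59, 239), (62, 239), (66, 239), (71, 239), (0, 0), (78, 239), (0, 0), (0, 0), (0, 0), (0, 0),
     (0, 0), (99, 239), (105, 239), (110, 239), (114, 239), (117, 239), (0, 0), (122, 237)],
    [(1, 119), (0, 120), (0, 122), (0, 125), (0, 129), (0, 134), (0, 140), (0, 146), (0, 151),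
     (0, 155), (0, 158), (0, 160), (0, 161), (1, 161), (0, 0), (0, 173), (0, 177), (0, 180),
     (0, 0), (0, 183), (1, 183), (0, 187), (0, 190), (0, 0), (0, 193), (1, 193), (0, 196), (0, 0),
     (0, 199), (1, 199), (0, 0), (0, 202), (1, 202), (0, 0), (0, 0), (3, 202), (0, 206), (0, 208),
     (0, 209), (1, 209), (0, 211), (0, 212), (1, 212), (0, 213), (1, 213), (2, 213), (0, 215),
     (0, 216), (1, 216), (0, 217), (1, 217), (2, 217), (0, 218), (1, 218), (2, 218), (3, 218),
     (0, 220), (0, 221), (1, 221), (0, 222), (1, 222), (2, 222), (0, 223), (1, 223), (2, 223),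
     (3, 223), (0, 224), (1, 224), (2, 224), (3, 224), (4, 224), (0, 225), (1, 225), (0, 0),
     (3, 225), (4, 225), (5, 225), (6, 225), (0, 0), (0, 228), (1, 228), (0, 0), (0, 0), (3, 228),
     (0, 0), (0, 0), (4, 228), (0, 0), (0, 0), (0, 0), (5, 228), (0, 0), (0, 0), (0, 0), (0, 0),
     (6, 228), (0, 0), (0, 0), (0, 0), (0, 233), (1, 233), (2, 233), (3, 233), (4, 233), (5, 233),
     (0, 234), (1, 234), (2, 234), (3, 234), (4, 234), (0, 235), (1, 235), (2, 235), (3, 235),
     (0, 236), (1, 236), (2, 236), (0, 0), (0, 0), (0, 238), (1, 239), (2, 238), (2, 239), (0, 0),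
     (3, 238), (3, 239), (4, 236), (0, 0), (4, 238), (4, 239), (5, 235), (5, 236), (0, 0),
     (5, 238), (5, 239), (6, 234), (6, 235), (6, 236), (0, 0), (6, 238), (6, 239), (7, 234),
     (7, 235), (7, 236), (11, 233), (7, 238), (7, 239), (8, 235), (8, 236), (11, 234), (8, 238),
     (8, 239), (9, 236), (11, 235), (9, 238), (9, 239), (11, 236), (10, 238), (10, 239), (11, 238),
     (11, 239), (12, 239), (0, 0), (0, 0), (0, 0), (0, 0), (0, 0), (0, 0), (0, 0), (15, 235),
     (15, 236), (0, 0), (15, 238), (15, 239), (16, 236), (0, 0), (16, 238), (16, 239), (0, 0),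
     (17, 238), (17, 239), (0, 0), (0, 0), (19, 239), (21, 236), (0, 0), (21, 238), (21, 239),
     (0, 0), (22, 238), (22, 239), (0, 0), (0, 0), (24, 239), (0, 0), (26, 238), (26, 239), (0, 0),
     (0, 0), (28, 239), (0, 0), (0, 0), (31, 239), (0, 0), (37, 236), (36, 238), (36, 239),
     (37, 238), (37, 239), (38, 239), (40, 238), (40, 239), (41, 239), (43, 239), (46, 238),
     (46, 239), (47, 239), (49, 239), (52, 239), (56, 238), (56, 239), (57, 239), (59, 239),
     (62, 239), (66, 239), (71, 239), (0, 0), (0, 0), (79, 239), (0, 0), (0, 0), (0, 0), (0, 0),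
     (99, 239), (105, 239), (110, 239), (114, 239), (0, 0), (119, 239), (120, 238)],
    [(1, 119), (0, 120), (0, 122), (0, 125), (0, 129), (0, 134), (0, 140), (0, 146), (0, 151),
     (0, 155), (0, 158), (0, 160), (0, 161), (1, 161), (0, 0), (0, 173), (0, 177), (0, 0),
     (0, 182), (0, 183), (1, 183), (0, 187), (0, 0), (0, 192), (0, 193), (1, 193), (0, 0),
     (0, 198), (0, 199), (1, 199), (0, 0), (0, 0), (0, 0), (0, 203), (1, 203), (2, 203), (0, 206),
     (0, 208), (0, 209), (1, 209), (0, 211), (0, 212), (1, 212), (0, 213), (1, 213), (2, 213),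
     (0, 215), (0, 216), (1, 216), (0, 217), (1, 217), (2, 217), (0, 218), (1, 218), (2, 218),
     (3, 218), (0, 220), (0, 221), (1, 221), (0, 222), (1, 222), (2, 222), (0, 223), (1, 223),
     (2, 223), (3, 223), (0, 224), (1, 224), (2, 224), (3, 224), (4, 224), (0, 225), (1, 225),
     (2, 225), (0, 0), (4, 225), (5, 225), (6, 225), (0, 0), (0, 0), (0, 0), (0, 229), (1, 229),
     (2, 229), (0, 0), (0, 0), (0, 0), (4, 229), (0, 0), (0, 0), (0, 0), (5, 229), (0, 0), (0, 0),
     (0, 0), (0, 0), (6, 229), (0, 0), (0, 0), (0, 233), (1, 233), (2, 233), (3, 233), (4, 233),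
     (5, 233), (0, 234), (1, 234), (2, 234), (3, 234), (4, 234), (0, 235), (1, 235), (2, 235),
     (3, 235), (0, 0), (0, 0), (0, 0), (0, 237), (1, 237), (0, 238), (1, 239), (2, 238), (2, 239),
     (3, 237), (3, 238), (3, 239), (0, 0), (4, 237), (4, 238), (4, 239), (5, 235), (0, 0),
     (5, 237), (5, 238), (5, 239), (6, 234), (6, 235), (0, 0), (6, 237), (6, 238), (6, 239),
     (7, 234), (7, 235), (10, 233), (7, 237), (7, 238), (7, 239), (8, 235), (10, 234), (8, 237),
     (8, 238), (8, 239), (10, 235), (9, 237), (9, 238), (9, 239), (10, 237), (10, 238), (10, 239),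
     (11, 238), (11, 239), (12, 239), (0, 0), (0, 0), (0, 0), (0, 0), (0, 0), (0, 0), (0, 0),
     (15, 235), (0, 0), (15, 237), (15, 238), (15, 239), (0, 0), (16, 237), (16, 238), (16, 239),
     (0, 0), (0, 0), (0, 0), (18, 238), (18, 239), (19, 239), (0, 0), (21, 237), (21, 238),
     (21, 239), (0, 0), (0, 0), (0, 0), (23, 238), (23, 239), (24, 239), (0, 0), (0, 0), (0, 0),
     (27, 238), (27, 239), (28, 239), (0, 0), (0, 0), (0, 0), (33, 239), (36, 237), (36, 238),
     (36, 239), (37, 238), (37, 239), (38, 239), (40, 238), (40, 239), (41, 239), (43, 239),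
     (46, 238), (46, 239), (47, 239), (49, 239), (52, 239), (56, 238), (56, 239), (57, 239),
     (59, 239), (62, 239), (66, 239), (71, 239), (0, 0), (0, 0), (0, 0), (81, 239), (0, 0), (0, 0),
     (0, 0), (99, 239), (105, 239), (110, 239), (0, 0), (117, 239), (119, 239), (120, 238)],
    [(1, 119), (0, 120), (0, 122), (0, 125), (0, 129), (0, 134), (0, 140), (0, 146), (0, 151),
     (0, 155), (0, 158), (0, 160), (0, 161), (1, 161), (0, 0), (0, 173), (0, 0), (0, 180),
     (0, 182), (0, 183), (1, 183), (0, 0), (0, 190), (0, 192), (0, 193), (1, 193), (0, 0), (0, 0),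
     (0, 0), (0, 0), (0, 201), (0, 202), (1, 202), (0, 203), (1, 203), (2, 203), (0, 206),
     (0, 208), (0, 209), (1, 209), (0, 211), (0, 212), (1, 212), (0, 213), (1, 213), (2, 213),
     (0, 215), (0, 216), (1, 216), (0, 217), (1, 217), (2, 217), (0, 218), (1, 218), (2, 218),
     (3, 218), (0, 220), (0, 221), (1, 221), (0, 222), (1, 222), (2, 222), (0, 223), (1, 223),
     (2, 223), (3, 223), (0, 224), (1, 224), (2, 224), (3, 224), (4, 224), (0, 225), (1, 225),
     (2, 225), (3, 225), (0, 0), (5, 225), (6, 225), (0, 0), (0, 0), (0, 0), (0, 0), (0, 0),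
     (0, 0), (0, 230), (1, 230), (2, 230), (3, 230), (0, 0), (0, 0), (0, 0), (0, 0), (5, 230),
     (0, 0), (0, 0), (0, 0), (0, 0), (6, 230), (0, 0), (0, 233), (1, 233), (2, 233), (3, 233),
     (4, 233), (5, 233), (0, 234), (1, 234), (2, 234), (3, 234), (4, 234), (0, 0), (0, 0), (0, 0),
     (0, 0), (0, 236), (1, 236), (2, 236), (0, 237), (1, 237), (0, 238), (1, 239), (2, 238),
     (2, 239), (3, 237), (3, 238), (3, 239), (4, 236), (4, 237), (4, 238), (4, 239), (0, 0),
     (5, 236), (5, 237), (5, 238), (5, 239), (6, 234), (0, 0), (6, 236), (6, 237), (6, 238),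
     (6, 239), (7, 234), (9, 233), (7, 236), (7, 237), (7, 238), (7, 239), (9, 234), (8, 236),
     (8, 237), (8, 238), (8, 239), (9, 236), (9, 237), (9, 238), (9, 239), (10, 237), (10, 238),
     (10, 239), (11, 238), (11, 239), (12, 239), (0, 0), (0, 0), (0, 0), (0, 0), (0, 0), (0, 0),
     (0, 0), (0, 0), (15, 236), (15, 237), (15, 238), (15, 239), (0, 0), (0, 0), (0, 0), (0, 0),
     (17, 237), (17, 238), (17, 239), (18, 238), (18, 239), (19, 239), (0, 0), (0, 0), (0, 0),
     (0, 0), (22, 237), (22, 238), (22, 239), (23, 238), (23, 239), (24, 239), (0, 0), (0, 0),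
     (0, 0), (0, 0), (0, 0), (0, 0), (30, 238), (30, 239), (31, 239), (33, 239), (36, 237),
     (36, 238), (36, 239), (37, 238), (37, 239), (38, 239), (40, 238), (40, 239), (41, 239),
     (43, 239), (46, 238), (46, 239), (47, 239), (49, 239), (52, 239), (56, 238), (56, 239),
     (57, 239), (59, 239), (62, 239), (66, 239), (71, 239), (0, 0), (0, 0), (0, 0), (0, 0),
     (84, 239), (0, 0), (0, 0), (99, 239), (105, 239), (0, 0), (114, 239), (117, 239), (119, 239),
     (120, 238)],
    [(1, 119), (0, 120), (0, 122), (0, 125), (0, 129), (0, 134), (0, 140), (0, 146), (0, 151),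
     (0, 155), (0, 158), (0, 160), (0, 161), (1, 161), (0, 0), (0, 0), (0, 177), (0, 180),
     (0, 182), (0, 183), (1, 183), (0, 0), (0, 0), (0, 0), (0, 0), (0, 0), (0, 196), (0, 198),
     (0, 199), (1, 199), (0, 201), (0, 202), (1, 202), (0, 203), (1, 203), (2, 203), (0, 206),
     (0, 208), (0, 209), (1, 209), (0, 211), (0, 212), (1, 212), (0, 213), (1, 213), (2, 213),
     (0, 215), (0, 216), (1, 216), (0, 217), (1, 217), (2, 217), (0, 218), (1, 218), (2, 218),
     (3, 218), (0, 220), (0, 221), (1, 221), (0, 222), (1, 222), (2, 222), (0, 223), (1, 223),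
     (2, 223), (3, 223), (0, 224), (1, 224), (2, 224), (3, 224), (4, 224), (0, 225), (1, 225),
     (2, 225), (3, 225), (4, 225), (0, 0), (6, 225), (0, 0), (0, 0), (0, 0), (0, 0), (0, 0),
     (0, 0), (0, 0), (0, 0), (0, 0), (0, 0), (0, 231), (1, 231), (2, 231), (3, 231), (4, 231),
     (0, 0), (0, 0), (0, 0), (0, 0), (0, 0), (6, 231), (0, 233), (1, 233), (2, 233), (3, 233),
     (4, 233), (5, 233), (0, 0), (0, 0), (0, 0), (0, 0), (0, 0), (0, 235), (1, 235), (2, 235),
     (3, 235), (0, 236), (1, 236), (2, 236), (0, 237), (1, 237), (0, 238), (1, 239), (2, 238),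
     (2, 239), (3, 237), (3, 238), (3, 239), (4, 236), (4, 237), (4, 238), (4, 239), (5, 235),
     (5, 236), (5, 237), (5, 238), (5, 239), (0, 0), (6, 235), (6, 236), (6, 237), (6, 238),
     (6, 239), (8, 233), (7, 235), (7, 236), (7, 237), (7, 238), (7, 239), (8, 235), (8, 236),
     (8, 237), (8, 238), (8, 239), (9, 236), (9, 237), (9, 238), (9, 239), (10, 237), (10, 238),
     (10, 239), (11, 238), (11, 239), (12, 239), (0, 0), (0, 0), (0, 0), (0, 0), (0, 0), (0, 0),
     (0, 0), (0, 0), (0, 0), (0, 0), (0, 0), (0, 0), (16, 236), (16, 237), (16, 238), (16, 239),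
     (17, 237), (17, 238), (17, 239), (18, 238), (18, 239), (19, 239), (0, 0), (0, 0), (0, 0),
     (0, 0), (0, 0), (0, 0), (0, 0), (0, 0), (0, 0), (0, 0), (26, 237), (26, 238), (26, 239),
     (27, 238), (27, 239), (28, 239), (30, 238), (30, 239), (31, 239), (33, 239), (36, 237),
     (36, 238), (36, 239), (37, 238), (37, 239), (38, 239), (40, 238), (40, 239), (41, 239),
     (43, 239), (46, 238), (46, 239), (47, 239), (49, 239), (52, 239), (56, 238), (56, 239),
     (57, 239), (59, 239), (62, 239), (66, 239), (71, 239), (0, 0), (0, 0), (0, 0), (0, 0), (0, 0),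
     (88, 239), (0, 0), (99, 239), (0, 0), (110, 239), (114, 239), (117, 239), (119, 239),
     (120, 238)],
    [(1, 119), (0, 120), (0, 122), (0, 125), (0, 129), (0, 134), (0, 140), (0, 146), (0, 151),
     (0, 155), (0, 158), (0, 160), (0, 161), (1, 161), (0, 0), (0, 0), (0, 0), (0, 0), (0, 0),
     (0, 0), (0, 0), (0, 187), (0, 190), (0, 192), (0, 193), (1, 193), (0, 196), (0, 198),
     (0, 199), (1, 199), (0, 201), (0, 202), (1, 202), (0, 203), (1, 203), (2, 203), (0, 206),
     (0, 208), (0, 209), (1, 209), (0, 211), (0, 212), (1, 212), (0, 213), (1, 213), (2, 213),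
     (0, 215), (0, 216), (1, 216), (0, 217), (1, 217), (2, 217), (0, 218), (1, 218), (2, 218),
     (3, 218), (0, 220), (0, 221), (1, 221), (0, 222), (1, 222), (2, 222), (0, 223), (1, 223),
     (2, 223), (3, 223), (0, 224), (1, 224), (2, 224), (3, 224), (4, 224), (0, 225), (1, 225),
     (2, 225), (3, 225), (4, 225), (5, 225), (0, 0), (0, 0), (0, 0), (0, 0), (0, 0), (0, 0),
     (0, 0), (0, 0), (0, 0), (0, 0), (0, 0), (0, 0), (0, 0), (0, 0), (0, 0), (0, 0), (0, 232),
     (1, 232), (2, 232), (3, 232), (4, 232), (5, 232), (0, 0), (0, 0), (0, 0), (0, 0), (0, 0),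
     (0, 0), (0, 234), (1, 234), (2, 234), (3, 234), (4, 234), (0, 235), (1, 235), (2, 235),
     (3, 235), (0, 236), (1, 236), (2, 236), (0, 237), (1, 237), (0, 238), (1, 239), (2, 238),
     (2, 239), (3, 237), (3, 238), (3, 239), (4, 236), (4, 237), (4, 238), (4, 239), (5, 235),
     (5, 236), (5, 237), (5, 238), (5, 239), (6, 234), (6, 235), (6, 236), (6, 237), (6, 238),
     (6, 239), (7, 234), (7, 235), (7, 236), (7, 237), (7, 238), (7, 239), (8, 235), (8, 236),
     (8, 237), (8, 238), (8, 239), (9, 236), (9, 237), (9, 238), (9, 239), (10, 237), (10, 238),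
     (10, 239), (11, 238), (11, 239), (12, 239), (0, 0), (0, 0), (0, 0), (0, 0), (0, 0), (0, 0),
     (0, 0), (0, 0), (0, 0), (0, 0), (0, 0), (0, 0), (0, 0), (0, 0), (0, 0), (0, 0), (0, 0),
     (0, 0), (0, 0), (0, 0), (0, 0), (0, 0), (21, 236), (21, 237), (21, 238), (21, 239), (22, 237),
     (22, 238), (22, 239), (23, 238), (23, 239), (24, 239), (26, 237), (26, 238), (26, 239),
     (27, 238), (27, 239), (28, 239), (30, 238), (30, 239), (31, 239), (33, 239), (36, 237),
     (36, 238), (36, 239), (37, 238), (37, 239), (38, 239), (40, 238), (40, 239), (41, 239),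
     (43, 239), (46, 238), (46, 239), (47, 239), (49, 239), (52, 239), (56, 238), (56, 239),
     (57, 239), (59, 239), (62, 239), (66, 239), (71, 239), (0, 0), (0, 0), (0, 0), (0, 0), (0, 0),
     (0, 0), (93, 239), (0, 0), (105, 239), (110, 239), (114, 239), (117, 239), (119, 239),
     (120, 238)],
    [(1, 119), (0, 120), (3, 116), (2, 123), (2, 127), (2, 132), (2, 138), (2, 144), (2, 149),
     (2, 153), (2, 156), (3, 156), (0, 0), (0, 0), (0, 168), (0, 173), (0, 177), (0, 180),
     (0, 182), (2, 181), (2, 182), (0, 187), (0, 190), (0, 192), (2, 191), (2, 192), (0, 196),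
     (0, 198), (2, 197), (2, 198), (0, 201), (2, 200), (2, 201), (3, 200), (3, 201), (0, 0),
     (0, 206), (0, 208), (2, 207), (2, 208), (0, 211), (2, 210), (2, 211), (3, 210), (3, 211),
     (0, 0), (0, 215), (2, 214), (2, 215), (3, 214), (3, 215), (0, 0), (4, 214), (4, 215), (0, 0),
     (0, 0), (0, 220), (2, 219), (2, 220), (3, 219), (3, 220), (0, 0), (4, 219), (4, 220), (0, 0),
     (0, 0), (5, 219), (5, 220), (0, 0), (0, 0), (0, 0), (7, 219), (7, 220), (0, 0), (0, 0),
     (0, 0), (0, 0), (0, 0), (0, 0), (0, 228), (1, 228), (0, 229), (1, 229), (2, 229), (0, 230),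
     (1, 230), (2, 230), (3, 230), (0, 231), (1, 231), (2, 231), (3, 231), (4, 231), (0, 232),
     (1, 232), (2, 232), (3, 232), (4, 232), (5, 232), (0, 233), (1, 233), (2, 233), (3, 233),
     (4, 233), (5, 233), (0, 234), (1, 234), (2, 234), (3, 234), (4, 234), (0, 235), (1, 235),
     (2, 235), (3, 235), (0, 236), (1, 236), (2, 236), (0, 237), (1, 237), (19, 219), (20, 220),
     (0, 0), (0, 0), (3, 237), (0, 0), (0, 0), (4, 236), (4, 237), (0, 0), (0, 0), (5, 235),
     (5, 236), (5, 237), (0, 0), (0, 0), (6, 234), (6, 235), (6, 236), (6, 237), (0, 0), (0, 0),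
     (7, 234), (7, 235), (7, 236), (7, 237), (0, 0), (0, 0), (8, 235), (8, 236), (8, 237), (0, 0),
     (0, 0), (9, 236), (9, 237), (0, 0), (0, 0), (10, 237), (0, 0), (0, 0), (0, 0), (0, 0), (0, 0),
     (14, 233), (14, 234), (14, 235), (14, 236), (14, 237), (19, 232), (20, 232), (15, 235),
     (15, 236), (15, 237), (19, 234), (20, 234), (16, 236), (16, 237), (19, 235), (20, 235),
     (17, 237), (19, 236), (20, 236), (19, 237), (20, 237), (0, 0), (21, 236), (21, 237),
     (24, 235), (25, 235), (22, 237), (24, 236), (25, 236), (24, 237), (25, 237), (0, 0),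
     (26, 237), (28, 236), (29, 236), (28, 237), (29, 237), (0, 0), (31, 237), (32, 237), (0, 0),
     (0, 0), (36, 237), (38, 236), (39, 236), (38, 237), (39, 237), (0, 0), (41, 237), (42, 237),
     (0, 0), (0, 0), (47, 237), (48, 237), (0, 0), (0, 0), (0, 0), (57, 237), (58, 237), (0, 0),
     (0, 0), (0, 0), (0, 0), (0, 0), (79, 237), (80, 237), (83, 236), (83, 237), (86, 237),
     (90, 237), (95, 237), (101, 237), (107, 237), (112, 237), (116, 237), (123, 236), (0, 0),
     (0, 0)],
    [(1, 119), (3, 115), (0, 122), (1, 124), (1, 128), (1, 133), (1, 139), (1, 145), (1, 150),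
     (1, 154), (1, 157), (0, 0), (3, 157), (0, 0), (0, 168), (0, 173), (0, 177), (0, 180),
     (1, 181), (0, 183), (1, 183), (0, 187), (0, 190), (1, 191), (0, 193), (1, 193), (0, 196),
     (1, 197), (0, 199), (1, 199), (1, 200), (0, 202), (1, 202), (3, 200), (0, 0), (3, 202),
     (0, 206), (1, 207), (0, 209), (1, 209), (1, 210), (0, 212), (1, 212), (3, 210), (0, 0),
     (3, 212), (1, 214), (0, 216), (1, 216), (3, 214), (0, 0), (3, 216), (4, 214), (0, 0),
     (4, 216), (0, 0), (1, 219), (0, 221), (1, 221), (3, 219), (0, 0), (3, 221), (4, 219), (0, 0),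
     (4, 221), (0, 0), (5, 219), (0, 0), (5, 221), (0, 0), (0, 0), (7, 219), (0, 0), (7, 221),
     (0, 0), (0, 0), (0, 0), (0, 0), (0, 227), (0, 0), (1, 228), (0, 229), (1, 229), (2, 229),
     (0, 230), (1, 230), (2, 230), (3, 230), (0, 231), (1, 231), (2, 231), (3, 231), (4, 231),
     (0, 232), (1, 232), (2, 232), (3, 232), (4, 232), (5, 232), (0, 233), (1, 233), (2, 233),
     (3, 233), (4, 233), (5, 233), (0, 234), (1, 234), (2, 234), (3, 234), (4, 234), (0, 235),
     (1, 235), (2, 235), (3, 235), (0, 236), (1, 236), (2, 236), (18, 219), (0, 0), (0, 238),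
     (0, 0), (2, 238), (20, 221), (0, 0), (3, 238), (0, 0), (4, 236), (0, 0), (4, 238), (0, 0),
     (5, 235), (5, 236), (0, 0), (5, 238), (0, 0), (6, 234), (6, 235), (6, 236), (0, 0), (6, 238),
     (0, 0), (7, 234), (7, 235), (7, 236), (0, 0), (7, 238), (0, 0), (8, 235), (8, 236), (0, 0),
     (8, 238), (0, 0), (9, 236), (0, 0), (9, 238), (0, 0), (0, 0), (10, 238), (0, 0), (0, 0),
     (0, 0), (0, 0), (14, 233), (14, 234), (14, 235), (14, 236), (18, 232), (14, 238), (20, 232),
     (15, 235), (15, 236), (18, 234), (15, 238), (20, 234), (16, 236), (18, 235), (16, 238),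
     (20, 235), (18, 236), (17, 238), (20, 236), (18, 238), (0, 0), (20, 238), (21, 236),
     (23, 235), (21, 238), (25, 235), (23, 236), (22, 238), (25, 236), (23, 238), (0, 0),
     (25, 238), (27, 236), (26, 238), (29, 236), (27, 238), (0, 0), (29, 238), (30, 238), (0, 0),
     (32, 238), (0, 0), (37, 236), (36, 238), (39, 236), (37, 238), (0, 0), (39, 238), (40, 238),
     (0, 0), (42, 238), (0, 0), (46, 238), (0, 0), (48, 238), (0, 0), (0, 0), (56, 238), (0, 0),
     (58, 238), (0, 0), (0, 0), (0, 0), (0, 0), (78, 238), (82, 236), (80, 238), (82, 238),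
     (85, 238), (89, 238), (94, 238), (100, 238), (106, 238), (111, 238), (115, 238), (0, 0),
     (124, 236), (0, 0)]
  ]

set_option maxRecDepth 1000000 in
theorem rowsD_E8_70 : rowsDB chevE8 certE8_70 70 = true := by decide +kernel

set_option maxHeartbeats 0 in
/-- certificates for the rows `80..89` -/
def certE8_80 : List (List (ℕ × ℕ)) :=
  [
    [(3, 114), (0, 120), (0, 122), (0, 125), (0, 129), (0, 134), (0, 140), (0, 146), (0, 151),
     (0, 155), (0, 158), (0, 0), (0, 0), (3, 158), (0, 168), (0, 173), (0, 177), (0, 180),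
     (0, 182), (0, 183), (1, 183), (0, 187), (0, 190), (0, 192), (0, 193), (1, 193), (0, 196),
     (0, 198), (0, 199), (1, 199), (0, 201), (0, 202), (1, 202), (0, 0), (3, 201), (3, 202),
     (0, 206), (0, 208), (0, 209), (1, 209), (0, 211), (0, 212), (1, 212), (0, 0), (3, 211),
     (3, 212), (0, 215), (0, 216), (1, 216), (0, 0), (3, 215), (3, 216), (0, 0), (4, 215),
     (4, 216), (0, 0), (0, 220), (0, 221), (1, 221), (0, 0), (3, 220), (3, 221), (0, 0), (4, 220),
     (4, 221), (0, 0), (0, 0), (5, 220), (5, 221), (0, 0), (0, 0), (0, 0), (7, 220), (7, 221),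
     (0, 0), (0, 0), (0, 0), (0, 0), (0, 227), (0, 228), (0, 0), (0, 229), (1, 229), (2, 229),
     (0, 230), (1, 230), (2, 230), (3, 230), (0, 231), (1, 231), (2, 231), (3, 231), (4, 231),
     (0, 232), (1, 232), (2, 232), (3, 232), (4, 232), (5, 232), (0, 233), (1, 233), (2, 233),
     (3, 233), (4, 233), (5, 233), (0, 234), (1, 234), (2, 234), (3, 234), (4, 234), (0, 235),
     (1, 235), (2, 235), (3, 235), (0, 236), (1, 236), (2, 236), (0, 0), (18, 220), (0, 0),
     (1, 239), (19, 221), (2, 239), (0, 0), (0, 0), (3, 239), (4, 236), (0, 0), (0, 0), (4, 239),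
     (5, 235), (5, 236), (0, 0), (0, 0), (5, 239), (6, 234), (6, 235), (6, 236), (0, 0), (0, 0),
     (6, 239), (7, 234), (7, 235), (7, 236), (0, 0), (0, 0), (7, 239), (8, 235), (8, 236), (0, 0),
     (0, 0), (8, 239), (9, 236), (0, 0), (0, 0), (9, 239), (0, 0), (0, 0), (10, 239), (0, 0),
     (0, 0), (0, 0), (14, 233), (14, 234), (14, 235), (14, 236), (18, 232), (19, 232), (14, 239),
     (15, 235), (15, 236), (18, 234), (19, 234), (15, 239), (16, 236), (18, 235), (19, 235),
     (16, 239), (18, 236), (19, 236), (17, 239), (0, 0), (18, 239), (19, 239), (21, 236),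
     (23, 235), (24, 235), (21, 239), (23, 236), (24, 236), (22, 239), (0, 0), (23, 239),
     (24, 239), (27, 236), (28, 236), (26, 239), (0, 0), (27, 239), (28, 239), (0, 0), (30, 239),
     (31, 239), (0, 0), (37, 236), (38, 236), (36, 239), (0, 0), (37, 239), (38, 239), (0, 0),
     (40, 239), (41, 239), (0, 0), (0, 0), (46, 239), (47, 239), (0, 0), (0, 0), (0, 0), (56, 239),
     (57, 239), (0, 0), (0, 0), (0, 0), (0, 0), (81, 236), (78, 239), (79, 239), (81, 239),
     (84, 239), (88, 239), (93, 239), (99, 239), (105, 239), (110, 239), (114, 239), (0, 0),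
     (0, 0), (125, 236)],
    [(1, 119), (2, 118), (1, 121), (0, 125), (1, 128), (1, 133), (1, 139), (1, 145), (1, 150),
     (1, 154), (0, 0), (1, 159), (2, 159), (0, 0), (0, 168), (0, 173), (0, 177), (1, 179),
     (0, 182), (0, 183), (1, 183), (0, 187), (1, 189), (0, 192), (0, 193), (1, 193), (1, 195),
     (0, 198), (0, 199), (1, 199), (1, 200), (2, 200), (0, 0), (0, 203), (1, 203), (2, 203),
     (1, 205), (0, 208), (0, 209), (1, 209), (1, 210), (2, 210), (0, 0), (0, 213), (1, 213),
     (2, 213), (1, 214), (2, 214), (0, 0), (0, 217), (1, 217), (2, 217), (4, 214), (0, 0), (0, 0),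
     (4, 217), (1, 219), (2, 219), (0, 0), (0, 222), (1, 222), (2, 222), (4, 219), (0, 0), (0, 0),
     (4, 222), (5, 219), (0, 0), (0, 0), (5, 222), (0, 0), (7, 219), (0, 0), (0, 0), (7, 222),
     (0, 0), (0, 0), (0, 0), (0, 227), (0, 228), (1, 228), (0, 0), (1, 229), (2, 229), (0, 230),
     (1, 230), (2, 230), (3, 230), (0, 231), (1, 231), (2, 231), (3, 231), (4, 231), (0, 232),
     (1, 232), (2, 232), (3, 232), (4, 232), (5, 232), (0, 233), (1, 233), (2, 233), (3, 233),
     (4, 233), (5, 233), (0, 234), (1, 234), (2, 234), (3, 234), (4, 234), (0, 235), (1, 235),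
     (2, 235), (3, 235), (17, 219), (0, 0), (0, 0), (0, 237), (1, 237), (0, 238), (0, 0), (2, 238),
     (0, 0), (3, 237), (3, 238), (20, 222), (0, 0), (4, 237), (4, 238), (0, 0), (5, 235), (0, 0),
     (5, 237), (5, 238), (0, 0), (6, 234), (6, 235), (0, 0), (6, 237), (6, 238), (0, 0), (7, 234),
     (7, 235), (0, 0), (7, 237), (7, 238), (0, 0), (8, 235), (0, 0), (8, 237), (8, 238), (0, 0),
     (0, 0), (9, 237), (9, 238), (0, 0), (0, 0), (0, 0), (0, 0), (11, 238), (0, 0), (0, 0),
     (14, 233), (14, 234), (14, 235), (17, 232), (14, 237), (14, 238), (20, 232), (15, 235),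
     (17, 234), (15, 237), (15, 238), (20, 234), (17, 235), (16, 237), (16, 238), (20, 235),
     (17, 237), (17, 238), (0, 0), (18, 238), (20, 237), (20, 238), (22, 235), (21, 237),
     (21, 238), (25, 235), (22, 237), (22, 238), (0, 0), (23, 238), (25, 237), (25, 238),
     (26, 237), (26, 238), (0, 0), (27, 238), (29, 237), (29, 238), (30, 238), (0, 0), (0, 0),
     (34, 238), (36, 237), (36, 238), (0, 0), (37, 238), (39, 237), (39, 238), (40, 238), (0, 0),
     (0, 0), (44, 238), (46, 238), (0, 0), (0, 0), (50, 238), (0, 0), (56, 238), (0, 0), (0, 0),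
     (60, 238), (0, 0), (0, 0), (0, 0), (78, 238), (80, 237), (80, 238), (82, 238), (85, 238),
     (89, 238), (94, 238), (100, 238), (106, 238), (111, 238), (0, 0), (118, 238), (121, 237),
     (0, 0)],
    [(2, 117), (0, 120), (0, 122), (0, 125), (0, 129), (0, 134), (0, 140), (0, 146), (0, 151),
     (0, 155), (0, 0), (0, 160), (0, 0), (2, 160), (0, 168), (0, 173), (0, 177), (0, 180),
     (0, 182), (0, 183), (1, 183), (0, 187), (0, 190), (0, 192), (0, 193), (1, 193), (0, 196),
     (0, 198), (0, 199), (1, 199), (0, 201), (0, 0), (2, 201), (0, 203), (1, 203), (2, 203),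
     (0, 206), (0, 208), (0, 209), (1, 209), (0, 211), (0, 0), (2, 211), (0, 213), (1, 213),
     (2, 213), (0, 215), (0, 0), (2, 215), (0, 217), (1, 217), (2, 217), (0, 0), (4, 215), (0, 0),
     (4, 217), (0, 220), (0, 0), (2, 220), (0, 222), (1, 222), (2, 222), (0, 0), (4, 220), (0, 0),
     (4, 222), (0, 0), (5, 220), (0, 0), (5, 222), (0, 0), (0, 0), (7, 220), (0, 0), (7, 222),
     (0, 0), (0, 0), (0, 0), (0, 227), (0, 228), (1, 228), (0, 229), (0, 0), (2, 229), (0, 230),
     (1, 230), (2, 230), (3, 230), (0, 231), (1, 231), (2, 231), (3, 231), (4, 231), (0, 232),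
     (1, 232), (2, 232), (3, 232), (4, 232), (5, 232), (0, 233), (1, 233), (2, 233), (3, 233),
     (4, 233), (5, 233), (0, 234), (1, 234), (2, 234), (3, 234), (4, 234), (0, 235), (1, 235),
     (2, 235), (3, 235), (0, 0), (17, 220), (0, 0), (0, 237), (1, 237), (0, 0), (1, 239), (0, 0),
     (2, 239), (3, 237), (19, 222), (3, 239), (0, 0), (4, 237), (0, 0), (4, 239), (5, 235), (0, 0),
     (5, 237), (0, 0), (5, 239), (6, 234), (6, 235), (0, 0), (6, 237), (0, 0), (6, 239), (7, 234),
     (7, 235), (0, 0), (7, 237), (0, 0), (7, 239), (8, 235), (0, 0), (8, 237), (0, 0), (8, 239),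
     (0, 0), (9, 237), (0, 0), (9, 239), (0, 0), (0, 0), (0, 0), (0, 0), (11, 239), (0, 0),
     (14, 233), (14, 234), (14, 235), (17, 232), (14, 237), (19, 232), (14, 239), (15, 235),
     (17, 234), (15, 237), (19, 234), (15, 239), (17, 235), (16, 237), (19, 235), (16, 239),
     (17, 237), (0, 0), (17, 239), (19, 237), (18, 239), (19, 239), (22, 235), (21, 237),
     (24, 235), (21, 239), (22, 237), (0, 0), (22, 239), (24, 237), (23, 239), (24, 239),
     (26, 237), (0, 0), (26, 239), (28, 237), (27, 239), (28, 239), (0, 0), (30, 239), (0, 0),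
     (33, 239), (36, 237), (0, 0), (36, 239), (38, 237), (37, 239), (38, 239), (0, 0), (40, 239),
     (0, 0), (43, 239), (0, 0), (46, 239), (0, 0), (49, 239), (0, 0), (0, 0), (56, 239), (0, 0),
     (59, 239), (0, 0), (0, 0), (0, 0), (79, 237), (78, 239), (79, 239), (81, 239), (84, 239),
     (88, 239), (93, 239), (99, 239), (105, 239), (110, 239), (0, 0), (117, 239), (0, 0),
     (122, 237)],
    [(1, 119), (0, 120), (0, 122), (0, 125), (0, 129), (0, 134), (0, 140), (0, 146), (0, 151),
     (0, 155), (0, 0), (0, 0), (0, 161), (1, 161), (0, 168), (0, 173), (0, 177), (0, 180),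
     (0, 182), (0, 183), (1, 183), (0, 187), (0, 190), (0, 192), (0, 193), (1, 193), (0, 196),
     (0, 198), (0, 199), (1, 199), (0, 0), (0, 202), (1, 202), (0, 203), (1, 203), (2, 203),
     (0, 206), (0, 208), (0, 209), (1, 209), (0, 0), (0, 212), (1, 212), (0, 213), (1, 213),
     (2, 213), (0, 0), (0, 216), (1, 216), (0, 217), (1, 217), (2, 217), (0, 0), (0, 0), (4, 216),
     (4, 217), (0, 0), (0, 221), (1, 221), (0, 222), (1, 222), (2, 222), (0, 0), (0, 0), (4, 221),
     (4, 222), (0, 0), (0, 0), (5, 221), (5, 222), (0, 0), (0, 0), (0, 0), (7, 221), (7, 222),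
     (0, 0), (0, 0), (0, 0), (0, 227), (0, 228), (1, 228), (0, 229), (1, 229), (0, 0), (0, 230),
     (1, 230), (2, 230), (3, 230), (0, 231), (1, 231), (2, 231), (3, 231), (4, 231), (0, 232),
     (1, 232), (2, 232), (3, 232), (4, 232), (5, 232), (0, 233), (1, 233), (2, 233), (3, 233),
     (4, 233), (5, 233), (0, 234), (1, 234), (2, 234), (3, 234), (4, 234), (0, 235), (1, 235),
     (2, 235), (3, 235), (0, 0), (0, 0), (17, 221), (0, 0), (0, 0), (0, 238), (1, 239), (2, 238),
     (2, 239), (18, 222), (3, 238), (3, 239), (0, 0), (0, 0), (4, 238), (4, 239), (5, 235), (0, 0),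
     (0, 0), (5, 238), (5, 239), (6, 234), (6, 235), (0, 0), (0, 0), (6, 238), (6, 239), (7, 234),
     (7, 235), (0, 0), (0, 0), (7, 238), (7, 239), (8, 235), (0, 0), (0, 0), (8, 238), (8, 239),
     (0, 0), (0, 0), (9, 238), (9, 239), (0, 0), (0, 0), (0, 0), (0, 0), (0, 0), (12, 239),
     (14, 233), (14, 234), (14, 235), (17, 232), (18, 232), (14, 238), (14, 239), (15, 235),
     (17, 234), (18, 234), (15, 238), (15, 239), (17, 235), (18, 235), (16, 238), (16, 239),
     (0, 0), (17, 238), (17, 239), (18, 238), (18, 239), (19, 239), (22, 235), (23, 235),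
     (21, 238), (21, 239), (0, 0), (22, 238), (22, 239), (23, 238), (23, 239), (24, 239), (0, 0),
     (26, 238), (26, 239), (27, 238), (27, 239), (28, 239), (0, 0), (0, 0), (31, 239), (33, 239),
     (0, 0), (36, 238), (36, 239), (37, 238), (37, 239), (38, 239), (0, 0), (0, 0), (41, 239),
     (43, 239), (0, 0), (0, 0), (47, 239), (49, 239), (0, 0), (0, 0), (0, 0), (57, 239), (59, 239),
     (0, 0), (0, 0), (0, 0), (78, 238), (78, 239), (79, 239), (81, 239), (84, 239), (88, 239),
     (93, 239), (99, 239), (105, 239), (110, 239), (0, 0), (0, 0), (119, 239), (120, 238)],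
    [(1, 119), (2, 118), (1, 121), (1, 124), (0, 129), (1, 133), (1, 139), (1, 145), (1, 150),
     (0, 0), (1, 157), (1, 159), (2, 159), (0, 0), (0, 168), (0, 173), (1, 176), (0, 180),
     (0, 182), (0, 183), (1, 183), (1, 186), (0, 190), (0, 192), (0, 193), (1, 193), (1, 195),
     (1, 197), (2, 197), (0, 0), (0, 201), (0, 202), (1, 202), (0, 203), (1, 203), (2, 203),
     (1, 205), (1, 207), (2, 207), (0, 0), (0, 211), (0, 212), (1, 212), (0, 213), (1, 213),
     (2, 213), (1, 214), (2, 214), (0, 0), (3, 214), (0, 0), (0, 0), (0, 218), (1, 218), (2, 218),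
     (3, 218), (1, 219), (2, 219), (0, 0), (3, 219), (0, 0), (0, 0), (0, 223), (1, 223), (2, 223),
     (3, 223), (5, 219), (0, 0), (0, 0), (0, 0), (5, 223), (7, 219), (0, 0), (0, 0), (0, 0),
     (7, 223), (0, 0), (0, 0), (0, 227), (0, 228), (1, 228), (0, 229), (1, 229), (2, 229), (0, 0),
     (1, 230), (2, 230), (3, 230), (0, 231), (1, 231), (2, 231), (3, 231), (4, 231), (0, 232),
     (1, 232), (2, 232), (3, 232), (4, 232), (5, 232), (0, 233), (1, 233), (2, 233), (3, 233),
     (4, 233), (5, 233), (0, 234), (1, 234), (2, 234), (3, 234), (4, 234), (16, 219), (0, 0),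
     (0, 0), (0, 0), (0, 236), (1, 236), (2, 236), (0, 237), (1, 237), (0, 238), (0, 0), (2, 238),
     (0, 0), (3, 237), (3, 238), (0, 0), (4, 236), (4, 237), (4, 238), (20, 223), (0, 0), (5, 236),
     (5, 237), (5, 238), (0, 0), (6, 234), (0, 0), (6, 236), (6, 237), (6, 238), (0, 0), (7, 234),
     (0, 0), (7, 236), (7, 237), (7, 238), (0, 0), (0, 0), (8, 236), (8, 237), (8, 238), (0, 0),
     (0, 0), (0, 0), (0, 0), (0, 0), (10, 237), (10, 238), (0, 0), (11, 238), (0, 0), (0, 0),
     (14, 233), (14, 234), (16, 232), (14, 236), (14, 237), (14, 238), (20, 232), (16, 234),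
     (15, 236), (15, 237), (15, 238), (20, 234), (16, 236), (16, 237), (16, 238), (0, 0),
     (17, 237), (17, 238), (20, 236), (18, 238), (20, 237), (20, 238), (21, 236), (21, 237),
     (21, 238), (0, 0), (22, 237), (22, 238), (25, 236), (23, 238), (25, 237), (25, 238),
     (26, 237), (26, 238), (0, 0), (27, 238), (0, 0), (0, 0), (30, 238), (32, 237), (32, 238),
     (34, 238), (36, 237), (36, 238), (0, 0), (37, 238), (0, 0), (0, 0), (40, 238), (42, 237),
     (42, 238), (44, 238), (46, 238), (0, 0), (0, 0), (0, 0), (53, 238), (56, 238), (0, 0), (0, 0),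
     (0, 0), (63, 238), (0, 0), (0, 0), (78, 238), (80, 237), (80, 238), (82, 238), (85, 238),
     (89, 238), (94, 238), (100, 238), (106, 238), (0, 0), (115, 238), (118, 238), (121, 237),
     (0, 0)],
    [(2, 117), (0, 120), (0, 122), (0, 125), (0, 129), (0, 134), (0, 140), (0, 146), (0, 151),
     (0, 0), (0, 158), (0, 160), (0, 0), (2, 160), (0, 168), (0, 173), (0, 177), (0, 180),
     (0, 182), (0, 183), (1, 183), (0, 187), (0, 190), (0, 192), (0, 193), (1, 193), (0, 196),
     (0, 198), (0, 0), (2, 198), (0, 201), (0, 202), (1, 202), (0, 203), (1, 203), (2, 203),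
     (0, 206), (0, 208), (0, 0), (2, 208), (0, 211), (0, 212), (1, 212), (0, 213), (1, 213),
     (2, 213), (0, 215), (0, 0), (2, 215), (0, 0), (3, 215), (0, 0), (0, 218), (1, 218), (2, 218),
     (3, 218), (0, 220), (0, 0), (2, 220), (0, 0), (3, 220), (0, 0), (0, 223), (1, 223), (2, 223),
     (3, 223), (0, 0), (5, 220), (0, 0), (0, 0), (5, 223), (0, 0), (7, 220), (0, 0), (0, 0),
     (7, 223), (0, 0), (0, 0), (0, 227), (0, 228), (1, 228), (0, 229), (1, 229), (2, 229),
     (0, 230), (0, 0), (2, 230), (3, 230), (0, 231), (1, 231), (2, 231), (3, 231), (4, 231),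
     (0, 232), (1, 232), (2, 232), (3, 232), (4, 232), (5, 232), (0, 233), (1, 233), (2, 233),
     (3, 233), (4, 233), (5, 233), (0, 234), (1, 234), (2, 234), (3, 234), (4, 234), (0, 0),
     (16, 220), (0, 0), (0, 0), (0, 236), (1, 236), (2, 236), (0, 237), (1, 237), (0, 0), (1, 239),
     (0, 0), (2, 239), (3, 237), (0, 0), (3, 239), (4, 236), (4, 237), (19, 223), (4, 239), (0, 0),
     (5, 236), (5, 237), (0, 0), (5, 239), (6, 234), (0, 0), (6, 236), (6, 237), (0, 0), (6, 239),
     (7, 234), (0, 0), (7, 236), (7, 237), (0, 0), (7, 239), (0, 0), (8, 236), (8, 237), (0, 0),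
     (8, 239), (0, 0), (0, 0), (0, 0), (0, 0), (10, 237), (0, 0), (10, 239), (0, 0), (11, 239),
     (0, 0), (14, 233), (14, 234), (16, 232), (14, 236), (14, 237), (19, 232), (14, 239),
     (16, 234), (15, 236), (15, 237), (19, 234), (15, 239), (16, 236), (16, 237), (0, 0),
     (16, 239), (17, 237), (19, 236), (17, 239), (19, 237), (18, 239), (19, 239), (21, 236),
     (21, 237), (0, 0), (21, 239), (22, 237), (24, 236), (22, 239), (24, 237), (23, 239),
     (24, 239), (26, 237), (0, 0), (26, 239), (0, 0), (27, 239), (0, 0), (31, 237), (30, 239),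
     (31, 239), (33, 239), (36, 237), (0, 0), (36, 239), (0, 0), (37, 239), (0, 0), (41, 237),
     (40, 239), (41, 239), (43, 239), (0, 0), (46, 239), (0, 0), (0, 0), (52, 239), (0, 0),
     (56, 239), (0, 0), (0, 0), (62, 239), (0, 0), (0, 0), (79, 237), (78, 239), (79, 239),
     (81, 239), (84, 239), (88, 239), (93, 239), (99, 239), (105, 239), (0, 0), (114, 239),
     (117, 239), (0, 0), (122, 237)],
    [(1, 119), (0, 120), (0, 122), (0, 125), (0, 129), (0, 134), (0, 140), (0, 146), (0, 151),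
     (0, 0), (0, 158), (0, 0), (0, 161), (1, 161), (0, 168), (0, 173), (0, 177), (0, 180),
     (0, 182), (0, 183), (1, 183), (0, 187), (0, 190), (0, 192), (0, 193), (1, 193), (0, 196),
     (0, 0), (0, 199), (1, 199), (0, 201), (0, 202), (1, 202), (0, 203), (1, 203), (2, 203),
     (0, 206), (0, 0), (0, 209), (1, 209), (0, 211), (0, 212), (1, 212), (0, 213), (1, 213),
     (2, 213), (0, 0), (0, 216), (1, 216), (0, 0), (0, 0), (3, 216), (0, 218), (1, 218), (2, 218),
     (3, 218), (0, 0), (0, 221), (1, 221), (0, 0), (0, 0), (3, 221), (0, 223), (1, 223), (2, 223),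
     (3, 223), (0, 0), (0, 0), (5, 221), (0, 0), (5, 223), (0, 0), (0, 0), (7, 221), (0, 0),
     (7, 223), (0, 0), (0, 0), (0, 227), (0, 228), (1, 228), (0, 229), (1, 229), (2, 229),
     (0, 230), (1, 230), (0, 0), (3, 230), (0, 231), (1, 231), (2, 231), (3, 231), (4, 231),
     (0, 232), (1, 232), (2, 232), (3, 232), (4, 232), (5, 232), (0, 233), (1, 233), (2, 233),
     (3, 233), (4, 233), (5, 233), (0, 234), (1, 234), (2, 234), (3, 234), (4, 234), (0, 0),
     (0, 0), (16, 221), (0, 0), (0, 236), (1, 236), (2, 236), (0, 0), (0, 0), (0, 238), (1, 239),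
     (2, 238), (2, 239), (0, 0), (3, 238), (3, 239), (4, 236), (18, 223), (4, 238), (4, 239),
     (0, 0), (5, 236), (0, 0), (5, 238), (5, 239), (6, 234), (0, 0), (6, 236), (0, 0), (6, 238),
     (6, 239), (7, 234), (0, 0), (7, 236), (0, 0), (7, 238), (7, 239), (0, 0), (8, 236), (0, 0),
     (8, 238), (8, 239), (0, 0), (0, 0), (0, 0), (0, 0), (0, 0), (10, 238), (10, 239), (0, 0),
     (0, 0), (12, 239), (14, 233), (14, 234), (16, 232), (14, 236), (18, 232), (14, 238),
     (14, 239), (16, 234), (15, 236), (18, 234), (15, 238), (15, 239), (16, 236), (0, 0),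
     (16, 238), (16, 239), (18, 236), (17, 238), (17, 239), (18, 238), (18, 239), (19, 239),
     (21, 236), (0, 0), (21, 238), (21, 239), (23, 236), (22, 238), (22, 239), (23, 238),
     (23, 239), (24, 239), (0, 0), (26, 238), (26, 239), (0, 0), (0, 0), (28, 239), (30, 238),
     (30, 239), (31, 239), (33, 239), (0, 0), (36, 238), (36, 239), (0, 0), (0, 0), (38, 239),
     (40, 238), (40, 239), (41, 239), (43, 239), (0, 0), (0, 0), (47, 239), (0, 0), (52, 239),
     (0, 0), (0, 0), (57, 239), (0, 0), (62, 239), (0, 0), (0, 0), (78, 238), (78, 239), (79, 239),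
     (81, 239), (84, 239), (88, 239), (93, 239), (99, 239), (105, 239), (0, 0), (114, 239), (0, 0),
     (119, 239), (120, 238)],
    [(1, 119), (0, 120), (0, 122), (0, 125), (0, 129), (0, 134), (0, 140), (0, 146), (0, 151),
     (0, 0), (0, 0), (0, 160), (0, 161), (1, 161), (0, 168), (0, 173), (0, 177), (0, 180),
     (0, 182), (0, 183), (1, 183), (0, 187), (0, 190), (0, 192), (0, 193), (1, 193), (0, 0),
     (0, 198), (0, 199), (1, 199), (0, 201), (0, 202), (1, 202), (0, 203), (1, 203), (2, 203),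
     (0, 0), (0, 208), (0, 209), (1, 209), (0, 211), (0, 212), (1, 212), (0, 213), (1, 213),
     (2, 213), (0, 0), (0, 0), (0, 0), (0, 217), (1, 217), (2, 217), (0, 218), (1, 218), (2, 218),
     (3, 218), (0, 0), (0, 0), (0, 0), (0, 222), (1, 222), (2, 222), (0, 223), (1, 223), (2, 223),
     (3, 223), (0, 0), (0, 0), (0, 0), (5, 222), (5, 223), (0, 0), (0, 0), (0, 0), (7, 222),
     (7, 223), (0, 0), (0, 0), (0, 227), (0, 228), (1, 228), (0, 229), (1, 229), (2, 229),
     (0, 230), (1, 230), (2, 230), (0, 0), (0, 231), (1, 231), (2, 231), (3, 231), (4, 231),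
     (0, 232), (1, 232), (2, 232), (3, 232), (4, 232), (5, 232), (0, 233), (1, 233), (2, 233),
     (3, 233), (4, 233), (5, 233), (0, 234), (1, 234), (2, 234), (3, 234), (4, 234), (0, 0),
     (0, 0), (0, 0), (16, 222), (0, 0), (0, 0), (0, 0), (0, 237), (1, 237), (0, 238), (1, 239),
     (2, 238), (2, 239), (3, 237), (3, 238), (3, 239), (17, 223), (4, 237), (4, 238), (4, 239),
     (0, 0), (0, 0), (5, 237), (5, 238), (5, 239), (6, 234), (0, 0), (0, 0), (6, 237), (6, 238),
     (6, 239), (7, 234), (0, 0), (0, 0), (7, 237), (7, 238), (7, 239), (0, 0), (0, 0), (8, 237),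
     (8, 238), (8, 239), (0, 0), (0, 0), (0, 0), (0, 0), (0, 0), (0, 0), (0, 0), (11, 238),
     (11, 239), (12, 239), (14, 233), (14, 234), (16, 232), (17, 232), (14, 237), (14, 238),
     (14, 239), (16, 234), (17, 234), (15, 237), (15, 238), (15, 239), (0, 0), (16, 237),
     (16, 238), (16, 239), (17, 237), (17, 238), (17, 239), (18, 238), (18, 239), (19, 239),
     (0, 0), (21, 237), (21, 238), (21, 239), (22, 237), (22, 238), (22, 239), (23, 238),
     (23, 239), (24, 239), (0, 0), (0, 0), (0, 0), (27, 238), (27, 239), (28, 239), (30, 238),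
     (30, 239), (31, 239), (33, 239), (0, 0), (0, 0), (0, 0), (37, 238), (37, 239), (38, 239),
     (40, 238), (40, 239), (41, 239), (43, 239), (0, 0), (0, 0), (0, 0), (49, 239), (52, 239),
     (0, 0), (0, 0), (0, 0), (59, 239), (62, 239), (0, 0), (0, 0), (78, 238), (78, 239), (79, 239),
     (81, 239), (84, 239), (88, 239), (93, 239), (99, 239), (105, 239), (0, 0), (0, 0), (117, 239),
     (119, 239), (120, 238)],
    [(1, 119), (2, 118), (1, 121), (1, 124), (1, 128), (0, 134), (1, 139), (1, 145), (0, 0),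
     (1, 154), (1, 157), (1, 159), (2, 159), (0, 0), (0, 168), (1, 172), (0, 177), (0, 180),
     (0, 182), (0, 183), (1, 183), (1, 186), (1, 189), (1, 191), (2, 191), (0, 0), (0, 196),
     (0, 198), (0, 199), (1, 199), (0, 201), (0, 202), (1, 202), (0, 203), (1, 203), (2, 203),
     (1, 205), (1, 207), (2, 207), (0, 0), (1, 210), (2, 210), (0, 0), (3, 210), (0, 0), (0, 0),
     (0, 215), (0, 216), (1, 216), (0, 217), (1, 217), (2, 217), (0, 218), (1, 218), (2, 218),
     (3, 218), (1, 219), (2, 219), (0, 0), (3, 219), (0, 0), (0, 0), (4, 219), (0, 0), (0, 0),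
     (0, 0), (0, 224), (1, 224), (2, 224), (3, 224), (4, 224), (7, 219), (0, 0), (0, 0), (0, 0),
     (0, 0), (7, 224), (0, 0), (0, 227), (0, 228), (1, 228), (0, 229), (1, 229), (2, 229),
     (0, 230), (1, 230), (2, 230), (3, 230), (0, 0), (1, 231), (2, 231), (3, 231), (4, 231),
     (0, 232), (1, 232), (2, 232), (3, 232), (4, 232), (5, 232), (0, 233), (1, 233), (2, 233),
     (3, 233), (4, 233), (5, 233), (15, 219), (0, 0), (0, 0), (0, 0), (0, 0), (0, 235), (1, 235),
     (2, 235), (3, 235), (0, 236), (1, 236), (2, 236), (0, 237), (1, 237), (0, 238), (0, 0),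
     (2, 238), (0, 0), (3, 237), (3, 238), (0, 0), (4, 236), (4, 237), (4, 238), (0, 0), (5, 235),
     (5, 236), (5, 237), (5, 238), (20, 224), (0, 0), (6, 235), (6, 236), (6, 237), (6, 238),
     (0, 0), (0, 0), (7, 235), (7, 236), (7, 237), (7, 238), (0, 0), (0, 0), (0, 0), (0, 0),
     (0, 0), (0, 0), (9, 236), (9, 237), (9, 238), (0, 0), (10, 237), (10, 238), (0, 0), (11, 238),
     (0, 0), (0, 0), (14, 233), (15, 232), (14, 235), (14, 236), (14, 237), (14, 238), (20, 232),
     (15, 235), (15, 236), (15, 237), (15, 238), (0, 0), (16, 236), (16, 237), (16, 238),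
     (20, 235), (17, 237), (17, 238), (20, 236), (18, 238), (20, 237), (20, 238), (21, 236),
     (21, 237), (21, 238), (0, 0), (22, 237), (22, 238), (0, 0), (23, 238), (0, 0), (0, 0),
     (26, 237), (26, 238), (29, 236), (27, 238), (29, 237), (29, 238), (30, 238), (32, 237),
     (32, 238), (34, 238), (36, 237), (36, 238), (0, 0), (37, 238), (0, 0), (0, 0), (40, 238),
     (0, 0), (0, 0), (0, 0), (46, 238), (48, 237), (48, 238), (50, 238), (53, 238), (56, 238),
     (0, 0), (0, 0), (0, 0), (0, 0), (67, 238), (0, 0), (78, 238), (80, 237), (80, 238), (82, 238),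
     (85, 238), (89, 238), (94, 238), (100, 238), (0, 0), (111, 238), (115, 238), (118, 238),
     (121, 237), (0, 0)],
    [(2, 117), (0, 120), (0, 122), (0, 125), (0, 129), (0, 134), (0, 140), (0, 146), (0, 0),
     (0, 155), (0, 158), (0, 160), (0, 0), (2, 160), (0, 168), (0, 173), (0, 177), (0, 180),
     (0, 182), (0, 183), (1, 183), (0, 187), (0, 190), (0, 192), (0, 0), (2, 192), (0, 196),
     (0, 198), (0, 199), (1, 199), (0, 201), (0, 202), (1, 202), (0, 203), (1, 203), (2, 203),
     (0, 206), (0, 208), (0, 0), (2, 208), (0, 211), (0, 0), (2, 211), (0, 0), (3, 211), (0, 0),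
     (0, 215), (0, 216), (1, 216), (0, 217), (1, 217), (2, 217), (0, 218), (1, 218), (2, 218),
     (3, 218), (0, 220), (0, 0), (2, 220), (0, 0), (3, 220), (0, 0), (0, 0), (4, 220), (0, 0),
     (0, 0), (0, 224), (1, 224), (2, 224), (3, 224), (4, 224), (0, 0), (7, 220), (0, 0), (0, 0),
     (0, 0), (7, 224), (0, 0), (0, 227), (0, 228), (1, 228), (0, 229), (1, 229), (2, 229),
     (0, 230), (1, 230), (2, 230), (3, 230), (0, 231), (0, 0), (2, 231), (3, 231), (4, 231),
     (0, 232), (1, 232), (2, 232), (3, 232), (4, 232), (5, 232), (0, 233), (1, 233), (2, 233),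
     (3, 233), (4, 233), (5, 233), (0, 0), (15, 220), (0, 0), (0, 0), (0, 0), (0, 235), (1, 235),
     (2, 235), (3, 235), (0, 236), (1, 236), (2, 236), (0, 237), (1, 237), (0, 0), (1, 239),
     (0, 0), (2, 239), (3, 237), (0, 0), (3, 239), (4, 236), (4, 237), (0, 0), (4, 239), (5, 235),
     (5, 236), (5, 237), (19, 224), (5, 239), (0, 0), (6, 235), (6, 236), (6, 237), (0, 0),
     (6, 239), (0, 0), (7, 235), (7, 236), (7, 237), (0, 0), (7, 239), (0, 0), (0, 0), (0, 0),
     (0, 0), (0, 0), (9, 236), (9, 237), (0, 0), (9, 239), (10, 237), (0, 0), (10, 239), (0, 0),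
     (11, 239), (0, 0), (14, 233), (15, 232), (14, 235), (14, 236), (14, 237), (19, 232),
     (14, 239), (15, 235), (15, 236), (15, 237), (0, 0), (15, 239), (16, 236), (16, 237),
     (19, 235), (16, 239), (17, 237), (19, 236), (17, 239), (19, 237), (18, 239), (19, 239),
     (21, 236), (21, 237), (0, 0), (21, 239), (22, 237), (0, 0), (22, 239), (0, 0), (23, 239),
     (0, 0), (26, 237), (28, 236), (26, 239), (28, 237), (27, 239), (28, 239), (31, 237),
     (30, 239), (31, 239), (33, 239), (36, 237), (0, 0), (36, 239), (0, 0), (37, 239), (0, 0),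
     (0, 0), (40, 239), (0, 0), (0, 0), (47, 237), (46, 239), (47, 239), (49, 239), (52, 239),
     (0, 0), (56, 239), (0, 0), (0, 0), (0, 0), (66, 239), (0, 0), (79, 237), (78, 239), (79, 239),
     (81, 239), (84, 239), (88, 239), (93, 239), (99, 239), (0, 0), (110, 239), (114, 239),
     (117, 239), (0, 0), (122, 237)]
  ]

set_option maxRecDepth 1000000 in
theorem rowsD_E8_80 : rowsDB chevE8 certE8_80 80 = true := by decide +kernel

set_option maxHeartbeats 0 in
/-- certificates for the rows `90..99` -/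
def certE8_90 : List (List (ℕ × ℕ)) :=
  [
    [(1, 119), (0, 120), (0, 122), (0, 125), (0, 129), (0, 134), (0, 140), (0, 146), (0, 0),
     (0, 155), (0, 158), (0, 0), (0, 161), (1, 161), (0, 168), (0, 173), (0, 177), (0, 180),
     (0, 182), (0, 183), (1, 183), (0, 187), (0, 190), (0, 0), (0, 193), (1, 193), (0, 196),
     (0, 198), (0, 199), (1, 199), (0, 201), (0, 202), (1, 202), (0, 203), (1, 203), (2, 203),
     (0, 206), (0, 0), (0, 209), (1, 209), (0, 0), (0, 212), (1, 212), (0, 0), (0, 0), (3, 212),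
     (0, 215), (0, 216), (1, 216), (0, 217), (1, 217), (2, 217), (0, 218), (1, 218), (2, 218),
     (3, 218), (0, 0), (0, 221), (1, 221), (0, 0), (0, 0), (3, 221), (0, 0), (0, 0), (4, 221),
     (0, 0), (0, 224), (1, 224), (2, 224), (3, 224), (4, 224), (0, 0), (0, 0), (7, 221), (0, 0),
     (0, 0), (7, 224), (0, 0), (0, 227), (0, 228), (1, 228), (0, 229), (1, 229), (2, 229),
     (0, 230), (1, 230), (2, 230), (3, 230), (0, 231), (1, 231), (0, 0), (3, 231), (4, 231),
     (0, 232), (1, 232), (2, 232), (3, 232), (4, 232), (5, 232), (0, 233), (1, 233), (2, 233),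
     (3, 233), (4, 233), (5, 233), (0, 0), (0, 0), (15, 221), (0, 0), (0, 0), (0, 235), (1, 235),
     (2, 235), (3, 235), (0, 236), (1, 236), (2, 236), (0, 0), (0, 0), (0, 238), (1, 239),
     (2, 238), (2, 239), (0, 0), (3, 238), (3, 239), (4, 236), (0, 0), (4, 238), (4, 239),
     (5, 235), (5, 236), (18, 224), (5, 238), (5, 239), (0, 0), (6, 235), (6, 236), (0, 0),
     (6, 238), (6, 239), (0, 0), (7, 235), (7, 236), (0, 0), (7, 238), (7, 239), (0, 0), (0, 0),
     (0, 0), (0, 0), (0, 0), (9, 236), (0, 0), (9, 238), (9, 239), (0, 0), (10, 238), (10, 239),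
     (0, 0), (0, 0), (12, 239), (14, 233), (15, 232), (14, 235), (14, 236), (18, 232), (14, 238),
     (14, 239), (15, 235), (15, 236), (0, 0), (15, 238), (15, 239), (16, 236), (18, 235),
     (16, 238), (16, 239), (18, 236), (17, 238), (17, 239), (18, 238), (18, 239), (19, 239),
     (21, 236), (0, 0), (21, 238), (21, 239), (0, 0), (22, 238), (22, 239), (0, 0), (0, 0),
     (24, 239), (27, 236), (26, 238), (26, 239), (27, 238), (27, 239), (28, 239), (30, 238),
     (30, 239), (31, 239), (33, 239), (0, 0), (36, 238), (36, 239), (0, 0), (0, 0), (38, 239),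
     (0, 0), (0, 0), (41, 239), (0, 0), (46, 238), (46, 239), (47, 239), (49, 239), (52, 239),
     (0, 0), (0, 0), (57, 239), (0, 0), (0, 0), (66, 239), (0, 0), (78, 238), (78, 239), (79, 239),
     (81, 239), (84, 239), (88, 239), (93, 239), (99, 239), (0, 0), (110, 239), (114, 239), (0, 0),
     (119, 239), (120, 238)],
    [(1, 119), (0, 120), (0, 122), (0, 125), (0, 129), (0, 134), (0, 140), (0, 146), (0, 0),
     (0, 155), (0, 0), (0, 160), (0, 161), (1, 161), (0, 168), (0, 173), (0, 177), (0, 180),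
     (0, 182), (0, 183), (1, 183), (0, 187), (0, 0), (0, 192), (0, 193), (1, 193), (0, 196),
     (0, 198), (0, 199), (1, 199), (0, 201), (0, 202), (1, 202), (0, 203), (1, 203), (2, 203),
     (0, 0), (0, 208), (0, 209), (1, 209), (0, 0), (0, 0), (0, 0), (0, 213), (1, 213), (2, 213),
     (0, 215), (0, 216), (1, 216), (0, 217), (1, 217), (2, 217), (0, 218), (1, 218), (2, 218),
     (3, 218), (0, 0), (0, 0), (0, 0), (0, 222), (1, 222), (2, 222), (0, 0), (0, 0), (0, 0),
     (4, 222), (0, 224), (1, 224), (2, 224), (3, 224), (4, 224), (0, 0), (0, 0), (0, 0), (7, 222),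
     (0, 0), (7, 224), (0, 0), (0, 227), (0, 228), (1, 228), (0, 229), (1, 229), (2, 229),
     (0, 230), (1, 230), (2, 230), (3, 230), (0, 231), (1, 231), (2, 231), (0, 0), (4, 231),
     (0, 232), (1, 232), (2, 232), (3, 232), (4, 232), (5, 232), (0, 233), (1, 233), (2, 233),
     (3, 233), (4, 233), (5, 233), (0, 0), (0, 0), (0, 0), (15, 222), (0, 0), (0, 235), (1, 235),
     (2, 235), (3, 235), (0, 0), (0, 0), (0, 0), (0, 237), (1, 237), (0, 238), (1, 239), (2, 238),
     (2, 239), (3, 237), (3, 238), (3, 239), (0, 0), (4, 237), (4, 238), (4, 239), (5, 235),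
     (17, 224), (5, 237), (5, 238), (5, 239), (0, 0), (6, 235), (0, 0), (6, 237), (6, 238),
     (6, 239), (0, 0), (7, 235), (0, 0), (7, 237), (7, 238), (7, 239), (0, 0), (0, 0), (0, 0),
     (0, 0), (0, 0), (0, 0), (9, 237), (9, 238), (9, 239), (0, 0), (0, 0), (0, 0), (11, 238),
     (11, 239), (12, 239), (14, 233), (15, 232), (14, 235), (17, 232), (14, 237), (14, 238),
     (14, 239), (15, 235), (0, 0), (15, 237), (15, 238), (15, 239), (17, 235), (16, 237),
     (16, 238), (16, 239), (17, 237), (17, 238), (17, 239), (18, 238), (18, 239), (19, 239),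
     (0, 0), (21, 237), (21, 238), (21, 239), (0, 0), (0, 0), (0, 0), (23, 238), (23, 239),
     (24, 239), (26, 237), (26, 238), (26, 239), (27, 238), (27, 239), (28, 239), (30, 238),
     (30, 239), (31, 239), (33, 239), (0, 0), (0, 0), (0, 0), (37, 238), (37, 239), (38, 239),
     (0, 0), (0, 0), (0, 0), (43, 239), (46, 238), (46, 239), (47, 239), (49, 239), (52, 239),
     (0, 0), (0, 0), (0, 0), (59, 239), (0, 0), (66, 239), (0, 0), (78, 238), (78, 239), (79, 239),
     (81, 239), (84, 239), (88, 239), (93, 239), (99, 239), (0, 0), (110, 239), (0, 0), (117, 239),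
     (119, 239), (120, 238)],
    [(1, 119), (0, 120), (0, 122), (0, 125), (0, 129), (0, 134), (0, 140), (0, 146), (0, 0),
     (0, 0), (0, 158), (0, 160), (0, 161), (1, 161), (0, 168), (0, 173), (0, 177), (0, 180),
     (0, 182), (0, 183), (1, 183), (0, 0), (0, 190), (0, 192), (0, 193), (1, 193), (0, 196),
     (0, 198), (0, 199), (1, 199), (0, 201), (0, 202), (1, 202), (0, 203), (1, 203), (2, 203),
     (0, 0), (0, 0), (0, 0), (0, 0), (0, 211), (0, 212), (1, 212), (0, 213), (1, 213), (2, 213),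
     (0, 215), (0, 216), (1, 216), (0, 217), (1, 217), (2, 217), (0, 218), (1, 218), (2, 218),
     (3, 218), (0, 0), (0, 0), (0, 0), (0, 0), (0, 0), (0, 0), (0, 223), (1, 223), (2, 223),
     (3, 223), (0, 224), (1, 224), (2, 224), (3, 224), (4, 224), (0, 0), (0, 0), (0, 0), (0, 0),
     (7, 223), (7, 224), (0, 0), (0, 227), (0, 228), (1, 228), (0, 229), (1, 229), (2, 229),
     (0, 230), (1, 230), (2, 230), (3, 230), (0, 231), (1, 231), (2, 231), (3, 231), (0, 0),
     (0, 232), (1, 232), (2, 232), (3, 232), (4, 232), (5, 232), (0, 233), (1, 233), (2, 233),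
     (3, 233), (4, 233), (5, 233), (0, 0), (0, 0), (0, 0), (0, 0), (15, 223), (0, 0), (0, 0),
     (0, 0), (0, 0), (0, 236), (1, 236), (2, 236), (0, 237), (1, 237), (0, 238), (1, 239),
     (2, 238), (2, 239), (3, 237), (3, 238), (3, 239), (4, 236), (4, 237), (4, 238), (4, 239),
     (16, 224), (5, 236), (5, 237), (5, 238), (5, 239), (0, 0), (0, 0), (6, 236), (6, 237),
     (6, 238), (6, 239), (0, 0), (0, 0), (7, 236), (7, 237), (7, 238), (7, 239), (0, 0), (0, 0),
     (0, 0), (0, 0), (0, 0), (0, 0), (0, 0), (0, 0), (0, 0), (10, 237), (10, 238), (10, 239),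
     (11, 238), (11, 239), (12, 239), (14, 233), (15, 232), (16, 232), (14, 236), (14, 237),
     (14, 238), (14, 239), (0, 0), (15, 236), (15, 237), (15, 238), (15, 239), (16, 236),
     (16, 237), (16, 238), (16, 239), (17, 237), (17, 238), (17, 239), (18, 238), (18, 239),
     (19, 239), (0, 0), (0, 0), (0, 0), (0, 0), (22, 237), (22, 238), (22, 239), (23, 238),
     (23, 239), (24, 239), (26, 237), (26, 238), (26, 239), (27, 238), (27, 239), (28, 239),
     (30, 238), (30, 239), (31, 239), (33, 239), (0, 0), (0, 0), (0, 0), (0, 0), (0, 0), (0, 0),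
     (40, 238), (40, 239), (41, 239), (43, 239), (46, 238), (46, 239), (47, 239), (49, 239),
     (52, 239), (0, 0), (0, 0), (0, 0), (0, 0), (62, 239), (66, 239), (0, 0), (78, 238), (78, 239),
     (79, 239), (81, 239), (84, 239), (88, 239), (93, 239), (99, 239), (0, 0), (0, 0), (114, 239),
     (117, 239), (119, 239), (120, 238)],
    [(1, 119), (2, 118), (1, 121), (1, 124), (1, 128), (1, 133), (0, 140), (0, 0), (1, 150),
     (1, 154), (1, 157), (1, 159), (2, 159), (0, 0), (0, 168), (1, 172), (1, 176), (1, 179),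
     (1, 181), (2, 181), (0, 0), (0, 187), (0, 190), (0, 192), (0, 193), (1, 193), (0, 196),
     (0, 198), (0, 199), (1, 199), (0, 201), (0, 202), (1, 202), (0, 203), (1, 203), (2, 203),
     (1, 205), (1, 207), (2, 207), (0, 0), (1, 210), (2, 210), (0, 0), (3, 210), (0, 0), (0, 0),
     (1, 214), (2, 214), (0, 0), (3, 214), (0, 0), (0, 0), (4, 214), (0, 0), (0, 0), (0, 0),
     (0, 220), (0, 221), (1, 221), (0, 222), (1, 222), (2, 222), (0, 223), (1, 223), (2, 223),
     (3, 223), (0, 224), (1, 224), (2, 224), (3, 224), (4, 224), (8, 214), (0, 0), (0, 0), (0, 0),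
     (0, 0), (0, 0), (8, 224), (0, 227), (0, 228), (1, 228), (0, 229), (1, 229), (2, 229),
     (0, 230), (1, 230), (2, 230), (3, 230), (0, 231), (1, 231), (2, 231), (3, 231), (4, 231),
     (0, 0), (1, 232), (2, 232), (3, 232), (4, 232), (5, 232), (15, 214), (0, 0), (0, 0), (0, 0),
     (0, 0), (0, 0), (0, 234), (1, 234), (2, 234), (3, 234), (4, 234), (0, 235), (1, 235),
     (2, 235), (3, 235), (0, 236), (1, 236), (2, 236), (0, 237), (1, 237), (0, 238), (0, 0),
     (2, 238), (0, 0), (3, 237), (3, 238), (0, 0), (4, 236), (4, 237), (4, 238), (0, 0), (5, 235),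
     (5, 236), (5, 237), (5, 238), (0, 0), (6, 234), (6, 235), (6, 236), (6, 237), (6, 238),
     (25, 224), (0, 0), (0, 0), (0, 0), (0, 0), (0, 0), (0, 0), (8, 235), (8, 236), (8, 237),
     (8, 238), (0, 0), (9, 236), (9, 237), (9, 238), (0, 0), (10, 237), (10, 238), (0, 0),
     (11, 238), (0, 0), (0, 0), (15, 231), (14, 234), (14, 235), (14, 236), (14, 237), (14, 238),
     (25, 231), (15, 235), (15, 236), (15, 237), (15, 238), (0, 0), (16, 236), (16, 237),
     (16, 238), (0, 0), (17, 237), (17, 238), (0, 0), (18, 238), (0, 0), (0, 0), (21, 236),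
     (21, 237), (21, 238), (25, 235), (22, 237), (22, 238), (25, 236), (23, 238), (25, 237),
     (25, 238), (26, 237), (26, 238), (29, 236), (27, 238), (29, 237), (29, 238), (30, 238),
     (32, 237), (32, 238), (34, 238), (36, 237), (36, 238), (0, 0), (37, 238), (0, 0), (0, 0),
     (40, 238), (0, 0), (0, 0), (0, 0), (46, 238), (0, 0), (0, 0), (0, 0), (0, 0), (56, 238),
     (58, 237), (58, 238), (60, 238), (63, 238), (67, 238), (0, 0), (78, 238), (80, 237),
     (80, 238), (82, 238), (85, 238), (89, 238), (94, 238), (0, 0), (106, 238), (111, 238),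
     (115, 238), (118, 238), (121, 237), (0, 0)],
    [(2, 117), (0, 120), (0, 122), (0, 125), (0, 129), (0, 134), (0, 140), (0, 0), (0, 151),
     (0, 155), (0, 158), (0, 160), (0, 0), (2, 160), (0, 168), (0, 173), (0, 177), (0, 180),
     (0, 182), (0, 0), (2, 182), (0, 187), (0, 190), (0, 192), (0, 193), (1, 193), (0, 196),
     (0, 198), (0, 199), (1, 199), (0, 201), (0, 202), (1, 202), (0, 203), (1, 203), (2, 203),
     (0, 206), (0, 208), (0, 0), (2, 208), (0, 211), (0, 0), (2, 211), (0, 0), (3, 211), (0, 0),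
     (0, 215), (0, 0), (2, 215), (0, 0), (3, 215), (0, 0), (0, 0), (4, 215), (0, 0), (0, 0),
     (0, 220), (0, 221), (1, 221), (0, 222), (1, 222), (2, 222), (0, 223), (1, 223), (2, 223),
     (3, 223), (0, 224), (1, 224), (2, 224), (3, 224), (4, 224), (0, 0), (8, 215), (0, 0), (0, 0),
     (0, 0), (0, 0), (8, 224), (0, 227), (0, 228), (1, 228), (0, 229), (1, 229), (2, 229),
     (0, 230), (1, 230), (2, 230), (3, 230), (0, 231), (1, 231), (2, 231), (3, 231), (4, 231),
     (0, 232), (0, 0), (2, 232), (3, 232), (4, 232), (5, 232), (0, 0), (15, 215), (0, 0), (0, 0),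
     (0, 0), (0, 0), (0, 234), (1, 234), (2, 234), (3, 234), (4, 234), (0, 235), (1, 235),
     (2, 235), (3, 235), (0, 236), (1, 236), (2, 236), (0, 237), (1, 237), (0, 0), (1, 239),
     (0, 0), (2, 239), (3, 237), (0, 0), (3, 239), (4, 236), (4, 237), (0, 0), (4, 239), (5, 235),
     (5, 236), (5, 237), (0, 0), (5, 239), (6, 234), (6, 235), (6, 236), (6, 237), (24, 224),
     (6, 239), (0, 0), (0, 0), (0, 0), (0, 0), (0, 0), (0, 0), (8, 235), (8, 236), (8, 237),
     (0, 0), (8, 239), (9, 236), (9, 237), (0, 0), (9, 239), (10, 237), (0, 0), (10, 239), (0, 0),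
     (11, 239), (0, 0), (15, 231), (14, 234), (14, 235), (14, 236), (14, 237), (24, 231),
     (14, 239), (15, 235), (15, 236), (15, 237), (0, 0), (15, 239), (16, 236), (16, 237), (0, 0),
     (16, 239), (17, 237), (0, 0), (17, 239), (0, 0), (18, 239), (0, 0), (21, 236), (21, 237),
     (24, 235), (21, 239), (22, 237), (24, 236), (22, 239), (24, 237), (23, 239), (24, 239),
     (26, 237), (28, 236), (26, 239), (28, 237), (27, 239), (28, 239), (31, 237), (30, 239),
     (31, 239), (33, 239), (36, 237), (0, 0), (36, 239), (0, 0), (37, 239), (0, 0), (0, 0),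
     (40, 239), (0, 0), (0, 0), (0, 0), (46, 239), (0, 0), (0, 0), (0, 0), (57, 237), (56, 239),
     (57, 239), (59, 239), (62, 239), (66, 239), (0, 0), (79, 237), (78, 239), (79, 239),
     (81, 239), (84, 239), (88, 239), (93, 239), (0, 0), (105, 239), (110, 239), (114, 239),
     (117, 239), (0, 0), (122, 237)],
    [(1, 119), (0, 120), (0, 122), (0, 125), (0, 129), (0, 134), (0, 140), (0, 0), (0, 151),
     (0, 155), (0, 158), (0, 0), (0, 161), (1, 161), (0, 168), (0, 173), (0, 177), (0, 180),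
     (0, 0), (0, 183), (1, 183), (0, 187), (0, 190), (0, 192), (0, 193), (1, 193), (0, 196),
     (0, 198), (0, 199), (1, 199), (0, 201), (0, 202), (1, 202), (0, 203), (1, 203), (2, 203),
     (0, 206), (0, 0), (0, 209), (1, 209), (0, 0), (0, 212), (1, 212), (0, 0), (0, 0), (3, 212),
     (0, 0), (0, 216), (1, 216), (0, 0), (0, 0), (3, 216), (0, 0), (0, 0), (4, 216), (0, 0),
     (0, 220), (0, 221), (1, 221), (0, 222), (1, 222), (2, 222), (0, 223), (1, 223), (2, 223),
     (3, 223), (0, 224), (1, 224), (2, 224), (3, 224), (4, 224), (0, 0), (0, 0), (8, 216), (0, 0),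
     (0, 0), (0, 0), (8, 224), (0, 227), (0, 228), (1, 228), (0, 229), (1, 229), (2, 229),
     (0, 230), (1, 230), (2, 230), (3, 230), (0, 231), (1, 231), (2, 231), (3, 231), (4, 231),
     (0, 232), (1, 232), (0, 0), (3, 232), (4, 232), (5, 232), (0, 0), (0, 0), (15, 216), (0, 0),
     (0, 0), (0, 0), (0, 234), (1, 234), (2, 234), (3, 234), (4, 234), (0, 235), (1, 235),
     (2, 235), (3, 235), (0, 236), (1, 236), (2, 236), (0, 0), (0, 0), (0, 238), (1, 239),
     (2, 238), (2, 239), (0, 0), (3, 238), (3, 239), (4, 236), (0, 0), (4, 238), (4, 239),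
     (5, 235), (5, 236), (0, 0), (5, 238), (5, 239), (6, 234), (6, 235), (6, 236), (23, 224),
     (6, 238), (6, 239), (0, 0), (0, 0), (0, 0), (0, 0), (0, 0), (0, 0), (8, 235), (8, 236),
     (0, 0), (8, 238), (8, 239), (9, 236), (0, 0), (9, 238), (9, 239), (0, 0), (10, 238),
     (10, 239), (0, 0), (0, 0), (12, 239), (15, 231), (14, 234), (14, 235), (14, 236), (23, 231),
     (14, 238), (14, 239), (15, 235), (15, 236), (0, 0), (15, 238), (15, 239), (16, 236), (0, 0),
     (16, 238), (16, 239), (0, 0), (17, 238), (17, 239), (0, 0), (0, 0), (19, 239), (21, 236),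
     (23, 235), (21, 238), (21, 239), (23, 236), (22, 238), (22, 239), (23, 238), (23, 239),
     (24, 239), (27, 236), (26, 238), (26, 239), (27, 238), (27, 239), (28, 239), (30, 238),
     (30, 239), (31, 239), (33, 239), (0, 0), (36, 238), (36, 239), (0, 0), (0, 0), (38, 239),
     (0, 0), (0, 0), (41, 239), (0, 0), (0, 0), (0, 0), (47, 239), (0, 0), (0, 0), (56, 238),
     (56, 239), (57, 239), (59, 239), (62, 239), (66, 239), (0, 0), (78, 238), (78, 239),
     (79, 239), (81, 239), (84, 239), (88, 239), (93, 239), (0, 0), (105, 239), (110, 239),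
     (114, 239), (0, 0), (119, 239), (120, 238)],
    [(1, 119), (0, 120), (0, 122), (0, 125), (0, 129), (0, 134), (0, 140), (0, 0), (0, 151),
     (0, 155), (0, 0), (0, 160), (0, 161), (1, 161), (0, 168), (0, 173), (0, 177), (0, 0),
     (0, 182), (0, 183), (1, 183), (0, 187), (0, 190), (0, 192), (0, 193), (1, 193), (0, 196),
     (0, 198), (0, 199), (1, 199), (0, 201), (0, 202), (1, 202), (0, 203), (1, 203), (2, 203),
     (0, 0), (0, 208), (0, 209), (1, 209), (0, 0), (0, 0), (0, 0), (0, 213), (1, 213), (2, 213),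
     (0, 0), (0, 0), (0, 0), (0, 217), (1, 217), (2, 217), (0, 0), (0, 0), (0, 0), (4, 217),
     (0, 220), (0, 221), (1, 221), (0, 222), (1, 222), (2, 222), (0, 223), (1, 223), (2, 223),
     (3, 223), (0, 224), (1, 224), (2, 224), (3, 224), (4, 224), (0, 0), (0, 0), (0, 0), (8, 217),
     (0, 0), (0, 0), (8, 224), (0, 227), (0, 228), (1, 228), (0, 229), (1, 229), (2, 229),
     (0, 230), (1, 230), (2, 230), (3, 230), (0, 231), (1, 231), (2, 231), (3, 231), (4, 231),
     (0, 232), (1, 232), (2, 232), (0, 0), (4, 232), (5, 232), (0, 0), (0, 0), (0, 0), (15, 217),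
     (0, 0), (0, 0), (0, 234), (1, 234), (2, 234), (3, 234), (4, 234), (0, 235), (1, 235),
     (2, 235), (3, 235), (0, 0), (0, 0), (0, 0), (0, 237), (1, 237), (0, 238), (1, 239), (2, 238),
     (2, 239), (3, 237), (3, 238), (3, 239), (0, 0), (4, 237), (4, 238), (4, 239), (5, 235),
     (0, 0), (5, 237), (5, 238), (5, 239), (6, 234), (6, 235), (22, 224), (6, 237), (6, 238),
     (6, 239), (0, 0), (0, 0), (0, 0), (0, 0), (0, 0), (0, 0), (8, 235), (0, 0), (8, 237),
     (8, 238), (8, 239), (0, 0), (9, 237), (9, 238), (9, 239), (0, 0), (0, 0), (0, 0), (11, 238),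
     (11, 239), (12, 239), (15, 231), (14, 234), (14, 235), (22, 231), (14, 237), (14, 238),
     (14, 239), (15, 235), (0, 0), (15, 237), (15, 238), (15, 239), (0, 0), (16, 237), (16, 238),
     (16, 239), (0, 0), (0, 0), (0, 0), (18, 238), (18, 239), (19, 239), (22, 235), (21, 237),
     (21, 238), (21, 239), (22, 237), (22, 238), (22, 239), (23, 238), (23, 239), (24, 239),
     (26, 237), (26, 238), (26, 239), (27, 238), (27, 239), (28, 239), (30, 238), (30, 239),
     (31, 239), (33, 239), (0, 0), (0, 0), (0, 0), (37, 238), (37, 239), (38, 239), (0, 0), (0, 0),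
     (0, 0), (43, 239), (0, 0), (0, 0), (0, 0), (49, 239), (0, 0), (56, 238), (56, 239), (57, 239),
     (59, 239), (62, 239), (66, 239), (0, 0), (78, 238), (78, 239), (79, 239), (81, 239),
     (84, 239), (88, 239), (93, 239), (0, 0), (105, 239), (110, 239), (0, 0), (117, 239),
     (119, 239), (120, 238)],
    [(1, 119), (0, 120), (0, 122), (0, 125), (0, 129), (0, 134), (0, 140), (0, 0), (0, 151),
     (0, 0), (0, 158), (0, 160), (0, 161), (1, 161), (0, 168), (0, 173), (0, 0), (0, 180),
     (0, 182), (0, 183), (1, 183), (0, 187), (0, 190), (0, 192), (0, 193), (1, 193), (0, 196),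
     (0, 198), (0, 199), (1, 199), (0, 201), (0, 202), (1, 202), (0, 203), (1, 203), (2, 203),
     (0, 0), (0, 0), (0, 0), (0, 0), (0, 211), (0, 212), (1, 212), (0, 213), (1, 213), (2, 213),
     (0, 0), (0, 0), (0, 0), (0, 0), (0, 0), (0, 0), (0, 218), (1, 218), (2, 218), (3, 218),
     (0, 220), (0, 221), (1, 221), (0, 222), (1, 222), (2, 222), (0, 223), (1, 223), (2, 223),
     (3, 223), (0, 224), (1, 224), (2, 224), (3, 224), (4, 224), (0, 0), (0, 0), (0, 0), (0, 0),
     (8, 218), (0, 0), (8, 224), (0, 227), (0, 228), (1, 228), (0, 229), (1, 229), (2, 229),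
     (0, 230), (1, 230), (2, 230), (3, 230), (0, 231), (1, 231), (2, 231), (3, 231), (4, 231),
     (0, 232), (1, 232), (2, 232), (3, 232), (0, 0), (5, 232), (0, 0), (0, 0), (0, 0), (0, 0),
     (15, 218), (0, 0), (0, 234), (1, 234), (2, 234), (3, 234), (4, 234), (0, 0), (0, 0), (0, 0),
     (0, 0), (0, 236), (1, 236), (2, 236), (0, 237), (1, 237), (0, 238), (1, 239), (2, 238),
     (2, 239), (3, 237), (3, 238), (3, 239), (4, 236), (4, 237), (4, 238), (4, 239), (0, 0),
     (5, 236), (5, 237), (5, 238), (5, 239), (6, 234), (21, 224), (6, 236), (6, 237), (6, 238),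
     (6, 239), (0, 0), (0, 0), (0, 0), (0, 0), (0, 0), (0, 0), (0, 0), (8, 236), (8, 237),
     (8, 238), (8, 239), (0, 0), (0, 0), (0, 0), (0, 0), (10, 237), (10, 238), (10, 239),
     (11, 238), (11, 239), (12, 239), (15, 231), (14, 234), (21, 231), (14, 236), (14, 237),
     (14, 238), (14, 239), (0, 0), (15, 236), (15, 237), (15, 238), (15, 239), (0, 0), (0, 0),
     (0, 0), (0, 0), (17, 237), (17, 238), (17, 239), (18, 238), (18, 239), (19, 239), (21, 236),
     (21, 237), (21, 238), (21, 239), (22, 237), (22, 238), (22, 239), (23, 238), (23, 239),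
     (24, 239), (26, 237), (26, 238), (26, 239), (27, 238), (27, 239), (28, 239), (30, 238),
     (30, 239), (31, 239), (33, 239), (0, 0), (0, 0), (0, 0), (0, 0), (0, 0), (0, 0), (40, 238),
     (40, 239), (41, 239), (43, 239), (0, 0), (0, 0), (0, 0), (0, 0), (52, 239), (56, 238),
     (56, 239), (57, 239), (59, 239), (62, 239), (66, 239), (0, 0), (78, 238), (78, 239),
     (79, 239), (81, 239), (84, 239), (88, 239), (93, 239), (0, 0), (105, 239), (0, 0), (114, 239),
     (117, 239), (119, 239), (120, 238)],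
    [(1, 119), (0, 120), (0, 122), (0, 125), (0, 129), (0, 134), (0, 140), (0, 0), (0, 0),
     (0, 155), (0, 158), (0, 160), (0, 161), (1, 161), (0, 168), (0, 0), (0, 177), (0, 180),
     (0, 182), (0, 183), (1, 183), (0, 187), (0, 190), (0, 192), (0, 193), (1, 193), (0, 196),
     (0, 198), (0, 199), (1, 199), (0, 201), (0, 202), (1, 202), (0, 203), (1, 203), (2, 203),
     (0, 0), (0, 0), (0, 0), (0, 0), (0, 0), (0, 0), (0, 0), (0, 0), (0, 0), (0, 0), (0, 215),
     (0, 216), (1, 216), (0, 217), (1, 217), (2, 217), (0, 218), (1, 218), (2, 218), (3, 218),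
     (0, 220), (0, 221), (1, 221), (0, 222), (1, 222), (2, 222), (0, 223), (1, 223), (2, 223),
     (3, 223), (0, 224), (1, 224), (2, 224), (3, 224), (4, 224), (0, 0), (0, 0), (0, 0), (0, 0),
     (0, 0), (9, 218), (9, 223), (0, 227), (0, 228), (1, 228), (0, 229), (1, 229), (2, 229),
     (0, 230), (1, 230), (2, 230), (3, 230), (0, 231), (1, 231), (2, 231), (3, 231), (4, 231),
     (0, 232), (1, 232), (2, 232), (3, 232), (4, 232), (0, 0), (0, 0), (0, 0), (0, 0), (0, 0),
     (0, 0), (16, 218), (0, 0), (0, 0), (0, 0), (0, 0), (0, 0), (0, 235), (1, 235), (2, 235),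
     (3, 235), (0, 236), (1, 236), (2, 236), (0, 237), (1, 237), (0, 238), (1, 239), (2, 238),
     (2, 239), (3, 237), (3, 238), (3, 239), (4, 236), (4, 237), (4, 238), (4, 239), (5, 235),
     (5, 236), (5, 237), (5, 238), (5, 239), (21, 223), (6, 235), (6, 236), (6, 237), (6, 238),
     (6, 239), (0, 0), (0, 0), (0, 0), (0, 0), (0, 0), (0, 0), (0, 0), (0, 0), (0, 0), (0, 0),
     (0, 0), (9, 236), (9, 237), (9, 238), (9, 239), (10, 237), (10, 238), (10, 239), (11, 238),
     (11, 239), (12, 239), (16, 230), (21, 230), (14, 235), (14, 236), (14, 237), (14, 238),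
     (14, 239), (0, 0), (0, 0), (0, 0), (0, 0), (0, 0), (16, 236), (16, 237), (16, 238), (16, 239),
     (17, 237), (17, 238), (17, 239), (18, 238), (18, 239), (19, 239), (21, 236), (21, 237),
     (21, 238), (21, 239), (22, 237), (22, 238), (22, 239), (23, 238), (23, 239), (24, 239),
     (26, 237), (26, 238), (26, 239), (27, 238), (27, 239), (28, 239), (30, 238), (30, 239),
     (31, 239), (33, 239), (0, 0), (0, 0), (0, 0), (0, 0), (0, 0), (0, 0), (0, 0), (0, 0), (0, 0),
     (0, 0), (46, 238), (46, 239), (47, 239), (49, 239), (52, 239), (56, 238), (56, 239),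
     (57, 239), (59, 239), (62, 239), (66, 239), (0, 0), (78, 238), (78, 239), (79, 239),
     (81, 239), (84, 239), (88, 239), (93, 239), (0, 0), (0, 0), (110, 239), (114, 239),
     (117, 239), (119, 239), (120, 238)],
    [(1, 119), (2, 118), (1, 121), (1, 124), (1, 128), (1, 133), (0, 0), (0, 146), (1, 150),
     (1, 154), (1, 157), (1, 159), (2, 159), (0, 0), (1, 167), (0, 173), (0, 177), (0, 180),
     (0, 182), (0, 183), (1, 183), (1, 186), (1, 189), (1, 191), (2, 191), (0, 0), (1, 195),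
     (1, 197), (2, 197), (0, 0), (1, 200), (2, 200), (0, 0), (3, 200), (0, 0), (0, 0), (0, 206),
     (0, 208), (0, 209), (1, 209), (0, 211), (0, 212), (1, 212), (0, 213), (1, 213), (2, 213),
     (0, 215), (0, 216), (1, 216), (0, 217), (1, 217), (2, 217), (0, 218), (1, 218), (2, 218),
     (3, 218), (1, 219), (2, 219), (0, 0), (3, 219), (0, 0), (0, 0), (4, 219), (0, 0), (0, 0),
     (0, 0), (5, 219), (0, 0), (0, 0), (0, 0), (0, 0), (0, 225), (1, 225), (2, 225), (3, 225),
     (4, 225), (5, 225), (0, 0), (0, 227), (0, 228), (1, 228), (0, 229), (1, 229), (2, 229),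
     (0, 230), (1, 230), (2, 230), (3, 230), (0, 231), (1, 231), (2, 231), (3, 231), (4, 231),
     (14, 219), (0, 0), (0, 0), (0, 0), (0, 0), (0, 0), (0, 0), (1, 233), (2, 233), (3, 233),
     (4, 233), (5, 233), (0, 234), (1, 234), (2, 234), (3, 234), (4, 234), (0, 235), (1, 235),
     (2, 235), (3, 235), (0, 236), (1, 236), (2, 236), (0, 237), (1, 237), (0, 238), (0, 0),
     (2, 238), (0, 0), (3, 237), (3, 238), (0, 0), (4, 236), (4, 237), (4, 238), (0, 0), (5, 235),
     (5, 236), (5, 237), (5, 238), (0, 0), (0, 0), (0, 0), (0, 0), (0, 0), (0, 0), (0, 0),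
     (7, 234), (7, 235), (7, 236), (7, 237), (7, 238), (20, 225), (8, 235), (8, 236), (8, 237),
     (8, 238), (0, 0), (9, 236), (9, 237), (9, 238), (0, 0), (10, 237), (10, 238), (0, 0),
     (11, 238), (0, 0), (0, 0), (14, 233), (14, 234), (14, 235), (14, 236), (14, 237), (14, 238),
     (0, 0), (15, 235), (15, 236), (15, 237), (15, 238), (20, 234), (16, 236), (16, 237),
     (16, 238), (20, 235), (17, 237), (17, 238), (20, 236), (18, 238), (20, 237), (20, 238),
     (21, 236), (21, 237), (21, 238), (0, 0), (22, 237), (22, 238), (0, 0), (23, 238), (0, 0),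
     (0, 0), (26, 237), (26, 238), (0, 0), (27, 238), (0, 0), (0, 0), (30, 238), (0, 0), (0, 0),
     (0, 0), (36, 237), (36, 238), (39, 236), (37, 238), (39, 237), (39, 238), (40, 238),
     (42, 237), (42, 238), (44, 238), (46, 238), (48, 237), (48, 238), (50, 238), (53, 238),
     (56, 238), (0, 0), (0, 0), (0, 0), (0, 0), (0, 0), (72, 238), (78, 238), (80, 237), (80, 238),
     (82, 238), (85, 238), (89, 238), (0, 0), (100, 238), (106, 238), (111, 238), (115, 238),
     (118, 238), (121, 237), (0, 0)]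
  ]

set_option maxRecDepth 1000000 in
theorem rowsD_E8_90 : rowsDB chevE8 certE8_90 90 = true := by decide +kernel

set_option maxHeartbeats 0 in
/-- certificates for the rows `100..109` -/
def certE8_100 : List (List (ℕ × ℕ)) :=
  [
    [(2, 117), (0, 120), (0, 122), (0, 125), (0, 129), (0, 134), (0, 0), (0, 146), (0, 151),
     (0, 155), (0, 158), (0, 160), (0, 0), (2, 160), (0, 168), (0, 173), (0, 177), (0, 180),
     (0, 182), (0, 183), (1, 183), (0, 187), (0, 190), (0, 192), (0, 0), (2, 192), (0, 196),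
     (0, 198), (0, 0), (2, 198), (0, 201), (0, 0), (2, 201), (0, 0), (3, 201), (0, 0), (0, 206),
     (0, 208), (0, 209), (1, 209), (0, 211), (0, 212), (1, 212), (0, 213), (1, 213), (2, 213),
     (0, 215), (0, 216), (1, 216), (0, 217), (1, 217), (2, 217), (0, 218), (1, 218), (2, 218),
     (3, 218), (0, 220), (0, 0), (2, 220), (0, 0), (3, 220), (0, 0), (0, 0), (4, 220), (0, 0),
     (0, 0), (0, 0), (5, 220), (0, 0), (0, 0), (0, 0), (0, 225), (1, 225), (2, 225), (3, 225),
     (4, 225), (5, 225), (0, 0), (0, 227), (0, 228), (1, 228), (0, 229), (1, 229), (2, 229),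
     (0, 230), (1, 230), (2, 230), (3, 230), (0, 231), (1, 231), (2, 231), (3, 231), (4, 231),
     (0, 0), (14, 220), (0, 0), (0, 0), (0, 0), (0, 0), (0, 233), (0, 0), (2, 233), (3, 233),
     (4, 233), (5, 233), (0, 234), (1, 234), (2, 234), (3, 234), (4, 234), (0, 235), (1, 235),
     (2, 235), (3, 235), (0, 236), (1, 236), (2, 236), (0, 237), (1, 237), (0, 0), (1, 239),
     (0, 0), (2, 239), (3, 237), (0, 0), (3, 239), (4, 236), (4, 237), (0, 0), (4, 239), (5, 235),
     (5, 236), (5, 237), (0, 0), (5, 239), (0, 0), (0, 0), (0, 0), (0, 0), (0, 0), (0, 0),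
     (7, 234), (7, 235), (7, 236), (7, 237), (19, 225), (7, 239), (8, 235), (8, 236), (8, 237),
     (0, 0), (8, 239), (9, 236), (9, 237), (0, 0), (9, 239), (10, 237), (0, 0), (10, 239), (0, 0),
     (11, 239), (0, 0), (14, 233), (14, 234), (14, 235), (14, 236), (14, 237), (0, 0), (14, 239),
     (15, 235), (15, 236), (15, 237), (19, 234), (15, 239), (16, 236), (16, 237), (19, 235),
     (16, 239), (17, 237), (19, 236), (17, 239), (19, 237), (18, 239), (19, 239), (21, 236),
     (21, 237), (0, 0), (21, 239), (22, 237), (0, 0), (22, 239), (0, 0), (23, 239), (0, 0),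
     (26, 237), (0, 0), (26, 239), (0, 0), (27, 239), (0, 0), (0, 0), (30, 239), (0, 0), (0, 0),
     (36, 237), (38, 236), (36, 239), (38, 237), (37, 239), (38, 239), (41, 237), (40, 239),
     (41, 239), (43, 239), (47, 237), (46, 239), (47, 239), (49, 239), (52, 239), (0, 0),
     (56, 239), (0, 0), (0, 0), (0, 0), (0, 0), (71, 239), (79, 237), (78, 239), (79, 239),
     (81, 239), (84, 239), (88, 239), (0, 0), (99, 239), (105, 239), (110, 239), (114, 239),
     (117, 239), (0, 0), (122, 237)],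
    [(1, 119), (0, 120), (0, 122), (0, 125), (0, 129), (0, 134), (0, 0), (0, 146), (0, 151),
     (0, 155), (0, 158), (0, 0), (0, 161), (1, 161), (0, 168), (0, 173), (0, 177), (0, 180),
     (0, 182), (0, 183), (1, 183), (0, 187), (0, 190), (0, 0), (0, 193), (1, 193), (0, 196),
     (0, 0), (0, 199), (1, 199), (0, 0), (0, 202), (1, 202), (0, 0), (0, 0), (3, 202), (0, 206),
     (0, 208), (0, 209), (1, 209), (0, 211), (0, 212), (1, 212), (0, 213), (1, 213), (2, 213),
     (0, 215), (0, 216), (1, 216), (0, 217), (1, 217), (2, 217), (0, 218), (1, 218), (2, 218),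
     (3, 218), (0, 0), (0, 221), (1, 221), (0, 0), (0, 0), (3, 221), (0, 0), (0, 0), (4, 221),
     (0, 0), (0, 0), (0, 0), (5, 221), (0, 0), (0, 0), (0, 225), (1, 225), (2, 225), (3, 225),
     (4, 225), (5, 225), (0, 0), (0, 227), (0, 228), (1, 228), (0, 229), (1, 229), (2, 229),
     (0, 230), (1, 230), (2, 230), (3, 230), (0, 231), (1, 231), (2, 231), (3, 231), (4, 231),
     (0, 0), (0, 0), (14, 221), (0, 0), (0, 0), (0, 0), (0, 233), (1, 233), (0, 0), (3, 233),
     (4, 233), (5, 233), (0, 234), (1, 234), (2, 234), (3, 234), (4, 234), (0, 235), (1, 235),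
     (2, 235), (3, 235), (0, 236), (1, 236), (2, 236), (0, 0), (0, 0), (0, 238), (1, 239),
     (2, 238), (2, 239), (0, 0), (3, 238), (3, 239), (4, 236), (0, 0), (4, 238), (4, 239),
     (5, 235), (5, 236), (0, 0), (5, 238), (5, 239), (0, 0), (0, 0), (0, 0), (0, 0), (0, 0),
     (0, 0), (7, 234), (7, 235), (7, 236), (18, 225), (7, 238), (7, 239), (8, 235), (8, 236),
     (0, 0), (8, 238), (8, 239), (9, 236), (0, 0), (9, 238), (9, 239), (0, 0), (10, 238),
     (10, 239), (0, 0), (0, 0), (12, 239), (14, 233), (14, 234), (14, 235), (14, 236), (0, 0),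
     (14, 238), (14, 239), (15, 235), (15, 236), (18, 234), (15, 238), (15, 239), (16, 236),
     (18, 235), (16, 238), (16, 239), (18, 236), (17, 238), (17, 239), (18, 238), (18, 239),
     (19, 239), (21, 236), (0, 0), (21, 238), (21, 239), (0, 0), (22, 238), (22, 239), (0, 0),
     (0, 0), (24, 239), (0, 0), (26, 238), (26, 239), (0, 0), (0, 0), (28, 239), (0, 0), (0, 0),
     (31, 239), (0, 0), (37, 236), (36, 238), (36, 239), (37, 238), (37, 239), (38, 239),
     (40, 238), (40, 239), (41, 239), (43, 239), (46, 238), (46, 239), (47, 239), (49, 239),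
     (52, 239), (0, 0), (0, 0), (57, 239), (0, 0), (0, 0), (0, 0), (71, 239), (78, 238), (78, 239),
     (79, 239), (81, 239), (84, 239), (88, 239), (0, 0), (99, 239), (105, 239), (110, 239),
     (114, 239), (0, 0), (119, 239), (120, 238)],
    [(1, 119), (0, 120), (0, 122), (0, 125), (0, 129), (0, 134), (0, 0), (0, 146), (0, 151),
     (0, 155), (0, 0), (0, 160), (0, 161), (1, 161), (0, 168), (0, 173), (0, 177), (0, 180),
     (0, 182), (0, 183), (1, 183), (0, 187), (0, 0), (0, 192), (0, 193), (1, 193), (0, 0),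
     (0, 198), (0, 199), (1, 199), (0, 0), (0, 0), (0, 0), (0, 203), (1, 203), (2, 203), (0, 206),
     (0, 208), (0, 209), (1, 209), (0, 211), (0, 212), (1, 212), (0, 213), (1, 213), (2, 213),
     (0, 215), (0, 216), (1, 216), (0, 217), (1, 217), (2, 217), (0, 218), (1, 218), (2, 218),
     (3, 218), (0, 0), (0, 0), (0, 0), (0, 222), (1, 222), (2, 222), (0, 0), (0, 0), (0, 0),
     (4, 222), (0, 0), (0, 0), (0, 0), (5, 222), (0, 0), (0, 225), (1, 225), (2, 225), (3, 225),
     (4, 225), (5, 225), (0, 0), (0, 227), (0, 228), (1, 228), (0, 229), (1, 229), (2, 229),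
     (0, 230), (1, 230), (2, 230), (3, 230), (0, 231), (1, 231), (2, 231), (3, 231), (4, 231),
     (0, 0), (0, 0), (0, 0), (14, 222), (0, 0), (0, 0), (0, 233), (1, 233), (2, 233), (0, 0),
     (4, 233), (5, 233), (0, 234), (1, 234), (2, 234), (3, 234), (4, 234), (0, 235), (1, 235),
     (2, 235), (3, 235), (0, 0), (0, 0), (0, 0), (0, 237), (1, 237), (0, 238), (1, 239), (2, 238),
     (2, 239), (3, 237), (3, 238), (3, 239), (0, 0), (4, 237), (4, 238), (4, 239), (5, 235),
     (0, 0), (5, 237), (5, 238), (5, 239), (0, 0), (0, 0), (0, 0), (0, 0), (0, 0), (0, 0),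
     (7, 234), (7, 235), (17, 225), (7, 237), (7, 238), (7, 239), (8, 235), (0, 0), (8, 237),
     (8, 238), (8, 239), (0, 0), (9, 237), (9, 238), (9, 239), (0, 0), (0, 0), (0, 0), (11, 238),
     (11, 239), (12, 239), (14, 233), (14, 234), (14, 235), (0, 0), (14, 237), (14, 238),
     (14, 239), (15, 235), (17, 234), (15, 237), (15, 238), (15, 239), (17, 235), (16, 237),
     (16, 238), (16, 239), (17, 237), (17, 238), (17, 239), (18, 238), (18, 239), (19, 239),
     (0, 0), (21, 237), (21, 238), (21, 239), (0, 0), (0, 0), (0, 0), (23, 238), (23, 239),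
     (24, 239), (0, 0), (0, 0), (0, 0), (27, 238), (27, 239), (28, 239), (0, 0), (0, 0), (0, 0),
     (33, 239), (36, 237), (36, 238), (36, 239), (37, 238), (37, 239), (38, 239), (40, 238),
     (40, 239), (41, 239), (43, 239), (46, 238), (46, 239), (47, 239), (49, 239), (52, 239),
     (0, 0), (0, 0), (0, 0), (59, 239), (0, 0), (0, 0), (71, 239), (78, 238), (78, 239), (79, 239),
     (81, 239), (84, 239), (88, 239), (0, 0), (99, 239), (105, 239), (110, 239), (0, 0),
     (117, 239), (119, 239), (120, 238)],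
    [(1, 119), (0, 120), (0, 122), (0, 125), (0, 129), (0, 134), (0, 0), (0, 146), (0, 151),
     (0, 0), (0, 158), (0, 160), (0, 161), (1, 161), (0, 168), (0, 173), (0, 177), (0, 180),
     (0, 182), (0, 183), (1, 183), (0, 0), (0, 190), (0, 192), (0, 193), (1, 193), (0, 0), (0, 0),
     (0, 0), (0, 0), (0, 201), (0, 202), (1, 202), (0, 203), (1, 203), (2, 203), (0, 206),
     (0, 208), (0, 209), (1, 209), (0, 211), (0, 212), (1, 212), (0, 213), (1, 213), (2, 213),
     (0, 215), (0, 216), (1, 216), (0, 217), (1, 217), (2, 217), (0, 218), (1, 218), (2, 218),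
     (3, 218), (0, 0), (0, 0), (0, 0), (0, 0), (0, 0), (0, 0), (0, 223), (1, 223), (2, 223),
     (3, 223), (0, 0), (0, 0), (0, 0), (0, 0), (5, 223), (0, 225), (1, 225), (2, 225), (3, 225),
     (4, 225), (5, 225), (0, 0), (0, 227), (0, 228), (1, 228), (0, 229), (1, 229), (2, 229),
     (0, 230), (1, 230), (2, 230), (3, 230), (0, 231), (1, 231), (2, 231), (3, 231), (4, 231),
     (0, 0), (0, 0), (0, 0), (0, 0), (14, 223), (0, 0), (0, 233), (1, 233), (2, 233), (3, 233),
     (0, 0), (5, 233), (0, 234), (1, 234), (2, 234), (3, 234), (4, 234), (0, 0), (0, 0), (0, 0),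
     (0, 0), (0, 236), (1, 236), (2, 236), (0, 237), (1, 237), (0, 238), (1, 239), (2, 238),
     (2, 239), (3, 237), (3, 238), (3, 239), (4, 236), (4, 237), (4, 238), (4, 239), (0, 0),
     (5, 236), (5, 237), (5, 238), (5, 239), (0, 0), (0, 0), (0, 0), (0, 0), (0, 0), (0, 0),
     (7, 234), (16, 225), (7, 236), (7, 237), (7, 238), (7, 239), (0, 0), (8, 236), (8, 237),
     (8, 238), (8, 239), (0, 0), (0, 0), (0, 0), (0, 0), (10, 237), (10, 238), (10, 239),
     (11, 238), (11, 239), (12, 239), (14, 233), (14, 234), (0, 0), (14, 236), (14, 237),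
     (14, 238), (14, 239), (16, 234), (15, 236), (15, 237), (15, 238), (15, 239), (16, 236),
     (16, 237), (16, 238), (16, 239), (17, 237), (17, 238), (17, 239), (18, 238), (18, 239),
     (19, 239), (0, 0), (0, 0), (0, 0), (0, 0), (22, 237), (22, 238), (22, 239), (23, 238),
     (23, 239), (24, 239), (0, 0), (0, 0), (0, 0), (0, 0), (0, 0), (0, 0), (30, 238), (30, 239),
     (31, 239), (33, 239), (36, 237), (36, 238), (36, 239), (37, 238), (37, 239), (38, 239),
     (40, 238), (40, 239), (41, 239), (43, 239), (46, 238), (46, 239), (47, 239), (49, 239),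
     (52, 239), (0, 0), (0, 0), (0, 0), (0, 0), (62, 239), (0, 0), (71, 239), (78, 238), (78, 239),
     (79, 239), (81, 239), (84, 239), (88, 239), (0, 0), (99, 239), (105, 239), (0, 0), (114, 239),
     (117, 239), (119, 239), (120, 238)],
    [(1, 119), (0, 120), (0, 122), (0, 125), (0, 129), (0, 134), (0, 0), (0, 146), (0, 0),
     (0, 155), (0, 158), (0, 160), (0, 161), (1, 161), (0, 168), (0, 173), (0, 177), (0, 180),
     (0, 182), (0, 183), (1, 183), (0, 0), (0, 0), (0, 0), (0, 0), (0, 0), (0, 196), (0, 198),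
     (0, 199), (1, 199), (0, 201), (0, 202), (1, 202), (0, 203), (1, 203), (2, 203), (0, 206),
     (0, 208), (0, 209), (1, 209), (0, 211), (0, 212), (1, 212), (0, 213), (1, 213), (2, 213),
     (0, 215), (0, 216), (1, 216), (0, 217), (1, 217), (2, 217), (0, 218), (1, 218), (2, 218),
     (3, 218), (0, 0), (0, 0), (0, 0), (0, 0), (0, 0), (0, 0), (0, 0), (0, 0), (0, 0), (0, 0),
     (0, 224), (1, 224), (2, 224), (3, 224), (4, 224), (0, 225), (1, 225), (2, 225), (3, 225),
     (4, 225), (5, 225), (0, 0), (0, 227), (0, 228), (1, 228), (0, 229), (1, 229), (2, 229),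
     (0, 230), (1, 230), (2, 230), (3, 230), (0, 231), (1, 231), (2, 231), (3, 231), (4, 231),
     (0, 0), (0, 0), (0, 0), (0, 0), (0, 0), (14, 224), (0, 233), (1, 233), (2, 233), (3, 233),
     (4, 233), (0, 0), (0, 0), (0, 0), (0, 0), (0, 0), (0, 0), (0, 235), (1, 235), (2, 235),
     (3, 235), (0, 236), (1, 236), (2, 236), (0, 237), (1, 237), (0, 238), (1, 239), (2, 238),
     (2, 239), (3, 237), (3, 238), (3, 239), (4, 236), (4, 237), (4, 238), (4, 239), (5, 235),
     (5, 236), (5, 237), (5, 238), (5, 239), (0, 0), (0, 0), (0, 0), (0, 0), (0, 0), (0, 0),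
     (15, 225), (7, 235), (7, 236), (7, 237), (7, 238), (7, 239), (0, 0), (0, 0), (0, 0), (0, 0),
     (0, 0), (9, 236), (9, 237), (9, 238), (9, 239), (10, 237), (10, 238), (10, 239), (11, 238),
     (11, 239), (12, 239), (14, 233), (0, 0), (14, 235), (14, 236), (14, 237), (14, 238),
     (14, 239), (15, 235), (15, 236), (15, 237), (15, 238), (15, 239), (16, 236), (16, 237),
     (16, 238), (16, 239), (17, 237), (17, 238), (17, 239), (18, 238), (18, 239), (19, 239),
     (0, 0), (0, 0), (0, 0), (0, 0), (0, 0), (0, 0), (0, 0), (0, 0), (0, 0), (0, 0), (26, 237),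
     (26, 238), (26, 239), (27, 238), (27, 239), (28, 239), (30, 238), (30, 239), (31, 239),
     (33, 239), (36, 237), (36, 238), (36, 239), (37, 238), (37, 239), (38, 239), (40, 238),
     (40, 239), (41, 239), (43, 239), (46, 238), (46, 239), (47, 239), (49, 239), (52, 239),
     (0, 0), (0, 0), (0, 0), (0, 0), (0, 0), (66, 239), (71, 239), (78, 238), (78, 239), (79, 239),
     (81, 239), (84, 239), (88, 239), (0, 0), (99, 239), (0, 0), (110, 239), (114, 239),
     (117, 239), (119, 239), (120, 238)],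
    [(1, 119), (2, 118), (1, 121), (1, 124), (1, 128), (0, 0), (1, 139), (1, 145), (0, 151),
     (1, 154), (1, 157), (1, 159), (2, 159), (0, 0), (1, 167), (0, 173), (1, 176), (1, 179),
     (1, 181), (2, 181), (0, 0), (0, 187), (0, 190), (0, 192), (0, 193), (1, 193), (1, 195),
     (1, 197), (2, 197), (0, 0), (1, 200), (2, 200), (0, 0), (3, 200), (0, 0), (0, 0), (0, 206),
     (0, 208), (0, 209), (1, 209), (0, 211), (0, 212), (1, 212), (0, 213), (1, 213), (2, 213),
     (1, 214), (2, 214), (0, 0), (3, 214), (0, 0), (0, 0), (4, 214), (0, 0), (0, 0), (0, 0),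
     (0, 220), (0, 221), (1, 221), (0, 222), (1, 222), (2, 222), (0, 223), (1, 223), (2, 223),
     (3, 223), (6, 214), (0, 0), (0, 0), (0, 0), (0, 0), (0, 225), (1, 225), (2, 225), (3, 225),
     (4, 225), (0, 0), (6, 225), (0, 227), (0, 228), (1, 228), (0, 229), (1, 229), (2, 229),
     (0, 230), (1, 230), (2, 230), (3, 230), (14, 214), (0, 0), (0, 0), (0, 0), (0, 0), (0, 232),
     (1, 232), (2, 232), (3, 232), (4, 232), (0, 0), (0, 233), (1, 233), (2, 233), (3, 233),
     (4, 233), (0, 0), (0, 0), (1, 234), (2, 234), (3, 234), (4, 234), (0, 235), (1, 235),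
     (2, 235), (3, 235), (0, 236), (1, 236), (2, 236), (0, 237), (1, 237), (0, 238), (0, 0),
     (2, 238), (0, 0), (3, 237), (3, 238), (0, 0), (4, 236), (4, 237), (4, 238), (0, 0), (0, 0),
     (0, 0), (0, 0), (0, 0), (0, 0), (6, 234), (6, 235), (6, 236), (6, 237), (6, 238), (0, 0),
     (7, 234), (7, 235), (7, 236), (7, 237), (7, 238), (0, 0), (8, 235), (8, 236), (8, 237),
     (8, 238), (25, 225), (9, 236), (9, 237), (9, 238), (0, 0), (10, 237), (10, 238), (0, 0),
     (11, 238), (0, 0), (0, 0), (14, 233), (14, 234), (14, 235), (14, 236), (14, 237), (14, 238),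
     (0, 0), (15, 235), (15, 236), (15, 237), (15, 238), (25, 233), (16, 236), (16, 237),
     (16, 238), (0, 0), (17, 237), (17, 238), (0, 0), (18, 238), (0, 0), (0, 0), (21, 236),
     (21, 237), (21, 238), (25, 235), (22, 237), (22, 238), (25, 236), (23, 238), (25, 237),
     (25, 238), (26, 237), (26, 238), (0, 0), (27, 238), (0, 0), (0, 0), (30, 238), (0, 0), (0, 0),
     (0, 0), (36, 237), (36, 238), (39, 236), (37, 238), (39, 237), (39, 238), (40, 238),
     (42, 237), (42, 238), (44, 238), (46, 238), (0, 0), (0, 0), (0, 0), (0, 0), (56, 238),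
     (58, 237), (58, 238), (60, 238), (63, 238), (0, 0), (72, 238), (78, 238), (80, 237),
     (80, 238), (82, 238), (85, 238), (0, 0), (94, 238), (100, 238), (106, 238), (111, 238),
     (115, 238), (118, 238), (121, 237), (0, 0)],
    [(2, 117), (0, 120), (0, 122), (0, 125), (0, 129), (0, 0), (0, 140), (0, 146), (0, 151),
     (0, 155), (0, 158), (0, 160), (0, 0), (2, 160), (0, 168), (0, 173), (0, 177), (0, 180),
     (0, 182), (0, 0), (2, 182), (0, 187), (0, 190), (0, 192), (0, 193), (1, 193), (0, 196),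
     (0, 198), (0, 0), (2, 198), (0, 201), (0, 0), (2, 201), (0, 0), (3, 201), (0, 0), (0, 206),
     (0, 208), (0, 209), (1, 209), (0, 211), (0, 212), (1, 212), (0, 213), (1, 213), (2, 213),
     (0, 215), (0, 0), (2, 215), (0, 0), (3, 215), (0, 0), (0, 0), (4, 215), (0, 0), (0, 0),
     (0, 220), (0, 221), (1, 221), (0, 222), (1, 222), (2, 222), (0, 223), (1, 223), (2, 223),
     (3, 223), (0, 0), (6, 215), (0, 0), (0, 0), (0, 0), (0, 225), (1, 225), (2, 225), (3, 225),
     (4, 225), (0, 0), (6, 225), (0, 227), (0, 228), (1, 228), (0, 229), (1, 229), (2, 229),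
     (0, 230), (1, 230), (2, 230), (3, 230), (0, 0), (14, 215), (0, 0), (0, 0), (0, 0), (0, 232),
     (1, 232), (2, 232), (3, 232), (4, 232), (0, 0), (0, 233), (1, 233), (2, 233), (3, 233),
     (4, 233), (0, 0), (0, 234), (0, 0), (2, 234), (3, 234), (4, 234), (0, 235), (1, 235),
     (2, 235), (3, 235), (0, 236), (1, 236), (2, 236), (0, 237), (1, 237), (0, 0), (1, 239),
     (0, 0), (2, 239), (3, 237), (0, 0), (3, 239), (4, 236), (4, 237), (0, 0), (4, 239), (0, 0),
     (0, 0), (0, 0), (0, 0), (0, 0), (6, 234), (6, 235), (6, 236), (6, 237), (0, 0), (6, 239),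
     (7, 234), (7, 235), (7, 236), (7, 237), (0, 0), (7, 239), (8, 235), (8, 236), (8, 237),
     (24, 225), (8, 239), (9, 236), (9, 237), (0, 0), (9, 239), (10, 237), (0, 0), (10, 239),
     (0, 0), (11, 239), (0, 0), (14, 233), (14, 234), (14, 235), (14, 236), (14, 237), (0, 0),
     (14, 239), (15, 235), (15, 236), (15, 237), (24, 233), (15, 239), (16, 236), (16, 237),
     (0, 0), (16, 239), (17, 237), (0, 0), (17, 239), (0, 0), (18, 239), (0, 0), (21, 236),
     (21, 237), (24, 235), (21, 239), (22, 237), (24, 236), (22, 239), (24, 237), (23, 239),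
     (24, 239), (26, 237), (0, 0), (26, 239), (0, 0), (27, 239), (0, 0), (0, 0), (30, 239), (0, 0),
     (0, 0), (36, 237), (38, 236), (36, 239), (38, 237), (37, 239), (38, 239), (41, 237),
     (40, 239), (41, 239), (43, 239), (0, 0), (46, 239), (0, 0), (0, 0), (0, 0), (57, 237),
     (56, 239), (57, 239), (59, 239), (62, 239), (0, 0), (71, 239), (79, 237), (78, 239),
     (79, 239), (81, 239), (84, 239), (0, 0), (93, 239), (99, 239), (105, 239), (110, 239),
     (114, 239), (117, 239), (0, 0), (122, 237)],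
    [(1, 119), (0, 120), (0, 122), (0, 125), (0, 129), (0, 0), (0, 140), (0, 146), (0, 151),
     (0, 155), (0, 158), (0, 0), (0, 161), (1, 161), (0, 168), (0, 173), (0, 177), (0, 180),
     (0, 0), (0, 183), (1, 183), (0, 187), (0, 190), (0, 192), (0, 193), (1, 193), (0, 196),
     (0, 0), (0, 199), (1, 199), (0, 0), (0, 202), (1, 202), (0, 0), (0, 0), (3, 202), (0, 206),
     (0, 208), (0, 209), (1, 209), (0, 211), (0, 212), (1, 212), (0, 213), (1, 213), (2, 213),
     (0, 0), (0, 216), (1, 216), (0, 0), (0, 0), (3, 216), (0, 0), (0, 0), (4, 216), (0, 0),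
     (0, 220), (0, 221), (1, 221), (0, 222), (1, 222), (2, 222), (0, 223), (1, 223), (2, 223),
     (3, 223), (0, 0), (0, 0), (6, 216), (0, 0), (0, 0), (0, 225), (1, 225), (2, 225), (3, 225),
     (4, 225), (0, 0), (6, 225), (0, 227), (0, 228), (1, 228), (0, 229), (1, 229), (2, 229),
     (0, 230), (1, 230), (2, 230), (3, 230), (0, 0), (0, 0), (14, 216), (0, 0), (0, 0), (0, 232),
     (1, 232), (2, 232), (3, 232), (4, 232), (0, 0), (0, 233), (1, 233), (2, 233), (3, 233),
     (4, 233), (0, 0), (0, 234), (1, 234), (0, 0), (3, 234), (4, 234), (0, 235), (1, 235),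
     (2, 235), (3, 235), (0, 236), (1, 236), (2, 236), (0, 0), (0, 0), (0, 238), (1, 239),
     (2, 238), (2, 239), (0, 0), (3, 238), (3, 239), (4, 236), (0, 0), (4, 238), (4, 239), (0, 0),
     (0, 0), (0, 0), (0, 0), (0, 0), (6, 234), (6, 235), (6, 236), (0, 0), (6, 238), (6, 239),
     (7, 234), (7, 235), (7, 236), (0, 0), (7, 238), (7, 239), (8, 235), (8, 236), (23, 225),
     (8, 238), (8, 239), (9, 236), (0, 0), (9, 238), (9, 239), (0, 0), (10, 238), (10, 239),
     (0, 0), (0, 0), (12, 239), (14, 233), (14, 234), (14, 235), (14, 236), (0, 0), (14, 238),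
     (14, 239), (15, 235), (15, 236), (23, 233), (15, 238), (15, 239), (16, 236), (0, 0),
     (16, 238), (16, 239), (0, 0), (17, 238), (17, 239), (0, 0), (0, 0), (19, 239), (21, 236),
     (23, 235), (21, 238), (21, 239), (23, 236), (22, 238), (22, 239), (23, 238), (23, 239),
     (24, 239), (0, 0), (26, 238), (26, 239), (0, 0), (0, 0), (28, 239), (0, 0), (0, 0), (31, 239),
     (0, 0), (37, 236), (36, 238), (36, 239), (37, 238), (37, 239), (38, 239), (40, 238),
     (40, 239), (41, 239), (43, 239), (0, 0), (0, 0), (47, 239), (0, 0), (0, 0), (56, 238),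
     (56, 239), (57, 239), (59, 239), (62, 239), (0, 0), (71, 239), (78, 238), (78, 239),
     (79, 239), (81, 239), (84, 239), (0, 0), (93, 239), (99, 239), (105, 239), (110, 239),
     (114, 239), (0, 0), (119, 239), (120, 238)],
    [(1, 119), (0, 120), (0, 122), (0, 125), (0, 129), (0, 0), (0, 140), (0, 146), (0, 151),
     (0, 155), (0, 0), (0, 160), (0, 161), (1, 161), (0, 168), (0, 173), (0, 177), (0, 0),
     (0, 182), (0, 183), (1, 183), (0, 187), (0, 190), (0, 192), (0, 193), (1, 193), (0, 0),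
     (0, 198), (0, 199), (1, 199), (0, 0), (0, 0), (0, 0), (0, 203), (1, 203), (2, 203), (0, 206),
     (0, 208), (0, 209), (1, 209), (0, 211), (0, 212), (1, 212), (0, 213), (1, 213), (2, 213),
     (0, 0), (0, 0), (0, 0), (0, 217), (1, 217), (2, 217), (0, 0), (0, 0), (0, 0), (4, 217),
     (0, 220), (0, 221), (1, 221), (0, 222), (1, 222), (2, 222), (0, 223), (1, 223), (2, 223),
     (3, 223), (0, 0), (0, 0), (0, 0), (6, 217), (0, 0), (0, 225), (1, 225), (2, 225), (3, 225),
     (4, 225), (0, 0), (6, 225), (0, 227), (0, 228), (1, 228), (0, 229), (1, 229), (2, 229),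
     (0, 230), (1, 230), (2, 230), (3, 230), (0, 0), (0, 0), (0, 0), (14, 217), (0, 0), (0, 232),
     (1, 232), (2, 232), (3, 232), (4, 232), (0, 0), (0, 233), (1, 233), (2, 233), (3, 233),
     (4, 233), (0, 0), (0, 234), (1, 234), (2, 234), (0, 0), (4, 234), (0, 235), (1, 235),
     (2, 235), (3, 235), (0, 0), (0, 0), (0, 0), (0, 237), (1, 237), (0, 238), (1, 239), (2, 238),
     (2, 239), (3, 237), (3, 238), (3, 239), (0, 0), (4, 237), (4, 238), (4, 239), (0, 0), (0, 0),
     (0, 0), (0, 0), (0, 0), (6, 234), (6, 235), (0, 0), (6, 237), (6, 238), (6, 239), (7, 234),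
     (7, 235), (0, 0), (7, 237), (7, 238), (7, 239), (8, 235), (22, 225), (8, 237), (8, 238),
     (8, 239), (0, 0), (9, 237), (9, 238), (9, 239), (0, 0), (0, 0), (0, 0), (11, 238), (11, 239),
     (12, 239), (14, 233), (14, 234), (14, 235), (0, 0), (14, 237), (14, 238), (14, 239),
     (15, 235), (22, 233), (15, 237), (15, 238), (15, 239), (0, 0), (16, 237), (16, 238),
     (16, 239), (0, 0), (0, 0), (0, 0), (18, 238), (18, 239), (19, 239), (22, 235), (21, 237),
     (21, 238), (21, 239), (22, 237), (22, 238), (22, 239), (23, 238), (23, 239), (24, 239),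
     (0, 0), (0, 0), (0, 0), (27, 238), (27, 239), (28, 239), (0, 0), (0, 0), (0, 0), (33, 239),
     (36, 237), (36, 238), (36, 239), (37, 238), (37, 239), (38, 239), (40, 238), (40, 239),
     (41, 239), (43, 239), (0, 0), (0, 0), (0, 0), (49, 239), (0, 0), (56, 238), (56, 239),
     (57, 239), (59, 239), (62, 239), (0, 0), (71, 239), (78, 238), (78, 239), (79, 239),
     (81, 239), (84, 239), (0, 0), (93, 239), (99, 239), (105, 239), (110, 239), (0, 0),
     (117, 239), (119, 239), (120, 238)],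
    [(1, 119), (0, 120), (0, 122), (0, 125), (0, 129), (0, 0), (0, 140), (0, 146), (0, 151),
     (0, 0), (0, 158), (0, 160), (0, 161), (1, 161), (0, 168), (0, 173), (0, 0), (0, 180),
     (0, 182), (0, 183), (1, 183), (0, 187), (0, 190), (0, 192), (0, 193), (1, 193), (0, 0),
     (0, 0), (0, 0), (0, 0), (0, 201), (0, 202), (1, 202), (0, 203), (1, 203), (2, 203), (0, 206),
     (0, 208), (0, 209), (1, 209), (0, 211), (0, 212), (1, 212), (0, 213), (1, 213), (2, 213),
     (0, 0), (0, 0), (0, 0), (0, 0), (0, 0), (0, 0), (0, 218), (1, 218), (2, 218), (3, 218),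
     (0, 220), (0, 221), (1, 221), (0, 222), (1, 222), (2, 222), (0, 223), (1, 223), (2, 223),
     (3, 223), (0, 0), (0, 0), (0, 0), (0, 0), (6, 218), (0, 225), (1, 225), (2, 225), (3, 225),
     (4, 225), (0, 0), (6, 225), (0, 227), (0, 228), (1, 228), (0, 229), (1, 229), (2, 229),
     (0, 230), (1, 230), (2, 230), (3, 230), (0, 0), (0, 0), (0, 0), (0, 0), (14, 218), (0, 232),
     (1, 232), (2, 232), (3, 232), (4, 232), (0, 0), (0, 233), (1, 233), (2, 233), (3, 233),
     (4, 233), (0, 0), (0, 234), (1, 234), (2, 234), (3, 234), (0, 0), (0, 0), (0, 0), (0, 0),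
     (0, 0), (0, 236), (1, 236), (2, 236), (0, 237), (1, 237), (0, 238), (1, 239), (2, 238),
     (2, 239), (3, 237), (3, 238), (3, 239), (4, 236), (4, 237), (4, 238), (4, 239), (0, 0),
     (0, 0), (0, 0), (0, 0), (0, 0), (6, 234), (0, 0), (6, 236), (6, 237), (6, 238), (6, 239),
     (7, 234), (0, 0), (7, 236), (7, 237), (7, 238), (7, 239), (21, 225), (8, 236), (8, 237),
     (8, 238), (8, 239), (0, 0), (0, 0), (0, 0), (0, 0), (10, 237), (10, 238), (10, 239),
     (11, 238), (11, 239), (12, 239), (14, 233), (14, 234), (0, 0), (14, 236), (14, 237),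
     (14, 238), (14, 239), (21, 233), (15, 236), (15, 237), (15, 238), (15, 239), (0, 0), (0, 0),
     (0, 0), (0, 0), (17, 237), (17, 238), (17, 239), (18, 238), (18, 239), (19, 239), (21, 236),
     (21, 237), (21, 238), (21, 239), (22, 237), (22, 238), (22, 239), (23, 238), (23, 239),
     (24, 239), (0, 0), (0, 0), (0, 0), (0, 0), (0, 0), (0, 0), (30, 238), (30, 239), (31, 239),
     (33, 239), (36, 237), (36, 238), (36, 239), (37, 238), (37, 239), (38, 239), (40, 238),
     (40, 239), (41, 239), (43, 239), (0, 0), (0, 0), (0, 0), (0, 0), (52, 239), (56, 238),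
     (56, 239), (57, 239), (59, 239), (62, 239), (0, 0), (71, 239), (78, 238), (78, 239),
     (79, 239), (81, 239), (84, 239), (0, 0), (93, 239), (99, 239), (105, 239), (0, 0), (114, 239),
     (117, 239), (119, 239), (120, 238)]
  ]

set_option maxRecDepth 1000000 in
theorem rowsD_E8_100 : rowsDB chevE8 certE8_100 100 = true := by decide +kernel

set_option maxHeartbeats 0 in
/-- certificates for the rows `110..119` -/
def certE8_110 : List (List (ℕ × ℕ)) :=
  [
    [(1, 119), (2, 118), (1, 121), (1, 124), (0, 0), (1, 133), (1, 139), (1, 145), (1, 150),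
     (0, 155), (1, 157), (1, 159), (2, 159), (0, 0), (1, 167), (1, 172), (0, 177), (1, 179),
     (1, 181), (2, 181), (0, 0), (0, 187), (1, 189), (1, 191), (2, 191), (0, 0), (0, 196),
     (0, 198), (0, 199), (1, 199), (1, 200), (2, 200), (0, 0), (3, 200), (0, 0), (0, 0), (0, 206),
     (0, 208), (0, 209), (1, 209), (1, 210), (2, 210), (0, 0), (3, 210), (0, 0), (0, 0), (0, 215),
     (0, 216), (1, 216), (0, 217), (1, 217), (2, 217), (5, 210), (0, 0), (0, 0), (0, 0), (0, 220),
     (0, 221), (1, 221), (0, 222), (1, 222), (2, 222), (6, 210), (0, 0), (0, 0), (0, 0), (0, 224),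
     (1, 224), (2, 224), (3, 224), (0, 0), (0, 225), (1, 225), (2, 225), (3, 225), (0, 0),
     (5, 225), (6, 225), (0, 227), (0, 228), (1, 228), (0, 229), (1, 229), (2, 229), (14, 210),
     (0, 0), (0, 0), (0, 0), (0, 231), (1, 231), (2, 231), (3, 231), (0, 0), (0, 232), (1, 232),
     (2, 232), (3, 232), (0, 0), (5, 232), (0, 233), (1, 233), (2, 233), (3, 233), (0, 0),
     (5, 233), (0, 234), (1, 234), (2, 234), (3, 234), (0, 0), (0, 0), (1, 235), (2, 235),
     (3, 235), (0, 236), (1, 236), (2, 236), (0, 237), (1, 237), (0, 238), (0, 0), (2, 238),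
     (0, 0), (3, 237), (3, 238), (0, 0), (0, 0), (0, 0), (0, 0), (0, 0), (5, 235), (5, 236),
     (5, 237), (5, 238), (0, 0), (6, 234), (6, 235), (6, 236), (6, 237), (6, 238), (0, 0),
     (7, 234), (7, 235), (7, 236), (7, 237), (7, 238), (0, 0), (8, 235), (8, 236), (8, 237),
     (8, 238), (0, 0), (9, 236), (9, 237), (9, 238), (29, 225), (10, 237), (10, 238), (0, 0),
     (11, 238), (0, 0), (0, 0), (14, 233), (14, 234), (14, 235), (14, 236), (14, 237), (14, 238),
     (0, 0), (15, 235), (15, 236), (15, 237), (15, 238), (0, 0), (16, 236), (16, 237), (16, 238),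
     (29, 233), (17, 237), (17, 238), (0, 0), (18, 238), (0, 0), (0, 0), (21, 236), (21, 237),
     (21, 238), (29, 234), (22, 237), (22, 238), (0, 0), (23, 238), (0, 0), (0, 0), (26, 237),
     (26, 238), (29, 236), (27, 238), (29, 237), (29, 238), (30, 238), (0, 0), (0, 0), (0, 0),
     (36, 237), (36, 238), (39, 236), (37, 238), (39, 237), (39, 238), (40, 238), (0, 0), (0, 0),
     (0, 0), (46, 238), (48, 237), (48, 238), (50, 238), (0, 0), (56, 238), (58, 237), (58, 238),
     (60, 238), (0, 0), (67, 238), (72, 238), (78, 238), (80, 237), (80, 238), (82, 238), (0, 0),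
     (89, 238), (94, 238), (100, 238), (106, 238), (111, 238), (115, 238), (118, 238), (121, 237),
     (0, 0)],
    [(2, 117), (0, 120), (0, 122), (0, 125), (0, 0), (0, 134), (0, 140), (0, 146), (0, 151),
     (0, 155), (0, 158), (0, 160), (0, 0), (2, 160), (0, 168), (0, 173), (0, 177), (0, 180),
     (0, 182), (0, 0), (2, 182), (0, 187), (0, 190), (0, 192), (0, 0), (2, 192), (0, 196),
     (0, 198), (0, 199), (1, 199), (0, 201), (0, 0), (2, 201), (0, 0), (3, 201), (0, 0), (0, 206),
     (0, 208), (0, 209), (1, 209), (0, 211), (0, 0), (2, 211), (0, 0), (3, 211), (0, 0), (0, 215),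
     (0, 216), (1, 216), (0, 217), (1, 217), (2, 217), (0, 0), (5, 211), (0, 0), (0, 0), (0, 220),
     (0, 221), (1, 221), (0, 222), (1, 222), (2, 222), (0, 0), (6, 211), (0, 0), (0, 0), (0, 224),
     (1, 224), (2, 224), (3, 224), (0, 0), (0, 225), (1, 225), (2, 225), (3, 225), (0, 0),
     (5, 225), (6, 225), (0, 227), (0, 228), (1, 228), (0, 229), (1, 229), (2, 229), (0, 0),
     (14, 211), (0, 0), (0, 0), (0, 231), (1, 231), (2, 231), (3, 231), (0, 0), (0, 232), (1, 232),
     (2, 232), (3, 232), (0, 0), (5, 232), (0, 233), (1, 233), (2, 233), (3, 233), (0, 0),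
     (5, 233), (0, 234), (1, 234), (2, 234), (3, 234), (0, 0), (0, 235), (0, 0), (2, 235),
     (3, 235), (0, 236), (1, 236), (2, 236), (0, 237), (1, 237), (0, 0), (1, 239), (0, 0),
     (2, 239), (3, 237), (0, 0), (3, 239), (0, 0), (0, 0), (0, 0), (0, 0), (5, 235), (5, 236),
     (5, 237), (0, 0), (5, 239), (6, 234), (6, 235), (6, 236), (6, 237), (0, 0), (6, 239),
     (7, 234), (7, 235), (7, 236), (7, 237), (0, 0), (7, 239), (8, 235), (8, 236), (8, 237),
     (0, 0), (8, 239), (9, 236), (9, 237), (28, 225), (9, 239), (10, 237), (0, 0), (10, 239),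
     (0, 0), (11, 239), (0, 0), (14, 233), (14, 234), (14, 235), (14, 236), (14, 237), (0, 0),
     (14, 239), (15, 235), (15, 236), (15, 237), (0, 0), (15, 239), (16, 236), (16, 237),
     (28, 233), (16, 239), (17, 237), (0, 0), (17, 239), (0, 0), (18, 239), (0, 0), (21, 236),
     (21, 237), (28, 234), (21, 239), (22, 237), (0, 0), (22, 239), (0, 0), (23, 239), (0, 0),
     (26, 237), (28, 236), (26, 239), (28, 237), (27, 239), (28, 239), (0, 0), (30, 239), (0, 0),
     (0, 0), (36, 237), (38, 236), (36, 239), (38, 237), (37, 239), (38, 239), (0, 0), (40, 239),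
     (0, 0), (0, 0), (47, 237), (46, 239), (47, 239), (49, 239), (0, 0), (57, 237), (56, 239),
     (57, 239), (59, 239), (0, 0), (66, 239), (71, 239), (79, 237), (78, 239), (79, 239),
     (81, 239), (0, 0), (88, 239), (93, 239), (99, 239), (105, 239), (110, 239), (114, 239),
     (117, 239), (0, 0), (122, 237)],
    [(1, 119), (0, 120), (0, 122), (0, 125), (0, 0), (0, 134), (0, 140), (0, 146), (0, 151),
     (0, 155), (0, 158), (0, 0), (0, 161), (1, 161), (0, 168), (0, 173), (0, 177), (0, 180),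
     (0, 0), (0, 183), (1, 183), (0, 187), (0, 190), (0, 0), (0, 193), (1, 193), (0, 196),
     (0, 198), (0, 199), (1, 199), (0, 0), (0, 202), (1, 202), (0, 0), (0, 0), (3, 202), (0, 206),
     (0, 208), (0, 209), (1, 209), (0, 0), (0, 212), (1, 212), (0, 0), (0, 0), (3, 212), (0, 215),
     (0, 216), (1, 216), (0, 217), (1, 217), (2, 217), (0, 0), (0, 0), (5, 212), (0, 0), (0, 220),
     (0, 221), (1, 221), (0, 222), (1, 222), (2, 222), (0, 0), (0, 0), (6, 212), (0, 0), (0, 224),
     (1, 224), (2, 224), (3, 224), (0, 0), (0, 225), (1, 225), (2, 225), (3, 225), (0, 0),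
     (5, 225), (6, 225), (0, 227), (0, 228), (1, 228), (0, 229), (1, 229), (2, 229), (0, 0),
     (0, 0), (14, 212), (0, 0), (0, 231), (1, 231), (2, 231), (3, 231), (0, 0), (0, 232), (1, 232),
     (2, 232), (3, 232), (0, 0), (5, 232), (0, 233), (1, 233), (2, 233), (3, 233), (0, 0),
     (5, 233), (0, 234), (1, 234), (2, 234), (3, 234), (0, 0), (0, 235), (1, 235), (0, 0),
     (3, 235), (0, 236), (1, 236), (2, 236), (0, 0), (0, 0), (0, 238), (1, 239), (2, 238),
     (2, 239), (0, 0), (3, 238), (3, 239), (0, 0), (0, 0), (0, 0), (0, 0), (5, 235), (5, 236),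
     (0, 0), (5, 238), (5, 239), (6, 234), (6, 235), (6, 236), (0, 0), (6, 238), (6, 239),
     (7, 234), (7, 235), (7, 236), (0, 0), (7, 238), (7, 239), (8, 235), (8, 236), (0, 0),
     (8, 238), (8, 239), (9, 236), (27, 225), (9, 238), (9, 239), (0, 0), (10, 238), (10, 239),
     (0, 0), (0, 0), (12, 239), (14, 233), (14, 234), (14, 235), (14, 236), (0, 0), (14, 238),
     (14, 239), (15, 235), (15, 236), (0, 0), (15, 238), (15, 239), (16, 236), (27, 233),
     (16, 238), (16, 239), (0, 0), (17, 238), (17, 239), (0, 0), (0, 0), (19, 239), (21, 236),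
     (27, 234), (21, 238), (21, 239), (0, 0), (22, 238), (22, 239), (0, 0), (0, 0), (24, 239),
     (27, 236), (26, 238), (26, 239), (27, 238), (27, 239), (28, 239), (0, 0), (0, 0), (31, 239),
     (0, 0), (37, 236), (36, 238), (36, 239), (37, 238), (37, 239), (38, 239), (0, 0), (0, 0),
     (41, 239), (0, 0), (46, 238), (46, 239), (47, 239), (49, 239), (0, 0), (56, 238), (56, 239),
     (57, 239), (59, 239), (0, 0), (66, 239), (71, 239), (78, 238), (78, 239), (79, 239),
     (81, 239), (0, 0), (88, 239), (93, 239), (99, 239), (105, 239), (110, 239), (114, 239),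
     (0, 0), (119, 239), (120, 238)],
    [(1, 119), (0, 120), (0, 122), (0, 125), (0, 0), (0, 134), (0, 140), (0, 146), (0, 151),
     (0, 155), (0, 0), (0, 160), (0, 161), (1, 161), (0, 168), (0, 173), (0, 177), (0, 0),
     (0, 182), (0, 183), (1, 183), (0, 187), (0, 0), (0, 192), (0, 193), (1, 193), (0, 196),
     (0, 198), (0, 199), (1, 199), (0, 0), (0, 0), (0, 0), (0, 203), (1, 203), (2, 203), (0, 206),
     (0, 208), (0, 209), (1, 209), (0, 0), (0, 0), (0, 0), (0, 213), (1, 213), (2, 213), (0, 215),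
     (0, 216), (1, 216), (0, 217), (1, 217), (2, 217), (0, 0), (0, 0), (0, 0), (5, 213), (0, 220),
     (0, 221), (1, 221), (0, 222), (1, 222), (2, 222), (0, 0), (0, 0), (0, 0), (6, 213), (0, 224),
     (1, 224), (2, 224), (3, 224), (0, 0), (0, 225), (1, 225), (2, 225), (3, 225), (0, 0),
     (5, 225), (6, 225), (0, 227), (0, 228), (1, 228), (0, 229), (1, 229), (2, 229), (0, 0),
     (0, 0), (0, 0), (14, 213), (0, 231), (1, 231), (2, 231), (3, 231), (0, 0), (0, 232), (1, 232),
     (2, 232), (3, 232), (0, 0), (5, 232), (0, 233), (1, 233), (2, 233), (3, 233), (0, 0),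
     (5, 233), (0, 234), (1, 234), (2, 234), (3, 234), (0, 0), (0, 235), (1, 235), (2, 235),
     (0, 0), (0, 0), (0, 0), (0, 0), (0, 237), (1, 237), (0, 238), (1, 239), (2, 238), (2, 239),
     (3, 237), (3, 238), (3, 239), (0, 0), (0, 0), (0, 0), (0, 0), (5, 235), (0, 0), (5, 237),
     (5, 238), (5, 239), (6, 234), (6, 235), (0, 0), (6, 237), (6, 238), (6, 239), (7, 234),
     (7, 235), (0, 0), (7, 237), (7, 238), (7, 239), (8, 235), (0, 0), (8, 237), (8, 238),
     (8, 239), (26, 225), (9, 237), (9, 238), (9, 239), (0, 0), (0, 0), (0, 0), (11, 238),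
     (11, 239), (12, 239), (14, 233), (14, 234), (14, 235), (0, 0), (14, 237), (14, 238),
     (14, 239), (15, 235), (0, 0), (15, 237), (15, 238), (15, 239), (26, 233), (16, 237),
     (16, 238), (16, 239), (0, 0), (0, 0), (0, 0), (18, 238), (18, 239), (19, 239), (26, 234),
     (21, 237), (21, 238), (21, 239), (0, 0), (0, 0), (0, 0), (23, 238), (23, 239), (24, 239),
     (26, 237), (26, 238), (26, 239), (27, 238), (27, 239), (28, 239), (0, 0), (0, 0), (0, 0),
     (33, 239), (36, 237), (36, 238), (36, 239), (37, 238), (37, 239), (38, 239), (0, 0), (0, 0),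
     (0, 0), (43, 239), (46, 238), (46, 239), (47, 239), (49, 239), (0, 0), (56, 238), (56, 239),
     (57, 239), (59, 239), (0, 0), (66, 239), (71, 239), (78, 238), (78, 239), (79, 239),
     (81, 239), (0, 0), (88, 239), (93, 239), (99, 239), (105, 239), (110, 239), (0, 0),
     (117, 239), (119, 239), (120, 238)],
    [(1, 119), (2, 118), (1, 121), (0, 0), (1, 128), (1, 133), (1, 139), (1, 145), (1, 150),
     (1, 154), (0, 158), (1, 159), (2, 159), (0, 0), (1, 167), (1, 172), (1, 176), (0, 180),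
     (1, 181), (2, 181), (0, 0), (1, 186), (0, 190), (1, 191), (2, 191), (0, 0), (0, 196),
     (1, 197), (2, 197), (0, 0), (0, 201), (0, 202), (1, 202), (4, 197), (0, 0), (0, 0), (0, 206),
     (1, 207), (2, 207), (0, 0), (0, 211), (0, 212), (1, 212), (4, 207), (0, 0), (0, 0), (0, 215),
     (0, 216), (1, 216), (5, 207), (0, 0), (0, 0), (0, 218), (1, 218), (2, 218), (0, 0), (0, 220),
     (0, 221), (1, 221), (6, 207), (0, 0), (0, 0), (0, 223), (1, 223), (2, 223), (0, 0), (0, 224),
     (1, 224), (2, 224), (0, 0), (4, 224), (0, 225), (1, 225), (2, 225), (0, 0), (4, 225),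
     (5, 225), (6, 225), (0, 227), (0, 228), (1, 228), (14, 207), (0, 0), (0, 0), (0, 230),
     (1, 230), (2, 230), (0, 0), (0, 231), (1, 231), (2, 231), (0, 0), (4, 231), (0, 232),
     (1, 232), (2, 232), (0, 0), (4, 232), (5, 232), (0, 233), (1, 233), (2, 233), (0, 0),
     (4, 233), (5, 233), (0, 234), (1, 234), (2, 234), (0, 0), (4, 234), (0, 235), (1, 235),
     (2, 235), (0, 0), (0, 0), (1, 236), (2, 236), (0, 237), (1, 237), (0, 238), (0, 0), (2, 238),
     (0, 0), (0, 0), (0, 0), (0, 0), (4, 236), (4, 237), (4, 238), (0, 0), (5, 235), (5, 236),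
     (5, 237), (5, 238), (0, 0), (6, 234), (6, 235), (6, 236), (6, 237), (6, 238), (0, 0),
     (7, 234), (7, 235), (7, 236), (7, 237), (7, 238), (0, 0), (8, 235), (8, 236), (8, 237),
     (8, 238), (0, 0), (9, 236), (9, 237), (9, 238), (0, 0), (10, 237), (10, 238), (32, 225),
     (11, 238), (0, 0), (0, 0), (14, 233), (14, 234), (14, 235), (14, 236), (14, 237), (14, 238),
     (0, 0), (15, 235), (15, 236), (15, 237), (15, 238), (0, 0), (16, 236), (16, 237), (16, 238),
     (0, 0), (17, 237), (17, 238), (32, 233), (18, 238), (0, 0), (0, 0), (21, 236), (21, 237),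
     (21, 238), (0, 0), (22, 237), (22, 238), (32, 234), (23, 238), (0, 0), (0, 0), (26, 237),
     (26, 238), (32, 235), (27, 238), (0, 0), (0, 0), (30, 238), (32, 237), (32, 238), (0, 0),
     (36, 237), (36, 238), (42, 235), (37, 238), (0, 0), (0, 0), (40, 238), (42, 237), (42, 238),
     (0, 0), (46, 238), (48, 237), (48, 238), (0, 0), (53, 238), (56, 238), (58, 237), (58, 238),
     (0, 0), (63, 238), (67, 238), (72, 238), (78, 238), (80, 237), (80, 238), (0, 0), (85, 238),
     (89, 238), (94, 238), (100, 238), (106, 238), (111, 238), (115, 238), (118, 238), (121, 237),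
     (0, 0)],
    [(2, 117), (0, 120), (0, 122), (0, 0), (0, 129), (0, 134), (0, 140), (0, 146), (0, 151),
     (0, 155), (0, 158), (0, 160), (0, 0), (2, 160), (0, 168), (0, 173), (0, 177), (0, 180),
     (0, 182), (0, 0), (2, 182), (0, 187), (0, 190), (0, 192), (0, 0), (2, 192), (0, 196),
     (0, 198), (0, 0), (2, 198), (0, 201), (0, 202), (1, 202), (0, 0), (4, 198), (0, 0), (0, 206),
     (0, 208), (0, 0), (2, 208), (0, 211), (0, 212), (1, 212), (0, 0), (4, 208), (0, 0), (0, 215),
     (0, 216), (1, 216), (0, 0), (5, 208), (0, 0), (0, 218), (1, 218), (2, 218), (0, 0), (0, 220),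
     (0, 221), (1, 221), (0, 0), (6, 208), (0, 0), (0, 223), (1, 223), (2, 223), (0, 0), (0, 224),
     (1, 224), (2, 224), (0, 0), (4, 224), (0, 225), (1, 225), (2, 225), (0, 0), (4, 225),
     (5, 225), (6, 225), (0, 227), (0, 228), (1, 228), (0, 0), (14, 208), (0, 0), (0, 230),
     (1, 230), (2, 230), (0, 0), (0, 231), (1, 231), (2, 231), (0, 0), (4, 231), (0, 232),
     (1, 232), (2, 232), (0, 0), (4, 232), (5, 232), (0, 233), (1, 233), (2, 233), (0, 0),
     (4, 233), (5, 233), (0, 234), (1, 234), (2, 234), (0, 0), (4, 234), (0, 235), (1, 235),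
     (2, 235), (0, 0), (0, 236), (0, 0), (2, 236), (0, 237), (1, 237), (0, 0), (1, 239), (0, 0),
     (2, 239), (0, 0), (0, 0), (0, 0), (4, 236), (4, 237), (0, 0), (4, 239), (5, 235), (5, 236),
     (5, 237), (0, 0), (5, 239), (6, 234), (6, 235), (6, 236), (6, 237), (0, 0), (6, 239),
     (7, 234), (7, 235), (7, 236), (7, 237), (0, 0), (7, 239), (8, 235), (8, 236), (8, 237),
     (0, 0), (8, 239), (9, 236), (9, 237), (0, 0), (9, 239), (10, 237), (31, 225), (10, 239),
     (0, 0), (11, 239), (0, 0), (14, 233), (14, 234), (14, 235), (14, 236), (14, 237), (0, 0),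
     (14, 239), (15, 235), (15, 236), (15, 237), (0, 0), (15, 239), (16, 236), (16, 237), (0, 0),
     (16, 239), (17, 237), (31, 233), (17, 239), (0, 0), (18, 239), (0, 0), (21, 236), (21, 237),
     (0, 0), (21, 239), (22, 237), (31, 234), (22, 239), (0, 0), (23, 239), (0, 0), (26, 237),
     (31, 235), (26, 239), (0, 0), (27, 239), (0, 0), (31, 237), (30, 239), (31, 239), (0, 0),
     (36, 237), (41, 235), (36, 239), (0, 0), (37, 239), (0, 0), (41, 237), (40, 239), (41, 239),
     (0, 0), (47, 237), (46, 239), (47, 239), (0, 0), (52, 239), (57, 237), (56, 239), (57, 239),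
     (0, 0), (62, 239), (66, 239), (71, 239), (79, 237), (78, 239), (79, 239), (0, 0), (84, 239),
     (88, 239), (93, 239), (99, 239), (105, 239), (110, 239), (114, 239), (117, 239), (0, 0),
     (122, 237)],
    [(1, 119), (0, 120), (0, 122), (0, 0), (0, 129), (0, 134), (0, 140), (0, 146), (0, 151),
     (0, 155), (0, 158), (0, 0), (0, 161), (1, 161), (0, 168), (0, 173), (0, 177), (0, 180),
     (0, 0), (0, 183), (1, 183), (0, 187), (0, 190), (0, 0), (0, 193), (1, 193), (0, 196), (0, 0),
     (0, 199), (1, 199), (0, 201), (0, 202), (1, 202), (0, 0), (0, 0), (4, 199), (0, 206), (0, 0),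
     (0, 209), (1, 209), (0, 211), (0, 212), (1, 212), (0, 0), (0, 0), (4, 209), (0, 215),
     (0, 216), (1, 216), (0, 0), (0, 0), (5, 209), (0, 218), (1, 218), (2, 218), (0, 0), (0, 220),
     (0, 221), (1, 221), (0, 0), (0, 0), (6, 209), (0, 223), (1, 223), (2, 223), (0, 0), (0, 224),
     (1, 224), (2, 224), (0, 0), (4, 224), (0, 225), (1, 225), (2, 225), (0, 0), (4, 225),
     (5, 225), (6, 225), (0, 227), (0, 228), (1, 228), (0, 0), (0, 0), (14, 209), (0, 230),
     (1, 230), (2, 230), (0, 0), (0, 231), (1, 231), (2, 231), (0, 0), (4, 231), (0, 232),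
     (1, 232), (2, 232), (0, 0), (4, 232), (5, 232), (0, 233), (1, 233), (2, 233), (0, 0),
     (4, 233), (5, 233), (0, 234), (1, 234), (2, 234), (0, 0), (4, 234), (0, 235), (1, 235),
     (2, 235), (0, 0), (0, 236), (1, 236), (0, 0), (0, 0), (0, 0), (0, 238), (1, 239), (2, 238),
     (2, 239), (0, 0), (0, 0), (0, 0), (4, 236), (0, 0), (4, 238), (4, 239), (5, 235), (5, 236),
     (0, 0), (5, 238), (5, 239), (6, 234), (6, 235), (6, 236), (0, 0), (6, 238), (6, 239),
     (7, 234), (7, 235), (7, 236), (0, 0), (7, 238), (7, 239), (8, 235), (8, 236), (0, 0),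
     (8, 238), (8, 239), (9, 236), (0, 0), (9, 238), (9, 239), (30, 225), (10, 238), (10, 239),
     (0, 0), (0, 0), (12, 239), (14, 233), (14, 234), (14, 235), (14, 236), (0, 0), (14, 238),
     (14, 239), (15, 235), (15, 236), (0, 0), (15, 238), (15, 239), (16, 236), (0, 0), (16, 238),
     (16, 239), (30, 233), (17, 238), (17, 239), (0, 0), (0, 0), (19, 239), (21, 236), (0, 0),
     (21, 238), (21, 239), (30, 234), (22, 238), (22, 239), (0, 0), (0, 0), (24, 239), (30, 235),
     (26, 238), (26, 239), (0, 0), (0, 0), (28, 239), (30, 238), (30, 239), (31, 239), (0, 0),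
     (40, 235), (36, 238), (36, 239), (0, 0), (0, 0), (38, 239), (40, 238), (40, 239), (41, 239),
     (0, 0), (46, 238), (46, 239), (47, 239), (0, 0), (52, 239), (56, 238), (56, 239), (57, 239),
     (0, 0), (62, 239), (66, 239), (71, 239), (78, 238), (78, 239), (79, 239), (0, 0), (84, 239),
     (88, 239), (93, 239), (99, 239), (105, 239), (110, 239), (114, 239), (0, 0), (119, 239),
     (120, 238)],
    [(1, 119), (3, 115), (0, 0), (1, 124), (1, 128), (1, 133), (1, 139), (1, 145), (1, 150),
     (1, 154), (1, 157), (0, 160), (3, 157), (0, 0), (1, 167), (1, 172), (1, 176), (1, 179),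
     (0, 182), (3, 179), (0, 0), (1, 186), (1, 189), (0, 192), (3, 189), (0, 0), (1, 195),
     (0, 198), (3, 195), (0, 0), (0, 201), (4, 195), (0, 0), (0, 203), (1, 203), (0, 0), (1, 205),
     (0, 208), (3, 205), (0, 0), (0, 211), (4, 205), (0, 0), (0, 213), (1, 213), (0, 0), (0, 215),
     (5, 205), (0, 0), (0, 217), (1, 217), (0, 0), (0, 218), (1, 218), (0, 0), (3, 218), (0, 220),
     (6, 205), (0, 0), (0, 222), (1, 222), (0, 0), (0, 223), (1, 223), (0, 0), (3, 223), (0, 224),
     (1, 224), (0, 0), (3, 224), (4, 224), (0, 225), (1, 225), (0, 0), (3, 225), (4, 225),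
     (5, 225), (6, 225), (0, 227), (14, 205), (0, 0), (0, 229), (1, 229), (0, 0), (0, 230),
     (1, 230), (0, 0), (3, 230), (0, 231), (1, 231), (0, 0), (3, 231), (4, 231), (0, 232),
     (1, 232), (0, 0), (3, 232), (4, 232), (5, 232), (0, 233), (1, 233), (0, 0), (3, 233),
     (4, 233), (5, 233), (0, 234), (1, 234), (0, 0), (3, 234), (4, 234), (0, 235), (1, 235),
     (0, 0), (3, 235), (0, 236), (1, 236), (0, 0), (0, 0), (1, 237), (0, 238), (0, 0), (0, 0),
     (0, 0), (3, 237), (3, 238), (0, 0), (4, 236), (4, 237), (4, 238), (0, 0), (5, 235), (5, 236),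
     (5, 237), (5, 238), (0, 0), (6, 234), (6, 235), (6, 236), (6, 237), (6, 238), (0, 0),
     (7, 234), (7, 235), (7, 236), (7, 237), (7, 238), (0, 0), (8, 235), (8, 236), (8, 237),
     (8, 238), (0, 0), (9, 236), (9, 237), (9, 238), (0, 0), (10, 237), (10, 238), (0, 0),
     (11, 238), (34, 225), (0, 0), (14, 233), (14, 234), (14, 235), (14, 236), (14, 237),
     (14, 238), (0, 0), (15, 235), (15, 236), (15, 237), (15, 238), (0, 0), (16, 236), (16, 237),
     (16, 238), (0, 0), (17, 237), (17, 238), (0, 0), (18, 238), (34, 233), (0, 0), (21, 236),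
     (21, 237), (21, 238), (0, 0), (22, 237), (22, 238), (0, 0), (23, 238), (34, 234), (0, 0),
     (26, 237), (26, 238), (0, 0), (27, 238), (34, 235), (0, 0), (30, 238), (34, 236), (0, 0),
     (34, 238), (36, 237), (36, 238), (0, 0), (37, 238), (44, 235), (0, 0), (40, 238), (44, 236),
     (0, 0), (44, 238), (46, 238), (50, 236), (0, 0), (50, 238), (53, 238), (56, 238), (60, 236),
     (0, 0), (60, 238), (63, 238), (67, 238), (72, 238), (78, 238), (82, 236), (0, 0), (82, 238),
     (85, 238), (89, 238), (94, 238), (100, 238), (106, 238), (111, 238), (115, 238), (118, 238),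
     (124, 236), (0, 0)],
    [(3, 114), (0, 120), (0, 0), (0, 125), (0, 129), (0, 134), (0, 140), (0, 146), (0, 151),
     (0, 155), (0, 158), (0, 160), (0, 0), (3, 158), (0, 168), (0, 173), (0, 177), (0, 180),
     (0, 182), (0, 0), (3, 180), (0, 187), (0, 190), (0, 192), (0, 0), (3, 190), (0, 196),
     (0, 198), (0, 0), (3, 196), (0, 201), (0, 0), (4, 196), (0, 203), (1, 203), (0, 0), (0, 206),
     (0, 208), (0, 0), (3, 206), (0, 211), (0, 0), (4, 206), (0, 213), (1, 213), (0, 0), (0, 215),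
     (0, 0), (5, 206), (0, 217), (1, 217), (0, 0), (0, 218), (1, 218), (0, 0), (3, 218), (0, 220),
     (0, 0), (6, 206), (0, 222), (1, 222), (0, 0), (0, 223), (1, 223), (0, 0), (3, 223), (0, 224),
     (1, 224), (0, 0), (3, 224), (4, 224), (0, 225), (1, 225), (0, 0), (3, 225), (4, 225),
     (5, 225), (6, 225), (0, 227), (0, 0), (14, 206), (0, 229), (1, 229), (0, 0), (0, 230),
     (1, 230), (0, 0), (3, 230), (0, 231), (1, 231), (0, 0), (3, 231), (4, 231), (0, 232),
     (1, 232), (0, 0), (3, 232), (4, 232), (5, 232), (0, 233), (1, 233), (0, 0), (3, 233),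
     (4, 233), (5, 233), (0, 234), (1, 234), (0, 0), (3, 234), (4, 234), (0, 235), (1, 235),
     (0, 0), (3, 235), (0, 236), (1, 236), (0, 0), (0, 237), (0, 0), (0, 0), (1, 239), (0, 0),
     (0, 0), (3, 237), (0, 0), (3, 239), (4, 236), (4, 237), (0, 0), (4, 239), (5, 235), (5, 236),
     (5, 237), (0, 0), (5, 239), (6, 234), (6, 235), (6, 236), (6, 237), (0, 0), (6, 239),
     (7, 234), (7, 235), (7, 236), (7, 237), (0, 0), (7, 239), (8, 235), (8, 236), (8, 237),
     (0, 0), (8, 239), (9, 236), (9, 237), (0, 0), (9, 239), (10, 237), (0, 0), (10, 239),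
     (33, 225), (11, 239), (0, 0), (14, 233), (14, 234), (14, 235), (14, 236), (14, 237), (0, 0),
     (14, 239), (15, 235), (15, 236), (15, 237), (0, 0), (15, 239), (16, 236), (16, 237), (0, 0),
     (16, 239), (17, 237), (0, 0), (17, 239), (33, 233), (18, 239), (0, 0), (21, 236), (21, 237),
     (0, 0), (21, 239), (22, 237), (0, 0), (22, 239), (33, 234), (23, 239), (0, 0), (26, 237),
     (0, 0), (26, 239), (33, 235), (27, 239), (0, 0), (33, 236), (30, 239), (0, 0), (33, 239),
     (36, 237), (0, 0), (36, 239), (43, 235), (37, 239), (0, 0), (43, 236), (40, 239), (0, 0),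
     (43, 239), (49, 236), (46, 239), (0, 0), (49, 239), (52, 239), (59, 236), (56, 239), (0, 0),
     (59, 239), (62, 239), (66, 239), (71, 239), (81, 236), (78, 239), (0, 0), (81, 239),
     (84, 239), (88, 239), (93, 239), (99, 239), (105, 239), (110, 239), (114, 239), (117, 239),
     (0, 0), (125, 236)],
    [(2, 117), (0, 0), (3, 116), (2, 123), (2, 127), (2, 132), (2, 138), (2, 144), (2, 149),
     (2, 153), (2, 156), (3, 156), (0, 161), (0, 0), (2, 166), (2, 171), (2, 175), (2, 178),
     (3, 178), (0, 183), (0, 0), (2, 185), (2, 188), (3, 188), (0, 193), (0, 0), (2, 194),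
     (3, 194), (0, 199), (0, 0), (4, 194), (0, 202), (0, 0), (0, 203), (0, 0), (2, 203), (2, 204),
     (3, 204), (0, 209), (0, 0), (4, 204), (0, 212), (0, 0), (0, 213), (0, 0), (2, 213), (5, 204),
     (0, 216), (0, 0), (0, 217), (0, 0), (2, 217), (0, 218), (0, 0), (2, 218), (3, 218), (6, 204),
     (0, 221), (0, 0), (0, 222), (0, 0), (2, 222), (0, 223), (0, 0), (2, 223), (3, 223), (0, 224),
     (0, 0), (2, 224), (3, 224), (4, 224), (0, 225), (0, 0), (2, 225), (3, 225), (4, 225),
     (5, 225), (6, 225), (14, 204), (0, 228), (0, 0), (0, 229), (0, 0), (2, 229), (0, 230), (0, 0),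
     (2, 230), (3, 230), (0, 231), (0, 0), (2, 231), (3, 231), (4, 231), (0, 232), (0, 0),
     (2, 232), (3, 232), (4, 232), (5, 232), (0, 233), (0, 0), (2, 233), (3, 233), (4, 233),
     (5, 233), (0, 234), (0, 0), (2, 234), (3, 234), (4, 234), (0, 235), (0, 0), (2, 235),
     (3, 235), (0, 236), (0, 0), (2, 236), (0, 237), (0, 0), (0, 0), (0, 0), (2, 238), (0, 0),
     (3, 237), (3, 238), (0, 0), (4, 236), (4, 237), (4, 238), (0, 0), (5, 235), (5, 236),
     (5, 237), (5, 238), (0, 0), (6, 234), (6, 235), (6, 236), (6, 237), (6, 238), (0, 0),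
     (7, 234), (7, 235), (7, 236), (7, 237), (7, 238), (0, 0), (8, 235), (8, 236), (8, 237),
     (8, 238), (0, 0), (9, 236), (9, 237), (9, 238), (0, 0), (10, 237), (10, 238), (0, 0),
     (11, 238), (0, 0), (35, 225), (14, 233), (14, 234), (14, 235), (14, 236), (14, 237),
     (14, 238), (0, 0), (15, 235), (15, 236), (15, 237), (15, 238), (0, 0), (16, 236), (16, 237),
     (16, 238), (0, 0), (17, 237), (17, 238), (0, 0), (18, 238), (0, 0), (35, 233), (21, 236),
     (21, 237), (21, 238), (0, 0), (22, 237), (22, 238), (0, 0), (23, 238), (0, 0), (35, 234),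
     (26, 237), (26, 238), (0, 0), (27, 238), (0, 0), (35, 235), (30, 238), (0, 0), (35, 236),
     (35, 237), (36, 237), (36, 238), (0, 0), (37, 238), (0, 0), (45, 235), (40, 238), (0, 0),
     (45, 236), (45, 237), (46, 238), (0, 0), (51, 236), (51, 237), (54, 237), (56, 238), (0, 0),
     (61, 236), (61, 237), (64, 237), (68, 237), (73, 237), (78, 238), (0, 0), (83, 236),
     (83, 237), (86, 237), (90, 237), (95, 237), (101, 237), (107, 237), (112, 237), (116, 237),
     (123, 236), (121, 237), (0, 0)]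
  ]

set_option maxRecDepth 1000000 in
theorem rowsD_E8_110 : rowsDB chevE8 certE8_110 110 = true := by decide +kernel

end Cfsg.Agent.Lib.Helper10.E8CC.Helper9
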