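import Cfsg.Agent.Lib.Helper9.E8CCDDefs

set_option autoImplicit false
set_option Elab.async false

/-! S2107 piece [E8-D]: certificates `(a, b)` and kernel checks of `Dec1 chevE8 r s` for the rows
`r = 120..179` (sliced to keep the memory of each declaration small). -/

namespace Cfsg.Agent.Lib.Helper10.E8CC.Helper9

open Cfsg.Lie Cfsg.Agent.Lib.Helper8.Chev

set_option maxHeartbeats 0 in
/-- certificates for the rows `120..129` -/
def certE8_120 : List (List (ℕ × ℕ)) :=
  [
    [(0, 0), (2, 118), (3, 116), (2, 123), (2, 127), (2, 132), (2, 138), (2, 144), (2, 149),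
     (2, 153), (2, 156), (3, 156), (0, 0), (1, 161), (2, 166), (2, 171), (2, 175), (2, 178),
     (3, 178), (0, 0), (1, 183), (2, 185), (2, 188), (3, 188), (0, 0), (1, 193), (2, 194),
     (3, 194), (0, 0), (1, 199), (4, 194), (0, 0), (1, 202), (0, 0), (1, 203), (2, 203), (2, 204),
     (3, 204), (0, 0), (1, 209), (4, 204), (0, 0), (1, 212), (0, 0), (1, 213), (2, 213), (5, 204),
     (0, 0), (1, 216), (0, 0), (1, 217), (2, 217), (0, 0), (1, 218), (2, 218), (3, 218), (6, 204),
     (0, 0), (1, 221), (0, 0), (1, 222), (2, 222), (0, 0), (1, 223), (2, 223), (3, 223), (0, 0),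
     (1, 224), (2, 224), (3, 224), (4, 224), (0, 0), (1, 225), (2, 225), (3, 225), (4, 225),
     (5, 225), (6, 225), (14, 204), (0, 0), (1, 228), (0, 0), (1, 229), (2, 229), (0, 0), (1, 230),
     (2, 230), (3, 230), (0, 0), (1, 231), (2, 231), (3, 231), (4, 231), (0, 0), (1, 232),
     (2, 232), (3, 232), (4, 232), (5, 232), (0, 0), (1, 233), (2, 233), (3, 233), (4, 233),
     (5, 233), (0, 0), (1, 234), (2, 234), (3, 234), (4, 234), (0, 0), (1, 235), (2, 235),
     (3, 235), (0, 0), (1, 236), (2, 236), (0, 0), (1, 237), (0, 0), (0, 0), (0, 0), (2, 239),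
     (3, 237), (0, 0), (3, 239), (4, 236), (4, 237), (0, 0), (4, 239), (5, 235), (5, 236),
     (5, 237), (0, 0), (5, 239), (6, 234), (6, 235), (6, 236), (6, 237), (0, 0), (6, 239),
     (7, 234), (7, 235), (7, 236), (7, 237), (0, 0), (7, 239), (8, 235), (8, 236), (8, 237),
     (0, 0), (8, 239), (9, 236), (9, 237), (0, 0), (9, 239), (10, 237), (0, 0), (10, 239), (0, 0),
     (11, 239), (35, 225), (14, 233), (14, 234), (14, 235), (14, 236), (14, 237), (0, 0),
     (14, 239), (15, 235), (15, 236), (15, 237), (0, 0), (15, 239), (16, 236), (16, 237), (0, 0),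
     (16, 239), (17, 237), (0, 0), (17, 239), (0, 0), (18, 239), (35, 233), (21, 236), (21, 237),
     (0, 0), (21, 239), (22, 237), (0, 0), (22, 239), (0, 0), (23, 239), (35, 234), (26, 237),
     (0, 0), (26, 239), (0, 0), (27, 239), (35, 235), (0, 0), (30, 239), (35, 236), (35, 237),
     (36, 237), (0, 0), (36, 239), (0, 0), (37, 239), (45, 235), (0, 0), (40, 239), (45, 236),
     (45, 237), (0, 0), (46, 239), (51, 236), (51, 237), (54, 237), (0, 0), (56, 239), (61, 236),
     (61, 237), (64, 237), (68, 237), (73, 237), (0, 0), (78, 239), (83, 236), (83, 237),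
     (86, 237), (90, 237), (95, 237), (101, 237), (107, 237), (112, 237), (116, 237), (123, 236),
     (0, 0), (122, 237)],
    [(3, 114), (0, 0), (0, 122), (0, 125), (0, 129), (0, 134), (0, 140), (0, 146), (0, 151),
     (0, 155), (0, 158), (0, 0), (0, 161), (3, 158), (0, 168), (0, 173), (0, 177), (0, 180),
     (0, 0), (0, 183), (3, 180), (0, 187), (0, 190), (0, 0), (0, 193), (3, 190), (0, 196), (0, 0),
     (0, 199), (3, 196), (0, 0), (0, 202), (4, 196), (0, 203), (0, 0), (2, 203), (0, 206), (0, 0),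
     (0, 209), (3, 206), (0, 0), (0, 212), (4, 206), (0, 213), (0, 0), (2, 213), (0, 0), (0, 216),
     (5, 206), (0, 217), (0, 0), (2, 217), (0, 218), (0, 0), (2, 218), (3, 218), (0, 0), (0, 221),
     (6, 206), (0, 222), (0, 0), (2, 222), (0, 223), (0, 0), (2, 223), (3, 223), (0, 224), (0, 0),
     (2, 224), (3, 224), (4, 224), (0, 225), (0, 0), (2, 225), (3, 225), (4, 225), (5, 225),
     (6, 225), (0, 0), (0, 228), (14, 206), (0, 229), (0, 0), (2, 229), (0, 230), (0, 0), (2, 230),
     (3, 230), (0, 231), (0, 0), (2, 231), (3, 231), (4, 231), (0, 232), (0, 0), (2, 232),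
     (3, 232), (4, 232), (5, 232), (0, 233), (0, 0), (2, 233), (3, 233), (4, 233), (5, 233),
     (0, 234), (0, 0), (2, 234), (3, 234), (4, 234), (0, 235), (0, 0), (2, 235), (3, 235),
     (0, 236), (0, 0), (2, 236), (0, 0), (0, 0), (0, 238), (0, 0), (0, 0), (2, 239), (0, 0),
     (3, 238), (3, 239), (4, 236), (0, 0), (4, 238), (4, 239), (5, 235), (5, 236), (0, 0),
     (5, 238), (5, 239), (6, 234), (6, 235), (6, 236), (0, 0), (6, 238), (6, 239), (7, 234),
     (7, 235), (7, 236), (0, 0), (7, 238), (7, 239), (8, 235), (8, 236), (0, 0), (8, 238),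
     (8, 239), (9, 236), (0, 0), (9, 238), (9, 239), (0, 0), (10, 238), (10, 239), (33, 225),
     (0, 0), (12, 239), (14, 233), (14, 234), (14, 235), (14, 236), (0, 0), (14, 238), (14, 239),
     (15, 235), (15, 236), (0, 0), (15, 238), (15, 239), (16, 236), (0, 0), (16, 238), (16, 239),
     (0, 0), (17, 238), (17, 239), (33, 233), (0, 0), (19, 239), (21, 236), (0, 0), (21, 238),
     (21, 239), (0, 0), (22, 238), (22, 239), (33, 234), (0, 0), (24, 239), (0, 0), (26, 238),
     (26, 239), (33, 235), (0, 0), (28, 239), (33, 236), (0, 0), (31, 239), (33, 239), (0, 0),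
     (36, 238), (36, 239), (43, 235), (0, 0), (38, 239), (43, 236), (0, 0), (41, 239), (43, 239),
     (49, 236), (0, 0), (47, 239), (49, 239), (52, 239), (59, 236), (0, 0), (57, 239), (59, 239),
     (62, 239), (66, 239), (71, 239), (81, 236), (0, 0), (79, 239), (81, 239), (84, 239),
     (88, 239), (93, 239), (99, 239), (105, 239), (110, 239), (114, 239), (0, 0), (119, 239),
     (125, 236)],
    [(0, 0), (3, 115), (1, 121), (1, 124), (1, 128), (1, 133), (1, 139), (1, 145), (1, 150),
     (1, 154), (1, 157), (0, 0), (3, 157), (1, 161), (1, 167), (1, 172), (1, 176), (1, 179),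
     (0, 0), (3, 179), (1, 183), (1, 186), (1, 189), (0, 0), (3, 189), (1, 193), (1, 195), (0, 0),
     (3, 195), (1, 199), (0, 0), (4, 195), (1, 202), (0, 0), (1, 203), (2, 203), (1, 205), (0, 0),
     (3, 205), (1, 209), (0, 0), (4, 205), (1, 212), (0, 0), (1, 213), (2, 213), (0, 0), (5, 205),
     (1, 216), (0, 0), (1, 217), (2, 217), (0, 0), (1, 218), (2, 218), (3, 218), (0, 0), (6, 205),
     (1, 221), (0, 0), (1, 222), (2, 222), (0, 0), (1, 223), (2, 223), (3, 223), (0, 0), (1, 224),
     (2, 224), (3, 224), (4, 224), (0, 0), (1, 225), (2, 225), (3, 225), (4, 225), (5, 225),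
     (6, 225), (0, 0), (14, 205), (1, 228), (0, 0), (1, 229), (2, 229), (0, 0), (1, 230), (2, 230),
     (3, 230), (0, 0), (1, 231), (2, 231), (3, 231), (4, 231), (0, 0), (1, 232), (2, 232),
     (3, 232), (4, 232), (5, 232), (0, 0), (1, 233), (2, 233), (3, 233), (4, 233), (5, 233),
     (0, 0), (1, 234), (2, 234), (3, 234), (4, 234), (0, 0), (1, 235), (2, 235), (3, 235), (0, 0),
     (1, 236), (2, 236), (0, 0), (0, 0), (0, 0), (1, 239), (2, 238), (0, 0), (0, 0), (3, 238),
     (3, 239), (4, 236), (0, 0), (4, 238), (4, 239), (5, 235), (5, 236), (0, 0), (5, 238),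
     (5, 239), (6, 234), (6, 235), (6, 236), (0, 0), (6, 238), (6, 239), (7, 234), (7, 235),
     (7, 236), (0, 0), (7, 238), (7, 239), (8, 235), (8, 236), (0, 0), (8, 238), (8, 239),
     (9, 236), (0, 0), (9, 238), (9, 239), (0, 0), (10, 238), (10, 239), (0, 0), (34, 225),
     (12, 239), (14, 233), (14, 234), (14, 235), (14, 236), (0, 0), (14, 238), (14, 239),
     (15, 235), (15, 236), (0, 0), (15, 238), (15, 239), (16, 236), (0, 0), (16, 238), (16, 239),
     (0, 0), (17, 238), (17, 239), (0, 0), (34, 233), (19, 239), (21, 236), (0, 0), (21, 238),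
     (21, 239), (0, 0), (22, 238), (22, 239), (0, 0), (34, 234), (24, 239), (0, 0), (26, 238),
     (26, 239), (0, 0), (34, 235), (28, 239), (0, 0), (34, 236), (31, 239), (34, 238), (0, 0),
     (36, 238), (36, 239), (0, 0), (44, 235), (38, 239), (0, 0), (44, 236), (41, 239), (44, 238),
     (0, 0), (50, 236), (47, 239), (50, 238), (53, 238), (0, 0), (60, 236), (57, 239), (60, 238),
     (63, 238), (67, 238), (72, 238), (0, 0), (82, 236), (79, 239), (82, 238), (85, 238),
     (89, 238), (94, 238), (100, 238), (106, 238), (111, 238), (115, 238), (0, 0), (124, 236),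
     (120, 238)],
    [(1, 119), (0, 120), (0, 0), (0, 125), (0, 129), (0, 134), (0, 140), (0, 146), (0, 151),
     (0, 155), (0, 0), (0, 160), (0, 161), (1, 161), (0, 168), (0, 173), (0, 177), (0, 0),
     (0, 182), (0, 183), (1, 183), (0, 187), (0, 0), (0, 192), (0, 193), (1, 193), (0, 0),
     (0, 198), (0, 199), (1, 199), (0, 201), (0, 0), (0, 0), (0, 203), (1, 203), (4, 199), (0, 0),
     (0, 208), (0, 209), (1, 209), (0, 211), (0, 0), (0, 0), (0, 213), (1, 213), (4, 209),
     (0, 215), (0, 0), (0, 0), (0, 217), (1, 217), (5, 209), (0, 218), (1, 218), (0, 0), (3, 218),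
     (0, 220), (0, 0), (0, 0), (0, 222), (1, 222), (6, 209), (0, 223), (1, 223), (0, 0), (3, 223),
     (0, 224), (1, 224), (0, 0), (3, 224), (4, 224), (0, 225), (1, 225), (0, 0), (3, 225),
     (4, 225), (5, 225), (6, 225), (0, 227), (0, 0), (0, 0), (0, 229), (1, 229), (14, 209),
     (0, 230), (1, 230), (0, 0), (3, 230), (0, 231), (1, 231), (0, 0), (3, 231), (4, 231),
     (0, 232), (1, 232), (0, 0), (3, 232), (4, 232), (5, 232), (0, 233), (1, 233), (0, 0),
     (3, 233), (4, 233), (5, 233), (0, 234), (1, 234), (0, 0), (3, 234), (4, 234), (0, 235),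
     (1, 235), (0, 0), (3, 235), (0, 0), (0, 0), (0, 0), (0, 237), (1, 237), (0, 238), (1, 239),
     (0, 0), (0, 0), (0, 0), (3, 238), (3, 239), (0, 0), (4, 237), (4, 238), (4, 239), (5, 235),
     (0, 0), (5, 237), (5, 238), (5, 239), (6, 234), (6, 235), (0, 0), (6, 237), (6, 238),
     (6, 239), (7, 234), (7, 235), (0, 0), (7, 237), (7, 238), (7, 239), (8, 235), (0, 0),
     (8, 237), (8, 238), (8, 239), (0, 0), (9, 237), (9, 238), (9, 239), (30, 225), (0, 0), (0, 0),
     (11, 238), (11, 239), (12, 239), (14, 233), (14, 234), (14, 235), (0, 0), (14, 237),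
     (14, 238), (14, 239), (15, 235), (0, 0), (15, 237), (15, 238), (15, 239), (0, 0), (16, 237),
     (16, 238), (16, 239), (30, 233), (0, 0), (0, 0), (18, 238), (18, 239), (19, 239), (0, 0),
     (21, 237), (21, 238), (21, 239), (30, 234), (0, 0), (0, 0), (23, 238), (23, 239), (24, 239),
     (30, 235), (0, 0), (0, 0), (27, 238), (27, 239), (28, 239), (30, 238), (30, 239), (0, 0),
     (33, 239), (40, 235), (0, 0), (0, 0), (37, 238), (37, 239), (38, 239), (40, 238), (40, 239),
     (0, 0), (43, 239), (46, 238), (46, 239), (0, 0), (49, 239), (52, 239), (56, 238), (56, 239),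
     (0, 0), (59, 239), (62, 239), (66, 239), (71, 239), (78, 238), (78, 239), (0, 0), (81, 239),
     (84, 239), (88, 239), (93, 239), (99, 239), (105, 239), (110, 239), (0, 0), (117, 239),
     (119, 239), (120, 238)],
    [(2, 117), (0, 0), (0, 122), (0, 125), (0, 129), (0, 134), (0, 140), (0, 146), (0, 151),
     (0, 155), (0, 0), (0, 160), (0, 161), (2, 160), (0, 168), (0, 173), (0, 177), (0, 0),
     (0, 182), (0, 183), (2, 182), (0, 187), (0, 0), (0, 192), (0, 193), (2, 192), (0, 0),
     (0, 198), (0, 199), (2, 198), (0, 0), (0, 202), (0, 0), (0, 203), (4, 198), (2, 203), (0, 0),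
     (0, 208), (0, 209), (2, 208), (0, 0), (0, 212), (0, 0), (0, 213), (4, 208), (2, 213), (0, 0),
     (0, 216), (0, 0), (0, 217), (5, 208), (2, 217), (0, 218), (0, 0), (2, 218), (3, 218), (0, 0),
     (0, 221), (0, 0), (0, 222), (6, 208), (2, 222), (0, 223), (0, 0), (2, 223), (3, 223),
     (0, 224), (0, 0), (2, 224), (3, 224), (4, 224), (0, 225), (0, 0), (2, 225), (3, 225),
     (4, 225), (5, 225), (6, 225), (0, 0), (0, 228), (0, 0), (0, 229), (14, 208), (2, 229),
     (0, 230), (0, 0), (2, 230), (3, 230), (0, 231), (0, 0), (2, 231), (3, 231), (4, 231),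
     (0, 232), (0, 0), (2, 232), (3, 232), (4, 232), (5, 232), (0, 233), (0, 0), (2, 233),
     (3, 233), (4, 233), (5, 233), (0, 234), (0, 0), (2, 234), (3, 234), (4, 234), (0, 235),
     (0, 0), (2, 235), (3, 235), (0, 0), (0, 0), (0, 0), (0, 237), (0, 0), (0, 238), (0, 0),
     (2, 238), (2, 239), (3, 237), (0, 0), (3, 239), (0, 0), (4, 237), (4, 238), (4, 239),
     (5, 235), (0, 0), (5, 237), (5, 238), (5, 239), (6, 234), (6, 235), (0, 0), (6, 237),
     (6, 238), (6, 239), (7, 234), (7, 235), (0, 0), (7, 237), (7, 238), (7, 239), (8, 235),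
     (0, 0), (8, 237), (8, 238), (8, 239), (0, 0), (9, 237), (9, 238), (9, 239), (0, 0), (31, 225),
     (0, 0), (11, 238), (11, 239), (12, 239), (14, 233), (14, 234), (14, 235), (0, 0), (14, 237),
     (14, 238), (14, 239), (15, 235), (0, 0), (15, 237), (15, 238), (15, 239), (0, 0), (16, 237),
     (16, 238), (16, 239), (0, 0), (31, 233), (0, 0), (18, 238), (18, 239), (19, 239), (0, 0),
     (21, 237), (21, 238), (21, 239), (0, 0), (31, 234), (0, 0), (23, 238), (23, 239), (24, 239),
     (0, 0), (31, 235), (0, 0), (27, 238), (27, 239), (28, 239), (31, 237), (0, 0), (31, 239),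
     (33, 239), (0, 0), (41, 235), (0, 0), (37, 238), (37, 239), (38, 239), (41, 237), (0, 0),
     (41, 239), (43, 239), (47, 237), (0, 0), (47, 239), (49, 239), (52, 239), (57, 237), (0, 0),
     (57, 239), (59, 239), (62, 239), (66, 239), (71, 239), (79, 237), (0, 0), (79, 239),
     (81, 239), (84, 239), (88, 239), (93, 239), (99, 239), (105, 239), (110, 239), (0, 0),
     (117, 239), (119, 239), (122, 237)],
    [(0, 0), (2, 118), (1, 121), (1, 124), (1, 128), (1, 133), (1, 139), (1, 145), (1, 150),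
     (1, 154), (0, 0), (1, 159), (2, 159), (1, 161), (1, 167), (1, 172), (1, 176), (0, 0),
     (1, 181), (2, 181), (1, 183), (1, 186), (0, 0), (1, 191), (2, 191), (1, 193), (0, 0),
     (1, 197), (2, 197), (1, 199), (0, 0), (0, 0), (1, 202), (4, 197), (1, 203), (2, 203), (0, 0),
     (1, 207), (2, 207), (1, 209), (0, 0), (0, 0), (1, 212), (4, 207), (1, 213), (2, 213), (0, 0),
     (0, 0), (1, 216), (5, 207), (1, 217), (2, 217), (0, 0), (1, 218), (2, 218), (3, 218), (0, 0),
     (0, 0), (1, 221), (6, 207), (1, 222), (2, 222), (0, 0), (1, 223), (2, 223), (3, 223), (0, 0),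
     (1, 224), (2, 224), (3, 224), (4, 224), (0, 0), (1, 225), (2, 225), (3, 225), (4, 225),
     (5, 225), (6, 225), (0, 0), (0, 0), (1, 228), (14, 207), (1, 229), (2, 229), (0, 0), (1, 230),
     (2, 230), (3, 230), (0, 0), (1, 231), (2, 231), (3, 231), (4, 231), (0, 0), (1, 232),
     (2, 232), (3, 232), (4, 232), (5, 232), (0, 0), (1, 233), (2, 233), (3, 233), (4, 233),
     (5, 233), (0, 0), (1, 234), (2, 234), (3, 234), (4, 234), (0, 0), (1, 235), (2, 235),
     (3, 235), (0, 0), (0, 0), (0, 0), (0, 0), (1, 237), (0, 0), (1, 239), (2, 238), (2, 239),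
     (3, 237), (3, 238), (0, 0), (0, 0), (4, 237), (4, 238), (4, 239), (5, 235), (0, 0), (5, 237),
     (5, 238), (5, 239), (6, 234), (6, 235), (0, 0), (6, 237), (6, 238), (6, 239), (7, 234),
     (7, 235), (0, 0), (7, 237), (7, 238), (7, 239), (8, 235), (0, 0), (8, 237), (8, 238),
     (8, 239), (0, 0), (9, 237), (9, 238), (9, 239), (0, 0), (0, 0), (32, 225), (11, 238),
     (11, 239), (12, 239), (14, 233), (14, 234), (14, 235), (0, 0), (14, 237), (14, 238),
     (14, 239), (15, 235), (0, 0), (15, 237), (15, 238), (15, 239), (0, 0), (16, 237), (16, 238),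
     (16, 239), (0, 0), (0, 0), (32, 233), (18, 238), (18, 239), (19, 239), (0, 0), (21, 237),
     (21, 238), (21, 239), (0, 0), (0, 0), (32, 234), (23, 238), (23, 239), (24, 239), (0, 0),
     (0, 0), (32, 235), (27, 238), (27, 239), (28, 239), (0, 0), (32, 237), (32, 238), (33, 239),
     (0, 0), (0, 0), (42, 235), (37, 238), (37, 239), (38, 239), (0, 0), (42, 237), (42, 238),
     (43, 239), (0, 0), (48, 237), (48, 238), (49, 239), (53, 238), (0, 0), (58, 237), (58, 238),
     (59, 239), (63, 238), (67, 238), (72, 238), (0, 0), (80, 237), (80, 238), (81, 239),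
     (85, 238), (89, 238), (94, 238), (100, 238), (106, 238), (111, 238), (0, 0), (118, 238),
     (121, 237), (120, 238)],
    [(1, 119), (0, 120), (0, 122), (0, 0), (0, 129), (0, 134), (0, 140), (0, 146), (0, 151),
     (0, 0), (0, 158), (0, 160), (0, 161), (1, 161), (0, 168), (0, 173), (0, 0), (0, 180),
     (0, 182), (0, 183), (1, 183), (0, 0), (0, 190), (0, 192), (0, 193), (1, 193), (0, 196),
     (0, 0), (0, 0), (0, 0), (0, 201), (0, 202), (1, 202), (0, 203), (1, 203), (2, 203), (0, 206),
     (0, 0), (0, 0), (0, 0), (0, 211), (0, 212), (1, 212), (0, 213), (1, 213), (2, 213), (0, 215),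
     (0, 216), (1, 216), (0, 0), (0, 0), (0, 0), (0, 218), (1, 218), (2, 218), (5, 213), (0, 220),
     (0, 221), (1, 221), (0, 0), (0, 0), (0, 0), (0, 223), (1, 223), (2, 223), (6, 213), (0, 224),
     (1, 224), (2, 224), (0, 0), (4, 224), (0, 225), (1, 225), (2, 225), (0, 0), (4, 225),
     (5, 225), (6, 225), (0, 227), (0, 228), (1, 228), (0, 0), (0, 0), (0, 0), (0, 230), (1, 230),
     (2, 230), (14, 213), (0, 231), (1, 231), (2, 231), (0, 0), (4, 231), (0, 232), (1, 232),
     (2, 232), (0, 0), (4, 232), (5, 232), (0, 233), (1, 233), (2, 233), (0, 0), (4, 233),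
     (5, 233), (0, 234), (1, 234), (2, 234), (0, 0), (4, 234), (0, 0), (0, 0), (0, 0), (0, 0),
     (0, 236), (1, 236), (2, 236), (0, 237), (1, 237), (0, 238), (1, 239), (2, 238), (2, 239),
     (0, 0), (0, 0), (0, 0), (0, 0), (4, 237), (4, 238), (4, 239), (0, 0), (5, 236), (5, 237),
     (5, 238), (5, 239), (6, 234), (0, 0), (6, 236), (6, 237), (6, 238), (6, 239), (7, 234),
     (0, 0), (7, 236), (7, 237), (7, 238), (7, 239), (0, 0), (8, 236), (8, 237), (8, 238),
     (8, 239), (26, 225), (0, 0), (0, 0), (0, 0), (10, 237), (10, 238), (10, 239), (11, 238),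
     (11, 239), (12, 239), (14, 233), (14, 234), (0, 0), (14, 236), (14, 237), (14, 238),
     (14, 239), (0, 0), (15, 236), (15, 237), (15, 238), (15, 239), (26, 233), (0, 0), (0, 0),
     (0, 0), (17, 237), (17, 238), (17, 239), (18, 238), (18, 239), (19, 239), (26, 234), (0, 0),
     (0, 0), (0, 0), (22, 237), (22, 238), (22, 239), (23, 238), (23, 239), (24, 239), (26, 237),
     (26, 238), (26, 239), (0, 0), (0, 0), (0, 0), (30, 238), (30, 239), (31, 239), (33, 239),
     (36, 237), (36, 238), (36, 239), (0, 0), (0, 0), (0, 0), (40, 238), (40, 239), (41, 239),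
     (43, 239), (46, 238), (46, 239), (47, 239), (0, 0), (52, 239), (56, 238), (56, 239),
     (57, 239), (0, 0), (62, 239), (66, 239), (71, 239), (78, 238), (78, 239), (79, 239), (0, 0),
     (84, 239), (88, 239), (93, 239), (99, 239), (105, 239), (0, 0), (114, 239), (117, 239),
     (119, 239), (120, 238)],
    [(1, 119), (0, 120), (0, 0), (0, 125), (0, 129), (0, 134), (0, 140), (0, 146), (0, 151),
     (0, 0), (0, 158), (0, 160), (0, 161), (1, 161), (0, 168), (0, 173), (0, 0), (0, 180),
     (0, 182), (0, 183), (1, 183), (0, 0), (0, 190), (0, 192), (0, 193), (1, 193), (0, 0),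
     (0, 198), (0, 0), (0, 0), (0, 201), (0, 202), (1, 202), (0, 203), (1, 203), (3, 202), (0, 0),
     (0, 208), (0, 0), (0, 0), (0, 211), (0, 212), (1, 212), (0, 213), (1, 213), (3, 212),
     (0, 215), (0, 0), (0, 0), (0, 217), (1, 217), (0, 0), (0, 218), (1, 218), (5, 212), (3, 218),
     (0, 220), (0, 0), (0, 0), (0, 222), (1, 222), (0, 0), (0, 223), (1, 223), (6, 212), (3, 223),
     (0, 224), (1, 224), (0, 0), (3, 224), (4, 224), (0, 225), (1, 225), (0, 0), (3, 225),
     (4, 225), (5, 225), (6, 225), (0, 227), (0, 0), (0, 0), (0, 229), (1, 229), (0, 0), (0, 230),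
     (1, 230), (14, 212), (3, 230), (0, 231), (1, 231), (0, 0), (3, 231), (4, 231), (0, 232),
     (1, 232), (0, 0), (3, 232), (4, 232), (5, 232), (0, 233), (1, 233), (0, 0), (3, 233),
     (4, 233), (5, 233), (0, 234), (1, 234), (0, 0), (3, 234), (4, 234), (0, 0), (0, 0), (0, 0),
     (0, 0), (0, 236), (1, 236), (0, 0), (0, 237), (1, 237), (0, 238), (1, 239), (0, 0), (0, 0),
     (3, 237), (3, 238), (3, 239), (4, 236), (0, 0), (4, 238), (4, 239), (0, 0), (5, 236),
     (5, 237), (5, 238), (5, 239), (6, 234), (0, 0), (6, 236), (6, 237), (6, 238), (6, 239),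
     (7, 234), (0, 0), (7, 236), (7, 237), (7, 238), (7, 239), (0, 0), (8, 236), (8, 237),
     (8, 238), (8, 239), (0, 0), (27, 225), (0, 0), (0, 0), (10, 237), (10, 238), (10, 239),
     (11, 238), (11, 239), (12, 239), (14, 233), (14, 234), (0, 0), (14, 236), (14, 237),
     (14, 238), (14, 239), (0, 0), (15, 236), (15, 237), (15, 238), (15, 239), (0, 0), (27, 233),
     (0, 0), (0, 0), (17, 237), (17, 238), (17, 239), (18, 238), (18, 239), (19, 239), (0, 0),
     (27, 234), (0, 0), (0, 0), (22, 237), (22, 238), (22, 239), (23, 238), (23, 239), (24, 239),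
     (27, 236), (0, 0), (0, 0), (27, 238), (27, 239), (0, 0), (30, 238), (30, 239), (31, 239),
     (33, 239), (37, 236), (0, 0), (0, 0), (37, 238), (37, 239), (0, 0), (40, 238), (40, 239),
     (41, 239), (43, 239), (46, 238), (46, 239), (0, 0), (49, 239), (52, 239), (56, 238),
     (56, 239), (0, 0), (59, 239), (62, 239), (66, 239), (71, 239), (78, 238), (78, 239), (0, 0),
     (81, 239), (84, 239), (88, 239), (93, 239), (99, 239), (105, 239), (0, 0), (114, 239),
     (117, 239), (119, 239), (120, 238)],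
    [(2, 117), (0, 0), (0, 122), (0, 125), (0, 129), (0, 134), (0, 140), (0, 146), (0, 151),
     (0, 0), (0, 158), (0, 160), (0, 161), (2, 160), (0, 168), (0, 173), (0, 0), (0, 180),
     (0, 182), (0, 183), (2, 182), (0, 0), (0, 190), (0, 192), (0, 193), (2, 192), (0, 0), (0, 0),
     (0, 199), (0, 0), (0, 201), (0, 202), (2, 201), (0, 203), (3, 201), (2, 203), (0, 0), (0, 0),
     (0, 209), (0, 0), (0, 211), (0, 212), (2, 211), (0, 213), (3, 211), (2, 213), (0, 0),
     (0, 216), (0, 0), (0, 217), (0, 0), (2, 217), (0, 218), (5, 211), (2, 218), (3, 218), (0, 0),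
     (0, 221), (0, 0), (0, 222), (0, 0), (2, 222), (0, 223), (6, 211), (2, 223), (3, 223),
     (0, 224), (0, 0), (2, 224), (3, 224), (4, 224), (0, 225), (0, 0), (2, 225), (3, 225),
     (4, 225), (5, 225), (6, 225), (0, 0), (0, 228), (0, 0), (0, 229), (0, 0), (2, 229), (0, 230),
     (14, 211), (2, 230), (3, 230), (0, 231), (0, 0), (2, 231), (3, 231), (4, 231), (0, 232),
     (0, 0), (2, 232), (3, 232), (4, 232), (5, 232), (0, 233), (0, 0), (2, 233), (3, 233),
     (4, 233), (5, 233), (0, 234), (0, 0), (2, 234), (3, 234), (4, 234), (0, 0), (0, 0), (0, 0),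
     (0, 0), (0, 236), (0, 0), (2, 236), (0, 237), (0, 0), (0, 238), (0, 0), (2, 238), (2, 239),
     (3, 237), (3, 238), (3, 239), (4, 236), (4, 237), (0, 0), (4, 239), (0, 0), (5, 236),
     (5, 237), (5, 238), (5, 239), (6, 234), (0, 0), (6, 236), (6, 237), (6, 238), (6, 239),
     (7, 234), (0, 0), (7, 236), (7, 237), (7, 238), (7, 239), (0, 0), (8, 236), (8, 237),
     (8, 238), (8, 239), (0, 0), (0, 0), (28, 225), (0, 0), (10, 237), (10, 238), (10, 239),
     (11, 238), (11, 239), (12, 239), (14, 233), (14, 234), (0, 0), (14, 236), (14, 237),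
     (14, 238), (14, 239), (0, 0), (15, 236), (15, 237), (15, 238), (15, 239), (0, 0), (0, 0),
     (28, 233), (0, 0), (17, 237), (17, 238), (17, 239), (18, 238), (18, 239), (19, 239), (0, 0),
     (0, 0), (28, 234), (0, 0), (22, 237), (22, 238), (22, 239), (23, 238), (23, 239), (24, 239),
     (0, 0), (28, 236), (0, 0), (28, 237), (0, 0), (28, 239), (30, 238), (30, 239), (31, 239),
     (33, 239), (0, 0), (38, 236), (0, 0), (38, 237), (0, 0), (38, 239), (40, 238), (40, 239),
     (41, 239), (43, 239), (47, 237), (0, 0), (47, 239), (49, 239), (52, 239), (57, 237), (0, 0),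
     (57, 239), (59, 239), (62, 239), (66, 239), (71, 239), (79, 237), (0, 0), (79, 239),
     (81, 239), (84, 239), (88, 239), (93, 239), (99, 239), (105, 239), (0, 0), (114, 239),
     (117, 239), (119, 239), (122, 237)],
    [(0, 0), (2, 118), (1, 121), (1, 124), (1, 128), (1, 133), (1, 139), (1, 145), (1, 150),
     (0, 0), (1, 157), (1, 159), (2, 159), (1, 161), (1, 167), (1, 172), (0, 0), (1, 179),
     (1, 181), (2, 181), (1, 183), (0, 0), (1, 189), (1, 191), (2, 191), (1, 193), (0, 0), (0, 0),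
     (0, 0), (1, 199), (1, 200), (2, 200), (1, 202), (3, 200), (1, 203), (2, 203), (0, 0), (0, 0),
     (0, 0), (1, 209), (1, 210), (2, 210), (1, 212), (3, 210), (1, 213), (2, 213), (0, 0), (0, 0),
     (1, 216), (0, 0), (1, 217), (2, 217), (5, 210), (1, 218), (2, 218), (3, 218), (0, 0), (0, 0),
     (1, 221), (0, 0), (1, 222), (2, 222), (6, 210), (1, 223), (2, 223), (3, 223), (0, 0),
     (1, 224), (2, 224), (3, 224), (4, 224), (0, 0), (1, 225), (2, 225), (3, 225), (4, 225),
     (5, 225), (6, 225), (0, 0), (0, 0), (1, 228), (0, 0), (1, 229), (2, 229), (14, 210), (1, 230),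
     (2, 230), (3, 230), (0, 0), (1, 231), (2, 231), (3, 231), (4, 231), (0, 0), (1, 232),
     (2, 232), (3, 232), (4, 232), (5, 232), (0, 0), (1, 233), (2, 233), (3, 233), (4, 233),
     (5, 233), (0, 0), (1, 234), (2, 234), (3, 234), (4, 234), (0, 0), (0, 0), (0, 0), (0, 0),
     (0, 0), (1, 236), (2, 236), (0, 0), (1, 237), (0, 0), (1, 239), (2, 238), (2, 239), (3, 237),
     (3, 238), (3, 239), (4, 236), (4, 237), (4, 238), (0, 0), (0, 0), (5, 236), (5, 237),
     (5, 238), (5, 239), (6, 234), (0, 0), (6, 236), (6, 237), (6, 238), (6, 239), (7, 234),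
     (0, 0), (7, 236), (7, 237), (7, 238), (7, 239), (0, 0), (8, 236), (8, 237), (8, 238),
     (8, 239), (0, 0), (0, 0), (0, 0), (29, 225), (10, 237), (10, 238), (10, 239), (11, 238),
     (11, 239), (12, 239), (14, 233), (14, 234), (0, 0), (14, 236), (14, 237), (14, 238),
     (14, 239), (0, 0), (15, 236), (15, 237), (15, 238), (15, 239), (0, 0), (0, 0), (0, 0),
     (29, 233), (17, 237), (17, 238), (17, 239), (18, 238), (18, 239), (19, 239), (0, 0), (0, 0),
     (0, 0), (29, 234), (22, 237), (22, 238), (22, 239), (23, 238), (23, 239), (24, 239), (0, 0),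
     (0, 0), (29, 236), (0, 0), (29, 237), (29, 238), (30, 238), (30, 239), (31, 239), (33, 239),
     (0, 0), (0, 0), (39, 236), (0, 0), (39, 237), (39, 238), (40, 238), (40, 239), (41, 239),
     (43, 239), (0, 0), (48, 237), (48, 238), (50, 238), (52, 239), (0, 0), (58, 237), (58, 238),
     (60, 238), (62, 239), (67, 238), (72, 238), (0, 0), (80, 237), (80, 238), (82, 238),
     (84, 239), (89, 238), (94, 238), (100, 238), (106, 238), (0, 0), (115, 238), (118, 238),
     (121, 237), (120, 238)]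
  ]

set_option maxRecDepth 1000000 in
theorem rowsD_E8_120 : rowsDB chevE8 certE8_120 120 = true := by decide +kernel

set_option maxHeartbeats 0 in
/-- certificates for the rows `130..139` -/
def certE8_130 : List (List (ℕ × ℕ)) :=
  [
    [(1, 119), (0, 120), (0, 122), (0, 125), (0, 0), (0, 134), (0, 140), (0, 146), (0, 0),
     (0, 155), (0, 158), (0, 160), (0, 161), (1, 161), (0, 168), (0, 0), (0, 177), (0, 180),
     (0, 182), (0, 183), (1, 183), (0, 187), (0, 0), (0, 0), (0, 0), (0, 0), (0, 196), (0, 198),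
     (0, 199), (1, 199), (0, 201), (0, 202), (1, 202), (0, 203), (1, 203), (2, 203), (0, 206),
     (0, 208), (0, 209), (1, 209), (0, 0), (0, 0), (0, 0), (0, 0), (0, 0), (0, 0), (0, 215),
     (0, 216), (1, 216), (0, 217), (1, 217), (2, 217), (0, 218), (1, 218), (2, 218), (3, 218),
     (0, 220), (0, 221), (1, 221), (0, 222), (1, 222), (2, 222), (0, 0), (0, 0), (0, 0), (0, 0),
     (0, 224), (1, 224), (2, 224), (3, 224), (6, 218), (0, 225), (1, 225), (2, 225), (3, 225),
     (0, 0), (5, 225), (6, 225), (0, 227), (0, 228), (1, 228), (0, 229), (1, 229), (2, 229),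
     (0, 0), (0, 0), (0, 0), (0, 0), (0, 231), (1, 231), (2, 231), (3, 231), (14, 218), (0, 232),
     (1, 232), (2, 232), (3, 232), (0, 0), (5, 232), (0, 233), (1, 233), (2, 233), (3, 233),
     (0, 0), (5, 233), (0, 0), (0, 0), (0, 0), (0, 0), (0, 0), (0, 235), (1, 235), (2, 235),
     (3, 235), (0, 236), (1, 236), (2, 236), (0, 237), (1, 237), (0, 238), (1, 239), (2, 238),
     (2, 239), (3, 237), (3, 238), (3, 239), (0, 0), (0, 0), (0, 0), (0, 0), (0, 0), (5, 236),
     (5, 237), (5, 238), (5, 239), (0, 0), (6, 235), (6, 236), (6, 237), (6, 238), (6, 239),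
     (0, 0), (7, 235), (7, 236), (7, 237), (7, 238), (7, 239), (21, 225), (0, 0), (0, 0), (0, 0),
     (0, 0), (9, 236), (9, 237), (9, 238), (9, 239), (10, 237), (10, 238), (10, 239), (11, 238),
     (11, 239), (12, 239), (14, 233), (0, 0), (14, 235), (14, 236), (14, 237), (14, 238),
     (14, 239), (21, 233), (0, 0), (0, 0), (0, 0), (0, 0), (16, 236), (16, 237), (16, 238),
     (16, 239), (17, 237), (17, 238), (17, 239), (18, 238), (18, 239), (19, 239), (21, 236),
     (21, 237), (21, 238), (21, 239), (0, 0), (0, 0), (0, 0), (0, 0), (0, 0), (0, 0), (26, 237),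
     (26, 238), (26, 239), (27, 238), (27, 239), (28, 239), (30, 238), (30, 239), (31, 239),
     (33, 239), (36, 237), (36, 238), (36, 239), (37, 238), (37, 239), (38, 239), (0, 0), (0, 0),
     (0, 0), (0, 0), (46, 238), (46, 239), (47, 239), (49, 239), (52, 239), (56, 238), (56, 239),
     (57, 239), (59, 239), (0, 0), (66, 239), (71, 239), (78, 238), (78, 239), (79, 239),
     (81, 239), (0, 0), (88, 239), (93, 239), (99, 239), (0, 0), (110, 239), (114, 239),
     (117, 239), (119, 239), (120, 238)],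
    [(1, 119), (0, 120), (0, 122), (0, 0), (0, 129), (0, 134), (0, 140), (0, 146), (0, 0),
     (0, 155), (0, 158), (0, 160), (0, 161), (1, 161), (0, 168), (0, 0), (0, 177), (0, 180),
     (0, 182), (0, 183), (1, 183), (0, 0), (0, 190), (0, 0), (0, 0), (0, 0), (0, 196), (0, 198),
     (0, 199), (1, 199), (0, 201), (0, 202), (1, 202), (0, 203), (1, 203), (2, 203), (0, 206),
     (0, 0), (0, 0), (0, 0), (0, 211), (0, 212), (1, 212), (0, 0), (0, 0), (0, 0), (0, 215),
     (0, 216), (1, 216), (0, 217), (1, 217), (2, 217), (0, 218), (1, 218), (2, 218), (4, 217),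
     (0, 220), (0, 221), (1, 221), (0, 0), (0, 0), (0, 0), (0, 223), (1, 223), (2, 223), (0, 0),
     (0, 224), (1, 224), (2, 224), (6, 217), (4, 224), (0, 225), (1, 225), (2, 225), (0, 0),
     (4, 225), (5, 225), (6, 225), (0, 227), (0, 228), (1, 228), (0, 0), (0, 0), (0, 0), (0, 230),
     (1, 230), (2, 230), (0, 0), (0, 231), (1, 231), (2, 231), (14, 217), (4, 231), (0, 232),
     (1, 232), (2, 232), (0, 0), (4, 232), (5, 232), (0, 233), (1, 233), (2, 233), (0, 0),
     (4, 233), (5, 233), (0, 0), (0, 0), (0, 0), (0, 0), (0, 0), (0, 235), (1, 235), (2, 235),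
     (0, 0), (0, 236), (1, 236), (2, 236), (0, 237), (1, 237), (0, 238), (1, 239), (2, 238),
     (2, 239), (0, 0), (0, 0), (0, 0), (4, 236), (4, 237), (4, 238), (4, 239), (5, 235), (0, 0),
     (5, 237), (5, 238), (5, 239), (0, 0), (6, 235), (6, 236), (6, 237), (6, 238), (6, 239),
     (0, 0), (7, 235), (7, 236), (7, 237), (7, 238), (7, 239), (0, 0), (22, 225), (0, 0), (0, 0),
     (0, 0), (9, 236), (9, 237), (9, 238), (9, 239), (10, 237), (10, 238), (10, 239), (11, 238),
     (11, 239), (12, 239), (14, 233), (0, 0), (14, 235), (14, 236), (14, 237), (14, 238),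
     (14, 239), (0, 0), (22, 233), (0, 0), (0, 0), (0, 0), (16, 236), (16, 237), (16, 238),
     (16, 239), (17, 237), (17, 238), (17, 239), (18, 238), (18, 239), (19, 239), (22, 235),
     (0, 0), (0, 0), (0, 0), (22, 237), (22, 238), (22, 239), (0, 0), (0, 0), (0, 0), (26, 237),
     (26, 238), (26, 239), (27, 238), (27, 239), (28, 239), (30, 238), (30, 239), (31, 239),
     (33, 239), (36, 237), (36, 238), (36, 239), (0, 0), (0, 0), (0, 0), (40, 238), (40, 239),
     (41, 239), (0, 0), (46, 238), (46, 239), (47, 239), (49, 239), (52, 239), (56, 238),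
     (56, 239), (57, 239), (0, 0), (62, 239), (66, 239), (71, 239), (78, 238), (78, 239),
     (79, 239), (0, 0), (84, 239), (88, 239), (93, 239), (99, 239), (0, 0), (110, 239), (114, 239),
     (117, 239), (119, 239), (120, 238)],
    [(1, 119), (0, 120), (0, 0), (0, 125), (0, 129), (0, 134), (0, 140), (0, 146), (0, 0),
     (0, 155), (0, 158), (0, 160), (0, 161), (1, 161), (0, 168), (0, 0), (0, 177), (0, 180),
     (0, 182), (0, 183), (1, 183), (0, 0), (0, 0), (0, 192), (0, 0), (0, 0), (0, 196), (0, 198),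
     (0, 199), (1, 199), (0, 201), (0, 202), (1, 202), (0, 203), (1, 203), (3, 202), (0, 0),
     (0, 208), (0, 0), (0, 0), (0, 211), (0, 0), (0, 0), (0, 213), (1, 213), (0, 0), (0, 215),
     (0, 216), (1, 216), (0, 217), (1, 217), (3, 216), (0, 218), (1, 218), (4, 216), (3, 218),
     (0, 220), (0, 0), (0, 0), (0, 222), (1, 222), (0, 0), (0, 223), (1, 223), (0, 0), (3, 223),
     (0, 224), (1, 224), (6, 216), (3, 224), (4, 224), (0, 225), (1, 225), (0, 0), (3, 225),
     (4, 225), (5, 225), (6, 225), (0, 227), (0, 0), (0, 0), (0, 229), (1, 229), (0, 0), (0, 230),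
     (1, 230), (0, 0), (3, 230), (0, 231), (1, 231), (14, 216), (3, 231), (4, 231), (0, 232),
     (1, 232), (0, 0), (3, 232), (4, 232), (5, 232), (0, 233), (1, 233), (0, 0), (3, 233),
     (4, 233), (5, 233), (0, 0), (0, 0), (0, 0), (0, 0), (0, 0), (0, 235), (1, 235), (0, 0),
     (3, 235), (0, 236), (1, 236), (0, 0), (0, 237), (1, 237), (0, 238), (1, 239), (0, 0), (0, 0),
     (3, 237), (3, 238), (3, 239), (4, 236), (4, 237), (4, 238), (4, 239), (5, 235), (5, 236),
     (0, 0), (5, 238), (5, 239), (0, 0), (6, 235), (6, 236), (6, 237), (6, 238), (6, 239), (0, 0),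
     (7, 235), (7, 236), (7, 237), (7, 238), (7, 239), (0, 0), (0, 0), (23, 225), (0, 0), (0, 0),
     (9, 236), (9, 237), (9, 238), (9, 239), (10, 237), (10, 238), (10, 239), (11, 238), (11, 239),
     (12, 239), (14, 233), (0, 0), (14, 235), (14, 236), (14, 237), (14, 238), (14, 239), (0, 0),
     (0, 0), (23, 233), (0, 0), (0, 0), (16, 236), (16, 237), (16, 238), (16, 239), (17, 237),
     (17, 238), (17, 239), (18, 238), (18, 239), (19, 239), (0, 0), (23, 235), (0, 0), (0, 0),
     (23, 236), (0, 0), (0, 0), (23, 238), (23, 239), (0, 0), (26, 237), (26, 238), (26, 239),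
     (27, 238), (27, 239), (28, 239), (30, 238), (30, 239), (31, 239), (33, 239), (37, 236),
     (0, 0), (0, 0), (37, 238), (37, 239), (0, 0), (40, 238), (40, 239), (0, 0), (43, 239),
     (46, 238), (46, 239), (47, 239), (49, 239), (52, 239), (56, 238), (56, 239), (0, 0),
     (59, 239), (62, 239), (66, 239), (71, 239), (78, 238), (78, 239), (0, 0), (81, 239),
     (84, 239), (88, 239), (93, 239), (99, 239), (0, 0), (110, 239), (114, 239), (117, 239),
     (119, 239), (120, 238)],
    [(2, 117), (0, 0), (0, 122), (0, 125), (0, 129), (0, 134), (0, 140), (0, 146), (0, 0),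
     (0, 155), (0, 158), (0, 160), (0, 161), (2, 160), (0, 168), (0, 0), (0, 177), (0, 180),
     (0, 182), (0, 183), (2, 182), (0, 0), (0, 0), (0, 0), (0, 193), (0, 0), (0, 196), (0, 198),
     (0, 199), (2, 198), (0, 201), (0, 202), (2, 201), (0, 203), (3, 201), (2, 203), (0, 0),
     (0, 0), (0, 209), (0, 0), (0, 0), (0, 212), (0, 0), (0, 213), (0, 0), (2, 213), (0, 215),
     (0, 216), (2, 215), (0, 217), (3, 215), (2, 217), (0, 218), (4, 215), (2, 218), (3, 218),
     (0, 0), (0, 221), (0, 0), (0, 222), (0, 0), (2, 222), (0, 223), (0, 0), (2, 223), (3, 223),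
     (0, 224), (6, 215), (2, 224), (3, 224), (4, 224), (0, 225), (0, 0), (2, 225), (3, 225),
     (4, 225), (5, 225), (6, 225), (0, 0), (0, 228), (0, 0), (0, 229), (0, 0), (2, 229), (0, 230),
     (0, 0), (2, 230), (3, 230), (0, 231), (14, 215), (2, 231), (3, 231), (4, 231), (0, 232),
     (0, 0), (2, 232), (3, 232), (4, 232), (5, 232), (0, 233), (0, 0), (2, 233), (3, 233),
     (4, 233), (5, 233), (0, 0), (0, 0), (0, 0), (0, 0), (0, 0), (0, 235), (0, 0), (2, 235),
     (3, 235), (0, 236), (0, 0), (2, 236), (0, 237), (0, 0), (0, 238), (0, 0), (2, 238), (2, 239),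
     (3, 237), (3, 238), (3, 239), (4, 236), (4, 237), (4, 238), (4, 239), (5, 235), (5, 236),
     (5, 237), (0, 0), (5, 239), (0, 0), (6, 235), (6, 236), (6, 237), (6, 238), (6, 239), (0, 0),
     (7, 235), (7, 236), (7, 237), (7, 238), (7, 239), (0, 0), (0, 0), (0, 0), (24, 225), (0, 0),
     (9, 236), (9, 237), (9, 238), (9, 239), (10, 237), (10, 238), (10, 239), (11, 238), (11, 239),
     (12, 239), (14, 233), (0, 0), (14, 235), (14, 236), (14, 237), (14, 238), (14, 239), (0, 0),
     (0, 0), (0, 0), (24, 233), (0, 0), (16, 236), (16, 237), (16, 238), (16, 239), (17, 237),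
     (17, 238), (17, 239), (18, 238), (18, 239), (19, 239), (0, 0), (0, 0), (24, 235), (0, 0),
     (0, 0), (24, 236), (0, 0), (24, 237), (0, 0), (24, 239), (26, 237), (26, 238), (26, 239),
     (27, 238), (27, 239), (28, 239), (30, 238), (30, 239), (31, 239), (33, 239), (0, 0),
     (38, 236), (0, 0), (38, 237), (0, 0), (38, 239), (41, 237), (0, 0), (41, 239), (43, 239),
     (46, 238), (46, 239), (47, 239), (49, 239), (52, 239), (57, 237), (0, 0), (57, 239),
     (59, 239), (62, 239), (66, 239), (71, 239), (79, 237), (0, 0), (79, 239), (81, 239),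
     (84, 239), (88, 239), (93, 239), (99, 239), (0, 0), (110, 239), (114, 239), (117, 239),
     (119, 239), (122, 237)],
    [(0, 0), (2, 118), (1, 121), (1, 124), (1, 128), (1, 133), (1, 139), (1, 145), (0, 0),
     (1, 154), (1, 157), (1, 159), (2, 159), (1, 161), (1, 167), (0, 0), (1, 176), (1, 179),
     (1, 181), (2, 181), (1, 183), (0, 0), (0, 0), (0, 0), (0, 0), (1, 193), (1, 195), (1, 197),
     (2, 197), (1, 199), (1, 200), (2, 200), (1, 202), (3, 200), (1, 203), (2, 203), (0, 0),
     (0, 0), (0, 0), (1, 209), (0, 0), (0, 0), (1, 212), (0, 0), (1, 213), (2, 213), (1, 214),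
     (2, 214), (1, 216), (3, 214), (1, 217), (2, 217), (4, 214), (1, 218), (2, 218), (3, 218),
     (0, 0), (0, 0), (1, 221), (0, 0), (1, 222), (2, 222), (0, 0), (1, 223), (2, 223), (3, 223),
     (6, 214), (1, 224), (2, 224), (3, 224), (4, 224), (0, 0), (1, 225), (2, 225), (3, 225),
     (4, 225), (5, 225), (6, 225), (0, 0), (0, 0), (1, 228), (0, 0), (1, 229), (2, 229), (0, 0),
     (1, 230), (2, 230), (3, 230), (14, 214), (1, 231), (2, 231), (3, 231), (4, 231), (0, 0),
     (1, 232), (2, 232), (3, 232), (4, 232), (5, 232), (0, 0), (1, 233), (2, 233), (3, 233),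
     (4, 233), (5, 233), (0, 0), (0, 0), (0, 0), (0, 0), (0, 0), (0, 0), (1, 235), (2, 235),
     (3, 235), (0, 0), (1, 236), (2, 236), (0, 0), (1, 237), (0, 0), (1, 239), (2, 238), (2, 239),
     (3, 237), (3, 238), (3, 239), (4, 236), (4, 237), (4, 238), (4, 239), (5, 235), (5, 236),
     (5, 237), (5, 238), (0, 0), (0, 0), (6, 235), (6, 236), (6, 237), (6, 238), (6, 239), (0, 0),
     (7, 235), (7, 236), (7, 237), (7, 238), (7, 239), (0, 0), (0, 0), (0, 0), (0, 0), (25, 225),
     (9, 236), (9, 237), (9, 238), (9, 239), (10, 237), (10, 238), (10, 239), (11, 238), (11, 239),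
     (12, 239), (14, 233), (0, 0), (14, 235), (14, 236), (14, 237), (14, 238), (14, 239), (0, 0),
     (0, 0), (0, 0), (0, 0), (25, 233), (16, 236), (16, 237), (16, 238), (16, 239), (17, 237),
     (17, 238), (17, 239), (18, 238), (18, 239), (19, 239), (0, 0), (0, 0), (0, 0), (25, 235),
     (0, 0), (0, 0), (25, 236), (0, 0), (25, 237), (25, 238), (26, 237), (26, 238), (26, 239),
     (27, 238), (27, 239), (28, 239), (30, 238), (30, 239), (31, 239), (33, 239), (0, 0), (0, 0),
     (39, 236), (0, 0), (39, 237), (39, 238), (0, 0), (42, 237), (42, 238), (44, 238), (46, 238),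
     (46, 239), (47, 239), (49, 239), (52, 239), (0, 0), (58, 237), (58, 238), (60, 238),
     (63, 238), (66, 239), (72, 238), (0, 0), (80, 237), (80, 238), (82, 238), (85, 238),
     (88, 239), (94, 238), (100, 238), (0, 0), (111, 238), (115, 238), (118, 238), (121, 237),
     (120, 238)],
    [(1, 119), (0, 120), (0, 122), (0, 125), (0, 129), (0, 0), (0, 140), (0, 0), (0, 151),
     (0, 155), (0, 158), (0, 160), (0, 161), (1, 161), (0, 168), (0, 173), (0, 0), (0, 0), (0, 0),
     (0, 0), (0, 0), (0, 187), (0, 190), (0, 192), (0, 193), (1, 193), (0, 196), (0, 198),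
     (0, 199), (1, 199), (0, 201), (0, 202), (1, 202), (0, 203), (1, 203), (2, 203), (0, 206),
     (0, 208), (0, 209), (1, 209), (0, 211), (0, 212), (1, 212), (0, 213), (1, 213), (2, 213),
     (0, 0), (0, 0), (0, 0), (0, 0), (0, 0), (0, 0), (0, 0), (0, 0), (0, 0), (0, 0), (0, 220),
     (0, 221), (1, 221), (0, 222), (1, 222), (2, 222), (0, 223), (1, 223), (2, 223), (3, 223),
     (0, 224), (1, 224), (2, 224), (3, 224), (4, 224), (0, 225), (1, 225), (2, 225), (3, 225),
     (4, 225), (0, 0), (6, 225), (0, 227), (0, 228), (1, 228), (0, 229), (1, 229), (2, 229),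
     (0, 230), (1, 230), (2, 230), (3, 230), (0, 0), (0, 0), (0, 0), (0, 0), (0, 0), (0, 232),
     (1, 232), (2, 232), (3, 232), (4, 232), (14, 224), (0, 0), (0, 0), (0, 0), (0, 0), (0, 0),
     (0, 0), (0, 234), (1, 234), (2, 234), (3, 234), (4, 234), (0, 235), (1, 235), (2, 235),
     (3, 235), (0, 236), (1, 236), (2, 236), (0, 237), (1, 237), (0, 238), (1, 239), (2, 238),
     (2, 239), (3, 237), (3, 238), (3, 239), (4, 236), (4, 237), (4, 238), (4, 239), (0, 0),
     (0, 0), (0, 0), (0, 0), (0, 0), (0, 0), (6, 235), (6, 236), (6, 237), (6, 238), (6, 239),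
     (15, 225), (0, 0), (0, 0), (0, 0), (0, 0), (0, 0), (8, 235), (8, 236), (8, 237), (8, 238),
     (8, 239), (9, 236), (9, 237), (9, 238), (9, 239), (10, 237), (10, 238), (10, 239), (11, 238),
     (11, 239), (12, 239), (0, 0), (14, 234), (14, 235), (14, 236), (14, 237), (14, 238),
     (14, 239), (15, 235), (15, 236), (15, 237), (15, 238), (15, 239), (0, 0), (0, 0), (0, 0),
     (0, 0), (0, 0), (0, 0), (0, 0), (0, 0), (0, 0), (0, 0), (21, 236), (21, 237), (21, 238),
     (21, 239), (22, 237), (22, 238), (22, 239), (23, 238), (23, 239), (24, 239), (26, 237),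
     (26, 238), (26, 239), (27, 238), (27, 239), (28, 239), (30, 238), (30, 239), (31, 239),
     (33, 239), (36, 237), (36, 238), (36, 239), (37, 238), (37, 239), (38, 239), (40, 238),
     (40, 239), (41, 239), (43, 239), (0, 0), (0, 0), (0, 0), (0, 0), (0, 0), (56, 238), (56, 239),
     (57, 239), (59, 239), (62, 239), (66, 239), (71, 239), (78, 238), (78, 239), (79, 239),
     (81, 239), (84, 239), (0, 0), (93, 239), (0, 0), (105, 239), (110, 239), (114, 239),
     (117, 239), (119, 239), (120, 238)],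
    [(1, 119), (0, 120), (0, 122), (0, 125), (0, 0), (0, 134), (0, 140), (0, 0), (0, 151),
     (0, 155), (0, 158), (0, 160), (0, 161), (1, 161), (0, 168), (0, 0), (0, 177), (0, 0), (0, 0),
     (0, 0), (0, 0), (0, 187), (0, 190), (0, 192), (0, 193), (1, 193), (0, 196), (0, 198),
     (0, 199), (1, 199), (0, 201), (0, 202), (1, 202), (0, 203), (1, 203), (2, 203), (0, 206),
     (0, 208), (0, 209), (1, 209), (0, 0), (0, 0), (0, 0), (0, 0), (0, 0), (0, 0), (0, 215),
     (0, 216), (1, 216), (0, 217), (1, 217), (2, 217), (0, 0), (0, 0), (0, 0), (0, 0), (0, 220),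
     (0, 221), (1, 221), (0, 222), (1, 222), (2, 222), (0, 223), (1, 223), (2, 223), (3, 223),
     (0, 224), (1, 224), (2, 224), (3, 224), (5, 223), (0, 225), (1, 225), (2, 225), (3, 225),
     (0, 0), (5, 225), (6, 225), (0, 227), (0, 228), (1, 228), (0, 229), (1, 229), (2, 229),
     (0, 0), (0, 0), (0, 0), (0, 0), (0, 231), (1, 231), (2, 231), (3, 231), (0, 0), (0, 232),
     (1, 232), (2, 232), (3, 232), (14, 223), (5, 232), (0, 0), (0, 0), (0, 0), (0, 0), (0, 0),
     (0, 0), (0, 234), (1, 234), (2, 234), (3, 234), (0, 0), (0, 235), (1, 235), (2, 235),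
     (3, 235), (0, 236), (1, 236), (2, 236), (0, 237), (1, 237), (0, 238), (1, 239), (2, 238),
     (2, 239), (3, 237), (3, 238), (3, 239), (0, 0), (0, 0), (0, 0), (0, 0), (5, 235), (5, 236),
     (5, 237), (5, 238), (5, 239), (6, 234), (0, 0), (6, 236), (6, 237), (6, 238), (6, 239),
     (0, 0), (16, 225), (0, 0), (0, 0), (0, 0), (0, 0), (8, 235), (8, 236), (8, 237), (8, 238),
     (8, 239), (9, 236), (9, 237), (9, 238), (9, 239), (10, 237), (10, 238), (10, 239), (11, 238),
     (11, 239), (12, 239), (0, 0), (14, 234), (14, 235), (14, 236), (14, 237), (14, 238),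
     (14, 239), (16, 234), (0, 0), (0, 0), (0, 0), (0, 0), (16, 236), (16, 237), (16, 238),
     (16, 239), (0, 0), (0, 0), (0, 0), (0, 0), (0, 0), (0, 0), (21, 236), (21, 237), (21, 238),
     (21, 239), (22, 237), (22, 238), (22, 239), (23, 238), (23, 239), (24, 239), (26, 237),
     (26, 238), (26, 239), (27, 238), (27, 239), (28, 239), (30, 238), (30, 239), (31, 239),
     (33, 239), (36, 237), (36, 238), (36, 239), (37, 238), (37, 239), (38, 239), (0, 0), (0, 0),
     (0, 0), (0, 0), (46, 238), (46, 239), (47, 239), (49, 239), (0, 0), (56, 238), (56, 239),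
     (57, 239), (59, 239), (62, 239), (66, 239), (71, 239), (78, 238), (78, 239), (79, 239),
     (81, 239), (0, 0), (88, 239), (93, 239), (0, 0), (105, 239), (110, 239), (114, 239),
     (117, 239), (119, 239), (120, 238)],
    [(1, 119), (0, 120), (0, 122), (0, 0), (0, 129), (0, 134), (0, 140), (0, 0), (0, 151),
     (0, 155), (0, 158), (0, 160), (0, 161), (1, 161), (0, 168), (0, 0), (0, 0), (0, 180), (0, 0),
     (0, 0), (0, 0), (0, 187), (0, 190), (0, 192), (0, 193), (1, 193), (0, 196), (0, 198),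
     (0, 199), (1, 199), (0, 201), (0, 202), (1, 202), (0, 203), (1, 203), (2, 203), (0, 206),
     (0, 0), (0, 0), (0, 0), (0, 211), (0, 212), (1, 212), (0, 0), (0, 0), (0, 0), (0, 215),
     (0, 216), (1, 216), (0, 0), (0, 0), (0, 0), (0, 218), (1, 218), (2, 218), (0, 0), (0, 220),
     (0, 221), (1, 221), (0, 222), (1, 222), (2, 222), (0, 223), (1, 223), (2, 223), (4, 222),
     (0, 224), (1, 224), (2, 224), (5, 222), (4, 224), (0, 225), (1, 225), (2, 225), (0, 0),
     (4, 225), (5, 225), (6, 225), (0, 227), (0, 228), (1, 228), (0, 0), (0, 0), (0, 0), (0, 230),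
     (1, 230), (2, 230), (0, 0), (0, 231), (1, 231), (2, 231), (0, 0), (4, 231), (0, 232),
     (1, 232), (2, 232), (14, 222), (4, 232), (5, 232), (0, 0), (0, 0), (0, 0), (0, 0), (0, 0),
     (0, 0), (0, 234), (1, 234), (2, 234), (0, 0), (4, 234), (0, 235), (1, 235), (2, 235), (0, 0),
     (0, 236), (1, 236), (2, 236), (0, 237), (1, 237), (0, 238), (1, 239), (2, 238), (2, 239),
     (0, 0), (0, 0), (0, 0), (4, 236), (4, 237), (4, 238), (4, 239), (5, 235), (5, 236), (5, 237),
     (5, 238), (5, 239), (6, 234), (6, 235), (0, 0), (6, 237), (6, 238), (6, 239), (0, 0), (0, 0),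
     (17, 225), (0, 0), (0, 0), (0, 0), (8, 235), (8, 236), (8, 237), (8, 238), (8, 239), (9, 236),
     (9, 237), (9, 238), (9, 239), (10, 237), (10, 238), (10, 239), (11, 238), (11, 239),
     (12, 239), (0, 0), (14, 234), (14, 235), (14, 236), (14, 237), (14, 238), (14, 239), (0, 0),
     (17, 234), (0, 0), (0, 0), (0, 0), (17, 235), (0, 0), (0, 0), (0, 0), (17, 237), (17, 238),
     (17, 239), (0, 0), (0, 0), (0, 0), (21, 236), (21, 237), (21, 238), (21, 239), (22, 237),
     (22, 238), (22, 239), (23, 238), (23, 239), (24, 239), (26, 237), (26, 238), (26, 239),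
     (27, 238), (27, 239), (28, 239), (30, 238), (30, 239), (31, 239), (33, 239), (36, 237),
     (36, 238), (36, 239), (0, 0), (0, 0), (0, 0), (40, 238), (40, 239), (41, 239), (0, 0),
     (46, 238), (46, 239), (47, 239), (0, 0), (52, 239), (56, 238), (56, 239), (57, 239),
     (59, 239), (62, 239), (66, 239), (71, 239), (78, 238), (78, 239), (79, 239), (0, 0),
     (84, 239), (88, 239), (93, 239), (0, 0), (105, 239), (110, 239), (114, 239), (117, 239),
     (119, 239), (120, 238)],
    [(1, 119), (0, 120), (0, 0), (0, 125), (0, 129), (0, 134), (0, 140), (0, 0), (0, 151),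
     (0, 155), (0, 158), (0, 160), (0, 161), (1, 161), (0, 168), (0, 0), (0, 0), (0, 0), (0, 182),
     (0, 0), (0, 0), (0, 187), (0, 190), (0, 192), (0, 193), (1, 193), (0, 196), (0, 198),
     (0, 199), (1, 199), (0, 201), (0, 202), (1, 202), (0, 203), (1, 203), (3, 202), (0, 0),
     (0, 208), (0, 0), (0, 0), (0, 211), (0, 0), (0, 0), (0, 213), (1, 213), (0, 0), (0, 215),
     (0, 0), (0, 0), (0, 217), (1, 217), (0, 0), (0, 218), (1, 218), (0, 0), (3, 218), (0, 220),
     (0, 221), (1, 221), (0, 222), (1, 222), (3, 221), (0, 223), (1, 223), (4, 221), (3, 223),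
     (0, 224), (1, 224), (5, 221), (3, 224), (4, 224), (0, 225), (1, 225), (0, 0), (3, 225),
     (4, 225), (5, 225), (6, 225), (0, 227), (0, 0), (0, 0), (0, 229), (1, 229), (0, 0), (0, 230),
     (1, 230), (0, 0), (3, 230), (0, 231), (1, 231), (0, 0), (3, 231), (4, 231), (0, 232),
     (1, 232), (14, 221), (3, 232), (4, 232), (5, 232), (0, 0), (0, 0), (0, 0), (0, 0), (0, 0),
     (0, 0), (0, 234), (1, 234), (0, 0), (3, 234), (4, 234), (0, 235), (1, 235), (0, 0), (3, 235),
     (0, 236), (1, 236), (0, 0), (0, 237), (1, 237), (0, 238), (1, 239), (0, 0), (0, 0), (3, 237),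
     (3, 238), (3, 239), (4, 236), (4, 237), (4, 238), (4, 239), (5, 235), (5, 236), (5, 237),
     (5, 238), (5, 239), (6, 234), (6, 235), (6, 236), (0, 0), (6, 238), (6, 239), (0, 0), (0, 0),
     (0, 0), (18, 225), (0, 0), (0, 0), (8, 235), (8, 236), (8, 237), (8, 238), (8, 239), (9, 236),
     (9, 237), (9, 238), (9, 239), (10, 237), (10, 238), (10, 239), (11, 238), (11, 239),
     (12, 239), (0, 0), (14, 234), (14, 235), (14, 236), (14, 237), (14, 238), (14, 239), (0, 0),
     (0, 0), (18, 234), (0, 0), (0, 0), (0, 0), (18, 235), (0, 0), (0, 0), (18, 236), (0, 0),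
     (0, 0), (18, 238), (18, 239), (0, 0), (21, 236), (21, 237), (21, 238), (21, 239), (22, 237),
     (22, 238), (22, 239), (23, 238), (23, 239), (24, 239), (26, 237), (26, 238), (26, 239),
     (27, 238), (27, 239), (28, 239), (30, 238), (30, 239), (31, 239), (33, 239), (37, 236),
     (0, 0), (0, 0), (37, 238), (37, 239), (0, 0), (40, 238), (40, 239), (0, 0), (43, 239),
     (46, 238), (46, 239), (0, 0), (49, 239), (52, 239), (56, 238), (56, 239), (57, 239),
     (59, 239), (62, 239), (66, 239), (71, 239), (78, 238), (78, 239), (0, 0), (81, 239),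
     (84, 239), (88, 239), (93, 239), (0, 0), (105, 239), (110, 239), (114, 239), (117, 239),
     (119, 239), (120, 238)],
    [(2, 117), (0, 0), (0, 122), (0, 125), (0, 129), (0, 134), (0, 140), (0, 0), (0, 151),
     (0, 155), (0, 158), (0, 160), (0, 161), (2, 160), (0, 168), (0, 0), (0, 0), (0, 0), (0, 0),
     (0, 183), (0, 0), (0, 187), (0, 190), (0, 192), (0, 193), (2, 192), (0, 196), (0, 198),
     (0, 199), (2, 198), (0, 201), (0, 202), (2, 201), (0, 203), (3, 201), (2, 203), (0, 0),
     (0, 0), (0, 209), (0, 0), (0, 0), (0, 212), (0, 0), (0, 213), (0, 0), (2, 213), (0, 0),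
     (0, 216), (0, 0), (0, 217), (0, 0), (2, 217), (0, 218), (0, 0), (2, 218), (3, 218), (0, 220),
     (0, 221), (2, 220), (0, 222), (3, 220), (2, 222), (0, 223), (4, 220), (2, 223), (3, 223),
     (0, 224), (5, 220), (2, 224), (3, 224), (4, 224), (0, 225), (0, 0), (2, 225), (3, 225),
     (4, 225), (5, 225), (6, 225), (0, 0), (0, 228), (0, 0), (0, 229), (0, 0), (2, 229), (0, 230),
     (0, 0), (2, 230), (3, 230), (0, 231), (0, 0), (2, 231), (3, 231), (4, 231), (0, 232),
     (14, 220), (2, 232), (3, 232), (4, 232), (5, 232), (0, 0), (0, 0), (0, 0), (0, 0), (0, 0),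
     (0, 0), (0, 234), (0, 0), (2, 234), (3, 234), (4, 234), (0, 235), (0, 0), (2, 235), (3, 235),
     (0, 236), (0, 0), (2, 236), (0, 237), (0, 0), (0, 238), (0, 0), (2, 238), (2, 239), (3, 237),
     (3, 238), (3, 239), (4, 236), (4, 237), (4, 238), (4, 239), (5, 235), (5, 236), (5, 237),
     (5, 238), (5, 239), (6, 234), (6, 235), (6, 236), (6, 237), (0, 0), (6, 239), (0, 0), (0, 0),
     (0, 0), (0, 0), (19, 225), (0, 0), (8, 235), (8, 236), (8, 237), (8, 238), (8, 239), (9, 236),
     (9, 237), (9, 238), (9, 239), (10, 237), (10, 238), (10, 239), (11, 238), (11, 239),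
     (12, 239), (0, 0), (14, 234), (14, 235), (14, 236), (14, 237), (14, 238), (14, 239), (0, 0),
     (0, 0), (0, 0), (19, 234), (0, 0), (0, 0), (0, 0), (19, 235), (0, 0), (0, 0), (19, 236),
     (0, 0), (19, 237), (0, 0), (19, 239), (21, 236), (21, 237), (21, 238), (21, 239), (22, 237),
     (22, 238), (22, 239), (23, 238), (23, 239), (24, 239), (26, 237), (26, 238), (26, 239),
     (27, 238), (27, 239), (28, 239), (30, 238), (30, 239), (31, 239), (33, 239), (0, 0),
     (38, 236), (0, 0), (38, 237), (0, 0), (38, 239), (41, 237), (0, 0), (41, 239), (43, 239),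
     (47, 237), (0, 0), (47, 239), (49, 239), (52, 239), (56, 238), (56, 239), (57, 239),
     (59, 239), (62, 239), (66, 239), (71, 239), (79, 237), (0, 0), (79, 239), (81, 239),
     (84, 239), (88, 239), (93, 239), (0, 0), (105, 239), (110, 239), (114, 239), (117, 239),
     (119, 239), (122, 237)]
  ]

set_option maxRecDepth 1000000 in
theorem rowsD_E8_130 : rowsDB chevE8 certE8_130 130 = true := by decide +kernel

set_option maxHeartbeats 0 in
/-- certificates for the rows `140..149` -/
def certE8_140 : List (List (ℕ × ℕ)) :=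
  [
    [(0, 0), (2, 118), (1, 121), (1, 124), (1, 128), (1, 133), (1, 139), (0, 0), (1, 150),
     (1, 154), (1, 157), (1, 159), (2, 159), (1, 161), (1, 167), (0, 0), (0, 0), (0, 0), (0, 0),
     (0, 0), (1, 183), (1, 186), (1, 189), (1, 191), (2, 191), (1, 193), (1, 195), (1, 197),
     (2, 197), (1, 199), (1, 200), (2, 200), (1, 202), (3, 200), (1, 203), (2, 203), (0, 0),
     (0, 0), (0, 0), (1, 209), (0, 0), (0, 0), (1, 212), (0, 0), (1, 213), (2, 213), (0, 0),
     (0, 0), (1, 216), (0, 0), (1, 217), (2, 217), (0, 0), (1, 218), (2, 218), (3, 218), (1, 219),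
     (2, 219), (1, 221), (3, 219), (1, 222), (2, 222), (4, 219), (1, 223), (2, 223), (3, 223),
     (5, 219), (1, 224), (2, 224), (3, 224), (4, 224), (0, 0), (1, 225), (2, 225), (3, 225),
     (4, 225), (5, 225), (6, 225), (0, 0), (0, 0), (1, 228), (0, 0), (1, 229), (2, 229), (0, 0),
     (1, 230), (2, 230), (3, 230), (0, 0), (1, 231), (2, 231), (3, 231), (4, 231), (14, 219),
     (1, 232), (2, 232), (3, 232), (4, 232), (5, 232), (0, 0), (0, 0), (0, 0), (0, 0), (0, 0),
     (0, 0), (0, 0), (1, 234), (2, 234), (3, 234), (4, 234), (0, 0), (1, 235), (2, 235), (3, 235),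
     (0, 0), (1, 236), (2, 236), (0, 0), (1, 237), (0, 0), (1, 239), (2, 238), (2, 239), (3, 237),
     (3, 238), (3, 239), (4, 236), (4, 237), (4, 238), (4, 239), (5, 235), (5, 236), (5, 237),
     (5, 238), (5, 239), (6, 234), (6, 235), (6, 236), (6, 237), (6, 238), (0, 0), (0, 0), (0, 0),
     (0, 0), (0, 0), (0, 0), (20, 225), (8, 235), (8, 236), (8, 237), (8, 238), (8, 239), (9, 236),
     (9, 237), (9, 238), (9, 239), (10, 237), (10, 238), (10, 239), (11, 238), (11, 239),
     (12, 239), (0, 0), (14, 234), (14, 235), (14, 236), (14, 237), (14, 238), (14, 239), (0, 0),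
     (0, 0), (0, 0), (0, 0), (20, 234), (0, 0), (0, 0), (0, 0), (20, 235), (0, 0), (0, 0),
     (20, 236), (0, 0), (20, 237), (20, 238), (21, 236), (21, 237), (21, 238), (21, 239),
     (22, 237), (22, 238), (22, 239), (23, 238), (23, 239), (24, 239), (26, 237), (26, 238),
     (26, 239), (27, 238), (27, 239), (28, 239), (30, 238), (30, 239), (31, 239), (33, 239),
     (0, 0), (0, 0), (39, 236), (0, 0), (39, 237), (39, 238), (0, 0), (42, 237), (42, 238),
     (44, 238), (0, 0), (48, 237), (48, 238), (50, 238), (53, 238), (56, 238), (56, 239),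
     (57, 239), (59, 239), (62, 239), (66, 239), (72, 238), (0, 0), (80, 237), (80, 238),
     (82, 238), (85, 238), (89, 238), (93, 239), (0, 0), (106, 238), (111, 238), (115, 238),
     (118, 238), (121, 237), (120, 238)],
    [(1, 119), (0, 120), (0, 122), (0, 125), (0, 129), (0, 0), (0, 0), (0, 146), (0, 151),
     (0, 155), (0, 158), (0, 160), (0, 161), (1, 161), (0, 0), (0, 173), (0, 177), (0, 180),
     (0, 182), (0, 183), (1, 183), (0, 187), (0, 190), (0, 192), (0, 193), (1, 193), (0, 0),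
     (0, 0), (0, 0), (0, 0), (0, 0), (0, 0), (0, 0), (0, 0), (0, 0), (0, 0), (0, 206), (0, 208),
     (0, 209), (1, 209), (0, 211), (0, 212), (1, 212), (0, 213), (1, 213), (2, 213), (0, 215),
     (0, 216), (1, 216), (0, 217), (1, 217), (2, 217), (0, 218), (1, 218), (2, 218), (3, 218),
     (0, 220), (0, 221), (1, 221), (0, 222), (1, 222), (2, 222), (0, 223), (1, 223), (2, 223),
     (3, 223), (0, 0), (0, 0), (0, 0), (0, 0), (0, 0), (0, 225), (1, 225), (2, 225), (3, 225),
     (4, 225), (9, 218), (9, 223), (0, 227), (0, 228), (1, 228), (0, 229), (1, 229), (2, 229),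
     (0, 230), (1, 230), (2, 230), (3, 230), (0, 0), (0, 0), (0, 0), (0, 0), (0, 0), (0, 0),
     (0, 0), (0, 0), (0, 0), (0, 0), (0, 0), (0, 233), (1, 233), (2, 233), (3, 233), (4, 233),
     (16, 218), (0, 234), (1, 234), (2, 234), (3, 234), (4, 234), (0, 235), (1, 235), (2, 235),
     (3, 235), (0, 236), (1, 236), (2, 236), (0, 237), (1, 237), (0, 238), (1, 239), (2, 238),
     (2, 239), (3, 237), (3, 238), (3, 239), (4, 236), (4, 237), (4, 238), (4, 239), (0, 0),
     (0, 0), (0, 0), (0, 0), (0, 0), (21, 223), (0, 0), (0, 0), (0, 0), (0, 0), (0, 0), (0, 0),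
     (7, 235), (7, 236), (7, 237), (7, 238), (7, 239), (8, 235), (8, 236), (8, 237), (8, 238),
     (8, 239), (9, 236), (9, 237), (9, 238), (9, 239), (10, 237), (10, 238), (10, 239), (11, 238),
     (11, 239), (12, 239), (16, 230), (21, 230), (0, 0), (0, 0), (0, 0), (0, 0), (0, 0), (15, 235),
     (15, 236), (15, 237), (15, 238), (15, 239), (16, 236), (16, 237), (16, 238), (16, 239),
     (17, 237), (17, 238), (17, 239), (18, 238), (18, 239), (19, 239), (21, 236), (21, 237),
     (21, 238), (21, 239), (22, 237), (22, 238), (22, 239), (23, 238), (23, 239), (24, 239),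
     (0, 0), (0, 0), (0, 0), (0, 0), (0, 0), (0, 0), (0, 0), (0, 0), (0, 0), (0, 0), (36, 237),
     (36, 238), (36, 239), (37, 238), (37, 239), (38, 239), (40, 238), (40, 239), (41, 239),
     (43, 239), (46, 238), (46, 239), (47, 239), (49, 239), (52, 239), (56, 238), (56, 239),
     (57, 239), (59, 239), (62, 239), (0, 0), (71, 239), (78, 238), (78, 239), (79, 239),
     (81, 239), (84, 239), (0, 0), (0, 0), (99, 239), (105, 239), (110, 239), (114, 239),
     (117, 239), (119, 239), (120, 238)],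
    [(1, 119), (0, 120), (0, 122), (0, 125), (0, 0), (0, 134), (0, 0), (0, 146), (0, 151),
     (0, 155), (0, 158), (0, 160), (0, 161), (1, 161), (0, 0), (0, 173), (0, 177), (0, 180),
     (0, 182), (0, 183), (1, 183), (0, 187), (0, 0), (0, 0), (0, 0), (0, 0), (0, 196), (0, 198),
     (0, 199), (1, 199), (0, 0), (0, 0), (0, 0), (0, 0), (0, 0), (0, 0), (0, 206), (0, 208),
     (0, 209), (1, 209), (0, 211), (0, 212), (1, 212), (0, 213), (1, 213), (2, 213), (0, 215),
     (0, 216), (1, 216), (0, 217), (1, 217), (2, 217), (0, 218), (1, 218), (2, 218), (3, 218),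
     (0, 220), (0, 221), (1, 221), (0, 222), (1, 222), (2, 222), (0, 0), (0, 0), (0, 0), (0, 0),
     (0, 224), (1, 224), (2, 224), (3, 224), (0, 0), (0, 225), (1, 225), (2, 225), (3, 225),
     (8, 218), (5, 225), (8, 224), (0, 227), (0, 228), (1, 228), (0, 229), (1, 229), (2, 229),
     (0, 0), (0, 0), (0, 0), (0, 0), (0, 231), (1, 231), (2, 231), (3, 231), (0, 0), (0, 0),
     (0, 0), (0, 0), (0, 0), (0, 0), (0, 0), (0, 233), (1, 233), (2, 233), (3, 233), (15, 218),
     (5, 233), (0, 234), (1, 234), (2, 234), (3, 234), (0, 0), (0, 235), (1, 235), (2, 235),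
     (3, 235), (0, 236), (1, 236), (2, 236), (0, 237), (1, 237), (0, 238), (1, 239), (2, 238),
     (2, 239), (3, 237), (3, 238), (3, 239), (0, 0), (0, 0), (0, 0), (0, 0), (5, 235), (5, 236),
     (5, 237), (5, 238), (5, 239), (0, 0), (21, 224), (0, 0), (0, 0), (0, 0), (0, 0), (7, 234),
     (0, 0), (7, 236), (7, 237), (7, 238), (7, 239), (8, 235), (8, 236), (8, 237), (8, 238),
     (8, 239), (9, 236), (9, 237), (9, 238), (9, 239), (10, 237), (10, 238), (10, 239), (11, 238),
     (11, 239), (12, 239), (15, 231), (0, 0), (21, 231), (0, 0), (0, 0), (0, 0), (0, 0), (15, 235),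
     (15, 236), (15, 237), (15, 238), (15, 239), (16, 236), (16, 237), (16, 238), (16, 239),
     (17, 237), (17, 238), (17, 239), (18, 238), (18, 239), (19, 239), (21, 236), (21, 237),
     (21, 238), (21, 239), (0, 0), (0, 0), (0, 0), (0, 0), (0, 0), (0, 0), (26, 237), (26, 238),
     (26, 239), (27, 238), (27, 239), (28, 239), (0, 0), (0, 0), (0, 0), (0, 0), (36, 237),
     (36, 238), (36, 239), (37, 238), (37, 239), (38, 239), (40, 238), (40, 239), (41, 239),
     (43, 239), (46, 238), (46, 239), (47, 239), (49, 239), (52, 239), (56, 238), (56, 239),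
     (57, 239), (59, 239), (0, 0), (66, 239), (71, 239), (78, 238), (78, 239), (79, 239),
     (81, 239), (0, 0), (88, 239), (0, 0), (99, 239), (105, 239), (110, 239), (114, 239),
     (117, 239), (119, 239), (120, 238)],
    [(1, 119), (0, 120), (0, 122), (0, 0), (0, 129), (0, 134), (0, 0), (0, 146), (0, 151),
     (0, 155), (0, 158), (0, 160), (0, 161), (1, 161), (0, 0), (0, 173), (0, 177), (0, 180),
     (0, 182), (0, 183), (1, 183), (0, 0), (0, 190), (0, 0), (0, 0), (0, 0), (0, 196), (0, 0),
     (0, 0), (0, 0), (0, 201), (0, 202), (1, 202), (0, 0), (0, 0), (0, 0), (0, 206), (0, 208),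
     (0, 209), (1, 209), (0, 211), (0, 212), (1, 212), (0, 213), (1, 213), (2, 213), (0, 215),
     (0, 216), (1, 216), (0, 217), (1, 217), (2, 217), (0, 218), (1, 218), (2, 218), (4, 217),
     (0, 220), (0, 221), (1, 221), (0, 0), (0, 0), (0, 0), (0, 223), (1, 223), (2, 223), (0, 0),
     (0, 224), (1, 224), (2, 224), (0, 0), (4, 224), (0, 225), (1, 225), (2, 225), (8, 217),
     (4, 225), (5, 225), (8, 224), (0, 227), (0, 228), (1, 228), (0, 0), (0, 0), (0, 0), (0, 230),
     (1, 230), (2, 230), (0, 0), (0, 231), (1, 231), (2, 231), (0, 0), (4, 231), (0, 0), (0, 0),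
     (0, 0), (0, 0), (0, 0), (0, 0), (0, 233), (1, 233), (2, 233), (15, 217), (4, 233), (5, 233),
     (0, 234), (1, 234), (2, 234), (0, 0), (4, 234), (0, 235), (1, 235), (2, 235), (0, 0),
     (0, 236), (1, 236), (2, 236), (0, 237), (1, 237), (0, 238), (1, 239), (2, 238), (2, 239),
     (0, 0), (0, 0), (0, 0), (4, 236), (4, 237), (4, 238), (4, 239), (5, 235), (5, 236), (5, 237),
     (5, 238), (5, 239), (0, 0), (0, 0), (22, 224), (0, 0), (0, 0), (0, 0), (7, 234), (7, 235),
     (0, 0), (7, 237), (7, 238), (7, 239), (8, 235), (8, 236), (8, 237), (8, 238), (8, 239),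
     (9, 236), (9, 237), (9, 238), (9, 239), (10, 237), (10, 238), (10, 239), (11, 238), (11, 239),
     (12, 239), (15, 231), (0, 0), (0, 0), (22, 231), (0, 0), (0, 0), (0, 0), (15, 235), (15, 236),
     (15, 237), (15, 238), (15, 239), (16, 236), (16, 237), (16, 238), (16, 239), (17, 237),
     (17, 238), (17, 239), (18, 238), (18, 239), (19, 239), (22, 235), (0, 0), (0, 0), (0, 0),
     (22, 237), (22, 238), (22, 239), (0, 0), (0, 0), (0, 0), (26, 237), (26, 238), (26, 239),
     (0, 0), (0, 0), (0, 0), (30, 238), (30, 239), (31, 239), (0, 0), (36, 237), (36, 238),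
     (36, 239), (37, 238), (37, 239), (38, 239), (40, 238), (40, 239), (41, 239), (43, 239),
     (46, 238), (46, 239), (47, 239), (49, 239), (52, 239), (56, 238), (56, 239), (57, 239),
     (0, 0), (62, 239), (66, 239), (71, 239), (78, 238), (78, 239), (79, 239), (0, 0), (84, 239),
     (88, 239), (0, 0), (99, 239), (105, 239), (110, 239), (114, 239), (117, 239), (119, 239),
     (120, 238)],
    [(1, 119), (0, 120), (0, 0), (0, 125), (0, 129), (0, 134), (0, 0), (0, 146), (0, 151),
     (0, 155), (0, 158), (0, 160), (0, 161), (1, 161), (0, 0), (0, 173), (0, 177), (0, 180),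
     (0, 182), (0, 183), (1, 183), (0, 0), (0, 0), (0, 192), (0, 0), (0, 0), (0, 0), (0, 198),
     (0, 0), (0, 0), (0, 201), (0, 0), (0, 0), (0, 203), (1, 203), (0, 0), (0, 206), (0, 208),
     (0, 209), (1, 209), (0, 211), (0, 212), (1, 212), (0, 213), (1, 213), (3, 212), (0, 215),
     (0, 216), (1, 216), (0, 217), (1, 217), (3, 216), (0, 218), (1, 218), (4, 216), (3, 218),
     (0, 220), (0, 0), (0, 0), (0, 222), (1, 222), (0, 0), (0, 223), (1, 223), (0, 0), (3, 223),
     (0, 224), (1, 224), (0, 0), (3, 224), (4, 224), (0, 225), (1, 225), (8, 216), (3, 225),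
     (4, 225), (5, 225), (8, 224), (0, 227), (0, 0), (0, 0), (0, 229), (1, 229), (0, 0), (0, 230),
     (1, 230), (0, 0), (3, 230), (0, 231), (1, 231), (0, 0), (3, 231), (4, 231), (0, 0), (0, 0),
     (0, 0), (0, 0), (0, 0), (0, 0), (0, 233), (1, 233), (15, 216), (3, 233), (4, 233), (5, 233),
     (0, 234), (1, 234), (0, 0), (3, 234), (4, 234), (0, 235), (1, 235), (0, 0), (3, 235),
     (0, 236), (1, 236), (0, 0), (0, 237), (1, 237), (0, 238), (1, 239), (0, 0), (0, 0), (3, 237),
     (3, 238), (3, 239), (4, 236), (4, 237), (4, 238), (4, 239), (5, 235), (5, 236), (5, 237),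
     (5, 238), (5, 239), (0, 0), (0, 0), (0, 0), (23, 224), (0, 0), (0, 0), (7, 234), (7, 235),
     (7, 236), (0, 0), (7, 238), (7, 239), (8, 235), (8, 236), (8, 237), (8, 238), (8, 239),
     (9, 236), (9, 237), (9, 238), (9, 239), (10, 237), (10, 238), (10, 239), (11, 238), (11, 239),
     (12, 239), (15, 231), (0, 0), (0, 0), (0, 0), (23, 231), (0, 0), (0, 0), (15, 235), (15, 236),
     (15, 237), (15, 238), (15, 239), (16, 236), (16, 237), (16, 238), (16, 239), (17, 237),
     (17, 238), (17, 239), (18, 238), (18, 239), (19, 239), (0, 0), (23, 235), (0, 0), (0, 0),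
     (23, 236), (0, 0), (0, 0), (23, 238), (23, 239), (0, 0), (27, 236), (0, 0), (0, 0), (27, 238),
     (27, 239), (0, 0), (30, 238), (30, 239), (0, 0), (33, 239), (36, 237), (36, 238), (36, 239),
     (37, 238), (37, 239), (38, 239), (40, 238), (40, 239), (41, 239), (43, 239), (46, 238),
     (46, 239), (47, 239), (49, 239), (52, 239), (56, 238), (56, 239), (0, 0), (59, 239),
     (62, 239), (66, 239), (71, 239), (78, 238), (78, 239), (0, 0), (81, 239), (84, 239),
     (88, 239), (0, 0), (99, 239), (105, 239), (110, 239), (114, 239), (117, 239), (119, 239),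
     (120, 238)],
    [(2, 117), (0, 0), (0, 122), (0, 125), (0, 129), (0, 134), (0, 0), (0, 146), (0, 151),
     (0, 155), (0, 158), (0, 160), (0, 161), (2, 160), (0, 0), (0, 173), (0, 177), (0, 180),
     (0, 182), (0, 183), (2, 182), (0, 0), (0, 0), (0, 0), (0, 193), (0, 0), (0, 0), (0, 0),
     (0, 199), (0, 0), (0, 0), (0, 202), (0, 0), (0, 203), (0, 0), (2, 203), (0, 206), (0, 208),
     (0, 209), (2, 208), (0, 211), (0, 212), (2, 211), (0, 213), (3, 211), (2, 213), (0, 215),
     (0, 216), (2, 215), (0, 217), (3, 215), (2, 217), (0, 218), (4, 215), (2, 218), (3, 218),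
     (0, 0), (0, 221), (0, 0), (0, 222), (0, 0), (2, 222), (0, 223), (0, 0), (2, 223), (3, 223),
     (0, 224), (0, 0), (2, 224), (3, 224), (4, 224), (0, 225), (8, 215), (2, 225), (3, 225),
     (4, 225), (5, 225), (8, 224), (0, 0), (0, 228), (0, 0), (0, 229), (0, 0), (2, 229), (0, 230),
     (0, 0), (2, 230), (3, 230), (0, 231), (0, 0), (2, 231), (3, 231), (4, 231), (0, 0), (0, 0),
     (0, 0), (0, 0), (0, 0), (0, 0), (0, 233), (15, 215), (2, 233), (3, 233), (4, 233), (5, 233),
     (0, 234), (0, 0), (2, 234), (3, 234), (4, 234), (0, 235), (0, 0), (2, 235), (3, 235),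
     (0, 236), (0, 0), (2, 236), (0, 237), (0, 0), (0, 238), (0, 0), (2, 238), (2, 239), (3, 237),
     (3, 238), (3, 239), (4, 236), (4, 237), (4, 238), (4, 239), (5, 235), (5, 236), (5, 237),
     (5, 238), (5, 239), (0, 0), (0, 0), (0, 0), (0, 0), (24, 224), (0, 0), (7, 234), (7, 235),
     (7, 236), (7, 237), (0, 0), (7, 239), (8, 235), (8, 236), (8, 237), (8, 238), (8, 239),
     (9, 236), (9, 237), (9, 238), (9, 239), (10, 237), (10, 238), (10, 239), (11, 238), (11, 239),
     (12, 239), (15, 231), (0, 0), (0, 0), (0, 0), (0, 0), (24, 231), (0, 0), (15, 235), (15, 236),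
     (15, 237), (15, 238), (15, 239), (16, 236), (16, 237), (16, 238), (16, 239), (17, 237),
     (17, 238), (17, 239), (18, 238), (18, 239), (19, 239), (0, 0), (0, 0), (24, 235), (0, 0),
     (0, 0), (24, 236), (0, 0), (24, 237), (0, 0), (24, 239), (0, 0), (28, 236), (0, 0), (28, 237),
     (0, 0), (28, 239), (31, 237), (0, 0), (31, 239), (33, 239), (36, 237), (36, 238), (36, 239),
     (37, 238), (37, 239), (38, 239), (40, 238), (40, 239), (41, 239), (43, 239), (46, 238),
     (46, 239), (47, 239), (49, 239), (52, 239), (57, 237), (0, 0), (57, 239), (59, 239),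
     (62, 239), (66, 239), (71, 239), (79, 237), (0, 0), (79, 239), (81, 239), (84, 239),
     (88, 239), (0, 0), (99, 239), (105, 239), (110, 239), (114, 239), (117, 239), (119, 239),
     (122, 237)],
    [(0, 0), (2, 118), (1, 121), (1, 124), (1, 128), (1, 133), (0, 0), (1, 145), (1, 150),
     (1, 154), (1, 157), (1, 159), (2, 159), (1, 161), (0, 0), (1, 172), (1, 176), (1, 179),
     (1, 181), (2, 181), (1, 183), (0, 0), (0, 0), (0, 0), (0, 0), (1, 193), (0, 0), (0, 0),
     (0, 0), (1, 199), (0, 0), (0, 0), (1, 202), (0, 0), (1, 203), (2, 203), (1, 205), (1, 207),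
     (2, 207), (1, 209), (1, 210), (2, 210), (1, 212), (3, 210), (1, 213), (2, 213), (1, 214),
     (2, 214), (1, 216), (3, 214), (1, 217), (2, 217), (4, 214), (1, 218), (2, 218), (3, 218),
     (0, 0), (0, 0), (1, 221), (0, 0), (1, 222), (2, 222), (0, 0), (1, 223), (2, 223), (3, 223),
     (0, 0), (1, 224), (2, 224), (3, 224), (4, 224), (8, 214), (1, 225), (2, 225), (3, 225),
     (4, 225), (5, 225), (8, 224), (0, 0), (0, 0), (1, 228), (0, 0), (1, 229), (2, 229), (0, 0),
     (1, 230), (2, 230), (3, 230), (0, 0), (1, 231), (2, 231), (3, 231), (4, 231), (0, 0), (0, 0),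
     (0, 0), (0, 0), (0, 0), (0, 0), (15, 214), (1, 233), (2, 233), (3, 233), (4, 233), (5, 233),
     (0, 0), (1, 234), (2, 234), (3, 234), (4, 234), (0, 0), (1, 235), (2, 235), (3, 235), (0, 0),
     (1, 236), (2, 236), (0, 0), (1, 237), (0, 0), (1, 239), (2, 238), (2, 239), (3, 237),
     (3, 238), (3, 239), (4, 236), (4, 237), (4, 238), (4, 239), (5, 235), (5, 236), (5, 237),
     (5, 238), (5, 239), (0, 0), (0, 0), (0, 0), (0, 0), (0, 0), (25, 224), (7, 234), (7, 235),
     (7, 236), (7, 237), (7, 238), (0, 0), (8, 235), (8, 236), (8, 237), (8, 238), (8, 239),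
     (9, 236), (9, 237), (9, 238), (9, 239), (10, 237), (10, 238), (10, 239), (11, 238), (11, 239),
     (12, 239), (15, 231), (0, 0), (0, 0), (0, 0), (0, 0), (0, 0), (25, 231), (15, 235), (15, 236),
     (15, 237), (15, 238), (15, 239), (16, 236), (16, 237), (16, 238), (16, 239), (17, 237),
     (17, 238), (17, 239), (18, 238), (18, 239), (19, 239), (0, 0), (0, 0), (0, 0), (25, 235),
     (0, 0), (0, 0), (25, 236), (0, 0), (25, 237), (25, 238), (0, 0), (0, 0), (29, 236), (0, 0),
     (29, 237), (29, 238), (0, 0), (32, 237), (32, 238), (34, 238), (36, 237), (36, 238),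
     (36, 239), (37, 238), (37, 239), (38, 239), (40, 238), (40, 239), (41, 239), (43, 239),
     (46, 238), (46, 239), (47, 239), (49, 239), (52, 239), (0, 0), (58, 237), (58, 238),
     (60, 238), (63, 238), (67, 238), (71, 239), (0, 0), (80, 237), (80, 238), (82, 238),
     (85, 238), (89, 238), (0, 0), (99, 239), (106, 238), (111, 238), (115, 238), (118, 238),
     (121, 237), (120, 238)],
    [(1, 119), (0, 120), (0, 122), (0, 125), (0, 0), (0, 0), (0, 140), (0, 146), (0, 151),
     (0, 155), (0, 158), (0, 160), (0, 161), (1, 161), (0, 0), (0, 173), (0, 177), (0, 0), (0, 0),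
     (0, 0), (0, 0), (0, 187), (0, 190), (0, 192), (0, 193), (1, 193), (0, 196), (0, 198),
     (0, 199), (1, 199), (0, 0), (0, 0), (0, 0), (0, 0), (0, 0), (0, 0), (0, 206), (0, 208),
     (0, 209), (1, 209), (0, 211), (0, 212), (1, 212), (0, 213), (1, 213), (2, 213), (0, 215),
     (0, 216), (1, 216), (0, 217), (1, 217), (2, 217), (0, 0), (0, 0), (0, 0), (0, 0), (0, 220),
     (0, 221), (1, 221), (0, 222), (1, 222), (2, 222), (0, 223), (1, 223), (2, 223), (3, 223),
     (0, 224), (1, 224), (2, 224), (3, 224), (0, 0), (0, 225), (1, 225), (2, 225), (3, 225),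
     (7, 223), (7, 224), (6, 225), (0, 227), (0, 228), (1, 228), (0, 229), (1, 229), (2, 229),
     (0, 0), (0, 0), (0, 0), (0, 0), (0, 0), (0, 0), (0, 0), (0, 0), (0, 0), (0, 232), (1, 232),
     (2, 232), (3, 232), (0, 0), (0, 0), (0, 233), (1, 233), (2, 233), (3, 233), (0, 0), (0, 0),
     (0, 234), (1, 234), (2, 234), (3, 234), (15, 223), (0, 235), (1, 235), (2, 235), (3, 235),
     (0, 236), (1, 236), (2, 236), (0, 237), (1, 237), (0, 238), (1, 239), (2, 238), (2, 239),
     (3, 237), (3, 238), (3, 239), (0, 0), (0, 0), (0, 0), (0, 0), (16, 224), (0, 0), (0, 0),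
     (0, 0), (0, 0), (6, 234), (6, 235), (6, 236), (6, 237), (6, 238), (6, 239), (7, 234),
     (7, 235), (7, 236), (7, 237), (7, 238), (7, 239), (0, 0), (8, 236), (8, 237), (8, 238),
     (8, 239), (9, 236), (9, 237), (9, 238), (9, 239), (10, 237), (10, 238), (10, 239), (11, 238),
     (11, 239), (12, 239), (0, 0), (15, 232), (16, 232), (0, 0), (0, 0), (0, 0), (0, 0), (15, 235),
     (15, 236), (15, 237), (15, 238), (15, 239), (16, 236), (16, 237), (16, 238), (16, 239),
     (0, 0), (0, 0), (0, 0), (0, 0), (0, 0), (0, 0), (21, 236), (21, 237), (21, 238), (21, 239),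
     (22, 237), (22, 238), (22, 239), (23, 238), (23, 239), (24, 239), (26, 237), (26, 238),
     (26, 239), (27, 238), (27, 239), (28, 239), (0, 0), (0, 0), (0, 0), (0, 0), (36, 237),
     (36, 238), (36, 239), (37, 238), (37, 239), (38, 239), (40, 238), (40, 239), (41, 239),
     (43, 239), (46, 238), (46, 239), (47, 239), (49, 239), (0, 0), (56, 238), (56, 239),
     (57, 239), (59, 239), (62, 239), (66, 239), (71, 239), (78, 238), (78, 239), (79, 239),
     (81, 239), (0, 0), (0, 0), (93, 239), (99, 239), (105, 239), (110, 239), (114, 239),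
     (117, 239), (119, 239), (120, 238)],
    [(1, 119), (0, 120), (0, 122), (0, 0), (0, 129), (0, 0), (0, 140), (0, 146), (0, 151),
     (0, 155), (0, 158), (0, 160), (0, 161), (1, 161), (0, 0), (0, 173), (0, 0), (0, 180), (0, 0),
     (0, 0), (0, 0), (0, 187), (0, 190), (0, 192), (0, 193), (1, 193), (0, 196), (0, 0), (0, 0),
     (0, 0), (0, 201), (0, 202), (1, 202), (0, 0), (0, 0), (0, 0), (0, 206), (0, 208), (0, 209),
     (1, 209), (0, 211), (0, 212), (1, 212), (0, 213), (1, 213), (2, 213), (0, 215), (0, 216),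
     (1, 216), (0, 0), (0, 0), (0, 0), (0, 218), (1, 218), (2, 218), (0, 0), (0, 220), (0, 221),
     (1, 221), (0, 222), (1, 222), (2, 222), (0, 223), (1, 223), (2, 223), (4, 222), (0, 224),
     (1, 224), (2, 224), (0, 0), (4, 224), (0, 225), (1, 225), (2, 225), (7, 222), (4, 225),
     (7, 224), (6, 225), (0, 227), (0, 228), (1, 228), (0, 0), (0, 0), (0, 0), (0, 230), (1, 230),
     (2, 230), (0, 0), (0, 0), (0, 0), (0, 0), (0, 0), (0, 0), (0, 232), (1, 232), (2, 232),
     (0, 0), (4, 232), (0, 0), (0, 233), (1, 233), (2, 233), (0, 0), (4, 233), (0, 0), (0, 234),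
     (1, 234), (2, 234), (15, 222), (4, 234), (0, 235), (1, 235), (2, 235), (0, 0), (0, 236),
     (1, 236), (2, 236), (0, 237), (1, 237), (0, 238), (1, 239), (2, 238), (2, 239), (0, 0),
     (0, 0), (0, 0), (4, 236), (4, 237), (4, 238), (4, 239), (0, 0), (17, 224), (0, 0), (0, 0),
     (0, 0), (6, 234), (6, 235), (6, 236), (6, 237), (6, 238), (6, 239), (7, 234), (7, 235),
     (7, 236), (7, 237), (7, 238), (7, 239), (8, 235), (0, 0), (8, 237), (8, 238), (8, 239),
     (9, 236), (9, 237), (9, 238), (9, 239), (10, 237), (10, 238), (10, 239), (11, 238), (11, 239),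
     (12, 239), (0, 0), (15, 232), (0, 0), (17, 232), (0, 0), (0, 0), (0, 0), (15, 235), (15, 236),
     (15, 237), (15, 238), (15, 239), (17, 235), (0, 0), (0, 0), (0, 0), (17, 237), (17, 238),
     (17, 239), (0, 0), (0, 0), (0, 0), (21, 236), (21, 237), (21, 238), (21, 239), (22, 237),
     (22, 238), (22, 239), (23, 238), (23, 239), (24, 239), (26, 237), (26, 238), (26, 239),
     (0, 0), (0, 0), (0, 0), (30, 238), (30, 239), (31, 239), (0, 0), (36, 237), (36, 238),
     (36, 239), (37, 238), (37, 239), (38, 239), (40, 238), (40, 239), (41, 239), (43, 239),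
     (46, 238), (46, 239), (47, 239), (0, 0), (52, 239), (56, 238), (56, 239), (57, 239),
     (59, 239), (62, 239), (66, 239), (71, 239), (78, 238), (78, 239), (79, 239), (0, 0),
     (84, 239), (0, 0), (93, 239), (99, 239), (105, 239), (110, 239), (114, 239), (117, 239),
     (119, 239), (120, 238)],
    [(1, 119), (0, 120), (0, 0), (0, 125), (0, 129), (0, 0), (0, 140), (0, 146), (0, 151),
     (0, 155), (0, 158), (0, 160), (0, 161), (1, 161), (0, 0), (0, 173), (0, 0), (0, 0), (0, 182),
     (0, 0), (0, 0), (0, 187), (0, 190), (0, 192), (0, 193), (1, 193), (0, 0), (0, 198), (0, 0),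
     (0, 0), (0, 201), (0, 0), (0, 0), (0, 203), (1, 203), (0, 0), (0, 206), (0, 208), (0, 209),
     (1, 209), (0, 211), (0, 212), (1, 212), (0, 213), (1, 213), (3, 212), (0, 215), (0, 0),
     (0, 0), (0, 217), (1, 217), (0, 0), (0, 218), (1, 218), (0, 0), (3, 218), (0, 220), (0, 221),
     (1, 221), (0, 222), (1, 222), (3, 221), (0, 223), (1, 223), (4, 221), (3, 223), (0, 224),
     (1, 224), (0, 0), (3, 224), (4, 224), (0, 225), (1, 225), (7, 221), (3, 225), (4, 225),
     (7, 224), (6, 225), (0, 227), (0, 0), (0, 0), (0, 229), (1, 229), (0, 0), (0, 230), (1, 230),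
     (0, 0), (3, 230), (0, 0), (0, 0), (0, 0), (0, 0), (0, 0), (0, 232), (1, 232), (0, 0),
     (3, 232), (4, 232), (0, 0), (0, 233), (1, 233), (0, 0), (3, 233), (4, 233), (0, 0), (0, 234),
     (1, 234), (15, 221), (3, 234), (4, 234), (0, 235), (1, 235), (0, 0), (3, 235), (0, 236),
     (1, 236), (0, 0), (0, 237), (1, 237), (0, 238), (1, 239), (0, 0), (0, 0), (3, 237), (3, 238),
     (3, 239), (4, 236), (4, 237), (4, 238), (4, 239), (0, 0), (0, 0), (18, 224), (0, 0), (0, 0),
     (6, 234), (6, 235), (6, 236), (6, 237), (6, 238), (6, 239), (7, 234), (7, 235), (7, 236),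
     (7, 237), (7, 238), (7, 239), (8, 235), (8, 236), (0, 0), (8, 238), (8, 239), (9, 236),
     (9, 237), (9, 238), (9, 239), (10, 237), (10, 238), (10, 239), (11, 238), (11, 239),
     (12, 239), (0, 0), (15, 232), (0, 0), (0, 0), (18, 232), (0, 0), (0, 0), (15, 235), (15, 236),
     (15, 237), (15, 238), (15, 239), (0, 0), (18, 235), (0, 0), (0, 0), (18, 236), (0, 0), (0, 0),
     (18, 238), (18, 239), (0, 0), (21, 236), (21, 237), (21, 238), (21, 239), (22, 237),
     (22, 238), (22, 239), (23, 238), (23, 239), (24, 239), (27, 236), (0, 0), (0, 0), (27, 238),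
     (27, 239), (0, 0), (30, 238), (30, 239), (0, 0), (33, 239), (36, 237), (36, 238), (36, 239),
     (37, 238), (37, 239), (38, 239), (40, 238), (40, 239), (41, 239), (43, 239), (46, 238),
     (46, 239), (0, 0), (49, 239), (52, 239), (56, 238), (56, 239), (57, 239), (59, 239),
     (62, 239), (66, 239), (71, 239), (78, 238), (78, 239), (0, 0), (81, 239), (84, 239), (0, 0),
     (93, 239), (99, 239), (105, 239), (110, 239), (114, 239), (117, 239), (119, 239), (120, 238)]
  ]

set_option maxRecDepth 1000000 in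
theorem rowsD_E8_140 : rowsDB chevE8 certE8_140 140 = true := by decide +kernel

set_option maxHeartbeats 0 in
/-- certificates for the rows `150..159` -/
def certE8_150 : List (List (ℕ × ℕ)) :=
  [
    [(2, 117), (0, 0), (0, 122), (0, 125), (0, 129), (0, 0), (0, 140), (0, 146), (0, 151),
     (0, 155), (0, 158), (0, 160), (0, 161), (2, 160), (0, 0), (0, 173), (0, 0), (0, 0), (0, 0),
     (0, 183), (0, 0), (0, 187), (0, 190), (0, 192), (0, 193), (2, 192), (0, 0), (0, 0), (0, 199),
     (0, 0), (0, 0), (0, 202), (0, 0), (0, 203), (0, 0), (2, 203), (0, 206), (0, 208), (0, 209),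
     (2, 208), (0, 211), (0, 212), (2, 211), (0, 213), (3, 211), (2, 213), (0, 0), (0, 216),
     (0, 0), (0, 217), (0, 0), (2, 217), (0, 218), (0, 0), (2, 218), (3, 218), (0, 220), (0, 221),
     (2, 220), (0, 222), (3, 220), (2, 222), (0, 223), (4, 220), (2, 223), (3, 223), (0, 224),
     (0, 0), (2, 224), (3, 224), (4, 224), (0, 225), (7, 220), (2, 225), (3, 225), (4, 225),
     (7, 224), (6, 225), (0, 0), (0, 228), (0, 0), (0, 229), (0, 0), (2, 229), (0, 230), (0, 0),
     (2, 230), (3, 230), (0, 0), (0, 0), (0, 0), (0, 0), (0, 0), (0, 232), (0, 0), (2, 232),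
     (3, 232), (4, 232), (0, 0), (0, 233), (0, 0), (2, 233), (3, 233), (4, 233), (0, 0), (0, 234),
     (15, 220), (2, 234), (3, 234), (4, 234), (0, 235), (0, 0), (2, 235), (3, 235), (0, 236),
     (0, 0), (2, 236), (0, 237), (0, 0), (0, 238), (0, 0), (2, 238), (2, 239), (3, 237), (3, 238),
     (3, 239), (4, 236), (4, 237), (4, 238), (4, 239), (0, 0), (0, 0), (0, 0), (19, 224), (0, 0),
     (6, 234), (6, 235), (6, 236), (6, 237), (6, 238), (6, 239), (7, 234), (7, 235), (7, 236),
     (7, 237), (7, 238), (7, 239), (8, 235), (8, 236), (8, 237), (0, 0), (8, 239), (9, 236),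
     (9, 237), (9, 238), (9, 239), (10, 237), (10, 238), (10, 239), (11, 238), (11, 239),
     (12, 239), (0, 0), (15, 232), (0, 0), (0, 0), (0, 0), (19, 232), (0, 0), (15, 235), (15, 236),
     (15, 237), (15, 238), (15, 239), (0, 0), (0, 0), (19, 235), (0, 0), (0, 0), (19, 236), (0, 0),
     (19, 237), (0, 0), (19, 239), (21, 236), (21, 237), (21, 238), (21, 239), (22, 237),
     (22, 238), (22, 239), (23, 238), (23, 239), (24, 239), (0, 0), (28, 236), (0, 0), (28, 237),
     (0, 0), (28, 239), (31, 237), (0, 0), (31, 239), (33, 239), (36, 237), (36, 238), (36, 239),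
     (37, 238), (37, 239), (38, 239), (40, 238), (40, 239), (41, 239), (43, 239), (47, 237),
     (0, 0), (47, 239), (49, 239), (52, 239), (56, 238), (56, 239), (57, 239), (59, 239),
     (62, 239), (66, 239), (71, 239), (79, 237), (0, 0), (79, 239), (81, 239), (84, 239), (0, 0),
     (93, 239), (99, 239), (105, 239), (110, 239), (114, 239), (117, 239), (119, 239), (122, 237)],
    [(0, 0), (2, 118), (1, 121), (1, 124), (1, 128), (0, 0), (1, 139), (1, 145), (1, 150),
     (1, 154), (1, 157), (1, 159), (2, 159), (1, 161), (0, 0), (1, 172), (0, 0), (0, 0), (0, 0),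
     (0, 0), (1, 183), (1, 186), (1, 189), (1, 191), (2, 191), (1, 193), (0, 0), (0, 0), (0, 0),
     (1, 199), (0, 0), (0, 0), (1, 202), (0, 0), (1, 203), (2, 203), (1, 205), (1, 207), (2, 207),
     (1, 209), (1, 210), (2, 210), (1, 212), (3, 210), (1, 213), (2, 213), (0, 0), (0, 0),
     (1, 216), (0, 0), (1, 217), (2, 217), (0, 0), (1, 218), (2, 218), (3, 218), (1, 219),
     (2, 219), (1, 221), (3, 219), (1, 222), (2, 222), (4, 219), (1, 223), (2, 223), (3, 223),
     (0, 0), (1, 224), (2, 224), (3, 224), (4, 224), (7, 219), (1, 225), (2, 225), (3, 225),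
     (4, 225), (7, 224), (6, 225), (0, 0), (0, 0), (1, 228), (0, 0), (1, 229), (2, 229), (0, 0),
     (1, 230), (2, 230), (3, 230), (0, 0), (0, 0), (0, 0), (0, 0), (0, 0), (0, 0), (1, 232),
     (2, 232), (3, 232), (4, 232), (0, 0), (0, 0), (1, 233), (2, 233), (3, 233), (4, 233), (0, 0),
     (15, 219), (1, 234), (2, 234), (3, 234), (4, 234), (0, 0), (1, 235), (2, 235), (3, 235),
     (0, 0), (1, 236), (2, 236), (0, 0), (1, 237), (0, 0), (1, 239), (2, 238), (2, 239), (3, 237),
     (3, 238), (3, 239), (4, 236), (4, 237), (4, 238), (4, 239), (0, 0), (0, 0), (0, 0), (0, 0),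
     (20, 224), (6, 234), (6, 235), (6, 236), (6, 237), (6, 238), (6, 239), (7, 234), (7, 235),
     (7, 236), (7, 237), (7, 238), (7, 239), (8, 235), (8, 236), (8, 237), (8, 238), (0, 0),
     (9, 236), (9, 237), (9, 238), (9, 239), (10, 237), (10, 238), (10, 239), (11, 238), (11, 239),
     (12, 239), (0, 0), (15, 232), (0, 0), (0, 0), (0, 0), (0, 0), (20, 232), (15, 235), (15, 236),
     (15, 237), (15, 238), (15, 239), (0, 0), (0, 0), (0, 0), (20, 235), (0, 0), (0, 0), (20, 236),
     (0, 0), (20, 237), (20, 238), (21, 236), (21, 237), (21, 238), (21, 239), (22, 237),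
     (22, 238), (22, 239), (23, 238), (23, 239), (24, 239), (0, 0), (0, 0), (29, 236), (0, 0),
     (29, 237), (29, 238), (0, 0), (32, 237), (32, 238), (34, 238), (36, 237), (36, 238),
     (36, 239), (37, 238), (37, 239), (38, 239), (40, 238), (40, 239), (41, 239), (43, 239),
     (0, 0), (48, 237), (48, 238), (50, 238), (53, 238), (56, 238), (56, 239), (57, 239),
     (59, 239), (62, 239), (67, 238), (71, 239), (0, 0), (80, 237), (80, 238), (82, 238),
     (85, 238), (0, 0), (94, 238), (100, 238), (105, 239), (111, 238), (115, 238), (118, 238),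
     (121, 237), (120, 238)],
    [(1, 119), (0, 120), (0, 122), (0, 0), (0, 0), (0, 134), (0, 140), (0, 146), (0, 151),
     (0, 155), (0, 158), (0, 160), (0, 161), (1, 161), (0, 0), (0, 0), (0, 177), (0, 180), (0, 0),
     (0, 0), (0, 0), (0, 187), (0, 190), (0, 0), (0, 0), (0, 0), (0, 196), (0, 198), (0, 199),
     (1, 199), (0, 201), (0, 202), (1, 202), (0, 0), (0, 0), (0, 0), (0, 206), (0, 208), (0, 209),
     (1, 209), (0, 211), (0, 212), (1, 212), (0, 0), (0, 0), (0, 0), (0, 215), (0, 216), (1, 216),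
     (0, 217), (1, 217), (2, 217), (0, 218), (1, 218), (2, 218), (0, 0), (0, 220), (0, 221),
     (1, 221), (0, 222), (1, 222), (2, 222), (0, 223), (1, 223), (2, 223), (0, 0), (0, 224),
     (1, 224), (2, 224), (5, 222), (5, 223), (0, 225), (1, 225), (2, 225), (7, 222), (7, 223),
     (5, 225), (6, 225), (0, 227), (0, 228), (1, 228), (0, 0), (0, 0), (0, 0), (0, 0), (0, 0),
     (0, 0), (0, 0), (0, 231), (1, 231), (2, 231), (0, 0), (0, 0), (0, 232), (1, 232), (2, 232),
     (0, 0), (0, 0), (5, 232), (0, 233), (1, 233), (2, 233), (0, 0), (0, 0), (5, 233), (0, 234),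
     (1, 234), (2, 234), (0, 0), (0, 0), (0, 235), (1, 235), (2, 235), (16, 222), (0, 236),
     (1, 236), (2, 236), (0, 237), (1, 237), (0, 238), (1, 239), (2, 238), (2, 239), (0, 0),
     (0, 0), (0, 0), (17, 223), (0, 0), (0, 0), (0, 0), (5, 235), (5, 236), (5, 237), (5, 238),
     (5, 239), (6, 234), (6, 235), (6, 236), (6, 237), (6, 238), (6, 239), (7, 234), (7, 235),
     (7, 236), (7, 237), (7, 238), (7, 239), (8, 235), (8, 236), (8, 237), (8, 238), (8, 239),
     (0, 0), (9, 237), (9, 238), (9, 239), (10, 237), (10, 238), (10, 239), (11, 238), (11, 239),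
     (12, 239), (0, 0), (0, 0), (16, 232), (17, 232), (0, 0), (0, 0), (0, 0), (16, 234), (17, 234),
     (0, 0), (0, 0), (0, 0), (16, 236), (16, 237), (16, 238), (16, 239), (17, 237), (17, 238),
     (17, 239), (0, 0), (0, 0), (0, 0), (21, 236), (21, 237), (21, 238), (21, 239), (22, 237),
     (22, 238), (22, 239), (0, 0), (0, 0), (0, 0), (26, 237), (26, 238), (26, 239), (27, 238),
     (27, 239), (28, 239), (30, 238), (30, 239), (31, 239), (0, 0), (36, 237), (36, 238),
     (36, 239), (37, 238), (37, 239), (38, 239), (40, 238), (40, 239), (41, 239), (0, 0),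
     (46, 238), (46, 239), (47, 239), (49, 239), (52, 239), (56, 238), (56, 239), (57, 239),
     (59, 239), (62, 239), (66, 239), (71, 239), (78, 238), (78, 239), (79, 239), (0, 0), (0, 0),
     (88, 239), (93, 239), (99, 239), (105, 239), (110, 239), (114, 239), (117, 239), (119, 239),
     (120, 238)],
    [(1, 119), (0, 120), (0, 0), (0, 125), (0, 0), (0, 134), (0, 140), (0, 146), (0, 151),
     (0, 155), (0, 158), (0, 160), (0, 161), (1, 161), (0, 0), (0, 0), (0, 177), (0, 0), (0, 182),
     (0, 0), (0, 0), (0, 187), (0, 0), (0, 192), (0, 0), (0, 0), (0, 196), (0, 198), (0, 199),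
     (1, 199), (0, 201), (0, 0), (0, 0), (0, 203), (1, 203), (0, 0), (0, 206), (0, 208), (0, 209),
     (1, 209), (0, 211), (0, 0), (0, 0), (0, 213), (1, 213), (0, 0), (0, 215), (0, 216), (1, 216),
     (0, 217), (1, 217), (3, 216), (0, 218), (1, 218), (0, 0), (3, 218), (0, 220), (0, 221),
     (1, 221), (0, 222), (1, 222), (3, 221), (0, 223), (1, 223), (0, 0), (3, 223), (0, 224),
     (1, 224), (5, 221), (3, 224), (5, 223), (0, 225), (1, 225), (7, 221), (3, 225), (7, 223),
     (5, 225), (6, 225), (0, 227), (0, 0), (0, 0), (0, 229), (1, 229), (0, 0), (0, 0), (0, 0),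
     (0, 0), (0, 0), (0, 231), (1, 231), (0, 0), (3, 231), (0, 0), (0, 232), (1, 232), (0, 0),
     (3, 232), (0, 0), (5, 232), (0, 233), (1, 233), (0, 0), (3, 233), (0, 0), (5, 233), (0, 234),
     (1, 234), (0, 0), (3, 234), (0, 0), (0, 235), (1, 235), (16, 221), (3, 235), (0, 236),
     (1, 236), (0, 0), (0, 237), (1, 237), (0, 238), (1, 239), (0, 0), (0, 0), (3, 237), (3, 238),
     (3, 239), (0, 0), (18, 223), (0, 0), (0, 0), (5, 235), (5, 236), (5, 237), (5, 238), (5, 239),
     (6, 234), (6, 235), (6, 236), (6, 237), (6, 238), (6, 239), (7, 234), (7, 235), (7, 236),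
     (7, 237), (7, 238), (7, 239), (8, 235), (8, 236), (8, 237), (8, 238), (8, 239), (9, 236),
     (0, 0), (9, 238), (9, 239), (10, 237), (10, 238), (10, 239), (11, 238), (11, 239), (12, 239),
     (0, 0), (0, 0), (16, 232), (0, 0), (18, 232), (0, 0), (0, 0), (16, 234), (0, 0), (18, 234),
     (0, 0), (0, 0), (16, 236), (16, 237), (16, 238), (16, 239), (18, 236), (0, 0), (0, 0),
     (18, 238), (18, 239), (0, 0), (21, 236), (21, 237), (21, 238), (21, 239), (23, 236), (0, 0),
     (0, 0), (23, 238), (23, 239), (0, 0), (26, 237), (26, 238), (26, 239), (27, 238), (27, 239),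
     (28, 239), (30, 238), (30, 239), (0, 0), (33, 239), (36, 237), (36, 238), (36, 239),
     (37, 238), (37, 239), (38, 239), (40, 238), (40, 239), (0, 0), (43, 239), (46, 238),
     (46, 239), (47, 239), (49, 239), (52, 239), (56, 238), (56, 239), (57, 239), (59, 239),
     (62, 239), (66, 239), (71, 239), (78, 238), (78, 239), (0, 0), (81, 239), (0, 0), (88, 239),
     (93, 239), (99, 239), (105, 239), (110, 239), (114, 239), (117, 239), (119, 239), (120, 238)],
    [(2, 117), (0, 0), (0, 122), (0, 125), (0, 0), (0, 134), (0, 140), (0, 146), (0, 151),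
     (0, 155), (0, 158), (0, 160), (0, 161), (2, 160), (0, 0), (0, 0), (0, 177), (0, 0), (0, 0),
     (0, 183), (0, 0), (0, 187), (0, 0), (0, 0), (0, 193), (0, 0), (0, 196), (0, 198), (0, 199),
     (2, 198), (0, 0), (0, 202), (0, 0), (0, 203), (0, 0), (2, 203), (0, 206), (0, 208), (0, 209),
     (2, 208), (0, 0), (0, 212), (0, 0), (0, 213), (0, 0), (2, 213), (0, 215), (0, 216), (2, 215),
     (0, 217), (3, 215), (2, 217), (0, 218), (0, 0), (2, 218), (3, 218), (0, 220), (0, 221),
     (2, 220), (0, 222), (3, 220), (2, 222), (0, 223), (0, 0), (2, 223), (3, 223), (0, 224),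
     (5, 220), (2, 224), (3, 224), (5, 223), (0, 225), (7, 220), (2, 225), (3, 225), (7, 223),
     (5, 225), (6, 225), (0, 0), (0, 228), (0, 0), (0, 229), (0, 0), (2, 229), (0, 0), (0, 0),
     (0, 0), (0, 0), (0, 231), (0, 0), (2, 231), (3, 231), (0, 0), (0, 232), (0, 0), (2, 232),
     (3, 232), (0, 0), (5, 232), (0, 233), (0, 0), (2, 233), (3, 233), (0, 0), (5, 233), (0, 234),
     (0, 0), (2, 234), (3, 234), (0, 0), (0, 235), (16, 220), (2, 235), (3, 235), (0, 236), (0, 0),
     (2, 236), (0, 237), (0, 0), (0, 238), (0, 0), (2, 238), (2, 239), (3, 237), (3, 238),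
     (3, 239), (0, 0), (0, 0), (19, 223), (0, 0), (5, 235), (5, 236), (5, 237), (5, 238), (5, 239),
     (6, 234), (6, 235), (6, 236), (6, 237), (6, 238), (6, 239), (7, 234), (7, 235), (7, 236),
     (7, 237), (7, 238), (7, 239), (8, 235), (8, 236), (8, 237), (8, 238), (8, 239), (9, 236),
     (9, 237), (0, 0), (9, 239), (10, 237), (10, 238), (10, 239), (11, 238), (11, 239), (12, 239),
     (0, 0), (0, 0), (16, 232), (0, 0), (0, 0), (19, 232), (0, 0), (16, 234), (0, 0), (0, 0),
     (19, 234), (0, 0), (16, 236), (16, 237), (16, 238), (16, 239), (0, 0), (19, 236), (0, 0),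
     (19, 237), (0, 0), (19, 239), (21, 236), (21, 237), (21, 238), (21, 239), (0, 0), (24, 236),
     (0, 0), (24, 237), (0, 0), (24, 239), (26, 237), (26, 238), (26, 239), (27, 238), (27, 239),
     (28, 239), (31, 237), (0, 0), (31, 239), (33, 239), (36, 237), (36, 238), (36, 239),
     (37, 238), (37, 239), (38, 239), (41, 237), (0, 0), (41, 239), (43, 239), (46, 238),
     (46, 239), (47, 239), (49, 239), (52, 239), (56, 238), (56, 239), (57, 239), (59, 239),
     (62, 239), (66, 239), (71, 239), (79, 237), (0, 0), (79, 239), (81, 239), (0, 0), (88, 239),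
     (93, 239), (99, 239), (105, 239), (110, 239), (114, 239), (117, 239), (119, 239), (122, 237)],
    [(0, 0), (2, 118), (1, 121), (1, 124), (0, 0), (1, 133), (1, 139), (1, 145), (1, 150),
     (1, 154), (1, 157), (1, 159), (2, 159), (1, 161), (0, 0), (0, 0), (1, 176), (0, 0), (0, 0),
     (0, 0), (1, 183), (1, 186), (0, 0), (0, 0), (0, 0), (1, 193), (1, 195), (1, 197), (2, 197),
     (1, 199), (0, 0), (0, 0), (1, 202), (0, 0), (1, 203), (2, 203), (1, 205), (1, 207), (2, 207),
     (1, 209), (0, 0), (0, 0), (1, 212), (0, 0), (1, 213), (2, 213), (1, 214), (2, 214), (1, 216),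
     (3, 214), (1, 217), (2, 217), (0, 0), (1, 218), (2, 218), (3, 218), (1, 219), (2, 219),
     (1, 221), (3, 219), (1, 222), (2, 222), (0, 0), (1, 223), (2, 223), (3, 223), (5, 219),
     (1, 224), (2, 224), (3, 224), (5, 223), (7, 219), (1, 225), (2, 225), (3, 225), (7, 223),
     (5, 225), (6, 225), (0, 0), (0, 0), (1, 228), (0, 0), (1, 229), (2, 229), (0, 0), (0, 0),
     (0, 0), (0, 0), (0, 0), (1, 231), (2, 231), (3, 231), (0, 0), (0, 0), (1, 232), (2, 232),
     (3, 232), (0, 0), (5, 232), (0, 0), (1, 233), (2, 233), (3, 233), (0, 0), (5, 233), (0, 0),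
     (1, 234), (2, 234), (3, 234), (0, 0), (16, 219), (1, 235), (2, 235), (3, 235), (0, 0),
     (1, 236), (2, 236), (0, 0), (1, 237), (0, 0), (1, 239), (2, 238), (2, 239), (3, 237),
     (3, 238), (3, 239), (0, 0), (0, 0), (0, 0), (20, 223), (5, 235), (5, 236), (5, 237), (5, 238),
     (5, 239), (6, 234), (6, 235), (6, 236), (6, 237), (6, 238), (6, 239), (7, 234), (7, 235),
     (7, 236), (7, 237), (7, 238), (7, 239), (8, 235), (8, 236), (8, 237), (8, 238), (8, 239),
     (9, 236), (9, 237), (9, 238), (0, 0), (10, 237), (10, 238), (10, 239), (11, 238), (11, 239),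
     (12, 239), (0, 0), (0, 0), (16, 232), (0, 0), (0, 0), (0, 0), (20, 232), (16, 234), (0, 0),
     (0, 0), (0, 0), (20, 234), (16, 236), (16, 237), (16, 238), (16, 239), (0, 0), (0, 0),
     (20, 236), (0, 0), (20, 237), (20, 238), (21, 236), (21, 237), (21, 238), (21, 239), (0, 0),
     (0, 0), (25, 236), (0, 0), (25, 237), (25, 238), (26, 237), (26, 238), (26, 239), (27, 238),
     (27, 239), (28, 239), (0, 0), (32, 237), (32, 238), (34, 238), (36, 237), (36, 238),
     (36, 239), (37, 238), (37, 239), (38, 239), (0, 0), (42, 237), (42, 238), (44, 238),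
     (46, 238), (46, 239), (47, 239), (49, 239), (53, 238), (56, 238), (56, 239), (57, 239),
     (59, 239), (63, 238), (66, 239), (71, 239), (0, 0), (80, 237), (80, 238), (82, 238), (0, 0),
     (89, 238), (94, 238), (100, 238), (106, 238), (110, 239), (115, 238), (118, 238), (121, 237),
     (120, 238)],
    [(1, 119), (0, 120), (0, 0), (0, 0), (0, 129), (0, 134), (0, 140), (0, 146), (0, 151),
     (0, 155), (0, 158), (0, 160), (0, 161), (1, 161), (0, 0), (0, 0), (0, 0), (0, 180), (0, 182),
     (0, 0), (0, 0), (0, 0), (0, 190), (0, 192), (0, 0), (0, 0), (0, 196), (0, 198), (0, 0),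
     (0, 0), (0, 201), (0, 202), (1, 202), (0, 203), (1, 203), (0, 0), (0, 206), (0, 208), (0, 0),
     (0, 0), (0, 211), (0, 212), (1, 212), (0, 213), (1, 213), (0, 0), (0, 215), (0, 216),
     (1, 216), (0, 217), (1, 217), (0, 0), (0, 218), (1, 218), (4, 216), (4, 217), (0, 220),
     (0, 221), (1, 221), (0, 222), (1, 222), (0, 0), (0, 223), (1, 223), (4, 221), (4, 222),
     (0, 224), (1, 224), (5, 221), (5, 222), (4, 224), (0, 225), (1, 225), (7, 221), (7, 222),
     (4, 225), (5, 225), (6, 225), (0, 227), (0, 0), (0, 0), (0, 0), (0, 0), (0, 0), (0, 230),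
     (1, 230), (0, 0), (0, 0), (0, 231), (1, 231), (0, 0), (0, 0), (4, 231), (0, 232), (1, 232),
     (0, 0), (0, 0), (4, 232), (5, 232), (0, 233), (1, 233), (0, 0), (0, 0), (4, 233), (5, 233),
     (0, 234), (1, 234), (0, 0), (0, 0), (4, 234), (0, 235), (1, 235), (0, 0), (0, 0), (0, 236),
     (1, 236), (17, 221), (0, 237), (1, 237), (0, 238), (1, 239), (0, 0), (0, 0), (18, 222),
     (0, 0), (0, 0), (4, 236), (4, 237), (4, 238), (4, 239), (5, 235), (5, 236), (5, 237),
     (5, 238), (5, 239), (6, 234), (6, 235), (6, 236), (6, 237), (6, 238), (6, 239), (7, 234),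
     (7, 235), (7, 236), (7, 237), (7, 238), (7, 239), (8, 235), (8, 236), (8, 237), (8, 238),
     (8, 239), (9, 236), (9, 237), (9, 238), (9, 239), (0, 0), (10, 238), (10, 239), (11, 238),
     (11, 239), (12, 239), (0, 0), (0, 0), (0, 0), (17, 232), (18, 232), (0, 0), (0, 0), (0, 0),
     (17, 234), (18, 234), (0, 0), (0, 0), (17, 235), (18, 235), (0, 0), (0, 0), (17, 237),
     (17, 238), (17, 239), (18, 238), (18, 239), (0, 0), (22, 235), (23, 235), (0, 0), (0, 0),
     (22, 237), (22, 238), (22, 239), (23, 238), (23, 239), (0, 0), (26, 237), (26, 238),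
     (26, 239), (27, 238), (27, 239), (0, 0), (30, 238), (30, 239), (31, 239), (33, 239),
     (36, 237), (36, 238), (36, 239), (37, 238), (37, 239), (0, 0), (40, 238), (40, 239),
     (41, 239), (43, 239), (46, 238), (46, 239), (47, 239), (49, 239), (52, 239), (56, 238),
     (56, 239), (57, 239), (59, 239), (62, 239), (66, 239), (71, 239), (78, 238), (78, 239),
     (0, 0), (0, 0), (84, 239), (88, 239), (93, 239), (99, 239), (105, 239), (110, 239),
     (114, 239), (117, 239), (119, 239), (120, 238)],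
    [(2, 117), (0, 0), (0, 122), (0, 0), (0, 129), (0, 134), (0, 140), (0, 146), (0, 151),
     (0, 155), (0, 158), (0, 160), (0, 161), (2, 160), (0, 0), (0, 0), (0, 0), (0, 180), (0, 0),
     (0, 183), (0, 0), (0, 0), (0, 190), (0, 0), (0, 193), (0, 0), (0, 196), (0, 0), (0, 199),
     (0, 0), (0, 201), (0, 202), (2, 201), (0, 203), (0, 0), (2, 203), (0, 206), (0, 0), (0, 209),
     (0, 0), (0, 211), (0, 212), (2, 211), (0, 213), (0, 0), (2, 213), (0, 215), (0, 216),
     (2, 215), (0, 217), (0, 0), (2, 217), (0, 218), (4, 215), (2, 218), (4, 217), (0, 220),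
     (0, 221), (2, 220), (0, 222), (0, 0), (2, 222), (0, 223), (4, 220), (2, 223), (4, 222),
     (0, 224), (5, 220), (2, 224), (5, 222), (4, 224), (0, 225), (7, 220), (2, 225), (7, 222),
     (4, 225), (5, 225), (6, 225), (0, 0), (0, 228), (0, 0), (0, 0), (0, 0), (0, 0), (0, 230),
     (0, 0), (2, 230), (0, 0), (0, 231), (0, 0), (2, 231), (0, 0), (4, 231), (0, 232), (0, 0),
     (2, 232), (0, 0), (4, 232), (5, 232), (0, 233), (0, 0), (2, 233), (0, 0), (4, 233), (5, 233),
     (0, 234), (0, 0), (2, 234), (0, 0), (4, 234), (0, 235), (0, 0), (2, 235), (0, 0), (0, 236),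
     (17, 220), (2, 236), (0, 237), (0, 0), (0, 238), (0, 0), (2, 238), (2, 239), (0, 0),
     (19, 222), (0, 0), (4, 236), (4, 237), (4, 238), (4, 239), (5, 235), (5, 236), (5, 237),
     (5, 238), (5, 239), (6, 234), (6, 235), (6, 236), (6, 237), (6, 238), (6, 239), (7, 234),
     (7, 235), (7, 236), (7, 237), (7, 238), (7, 239), (8, 235), (8, 236), (8, 237), (8, 238),
     (8, 239), (9, 236), (9, 237), (9, 238), (9, 239), (10, 237), (0, 0), (10, 239), (11, 238),
     (11, 239), (12, 239), (0, 0), (0, 0), (0, 0), (17, 232), (0, 0), (19, 232), (0, 0), (0, 0),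
     (17, 234), (0, 0), (19, 234), (0, 0), (17, 235), (0, 0), (19, 235), (0, 0), (17, 237),
     (17, 238), (17, 239), (19, 237), (0, 0), (19, 239), (22, 235), (0, 0), (24, 235), (0, 0),
     (22, 237), (22, 238), (22, 239), (24, 237), (0, 0), (24, 239), (26, 237), (26, 238),
     (26, 239), (28, 237), (0, 0), (28, 239), (30, 238), (30, 239), (31, 239), (33, 239),
     (36, 237), (36, 238), (36, 239), (38, 237), (0, 0), (38, 239), (40, 238), (40, 239),
     (41, 239), (43, 239), (46, 238), (46, 239), (47, 239), (49, 239), (52, 239), (56, 238),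
     (56, 239), (57, 239), (59, 239), (62, 239), (66, 239), (71, 239), (79, 237), (0, 0),
     (79, 239), (0, 0), (84, 239), (88, 239), (93, 239), (99, 239), (105, 239), (110, 239),
     (114, 239), (117, 239), (119, 239), (122, 237)],
    [(0, 0), (2, 118), (1, 121), (0, 0), (1, 128), (1, 133), (1, 139), (1, 145), (1, 150),
     (1, 154), (1, 157), (1, 159), (2, 159), (1, 161), (0, 0), (0, 0), (0, 0), (1, 179), (0, 0),
     (0, 0), (1, 183), (0, 0), (1, 189), (0, 0), (0, 0), (1, 193), (1, 195), (0, 0), (0, 0),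
     (1, 199), (1, 200), (2, 200), (1, 202), (0, 0), (1, 203), (2, 203), (1, 205), (0, 0), (0, 0),
     (1, 209), (1, 210), (2, 210), (1, 212), (0, 0), (1, 213), (2, 213), (1, 214), (2, 214),
     (1, 216), (0, 0), (1, 217), (2, 217), (4, 214), (1, 218), (2, 218), (4, 217), (1, 219),
     (2, 219), (1, 221), (0, 0), (1, 222), (2, 222), (4, 219), (1, 223), (2, 223), (4, 222),
     (5, 219), (1, 224), (2, 224), (5, 222), (4, 224), (7, 219), (1, 225), (2, 225), (7, 222),
     (4, 225), (5, 225), (6, 225), (0, 0), (0, 0), (1, 228), (0, 0), (0, 0), (0, 0), (0, 0),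
     (1, 230), (2, 230), (0, 0), (0, 0), (1, 231), (2, 231), (0, 0), (4, 231), (0, 0), (1, 232),
     (2, 232), (0, 0), (4, 232), (5, 232), (0, 0), (1, 233), (2, 233), (0, 0), (4, 233), (5, 233),
     (0, 0), (1, 234), (2, 234), (0, 0), (4, 234), (0, 0), (1, 235), (2, 235), (0, 0), (17, 219),
     (1, 236), (2, 236), (0, 0), (1, 237), (0, 0), (1, 239), (2, 238), (2, 239), (0, 0), (0, 0),
     (20, 222), (4, 236), (4, 237), (4, 238), (4, 239), (5, 235), (5, 236), (5, 237), (5, 238),
     (5, 239), (6, 234), (6, 235), (6, 236), (6, 237), (6, 238), (6, 239), (7, 234), (7, 235),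
     (7, 236), (7, 237), (7, 238), (7, 239), (8, 235), (8, 236), (8, 237), (8, 238), (8, 239),
     (9, 236), (9, 237), (9, 238), (9, 239), (10, 237), (10, 238), (0, 0), (11, 238), (11, 239),
     (12, 239), (0, 0), (0, 0), (0, 0), (17, 232), (0, 0), (0, 0), (20, 232), (0, 0), (17, 234),
     (0, 0), (0, 0), (20, 234), (17, 235), (0, 0), (0, 0), (20, 235), (17, 237), (17, 238),
     (17, 239), (0, 0), (20, 237), (20, 238), (22, 235), (0, 0), (0, 0), (25, 235), (22, 237),
     (22, 238), (22, 239), (0, 0), (25, 237), (25, 238), (26, 237), (26, 238), (26, 239), (0, 0),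
     (29, 237), (29, 238), (30, 238), (30, 239), (31, 239), (34, 238), (36, 237), (36, 238),
     (36, 239), (0, 0), (39, 237), (39, 238), (40, 238), (40, 239), (41, 239), (44, 238),
     (46, 238), (46, 239), (47, 239), (50, 238), (52, 239), (56, 238), (56, 239), (57, 239),
     (60, 238), (62, 239), (66, 239), (71, 239), (0, 0), (80, 237), (80, 238), (0, 0), (85, 238),
     (89, 238), (94, 238), (100, 238), (106, 238), (111, 238), (114, 239), (118, 238), (121, 237),
     (120, 238)],
    [(3, 114), (0, 0), (0, 0), (0, 125), (0, 129), (0, 134), (0, 140), (0, 146), (0, 151),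
     (0, 155), (0, 158), (0, 160), (0, 161), (3, 158), (0, 0), (0, 0), (0, 0), (0, 0), (0, 182),
     (0, 183), (0, 0), (0, 0), (0, 0), (0, 192), (0, 193), (0, 0), (0, 0), (0, 198), (0, 199),
     (0, 0), (0, 201), (0, 202), (0, 0), (0, 203), (3, 201), (3, 202), (0, 0), (0, 208), (0, 209),
     (0, 0), (0, 211), (0, 212), (0, 0), (0, 213), (3, 211), (3, 212), (0, 215), (0, 216), (0, 0),
     (0, 217), (3, 215), (3, 216), (0, 218), (4, 215), (4, 216), (3, 218), (0, 220), (0, 221),
     (0, 0), (0, 222), (3, 220), (3, 221), (0, 223), (4, 220), (4, 221), (3, 223), (0, 224),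
     (5, 220), (5, 221), (3, 224), (4, 224), (0, 225), (7, 220), (7, 221), (3, 225), (4, 225),
     (5, 225), (6, 225), (0, 0), (0, 0), (0, 0), (0, 229), (0, 0), (0, 0), (0, 230), (0, 0),
     (0, 0), (3, 230), (0, 231), (0, 0), (0, 0), (3, 231), (4, 231), (0, 232), (0, 0), (0, 0),
     (3, 232), (4, 232), (5, 232), (0, 233), (0, 0), (0, 0), (3, 233), (4, 233), (5, 233),
     (0, 234), (0, 0), (0, 0), (3, 234), (4, 234), (0, 235), (0, 0), (0, 0), (3, 235), (0, 236),
     (0, 0), (0, 0), (0, 237), (18, 220), (0, 238), (0, 0), (19, 221), (0, 0), (3, 237), (3, 238),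
     (3, 239), (4, 236), (4, 237), (4, 238), (4, 239), (5, 235), (5, 236), (5, 237), (5, 238),
     (5, 239), (6, 234), (6, 235), (6, 236), (6, 237), (6, 238), (6, 239), (7, 234), (7, 235),
     (7, 236), (7, 237), (7, 238), (7, 239), (8, 235), (8, 236), (8, 237), (8, 238), (8, 239),
     (9, 236), (9, 237), (9, 238), (9, 239), (10, 237), (10, 238), (10, 239), (0, 0), (11, 239),
     (12, 239), (0, 0), (0, 0), (0, 0), (0, 0), (18, 232), (19, 232), (0, 0), (0, 0), (0, 0),
     (18, 234), (19, 234), (0, 0), (0, 0), (18, 235), (19, 235), (0, 0), (18, 236), (19, 236),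
     (0, 0), (18, 238), (18, 239), (19, 239), (0, 0), (23, 235), (24, 235), (0, 0), (23, 236),
     (24, 236), (0, 0), (23, 238), (23, 239), (24, 239), (27, 236), (28, 236), (0, 0), (27, 238),
     (27, 239), (28, 239), (30, 238), (30, 239), (31, 239), (33, 239), (37, 236), (38, 236),
     (0, 0), (37, 238), (37, 239), (38, 239), (40, 238), (40, 239), (41, 239), (43, 239),
     (46, 238), (46, 239), (47, 239), (49, 239), (52, 239), (56, 238), (56, 239), (57, 239),
     (59, 239), (62, 239), (66, 239), (71, 239), (81, 236), (0, 0), (0, 0), (81, 239), (84, 239),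
     (88, 239), (93, 239), (99, 239), (105, 239), (110, 239), (114, 239), (117, 239), (119, 239),
     (125, 236)]
  ]

set_option maxRecDepth 1000000 in
theorem rowsD_E8_150 : rowsDB chevE8 certE8_150 150 = true := by decide +kernel

set_option maxHeartbeats 0 in
/-- certificates for the rows `160..169` -/
def certE8_160 : List (List (ℕ × ℕ)) :=
  [
    [(0, 0), (3, 115), (0, 0), (1, 124), (1, 128), (1, 133), (1, 139), (1, 145), (1, 150),
     (1, 154), (1, 157), (1, 159), (3, 157), (1, 161), (0, 0), (0, 0), (0, 0), (0, 0), (1, 181),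
     (0, 0), (1, 183), (0, 0), (0, 0), (1, 191), (0, 0), (1, 193), (0, 0), (1, 197), (0, 0),
     (1, 199), (1, 200), (0, 0), (1, 202), (3, 200), (1, 203), (3, 202), (0, 0), (1, 207), (0, 0),
     (1, 209), (1, 210), (0, 0), (1, 212), (3, 210), (1, 213), (3, 212), (1, 214), (0, 0),
     (1, 216), (3, 214), (1, 217), (3, 216), (4, 214), (1, 218), (4, 216), (3, 218), (1, 219),
     (0, 0), (1, 221), (3, 219), (1, 222), (3, 221), (4, 219), (1, 223), (4, 221), (3, 223),
     (5, 219), (1, 224), (5, 221), (3, 224), (4, 224), (7, 219), (1, 225), (7, 221), (3, 225),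
     (4, 225), (5, 225), (6, 225), (0, 0), (0, 0), (0, 0), (0, 0), (1, 229), (0, 0), (0, 0),
     (1, 230), (0, 0), (3, 230), (0, 0), (1, 231), (0, 0), (3, 231), (4, 231), (0, 0), (1, 232),
     (0, 0), (3, 232), (4, 232), (5, 232), (0, 0), (1, 233), (0, 0), (3, 233), (4, 233), (5, 233),
     (0, 0), (1, 234), (0, 0), (3, 234), (4, 234), (0, 0), (1, 235), (0, 0), (3, 235), (0, 0),
     (1, 236), (0, 0), (18, 219), (1, 237), (0, 0), (1, 239), (0, 0), (20, 221), (3, 237),
     (3, 238), (3, 239), (4, 236), (4, 237), (4, 238), (4, 239), (5, 235), (5, 236), (5, 237),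
     (5, 238), (5, 239), (6, 234), (6, 235), (6, 236), (6, 237), (6, 238), (6, 239), (7, 234),
     (7, 235), (7, 236), (7, 237), (7, 238), (7, 239), (8, 235), (8, 236), (8, 237), (8, 238),
     (8, 239), (9, 236), (9, 237), (9, 238), (9, 239), (10, 237), (10, 238), (10, 239), (11, 238),
     (0, 0), (12, 239), (0, 0), (0, 0), (0, 0), (0, 0), (18, 232), (0, 0), (20, 232), (0, 0),
     (0, 0), (18, 234), (0, 0), (20, 234), (0, 0), (18, 235), (0, 0), (20, 235), (18, 236), (0, 0),
     (20, 236), (18, 238), (18, 239), (20, 238), (0, 0), (23, 235), (0, 0), (25, 235), (23, 236),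
     (0, 0), (25, 236), (23, 238), (23, 239), (25, 238), (27, 236), (0, 0), (29, 236), (27, 238),
     (27, 239), (29, 238), (30, 238), (30, 239), (32, 238), (33, 239), (37, 236), (0, 0),
     (39, 236), (37, 238), (37, 239), (39, 238), (40, 238), (40, 239), (42, 238), (43, 239),
     (46, 238), (46, 239), (48, 238), (49, 239), (52, 239), (56, 238), (56, 239), (58, 238),
     (59, 239), (62, 239), (66, 239), (71, 239), (0, 0), (82, 236), (0, 0), (82, 238), (85, 238),
     (89, 238), (94, 238), (100, 238), (106, 238), (111, 238), (115, 238), (117, 239), (124, 236),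
     (120, 238)],
    [(0, 0), (0, 0), (3, 116), (2, 123), (2, 127), (2, 132), (2, 138), (2, 144), (2, 149),
     (2, 153), (2, 156), (3, 156), (2, 159), (2, 160), (0, 0), (0, 0), (0, 0), (0, 0), (0, 0),
     (2, 181), (2, 182), (0, 0), (0, 0), (0, 0), (2, 191), (2, 192), (0, 0), (0, 0), (2, 197),
     (2, 198), (0, 0), (2, 200), (2, 201), (3, 200), (3, 201), (2, 203), (0, 0), (0, 0), (2, 207),
     (2, 208), (0, 0), (2, 210), (2, 211), (3, 210), (3, 211), (2, 213), (0, 0), (2, 214),
     (2, 215), (3, 214), (3, 215), (2, 217), (4, 214), (4, 215), (2, 218), (3, 218), (0, 0),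
     (2, 219), (2, 220), (3, 219), (3, 220), (2, 222), (4, 219), (4, 220), (2, 223), (3, 223),
     (5, 219), (5, 220), (2, 224), (3, 224), (4, 224), (7, 219), (7, 220), (2, 225), (3, 225),
     (4, 225), (5, 225), (6, 225), (0, 0), (0, 0), (0, 0), (0, 0), (0, 0), (2, 229), (0, 0),
     (0, 0), (2, 230), (3, 230), (0, 0), (0, 0), (2, 231), (3, 231), (4, 231), (0, 0), (0, 0),
     (2, 232), (3, 232), (4, 232), (5, 232), (0, 0), (0, 0), (2, 233), (3, 233), (4, 233),
     (5, 233), (0, 0), (0, 0), (2, 234), (3, 234), (4, 234), (0, 0), (0, 0), (2, 235), (3, 235),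
     (0, 0), (0, 0), (2, 236), (0, 0), (0, 0), (19, 219), (20, 220), (2, 238), (2, 239), (3, 237),
     (3, 238), (3, 239), (4, 236), (4, 237), (4, 238), (4, 239), (5, 235), (5, 236), (5, 237),
     (5, 238), (5, 239), (6, 234), (6, 235), (6, 236), (6, 237), (6, 238), (6, 239), (7, 234),
     (7, 235), (7, 236), (7, 237), (7, 238), (7, 239), (8, 235), (8, 236), (8, 237), (8, 238),
     (8, 239), (9, 236), (9, 237), (9, 238), (9, 239), (10, 237), (10, 238), (10, 239), (11, 238),
     (11, 239), (0, 0), (0, 0), (0, 0), (0, 0), (0, 0), (0, 0), (19, 232), (20, 232), (0, 0),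
     (0, 0), (0, 0), (19, 234), (20, 234), (0, 0), (0, 0), (19, 235), (20, 235), (0, 0), (19, 236),
     (20, 236), (19, 237), (20, 237), (19, 239), (0, 0), (0, 0), (24, 235), (25, 235), (0, 0),
     (24, 236), (25, 236), (24, 237), (25, 237), (24, 239), (0, 0), (28, 236), (29, 236),
     (28, 237), (29, 237), (28, 239), (31, 237), (32, 237), (31, 239), (33, 239), (0, 0),
     (38, 236), (39, 236), (38, 237), (39, 237), (38, 239), (41, 237), (42, 237), (41, 239),
     (43, 239), (47, 237), (48, 237), (47, 239), (49, 239), (52, 239), (57, 237), (58, 237),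
     (57, 239), (59, 239), (62, 239), (66, 239), (71, 239), (0, 0), (0, 0), (83, 236), (83, 237),
     (86, 237), (90, 237), (95, 237), (101, 237), (107, 237), (112, 237), (116, 237), (123, 236),
     (119, 239), (120, 238)],
    [(1, 119), (0, 120), (0, 122), (0, 125), (0, 129), (0, 134), (0, 0), (0, 146), (0, 0), (0, 0),
     (0, 0), (0, 0), (0, 0), (0, 0), (0, 168), (0, 173), (0, 177), (0, 180), (0, 182), (0, 183),
     (1, 183), (0, 187), (0, 190), (0, 192), (0, 193), (1, 193), (0, 196), (0, 198), (0, 199),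
     (1, 199), (0, 201), (0, 202), (1, 202), (0, 203), (1, 203), (2, 203), (0, 206), (0, 208),
     (0, 209), (1, 209), (0, 211), (0, 212), (1, 212), (0, 213), (1, 213), (2, 213), (0, 215),
     (0, 216), (1, 216), (0, 217), (1, 217), (2, 217), (0, 218), (1, 218), (2, 218), (3, 218),
     (0, 0), (0, 0), (0, 0), (0, 0), (0, 0), (0, 0), (0, 0), (0, 0), (0, 0), (0, 0), (0, 0),
     (0, 0), (0, 0), (0, 0), (0, 0), (0, 0), (0, 0), (0, 0), (0, 0), (0, 0), (0, 0), (0, 0),
     (0, 227), (0, 228), (1, 228), (0, 229), (1, 229), (2, 229), (0, 230), (1, 230), (2, 230),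
     (3, 230), (0, 231), (1, 231), (2, 231), (3, 231), (4, 231), (0, 232), (1, 232), (2, 232),
     (3, 232), (4, 232), (5, 232), (0, 233), (1, 233), (2, 233), (3, 233), (4, 233), (5, 233),
     (0, 234), (1, 234), (2, 234), (3, 234), (4, 234), (0, 235), (1, 235), (2, 235), (3, 235),
     (0, 236), (1, 236), (2, 236), (0, 237), (1, 237), (0, 238), (1, 239), (2, 238), (2, 239),
     (3, 237), (3, 238), (3, 239), (4, 236), (4, 237), (4, 238), (4, 239), (5, 235), (5, 236),
     (5, 237), (5, 238), (5, 239), (0, 0), (0, 0), (0, 0), (0, 0), (0, 0), (0, 0), (7, 234),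
     (7, 235), (7, 236), (7, 237), (7, 238), (7, 239), (0, 0), (0, 0), (0, 0), (0, 0), (0, 0),
     (0, 0), (0, 0), (0, 0), (0, 0), (0, 0), (0, 0), (0, 0), (0, 0), (0, 0), (0, 0), (0, 0),
     (14, 234), (14, 235), (14, 236), (14, 237), (14, 238), (14, 239), (15, 235), (15, 236),
     (15, 237), (15, 238), (15, 239), (16, 236), (16, 237), (16, 238), (16, 239), (17, 237),
     (17, 238), (17, 239), (18, 238), (18, 239), (19, 239), (21, 236), (21, 237), (21, 238),
     (21, 239), (22, 237), (22, 238), (22, 239), (23, 238), (23, 239), (24, 239), (26, 237),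
     (26, 238), (26, 239), (27, 238), (27, 239), (28, 239), (30, 238), (30, 239), (31, 239),
     (33, 239), (36, 237), (36, 238), (36, 239), (37, 238), (37, 239), (38, 239), (40, 238),
     (40, 239), (41, 239), (43, 239), (46, 238), (46, 239), (47, 239), (49, 239), (52, 239),
     (0, 0), (0, 0), (0, 0), (0, 0), (0, 0), (0, 0), (0, 0), (78, 238), (78, 239), (79, 239),
     (81, 239), (84, 239), (88, 239), (93, 239), (99, 239), (105, 239), (110, 239), (114, 239),
     (117, 239), (119, 239), (120, 238)],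
    [(1, 119), (0, 120), (0, 122), (0, 125), (0, 129), (0, 0), (0, 140), (0, 0), (0, 151), (0, 0),
     (0, 0), (0, 0), (0, 0), (0, 0), (0, 168), (0, 173), (0, 177), (0, 180), (0, 182), (0, 183),
     (1, 183), (0, 187), (0, 190), (0, 192), (0, 193), (1, 193), (0, 196), (0, 198), (0, 199),
     (1, 199), (0, 201), (0, 202), (1, 202), (0, 203), (1, 203), (2, 203), (0, 206), (0, 208),
     (0, 209), (1, 209), (0, 211), (0, 212), (1, 212), (0, 213), (1, 213), (2, 213), (0, 0),
     (0, 0), (0, 0), (0, 0), (0, 0), (0, 0), (0, 0), (0, 0), (0, 0), (0, 0), (0, 220), (0, 221),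
     (1, 221), (0, 222), (1, 222), (2, 222), (0, 223), (1, 223), (2, 223), (3, 223), (0, 0),
     (0, 0), (0, 0), (0, 0), (0, 0), (0, 0), (0, 0), (0, 0), (0, 0), (0, 0), (0, 0), (0, 0),
     (0, 227), (0, 228), (1, 228), (0, 229), (1, 229), (2, 229), (0, 230), (1, 230), (2, 230),
     (3, 230), (0, 231), (1, 231), (2, 231), (3, 231), (4, 231), (0, 232), (1, 232), (2, 232),
     (3, 232), (4, 232), (6, 231), (0, 233), (1, 233), (2, 233), (3, 233), (4, 233), (0, 0),
     (0, 234), (1, 234), (2, 234), (3, 234), (4, 234), (0, 235), (1, 235), (2, 235), (3, 235),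
     (0, 236), (1, 236), (2, 236), (0, 237), (1, 237), (0, 238), (1, 239), (2, 238), (2, 239),
     (3, 237), (3, 238), (3, 239), (4, 236), (4, 237), (4, 238), (4, 239), (0, 0), (0, 0), (0, 0),
     (0, 0), (0, 0), (6, 234), (6, 235), (6, 236), (6, 237), (6, 238), (6, 239), (8, 233), (0, 0),
     (0, 0), (0, 0), (0, 0), (0, 0), (8, 235), (8, 236), (8, 237), (8, 238), (8, 239), (0, 0),
     (0, 0), (0, 0), (0, 0), (0, 0), (0, 0), (0, 0), (0, 0), (0, 0), (0, 0), (14, 233), (0, 0),
     (14, 235), (14, 236), (14, 237), (14, 238), (14, 239), (15, 235), (15, 236), (15, 237),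
     (15, 238), (15, 239), (16, 236), (16, 237), (16, 238), (16, 239), (17, 237), (17, 238),
     (17, 239), (18, 238), (18, 239), (19, 239), (21, 236), (21, 237), (21, 238), (21, 239),
     (22, 237), (22, 238), (22, 239), (23, 238), (23, 239), (24, 239), (26, 237), (26, 238),
     (26, 239), (27, 238), (27, 239), (28, 239), (30, 238), (30, 239), (31, 239), (33, 239),
     (36, 237), (36, 238), (36, 239), (37, 238), (37, 239), (38, 239), (40, 238), (40, 239),
     (41, 239), (43, 239), (0, 0), (0, 0), (0, 0), (0, 0), (0, 0), (56, 238), (56, 239), (57, 239),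
     (59, 239), (62, 239), (0, 0), (0, 0), (78, 238), (78, 239), (79, 239), (81, 239), (84, 239),
     (88, 239), (93, 239), (99, 239), (105, 239), (110, 239), (114, 239), (117, 239), (119, 239),
     (120, 238)],
    [(1, 119), (0, 120), (0, 122), (0, 125), (0, 0), (0, 134), (0, 140), (0, 0), (0, 0), (0, 155),
     (0, 0), (0, 0), (0, 0), (0, 0), (0, 168), (0, 173), (0, 177), (0, 180), (0, 182), (0, 183),
     (1, 183), (0, 187), (0, 190), (0, 192), (0, 193), (1, 193), (0, 196), (0, 198), (0, 199),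
     (1, 199), (0, 201), (0, 202), (1, 202), (0, 203), (1, 203), (2, 203), (0, 206), (0, 208),
     (0, 209), (1, 209), (0, 0), (0, 0), (0, 0), (0, 0), (0, 0), (0, 0), (0, 215), (0, 216),
     (1, 216), (0, 217), (1, 217), (2, 217), (0, 0), (0, 0), (0, 0), (0, 0), (0, 220), (0, 221),
     (1, 221), (0, 222), (1, 222), (2, 222), (0, 0), (0, 0), (0, 0), (0, 0), (0, 224), (1, 224),
     (2, 224), (3, 224), (0, 0), (0, 0), (0, 0), (0, 0), (0, 0), (0, 0), (0, 0), (0, 0), (0, 227),
     (0, 228), (1, 228), (0, 229), (1, 229), (2, 229), (0, 230), (1, 230), (2, 230), (3, 230),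
     (0, 231), (1, 231), (2, 231), (3, 231), (5, 230), (0, 232), (1, 232), (2, 232), (3, 232),
     (6, 230), (5, 232), (0, 233), (1, 233), (2, 233), (3, 233), (0, 0), (5, 233), (0, 234),
     (1, 234), (2, 234), (3, 234), (0, 0), (0, 235), (1, 235), (2, 235), (3, 235), (0, 236),
     (1, 236), (2, 236), (0, 237), (1, 237), (0, 238), (1, 239), (2, 238), (2, 239), (3, 237),
     (3, 238), (3, 239), (0, 0), (0, 0), (0, 0), (0, 0), (5, 235), (5, 236), (5, 237), (5, 238),
     (5, 239), (6, 234), (6, 235), (6, 236), (6, 237), (6, 238), (6, 239), (0, 0), (9, 233),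
     (0, 0), (0, 0), (0, 0), (0, 0), (9, 234), (0, 0), (0, 0), (0, 0), (0, 0), (9, 236), (9, 237),
     (9, 238), (9, 239), (0, 0), (0, 0), (0, 0), (0, 0), (0, 0), (0, 0), (14, 233), (14, 234),
     (0, 0), (14, 236), (14, 237), (14, 238), (14, 239), (15, 235), (15, 236), (15, 237),
     (15, 238), (15, 239), (16, 236), (16, 237), (16, 238), (16, 239), (17, 237), (17, 238),
     (17, 239), (18, 238), (18, 239), (19, 239), (21, 236), (21, 237), (21, 238), (21, 239),
     (22, 237), (22, 238), (22, 239), (23, 238), (23, 239), (24, 239), (26, 237), (26, 238),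
     (26, 239), (27, 238), (27, 239), (28, 239), (30, 238), (30, 239), (31, 239), (33, 239),
     (36, 237), (36, 238), (36, 239), (37, 238), (37, 239), (38, 239), (0, 0), (0, 0), (0, 0),
     (0, 0), (46, 238), (46, 239), (47, 239), (49, 239), (0, 0), (56, 238), (56, 239), (57, 239),
     (59, 239), (0, 0), (66, 239), (0, 0), (78, 238), (78, 239), (79, 239), (81, 239), (84, 239),
     (88, 239), (93, 239), (99, 239), (105, 239), (110, 239), (114, 239), (117, 239), (119, 239),
     (120, 238)],
    [(1, 119), (0, 120), (0, 122), (0, 0), (0, 129), (0, 134), (0, 140), (0, 0), (0, 0), (0, 0),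
     (0, 158), (0, 0), (0, 0), (0, 0), (0, 168), (0, 173), (0, 177), (0, 180), (0, 182), (0, 183),
     (1, 183), (0, 187), (0, 190), (0, 192), (0, 193), (1, 193), (0, 196), (0, 198), (0, 199),
     (1, 199), (0, 201), (0, 202), (1, 202), (0, 203), (1, 203), (2, 203), (0, 206), (0, 0),
     (0, 0), (0, 0), (0, 211), (0, 212), (1, 212), (0, 0), (0, 0), (0, 0), (0, 215), (0, 216),
     (1, 216), (0, 0), (0, 0), (0, 0), (0, 218), (1, 218), (2, 218), (0, 0), (0, 220), (0, 221),
     (1, 221), (0, 0), (0, 0), (0, 0), (0, 223), (1, 223), (2, 223), (0, 0), (0, 224), (1, 224),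
     (2, 224), (0, 0), (4, 224), (0, 0), (0, 0), (0, 0), (0, 0), (0, 0), (0, 0), (0, 0), (0, 227),
     (0, 228), (1, 228), (0, 229), (1, 229), (2, 229), (0, 230), (1, 230), (2, 230), (4, 229),
     (0, 231), (1, 231), (2, 231), (5, 229), (4, 231), (0, 232), (1, 232), (2, 232), (6, 229),
     (4, 232), (5, 232), (0, 233), (1, 233), (2, 233), (0, 0), (4, 233), (5, 233), (0, 234),
     (1, 234), (2, 234), (0, 0), (4, 234), (0, 235), (1, 235), (2, 235), (0, 0), (0, 236),
     (1, 236), (2, 236), (0, 237), (1, 237), (0, 238), (1, 239), (2, 238), (2, 239), (0, 0),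
     (0, 0), (0, 0), (4, 236), (4, 237), (4, 238), (4, 239), (5, 235), (5, 236), (5, 237),
     (5, 238), (5, 239), (6, 234), (6, 235), (6, 236), (6, 237), (6, 238), (6, 239), (0, 0),
     (0, 0), (10, 233), (0, 0), (0, 0), (0, 0), (0, 0), (10, 234), (0, 0), (0, 0), (0, 0),
     (10, 235), (0, 0), (0, 0), (0, 0), (10, 237), (10, 238), (10, 239), (0, 0), (0, 0), (0, 0),
     (14, 233), (14, 234), (14, 235), (0, 0), (14, 237), (14, 238), (14, 239), (15, 235),
     (15, 236), (15, 237), (15, 238), (15, 239), (16, 236), (16, 237), (16, 238), (16, 239),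
     (17, 237), (17, 238), (17, 239), (18, 238), (18, 239), (19, 239), (21, 236), (21, 237),
     (21, 238), (21, 239), (22, 237), (22, 238), (22, 239), (23, 238), (23, 239), (24, 239),
     (26, 237), (26, 238), (26, 239), (27, 238), (27, 239), (28, 239), (30, 238), (30, 239),
     (31, 239), (33, 239), (36, 237), (36, 238), (36, 239), (0, 0), (0, 0), (0, 0), (40, 238),
     (40, 239), (41, 239), (0, 0), (46, 238), (46, 239), (47, 239), (0, 0), (52, 239), (56, 238),
     (56, 239), (57, 239), (0, 0), (62, 239), (66, 239), (0, 0), (78, 238), (78, 239), (79, 239),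
     (81, 239), (84, 239), (88, 239), (93, 239), (99, 239), (105, 239), (110, 239), (114, 239),
     (117, 239), (119, 239), (120, 238)],
    [(1, 119), (0, 120), (0, 0), (0, 125), (0, 129), (0, 134), (0, 140), (0, 0), (0, 0), (0, 0),
     (0, 0), (0, 160), (0, 0), (0, 0), (0, 168), (0, 173), (0, 177), (0, 180), (0, 182), (0, 183),
     (1, 183), (0, 187), (0, 190), (0, 192), (0, 193), (1, 193), (0, 196), (0, 198), (0, 199),
     (1, 199), (0, 201), (0, 202), (1, 202), (0, 203), (1, 203), (3, 202), (0, 0), (0, 208),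
     (0, 0), (0, 0), (0, 211), (0, 0), (0, 0), (0, 213), (1, 213), (0, 0), (0, 215), (0, 0),
     (0, 0), (0, 217), (1, 217), (0, 0), (0, 218), (1, 218), (0, 0), (3, 218), (0, 220), (0, 0),
     (0, 0), (0, 222), (1, 222), (0, 0), (0, 223), (1, 223), (0, 0), (3, 223), (0, 224), (1, 224),
     (0, 0), (3, 224), (4, 224), (0, 0), (0, 0), (0, 0), (0, 0), (0, 0), (0, 0), (0, 0), (0, 227),
     (0, 228), (1, 228), (0, 229), (1, 229), (3, 228), (0, 230), (1, 230), (4, 228), (3, 230),
     (0, 231), (1, 231), (5, 228), (3, 231), (4, 231), (0, 232), (1, 232), (6, 228), (3, 232),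
     (4, 232), (5, 232), (0, 233), (1, 233), (0, 0), (3, 233), (4, 233), (5, 233), (0, 234),
     (1, 234), (0, 0), (3, 234), (4, 234), (0, 235), (1, 235), (0, 0), (3, 235), (0, 236),
     (1, 236), (0, 0), (0, 237), (1, 237), (0, 238), (1, 239), (0, 0), (0, 0), (3, 237), (3, 238),
     (3, 239), (4, 236), (4, 237), (4, 238), (4, 239), (5, 235), (5, 236), (5, 237), (5, 238),
     (5, 239), (6, 234), (6, 235), (6, 236), (6, 237), (6, 238), (6, 239), (0, 0), (0, 0), (0, 0),
     (11, 233), (0, 0), (0, 0), (0, 0), (0, 0), (11, 234), (0, 0), (0, 0), (0, 0), (11, 235),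
     (0, 0), (0, 0), (11, 236), (0, 0), (0, 0), (11, 238), (11, 239), (0, 0), (14, 233), (14, 234),
     (14, 235), (14, 236), (0, 0), (14, 238), (14, 239), (15, 235), (15, 236), (15, 237),
     (15, 238), (15, 239), (16, 236), (16, 237), (16, 238), (16, 239), (17, 237), (17, 238),
     (17, 239), (18, 238), (18, 239), (19, 239), (21, 236), (21, 237), (21, 238), (21, 239),
     (22, 237), (22, 238), (22, 239), (23, 238), (23, 239), (24, 239), (26, 237), (26, 238),
     (26, 239), (27, 238), (27, 239), (28, 239), (30, 238), (30, 239), (31, 239), (33, 239),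
     (37, 236), (0, 0), (0, 0), (37, 238), (37, 239), (0, 0), (40, 238), (40, 239), (0, 0),
     (43, 239), (46, 238), (46, 239), (0, 0), (49, 239), (52, 239), (56, 238), (56, 239), (0, 0),
     (59, 239), (62, 239), (66, 239), (0, 0), (78, 238), (78, 239), (79, 239), (81, 239),
     (84, 239), (88, 239), (93, 239), (99, 239), (105, 239), (110, 239), (114, 239), (117, 239),
     (119, 239), (120, 238)],
    [(2, 117), (0, 0), (0, 122), (0, 125), (0, 129), (0, 134), (0, 140), (0, 0), (0, 0), (0, 0),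
     (0, 0), (0, 0), (0, 161), (0, 0), (0, 168), (0, 173), (0, 177), (0, 180), (0, 182), (0, 183),
     (2, 182), (0, 187), (0, 190), (0, 192), (0, 193), (2, 192), (0, 196), (0, 198), (0, 199),
     (2, 198), (0, 201), (0, 202), (2, 201), (0, 203), (3, 201), (2, 203), (0, 0), (0, 0),
     (0, 209), (0, 0), (0, 0), (0, 212), (0, 0), (0, 213), (0, 0), (2, 213), (0, 0), (0, 216),
     (0, 0), (0, 217), (0, 0), (2, 217), (0, 218), (0, 0), (2, 218), (3, 218), (0, 0), (0, 221),
     (0, 0), (0, 222), (0, 0), (2, 222), (0, 223), (0, 0), (2, 223), (3, 223), (0, 224), (0, 0),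
     (2, 224), (3, 224), (4, 224), (0, 0), (0, 0), (0, 0), (0, 0), (0, 0), (0, 0), (0, 0),
     (0, 227), (0, 228), (2, 227), (0, 229), (3, 227), (2, 229), (0, 230), (4, 227), (2, 230),
     (3, 230), (0, 231), (5, 227), (2, 231), (3, 231), (4, 231), (0, 232), (6, 227), (2, 232),
     (3, 232), (4, 232), (5, 232), (0, 233), (0, 0), (2, 233), (3, 233), (4, 233), (5, 233),
     (0, 234), (0, 0), (2, 234), (3, 234), (4, 234), (0, 235), (0, 0), (2, 235), (3, 235),
     (0, 236), (0, 0), (2, 236), (0, 237), (0, 0), (0, 238), (0, 0), (2, 238), (2, 239), (3, 237),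
     (3, 238), (3, 239), (4, 236), (4, 237), (4, 238), (4, 239), (5, 235), (5, 236), (5, 237),
     (5, 238), (5, 239), (6, 234), (6, 235), (6, 236), (6, 237), (6, 238), (6, 239), (0, 0),
     (0, 0), (0, 0), (0, 0), (12, 233), (0, 0), (0, 0), (0, 0), (0, 0), (12, 234), (0, 0), (0, 0),
     (0, 0), (12, 235), (0, 0), (0, 0), (12, 236), (0, 0), (12, 237), (0, 0), (12, 239), (14, 233),
     (14, 234), (14, 235), (14, 236), (14, 237), (0, 0), (14, 239), (15, 235), (15, 236),
     (15, 237), (15, 238), (15, 239), (16, 236), (16, 237), (16, 238), (16, 239), (17, 237),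
     (17, 238), (17, 239), (18, 238), (18, 239), (19, 239), (21, 236), (21, 237), (21, 238),
     (21, 239), (22, 237), (22, 238), (22, 239), (23, 238), (23, 239), (24, 239), (26, 237),
     (26, 238), (26, 239), (27, 238), (27, 239), (28, 239), (30, 238), (30, 239), (31, 239),
     (33, 239), (0, 0), (38, 236), (0, 0), (38, 237), (0, 0), (38, 239), (41, 237), (0, 0),
     (41, 239), (43, 239), (47, 237), (0, 0), (47, 239), (49, 239), (52, 239), (57, 237), (0, 0),
     (57, 239), (59, 239), (62, 239), (66, 239), (0, 0), (78, 238), (78, 239), (79, 239),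
     (81, 239), (84, 239), (88, 239), (93, 239), (99, 239), (105, 239), (110, 239), (114, 239),
     (117, 239), (119, 239), (122, 237)],
    [(0, 0), (2, 118), (1, 121), (1, 124), (1, 128), (1, 133), (1, 139), (0, 0), (0, 0), (0, 0),
     (0, 0), (0, 0), (0, 0), (1, 161), (1, 167), (1, 172), (1, 176), (1, 179), (1, 181), (2, 181),
     (1, 183), (1, 186), (1, 189), (1, 191), (2, 191), (1, 193), (1, 195), (1, 197), (2, 197),
     (1, 199), (1, 200), (2, 200), (1, 202), (3, 200), (1, 203), (2, 203), (0, 0), (0, 0), (0, 0),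
     (1, 209), (0, 0), (0, 0), (1, 212), (0, 0), (1, 213), (2, 213), (0, 0), (0, 0), (1, 216),
     (0, 0), (1, 217), (2, 217), (0, 0), (1, 218), (2, 218), (3, 218), (0, 0), (0, 0), (1, 221),
     (0, 0), (1, 222), (2, 222), (0, 0), (1, 223), (2, 223), (3, 223), (0, 0), (1, 224), (2, 224),
     (3, 224), (4, 224), (0, 0), (0, 0), (0, 0), (0, 0), (0, 0), (0, 0), (0, 0), (1, 226),
     (2, 226), (1, 228), (3, 226), (1, 229), (2, 229), (4, 226), (1, 230), (2, 230), (3, 230),
     (5, 226), (1, 231), (2, 231), (3, 231), (4, 231), (6, 226), (1, 232), (2, 232), (3, 232),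
     (4, 232), (5, 232), (0, 0), (1, 233), (2, 233), (3, 233), (4, 233), (5, 233), (0, 0),
     (1, 234), (2, 234), (3, 234), (4, 234), (0, 0), (1, 235), (2, 235), (3, 235), (0, 0),
     (1, 236), (2, 236), (0, 0), (1, 237), (0, 0), (1, 239), (2, 238), (2, 239), (3, 237),
     (3, 238), (3, 239), (4, 236), (4, 237), (4, 238), (4, 239), (5, 235), (5, 236), (5, 237),
     (5, 238), (5, 239), (6, 234), (6, 235), (6, 236), (6, 237), (6, 238), (6, 239), (0, 0),
     (0, 0), (0, 0), (0, 0), (0, 0), (13, 233), (0, 0), (0, 0), (0, 0), (0, 0), (13, 234), (0, 0),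
     (0, 0), (0, 0), (13, 235), (0, 0), (0, 0), (13, 236), (0, 0), (13, 237), (13, 238), (14, 233),
     (14, 234), (14, 235), (14, 236), (14, 237), (14, 238), (0, 0), (15, 235), (15, 236),
     (15, 237), (15, 238), (15, 239), (16, 236), (16, 237), (16, 238), (16, 239), (17, 237),
     (17, 238), (17, 239), (18, 238), (18, 239), (19, 239), (21, 236), (21, 237), (21, 238),
     (21, 239), (22, 237), (22, 238), (22, 239), (23, 238), (23, 239), (24, 239), (26, 237),
     (26, 238), (26, 239), (27, 238), (27, 239), (28, 239), (30, 238), (30, 239), (31, 239),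
     (33, 239), (0, 0), (0, 0), (39, 236), (0, 0), (39, 237), (39, 238), (0, 0), (42, 237),
     (42, 238), (44, 238), (0, 0), (48, 237), (48, 238), (50, 238), (53, 238), (0, 0), (58, 237),
     (58, 238), (60, 238), (63, 238), (67, 238), (0, 0), (78, 238), (78, 239), (79, 239),
     (81, 239), (84, 239), (88, 239), (93, 239), (100, 238), (106, 238), (111, 238), (115, 238),
     (118, 238), (121, 237), (120, 238)],
    [(1, 119), (0, 120), (0, 122), (0, 125), (0, 0), (0, 0), (0, 0), (0, 146), (0, 151), (0, 155),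
     (0, 0), (0, 0), (0, 0), (0, 0), (0, 168), (0, 173), (0, 177), (0, 180), (0, 182), (0, 183),
     (1, 183), (0, 187), (0, 190), (0, 192), (0, 193), (1, 193), (0, 196), (0, 198), (0, 199),
     (1, 199), (0, 0), (0, 0), (0, 0), (0, 0), (0, 0), (0, 0), (0, 206), (0, 208), (0, 209),
     (1, 209), (0, 211), (0, 212), (1, 212), (0, 213), (1, 213), (2, 213), (0, 215), (0, 216),
     (1, 216), (0, 217), (1, 217), (2, 217), (0, 0), (0, 0), (0, 0), (0, 0), (0, 220), (0, 221),
     (1, 221), (0, 222), (1, 222), (2, 222), (0, 0), (0, 0), (0, 0), (0, 0), (0, 0), (0, 0),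
     (0, 0), (0, 0), (0, 0), (0, 225), (1, 225), (2, 225), (3, 225), (0, 0), (0, 0), (0, 0),
     (0, 227), (0, 228), (1, 228), (0, 229), (1, 229), (2, 229), (0, 230), (1, 230), (2, 230),
     (3, 230), (0, 231), (1, 231), (2, 231), (3, 231), (0, 0), (0, 232), (1, 232), (2, 232),
     (3, 232), (0, 0), (0, 0), (0, 233), (1, 233), (2, 233), (3, 233), (7, 230), (7, 231),
     (0, 234), (1, 234), (2, 234), (3, 234), (8, 230), (0, 235), (1, 235), (2, 235), (3, 235),
     (0, 236), (1, 236), (2, 236), (0, 237), (1, 237), (0, 238), (1, 239), (2, 238), (2, 239),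
     (3, 237), (3, 238), (3, 239), (0, 0), (0, 0), (0, 0), (0, 0), (9, 231), (0, 0), (0, 0),
     (0, 0), (0, 0), (8, 232), (9, 232), (0, 0), (0, 0), (0, 0), (0, 0), (7, 234), (7, 235),
     (7, 236), (7, 237), (7, 238), (7, 239), (8, 235), (8, 236), (8, 237), (8, 238), (8, 239),
     (9, 236), (9, 237), (9, 238), (9, 239), (0, 0), (0, 0), (0, 0), (0, 0), (0, 0), (0, 0),
     (14, 233), (14, 234), (14, 235), (14, 236), (14, 237), (14, 238), (14, 239), (0, 0),
     (15, 236), (15, 237), (15, 238), (15, 239), (16, 236), (16, 237), (16, 238), (16, 239),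
     (17, 237), (17, 238), (17, 239), (18, 238), (18, 239), (19, 239), (21, 236), (21, 237),
     (21, 238), (21, 239), (22, 237), (22, 238), (22, 239), (23, 238), (23, 239), (24, 239),
     (26, 237), (26, 238), (26, 239), (27, 238), (27, 239), (28, 239), (0, 0), (0, 0), (0, 0),
     (0, 0), (36, 237), (36, 238), (36, 239), (37, 238), (37, 239), (38, 239), (40, 238),
     (40, 239), (41, 239), (43, 239), (46, 238), (46, 239), (47, 239), (49, 239), (0, 0),
     (56, 238), (56, 239), (57, 239), (59, 239), (0, 0), (0, 0), (71, 239), (78, 238), (78, 239),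
     (79, 239), (81, 239), (84, 239), (88, 239), (93, 239), (99, 239), (105, 239), (110, 239),
     (114, 239), (117, 239), (119, 239), (120, 238)]
  ]

set_option maxRecDepth 1000000 in
theorem rowsD_E8_160 : rowsDB chevE8 certE8_160 160 = true := by decide +kernel

set_option maxHeartbeats 0 in
/-- certificates for the rows `170..179` -/
def certE8_170 : List (List (ℕ × ℕ)) :=
  [
    [(1, 119), (0, 120), (0, 122), (0, 0), (0, 129), (0, 0), (0, 0), (0, 146), (0, 151), (0, 0),
     (0, 158), (0, 0), (0, 0), (0, 0), (0, 168), (0, 173), (0, 177), (0, 180), (0, 182), (0, 183),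
     (1, 183), (0, 187), (0, 190), (0, 192), (0, 193), (1, 193), (0, 196), (0, 0), (0, 0), (0, 0),
     (0, 201), (0, 202), (1, 202), (0, 0), (0, 0), (0, 0), (0, 206), (0, 208), (0, 209), (1, 209),
     (0, 211), (0, 212), (1, 212), (0, 213), (1, 213), (2, 213), (0, 215), (0, 216), (1, 216),
     (0, 0), (0, 0), (0, 0), (0, 218), (1, 218), (2, 218), (0, 0), (0, 220), (0, 221), (1, 221),
     (0, 0), (0, 0), (0, 0), (0, 223), (1, 223), (2, 223), (0, 0), (0, 0), (0, 0), (0, 0), (0, 0),
     (0, 0), (0, 225), (1, 225), (2, 225), (0, 0), (4, 225), (0, 0), (0, 0), (0, 227), (0, 228),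
     (1, 228), (0, 229), (1, 229), (2, 229), (0, 230), (1, 230), (2, 230), (4, 229), (0, 231),
     (1, 231), (2, 231), (0, 0), (4, 231), (0, 232), (1, 232), (2, 232), (0, 0), (4, 232), (0, 0),
     (0, 233), (1, 233), (2, 233), (7, 229), (4, 233), (7, 231), (0, 234), (1, 234), (2, 234),
     (8, 229), (4, 234), (0, 235), (1, 235), (2, 235), (0, 0), (0, 236), (1, 236), (2, 236),
     (0, 237), (1, 237), (0, 238), (1, 239), (2, 238), (2, 239), (0, 0), (0, 0), (0, 0), (4, 236),
     (4, 237), (4, 238), (4, 239), (0, 0), (10, 231), (0, 0), (0, 0), (0, 0), (8, 232), (0, 0),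
     (10, 232), (0, 0), (0, 0), (0, 0), (7, 234), (7, 235), (7, 236), (7, 237), (7, 238), (7, 239),
     (8, 235), (8, 236), (8, 237), (8, 238), (8, 239), (10, 235), (0, 0), (0, 0), (0, 0),
     (10, 237), (10, 238), (10, 239), (0, 0), (0, 0), (0, 0), (14, 233), (14, 234), (14, 235),
     (14, 236), (14, 237), (14, 238), (14, 239), (15, 235), (0, 0), (15, 237), (15, 238),
     (15, 239), (16, 236), (16, 237), (16, 238), (16, 239), (17, 237), (17, 238), (17, 239),
     (18, 238), (18, 239), (19, 239), (21, 236), (21, 237), (21, 238), (21, 239), (22, 237),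
     (22, 238), (22, 239), (23, 238), (23, 239), (24, 239), (26, 237), (26, 238), (26, 239),
     (0, 0), (0, 0), (0, 0), (30, 238), (30, 239), (31, 239), (0, 0), (36, 237), (36, 238),
     (36, 239), (37, 238), (37, 239), (38, 239), (40, 238), (40, 239), (41, 239), (43, 239),
     (46, 238), (46, 239), (47, 239), (0, 0), (52, 239), (56, 238), (56, 239), (57, 239), (0, 0),
     (62, 239), (0, 0), (71, 239), (78, 238), (78, 239), (79, 239), (81, 239), (84, 239),
     (88, 239), (93, 239), (99, 239), (105, 239), (110, 239), (114, 239), (117, 239), (119, 239),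
     (120, 238)],
    [(1, 119), (0, 120), (0, 0), (0, 125), (0, 129), (0, 0), (0, 0), (0, 146), (0, 151), (0, 0),
     (0, 0), (0, 160), (0, 0), (0, 0), (0, 168), (0, 173), (0, 177), (0, 180), (0, 182), (0, 183),
     (1, 183), (0, 187), (0, 190), (0, 192), (0, 193), (1, 193), (0, 0), (0, 198), (0, 0), (0, 0),
     (0, 201), (0, 0), (0, 0), (0, 203), (1, 203), (0, 0), (0, 206), (0, 208), (0, 209), (1, 209),
     (0, 211), (0, 212), (1, 212), (0, 213), (1, 213), (3, 212), (0, 215), (0, 0), (0, 0),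
     (0, 217), (1, 217), (0, 0), (0, 218), (1, 218), (0, 0), (3, 218), (0, 220), (0, 0), (0, 0),
     (0, 222), (1, 222), (0, 0), (0, 223), (1, 223), (0, 0), (3, 223), (0, 0), (0, 0), (0, 0),
     (0, 0), (0, 0), (0, 225), (1, 225), (0, 0), (3, 225), (4, 225), (0, 0), (0, 0), (0, 227),
     (0, 228), (1, 228), (0, 229), (1, 229), (3, 228), (0, 230), (1, 230), (4, 228), (3, 230),
     (0, 231), (1, 231), (0, 0), (3, 231), (4, 231), (0, 232), (1, 232), (0, 0), (3, 232),
     (4, 232), (0, 0), (0, 233), (1, 233), (7, 228), (3, 233), (4, 233), (7, 231), (0, 234),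
     (1, 234), (8, 228), (3, 234), (4, 234), (0, 235), (1, 235), (0, 0), (3, 235), (0, 236),
     (1, 236), (0, 0), (0, 237), (1, 237), (0, 238), (1, 239), (0, 0), (0, 0), (3, 237), (3, 238),
     (3, 239), (4, 236), (4, 237), (4, 238), (4, 239), (0, 0), (0, 0), (11, 231), (0, 0), (0, 0),
     (8, 232), (0, 0), (0, 0), (11, 232), (0, 0), (0, 0), (7, 234), (7, 235), (7, 236), (7, 237),
     (7, 238), (7, 239), (8, 235), (8, 236), (8, 237), (8, 238), (8, 239), (0, 0), (11, 235),
     (0, 0), (0, 0), (11, 236), (0, 0), (0, 0), (11, 238), (11, 239), (0, 0), (14, 233), (14, 234),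
     (14, 235), (14, 236), (14, 237), (14, 238), (14, 239), (15, 235), (15, 236), (0, 0),
     (15, 238), (15, 239), (16, 236), (16, 237), (16, 238), (16, 239), (17, 237), (17, 238),
     (17, 239), (18, 238), (18, 239), (19, 239), (21, 236), (21, 237), (21, 238), (21, 239),
     (22, 237), (22, 238), (22, 239), (23, 238), (23, 239), (24, 239), (27, 236), (0, 0), (0, 0),
     (27, 238), (27, 239), (0, 0), (30, 238), (30, 239), (0, 0), (33, 239), (36, 237), (36, 238),
     (36, 239), (37, 238), (37, 239), (38, 239), (40, 238), (40, 239), (41, 239), (43, 239),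
     (46, 238), (46, 239), (0, 0), (49, 239), (52, 239), (56, 238), (56, 239), (0, 0), (59, 239),
     (62, 239), (0, 0), (71, 239), (78, 238), (78, 239), (79, 239), (81, 239), (84, 239),
     (88, 239), (93, 239), (99, 239), (105, 239), (110, 239), (114, 239), (117, 239), (119, 239),
     (120, 238)],
    [(2, 117), (0, 0), (0, 122), (0, 125), (0, 129), (0, 0), (0, 0), (0, 146), (0, 151), (0, 0),
     (0, 0), (0, 0), (0, 161), (0, 0), (0, 168), (0, 173), (0, 177), (0, 180), (0, 182), (0, 183),
     (2, 182), (0, 187), (0, 190), (0, 192), (0, 193), (2, 192), (0, 0), (0, 0), (0, 199), (0, 0),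
     (0, 0), (0, 202), (0, 0), (0, 203), (0, 0), (2, 203), (0, 206), (0, 208), (0, 209), (2, 208),
     (0, 211), (0, 212), (2, 211), (0, 213), (3, 211), (2, 213), (0, 0), (0, 216), (0, 0),
     (0, 217), (0, 0), (2, 217), (0, 218), (0, 0), (2, 218), (3, 218), (0, 0), (0, 221), (0, 0),
     (0, 222), (0, 0), (2, 222), (0, 223), (0, 0), (2, 223), (3, 223), (0, 0), (0, 0), (0, 0),
     (0, 0), (0, 0), (0, 225), (0, 0), (2, 225), (3, 225), (4, 225), (0, 0), (0, 0), (0, 227),
     (0, 228), (2, 227), (0, 229), (3, 227), (2, 229), (0, 230), (4, 227), (2, 230), (3, 230),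
     (0, 231), (0, 0), (2, 231), (3, 231), (4, 231), (0, 232), (0, 0), (2, 232), (3, 232),
     (4, 232), (0, 0), (0, 233), (7, 227), (2, 233), (3, 233), (4, 233), (7, 231), (0, 234),
     (8, 227), (2, 234), (3, 234), (4, 234), (0, 235), (0, 0), (2, 235), (3, 235), (0, 236),
     (0, 0), (2, 236), (0, 237), (0, 0), (0, 238), (0, 0), (2, 238), (2, 239), (3, 237), (3, 238),
     (3, 239), (4, 236), (4, 237), (4, 238), (4, 239), (0, 0), (0, 0), (0, 0), (12, 231), (0, 0),
     (8, 232), (0, 0), (0, 0), (0, 0), (12, 232), (0, 0), (7, 234), (7, 235), (7, 236), (7, 237),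
     (7, 238), (7, 239), (8, 235), (8, 236), (8, 237), (8, 238), (8, 239), (0, 0), (0, 0),
     (12, 235), (0, 0), (0, 0), (12, 236), (0, 0), (12, 237), (0, 0), (12, 239), (14, 233),
     (14, 234), (14, 235), (14, 236), (14, 237), (14, 238), (14, 239), (15, 235), (15, 236),
     (15, 237), (0, 0), (15, 239), (16, 236), (16, 237), (16, 238), (16, 239), (17, 237),
     (17, 238), (17, 239), (18, 238), (18, 239), (19, 239), (21, 236), (21, 237), (21, 238),
     (21, 239), (22, 237), (22, 238), (22, 239), (23, 238), (23, 239), (24, 239), (0, 0),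
     (28, 236), (0, 0), (28, 237), (0, 0), (28, 239), (31, 237), (0, 0), (31, 239), (33, 239),
     (36, 237), (36, 238), (36, 239), (37, 238), (37, 239), (38, 239), (40, 238), (40, 239),
     (41, 239), (43, 239), (47, 237), (0, 0), (47, 239), (49, 239), (52, 239), (57, 237), (0, 0),
     (57, 239), (59, 239), (62, 239), (0, 0), (71, 239), (78, 238), (78, 239), (79, 239),
     (81, 239), (84, 239), (88, 239), (93, 239), (99, 239), (105, 239), (110, 239), (114, 239),
     (117, 239), (119, 239), (122, 237)],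
    [(0, 0), (2, 118), (1, 121), (1, 124), (1, 128), (0, 0), (0, 0), (1, 145), (1, 150), (0, 0),
     (0, 0), (0, 0), (0, 0), (1, 161), (1, 167), (1, 172), (1, 176), (1, 179), (1, 181), (2, 181),
     (1, 183), (1, 186), (1, 189), (1, 191), (2, 191), (1, 193), (0, 0), (0, 0), (0, 0), (1, 199),
     (0, 0), (0, 0), (1, 202), (0, 0), (1, 203), (2, 203), (1, 205), (1, 207), (2, 207), (1, 209),
     (1, 210), (2, 210), (1, 212), (3, 210), (1, 213), (2, 213), (0, 0), (0, 0), (1, 216), (0, 0),
     (1, 217), (2, 217), (0, 0), (1, 218), (2, 218), (3, 218), (0, 0), (0, 0), (1, 221), (0, 0),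
     (1, 222), (2, 222), (0, 0), (1, 223), (2, 223), (3, 223), (0, 0), (0, 0), (0, 0), (0, 0),
     (0, 0), (0, 0), (1, 225), (2, 225), (3, 225), (4, 225), (0, 0), (0, 0), (1, 226), (2, 226),
     (1, 228), (3, 226), (1, 229), (2, 229), (4, 226), (1, 230), (2, 230), (3, 230), (0, 0),
     (1, 231), (2, 231), (3, 231), (4, 231), (0, 0), (1, 232), (2, 232), (3, 232), (4, 232),
     (0, 0), (7, 226), (1, 233), (2, 233), (3, 233), (4, 233), (7, 231), (8, 226), (1, 234),
     (2, 234), (3, 234), (4, 234), (0, 0), (1, 235), (2, 235), (3, 235), (0, 0), (1, 236),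
     (2, 236), (0, 0), (1, 237), (0, 0), (1, 239), (2, 238), (2, 239), (3, 237), (3, 238),
     (3, 239), (4, 236), (4, 237), (4, 238), (4, 239), (0, 0), (0, 0), (0, 0), (0, 0), (13, 231),
     (8, 232), (0, 0), (0, 0), (0, 0), (0, 0), (13, 232), (7, 234), (7, 235), (7, 236), (7, 237),
     (7, 238), (7, 239), (8, 235), (8, 236), (8, 237), (8, 238), (8, 239), (0, 0), (0, 0), (0, 0),
     (13, 235), (0, 0), (0, 0), (13, 236), (0, 0), (13, 237), (13, 238), (14, 233), (14, 234),
     (14, 235), (14, 236), (14, 237), (14, 238), (14, 239), (15, 235), (15, 236), (15, 237),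
     (15, 238), (0, 0), (16, 236), (16, 237), (16, 238), (16, 239), (17, 237), (17, 238),
     (17, 239), (18, 238), (18, 239), (19, 239), (21, 236), (21, 237), (21, 238), (21, 239),
     (22, 237), (22, 238), (22, 239), (23, 238), (23, 239), (24, 239), (0, 0), (0, 0), (29, 236),
     (0, 0), (29, 237), (29, 238), (0, 0), (32, 237), (32, 238), (34, 238), (36, 237), (36, 238),
     (36, 239), (37, 238), (37, 239), (38, 239), (40, 238), (40, 239), (41, 239), (43, 239),
     (0, 0), (48, 237), (48, 238), (50, 238), (53, 238), (0, 0), (58, 237), (58, 238), (60, 238),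
     (63, 238), (0, 0), (72, 238), (78, 238), (78, 239), (79, 239), (81, 239), (84, 239),
     (89, 238), (94, 238), (99, 239), (105, 239), (111, 238), (115, 238), (118, 238), (121, 237),
     (120, 238)],
    [(1, 119), (0, 120), (0, 122), (0, 0), (0, 0), (0, 134), (0, 0), (0, 146), (0, 0), (0, 155),
     (0, 158), (0, 0), (0, 0), (0, 0), (0, 168), (0, 173), (0, 177), (0, 180), (0, 182), (0, 183),
     (1, 183), (0, 187), (0, 190), (0, 0), (0, 0), (0, 0), (0, 196), (0, 198), (0, 199), (1, 199),
     (0, 201), (0, 202), (1, 202), (0, 0), (0, 0), (0, 0), (0, 206), (0, 208), (0, 209), (1, 209),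
     (0, 211), (0, 212), (1, 212), (0, 0), (0, 0), (0, 0), (0, 215), (0, 216), (1, 216), (0, 217),
     (1, 217), (2, 217), (0, 218), (1, 218), (2, 218), (0, 0), (0, 220), (0, 221), (1, 221),
     (0, 0), (0, 0), (0, 0), (0, 0), (0, 0), (0, 0), (0, 0), (0, 224), (1, 224), (2, 224), (0, 0),
     (0, 0), (0, 225), (1, 225), (2, 225), (0, 0), (0, 0), (5, 225), (0, 0), (0, 227), (0, 228),
     (1, 228), (0, 229), (1, 229), (2, 229), (0, 230), (1, 230), (2, 230), (0, 0), (0, 231),
     (1, 231), (2, 231), (5, 229), (5, 230), (0, 232), (1, 232), (2, 232), (0, 0), (0, 0),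
     (5, 232), (0, 233), (1, 233), (2, 233), (7, 229), (7, 230), (5, 233), (0, 234), (1, 234),
     (2, 234), (0, 0), (0, 0), (0, 235), (1, 235), (2, 235), (9, 229), (0, 236), (1, 236),
     (2, 236), (0, 237), (1, 237), (0, 238), (1, 239), (2, 238), (2, 239), (0, 0), (0, 0), (0, 0),
     (10, 230), (0, 0), (0, 0), (0, 0), (5, 235), (5, 236), (5, 237), (5, 238), (5, 239), (0, 0),
     (9, 232), (10, 232), (0, 0), (0, 0), (0, 0), (7, 234), (7, 235), (7, 236), (7, 237), (7, 238),
     (7, 239), (9, 234), (10, 234), (0, 0), (0, 0), (0, 0), (9, 236), (9, 237), (9, 238), (9, 239),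
     (10, 237), (10, 238), (10, 239), (0, 0), (0, 0), (0, 0), (14, 233), (14, 234), (14, 235),
     (14, 236), (14, 237), (14, 238), (14, 239), (15, 235), (15, 236), (15, 237), (15, 238),
     (15, 239), (0, 0), (16, 237), (16, 238), (16, 239), (17, 237), (17, 238), (17, 239),
     (18, 238), (18, 239), (19, 239), (21, 236), (21, 237), (21, 238), (21, 239), (22, 237),
     (22, 238), (22, 239), (0, 0), (0, 0), (0, 0), (26, 237), (26, 238), (26, 239), (27, 238),
     (27, 239), (28, 239), (30, 238), (30, 239), (31, 239), (0, 0), (36, 237), (36, 238),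
     (36, 239), (37, 238), (37, 239), (38, 239), (40, 238), (40, 239), (41, 239), (0, 0),
     (46, 238), (46, 239), (47, 239), (49, 239), (52, 239), (56, 238), (56, 239), (57, 239),
     (0, 0), (0, 0), (66, 239), (71, 239), (78, 238), (78, 239), (79, 239), (81, 239), (84, 239),
     (88, 239), (93, 239), (99, 239), (105, 239), (110, 239), (114, 239), (117, 239), (119, 239),
     (120, 238)],
    [(1, 119), (0, 120), (0, 0), (0, 125), (0, 0), (0, 134), (0, 0), (0, 146), (0, 0), (0, 155),
     (0, 0), (0, 160), (0, 0), (0, 0), (0, 168), (0, 173), (0, 177), (0, 180), (0, 182), (0, 183),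
     (1, 183), (0, 187), (0, 0), (0, 192), (0, 0), (0, 0), (0, 196), (0, 198), (0, 199), (1, 199),
     (0, 201), (0, 0), (0, 0), (0, 203), (1, 203), (0, 0), (0, 206), (0, 208), (0, 209), (1, 209),
     (0, 211), (0, 0), (0, 0), (0, 213), (1, 213), (0, 0), (0, 215), (0, 216), (1, 216), (0, 217),
     (1, 217), (3, 216), (0, 218), (1, 218), (0, 0), (3, 218), (0, 220), (0, 0), (0, 0), (0, 222),
     (1, 222), (0, 0), (0, 0), (0, 0), (0, 0), (0, 0), (0, 224), (1, 224), (0, 0), (3, 224),
     (0, 0), (0, 225), (1, 225), (0, 0), (3, 225), (0, 0), (5, 225), (0, 0), (0, 227), (0, 228),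
     (1, 228), (0, 229), (1, 229), (3, 228), (0, 230), (1, 230), (0, 0), (3, 230), (0, 231),
     (1, 231), (5, 228), (3, 231), (5, 230), (0, 232), (1, 232), (0, 0), (3, 232), (0, 0),
     (5, 232), (0, 233), (1, 233), (7, 228), (3, 233), (7, 230), (5, 233), (0, 234), (1, 234),
     (0, 0), (3, 234), (0, 0), (0, 235), (1, 235), (9, 228), (3, 235), (0, 236), (1, 236), (0, 0),
     (0, 237), (1, 237), (0, 238), (1, 239), (0, 0), (0, 0), (3, 237), (3, 238), (3, 239), (0, 0),
     (11, 230), (0, 0), (0, 0), (5, 235), (5, 236), (5, 237), (5, 238), (5, 239), (0, 0), (9, 232),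
     (0, 0), (11, 232), (0, 0), (0, 0), (7, 234), (7, 235), (7, 236), (7, 237), (7, 238), (7, 239),
     (9, 234), (0, 0), (11, 234), (0, 0), (0, 0), (9, 236), (9, 237), (9, 238), (9, 239),
     (11, 236), (0, 0), (0, 0), (11, 238), (11, 239), (0, 0), (14, 233), (14, 234), (14, 235),
     (14, 236), (14, 237), (14, 238), (14, 239), (15, 235), (15, 236), (15, 237), (15, 238),
     (15, 239), (16, 236), (0, 0), (16, 238), (16, 239), (17, 237), (17, 238), (17, 239),
     (18, 238), (18, 239), (19, 239), (21, 236), (21, 237), (21, 238), (21, 239), (23, 236),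
     (0, 0), (0, 0), (23, 238), (23, 239), (0, 0), (26, 237), (26, 238), (26, 239), (27, 238),
     (27, 239), (28, 239), (30, 238), (30, 239), (0, 0), (33, 239), (36, 237), (36, 238),
     (36, 239), (37, 238), (37, 239), (38, 239), (40, 238), (40, 239), (0, 0), (43, 239),
     (46, 238), (46, 239), (47, 239), (49, 239), (52, 239), (56, 238), (56, 239), (0, 0),
     (59, 239), (0, 0), (66, 239), (71, 239), (78, 238), (78, 239), (79, 239), (81, 239),
     (84, 239), (88, 239), (93, 239), (99, 239), (105, 239), (110, 239), (114, 239), (117, 239),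
     (119, 239), (120, 238)],
    [(2, 117), (0, 0), (0, 122), (0, 125), (0, 0), (0, 134), (0, 0), (0, 146), (0, 0), (0, 155),
     (0, 0), (0, 0), (0, 161), (0, 0), (0, 168), (0, 173), (0, 177), (0, 180), (0, 182), (0, 183),
     (2, 182), (0, 187), (0, 0), (0, 0), (0, 193), (0, 0), (0, 196), (0, 198), (0, 199), (2, 198),
     (0, 0), (0, 202), (0, 0), (0, 203), (0, 0), (2, 203), (0, 206), (0, 208), (0, 209), (2, 208),
     (0, 0), (0, 212), (0, 0), (0, 213), (0, 0), (2, 213), (0, 215), (0, 216), (2, 215), (0, 217),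
     (3, 215), (2, 217), (0, 218), (0, 0), (2, 218), (3, 218), (0, 0), (0, 221), (0, 0), (0, 222),
     (0, 0), (2, 222), (0, 0), (0, 0), (0, 0), (0, 0), (0, 224), (0, 0), (2, 224), (3, 224),
     (0, 0), (0, 225), (0, 0), (2, 225), (3, 225), (0, 0), (5, 225), (0, 0), (0, 227), (0, 228),
     (2, 227), (0, 229), (3, 227), (2, 229), (0, 230), (0, 0), (2, 230), (3, 230), (0, 231),
     (5, 227), (2, 231), (3, 231), (5, 230), (0, 232), (0, 0), (2, 232), (3, 232), (0, 0),
     (5, 232), (0, 233), (7, 227), (2, 233), (3, 233), (7, 230), (5, 233), (0, 234), (0, 0),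
     (2, 234), (3, 234), (0, 0), (0, 235), (9, 227), (2, 235), (3, 235), (0, 236), (0, 0),
     (2, 236), (0, 237), (0, 0), (0, 238), (0, 0), (2, 238), (2, 239), (3, 237), (3, 238),
     (3, 239), (0, 0), (0, 0), (12, 230), (0, 0), (5, 235), (5, 236), (5, 237), (5, 238), (5, 239),
     (0, 0), (9, 232), (0, 0), (0, 0), (12, 232), (0, 0), (7, 234), (7, 235), (7, 236), (7, 237),
     (7, 238), (7, 239), (9, 234), (0, 0), (0, 0), (12, 234), (0, 0), (9, 236), (9, 237), (9, 238),
     (9, 239), (0, 0), (12, 236), (0, 0), (12, 237), (0, 0), (12, 239), (14, 233), (14, 234),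
     (14, 235), (14, 236), (14, 237), (14, 238), (14, 239), (15, 235), (15, 236), (15, 237),
     (15, 238), (15, 239), (16, 236), (16, 237), (0, 0), (16, 239), (17, 237), (17, 238),
     (17, 239), (18, 238), (18, 239), (19, 239), (21, 236), (21, 237), (21, 238), (21, 239),
     (0, 0), (24, 236), (0, 0), (24, 237), (0, 0), (24, 239), (26, 237), (26, 238), (26, 239),
     (27, 238), (27, 239), (28, 239), (31, 237), (0, 0), (31, 239), (33, 239), (36, 237),
     (36, 238), (36, 239), (37, 238), (37, 239), (38, 239), (41, 237), (0, 0), (41, 239),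
     (43, 239), (46, 238), (46, 239), (47, 239), (49, 239), (52, 239), (57, 237), (0, 0),
     (57, 239), (59, 239), (0, 0), (66, 239), (71, 239), (78, 238), (78, 239), (79, 239),
     (81, 239), (84, 239), (88, 239), (93, 239), (99, 239), (105, 239), (110, 239), (114, 239),
     (117, 239), (119, 239), (122, 237)],
    [(0, 0), (2, 118), (1, 121), (1, 124), (0, 0), (1, 133), (0, 0), (1, 145), (0, 0), (1, 154),
     (0, 0), (0, 0), (0, 0), (1, 161), (1, 167), (1, 172), (1, 176), (1, 179), (1, 181), (2, 181),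
     (1, 183), (1, 186), (0, 0), (0, 0), (0, 0), (1, 193), (1, 195), (1, 197), (2, 197), (1, 199),
     (0, 0), (0, 0), (1, 202), (0, 0), (1, 203), (2, 203), (1, 205), (1, 207), (2, 207), (1, 209),
     (0, 0), (0, 0), (1, 212), (0, 0), (1, 213), (2, 213), (1, 214), (2, 214), (1, 216), (3, 214),
     (1, 217), (2, 217), (0, 0), (1, 218), (2, 218), (3, 218), (0, 0), (0, 0), (1, 221), (0, 0),
     (1, 222), (2, 222), (0, 0), (0, 0), (0, 0), (0, 0), (0, 0), (1, 224), (2, 224), (3, 224),
     (0, 0), (0, 0), (1, 225), (2, 225), (3, 225), (0, 0), (5, 225), (0, 0), (1, 226), (2, 226),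
     (1, 228), (3, 226), (1, 229), (2, 229), (0, 0), (1, 230), (2, 230), (3, 230), (5, 226),
     (1, 231), (2, 231), (3, 231), (5, 230), (0, 0), (1, 232), (2, 232), (3, 232), (0, 0),
     (5, 232), (7, 226), (1, 233), (2, 233), (3, 233), (7, 230), (5, 233), (0, 0), (1, 234),
     (2, 234), (3, 234), (0, 0), (9, 226), (1, 235), (2, 235), (3, 235), (0, 0), (1, 236),
     (2, 236), (0, 0), (1, 237), (0, 0), (1, 239), (2, 238), (2, 239), (3, 237), (3, 238),
     (3, 239), (0, 0), (0, 0), (0, 0), (13, 230), (5, 235), (5, 236), (5, 237), (5, 238), (5, 239),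
     (0, 0), (9, 232), (0, 0), (0, 0), (0, 0), (13, 232), (7, 234), (7, 235), (7, 236), (7, 237),
     (7, 238), (7, 239), (9, 234), (0, 0), (0, 0), (0, 0), (13, 234), (9, 236), (9, 237), (9, 238),
     (9, 239), (0, 0), (0, 0), (13, 236), (0, 0), (13, 237), (13, 238), (14, 233), (14, 234),
     (14, 235), (14, 236), (14, 237), (14, 238), (14, 239), (15, 235), (15, 236), (15, 237),
     (15, 238), (15, 239), (16, 236), (16, 237), (16, 238), (0, 0), (17, 237), (17, 238),
     (17, 239), (18, 238), (18, 239), (19, 239), (21, 236), (21, 237), (21, 238), (21, 239),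
     (0, 0), (0, 0), (25, 236), (0, 0), (25, 237), (25, 238), (26, 237), (26, 238), (26, 239),
     (27, 238), (27, 239), (28, 239), (0, 0), (32, 237), (32, 238), (34, 238), (36, 237),
     (36, 238), (36, 239), (37, 238), (37, 239), (38, 239), (0, 0), (42, 237), (42, 238),
     (44, 238), (46, 238), (46, 239), (47, 239), (49, 239), (53, 238), (0, 0), (58, 237),
     (58, 238), (60, 238), (0, 0), (67, 238), (72, 238), (78, 238), (78, 239), (79, 239),
     (81, 239), (85, 238), (88, 239), (94, 238), (99, 239), (106, 238), (110, 239), (115, 238),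
     (118, 238), (121, 237), (120, 238)],
    [(1, 119), (0, 120), (0, 0), (0, 0), (0, 129), (0, 134), (0, 0), (0, 146), (0, 0), (0, 0),
     (0, 158), (0, 160), (0, 0), (0, 0), (0, 168), (0, 173), (0, 177), (0, 180), (0, 182),
     (0, 183), (1, 183), (0, 0), (0, 190), (0, 192), (0, 0), (0, 0), (0, 196), (0, 198), (0, 0),
     (0, 0), (0, 201), (0, 202), (1, 202), (0, 203), (1, 203), (0, 0), (0, 206), (0, 208), (0, 0),
     (0, 0), (0, 211), (0, 212), (1, 212), (0, 213), (1, 213), (0, 0), (0, 215), (0, 216),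
     (1, 216), (0, 217), (1, 217), (0, 0), (0, 218), (1, 218), (4, 216), (4, 217), (0, 220),
     (0, 0), (0, 0), (0, 0), (0, 0), (0, 0), (0, 223), (1, 223), (0, 0), (0, 0), (0, 224),
     (1, 224), (0, 0), (0, 0), (4, 224), (0, 225), (1, 225), (0, 0), (0, 0), (4, 225), (5, 225),
     (0, 0), (0, 227), (0, 228), (1, 228), (0, 229), (1, 229), (0, 0), (0, 230), (1, 230),
     (4, 228), (4, 229), (0, 231), (1, 231), (5, 228), (5, 229), (4, 231), (0, 232), (1, 232),
     (0, 0), (0, 0), (4, 232), (5, 232), (0, 233), (1, 233), (7, 228), (7, 229), (4, 233),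
     (5, 233), (0, 234), (1, 234), (0, 0), (0, 0), (4, 234), (0, 235), (1, 235), (0, 0), (0, 0),
     (0, 236), (1, 236), (10, 228), (0, 237), (1, 237), (0, 238), (1, 239), (0, 0), (0, 0),
     (11, 229), (0, 0), (0, 0), (4, 236), (4, 237), (4, 238), (4, 239), (5, 235), (5, 236),
     (5, 237), (5, 238), (5, 239), (0, 0), (0, 0), (10, 232), (11, 232), (0, 0), (0, 0), (7, 234),
     (7, 235), (7, 236), (7, 237), (7, 238), (7, 239), (0, 0), (10, 234), (11, 234), (0, 0),
     (0, 0), (10, 235), (11, 235), (0, 0), (0, 0), (10, 237), (10, 238), (10, 239), (11, 238),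
     (11, 239), (0, 0), (14, 233), (14, 234), (14, 235), (14, 236), (14, 237), (14, 238),
     (14, 239), (15, 235), (15, 236), (15, 237), (15, 238), (15, 239), (16, 236), (16, 237),
     (16, 238), (16, 239), (0, 0), (17, 238), (17, 239), (18, 238), (18, 239), (19, 239),
     (22, 235), (23, 235), (0, 0), (0, 0), (22, 237), (22, 238), (22, 239), (23, 238), (23, 239),
     (0, 0), (26, 237), (26, 238), (26, 239), (27, 238), (27, 239), (0, 0), (30, 238), (30, 239),
     (31, 239), (33, 239), (36, 237), (36, 238), (36, 239), (37, 238), (37, 239), (0, 0),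
     (40, 238), (40, 239), (41, 239), (43, 239), (46, 238), (46, 239), (47, 239), (49, 239),
     (52, 239), (56, 238), (56, 239), (0, 0), (0, 0), (62, 239), (66, 239), (71, 239), (78, 238),
     (78, 239), (79, 239), (81, 239), (84, 239), (88, 239), (93, 239), (99, 239), (105, 239),
     (110, 239), (114, 239), (117, 239), (119, 239), (120, 238)],
    [(2, 117), (0, 0), (0, 122), (0, 0), (0, 129), (0, 134), (0, 0), (0, 146), (0, 0), (0, 0),
     (0, 158), (0, 0), (0, 161), (0, 0), (0, 168), (0, 173), (0, 177), (0, 180), (0, 182),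
     (0, 183), (2, 182), (0, 0), (0, 190), (0, 0), (0, 193), (0, 0), (0, 196), (0, 0), (0, 199),
     (0, 0), (0, 201), (0, 202), (2, 201), (0, 203), (0, 0), (2, 203), (0, 206), (0, 0), (0, 209),
     (0, 0), (0, 211), (0, 212), (2, 211), (0, 213), (0, 0), (2, 213), (0, 215), (0, 216),
     (2, 215), (0, 217), (0, 0), (2, 217), (0, 218), (4, 215), (2, 218), (4, 217), (0, 0),
     (0, 221), (0, 0), (0, 0), (0, 0), (0, 0), (0, 223), (0, 0), (2, 223), (0, 0), (0, 224),
     (0, 0), (2, 224), (0, 0), (4, 224), (0, 225), (0, 0), (2, 225), (0, 0), (4, 225), (5, 225),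
     (0, 0), (0, 227), (0, 228), (2, 227), (0, 229), (0, 0), (2, 229), (0, 230), (4, 227),
     (2, 230), (4, 229), (0, 231), (5, 227), (2, 231), (5, 229), (4, 231), (0, 232), (0, 0),
     (2, 232), (0, 0), (4, 232), (5, 232), (0, 233), (7, 227), (2, 233), (7, 229), (4, 233),
     (5, 233), (0, 234), (0, 0), (2, 234), (0, 0), (4, 234), (0, 235), (0, 0), (2, 235), (0, 0),
     (0, 236), (10, 227), (2, 236), (0, 237), (0, 0), (0, 238), (0, 0), (2, 238), (2, 239), (0, 0),
     (12, 229), (0, 0), (4, 236), (4, 237), (4, 238), (4, 239), (5, 235), (5, 236), (5, 237),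
     (5, 238), (5, 239), (0, 0), (0, 0), (10, 232), (0, 0), (12, 232), (0, 0), (7, 234), (7, 235),
     (7, 236), (7, 237), (7, 238), (7, 239), (0, 0), (10, 234), (0, 0), (12, 234), (0, 0),
     (10, 235), (0, 0), (12, 235), (0, 0), (10, 237), (10, 238), (10, 239), (12, 237), (0, 0),
     (12, 239), (14, 233), (14, 234), (14, 235), (14, 236), (14, 237), (14, 238), (14, 239),
     (15, 235), (15, 236), (15, 237), (15, 238), (15, 239), (16, 236), (16, 237), (16, 238),
     (16, 239), (17, 237), (0, 0), (17, 239), (18, 238), (18, 239), (19, 239), (22, 235), (0, 0),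
     (24, 235), (0, 0), (22, 237), (22, 238), (22, 239), (24, 237), (0, 0), (24, 239), (26, 237),
     (26, 238), (26, 239), (28, 237), (0, 0), (28, 239), (30, 238), (30, 239), (31, 239),
     (33, 239), (36, 237), (36, 238), (36, 239), (38, 237), (0, 0), (38, 239), (40, 238),
     (40, 239), (41, 239), (43, 239), (46, 238), (46, 239), (47, 239), (49, 239), (52, 239),
     (57, 237), (0, 0), (57, 239), (0, 0), (62, 239), (66, 239), (71, 239), (78, 238), (78, 239),
     (79, 239), (81, 239), (84, 239), (88, 239), (93, 239), (99, 239), (105, 239), (110, 239),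
     (114, 239), (117, 239), (119, 239), (122, 237)]
  ]

set_option maxRecDepth 1000000 in
theorem rowsD_E8_170 : rowsDB chevE8 certE8_170 170 = true := by decide +kernel

end Cfsg.Agent.Lib.Helper10.E8CC.Helper9
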