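import Cfsg.Agent.Lib.Helper9.E8CCDa
import Cfsg.Agent.Lib.Helper9.E8CCDb
import Cfsg.Agent.Lib.Helper9.E8CCDc
import Cfsg.Agent.Lib.Helper9.E8CCDd

set_option autoImplicit false

/-! S2107 piece [E8-D]: every commuting admissible pair of roots of `chevE8` has a decomposition
(`dec1_E8`; glue of the 24 kernel-checked slices). -/

namespace Cfsg.Agent.Lib.Helper10.E8CC

open Cfsg.Lie Cfsg.Agent.Lib.Helper8.Chev Cfsg.Agent.Lib.Helper14.StCC

/-- [E8-D] every commuting pair of `chevE8` has a decomposition (43680 pairs; certificate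
`(a, b)` per pair) -/
theorem dec1_E8 {r s : ℕ} (hr : r < chevE8.nroots) (hs : s < chevE8.nroots) (h1 : s ≠ r)
    (h2 : s ≠ chevE8.neg r) (h : chevE8.commTerms r s = []) : Dec1 chevE8 r s := by
  have hn : chevE8.nroots = 240 := rfl
  rw [hn] at hr
  have hcases : (0 ≤ r ∧ r < 10) ∨
      (10 ≤ r ∧ r < 20) ∨
      (20 ≤ r ∧ r < 30) ∨
      (30 ≤ r ∧ r < 40) ∨
      (40 ≤ r ∧ r < 50) ∨
      (50 ≤ r ∧ r < 60) ∨
      (60 ≤ r ∧ r < 70) ∨
      (70 ≤ r ∧ r < 80) ∨
      (80 ≤ r ∧ r < 90) ∨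
      (90 ≤ r ∧ r < 100) ∨
      (100 ≤ r ∧ r < 110) ∨
      (110 ≤ r ∧ r < 120) ∨
      (120 ≤ r ∧ r < 130) ∨
      (130 ≤ r ∧ r < 140) ∨
      (140 ≤ r ∧ r < 150) ∨
      (150 ≤ r ∧ r < 160) ∨
      (160 ≤ r ∧ r < 170) ∨
      (170 ≤ r ∧ r < 180) ∨
      (180 ≤ r ∧ r < 190) ∨
      (190 ≤ r ∧ r < 200) ∨
      (200 ≤ r ∧ r < 210) ∨
      (210 ≤ r ∧ r < 220) ∨
      (220 ≤ r ∧ r < 230) ∨
      (230 ≤ r ∧ r < 240) := by omega
  rcases hcases with hk | hk | hk | hk | hk | hk | hk | hk | hk | hk | hk | hk | hk | hk | hk | hk | hk | hk | hk | hk | hk | hk | hk | hk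
  · exact Helper9.rowsDB_spec Helper9.slB_E8' Helper9.rowsD_E8_0 hk.1 (by have : Helper9.certE8_0.length = 10 := rfl; omega) hs h1 h2 h
  · exact Helper9.rowsDB_spec Helper9.slB_E8' Helper9.rowsD_E8_10 hk.1 (by have : Helper9.certE8_10.length = 10 := rfl; omega) hs h1 h2 h
  · exact Helper9.rowsDB_spec Helper9.slB_E8' Helper9.rowsD_E8_20 hk.1 (by have : Helper9.certE8_20.length = 10 := rfl; omega) hs h1 h2 h
  · exact Helper9.rowsDB_spec Helper9.slB_E8' Helper9.rowsD_E8_30 hk.1 (by have : Helper9.certE8_30.length = 10 := rfl; omega) hs h1 h2 h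
  · exact Helper9.rowsDB_spec Helper9.slB_E8' Helper9.rowsD_E8_40 hk.1 (by have : Helper9.certE8_40.length = 10 := rfl; omega) hs h1 h2 h
  · exact Helper9.rowsDB_spec Helper9.slB_E8' Helper9.rowsD_E8_50 hk.1 (by have : Helper9.certE8_50.length = 10 := rfl; omega) hs h1 h2 h
  · exact Helper9.rowsDB_spec Helper9.slB_E8' Helper9.rowsD_E8_60 hk.1 (by have : Helper9.certE8_60.length = 10 := rfl; omega) hs h1 h2 h
  · exact Helper9.rowsDB_spec Helper9.slB_E8' Helper9.rowsD_E8_70 hk.1 (by have : Helper9.certE8_70.length = 10 := rfl; omega) hs h1 h2 h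
  · exact Helper9.rowsDB_spec Helper9.slB_E8' Helper9.rowsD_E8_80 hk.1 (by have : Helper9.certE8_80.length = 10 := rfl; omega) hs h1 h2 h
  · exact Helper9.rowsDB_spec Helper9.slB_E8' Helper9.rowsD_E8_90 hk.1 (by have : Helper9.certE8_90.length = 10 := rfl; omega) hs h1 h2 h
  · exact Helper9.rowsDB_spec Helper9.slB_E8' Helper9.rowsD_E8_100 hk.1 (by have : Helper9.certE8_100.length = 10 := rfl; omega) hs h1 h2 h
  · exact Helper9.rowsDB_spec Helper9.slB_E8' Helper9.rowsD_E8_110 hk.1 (by have : Helper9.certE8_110.length = 10 := rfl; omega) hs h1 h2 h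
  · exact Helper9.rowsDB_spec Helper9.slB_E8' Helper9.rowsD_E8_120 hk.1 (by have : Helper9.certE8_120.length = 10 := rfl; omega) hs h1 h2 h
  · exact Helper9.rowsDB_spec Helper9.slB_E8' Helper9.rowsD_E8_130 hk.1 (by have : Helper9.certE8_130.length = 10 := rfl; omega) hs h1 h2 h
  · exact Helper9.rowsDB_spec Helper9.slB_E8' Helper9.rowsD_E8_140 hk.1 (by have : Helper9.certE8_140.length = 10 := rfl; omega) hs h1 h2 h
  · exact Helper9.rowsDB_spec Helper9.slB_E8' Helper9.rowsD_E8_150 hk.1 (by have : Helper9.certE8_150.length = 10 := rfl; omega) hs h1 h2 h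
  · exact Helper9.rowsDB_spec Helper9.slB_E8' Helper9.rowsD_E8_160 hk.1 (by have : Helper9.certE8_160.length = 10 := rfl; omega) hs h1 h2 h
  · exact Helper9.rowsDB_spec Helper9.slB_E8' Helper9.rowsD_E8_170 hk.1 (by have : Helper9.certE8_170.length = 10 := rfl; omega) hs h1 h2 h
  · exact Helper9.rowsDB_spec Helper9.slB_E8' Helper9.rowsD_E8_180 hk.1 (by have : Helper9.certE8_180.length = 10 := rfl; omega) hs h1 h2 h
  · exact Helper9.rowsDB_spec Helper9.slB_E8' Helper9.rowsD_E8_190 hk.1 (by have : Helper9.certE8_190.length = 10 := rfl; omega) hs h1 h2 h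
  · exact Helper9.rowsDB_spec Helper9.slB_E8' Helper9.rowsD_E8_200 hk.1 (by have : Helper9.certE8_200.length = 10 := rfl; omega) hs h1 h2 h
  · exact Helper9.rowsDB_spec Helper9.slB_E8' Helper9.rowsD_E8_210 hk.1 (by have : Helper9.certE8_210.length = 10 := rfl; omega) hs h1 h2 h
  · exact Helper9.rowsDB_spec Helper9.slB_E8' Helper9.rowsD_E8_220 hk.1 (by have : Helper9.certE8_220.length = 10 := rfl; omega) hs h1 h2 h
  · exact Helper9.rowsDB_spec Helper9.slB_E8' Helper9.rowsD_E8_230 hk.1 (by have : Helper9.certE8_230.length = 10 := rfl; omega) hs h1 h2 h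

end Cfsg.Agent.Lib.Helper10.E8CC
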