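import Mathlib
import Cfsg.Agent.Lib.Helper9.USubDefs

/-!
# Unitary subfield subgroups: field theory
-/

set_option autoImplicit false
set_option linter.unusedSectionVars false
set_option linter.unusedVariables false

namespace Cfsg.Agent.Lib.Helper9.USub

open Matrix Cfsg.Agent.Lib.Helper6 Cfsg.Agent.S0779 Cfsg.Agent.S0781
open Cfsg.Agent.Lib.Helper6.SUG Cfsg.Agent.Lib.Helper13 Cfsg.Agent.Lib.Helper9.SUGen

section fld
variable {F : Type*} [Field F] [Fintype F] {q q₀ n : ℕ}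

/-- **FO-F1** -/
theorem exists_subD (hF : Fintype.card F = q ^ 2) (K : Subfield F) [Fintype K] (r : ℕ)
    (hr : r.Prime) (hro : Odd r) (hcard : Fintype.card F = Nat.card K ^ r) :
    ∃ q₀ : ℕ, SubD q q₀ K ∧ q = q₀ ^ r := by
  obtain ⟨p, -, a, hp, hKc⟩ := FiniteField.card' K
  rw [Nat.card_eq_fintype_card, hKc, hF, ← pow_mul] at hcard
  -- q is a power of p
  have hq : q ∣ p ^ (a.val * r) := by
    rw [← hcard]
    exact Dvd.intro_left (q ^ 1) (by ring)
  obtain ⟨b, -, hb⟩ := (Nat.dvd_prime_pow hp).mp hq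
  rw [hb, ← pow_mul] at hcard
  have h2 : b * 2 = a.val * r := Nat.pow_right_injective hp.two_le hcard
  obtain ⟨s, hs⟩ := hro
  have haeven : Even a.val := by
    rcases Nat.even_or_odd a.val with h | h
    · exact h
    · exfalso
      obtain ⟨t, ht⟩ := h
      rw [ht, hs] at h2
      have h3 : b * 2 = 2 * (2 * t * s + t + s) + 1 := by rw [h2]; ring
      omega
  obtain ⟨a₀, ha₀⟩ := haeven
  have hb' : b = a₀ * r := by
    rw [ha₀] at h2
    have : b * 2 = (a₀ * r) * 2 := by rw [h2]; ring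
    omega
  refine ⟨p ^ a₀, ⟨hF, ?_, ?_⟩, ?_⟩
  · rw [hKc, ha₀, ← pow_mul]
    congr 1
    omega
  · intro x
    have hx : (x : F) ^ ((p ^ a₀) ^ 2) = x := by
      have h1 := FiniteField.pow_card x
      rw [hKc, ha₀] at h1
      have h3 : p ^ (a₀ + a₀) = (p ^ a₀) ^ 2 := by rw [← pow_mul]; congr 1; omega
      rw [h3] at h1
      have h4 := congrArg (fun y : K => (y : F)) h1
      simpa using h4
    have hx2 : ∀ j : ℕ, (x : F) ^ ((p ^ a₀) ^ (2 * j)) = x := by
      intro j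
      induction j with
      | zero => simp
      | succ j ih =>
        have : (p ^ a₀) ^ (2 * (j + 1)) = (p ^ a₀) ^ (2 * j) * (p ^ a₀) ^ 2 := by
          rw [← pow_add]
          congr 1
        rw [this, pow_mul, ih, hx]
    rw [hb, hb', hs]
    have : p ^ (a₀ * (2 * s + 1)) = (p ^ a₀) ^ (2 * s) * p ^ a₀ := by
      rw [← pow_mul, ← pow_add]
      congr 1
    rw [this, pow_mul, hx2]
  · rw [hb, hb', pow_mul]

/-- an element of `F` not fixed by the involution -/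
theorem exists_pow_ne (hF : Fintype.card F = q ^ 2) : ∃ l : F, l ^ q ≠ l := by
  by_contra hne
  push Not at hne
  exact conjQ_ne_id hF (RingHom.ext (fun x => by rw [conjQ_apply, hne, RingHom.id_apply]))

/-- **FO-F2a** -/
theorem SubD_exists_ne {K : Subfield F} [Fintype K] (D : SubD q q₀ K) :
    ∃ l : F, l ∈ K ∧ l ^ q ≠ l := by
  obtain ⟨x, hx⟩ := exists_pow_ne D.hK
  refine ⟨x, x.2, ?_⟩
  rw [D.fr]
  intro h
  apply hx
  apply Subtype.ext
  rw [← h]
  simp

/-- **FO-F2b** -/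
theorem SubD_exists_zeta {K : Subfield F} [Fintype K] (D : SubD q q₀ K) :
    ∃ ζ : F, ζ ∈ K ∧ ζ ≠ 0 ∧ ζ ^ q = -ζ := by
  obtain ⟨l, hlK, hl⟩ := SubD_exists_ne D
  refine ⟨l - l ^ q, K.sub_mem hlK (K.pow_mem hlK q), ?_, ?_⟩
  · intro h
    exact hl (sub_eq_zero.mp h).symm
  · rw [sub_pow_q D.hF, pow_q_q D.hF]
    ring

/-- **FO-F2c** -/
theorem SubD_exists_trace {K : Subfield F} [Fintype K] (D : SubD q q₀ K) (a : F) (ha : a ∈ K)
    (haq : a ^ q = a) : ∃ t : F, t ∈ K ∧ t + t ^ q = a := by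
  have hfix : conjQ D.hK ⟨a, ha⟩ = ⟨a, ha⟩ := by
    apply Subtype.ext
    rw [conjQ_apply]
    have := D.fr ⟨a, ha⟩
    simp only at this
    push_cast
    rw [← this, haq]
  obtain ⟨t, ht⟩ := exists_trace (conjQ D.hK) (conjQ_ne_id D.hK) (conjQ_conjQ D.hK) ⟨a, ha⟩ hfix
  refine ⟨t, t.2, ?_⟩
  have h1 := congrArg (fun y : K => (y : F)) ht
  simp only [conjQ_apply] at h1
  push_cast at h1
  rw [D.fr]
  exact h1

/-- **FO-F2d** -/
theorem SubD_exists_norm {K : Subfield F} [Fintype K] (D : SubD q q₀ K) (a : F) (ha : a ∈ K)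
    (ha0 : a ≠ 0) (haq : a ^ q = a) : ∃ c : F, c ∈ K ∧ c * c ^ q = a := by
  have hfix : conjQ D.hK ⟨a, ha⟩ = ⟨a, ha⟩ := by
    apply Subtype.ext
    rw [conjQ_apply]
    have := D.fr ⟨a, ha⟩
    simp only at this
    push_cast
    rw [← this, haq]
  have ha0' : (⟨a, ha⟩ : K) ≠ 0 := by
    intro h
    apply ha0
    exact congrArg (fun y : K => (y : F)) h
  obtain ⟨c, hc⟩ := exists_norm (conjQ D.hK) (conjQ_ne_id D.hK) (conjQ_conjQ D.hK) ⟨a, ha⟩ ha0' hfix
  refine ⟨c, c.2, ?_⟩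
  have h1 := congrArg (fun y : K => (y : F)) hc
  simp only [conjQ_apply] at h1
  push_cast at h1
  rw [D.fr]
  exact h1

/-- **FO-F2e** -/
theorem SubD_exists_lam {K : Subfield F} [Fintype K] (D : SubD q q₀ K) (ν : F) (hν : ν ∉ K) :
    ∃ l : F, l ∈ K ∧ ν * l - (ν * l) ^ q ∉ K := by
  by_cases h1 : ν - ν ^ q ∈ K
  · obtain ⟨l, hlK, hl⟩ := SubD_exists_ne D
    refine ⟨l, hlK, ?_⟩
    intro h2
    apply hν
    have hlq : l ^ q ∈ K := K.pow_mem hlK q
    have hd : l - l ^ q ≠ 0 := fun h => hl (sub_eq_zero.mp h).symm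
    have h3 : ν ^ q * (l - l ^ q) ∈ K := by
      have : ν ^ q * (l - l ^ q) = (ν * l - (ν * l) ^ q) - (ν - ν ^ q) * l := by
        rw [mul_pow]
        ring
      rw [this]
      exact K.sub_mem h2 (K.mul_mem h1 hlK)
    have h4 : ν ^ q ∈ K := by
      have : ν ^ q = ν ^ q * (l - l ^ q) * (l - l ^ q)⁻¹ := by
        field_simp
      rw [this]
      exact K.mul_mem h3 (K.inv_mem (K.sub_mem hlK hlq))
    have := K.pow_mem h4 q
    rwa [pow_q_q D.hF] at this
  · exact ⟨1, K.one_mem, by rwa [mul_one]⟩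

/-- **FO-F2g** -/
theorem exists_sub_pow (hF : Fintype.card F = q ^ 2) (a : F) (ha : a ^ q = -a) :
    ∃ t : F, t - t ^ q = a := by
  obtain ⟨l, hl⟩ := exists_pow_ne hF
  have hd : l - l ^ q ≠ 0 := fun h => hl (sub_eq_zero.mp h).symm
  have hdq : (l - l ^ q) ^ q = -(l - l ^ q) := by
    rw [sub_pow_q hF, pow_q_q hF]
    ring
  have hfix : (a / (l - l ^ q)) ^ q = a / (l - l ^ q) := by
    rw [div_pow, ha, hdq, neg_div_neg_eq]
  obtain ⟨t, ht⟩ := exists_trace (conjQ hF) (conjQ_ne_id hF) (conjQ_conjQ hF)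
    (a / (l - l ^ q)) (by rw [conjQ_apply, hfix])
  rw [conjQ_apply] at ht
  refine ⟨(l - l ^ q) * t, ?_⟩
  rw [mul_pow, hdq]
  have : (l - l ^ q) * t - -(l - l ^ q) * t ^ q = (l - l ^ q) * (t + t ^ q) := by ring
  rw [this, ht, mul_div_cancel₀ _ hd]

/-- **FO-F2f** -/
theorem SubD_exists_param {K : Subfield F} [Fintype K] (D : SubD q q₀ K) (r : ℕ) (hr : r.Prime)
    (hcard : Fintype.card F = Nat.card K ^ r) : ∃ b : F, b ^ q = -b ∧ b ∉ K := by
  by_contra hcon
  push Not at hcon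
  obtain ⟨ζ, hζK, hζ0, hζ⟩ := SubD_exists_zeta D
  obtain ⟨l, hlK, hl⟩ := SubD_exists_ne D
  have hfix : ∀ s : F, s ^ q = s → s ∈ K := by
    intro s hs
    have h1 : ζ * s ∈ K := hcon _ (by rw [mul_pow, hζ, hs]; ring)
    have : s = ζ⁻¹ * (ζ * s) := by field_simp
    rw [this]
    exact K.mul_mem (K.inv_mem hζK) h1
  have hd : l - l ^ q ≠ 0 := fun h => hl (sub_eq_zero.mp h).symm
  have hdq : (l - l ^ q) ^ q = -(l - l ^ q) := by
    rw [sub_pow_q D.hF, pow_q_q D.hF]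
    ring
  have hall : ∀ x : F, x ∈ K := by
    intro x
    have h2 : ((x - x ^ q) / (l - l ^ q)) ^ q = (x - x ^ q) / (l - l ^ q) := by
      rw [div_pow, hdq, sub_pow_q D.hF, pow_q_q D.hF]
      rw [div_neg, ← neg_div]
      congr 1
      ring
    have h1 : (x - (x - x ^ q) / (l - l ^ q) * l) ^ q = x - (x - x ^ q) / (l - l ^ q) * l := by
      rw [sub_pow_q D.hF, mul_pow, h2]
      field_simp
      ring
    have : x = (x - (x - x ^ q) / (l - l ^ q) * l) + (x - x ^ q) / (l - l ^ q) * l := by ring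
    rw [this]
    exact K.add_mem (hfix _ h1) (K.mul_mem (hfix _ h2) hlK)
  have hKF : Nat.card K = Fintype.card F := by
    rw [← Nat.card_eq_fintype_card]
    exact Nat.card_congr ⟨fun x => x.1, fun x => ⟨x, hall x⟩, fun x => rfl, fun x => rfl⟩
  rw [hKF] at hcard
  have h1 : 1 < Fintype.card F := Fintype.one_lt_card
  have h2 : (Fintype.card F) ^ 1 < (Fintype.card F) ^ r :=
    Nat.pow_lt_pow_right h1 hr.one_lt
  rw [pow_one] at h2
  omega

end fld

end Cfsg.Agent.Lib.Helper9.USub
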