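import Mathlib
import Cfsg.Prelude.Def_GeometricClasses
import Cfsg.Agent.Lib.Helper9.HubCorA1
import Cfsg.Agent.Lib.Helper24.HubCorA2
import Cfsg.Agent.Lib.Helper29.AschCorB

/-!
# SU corollary family (maximal subgroups of `SU_n(q)` from the unitary hub S5663): the assembly  (helper9)

Everything is proved from two hypotheses: the hub `HubU n q F` (Aschbacher's theorem for `GU_n(q)`) and the bundle
`SUPieces n q F` of the generic pieces (properness of the class members in `SU_n(q)`, the two `q = 2` containments,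
the dimension of a class-6 datum).  `reduceU` is the generic reduction; `final8`, `final9`, `final10`, `final12` are the
lists for `SU_8`, `SU_9`, `SU_10`, `SU_12` (conclusions verbatim as in the statements).
-/

set_option autoImplicit false

namespace Cfsg.Agent.Lib.Helper9.UCor

open Cfsg Cfsg.Geo
open scoped MatrixGroups Matrix Kronecker

variable {F : Type*} [Field F] [Fintype F] {n q : ℕ}

/-- The unitary hub as a hypothesis. -/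
def HubU (n q : ℕ) (F : Type*) [Field F] [Fintype F] : Prop :=
  ∀ H : Subgroup (GL (Fin n) F), H ≤ GU n F q →
    (∃ M : Subgroup (GL (Fin n) F), InUnitaryClass n F q M ∧ H ≤ M) ∨ InUnitaryResidualClass H

/-- The generic pieces as a hypothesis. -/
structure SUPieces (n q : ℕ) (F : Type*) [Field F] [Fintype F] : Prop where
  pu1 : ∀ W : Submodule F (Fin n → F), W ≠ ⊥ → W ≠ ⊤ →
    ¬ GU n F q ⊓ specialLinear (Fin n) F ≤ subspaceStabilizer W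
  pu2a : ∀ {t m : ℕ} (D : Fin t → Submodule F (Fin n → F)),
    IsNondegenerateMDecomposition (hermForm n F q) m D →
    ¬ GU n F q ⊓ specialLinear (Fin n) F ≤ decompositionStabilizer D
  pu2b : ∀ (k : ℕ) (D : Fin 2 → Submodule F (Fin n → F)), 2 * k = n → IsMDecomposition k D →
    (∀ i, IsTotallySingularFor (hermForm n F q) (D i)) →
    ¬ GU n F q ⊓ specialLinear (Fin n) F ≤ decompositionStabilizer D
  pu3 : ∀ (r : ℕ) (K : Subalgebra F (Matrix (Fin n) (Fin n) F)), r.Prime → IsFieldSubalgebra r K →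
    ¬ GU n F q ⊓ specialLinear (Fin n) F ≤ subalgebraNormalizer K
  pu4 : ∀ (n₁ n₂ : ℕ) (e : Fin n ≃ Fin n₁ × Fin n₂) (P : GL (Fin n) F), 2 ≤ n₁ → 2 ≤ n₂ →
    ¬ GU n F q ⊓ specialLinear (Fin n) F ≤ tensorProductSubgroup n₁ n₂ e P
  pu5 : ∀ (F₀ : Subfield F), F₀ ≠ ⊤ → ∀ P : GL (Fin n) F,
    ¬ GU n F q ⊓ specialLinear (Fin n) F ≤ subfieldSubgroup F₀ P
  pu6 : ∀ (r : ℕ) (R : Subgroup (GL (Fin n) F)), IsSymplecticTypeGroup r R →
    ActsAbsolutelyIrreducibly (matrixSet R) → R ≤ similarityGroup (hermForm n F q) →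
    ∀ p : ℕ, CharP F p → r ≠ p → ¬ GU n F q ⊓ specialLinear (Fin n) F ≤ subgroupNormalizer R
  pu7 : ∀ (k t : ℕ) (e : Fin n ≃ (Fin t → Fin k)) (P : GL (Fin n) F), 3 ≤ k → 2 ≤ t →
    ¬ GU n F q ⊓ specialLinear (Fin n) F ≤ tensorWreathSubgroup k t e P
  e1 : q = 2 → ∀ {t : ℕ} (D : Fin t → Submodule F (Fin n → F)),
    IsNondegenerateMDecomposition (hermForm n F q) 2 D →
    ∃ D' : Fin n → Submodule F (Fin n → F), IsNondegenerateMDecomposition (hermForm n F q) 1 D' ∧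
      decompositionStabilizer D ⊓ GU n F q ≤ decompositionStabilizer D'
  e2 : q = 2 → ∀ (n₂ : ℕ), 2 < n₂ → ∀ (e : Fin n ≃ Fin 2 × Fin n₂) (P : GL (Fin n) F)
    (f₁ : (Fin 2 → F) → (Fin 2 → F) → F) (f₂ : (Fin n₂ → F) → (Fin n₂ → F) → F),
    IsUnitaryFormPow q f₁ → IsUnitaryFormPow q f₂ →
    IsTensorFormStructure (fun x : F => x ^ q) (hermForm n F q) f₁ f₂ e P →
    ∃ D' : Fin 2 → Submodule F (Fin n → F), IsNondegenerateMDecomposition (hermForm n F q) n₂ D' ∧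
      tensorProductSubgroup 2 n₂ e P ⊓ GU n F q ≤ decompositionStabilizer D'
  c6pow : ∀ (r : ℕ) (R : Subgroup (GL (Fin n) F)) (p e : ℕ), IsSymplecticTypeGroup r R →
    ActsAbsolutelyIrreducibly (matrixSet R) → IsMinimalFieldFor (Nat.card (Subgroup.center R)) p e F →
    Nat.card (Subgroup.center R) = r * Nat.gcd 2 r → ∃ j : ℕ, n = r ^ j
  c6exact : ∀ (r : ℕ) (R : Subgroup (GL (Fin n) F)) (p e k : ℕ), IsSymplecticTypeGroup r R →
    ActsAbsolutelyIrreducibly (matrixSet R) → r ≠ p →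
    IsMinimalFieldFor (Nat.card (Subgroup.center R)) p e F →
    ((Odd r ∧ Nat.card (Subgroup.center R) = r ∧ 1 ≤ k ∧ Nat.card R = r ^ (1 + 2 * k)) ∨
      (r = 2 ∧ e = 2 ∧ Nat.card (Subgroup.center R) = 4 ∧ Nat.card R = 2 ^ (2 + 2 * k))) → n = r ^ k

/-- G-EQ -/
theorem eq_of_le_memberU (H X : Subgroup (GL (Fin n) F))
    (hH : IsMaximalIn (GU n F q ⊓ specialLinear (Fin n) F) H) (hHX : H ≤ X)
    (hX : ¬ GU n F q ⊓ specialLinear (Fin n) F ≤ X) : H = X ⊓ (GU n F q ⊓ specialLinear (Fin n) F) := by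
  have h1 : H ≤ X ⊓ (GU n F q ⊓ specialLinear (Fin n) F) := le_inf hHX hH.1.le
  rcases hH.2 _ h1 inf_le_right with h | h
  · exact h.symm
  · exact absurd (h ▸ inf_le_left) hX

/-! ## The generic reduction -/

theorem herm_single_self (hn : 0 < n) :
    hermForm n F q (Pi.single (⟨0, hn⟩ : Fin n) 1) (Pi.single (⟨0, hn⟩ : Fin n) 1) = 1 := by
  unfold hermForm
  rw [Finset.sum_eq_single (⟨0, hn⟩ : Fin n)]
  · simp
  · intro i _ hi
    simp [Pi.single_eq_of_ne hi]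
  · intro h
    exact absurd (Finset.mem_univ _) h

theorem two_le_q (hF : Fintype.card F = q ^ 2) : 2 ≤ q := by
  have h1 : 1 < Fintype.card F := Fintype.one_lt_card
  rw [hF] at h1
  by_contra h
  have hq : q = 0 ∨ q = 1 := by omega
  rcases hq with rfl | rfl <;> simp at h1

/-- Generic reduction: a maximal subgroup of `SU_n(q)` is the intersection of `SU_n(q)` with a class member (with the
two `q = 2` refinements made), or is in the residual class. -/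
theorem reduceU (hF : Fintype.card F = q ^ 2) (hn : 3 ≤ n) (pc : SUPieces n q F) (hub : HubU n q F)
    (H : Subgroup (GL (Fin n) F)) (hH : IsMaximalIn (GU n F q ⊓ specialLinear (Fin n) F) H) :
    (∃ W : Submodule F (Fin n → F), W ≠ ⊥ ∧ IsTotallySingularFor (hermForm n F q) W ∧
        H = subspaceStabilizer W ⊓ (GU n F q ⊓ specialLinear (Fin n) F)) ∨
    (∃ W : Submodule F (Fin n → F), W ≠ ⊥ ∧ IsNondegenerateOn (hermForm n F q) W ∧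
        2 * Module.finrank F W < n ∧ H = subspaceStabilizer W ⊓ (GU n F q ⊓ specialLinear (Fin n) F)) ∨
    (∃ (t k : ℕ) (D : Fin t → Submodule F (Fin n → F)), IsNondegenerateMDecomposition (hermForm n F q) k D ∧
        (k = 2 → 3 ≤ q) ∧ H = decompositionStabilizer D ⊓ (GU n F q ⊓ specialLinear (Fin n) F)) ∨
    (∃ (k : ℕ) (D : Fin 2 → Submodule F (Fin n → F)), 2 * k = n ∧ IsMDecomposition k D ∧
        (∀ i, IsTotallySingularFor (hermForm n F q) (D i)) ∧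
        H = decompositionStabilizer D ⊓ (GU n F q ⊓ specialLinear (Fin n) F)) ∨
    (∃ (F₀ : Subfield F) (r : ℕ) (P : GL (Fin n) F), r.Prime ∧ Odd r ∧ Fintype.card F = Nat.card F₀ ^ r ∧
        IsFormRationalStructure (hermForm n F q) F₀ 1 P ∧
        H = subfieldSubgroup F₀ P ⊓ (GU n F q ⊓ specialLinear (Fin n) F)) ∨
    (Odd q ∧ ∃ (F₀ : Subfield F) (P : GL (Fin n) F), Fintype.card F = Nat.card F₀ ^ 2 ∧
        IsFormRationalStructure (hermForm n F q) F₀ 1 P ∧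
        H = subfieldSubgroup F₀ P ⊓ (GU n F q ⊓ specialLinear (Fin n) F)) ∨
    (Even n ∧ ∃ (F₀ : Subfield F) (P : GL (Fin n) F) (ζ : F), Fintype.card F = Nat.card F₀ ^ 2 ∧ ζ ≠ 0 ∧
        ζ + ζ ^ q = 0 ∧ IsFormRationalStructure (hermForm n F q) F₀ ζ P ∧
        (∀ u : Fin n → F, (∀ i, u i ∈ F₀) →
          hermForm n F q ((P : Matrix (Fin n) (Fin n) F) *ᵥ u) ((P : Matrix (Fin n) (Fin n) F) *ᵥ u) = 0) ∧
        H = subfieldSubgroup F₀ P ⊓ (GU n F q ⊓ specialLinear (Fin n) F)) ∨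
    (∃ (r : ℕ) (R : Subgroup (GL (Fin n) F)) (p e k : ℕ), IsSymplecticTypeGroup r R ∧
        ActsAbsolutelyIrreducibly (matrixSet R) ∧ R ≤ similarityGroup (hermForm n F q) ∧ r ≠ p ∧
        IsMinimalFieldFor (Nat.card (Subgroup.center R)) p e F ∧
        ((Odd r ∧ Nat.card (Subgroup.center R) = r ∧ 1 ≤ k ∧ Nat.card R = r ^ (1 + 2 * k)) ∨
         (r = 2 ∧ e = 2 ∧ Nat.card (Subgroup.center R) = 4 ∧ Nat.card R = 2 ^ (2 + 2 * k))) ∧
        H = subgroupNormalizer R ⊓ (GU n F q ⊓ specialLinear (Fin n) F)) ∨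
    (∃ (r : ℕ) (K : Subalgebra F (Matrix (Fin n) (Fin n) F)), r.Prime ∧ Odd r ∧ IsFieldSubalgebra r K ∧
        IsAdjointClosedFor (hermForm n F q) K ∧
        H = subalgebraNormalizer K ⊓ (GU n F q ⊓ specialLinear (Fin n) F)) ∨
    (∃ (n₁ n₂ : ℕ) (e : Fin n ≃ Fin n₁ × Fin n₂) (P : GL (Fin n) F)
        (f₁ : (Fin n₁ → F) → (Fin n₁ → F) → F) (f₂ : (Fin n₂ → F) → (Fin n₂ → F) → F),
        2 ≤ n₁ ∧ n₁ < n₂ ∧ (n₁ = 2 → 3 ≤ q) ∧ IsUnitaryFormPow q f₁ ∧ IsUnitaryFormPow q f₂ ∧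
        IsTensorFormStructure (fun x : F => x ^ q) (hermForm n F q) f₁ f₂ e P ∧
        H = tensorProductSubgroup n₁ n₂ e P ⊓ (GU n F q ⊓ specialLinear (Fin n) F)) ∨
    (∃ (k t : ℕ) (e : Fin n ≃ (Fin t → Fin k)) (P : GL (Fin n) F) (f₁ : (Fin k → F) → (Fin k → F) → F),
        3 ≤ k ∧ 2 ≤ t ∧ ¬ (q = 2 ∧ k = 3) ∧ IsUnitaryFormPow q f₁ ∧
        IsTensorPowerFormStructure (fun x : F => x ^ q) (hermForm n F q) f₁ e P ∧
        H = tensorWreathSubgroup k t e P ⊓ (GU n F q ⊓ specialLinear (Fin n) F)) ∨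
    InUnitaryResidualClass H := by
  classical
  have hn0 : 0 < n := by omega
  have hq2 := two_le_q hF
  have hHU : H ≤ GU n F q := hH.1.le.trans inf_le_left
  -- equality from containment in `X ⊓ GU`
  have key : ∀ X : Subgroup (GL (Fin n) F), H ≤ X ⊓ GU n F q →
      ¬ GU n F q ⊓ specialLinear (Fin n) F ≤ X →
      H = X ⊓ (GU n F q ⊓ specialLinear (Fin n) F) := fun X hle hX =>
    eq_of_le_memberU H X hH (hle.trans inf_le_left) hX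
  have cDec : ∀ (t k : ℕ) (D : Fin t → Submodule F (Fin n → F)),
      IsNondegenerateMDecomposition (hermForm n F q) k D → (k = 2 → 3 ≤ q) →
      H ≤ decompositionStabilizer D ⊓ GU n F q →
      ∃ (t k : ℕ) (D : Fin t → Submodule F (Fin n → F)), IsNondegenerateMDecomposition (hermForm n F q) k D ∧
        (k = 2 → 3 ≤ q) ∧ H = decompositionStabilizer D ⊓ (GU n F q ⊓ specialLinear (Fin n) F) :=
    fun t k D hD hk hle => ⟨t, k, D, hD, hk, key _ hle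
      (pc.pu2a D hD)⟩
  rcases hub H hHU with ⟨M, hM, hHM⟩ | hres
  swap
  · exact Or.inr (Or.inr (Or.inr (Or.inr (Or.inr (Or.inr (Or.inr (Or.inr (Or.inr (Or.inr (Or.inr hres))))))))))
  rcases hM with (⟨W, h0, hW, rfl⟩ | ⟨W, h0, hW, hd, rfl⟩ | ⟨t, k, D, hD, rfl⟩ | ⟨k, D, hk, hD, hts, rfl⟩ |
      ⟨F₀, r, P, hr, hodd, hc, hP, rfl⟩ | ⟨F₀, P, hodd, hc, hP, rfl⟩ |
      ⟨F₀, P, ζ, heven, hc, hζ, hζq, hP, halt, rfl⟩ | ⟨r, R, p, e, k, hR, habs, hsim, hrp, hmin, hcase, rfl⟩) |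
    ⟨r, K, hr, hodd, hK, hadj, rfl⟩ | ⟨n₁, n₂, e, P, f₁, f₂, h1, h12, hf₁, hf₂, hT, rfl⟩ |
    ⟨k, t, e, P, f₁, hk, ht, hkq, hf₁, hT, rfl⟩
  · -- totally singular subspace
    refine Or.inl ⟨W, h0, hW, key _ hHM (pc.pu1 W h0 ?_)⟩
    rintro rfl
    have := hW _ (Submodule.mem_top (x := Pi.single (⟨0, hn0⟩ : Fin n) 1)) _
      (Submodule.mem_top (x := Pi.single (⟨0, hn0⟩ : Fin n) 1))
    rw [herm_single_self hn0] at this
    exact one_ne_zero this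
  · -- non-degenerate subspace
    refine Or.inr (Or.inl ⟨W, h0, hW, hd, key _ hHM (pc.pu1 W h0 ?_)⟩)
    rintro rfl
    rw [finrank_top, Module.finrank_fin_fun] at hd
    omega
  · -- orthogonal decompositions
    by_cases hk2 : k = 2 ∧ q = 2
    · obtain ⟨rfl, rfl⟩ := hk2
      obtain ⟨D', hD', hle⟩ := pc.e1 rfl D hD
      exact Or.inr (Or.inr (Or.inl (cDec n 1 D' hD' (fun h => absurd h (by norm_num))
        (le_inf (hHM.trans hle) hHU))))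
    · exact Or.inr (Or.inr (Or.inl (cDec t k D hD (fun h => by
        have : q ≠ 2 := fun h' => hk2 ⟨h, h'⟩
        omega) hHM)))
  · exact Or.inr (Or.inr (Or.inr (Or.inl ⟨k, D, hk, hD, hts, key _ hHM
      (pc.pu2b k D hk hD hts)⟩)))
  · exact Or.inr (Or.inr (Or.inr (Or.inr (Or.inl ⟨F₀, r, P, hr, hodd, hc, hP, key _ hHM
      (pc.pu5 F₀
        (Cfsg.Agent.Lib.Helper29.AschCor.proper_of_card F₀ r hr hc) P)⟩))))
  · exact Or.inr (Or.inr (Or.inr (Or.inr (Or.inr (Or.inl ⟨hodd, F₀, P, hc, hP, key _ hHM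
      (pc.pu5 F₀
        (Cfsg.Agent.Lib.Helper29.AschCor.proper_of_card F₀ 2 Nat.prime_two hc) P)⟩)))))
  · exact Or.inr (Or.inr (Or.inr (Or.inr (Or.inr (Or.inr (Or.inl ⟨heven, F₀, P, ζ, hc, hζ, hζq, hP, halt,
      key _ hHM (pc.pu5 F₀
        (Cfsg.Agent.Lib.Helper29.AschCor.proper_of_card F₀ 2 Nat.prime_two hc) P)⟩))))))
  · exact Or.inr (Or.inr (Or.inr (Or.inr (Or.inr (Or.inr (Or.inr (Or.inl ⟨r, R, p, e, k, hR, habs, hsim, hrp,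
      hmin, hcase, key _ hHM (pc.pu6 r R hR habs hsim p hmin.2.1 hrp)⟩)))))))
  · exact Or.inr (Or.inr (Or.inr (Or.inr (Or.inr (Or.inr (Or.inr (Or.inr (Or.inl ⟨r, K, hr, hodd, hK, hadj,
      key _ hHM (pc.pu3 r K hr hK)⟩))))))))
  · -- tensor products
    by_cases h22 : n₁ = 2 ∧ q = 2
    · obtain ⟨rfl, rfl⟩ := h22
      obtain ⟨D', hD', hle⟩ := pc.e2 rfl n₂ h12 e P f₁ f₂ hf₁ hf₂ hT
      exact Or.inr (Or.inr (Or.inl (cDec 2 n₂ D' hD' (fun h => by omega) (le_inf (hHM.trans hle) hHU))))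
    · exact Or.inr (Or.inr (Or.inr (Or.inr (Or.inr (Or.inr (Or.inr (Or.inr (Or.inr (Or.inl
        ⟨n₁, n₂, e, P, f₁, f₂, h1, h12, fun h => by
          have : q ≠ 2 := fun h' => h22 ⟨h, h'⟩
          omega, hf₁, hf₂, hT,
        key _ hHM (pc.pu4 n₁ n₂ e P h1 (by omega))⟩)))))))))
  · exact Or.inr (Or.inr (Or.inr (Or.inr (Or.inr (Or.inr (Or.inr (Or.inr (Or.inr (Or.inr (Or.inl
      ⟨k, t, e, P, f₁, hk, ht, hkq, hf₁, hT,
      key _ hHM (pc.pu7 k t e P hk ht)⟩))))))))))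

/-! ## Arithmetic of class 6 -/

theorem card_tensorU {n n₁ n₂ : ℕ} (e : Fin n ≃ Fin n₁ × Fin n₂) : n = n₁ * n₂ := by
  have hc := Fintype.card_congr e
  simpa using hc

theorem card_wreathU {n k t : ℕ} (e : Fin n ≃ (Fin t → Fin k)) : n = k ^ t := by
  have hc := Fintype.card_congr e
  simpa using hc

/-- class 6 lives in dimension a power of `r` -/
theorem c6_pow (pc : SUPieces n q F) (r : ℕ) (R : Subgroup (GL (Fin n) F)) (p e k : ℕ)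
    (hR : IsSymplecticTypeGroup r R) (habs : ActsAbsolutelyIrreducibly (matrixSet R))
    (hmin : IsMinimalFieldFor (Nat.card (Subgroup.center R)) p e F)
    (hcase : (Odd r ∧ Nat.card (Subgroup.center R) = r ∧ 1 ≤ k ∧ Nat.card R = r ^ (1 + 2 * k)) ∨
      (r = 2 ∧ e = 2 ∧ Nat.card (Subgroup.center R) = 4 ∧ Nat.card R = 2 ^ (2 + 2 * k))) :
    ∃ j : ℕ, n = r ^ j := by
  apply pc.c6pow r R p e hR habs hmin
  rcases hcase with ⟨hodd, hZ, -, -⟩ | ⟨rfl, -, hZ, -⟩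
  · rw [hZ, Nat.coprime_two_left.2 hodd, mul_one]
  · rw [hZ]
    rfl

/-- `r = 2`: `q = p ≡ 3 mod 4` -/
theorem c6_arith_two (hF : Fintype.card F = q ^ 2) (p : ℕ) (hmin : IsMinimalFieldFor 4 p 2 F) :
    p.Prime ∧ q = p ∧ p % 4 = 3 := by
  obtain ⟨hp, -, hc, hdvd, hmin'⟩ := hmin
  have hqp : q = p := by
    rw [hF] at hc
    exact Nat.pow_left_injective (n := 2) (by norm_num) hc
  refine ⟨hp, hqp, ?_⟩
  have h1 := hmin' 1 (by norm_num) (by norm_num)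
  rw [pow_one] at h1
  have hp2 := hp.two_le
  have hmod : p % 4 = 0 ∨ p % 4 = 1 ∨ p % 4 = 2 ∨ p % 4 = 3 := by omega
  rcases hmod with h | h | h | h
  · exfalso
    have : p ^ 2 % 4 = 0 := by rw [Nat.pow_mod, h]
    have h4 : 1 ≤ p ^ 2 := Nat.one_le_pow _ _ (by omega)
    omega
  · exfalso
    apply h1
    omega
  · exfalso
    have : p ^ 2 % 4 = 0 := by rw [Nat.pow_mod, h]
    have h4 : 1 ≤ p ^ 2 := Nat.one_le_pow _ _ (by omega)
    omega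
  · exact h

/-- `r = 3`: `q = p ≡ 2 mod 3` -/
theorem c6_arith_three (hF : Fintype.card F = q ^ 2) (p e : ℕ) (h3p : 3 ≠ p)
    (hmin : IsMinimalFieldFor 3 p e F) : p.Prime ∧ q = p ∧ p % 3 = 2 := by
  obtain ⟨hp, -, hc, hdvd, hmin'⟩ := hmin
  have hp2 := hp.two_le
  have hq2 := two_le_q hF
  have hmod : p % 3 = 1 ∨ p % 3 = 2 := by
    have h0 : p % 3 ≠ 0 := by
      intro h
      have : 3 ∣ p := Nat.dvd_of_mod_eq_zero h
      exact h3p ((Nat.prime_dvd_prime_iff_eq Nat.prime_three hp).mp this)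
    omega
  have hsq : 3 ∣ p ^ 2 - 1 := by
    have h1 : p ^ 2 % 3 = 1 := by
      rcases hmod with h | h <;> rw [Nat.pow_mod, h]
    have h4 : 1 ≤ p ^ 2 := Nat.one_le_pow _ _ (by omega)
    omega
  have he2 : e ≤ 2 := by
    by_contra h
    exact hmin' 2 (by norm_num) (by omega) hsq
  have he : e = 2 := by
    have h0 : e ≠ 0 := by
      rintro rfl
      rw [pow_zero] at hc
      have : 1 < Fintype.card F := Fintype.one_lt_card
      omega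
    have h1 : e ≠ 1 := by
      rintro rfl
      rw [pow_one, hF] at hc
      have hqp : q ∣ p := ⟨q, by rw [← hc]; ring⟩
      rcases (Nat.dvd_prime hp).mp hqp with h | h
      · omega
      · rw [h] at hc
        nlinarith
    omega
  subst he
  have hqp : q = p := by
    rw [hF] at hc
    exact Nat.pow_left_injective (n := 2) (by norm_num) hc
  refine ⟨hp, hqp, ?_⟩
  have h1 := hmin' 1 (by norm_num) (by norm_num)
  rw [pow_one] at h1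
  rcases hmod with h | h
  · exfalso
    apply h1
    omega
  · exact h


/-! ## The lists -/

theorem not_pp_of_two_primesU {n a b : ℕ} (ha : a.Prime) (hb : b.Prime) (hab : a ≠ b)
    (h1 : a ∣ n) (h2 : b ∣ n) : ∀ r k : ℕ, r.Prime → n ≠ r ^ k := by
  intro r k hr h
  subst h
  have e2 := (Nat.prime_dvd_prime_iff_eq ha hr).mp (Nat.Prime.dvd_of_dvd_pow ha h1)
  have e3 := (Nat.prime_dvd_prime_iff_eq hb hr).mp (Nat.Prime.dvd_of_dvd_pow hb h2)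
  exact hab (e2.trans e3.symm)

theorem final10 (hF : Fintype.card F = q ^ 2) (pc : SUPieces 10 q F) (hub : HubU 10 q F) (H : Subgroup (Matrix.GeneralLinearGroup (Fin 10) F))
    (hH : Cfsg.Geo.IsMaximalIn (Cfsg.GU 10 F q ⊓ Cfsg.Geo.specialLinear (Fin 10) F) H) :
    (∃ W : Submodule F (Fin 10 → F), W ≠ ⊥ ∧ Cfsg.Geo.IsTotallySingularFor (Cfsg.hermForm 10 F q) W ∧ H = Cfsg.Geo.subspaceStabilizer W ⊓ (Cfsg.GU 10 F q ⊓ Cfsg.Geo.specialLinear (Fin 10) F)) ∨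
    (∃ W : Submodule F (Fin 10 → F), W ≠ ⊥ ∧ Cfsg.Geo.IsNondegenerateOn (Cfsg.hermForm 10 F q) W ∧ 2 * Module.finrank F W < 10 ∧ H = Cfsg.Geo.subspaceStabilizer W ⊓ (Cfsg.GU 10 F q ⊓ Cfsg.Geo.specialLinear (Fin 10) F)) ∨
    (∃ D : Fin 10 → Submodule F (Fin 10 → F), Cfsg.Geo.IsNondegenerateMDecomposition (Cfsg.hermForm 10 F q) 1 D ∧ H = Cfsg.Geo.decompositionStabilizer D ⊓ (Cfsg.GU 10 F q ⊓ Cfsg.Geo.specialLinear (Fin 10) F)) ∨
    (3 ≤ q ∧ ∃ D : Fin 5 → Submodule F (Fin 10 → F), Cfsg.Geo.IsNondegenerateMDecomposition (Cfsg.hermForm 10 F q) 2 D ∧ H = Cfsg.Geo.decompositionStabilizer D ⊓ (Cfsg.GU 10 F q ⊓ Cfsg.Geo.specialLinear (Fin 10) F)) ∨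
    (∃ D : Fin 2 → Submodule F (Fin 10 → F), Cfsg.Geo.IsNondegenerateMDecomposition (Cfsg.hermForm 10 F q) 5 D ∧ H = Cfsg.Geo.decompositionStabilizer D ⊓ (Cfsg.GU 10 F q ⊓ Cfsg.Geo.specialLinear (Fin 10) F)) ∨
    (∃ D : Fin 2 → Submodule F (Fin 10 → F), Cfsg.Geo.IsMDecomposition 5 D ∧ (∀ i, Cfsg.Geo.IsTotallySingularFor (Cfsg.hermForm 10 F q) (D i)) ∧ H = Cfsg.Geo.decompositionStabilizer D ⊓ (Cfsg.GU 10 F q ⊓ Cfsg.Geo.specialLinear (Fin 10) F)) ∨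
    (∃ K : Subalgebra F (Matrix (Fin 10) (Fin 10) F), Cfsg.Geo.IsFieldSubalgebra 5 K ∧ Cfsg.Geo.IsAdjointClosedFor (Cfsg.hermForm 10 F q) K ∧ H = Cfsg.Geo.subalgebraNormalizer K ⊓ (Cfsg.GU 10 F q ⊓ Cfsg.Geo.specialLinear (Fin 10) F)) ∨
    (3 ≤ q ∧ ∃ (e : Fin 10 ≃ Fin 2 × Fin 5) (P : Matrix.GeneralLinearGroup (Fin 10) F) (f₁ : (Fin 2 → F) → (Fin 2 → F) → F) (f₂ : (Fin 5 → F) → (Fin 5 → F) → F), Cfsg.Geo.IsUnitaryFormPow q f₁ ∧ Cfsg.Geo.IsUnitaryFormPow q f₂ ∧ Cfsg.Geo.IsTensorFormStructure (fun x : F => x ^ q) (Cfsg.hermForm 10 F q) f₁ f₂ e P ∧ H = Cfsg.Geo.tensorProductSubgroup 2 5 e P ⊓ (Cfsg.GU 10 F q ⊓ Cfsg.Geo.specialLinear (Fin 10) F)) ∨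
    (∃ (F₀ : Subfield F) (r : ℕ) (P : Matrix.GeneralLinearGroup (Fin 10) F), r.Prime ∧ Odd r ∧ Fintype.card F = Nat.card F₀ ^ r ∧ Cfsg.Geo.IsFormRationalStructure (Cfsg.hermForm 10 F q) F₀ 1 P ∧ H = Cfsg.Geo.subfieldSubgroup F₀ P ⊓ (Cfsg.GU 10 F q ⊓ Cfsg.Geo.specialLinear (Fin 10) F)) ∨
    (∃ (F₀ : Subfield F) (P : Matrix.GeneralLinearGroup (Fin 10) F) (ζ : F), Fintype.card F = Nat.card F₀ ^ 2 ∧ ζ ≠ 0 ∧ ζ + ζ ^ q = 0 ∧ Cfsg.Geo.IsFormRationalStructure (Cfsg.hermForm 10 F q) F₀ ζ P ∧ (∀ u : Fin 10 → F, (∀ i, u i ∈ F₀) → (Cfsg.hermForm 10 F q) (Matrix.mulVec (P : Matrix (Fin 10) (Fin 10) F) u) (Matrix.mulVec (P : Matrix (Fin 10) (Fin 10) F) u) = 0) ∧ H = Cfsg.Geo.subfieldSubgroup F₀ P ⊓ (Cfsg.GU 10 F q ⊓ Cfsg.Geo.specialLinear (Fin 10) F)) ∨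
    (Odd q ∧ ∃ (F₀ : Subfield F) (P : Matrix.GeneralLinearGroup (Fin 10) F), Fintype.card F = Nat.card F₀ ^ 2 ∧ Cfsg.Geo.IsFormRationalStructure (Cfsg.hermForm 10 F q) F₀ 1 P ∧ H = Cfsg.Geo.subfieldSubgroup F₀ P ⊓ (Cfsg.GU 10 F q ⊓ Cfsg.Geo.specialLinear (Fin 10) F)) ∨
    Cfsg.Geo.InUnitaryResidualClass H := by
  rcases reduceU hF (by norm_num) pc hub H hH with h | h | ⟨t, k, D, hD, hk2, hE⟩ |
      ⟨k, D, hk, hD, hts, hE⟩ | h | h | ⟨-, h⟩ | ⟨r, R, p, e, k, hR, habs, hsim, hrp, hmin, hcase, hE⟩ |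
      ⟨r, K, hr, hodd, hK, hadj, hE⟩ | ⟨n₁, n₂, e, P, f₁, f₂, h1, h12, h2q, hf₁, hf₂, hT, hE⟩ |
      ⟨k, t, e, P, f₁, hk, ht, hkq, hf₁, hT, hE⟩ | h
  · exact Or.inl h
  · exact Or.inr (Or.inl h)
  · have htk := Cfsg.Agent.Lib.Helper9.HubCor.mul_eq_of_isMDecomposition D hD.decomp
    have ht := hD.decomp.two_le
    have hk := hD.decomp.pos
    have hk5 : k ≤ 5 := by nlinarith
    interval_cases k
    · obtain rfl : t = 10 := by omega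
      exact Or.inr (Or.inr (Or.inl ⟨D, hD, hE⟩))
    · obtain rfl : t = 5 := by omega
      exact Or.inr (Or.inr (Or.inr (Or.inl ⟨hk2 rfl, D, hD, hE⟩)))
    · omega
    · omega
    · obtain rfl : t = 2 := by omega
      exact Or.inr (Or.inr (Or.inr (Or.inr (Or.inl ⟨D, hD, hE⟩))))
  · obtain rfl : k = 5 := by omega
    exact Or.inr (Or.inr (Or.inr (Or.inr (Or.inr (Or.inl ⟨D, hD, hts, hE⟩)))))
  · exact Or.inr (Or.inr (Or.inr (Or.inr (Or.inr (Or.inr (Or.inr (Or.inr (Or.inl h))))))))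
  · exact Or.inr (Or.inr (Or.inr (Or.inr (Or.inr (Or.inr (Or.inr (Or.inr (Or.inr (Or.inr (Or.inl h))))))))))
  · exact Or.inr (Or.inr (Or.inr (Or.inr (Or.inr (Or.inr (Or.inr (Or.inr (Or.inr (Or.inl h)))))))))
  · exfalso
    obtain ⟨j, hj⟩ := c6_pow pc r R p e k hR habs hmin hcase
    exact not_pp_of_two_primesU Nat.prime_two Nat.prime_five (by norm_num) (by norm_num) (by norm_num) r j
      hR.prime hj
  · have hd := Cfsg.Agent.Lib.Helper24.HubCor.dvd_of_isFieldSubalgebra K hK (by norm_num)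
    have h5 : r = 5 := by
      have h10 : (10 : ℕ) = 2 * 5 := by norm_num
      rw [h10] at hd
      rcases (Nat.Prime.dvd_mul hr).mp hd with h | h
      · have := (Nat.prime_dvd_prime_iff_eq hr Nat.prime_two).mp h
        subst this
        exact absurd hodd (by decide)
      · exact (Nat.prime_dvd_prime_iff_eq hr Nat.prime_five).mp h
    subst h5
    exact Or.inr (Or.inr (Or.inr (Or.inr (Or.inr (Or.inr (Or.inl ⟨K, hK, hadj, hE⟩))))))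
  · have hc := card_tensorU e
    have hn1 : n₁ ≤ 3 := by nlinarith
    have h3 : n₁ ≠ 3 := by
      rintro rfl
      omega
    obtain rfl : n₁ = 2 := by omega
    obtain rfl : n₂ = 5 := by omega
    exact Or.inr (Or.inr (Or.inr (Or.inr (Or.inr (Or.inr (Or.inr (Or.inl ⟨h2q rfl, e, P, f₁, f₂, hf₁, hf₂, hT, hE⟩)))))))
  · exfalso
    have hc := card_wreathU e
    have h1 : k ^ 2 ≤ k ^ t := Nat.pow_le_pow_right (by omega) ht
    have h2 : 3 ^ 2 ≤ k ^ 2 := Nat.pow_le_pow_left hk 2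
    have h3 : k ^ 2 ≤ 10 := by omega
    have hk3 : k = 3 := by nlinarith
    subst hk3
    have ht3 : t < 3 := by
      by_contra hcon
      have : 3 ^ 3 ≤ 3 ^ t := Nat.pow_le_pow_right (by norm_num) (by omega)
      omega
    obtain rfl : t = 2 := by omega
    norm_num at hc
  · exact Or.inr (Or.inr (Or.inr (Or.inr (Or.inr (Or.inr (Or.inr (Or.inr (Or.inr (Or.inr (Or.inr h))))))))))

theorem final12 (hF : Fintype.card F = q ^ 2) (pc : SUPieces 12 q F) (hub : HubU 12 q F) (H : Subgroup (Matrix.GeneralLinearGroup (Fin 12) F))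
    (hH : Cfsg.Geo.IsMaximalIn (Cfsg.GU 12 F q ⊓ Cfsg.Geo.specialLinear (Fin 12) F) H) :
    (∃ W : Submodule F (Fin 12 → F), W ≠ ⊥ ∧ Cfsg.Geo.IsTotallySingularFor (Cfsg.hermForm 12 F q) W ∧ H = Cfsg.Geo.subspaceStabilizer W ⊓ (Cfsg.GU 12 F q ⊓ Cfsg.Geo.specialLinear (Fin 12) F)) ∨
    (∃ W : Submodule F (Fin 12 → F), W ≠ ⊥ ∧ Cfsg.Geo.IsNondegenerateOn (Cfsg.hermForm 12 F q) W ∧ 2 * Module.finrank F W < 12 ∧ H = Cfsg.Geo.subspaceStabilizer W ⊓ (Cfsg.GU 12 F q ⊓ Cfsg.Geo.specialLinear (Fin 12) F)) ∨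
    (∃ D : Fin 12 → Submodule F (Fin 12 → F), Cfsg.Geo.IsNondegenerateMDecomposition (Cfsg.hermForm 12 F q) 1 D ∧ H = Cfsg.Geo.decompositionStabilizer D ⊓ (Cfsg.GU 12 F q ⊓ Cfsg.Geo.specialLinear (Fin 12) F)) ∨
    (3 ≤ q ∧ ∃ D : Fin 6 → Submodule F (Fin 12 → F), Cfsg.Geo.IsNondegenerateMDecomposition (Cfsg.hermForm 12 F q) 2 D ∧ H = Cfsg.Geo.decompositionStabilizer D ⊓ (Cfsg.GU 12 F q ⊓ Cfsg.Geo.specialLinear (Fin 12) F)) ∨
    (∃ D : Fin 4 → Submodule F (Fin 12 → F), Cfsg.Geo.IsNondegenerateMDecomposition (Cfsg.hermForm 12 F q) 3 D ∧ H = Cfsg.Geo.decompositionStabilizer D ⊓ (Cfsg.GU 12 F q ⊓ Cfsg.Geo.specialLinear (Fin 12) F)) ∨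
    (∃ D : Fin 3 → Submodule F (Fin 12 → F), Cfsg.Geo.IsNondegenerateMDecomposition (Cfsg.hermForm 12 F q) 4 D ∧ H = Cfsg.Geo.decompositionStabilizer D ⊓ (Cfsg.GU 12 F q ⊓ Cfsg.Geo.specialLinear (Fin 12) F)) ∨
    (∃ D : Fin 2 → Submodule F (Fin 12 → F), Cfsg.Geo.IsNondegenerateMDecomposition (Cfsg.hermForm 12 F q) 6 D ∧ H = Cfsg.Geo.decompositionStabilizer D ⊓ (Cfsg.GU 12 F q ⊓ Cfsg.Geo.specialLinear (Fin 12) F)) ∨
    (∃ D : Fin 2 → Submodule F (Fin 12 → F), Cfsg.Geo.IsMDecomposition 6 D ∧ (∀ i, Cfsg.Geo.IsTotallySingularFor (Cfsg.hermForm 12 F q) (D i)) ∧ H = Cfsg.Geo.decompositionStabilizer D ⊓ (Cfsg.GU 12 F q ⊓ Cfsg.Geo.specialLinear (Fin 12) F)) ∨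
    (∃ K : Subalgebra F (Matrix (Fin 12) (Fin 12) F), Cfsg.Geo.IsFieldSubalgebra 3 K ∧ Cfsg.Geo.IsAdjointClosedFor (Cfsg.hermForm 12 F q) K ∧ H = Cfsg.Geo.subalgebraNormalizer K ⊓ (Cfsg.GU 12 F q ⊓ Cfsg.Geo.specialLinear (Fin 12) F)) ∨
    (3 ≤ q ∧ ∃ (e : Fin 12 ≃ Fin 2 × Fin 6) (P : Matrix.GeneralLinearGroup (Fin 12) F) (f₁ : (Fin 2 → F) → (Fin 2 → F) → F) (f₂ : (Fin 6 → F) → (Fin 6 → F) → F), Cfsg.Geo.IsUnitaryFormPow q f₁ ∧ Cfsg.Geo.IsUnitaryFormPow q f₂ ∧ Cfsg.Geo.IsTensorFormStructure (fun x : F => x ^ q) (Cfsg.hermForm 12 F q) f₁ f₂ e P ∧ H = Cfsg.Geo.tensorProductSubgroup 2 6 e P ⊓ (Cfsg.GU 12 F q ⊓ Cfsg.Geo.specialLinear (Fin 12) F)) ∨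
    (∃ (e : Fin 12 ≃ Fin 3 × Fin 4) (P : Matrix.GeneralLinearGroup (Fin 12) F) (f₁ : (Fin 3 → F) → (Fin 3 → F) → F) (f₂ : (Fin 4 → F) → (Fin 4 → F) → F), Cfsg.Geo.IsUnitaryFormPow q f₁ ∧ Cfsg.Geo.IsUnitaryFormPow q f₂ ∧ Cfsg.Geo.IsTensorFormStructure (fun x : F => x ^ q) (Cfsg.hermForm 12 F q) f₁ f₂ e P ∧ H = Cfsg.Geo.tensorProductSubgroup 3 4 e P ⊓ (Cfsg.GU 12 F q ⊓ Cfsg.Geo.specialLinear (Fin 12) F)) ∨
    (∃ (F₀ : Subfield F) (r : ℕ) (P : Matrix.GeneralLinearGroup (Fin 12) F), r.Prime ∧ Odd r ∧ Fintype.card F = Nat.card F₀ ^ r ∧ Cfsg.Geo.IsFormRationalStructure (Cfsg.hermForm 12 F q) F₀ 1 P ∧ H = Cfsg.Geo.subfieldSubgroup F₀ P ⊓ (Cfsg.GU 12 F q ⊓ Cfsg.Geo.specialLinear (Fin 12) F)) ∨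
    (∃ (F₀ : Subfield F) (P : Matrix.GeneralLinearGroup (Fin 12) F) (ζ : F), Fintype.card F = Nat.card F₀ ^ 2 ∧ ζ ≠ 0 ∧ ζ + ζ ^ q = 0 ∧ Cfsg.Geo.IsFormRationalStructure (Cfsg.hermForm 12 F q) F₀ ζ P ∧ (∀ u : Fin 12 → F, (∀ i, u i ∈ F₀) → (Cfsg.hermForm 12 F q) (Matrix.mulVec (P : Matrix (Fin 12) (Fin 12) F) u) (Matrix.mulVec (P : Matrix (Fin 12) (Fin 12) F) u) = 0) ∧ H = Cfsg.Geo.subfieldSubgroup F₀ P ⊓ (Cfsg.GU 12 F q ⊓ Cfsg.Geo.specialLinear (Fin 12) F)) ∨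
    (Odd q ∧ ∃ (F₀ : Subfield F) (P : Matrix.GeneralLinearGroup (Fin 12) F), Fintype.card F = Nat.card F₀ ^ 2 ∧ Cfsg.Geo.IsFormRationalStructure (Cfsg.hermForm 12 F q) F₀ 1 P ∧ H = Cfsg.Geo.subfieldSubgroup F₀ P ⊓ (Cfsg.GU 12 F q ⊓ Cfsg.Geo.specialLinear (Fin 12) F)) ∨
    Cfsg.Geo.InUnitaryResidualClass H := by
  rcases reduceU hF (by norm_num) pc hub H hH with h | h | ⟨t, k, D, hD, hk2, hE⟩ |
      ⟨k, D, hk, hD, hts, hE⟩ | h | h | ⟨heven, h⟩ | ⟨r, R, p, e, k, hR, habs, hsim, hrp, hmin, hcase, hE⟩ |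
      ⟨r, K, hr, hodd, hK, hadj, hE⟩ | ⟨n₁, n₂, e, P, f₁, f₂, h1, h12, h2q, hf₁, hf₂, hT, hE⟩ |
      ⟨k, t, e, P, f₁, hk, ht, hkq, hf₁, hT, hE⟩ | h
  · exact Or.inl h
  · exact Or.inr (Or.inl h)
  · have htk := Cfsg.Agent.Lib.Helper9.HubCor.mul_eq_of_isMDecomposition D hD.decomp
    have ht := hD.decomp.two_le
    have hk := hD.decomp.pos
    have hk6 : k ≤ 6 := by nlinarith
    interval_cases k
    · obtain rfl : t = 12 := by omega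
      exact Or.inr (Or.inr (Or.inl ⟨D, hD, hE⟩))
    · obtain rfl : t = 6 := by omega
      exact Or.inr (Or.inr (Or.inr (Or.inl ⟨hk2 rfl, D, hD, hE⟩)))
    · obtain rfl : t = 4 := by omega
      exact Or.inr (Or.inr (Or.inr (Or.inr (Or.inl ⟨D, hD, hE⟩))))
    · obtain rfl : t = 3 := by omega
      exact Or.inr (Or.inr (Or.inr (Or.inr (Or.inr (Or.inl ⟨D, hD, hE⟩)))))
    · omega
    · obtain rfl : t = 2 := by omega
      exact Or.inr (Or.inr (Or.inr (Or.inr (Or.inr (Or.inr (Or.inl ⟨D, hD, hE⟩))))))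
  · obtain rfl : k = 6 := by omega
    exact Or.inr (Or.inr (Or.inr (Or.inr (Or.inr (Or.inr (Or.inr (Or.inl ⟨D, hD, hts, hE⟩)))))))
  · exact Or.inr (Or.inr (Or.inr (Or.inr (Or.inr (Or.inr (Or.inr (Or.inr (Or.inr (Or.inr (Or.inr (Or.inl h)))))))))))
  · exact Or.inr (Or.inr (Or.inr (Or.inr (Or.inr (Or.inr (Or.inr (Or.inr (Or.inr (Or.inr (Or.inr (Or.inr (Or.inr (Or.inl h)))))))))))))
  · exact Or.inr (Or.inr (Or.inr (Or.inr (Or.inr (Or.inr (Or.inr (Or.inr (Or.inr (Or.inr (Or.inr (Or.inr (Or.inl h))))))))))))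
  · exfalso
    obtain ⟨j, hj⟩ := c6_pow pc r R p e k hR habs hmin hcase
    exact not_pp_of_two_primesU Nat.prime_two Nat.prime_three (by norm_num) (by norm_num) (by norm_num) r j
      hR.prime hj
  · have hd := Cfsg.Agent.Lib.Helper24.HubCor.dvd_of_isFieldSubalgebra K hK (by norm_num)
    have h3 : r = 3 := by
      have h12' : (12 : ℕ) = 2 * (2 * 3) := by norm_num
      rw [h12'] at hd
      rcases (Nat.Prime.dvd_mul hr).mp hd with h | h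
      · have := (Nat.prime_dvd_prime_iff_eq hr Nat.prime_two).mp h
        subst this
        exact absurd hodd (by decide)
      · rcases (Nat.Prime.dvd_mul hr).mp h with h | h
        · have := (Nat.prime_dvd_prime_iff_eq hr Nat.prime_two).mp h
          subst this
          exact absurd hodd (by decide)
        · exact (Nat.prime_dvd_prime_iff_eq hr Nat.prime_three).mp h
    subst h3
    exact Or.inr (Or.inr (Or.inr (Or.inr (Or.inr (Or.inr (Or.inr (Or.inr (Or.inl ⟨K, hK, hadj, hE⟩))))))))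
  · have hc := card_tensorU e
    have hn1 : n₁ ≤ 3 := by nlinarith
    have h23 : n₁ = 2 ∨ n₁ = 3 := by omega
    rcases h23 with rfl | rfl
    · obtain rfl : n₂ = 6 := by omega
      exact Or.inr (Or.inr (Or.inr (Or.inr (Or.inr (Or.inr (Or.inr (Or.inr (Or.inr (Or.inl ⟨h2q rfl, e, P, f₁, f₂, hf₁, hf₂, hT, hE⟩)))))))))
    · obtain rfl : n₂ = 4 := by omega
      exact Or.inr (Or.inr (Or.inr (Or.inr (Or.inr (Or.inr (Or.inr (Or.inr (Or.inr (Or.inr (Or.inl ⟨e, P, f₁, f₂, hf₁, hf₂, hT, hE⟩))))))))))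
  · exfalso
    have hc := card_wreathU e
    have h1 : k ^ 2 ≤ k ^ t := Nat.pow_le_pow_right (by omega) ht
    have h2 : 3 ^ 2 ≤ k ^ 2 := Nat.pow_le_pow_left hk 2
    have h3 : k ^ 2 ≤ 12 := by omega
    have hk3 : k = 3 := by nlinarith
    subst hk3
    have ht3 : t < 3 := by
      by_contra hcon
      have : 3 ^ 3 ≤ 3 ^ t := Nat.pow_le_pow_right (by norm_num) (by omega)
      omega
    obtain rfl : t = 2 := by omega
    norm_num at hc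
  · exact Or.inr (Or.inr (Or.inr (Or.inr (Or.inr (Or.inr (Or.inr (Or.inr (Or.inr (Or.inr (Or.inr (Or.inr (Or.inr (Or.inr h)))))))))))))

theorem final8 (hF : Fintype.card F = q ^ 2) (pc : SUPieces 8 q F) (hub : HubU 8 q F) (H : Subgroup (Matrix.GeneralLinearGroup (Fin 8) F))
    (hH : Cfsg.Geo.IsMaximalIn (Cfsg.GU 8 F q ⊓ Cfsg.Geo.specialLinear (Fin 8) F) H) :
    (∃ W : Submodule F (Fin 8 → F), W ≠ ⊥ ∧ Cfsg.Geo.IsTotallySingularFor (Cfsg.hermForm 8 F q) W ∧ H = Cfsg.Geo.subspaceStabilizer W ⊓ (Cfsg.GU 8 F q ⊓ Cfsg.Geo.specialLinear (Fin 8) F)) ∨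
    (∃ W : Submodule F (Fin 8 → F), W ≠ ⊥ ∧ Cfsg.Geo.IsNondegenerateOn (Cfsg.hermForm 8 F q) W ∧ 2 * Module.finrank F W < 8 ∧ H = Cfsg.Geo.subspaceStabilizer W ⊓ (Cfsg.GU 8 F q ⊓ Cfsg.Geo.specialLinear (Fin 8) F)) ∨
    (∃ D : Fin 8 → Submodule F (Fin 8 → F), Cfsg.Geo.IsNondegenerateMDecomposition (Cfsg.hermForm 8 F q) 1 D ∧ H = Cfsg.Geo.decompositionStabilizer D ⊓ (Cfsg.GU 8 F q ⊓ Cfsg.Geo.specialLinear (Fin 8) F)) ∨
    (3 ≤ q ∧ ∃ D : Fin 4 → Submodule F (Fin 8 → F), Cfsg.Geo.IsNondegenerateMDecomposition (Cfsg.hermForm 8 F q) 2 D ∧ H = Cfsg.Geo.decompositionStabilizer D ⊓ (Cfsg.GU 8 F q ⊓ Cfsg.Geo.specialLinear (Fin 8) F)) ∨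
    (∃ D : Fin 2 → Submodule F (Fin 8 → F), Cfsg.Geo.IsNondegenerateMDecomposition (Cfsg.hermForm 8 F q) 4 D ∧ H = Cfsg.Geo.decompositionStabilizer D ⊓ (Cfsg.GU 8 F q ⊓ Cfsg.Geo.specialLinear (Fin 8) F)) ∨
    (∃ D : Fin 2 → Submodule F (Fin 8 → F), Cfsg.Geo.IsMDecomposition 4 D ∧ (∀ i, Cfsg.Geo.IsTotallySingularFor (Cfsg.hermForm 8 F q) (D i)) ∧ H = Cfsg.Geo.decompositionStabilizer D ⊓ (Cfsg.GU 8 F q ⊓ Cfsg.Geo.specialLinear (Fin 8) F)) ∨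
    (3 ≤ q ∧ ∃ (e : Fin 8 ≃ Fin 2 × Fin 4) (P : Matrix.GeneralLinearGroup (Fin 8) F) (f₁ : (Fin 2 → F) → (Fin 2 → F) → F) (f₂ : (Fin 4 → F) → (Fin 4 → F) → F), Cfsg.Geo.IsUnitaryFormPow q f₁ ∧ Cfsg.Geo.IsUnitaryFormPow q f₂ ∧ Cfsg.Geo.IsTensorFormStructure (fun x : F => x ^ q) (Cfsg.hermForm 8 F q) f₁ f₂ e P ∧ H = Cfsg.Geo.tensorProductSubgroup 2 4 e P ⊓ (Cfsg.GU 8 F q ⊓ Cfsg.Geo.specialLinear (Fin 8) F)) ∨
    (∃ (F₀ : Subfield F) (r : ℕ) (P : Matrix.GeneralLinearGroup (Fin 8) F), r.Prime ∧ Odd r ∧ Fintype.card F = Nat.card F₀ ^ r ∧ Cfsg.Geo.IsFormRationalStructure (Cfsg.hermForm 8 F q) F₀ 1 P ∧ H = Cfsg.Geo.subfieldSubgroup F₀ P ⊓ (Cfsg.GU 8 F q ⊓ Cfsg.Geo.specialLinear (Fin 8) F)) ∨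
    (∃ (F₀ : Subfield F) (P : Matrix.GeneralLinearGroup (Fin 8) F) (ζ : F), Fintype.card F = Nat.card F₀ ^ 2 ∧ ζ ≠ 0 ∧ ζ + ζ ^ q = 0 ∧ Cfsg.Geo.IsFormRationalStructure (Cfsg.hermForm 8 F q) F₀ ζ P ∧ (∀ u : Fin 8 → F, (∀ i, u i ∈ F₀) → (Cfsg.hermForm 8 F q) (Matrix.mulVec (P : Matrix (Fin 8) (Fin 8) F) u) (Matrix.mulVec (P : Matrix (Fin 8) (Fin 8) F) u) = 0) ∧ H = Cfsg.Geo.subfieldSubgroup F₀ P ⊓ (Cfsg.GU 8 F q ⊓ Cfsg.Geo.specialLinear (Fin 8) F)) ∨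
    (Odd q ∧ ∃ (F₀ : Subfield F) (P : Matrix.GeneralLinearGroup (Fin 8) F), Fintype.card F = Nat.card F₀ ^ 2 ∧ Cfsg.Geo.IsFormRationalStructure (Cfsg.hermForm 8 F q) F₀ 1 P ∧ H = Cfsg.Geo.subfieldSubgroup F₀ P ⊓ (Cfsg.GU 8 F q ⊓ Cfsg.Geo.specialLinear (Fin 8) F)) ∨
    (∃ (p : ℕ) (R : Subgroup (Matrix.GeneralLinearGroup (Fin 8) F)), p.Prime ∧ q = p ∧ p % 4 = 3 ∧ Cfsg.Geo.IsSymplecticTypeGroup 2 R ∧ Cfsg.Geo.ActsAbsolutelyIrreducibly (Cfsg.Geo.matrixSet R) ∧ R ≤ Cfsg.Geo.similarityGroup (Cfsg.hermForm 8 F q) ∧ Nat.card R = 256 ∧ Nat.card (Subgroup.center R) = 4 ∧ H = Cfsg.Geo.subgroupNormalizer R ⊓ (Cfsg.GU 8 F q ⊓ Cfsg.Geo.specialLinear (Fin 8) F)) ∨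
    Cfsg.Geo.InUnitaryResidualClass H := by
  rcases reduceU hF (by norm_num) pc hub H hH with h | h | ⟨t, k, D, hD, hk2, hE⟩ |
      ⟨k, D, hk, hD, hts, hE⟩ | h | h | ⟨heven, h⟩ | ⟨r, R, p, e, k, hR, habs, hsim, hrp, hmin, hcase, hE⟩ |
      ⟨r, K, hr, hodd, hK, hadj, hE⟩ | ⟨n₁, n₂, e, P, f₁, f₂, h1, h12, h2q, hf₁, hf₂, hT, hE⟩ |
      ⟨k, t, e, P, f₁, hk, ht, hkq, hf₁, hT, hE⟩ | h
  · exact Or.inl h
  · exact Or.inr (Or.inl h)
  · have htk := Cfsg.Agent.Lib.Helper9.HubCor.mul_eq_of_isMDecomposition D hD.decomp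
    have ht := hD.decomp.two_le
    have hk := hD.decomp.pos
    have hk4 : k ≤ 4 := by nlinarith
    interval_cases k
    · obtain rfl : t = 8 := by omega
      exact Or.inr (Or.inr (Or.inl ⟨D, hD, hE⟩))
    · obtain rfl : t = 4 := by omega
      exact Or.inr (Or.inr (Or.inr (Or.inl ⟨hk2 rfl, D, hD, hE⟩)))
    · omega
    · obtain rfl : t = 2 := by omega
      exact Or.inr (Or.inr (Or.inr (Or.inr (Or.inl ⟨D, hD, hE⟩))))
  · obtain rfl : k = 4 := by omega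
    exact Or.inr (Or.inr (Or.inr (Or.inr (Or.inr (Or.inl ⟨D, hD, hts, hE⟩)))))
  · exact Or.inr (Or.inr (Or.inr (Or.inr (Or.inr (Or.inr (Or.inr (Or.inl h)))))))
  · exact Or.inr (Or.inr (Or.inr (Or.inr (Or.inr (Or.inr (Or.inr (Or.inr (Or.inr (Or.inl h)))))))))
  · exact Or.inr (Or.inr (Or.inr (Or.inr (Or.inr (Or.inr (Or.inr (Or.inr (Or.inl h))))))))
  · -- class 6: `8 = 2 ^ 3`
    have hnk := pc.c6exact r R p e k hR habs hrp hmin hcase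
    have hr2 : r = 2 := by
      have h2 : r ∣ 8 := by
        rw [hnk]
        apply dvd_pow_self
        rintro rfl
        norm_num at hnk
      have h8 : (8 : ℕ) = 2 ^ 3 := by norm_num
      rw [h8] at h2
      exact (Nat.prime_dvd_prime_iff_eq hR.prime Nat.prime_two).mp (hR.prime.dvd_of_dvd_pow h2)
    subst hr2
    have hk3 : k = 3 := by
      have h8 : (2 : ℕ) ^ 3 = 2 ^ k := by rw [← hnk]; norm_num
      exact (Nat.pow_right_injective (le_refl 2) h8).symm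
    subst hk3
    rcases hcase with ⟨hodd, -⟩ | ⟨-, he, hZ, hcard⟩
    · exact absurd hodd (by decide)
    · subst he
      rw [hZ] at hmin
      obtain ⟨hp, hqp, hmod⟩ := c6_arith_two hF p hmin
      exact Or.inr (Or.inr (Or.inr (Or.inr (Or.inr (Or.inr (Or.inr (Or.inr (Or.inr (Or.inr (Or.inl ⟨p, R, hp, hqp, hmod, hR, habs, hsim, by rw [hcard]; norm_num, hZ, hE⟩))))))))))
  · exfalso
    have hd := Cfsg.Agent.Lib.Helper24.HubCor.dvd_of_isFieldSubalgebra K hK (by norm_num)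
    have h8 : (8 : ℕ) = 2 ^ 3 := by norm_num
    rw [h8] at hd
    have := (Nat.prime_dvd_prime_iff_eq hr Nat.prime_two).mp (hr.dvd_of_dvd_pow hd)
    subst this
    exact absurd hodd (by decide)
  · have hc := card_tensorU e
    have hn1 : n₁ ≤ 2 := by nlinarith
    obtain rfl : n₁ = 2 := by omega
    obtain rfl : n₂ = 4 := by omega
    exact Or.inr (Or.inr (Or.inr (Or.inr (Or.inr (Or.inr (Or.inl ⟨h2q rfl, e, P, f₁, f₂, hf₁, hf₂, hT, hE⟩))))))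
  · exfalso
    have hc := card_wreathU e
    have h1 : k ^ 2 ≤ k ^ t := Nat.pow_le_pow_right (by omega) ht
    have h2 : 3 ^ 2 ≤ k ^ 2 := Nat.pow_le_pow_left hk 2
    omega
  · exact Or.inr (Or.inr (Or.inr (Or.inr (Or.inr (Or.inr (Or.inr (Or.inr (Or.inr (Or.inr (Or.inr h))))))))))

theorem final9 (hF : Fintype.card F = q ^ 2) (pc : SUPieces 9 q F) (hub : HubU 9 q F) (H : Subgroup (Matrix.GeneralLinearGroup (Fin 9) F))
    (hH : Cfsg.Geo.IsMaximalIn (Cfsg.GU 9 F q ⊓ Cfsg.Geo.specialLinear (Fin 9) F) H) :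
    (∃ W : Submodule F (Fin 9 → F), W ≠ ⊥ ∧ Cfsg.Geo.IsTotallySingularFor (Cfsg.hermForm 9 F q) W ∧ H = Cfsg.Geo.subspaceStabilizer W ⊓ (Cfsg.GU 9 F q ⊓ Cfsg.Geo.specialLinear (Fin 9) F)) ∨
    (∃ W : Submodule F (Fin 9 → F), W ≠ ⊥ ∧ Cfsg.Geo.IsNondegenerateOn (Cfsg.hermForm 9 F q) W ∧ 2 * Module.finrank F W < 9 ∧ H = Cfsg.Geo.subspaceStabilizer W ⊓ (Cfsg.GU 9 F q ⊓ Cfsg.Geo.specialLinear (Fin 9) F)) ∨
    (∃ D : Fin 9 → Submodule F (Fin 9 → F), Cfsg.Geo.IsNondegenerateMDecomposition (Cfsg.hermForm 9 F q) 1 D ∧ H = Cfsg.Geo.decompositionStabilizer D ⊓ (Cfsg.GU 9 F q ⊓ Cfsg.Geo.specialLinear (Fin 9) F)) ∨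
    (∃ D : Fin 3 → Submodule F (Fin 9 → F), Cfsg.Geo.IsNondegenerateMDecomposition (Cfsg.hermForm 9 F q) 3 D ∧ H = Cfsg.Geo.decompositionStabilizer D ⊓ (Cfsg.GU 9 F q ⊓ Cfsg.Geo.specialLinear (Fin 9) F)) ∨
    (∃ K : Subalgebra F (Matrix (Fin 9) (Fin 9) F), Cfsg.Geo.IsFieldSubalgebra 3 K ∧ Cfsg.Geo.IsAdjointClosedFor (Cfsg.hermForm 9 F q) K ∧ H = Cfsg.Geo.subalgebraNormalizer K ⊓ (Cfsg.GU 9 F q ⊓ Cfsg.Geo.specialLinear (Fin 9) F)) ∨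
    (∃ (F₀ : Subfield F) (r : ℕ) (P : Matrix.GeneralLinearGroup (Fin 9) F), r.Prime ∧ Odd r ∧ Fintype.card F = Nat.card F₀ ^ r ∧ Cfsg.Geo.IsFormRationalStructure (Cfsg.hermForm 9 F q) F₀ 1 P ∧ H = Cfsg.Geo.subfieldSubgroup F₀ P ⊓ (Cfsg.GU 9 F q ⊓ Cfsg.Geo.specialLinear (Fin 9) F)) ∨
    (Odd q ∧ ∃ (F₀ : Subfield F) (P : Matrix.GeneralLinearGroup (Fin 9) F), Fintype.card F = Nat.card F₀ ^ 2 ∧ Cfsg.Geo.IsFormRationalStructure (Cfsg.hermForm 9 F q) F₀ 1 P ∧ H = Cfsg.Geo.subfieldSubgroup F₀ P ⊓ (Cfsg.GU 9 F q ⊓ Cfsg.Geo.specialLinear (Fin 9) F)) ∨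
    (∃ (p : ℕ) (R : Subgroup (Matrix.GeneralLinearGroup (Fin 9) F)), p.Prime ∧ q = p ∧ p % 3 = 2 ∧ Cfsg.Geo.IsSymplecticTypeGroup 3 R ∧ Cfsg.Geo.ActsAbsolutelyIrreducibly (Cfsg.Geo.matrixSet R) ∧ R ≤ Cfsg.Geo.similarityGroup (Cfsg.hermForm 9 F q) ∧ Nat.card R = 243 ∧ Nat.card (Subgroup.center R) = 3 ∧ H = Cfsg.Geo.subgroupNormalizer R ⊓ (Cfsg.GU 9 F q ⊓ Cfsg.Geo.specialLinear (Fin 9) F)) ∨
    (3 ≤ q ∧ ∃ (e : Fin 9 ≃ (Fin 2 → Fin 3)) (P : Matrix.GeneralLinearGroup (Fin 9) F) (f₁ : (Fin 3 → F) → (Fin 3 → F) → F), Cfsg.Geo.IsUnitaryFormPow q f₁ ∧ Cfsg.Geo.IsTensorPowerFormStructure (fun x : F => x ^ q) (Cfsg.hermForm 9 F q) f₁ e P ∧ H = Cfsg.Geo.tensorWreathSubgroup 3 2 e P ⊓ (Cfsg.GU 9 F q ⊓ Cfsg.Geo.specialLinear (Fin 9) F)) ∨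
    Cfsg.Geo.InUnitaryResidualClass H := by
  have hq2 := two_le_q hF
  rcases reduceU hF (by norm_num) pc hub H hH with h | h | ⟨t, k, D, hD, hk2, hE⟩ |
      ⟨k, D, hk, hD, hts, hE⟩ | h | h | ⟨heven, h⟩ | ⟨r, R, p, e, k, hR, habs, hsim, hrp, hmin, hcase, hE⟩ |
      ⟨r, K, hr, hodd, hK, hadj, hE⟩ | ⟨n₁, n₂, e, P, f₁, f₂, h1, h12, h2q, hf₁, hf₂, hT, hE⟩ |
      ⟨k, t, e, P, f₁, hk, ht, hkq, hf₁, hT, hE⟩ | h
  · exact Or.inl h
  · exact Or.inr (Or.inl h)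
  · have htk := Cfsg.Agent.Lib.Helper9.HubCor.mul_eq_of_isMDecomposition D hD.decomp
    have ht := hD.decomp.two_le
    have hk := hD.decomp.pos
    have hk4 : k ≤ 4 := by nlinarith
    interval_cases k
    · obtain rfl : t = 9 := by omega
      exact Or.inr (Or.inr (Or.inl ⟨D, hD, hE⟩))
    · omega
    · obtain rfl : t = 3 := by omega
      exact Or.inr (Or.inr (Or.inr (Or.inl ⟨D, hD, hE⟩)))
    · omega
  · omega
  · exact Or.inr (Or.inr (Or.inr (Or.inr (Or.inr (Or.inl h)))))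
  · exact Or.inr (Or.inr (Or.inr (Or.inr (Or.inr (Or.inr (Or.inl h))))))
  · exact absurd heven (by decide)
  · -- class 6: `9 = 3 ^ 2`
    have hnk := pc.c6exact r R p e k hR habs hrp hmin hcase
    have hr3 : r = 3 := by
      have h3 : r ∣ 9 := by
        rw [hnk]
        apply dvd_pow_self
        rintro rfl
        norm_num at hnk
      have h9 : (9 : ℕ) = 3 ^ 2 := by norm_num
      rw [h9] at h3
      exact (Nat.prime_dvd_prime_iff_eq hR.prime Nat.prime_three).mp (hR.prime.dvd_of_dvd_pow h3)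
    subst hr3
    have hk2 : k = 2 := by
      have h9 : (3 : ℕ) ^ 2 = 3 ^ k := by rw [← hnk]; norm_num
      exact (Nat.pow_right_injective (by norm_num) h9).symm
    subst hk2
    rcases hcase with ⟨-, hZ, -, hcard⟩ | ⟨h32, -⟩
    · rw [hZ] at hmin
      obtain ⟨hp, hqp, hmod⟩ := c6_arith_three hF p e hrp hmin
      exact Or.inr (Or.inr (Or.inr (Or.inr (Or.inr (Or.inr (Or.inr (Or.inl ⟨p, R, hp, hqp, hmod, hR, habs, hsim, by rw [hcard]; norm_num, hZ, hE⟩)))))))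
    · omega
  · have hd := Cfsg.Agent.Lib.Helper24.HubCor.dvd_of_isFieldSubalgebra K hK (by norm_num)
    have h9 : (9 : ℕ) = 3 ^ 2 := by norm_num
    rw [h9] at hd
    have := (Nat.prime_dvd_prime_iff_eq hr Nat.prime_three).mp (hr.dvd_of_dvd_pow hd)
    subst this
    exact Or.inr (Or.inr (Or.inr (Or.inr (Or.inl ⟨K, hK, hadj, hE⟩))))
  · exfalso
    have hc := card_tensorU e
    have hn1 : n₁ ≤ 2 := by nlinarith
    obtain rfl : n₁ = 2 := by omega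
    omega
  · have hc := card_wreathU e
    have h1 : k ^ 2 ≤ k ^ t := Nat.pow_le_pow_right (by omega) ht
    have h2 : 3 ^ 2 ≤ k ^ 2 := Nat.pow_le_pow_left hk 2
    have h3 : k ^ 2 ≤ 9 := by omega
    have hk3 : k = 3 := by nlinarith
    subst hk3
    have ht3 : t < 3 := by
      by_contra hcon
      have : 3 ^ 3 ≤ 3 ^ t := Nat.pow_le_pow_right (by norm_num) (by omega)
      omega
    obtain rfl : t = 2 := by omega
    have hq3 : 3 ≤ q := by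
      have : q ≠ 2 := fun h => hkq ⟨h, rfl⟩
      omega
    exact Or.inr (Or.inr (Or.inr (Or.inr (Or.inr (Or.inr (Or.inr (Or.inr (Or.inl ⟨hq3, e, P, f₁, hf₁, hT, hE⟩))))))))
  · exact Or.inr (Or.inr (Or.inr (Or.inr (Or.inr (Or.inr (Or.inr (Or.inr (Or.inr h))))))))

end Cfsg.Agent.Lib.Helper9.UCor
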