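import Mathlib
import Cfsg.Prelude.Def_GeometricClasses
import Cfsg.Agent.Lib.Helper6.Hermitian
import Cfsg.Agent.Lib.Helper13.SUMax
import Cfsg.Agent.Lib.Helper19.HSa

/-!
# SU corollary family, piece PU1: `SU_n(q)` is irreducible  (helper9)

`n ≥ 3`, `(n, q) ≠ (3, 2)`: no proper non-zero subspace is stabilised by `SU_n(q) = GU n F q ⊓ specialLinear`.
Also the basic tool `iso_mem_or_perp`: if a unitary transvection with centre `v` stabilises `W` then `v ∈ W` or
`v` is orthogonal to `W`.
-/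

set_option autoImplicit false

namespace Cfsg.Agent.Lib.Helper9.SUCorPU1

open Matrix Module Cfsg Cfsg.Geo Cfsg.Agent.S0779 Cfsg.Agent.Lib.Helper6 Cfsg.Agent.Lib.Helper6.SUG
open Cfsg.Agent.Lib.Helper13 Cfsg.Agent.Lib.Helper19.HS

variable {F : Type*} [Field F] [Fintype F] {n q : ℕ}

local notation "hh" => Cfsg.hermForm n F q

/-- the image of a vector under the unitary transvection with centre `v`, inside `GL` -/
theorem suGL_tv_mulVec (hF : Fintype.card F = q ^ 2) (v : Fin n → F) (c : F) (hv : hh v v = 0)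
    (hc : c ^ q = -c) (x : Fin n → F) :
    ((suGL n F q (SUG.tv hF v c hv hc) : GL (Fin n) F) : Matrix (Fin n) (Fin n) F) *ᵥ x =
      x + (c * hh x v) • v := by
  rw [suGL_mulVec, av_tv]

/-- membership in a subspace stabiliser, in one direction -/
theorem mulVec_mem_of_mem_stab {g : GL (Fin n) F} {W : Submodule F (Fin n → F)}
    (hg : g ∈ subspaceStabilizer W) {x : Fin n → F} (hx : x ∈ W) :
    (g : Matrix (Fin n) (Fin n) F) *ᵥ x ∈ W :=
  (hg x).mp hx

/-- if `SU` stabilises `W`, an isotropic vector lies in `W` or is orthogonal to `W` -/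
theorem iso_mem_or_perp (hF : Fintype.card F = q ^ 2) (W : Submodule F (Fin n → F))
    (hle : GU n F q ⊓ specialLinear (Fin n) F ≤ subspaceStabilizer W) (v : Fin n → F)
    (hv : hh v v = 0) (w : Fin n → F) (hw : w ∈ W) : hh w v = 0 ∨ v ∈ W := by
  obtain ⟨k₀, hk0, hk⟩ := exists_trace_zero hF
  by_cases h0 : hh w v = 0
  · exact Or.inl h0
  right
  have hg := hle (suGL_mem (SUG.tv hF v k₀ hv hk))
  have h1 := mulVec_mem_of_mem_stab hg hw
  rw [suGL_tv_mulVec] at h1
  have h2 := W.sub_mem h1 hw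
  rw [add_sub_cancel_left] at h2
  exact (W.smul_mem_iff (mul_ne_zero hk0 h0)).mp h2

/-- **PU1** `SU_n(q)` is irreducible -/
theorem not_su_le_subspaceStabilizer (hF : Fintype.card F = q ^ 2) (hn : 3 ≤ n) (hex : ¬ (n = 3 ∧ q = 2))
    (W : Submodule F (Fin n → F)) (h0 : W ≠ ⊥) (h1 : W ≠ ⊤) :
    ¬ GU n F q ⊓ specialLinear (Fin n) F ≤ subspaceStabilizer W := by
  classical
  intro hle
  have hinvW : ∀ g ∈ GU n F q ⊓ specialLinear (Fin n) F, Inv (g : Matrix (Fin n) (Fin n) F) W :=
    fun g hg x hx => mulVec_mem_of_mem_stab (hle hg) hx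
  have hpres : ∀ g ∈ GU n F q ⊓ specialLinear (Fin n) F, Pres q (g : Matrix (Fin n) (Fin n) F) :=
    fun g hg u v => hg.1 u v
  by_cases hR : W ⊓ perp q W = ⊥
  swap
  · -- a non-zero totally singular invariant subspace
    have hts : IsTotallySingularFor (hermForm n F q) (W ⊓ perp q W) := by
      intro u hu v hv
      exact herm_swap_zero hF (hv.2 u hu.1)
    have hmax := su_ts_stabilizer_maximal hF (by omega) hex (W ⊓ perp q W) hR hts
    have hle' : GU n F q ⊓ specialLinear (Fin n) F ≤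
        subspaceStabilizer (W ⊓ perp q W) ⊓ (GU n F q ⊓ specialLinear (Fin n) F) := by
      intro g hg
      refine ⟨mem_subspaceStabilizer_of_forall g _ ?_, hg⟩
      exact (hinvW g hg).inf ((hinvW g hg).perp hF (hpres g hg))
    exact absurd (lt_of_le_of_lt hle' hmax.1) (lt_irrefl _)
  -- `W` is non-degenerate
  have hND : ND q W := (nd_iff W).2 hR
  have hNDP : ND q (perp q W) := nd_perp hF hND
  have hdim := finrank_perp_add hF W
  have hWlt : finrank F W < n := by
    have := Submodule.finrank_lt h1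
    rwa [Module.finrank_fin_fun] at this
  have hP0 : perp q W ≠ ⊥ := by
    intro hbot
    rw [hbot, finrank_bot] at hdim
    omega
  obtain ⟨w, hwW, hw⟩ := exists_aniso hF (ne_bot_not_ti hND h0)
  obtain ⟨w', hw'P, hw'⟩ := exists_aniso hF (ne_bot_not_ti hNDP hP0)
  -- the norms are fixed by `x ↦ x ^ q`
  have hα : (hh w w) ^ q = hh w w := herm_conj hF w w
  have hβ : (hh w' w') ^ q = hh w' w' := herm_conj hF w' w'
  have ht0 : -(hh w w) / hh w' w' ≠ 0 := div_ne_zero (neg_ne_zero.mpr hw) hw'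
  have htq : conjQ hF (-(hh w w) / hh w' w') = -(hh w w) / hh w' w' := by
    rw [map_div₀, map_neg, conjQ_apply, conjQ_apply, hα, hβ]
  obtain ⟨c, hc⟩ := exists_norm (conjQ hF) (conjQ_ne_id hF) (conjQ_conjQ hF) _ ht0 htq
  rw [conjQ_apply] at hc
  have hc0 : c ≠ 0 := by
    rintro rfl
    rw [zero_mul] at hc
    exact ht0 hc.symm
  have hww' : hh w w' = 0 := herm_swap_zero hF (hw'P w hwW)
  have hw'w : hh w' w = 0 := hw'P w hwW
  -- the isotropic vector
  have hviso : hh (w + c • w') (w + c • w') = 0 := by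
    rw [herm_add_left, herm_add_right hF, herm_add_right hF, herm_smul_left, herm_smul_left,
      herm_smul_right, herm_smul_right, hww', hw'w]
    have : c * (c ^ q * hh w' w') = -(hh w w) := by
      rw [← mul_assoc, hc, div_mul_cancel₀ _ hw']
    rw [this]
    ring
  have hwv : hh w (w + c • w') ≠ 0 := by
    rw [herm_add_right hF, herm_smul_right, hww', mul_zero, add_zero]
    exact hw
  rcases iso_mem_or_perp hF W hle _ hviso w hwW with h | h
  · exact hwv h
  · have h2 := W.sub_mem h hwW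
    rw [add_sub_cancel_left] at h2
    have h3 : w' ∈ W := (W.smul_mem_iff hc0).mp h2
    have h4 : w' ∈ W ⊓ perp q W := ⟨h3, hw'P⟩
    rw [hR, Submodule.mem_bot] at h4
    rw [h4, herm_zero_left] at hw'
    exact hw' rfl

end Cfsg.Agent.Lib.Helper9.SUCorPU1
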