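import Mathlib
import Cfsg.Agent.S0561
import Cfsg.Agent.S0581
import Cfsg.Agent.S0079
import Cfsg.Agent.Lib.Helper1.Fitting

set_option autoImplicit false
set_option linter.style.haveILetI false

/-!
Kegel–Wielandt, coprime case: relative (subgroup) versions of S0561, S0581, S0079.
-/

namespace Cfsg.Agent.Lib.Helper9.KW

open scoped Pointwise

variable {G : Type*} [Group G]

/-- cardinality of `X.subgroupOf L` for `X ≤ L` -/
theorem card_subgroupOf_of_le {X L : Subgroup G} (h : X ≤ L) :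
    Nat.card (X.subgroupOf L) = Nat.card X :=
  Nat.card_congr (Subgroup.subgroupOfEquivOfLe h).toEquiv

/-- index of `X.subgroupOf L` from a factorisation of `card L` -/
theorem index_subgroupOf_of_card [Finite G] {X L : Subgroup G} (h : X ≤ L) {m : ℕ}
    (hm : Nat.card L = Nat.card X * m) : (X.subgroupOf L).index = m := by
  have h1 := Subgroup.card_mul_index (X.subgroupOf L)
  rw [card_subgroupOf_of_le h, hm] at h1
  exact Nat.eq_of_mul_eq_mul_left Nat.card_pos h1

theorem isNilpotent_subgroupOf {X L : Subgroup G} (h : X ≤ L) (hX : Group.IsNilpotent X) :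
    Group.IsNilpotent (X.subgroupOf L) :=
  (Group.isNilpotent_congr (Subgroup.subgroupOfEquivOfLe h)).mpr hX

/-- relative S0561: in a solvable subgroup `L = HK`, Hall subgroups `A' ⊴ H`, `B' ⊴ K` of `L`
have a subgroup as product set. -/
theorem rel_prod [Finite G] (L H K A' B' : Subgroup G) (hs : Group.IsSolvable L)
    (hH : H ≤ L) (hK : K ≤ L) (hf : ∀ g ∈ L, ∃ h ∈ H, ∃ k ∈ K, g = h * k)
    (hA : A' ≤ H) (hAn : H ≤ Subgroup.normalizer (A' : Set G))
    (hB : B' ≤ K) (hBn : K ≤ Subgroup.normalizer (B' : Set G))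
    {m₁ m₂ : ℕ} (hm₁ : Nat.card L = Nat.card A' * m₁) (hc₁ : (Nat.card A').Coprime m₁)
    (hm₂ : Nat.card L = Nat.card B' * m₂) (hc₂ : (Nat.card B').Coprime m₂) :
    ∃ S : Subgroup G, (S : Set G) = (A' : Set G) * (B' : Set G) := by
  haveI : Group.IsSolvable L := hs
  have hAL : A' ≤ L := hA.trans hH
  have hBL : B' ≤ L := hB.trans hK
  have hf' : ∀ g : L, ∃ h ∈ H.subgroupOf L, ∃ k ∈ K.subgroupOf L, g = h * k := by
    rintro ⟨g, hg⟩
    obtain ⟨h, hh, k, hk, e⟩ := hf g hg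
    exact ⟨⟨h, hH hh⟩, Subgroup.mem_subgroupOf.mpr hh, ⟨k, hK hk⟩, Subgroup.mem_subgroupOf.mpr hk,
      Subtype.ext e⟩
  have hA' : A'.subgroupOf L ≤ H.subgroupOf L := fun x hx =>
    Subgroup.mem_subgroupOf.mpr (hA (Subgroup.mem_subgroupOf.mp hx))
  have hB' : B'.subgroupOf L ≤ K.subgroupOf L := fun x hx =>
    Subgroup.mem_subgroupOf.mpr (hB (Subgroup.mem_subgroupOf.mp hx))
  have hAn' : ((A'.subgroupOf L).subgroupOf (H.subgroupOf L)).Normal := by
    constructor
    rintro ⟨⟨n, hnL⟩, hnH⟩ hn ⟨⟨g, hgL⟩, hgH⟩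
    rw [Subgroup.mem_subgroupOf, Subgroup.mem_subgroupOf] at hn ⊢
    have hg : g ∈ H := Subgroup.mem_subgroupOf.mp hgH
    have := (Subgroup.mem_normalizer_iff.mp (hAn hg) n).mp hn
    simpa using this
  have hBn' : ((B'.subgroupOf L).subgroupOf (K.subgroupOf L)).Normal := by
    constructor
    rintro ⟨⟨n, hnL⟩, hnH⟩ hn ⟨⟨g, hgL⟩, hgH⟩
    rw [Subgroup.mem_subgroupOf, Subgroup.mem_subgroupOf] at hn ⊢
    have hg : g ∈ K := Subgroup.mem_subgroupOf.mp hgH
    have := (Subgroup.mem_normalizer_iff.mp (hBn hg) n).mp hn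
    simpa using this
  have hAh : (Nat.card (A'.subgroupOf L)).Coprime (A'.subgroupOf L).index := by
    rw [card_subgroupOf_of_le hAL, index_subgroupOf_of_card hAL hm₁]; exact hc₁
  have hBh : (Nat.card (B'.subgroupOf L)).Coprime (B'.subgroupOf L).index := by
    rw [card_subgroupOf_of_le hBL, index_subgroupOf_of_card hBL hm₂]; exact hc₂
  obtain ⟨S, hS⟩ := Cfsg.Agent.S0561.result (G := L) (H.subgroupOf L) (K.subgroupOf L)
    (A'.subgroupOf L) (B'.subgroupOf L) hf' hA' hAn' hB' hBn' hAh hBh 1 1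
  rw [map_one, one_smul, one_smul] at hS
  refine ⟨S.map L.subtype, ?_⟩
  ext x
  constructor
  · rintro ⟨⟨y, hyL⟩, hy, rfl⟩
    have : (⟨y, hyL⟩ : L) ∈ ((A'.subgroupOf L : Subgroup L) : Set L) *
        ((B'.subgroupOf L : Subgroup L) : Set L) := by rw [← hS]; exact hy
    obtain ⟨a, ha, b, hb, e⟩ := this
    refine ⟨a.1, Subgroup.mem_subgroupOf.mp ha, b.1, Subgroup.mem_subgroupOf.mp hb, ?_⟩
    have := congrArg Subtype.val e
    simpa using this
  · rintro ⟨a, ha, b, hb, rfl⟩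
    have ha' : a ∈ A' := ha
    have hb' : b ∈ B' := hb
    refine ⟨⟨a, hAL ha'⟩ * ⟨b, hBL hb'⟩, ?_, rfl⟩
    have : (⟨a, hAL ha'⟩ * ⟨b, hBL hb'⟩ : L) ∈ ((A'.subgroupOf L : Subgroup L) : Set L) *
        ((B'.subgroupOf L : Subgroup L) : Set L) :=
      ⟨_, Subgroup.mem_subgroupOf.mpr ha', _, Subgroup.mem_subgroupOf.mpr hb', rfl⟩
    rw [← hS] at this
    exact this

/-- relative S0581: a subgroup `K'` of `L` all of whose prime divisors divide the order of a nilpotent
Hall subgroup `E` of `L` is `L`-conjugate into `E`. -/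
theorem rel_wielandt [Finite G] (L E K' : Subgroup G) (hE : E ≤ L) (hK : K' ≤ L)
    (hnil : Group.IsNilpotent E) {m : ℕ} (hm : Nat.card L = Nat.card E * m)
    (hc : (Nat.card E).Coprime m)
    (hp : ∀ p : ℕ, p.Prime → p ∣ Nat.card K' → p ∣ Nat.card E) :
    ∃ l ∈ L, ∀ k ∈ K', l⁻¹ * k * l ∈ E := by
  have h1 : Group.IsNilpotent (E.subgroupOf L) := isNilpotent_subgroupOf hE hnil
  have h2 : (Nat.card (E.subgroupOf L)).Coprime (E.subgroupOf L).index := by
    rw [card_subgroupOf_of_le hE, index_subgroupOf_of_card hE hm]; exact hc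
  have h3 : ∀ p : ℕ, p.Prime → p ∣ Nat.card (K'.subgroupOf L) → p ∣ Nat.card (E.subgroupOf L) := by
    intro p hpp hd
    rw [card_subgroupOf_of_le hK] at hd
    rw [card_subgroupOf_of_le hE]
    exact hp p hpp hd
  obtain ⟨x, hx⟩ := Cfsg.Agent.S0581.result (G := L) (E.subgroupOf L) (K'.subgroupOf L) h1 h2 h3
  refine ⟨x.1, x.2, ?_⟩
  intro k hk
  have hk' : (⟨k, hK hk⟩ : L) ∈ K'.subgroupOf L := Subgroup.mem_subgroupOf.mpr hk
  have := hx hk'
  rw [Subgroup.mem_pointwise_smul_iff_inv_smul_mem] at this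
  have h4 := Subgroup.mem_subgroupOf.mp this
  simpa [MulAut.smul_def, mul_assoc] using h4

/-- relative S0079: a nilpotent Hall subgroup `E` of `L` controlling its own `L`-fusion has a normal
complement in `L`. -/
theorem rel_complement [Finite G] (L E : Subgroup G) (hE : E ≤ L)
    (hnil : Group.IsNilpotent E) {m : ℕ} (hm : Nat.card L = Nat.card E * m)
    (hc : (Nat.card E).Coprime m)
    (hfus : ∀ x ∈ E, ∀ y ∈ E, (∃ g ∈ L, g * x * g⁻¹ = y) → ∃ h ∈ E, h * x * h⁻¹ = y) :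
    ∃ N : Subgroup G, N ≤ L ∧ L ≤ Subgroup.normalizer (N : Set G) ∧ Nat.card N = m := by
  have h1 : Group.IsNilpotent (E.subgroupOf L) := isNilpotent_subgroupOf hE hnil
  have h2 : (Nat.card (E.subgroupOf L)).Coprime (E.subgroupOf L).index := by
    rw [card_subgroupOf_of_le hE, index_subgroupOf_of_card hE hm]; exact hc
  have h3 : ∀ x ∈ E.subgroupOf L, ∀ y ∈ E.subgroupOf L, (∃ g : L, g * x * g⁻¹ = y) →
      ∃ h ∈ E.subgroupOf L, h * x * h⁻¹ = y := by
    rintro ⟨x, hxL⟩ hx ⟨y, hyL⟩ hy ⟨⟨g, hgL⟩, hg⟩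
    have hx' : x ∈ E := Subgroup.mem_subgroupOf.mp hx
    have hy' : y ∈ E := Subgroup.mem_subgroupOf.mp hy
    have hg' : g * x * g⁻¹ = y := by
      have := congrArg Subtype.val hg
      simpa using this
    obtain ⟨h, hh, e⟩ := hfus x hx' y hy' ⟨g, hgL, hg'⟩
    exact ⟨⟨h, hE hh⟩, Subgroup.mem_subgroupOf.mpr hh, Subtype.ext (by simpa using e)⟩
  obtain ⟨N, hNn, hNc⟩ := (Cfsg.Agent.S0079.result (G := L) (E.subgroupOf L) h1 h2).mpr h3
  refine ⟨N.map L.subtype, ?_, ?_, ?_⟩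
  · rintro x ⟨y, -, rfl⟩
    exact y.2
  · intro l hl
    rw [Subgroup.mem_normalizer_iff]
    intro x
    constructor
    · rintro ⟨y, hy, rfl⟩
      exact ⟨⟨l, hl⟩ * y * ⟨l, hl⟩⁻¹, hNn.conj_mem y hy ⟨l, hl⟩, by simp⟩
    · rintro ⟨y, hy, e⟩
      have hxL : x ∈ L := by
        have : l * x * l⁻¹ ∈ L := by rw [← e]; exact y.2
        have h5 := L.mul_mem (L.mul_mem (L.inv_mem hl) this) hl
        have e2 : l⁻¹ * (l * x * l⁻¹) * l = x := by group
        rwa [e2] at h5
      refine ⟨⟨x, hxL⟩, ?_, rfl⟩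
      have h6 := hNn.conj_mem y hy ⟨l, hl⟩⁻¹
      have e3 : (⟨l, hl⟩ : L)⁻¹ * y * (⟨l, hl⟩⁻¹)⁻¹ = ⟨x, hxL⟩ := by
        apply Subtype.ext
        have : (y : G) = l * x * l⁻¹ := e
        simp only [Subgroup.coe_mul, Subgroup.coe_inv, this]
        group
      rwa [e3] at h6
  · have h7 := hNc.card_mul_card
    rw [card_subgroupOf_of_le hE, hm] at h7
    have h8 : Nat.card (N.map L.subtype) = Nat.card N :=
      Subgroup.card_map_of_injective L.subtype_injective
    rw [h8]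
    have hpos : 0 < Nat.card E := Nat.card_pos
    have : Nat.card N * Nat.card E = m * Nat.card E := by rw [h7, mul_comm]
    exact Nat.eq_of_mul_eq_mul_right hpos this

/-- relative Fitting subgroup of a solvable subgroup `K`. -/
theorem rel_fitting [Finite G] (K : Subgroup G) (hs : Group.IsSolvable K) :
    let F := (Cfsg.fittingSubgroup K).map K.subtype
    F ≤ K ∧ K ≤ Subgroup.normalizer (F : Set G) ∧
      (∀ c ∈ K, (∀ f ∈ F, c * f = f * c) → c ∈ F) ∧
      ∀ Q : Subgroup G, (∀ q : ℕ, q.Prime → ∀ W : Subgroup G, W ≤ K →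
        K ≤ Subgroup.normalizer (W : Set G) → IsPGroup q W → W ≤ Q) → F ≤ Q := by
  haveI : Group.IsSolvable K := hs
  intro F
  refine ⟨?_, ?_, ?_, ?_⟩
  · rintro x ⟨y, -, rfl⟩
    exact y.2
  · intro l hl
    have hn := Cfsg.Agent.Lib.Helper1.fittingSubgroup_normal (G := K)
    rw [Subgroup.mem_normalizer_iff]
    intro x
    constructor
    · rintro ⟨y, hy, rfl⟩
      exact ⟨⟨l, hl⟩ * y * ⟨l, hl⟩⁻¹, hn.conj_mem y hy ⟨l, hl⟩, by simp⟩
    · rintro ⟨y, hy, e⟩
      have hxL : x ∈ K := by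
        have : l * x * l⁻¹ ∈ K := by rw [← e]; exact y.2
        have h5 := K.mul_mem (K.mul_mem (K.inv_mem hl) this) hl
        have e2 : l⁻¹ * (l * x * l⁻¹) * l = x := by group
        rwa [e2] at h5
      refine ⟨⟨x, hxL⟩, ?_, rfl⟩
      have h6 := hn.conj_mem y hy ⟨l, hl⟩⁻¹
      have e3 : (⟨l, hl⟩ : K)⁻¹ * y * (⟨l, hl⟩⁻¹)⁻¹ = ⟨x, hxL⟩ := by
        apply Subtype.ext
        have : (y : G) = l * x * l⁻¹ := e
        simp only [Subgroup.coe_mul, Subgroup.coe_inv, this]
        group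
      rwa [e3] at h6
  · intro c hc hcf
    have : (⟨c, hc⟩ : K) ∈ Subgroup.centralizer (Cfsg.fittingSubgroup K : Set K) := by
      rw [Subgroup.mem_centralizer_iff]
      intro f hf
      apply Subtype.ext
      have := hcf f.1 ⟨f, hf, rfl⟩
      simpa using this.symm
    exact ⟨⟨c, hc⟩, Cfsg.Agent.Lib.Helper1.centralizer_fittingSubgroup_le this, rfl⟩
  · intro Q hQ
    show (Cfsg.fittingSubgroup K).map K.subtype ≤ Q
    rw [Cfsg.Agent.Lib.Helper1.fittingSubgroup_eq_iSup_primes, Subgroup.map_iSup]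
    refine iSup_le fun q => ?_
    haveI : Fact (q : ℕ).Prime := ⟨q.2⟩
    apply hQ q q.2
    · rintro x ⟨y, -, rfl⟩
      exact y.2
    · intro l hl
      have hn := Cfsg.Agent.Lib.Helper1.pCore_normal (G := K) (q : ℕ)
      rw [Subgroup.mem_normalizer_iff]
      intro x
      constructor
      · rintro ⟨y, hy, rfl⟩
        exact ⟨⟨l, hl⟩ * y * ⟨l, hl⟩⁻¹, hn.conj_mem y hy ⟨l, hl⟩, by simp⟩
      · rintro ⟨y, hy, e⟩
        have hxL : x ∈ K := by
          have : l * x * l⁻¹ ∈ K := by rw [← e]; exact y.2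
          have h5 := K.mul_mem (K.mul_mem (K.inv_mem hl) this) hl
          have e2 : l⁻¹ * (l * x * l⁻¹) * l = x := by group
          rwa [e2] at h5
        refine ⟨⟨x, hxL⟩, ?_, rfl⟩
        have h6 := hn.conj_mem y hy ⟨l, hl⟩⁻¹
        have e3 : (⟨l, hl⟩ : K)⁻¹ * y * (⟨l, hl⟩⁻¹)⁻¹ = ⟨x, hxL⟩ := by
          apply Subtype.ext
          have : (y : G) = l * x * l⁻¹ := e
          simp only [Subgroup.coe_mul, Subgroup.coe_inv, this]
          group
        rwa [e3] at h6
    · exact (Cfsg.Agent.Lib.Helper1.pCore_isPGroup (G := K) (q : ℕ)).map K.subtype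

/-- conjugation by an element of the normalizer, as an automorphism of the subgroup -/
def conjEquiv (K : Subgroup G) (g : G) (hg : g ∈ Subgroup.normalizer (K : Set G)) : K ≃* K where
  toFun x := ⟨g * x * g⁻¹, (Subgroup.mem_normalizer_iff.mp hg x).mp x.2⟩
  invFun x := ⟨g⁻¹ * x * g, by
    have := (Subgroup.mem_normalizer_iff.mp hg (g⁻¹ * x * g)).mpr
    apply this
    have e : g * (g⁻¹ * (x : G) * g) * g⁻¹ = x := by group
    rw [e]; exact x.2⟩
  left_inv x := by apply Subtype.ext; simp only []; group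
  right_inv x := by apply Subtype.ext; simp only []; group
  map_mul' x y := by apply Subtype.ext; simp only [Subgroup.coe_mul]; group

/-- the relative Fitting subgroup is nilpotent and normalized by the normalizer of `K`. -/
theorem rel_fitting' [Finite G] (K : Subgroup G) :
    Group.IsNilpotent ((Cfsg.fittingSubgroup K).map K.subtype) ∧
    Subgroup.normalizer (K : Set G) ≤
      Subgroup.normalizer (((Cfsg.fittingSubgroup K).map K.subtype : Subgroup G) : Set G) := by
  constructor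
  · haveI := Cfsg.Agent.Lib.Helper1.fittingSubgroup_isNilpotent (G := K)
    exact (Group.isNilpotent_congr
      ((Cfsg.fittingSubgroup K).equivMapOfInjective K.subtype K.subtype_injective)).mp inferInstance
  · intro g hg
    have hchar := Cfsg.Agent.Lib.Helper1.fittingSubgroup_characteristic (G := K)
    have key : ∀ (g : G) (hg : g ∈ Subgroup.normalizer (K : Set G)),
        ∀ x ∈ (Cfsg.fittingSubgroup K).map K.subtype,
        g * x * g⁻¹ ∈ (Cfsg.fittingSubgroup K).map K.subtype := by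
      rintro g hg x ⟨y, hy, rfl⟩
      have h1 := (Subgroup.characteristic_iff_map_eq.mp hchar) (conjEquiv K g hg)
      have h2 : (conjEquiv K g hg) y ∈ Cfsg.fittingSubgroup K := by
        rw [← h1]; exact ⟨y, hy, rfl⟩
      exact ⟨_, h2, rfl⟩
    rw [Subgroup.mem_normalizer_iff]
    intro x
    constructor
    · exact key g hg x
    · intro hx
      have := key g⁻¹ (Subgroup.inv_mem _ hg) _ hx
      have e : g⁻¹ * (g * x * g⁻¹) * g⁻¹⁻¹ = x := by group
      rwa [e] at this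

end Cfsg.Agent.Lib.Helper9.KW
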