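import Mathlib
import Cfsg.Agent.Lib.Helper9.KW0
import Cfsg.Agent.Lib.Helper1.Nilpotent
import Cfsg.Agent.Lib.Helper10.CNFrob
import Cfsg.Agent.Lib.Helper9.Wielandt2

set_option autoImplicit false
set_option linter.style.haveILetI false
set_option linter.unusedSectionVars false

/-!
Kegel–Wielandt, coprime case: nilpotent subgroups, `p`-parts, central elements of prime order.
-/

namespace Cfsg.Agent.Lib.Helper9.KW

open scoped Pointwise

variable {G : Type*} [Group G]

/-- decomposition of an element into its `r`-part and `r'`-part -/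
theorem exists_decomp [Finite G] (x : G) (r : ℕ) [hr : Fact r.Prime] :
    ∃ y z : G, y ∈ Subgroup.zpowers x ∧ z ∈ Subgroup.zpowers x ∧ y * z = x ∧
      (∃ k : ℕ, y ^ r ^ k = 1) ∧ (orderOf z).Coprime r := by
  have hn0 : orderOf x ≠ 0 := (orderOf_pos x).ne'
  set n := orderOf x with hn
  set j := n.factorization r with hj
  set m := n / r ^ j with hm
  have hnm : r ^ j * m = n := Nat.ordProj_mul_ordCompl_eq_self n r
  have hcop : Nat.Coprime (r ^ j) m := Nat.Coprime.pow_left _ (Nat.coprime_ordCompl hr.out hn0)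
  have hbez : ((r ^ j : ℕ) : ℤ) * Nat.gcdA (r ^ j) m + (m : ℤ) * Nat.gcdB (r ^ j) m = 1 := by
    rw [← Nat.gcd_eq_gcd_ab, hcop.gcd_eq_one]; simp
  refine ⟨x ^ ((m : ℤ) * Nat.gcdB (r ^ j) m), x ^ (((r ^ j : ℕ) : ℤ) * Nat.gcdA (r ^ j) m),
    ⟨_, rfl⟩, ⟨_, rfl⟩, ?_, ⟨j, ?_⟩, ?_⟩
  · rw [← zpow_add, add_comm, hbez, zpow_one]
  · rw [← zpow_natCast, ← zpow_mul]
    have : (m : ℤ) * Nat.gcdB (r ^ j) m * ((r ^ j : ℕ) : ℤ) = (n : ℤ) * Nat.gcdB (r ^ j) m := by
      rw [← hnm]; push_cast; ring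
    rw [this, zpow_mul, zpow_natCast, hn, pow_orderOf_eq_one, one_zpow]
  · have hdvd : orderOf (x ^ (((r ^ j : ℕ) : ℤ) * Nat.gcdA (r ^ j) m)) ∣ m := by
      apply orderOf_dvd_of_pow_eq_one
      rw [← zpow_natCast, ← zpow_mul]
      have : ((r ^ j : ℕ) : ℤ) * Nat.gcdA (r ^ j) m * (m : ℤ) = (n : ℤ) * Nat.gcdA (r ^ j) m := by
        rw [← hnm]; push_cast; ring
      rw [this, zpow_mul, zpow_natCast, hn, pow_orderOf_eq_one, one_zpow]
    exact Nat.Coprime.coprime_dvd_left hdvd (Nat.coprime_ordCompl hr.out hn0).symm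

/-- an element with `y ^ r ^ k = 1` has order coprime to every number coprime to `r` -/
theorem coprime_orderOf_of_pow {r : ℕ} {y z : G} (hy : ∃ k : ℕ, y ^ r ^ k = 1)
    (hz : (orderOf z).Coprime r) : (orderOf z).Coprime (orderOf y) := by
  obtain ⟨k, hk⟩ := hy
  have : orderOf y ∣ r ^ k := orderOf_dvd_of_pow_eq_one hk
  exact Nat.Coprime.coprime_dvd_right this (Nat.Coprime.pow_right k hz)

section nilp

variable [Finite G]

/-- the Sylow `p`-subgroup of a (nilpotent) subgroup, inside `G` -/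
noncomputable def pPart (A : Subgroup G) (p : ℕ) [Fact p.Prime] : Subgroup G :=
  ((Classical.arbitrary (Sylow p A) : Sylow p A) : Subgroup A).map A.subtype

theorem pPart_le (A : Subgroup G) (p : ℕ) [Fact p.Prime] : pPart A p ≤ A := by
  rintro x ⟨y, -, rfl⟩
  exact y.2

theorem pPart_isPGroup (A : Subgroup G) (p : ℕ) [Fact p.Prime] : IsPGroup p (pPart A p) :=
  (Classical.arbitrary (Sylow p A)).isPGroup'.map A.subtype

theorem card_pPart (A : Subgroup G) (p : ℕ) [Fact p.Prime] :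
    Nat.card (pPart A p) = p ^ (Nat.card A).factorization p := by
  unfold pPart
  rw [Subgroup.card_map_of_injective A.subtype_injective]
  exact Sylow.card_eq_multiplicity _

theorem pPart_ne_bot (A : Subgroup G) (p : ℕ) [hp : Fact p.Prime] (h : p ∣ Nat.card A) :
    pPart A p ≠ ⊥ := by
  intro hb
  have h1 := card_pPart A p
  rw [hb, Subgroup.card_bot] at h1
  have h2 : 0 < (Nat.card A).factorization p :=
    hp.out.factorization_pos_of_dvd Nat.card_pos.ne' h
  have : 1 < p ^ (Nat.card A).factorization p := Nat.one_lt_pow h2.ne' hp.out.one_lt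
  omega

theorem sylow_normal_of_nilpotent {A : Subgroup G} (hA : Group.IsNilpotent A) (p : ℕ)
    [hp : Fact p.Prime] (P : Sylow p A) : (P : Subgroup A).Normal := by
  haveI := hA
  infer_instance

theorem mem_pPart_iff {A : Subgroup G} (hA : Group.IsNilpotent A) (p : ℕ) [hp : Fact p.Prime]
    (x : G) : x ∈ pPart A p ↔ x ∈ A ∧ ∃ k : ℕ, x ^ p ^ k = 1 := by
  constructor
  · intro hx
    refine ⟨pPart_le A p hx, ?_⟩
    obtain ⟨k, hk⟩ := (pPart_isPGroup A p) ⟨x, hx⟩
    exact ⟨k, by simpa using congrArg Subtype.val hk⟩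
  · rintro ⟨hxA, k, hk⟩
    set P : Sylow p A := Classical.arbitrary (Sylow p A) with hP
    haveI := sylow_normal_of_nilpotent hA p P
    have hpg : IsPGroup p (Subgroup.zpowers (⟨x, hxA⟩ : A)) := by
      rw [IsPGroup.iff_orderOf]
      rintro ⟨y, hy⟩
      obtain ⟨i, rfl⟩ := Subgroup.mem_zpowers_iff.mp hy
      have h1 : ((⟨x, hxA⟩ : A) ^ i) ^ p ^ k = 1 := by
        rw [← zpow_natCast, ← zpow_mul, mul_comm, zpow_mul, zpow_natCast]
        have : (⟨x, hxA⟩ : A) ^ p ^ k = 1 := Subtype.ext (by simpa using hk)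
        rw [this, one_zpow]
      have h2 : orderOf ((⟨x, hxA⟩ : A) ^ i) ∣ p ^ k := orderOf_dvd_of_pow_eq_one h1
      obtain ⟨j, -, hj⟩ := (Nat.dvd_prime_pow hp.out).mp h2
      refine ⟨j, ?_⟩
      rw [Subgroup.orderOf_mk]
      exact hj
    obtain ⟨Q, hQ⟩ := hpg.exists_le_sylow
    have hQP : Q = P := by
      obtain ⟨g, hg⟩ := MulAction.exists_smul_eq A P Q
      rw [← hg]
      exact Sylow.smul_eq_of_normal
    have : (⟨x, hxA⟩ : A) ∈ (P : Subgroup A) := by
      rw [← hQP]; exact hQ (Subgroup.mem_zpowers _)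
    exact ⟨⟨x, hxA⟩, this, rfl⟩

theorem le_normalizer_pPart {A : Subgroup G} (hA : Group.IsNilpotent A) (p : ℕ) [Fact p.Prime] :
    A ≤ Subgroup.normalizer (pPart A p : Set G) := by
  intro a ha
  rw [Subgroup.mem_normalizer_iff]
  intro x
  rw [mem_pPart_iff hA, mem_pPart_iff hA]
  constructor
  · rintro ⟨hx, k, hk⟩
    refine ⟨A.mul_mem (A.mul_mem ha hx) (A.inv_mem ha), k, ?_⟩
    rw [conj_pow, hk]; group
  · rintro ⟨hx, k, hk⟩
    refine ⟨?_, k, ?_⟩
    · have := A.mul_mem (A.mul_mem (A.inv_mem ha) hx) ha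
      have e : a⁻¹ * (a * x * a⁻¹) * a = x := by group
      rwa [e] at this
    · rw [conj_pow] at hk
      have : x ^ p ^ k = a⁻¹ * (a * x ^ p ^ k * a⁻¹) * a := by group
      rw [this, hk]; group

/-- elements of order prime to `p` in a nilpotent subgroup commute with its `p`-part -/
theorem commute_pPart {A : Subgroup G} (hA : Group.IsNilpotent A) (p : ℕ) [Fact p.Prime]
    {x y : G} (hx : x ∈ A) (hxo : (orderOf x).Coprime p) (hy : y ∈ pPart A p) :
    x * y = y * x := by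
  obtain ⟨hyA, hk⟩ := (mem_pPart_iff hA p y).mp hy
  exact Cfsg.Agent.Lib.Helper10.commute_of_mem_of_isNilpotent hA hx hyA
    (coprime_orderOf_of_pow hk hxo)

/-- a nilpotent subgroup whose order is divisible by `p` has a central element of order `p` -/
theorem exists_central {A : Subgroup G} (hA : Group.IsNilpotent A) (p : ℕ) [hp : Fact p.Prime]
    (h : p ∣ Nat.card A) : ∃ z ∈ A, orderOf z = p ∧ ∀ a ∈ A, a * z = z * a := by
  haveI := hA
  set P : Sylow p A := Classical.arbitrary (Sylow p A) with hP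
  haveI := sylow_normal_of_nilpotent hA p P
  have hPne : (P : Subgroup A) ≠ ⊥ := by
    intro hb
    apply pPart_ne_bot A p h
    unfold pPart
    rw [← hP, hb, Subgroup.map_bot]
  have h1 := Cfsg.Agent.Lib.Helper1.inf_center_ne_bot_of_normal (P : Subgroup A) hPne
  obtain ⟨⟨w, hw⟩, hw1⟩ := (Subgroup.ne_bot_iff_exists_ne_one).mp h1
  obtain ⟨hwP, hwZ⟩ := Subgroup.mem_inf.mp hw
  have hw1' : w ≠ 1 := fun e => hw1 (Subtype.ext e)
  obtain ⟨k, hk⟩ := (IsPGroup.iff_orderOf.mp P.isPGroup') ⟨w, hwP⟩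
  have hk' : orderOf (w : A) = p ^ k := by rw [← hk]; exact (Subgroup.orderOf_mk w hwP).symm
  have hk0 : k ≠ 0 := by
    rintro rfl
    rw [pow_zero, orderOf_eq_one_iff] at hk'
    exact hw1' hk'
  obtain ⟨k', rfl⟩ := Nat.exists_eq_succ_of_ne_zero hk0
  refine ⟨((w ^ p ^ k' : A) : G), (w ^ p ^ k').2, ?_, ?_⟩
  · rw [Subgroup.orderOf_coe, orderOf_pow' _ (pow_ne_zero _ hp.out.ne_zero), hk',
      Nat.gcd_eq_right (pow_dvd_pow p (Nat.le_succ k')), pow_succ,
      Nat.mul_div_cancel_left _ (pow_pos hp.out.pos k')]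
  · intro a ha
    have hc : w ^ p ^ k' ∈ Subgroup.center A := Subgroup.pow_mem _ hwZ _
    have := Subgroup.mem_center_iff.mp hc ⟨a, ha⟩
    exact congrArg Subtype.val this

theorem isNilpotent_of_le {X A : Subgroup G} (hA : Group.IsNilpotent A) (h : X ≤ A) :
    Group.IsNilpotent X := by
  haveI := hA
  exact (Group.isNilpotent_congr (Subgroup.subgroupOfEquivOfLe h)).mp inferInstance

/-- a `p`-subgroup of a nilpotent subgroup lies in its `p`-part -/
theorem le_pPart {A X : Subgroup G} (hA : Group.IsNilpotent A) (p : ℕ) [Fact p.Prime]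
    (hX : X ≤ A) (hp : IsPGroup p X) : X ≤ pPart A p := by
  intro x hx
  rw [mem_pPart_iff hA]
  refine ⟨hX hx, ?_⟩
  obtain ⟨k, hk⟩ := hp ⟨x, hx⟩
  exact ⟨k, by simpa using congrArg Subtype.val hk⟩

/-- whatever normalizes a nilpotent subgroup normalizes its `p`-part -/
theorem normalizer_le_normalizer_pPart {F : Subgroup G} (hF : Group.IsNilpotent F) (p : ℕ)
    [Fact p.Prime] : Subgroup.normalizer (F : Set G) ≤ Subgroup.normalizer (pPart F p : Set G) := by
  have key : ∀ g ∈ Subgroup.normalizer (F : Set G), ∀ x ∈ pPart F p, g * x * g⁻¹ ∈ pPart F p := by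
    intro g hg x hx
    rw [mem_pPart_iff hF] at hx ⊢
    obtain ⟨hxF, k, hk⟩ := hx
    refine ⟨(Subgroup.mem_normalizer_iff.mp hg x).mp hxF, k, ?_⟩
    rw [conj_pow, hk]; group
  intro g hg
  rw [Subgroup.mem_normalizer_iff]
  intro x
  constructor
  · exact key g hg x
  · intro hx
    have := key g⁻¹ (Subgroup.inv_mem _ hg) _ hx
    have e : g⁻¹ * (g * x * g⁻¹) * g⁻¹⁻¹ = x := by group
    rwa [e] at this

/-- if the `r`-part of a nilpotent `A` normalizes `W ≤ pPart A r`, so does `A` -/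
theorem le_normalizer_of_le_pPart {A W : Subgroup G} (hA : Group.IsNilpotent A) (r : ℕ)
    [Fact r.Prime] (hW : W ≤ pPart A r) (hn : pPart A r ≤ Subgroup.normalizer (W : Set G)) :
    A ≤ Subgroup.normalizer (W : Set G) := by
  intro a ha
  obtain ⟨y, z, hy, hz, e, hyk, hzo⟩ := exists_decomp a r
  have hyA : y ∈ A := (Subgroup.zpowers_le.mpr ha) hy
  have hzA : z ∈ A := (Subgroup.zpowers_le.mpr ha) hz
  have hyP : y ∈ pPart A r := (mem_pPart_iff hA r y).mpr ⟨hyA, hyk⟩
  have hzN : z ∈ Subgroup.normalizer (W : Set G) := by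
    apply Subgroup.centralizer_le_normalizer
    rw [Subgroup.mem_centralizer_iff]
    intro w hw
    exact (commute_pPart hA r hzA hzo (hW hw)).symm
  rw [← e]
  exact Subgroup.mul_mem _ (hn hyP) hzN

/-- a normal `r`-subgroup of `L` lies in any `r`-subgroup of `L` of full `r`-part order -/
theorem le_of_normal_pgroup {L R W : Subgroup G} (r : ℕ) [hr : Fact r.Prime] (hR : R ≤ L)
    (hW : W ≤ L) (hn : L ≤ Subgroup.normalizer (W : Set G)) (hWp : IsPGroup r W)
    (hRp : IsPGroup r R) (hcard : Nat.card R = r ^ (Nat.card L).factorization r) : W ≤ R := by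
  have h1 : IsPGroup r (R ⊔ W : Subgroup G) :=
    IsPGroup.to_sup_of_normal_right' hRp hWp (hR.trans hn)
  obtain ⟨t, ht⟩ := h1.exists_card_eq
  have h2 : Nat.card (R ⊔ W : Subgroup G) ∣ Nat.card L :=
    Subgroup.card_dvd_of_le (sup_le hR hW)
  rw [ht] at h2
  have h3 : t ≤ (Nat.card L).factorization r :=
    (hr.out.pow_dvd_iff_le_factorization Nat.card_pos.ne').mp h2
  have h4 : Nat.card (R ⊔ W : Subgroup G) ≤ Nat.card R := by
    rw [ht, hcard]; exact Nat.pow_le_pow_right hr.out.pos h3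
  have h5 : R = R ⊔ W := Subgroup.eq_of_le_of_card_ge le_sup_left h4
  rw [h5]; exact le_sup_right

/-- order of a factorized subgroup -/
theorem card_of_fact {K A₁ B₁ : Subgroup G} (hA : A₁ ≤ K) (hB : B₁ ≤ K)
    (hf : ∀ g ∈ K, ∃ a ∈ A₁, ∃ b ∈ B₁, g = a * b) (hd : A₁ ⊓ B₁ = ⊥) :
    Nat.card K = Nat.card A₁ * Nat.card B₁ := by
  have h : (K : Set G) = (A₁ : Set G) * (B₁ : Set G) := by
    ext g
    constructor
    · intro hg
      obtain ⟨a, ha, b, hb, e⟩ := hf g hg
      exact ⟨a, ha, b, hb, e.symm⟩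
    · rintro ⟨a, ha, b, hb, rfl⟩
      exact K.mul_mem (hA ha) (hB hb)
  have := Cfsg.Agent.Lib.Helper9.Wielandt.card_mul_card_inf_of_coe_eq_mul h
  rw [hd, Subgroup.card_bot, mul_one] at this
  exact this

end nilp

end Cfsg.Agent.Lib.Helper9.KW
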