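import Mathlib
import Cfsg.Agent.Lib.Helper9.KW1
import Cfsg.Agent.Lib.Helper23.Kazarin

set_option autoImplicit false
set_option linter.style.haveILetI false
set_option linter.unusedSectionVars false

/-!
Kegel–Wielandt, coprime case: the minimal counterexample context and its first properties.
-/

namespace Cfsg.Agent.Lib.Helper9.KW

open scoped Pointwise

variable {G : Type*} [Group G] [Finite G]

/-- a simple minimal counterexample `G = AB` to Wielandt's theorem -/
structure Ctx (A B : Subgroup G) : Prop where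
  nilA : Group.IsNilpotent A
  nilB : Group.IsNilpotent B
  cop : (Nat.card A).Coprime (Nat.card B)
  fact : ∀ g : G, ∃ a ∈ A, ∃ b ∈ B, g = a * b
  simple : ∀ N : Subgroup G, N.Normal → N = ⊥ ∨ N = ⊤
  nonsolv : ¬ Group.IsSolvable G
  ih : ∀ K A₁ B₁ : Subgroup G, K ≠ ⊤ → Group.IsNilpotent A₁ → Group.IsNilpotent B₁ →
    (Nat.card A₁).Coprime (Nat.card B₁) → A₁ ≤ K → B₁ ≤ K →
    (∀ g ∈ K, ∃ a ∈ A₁, ∃ b ∈ B₁, g = a * b) → Group.IsSolvable K

namespace Ctx

variable {A B : Subgroup G}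

theorem fact' (h : Ctx A B) : ∀ g : G, ∃ b ∈ B, ∃ a ∈ A, g = b * a := by
  intro g
  obtain ⟨a, ha, b, hb, e⟩ := h.fact g⁻¹
  refine ⟨b⁻¹, B.inv_mem hb, a⁻¹, A.inv_mem ha, ?_⟩
  rw [← mul_inv_rev, ← e, inv_inv]

theorem symm (h : Ctx A B) : Ctx B A where
  nilA := h.nilB
  nilB := h.nilA
  cop := h.cop.symm
  fact := h.fact'
  simple := h.simple
  nonsolv := h.nonsolv
  ih := h.ih

theorem inf_eq_bot (h : Ctx A B) : A ⊓ B = ⊥ :=
  (Subgroup.disjoint_of_coprime_natCard h.cop).eq_bot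

theorem mem_bot_of_mem (h : Ctx A B) {x : G} (ha : x ∈ A) (hb : x ∈ B) : x = 1 := by
  have : x ∈ A ⊓ B := ⟨ha, hb⟩
  rw [h.inf_eq_bot] at this
  exact Subgroup.mem_bot.mp this

theorem isComplement' (h : Ctx A B) : A.IsComplement' B := by
  apply Subgroup.isComplement'_of_disjoint_and_mul_eq_univ
  · rw [disjoint_iff]; exact h.inf_eq_bot
  · ext g
    simp only [Set.mem_univ, iff_true]
    obtain ⟨a, ha, b, hb, e⟩ := h.fact g
    exact ⟨a, ha, b, hb, e.symm⟩

theorem card_eq (h : Ctx A B) : Nat.card G = Nat.card A * Nat.card B :=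
  h.isComplement'.card_mul_card.symm

theorem index_A (h : Ctx A B) : A.index = Nat.card B := by
  have h1 := Subgroup.card_mul_index A
  rw [h.card_eq] at h1
  exact Nat.eq_of_mul_eq_mul_left Nat.card_pos h1

theorem eq_top_of_normal (h : Ctx A B) {N : Subgroup G} (hN : N.Normal) (hne : N ≠ ⊥) : N = ⊤ :=
  (h.simple N hN).resolve_left hne

theorem not_solvable_top (h : Ctx A B) {K : Subgroup G} (hK : Group.IsSolvable K) : K ≠ ⊤ := by
  rintro rfl
  apply h.nonsolv
  haveI := hK
  exact Group.isSolvable_of_surjective (f := (Subgroup.topEquiv (G := G)).toMonoidHom)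
    (Subgroup.topEquiv (G := G)).surjective

theorem not_nilpotent_top (h : Ctx A B) {K : Subgroup G} (hK : Group.IsNilpotent K) : K ≠ ⊤ := by
  haveI := hK
  exact h.not_solvable_top (K := K) inferInstance

theorem A_ne_top (h : Ctx A B) : A ≠ ⊤ := h.not_nilpotent_top h.nilA

theorem B_ne_top (h : Ctx A B) : B ≠ ⊤ := h.not_nilpotent_top h.nilB

theorem A_ne_bot (h : Ctx A B) : A ≠ ⊥ := by
  intro hA
  apply h.B_ne_top
  rw [eq_top_iff]
  intro g _
  obtain ⟨a, ha, b, hb, e⟩ := h.fact g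
  rw [hA, Subgroup.mem_bot] at ha
  rw [e, ha, one_mul]; exact hb

theorem B_ne_bot (h : Ctx A B) : B ≠ ⊥ := h.symm.A_ne_bot

theorem nontrivial (h : Ctx A B) : (⊥ : Subgroup G) ≠ ⊤ := by
  intro e
  apply h.A_ne_bot
  rw [eq_bot_iff, e]; exact le_top

/-- a subgroup normalized by everything and different from `⊤` is trivial -/
theorem eq_bot_of_normalizer (h : Ctx A B) {W : Subgroup G}
    (hn : Subgroup.normalizer (W : Set G) = ⊤) (hne : W ≠ ⊤) : W = ⊥ := by
  have hN : W.Normal := Subgroup.normalizer_eq_top_iff.mp hn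
  rcases h.simple W hN with h1 | h1
  · exact h1
  · exact absurd h1 hne

/-- a subgroup containing `B` and a nontrivial subgroup of `A` normal in `A` is everything -/
theorem eq_top_of_le (h : Ctx A B) {X Y : Subgroup G}
    (hXn : A ≤ Subgroup.normalizer (X : Set G)) (hX : X ≠ ⊥) (hXY : X ≤ Y) (hBY : B ≤ Y) :
    Y = ⊤ := by
  have h1 : Subgroup.normalClosure (X : Set G) ≤ Y := by
    unfold Subgroup.normalClosure
    rw [Subgroup.closure_le]
    intro y hy
    obtain ⟨x, hx, hxy⟩ := Group.mem_conjugatesOfSet_iff.mp hy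
    obtain ⟨g, rfl⟩ := isConj_iff.mp hxy
    obtain ⟨b, hb, a, ha, rfl⟩ := h.fact' g
    have h2 : a * x * a⁻¹ ∈ X := (Subgroup.mem_normalizer_iff.mp (hXn ha) x).mp hx
    have h3 : b * a * x * (b * a)⁻¹ = b * (a * x * a⁻¹) * b⁻¹ := by group
    rw [h3]
    exact Y.mul_mem (Y.mul_mem (hBY hb) (hXY h2)) (Y.inv_mem (hBY hb))
  have h4 : Subgroup.normalClosure (X : Set G) = ⊤ := by
    apply h.eq_top_of_normal Subgroup.normalClosure_normal
    intro e
    apply hX
    rw [eq_bot_iff, ← e]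
    exact Subgroup.le_normalClosure
  rw [eq_top_iff, ← h4]; exact h1

/-- Step 2: `B` is not a `q`-group -/
theorem not_isPGroup_B (h : Ctx A B) (q : ℕ) [hq : Fact q.Prime] : ¬ IsPGroup q B := by
  intro hB
  have hA1 : 1 < Nat.card A := by
    rw [Subgroup.one_lt_card_iff_ne_bot]; exact h.A_ne_bot
  obtain ⟨p, hp, hpd⟩ := Nat.exists_prime_and_dvd hA1.ne'
  haveI : Fact p.Prime := ⟨hp⟩
  obtain ⟨z, hzA, hzo, hzc⟩ := exists_central h.nilA p hpd
  have hz1 : z ≠ 1 := by
    intro e
    rw [e, orderOf_one] at hzo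
    exact hp.one_lt.ne hzo
  have hle : A ≤ Subgroup.centralizer ({z} : Set G) := by
    intro a ha
    rw [Subgroup.mem_centralizer_iff]
    intro w hw
    rw [Set.mem_singleton_iff] at hw
    subst hw
    exact (hzc a ha).symm
  obtain ⟨k, hk⟩ := hB.exists_card_eq
  have hdvd : (Subgroup.centralizer ({z} : Set G)).index ∣ q ^ k := by
    rw [← hk, ← h.index_A]
    exact Subgroup.index_dvd_of_le hle
  obtain ⟨j, -, hj⟩ := (Nat.dvd_prime_pow hq.out).mp hdvd
  have hsol := Cfsg.Agent.Lib.Helper23.Kazarin.isSolvable_normalClosure_of_index_prime_pow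
    hq.out z hj
  apply h.not_solvable_top hsol
  apply h.eq_top_of_normal Subgroup.normalClosure_normal
  intro e
  apply hz1
  have : z ∈ Subgroup.normalClosure ({z} : Set G) :=
    Subgroup.subset_normalClosure (Set.mem_singleton z)
  rw [e] at this
  exact Subgroup.mem_bot.mp this

theorem not_isPGroup_A (h : Ctx A B) (q : ℕ) [Fact q.Prime] : ¬ IsPGroup q A :=
  h.symm.not_isPGroup_B q

/-- there is a prime divisor of `card A` different from a given prime -/
theorem exists_prime_ne (h : Ctx A B) (r : ℕ) [hr : Fact r.Prime] :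
    ∃ p : ℕ, p.Prime ∧ p ≠ r ∧ p ∣ Nat.card A := by
  by_contra hcon
  push Not at hcon
  apply h.not_isPGroup_A r
  have : Nat.card A = r ^ (Nat.card A).primeFactorsList.length := by
    apply Nat.eq_prime_pow_of_unique_prime_dvd Nat.card_pos.ne'
    intro d hd hdd
    by_contra hne
    exact hcon d hd hne hdd
  exact IsPGroup.of_card this

theorem not_isPGroup_top (h : Ctx A B) (q : ℕ) [Fact q.Prime] {K : Subgroup G}
    (hK : IsPGroup q K) : K ≠ ⊤ := by
  rintro rfl
  apply h.not_isPGroup_A q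
  exact hK.to_le le_top

end Ctx

end Cfsg.Agent.Lib.Helper9.KW
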