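import Mathlib
import Cfsg.Agent.Lib.Helper9.KW2
import Cfsg.Agent.S0562

set_option autoImplicit false
set_option linter.style.haveILetI false
set_option linter.unusedSectionVars false

/-!
Kegel–Wielandt, coprime case: normal `r`-subgroups of `A` and normal `s`-subgroups of `B`
generate `G`.
-/

namespace Cfsg.Agent.Lib.Helper9.KW

open scoped Pointwise

variable {G : Type*} [Group G] [Finite G]

namespace Ctx

variable {A B : Subgroup G}

theorem dvd_card_of_pgroup {r : ℕ} [hr : Fact r.Prime] {A' A : Subgroup G} (hA'A : A' ≤ A)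
    (hp : IsPGroup r A') (h1 : A' ≠ ⊥) : r ∣ Nat.card A := by
  obtain ⟨k, hk⟩ := hp.exists_card_eq
  have hk0 : k ≠ 0 := by
    rintro rfl
    rw [pow_zero] at hk
    exact h1 (Subgroup.card_eq_one.mp hk)
  have : r ∣ Nat.card A' := by rw [hk]; exact dvd_pow_self r hk0
  exact this.trans (Subgroup.card_dvd_of_le hA'A)

theorem not_dvd_card_B (h : Ctx A B) {r : ℕ} [hr : Fact r.Prime] (hd : r ∣ Nat.card A) :
    ¬ r ∣ Nat.card B := by
  intro hb
  have := Nat.dvd_gcd hd hb
  rw [h.cop.gcd_eq_one] at this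
  exact hr.out.one_lt.ne' (Nat.dvd_one.mp this)

/-- a normal `r`-subgroup of a factorized subgroup `L` lies in `A` when `r` divides `|A|` -/
theorem normal_pgroup_le (h : Ctx A B) (r : ℕ) [hr : Fact r.Prime] (hd : r ∣ Nat.card A)
    {L W : Subgroup G} (hfact : ∀ g ∈ L, ∃ a ∈ L ⊓ A, ∃ b ∈ L ⊓ B, g = a * b)
    (hWL : W ≤ L) (hn : L ≤ Subgroup.normalizer (W : Set G)) (hWp : IsPGroup r W) :
    W ≤ pPart A r := by
  have nLA : Group.IsNilpotent (L ⊓ A : Subgroup G) := isNilpotent_of_le h.nilA inf_le_right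
  have hdis : (L ⊓ A) ⊓ (L ⊓ B) = ⊥ := by
    rw [eq_bot_iff, ← h.inf_eq_bot]
    exact inf_le_inf inf_le_right inf_le_right
  have hcardL : Nat.card L = Nat.card (L ⊓ A : Subgroup G) * Nat.card (L ⊓ B : Subgroup G) :=
    card_of_fact inf_le_left inf_le_left hfact hdis
  have hrB : ¬ r ∣ Nat.card (L ⊓ B : Subgroup G) := fun hb =>
    h.not_dvd_card_B hd (hb.trans (Subgroup.card_dvd_of_le inf_le_right))
  have hfac : (Nat.card L).factorization r = (Nat.card (L ⊓ A : Subgroup G)).factorization r := by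
    rw [hcardL, Nat.factorization_mul Nat.card_pos.ne' Nat.card_pos.ne', Finsupp.add_apply,
      Nat.factorization_eq_zero_of_not_dvd hrB, add_zero]
  have hRW : W ≤ pPart (L ⊓ A) r := by
    apply le_of_normal_pgroup r ((pPart_le _ r).trans inf_le_left) hWL hn hWp (pPart_isPGroup _ r)
    rw [card_pPart, hfac]
  exact hRW.trans (le_pPart h.nilA r ((pPart_le _ r).trans inf_le_right) (pPart_isPGroup _ r))

/-- the generic lemma -/
theorem generic (h : Ctx A B) (r s : ℕ) [hr : Fact r.Prime] [hs : Fact s.Prime]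
    {A' B' : Subgroup G} (hA'A : A' ≤ A) (hA'n : A ≤ Subgroup.normalizer (A' : Set G))
    (hA'p : IsPGroup r A') (hA'1 : A' ≠ ⊥)
    (hB'B : B' ≤ B) (hB'n : B ≤ Subgroup.normalizer (B' : Set G))
    (hB'p : IsPGroup s B') (hB'1 : B' ≠ ⊥) (hX : A' ⊔ B' ≠ ⊤) :
    (∃ W : Subgroup G, W ≠ ⊥ ∧ W ≤ pPart A r ∧ A' ⊔ B' ≤ Subgroup.normalizer (W : Set G)) ∨
    (∃ W : Subgroup G, W ≠ ⊥ ∧ W ≤ pPart B s ∧ A' ⊔ B' ≤ Subgroup.normalizer (W : Set G)) := by
  set X := A' ⊔ B' with hXdef
  set L := Subgroup.normalizer (X : Set G) with hLdef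
  have hXL : X ≤ L := Subgroup.le_normalizer
  have hA'X : A' ≤ X := le_sup_left
  have hB'X : B' ≤ X := le_sup_right
  have hX1 : X ≠ ⊥ := fun e => hA'1 (eq_bot_iff.mpr (e ▸ hA'X))
  have hLtop : L ≠ ⊤ := fun e => hX1 (h.eq_bot_of_normalizer e hX)
  have hrA : r ∣ Nat.card A := dvd_card_of_pgroup hA'A hA'p hA'1
  have hsB : s ∣ Nat.card B := dvd_card_of_pgroup hB'B hB'p hB'1
  have hrB : ¬ r ∣ Nat.card B := h.not_dvd_card_B hrA
  have hsA : ¬ s ∣ Nat.card A := h.symm.not_dvd_card_B hsB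
  have hfact : ∀ g ∈ L, ∃ a ∈ L ⊓ A, ∃ b ∈ L ⊓ B, g = a * b :=
    Cfsg.Agent.S0562.result A B A' B' h.fact hA'A
      (Subgroup.normal_subgroupOf_of_le_normalizer hA'n) hB'B
      (Subgroup.normal_subgroupOf_of_le_normalizer hB'n)
  have hfact' : ∀ g ∈ L, ∃ b ∈ L ⊓ B, ∃ a ∈ L ⊓ A, g = b * a := by
    intro g hg
    obtain ⟨a, ha, b, hb, e⟩ := hfact g⁻¹ (L.inv_mem hg)
    refine ⟨b⁻¹, Subgroup.inv_mem _ hb, a⁻¹, Subgroup.inv_mem _ ha, ?_⟩
    rw [← mul_inv_rev, ← e, inv_inv]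
  have nLA : Group.IsNilpotent (L ⊓ A : Subgroup G) := isNilpotent_of_le h.nilA inf_le_right
  have nLB : Group.IsNilpotent (L ⊓ B : Subgroup G) := isNilpotent_of_le h.nilB inf_le_right
  have hcop : (Nat.card (L ⊓ A : Subgroup G)).Coprime (Nat.card (L ⊓ B : Subgroup G)) :=
    Nat.Coprime.coprime_dvd_left (Subgroup.card_dvd_of_le inf_le_right)
      (Nat.Coprime.coprime_dvd_right (Subgroup.card_dvd_of_le inf_le_right) h.cop)
  have hLsol : Group.IsSolvable L := h.ih L _ _ hLtop nLA nLB hcop inf_le_left inf_le_left hfact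
  have hdis : (L ⊓ A) ⊓ (L ⊓ B) = ⊥ := by
    rw [eq_bot_iff, ← h.inf_eq_bot]
    exact inf_le_inf inf_le_right inf_le_right
  have hcardL : Nat.card L = Nat.card (L ⊓ A : Subgroup G) * Nat.card (L ⊓ B : Subgroup G) :=
    card_of_fact inf_le_left inf_le_left hfact hdis
  set a := Nat.card (L ⊓ A : Subgroup G) with ha
  set b := Nat.card (L ⊓ B : Subgroup G) with hb
  have ha0 : a ≠ 0 := Nat.card_pos.ne'
  have hb0 : b ≠ 0 := Nat.card_pos.ne'
  have hrb : ¬ r ∣ b := fun hd => hrB (hd.trans (Subgroup.card_dvd_of_le inf_le_right))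
  have hsa : ¬ s ∣ a := fun hd => hsA (hd.trans (Subgroup.card_dvd_of_le inf_le_right))
  -- the Sylow subgroups of the factors
  set R := pPart (L ⊓ A) r with hR
  set S := pPart (L ⊓ B) s with hS
  have hRc : Nat.card R = r ^ a.factorization r := card_pPart _ r
  have hSc : Nat.card S = s ^ b.factorization s := card_pPart _ s
  have hm₁ : Nat.card L = Nat.card R * (a / r ^ a.factorization r * b) := by
    rw [hcardL, hRc, ← mul_assoc, Nat.ordProj_mul_ordCompl_eq_self a r]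
  have hc₁ : (Nat.card R).Coprime (a / r ^ a.factorization r * b) := by
    rw [hRc]
    apply Nat.Coprime.pow_left
    exact Nat.Coprime.mul_right (Nat.coprime_ordCompl hr.out ha0)
      ((Nat.Prime.coprime_iff_not_dvd hr.out).mpr hrb)
  have hm₂ : Nat.card L = Nat.card S * (a * (b / s ^ b.factorization s)) := by
    rw [hcardL, hSc]
    have := Nat.ordProj_mul_ordCompl_eq_self b s
    calc a * b = a * (s ^ b.factorization s * (b / s ^ b.factorization s)) := by rw [this]
      _ = _ := by ring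
  have hc₂ : (Nat.card S).Coprime (a * (b / s ^ b.factorization s)) := by
    rw [hSc]
    apply Nat.Coprime.pow_left
    exact Nat.Coprime.mul_right ((Nat.Prime.coprime_iff_not_dvd hs.out).mpr hsa)
      (Nat.coprime_ordCompl hs.out hb0)
  obtain ⟨Y, hY⟩ := rel_prod L (L ⊓ A) (L ⊓ B) R S hLsol inf_le_left inf_le_left hfact
    (pPart_le _ r) (le_normalizer_pPart nLA r) (pPart_le _ s) (le_normalizer_pPart nLB s)
    hm₁ hc₁ hm₂ hc₂
  have hA'R : A' ≤ R := le_pPart nLA r (le_inf (hA'X.trans hXL) hA'A) hA'p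
  have hB'S : B' ≤ S := le_pPart nLB s (le_inf (hB'X.trans hXL) hB'B) hB'p
  have hRY : R ≤ Y := by
    intro x hx
    have : x ∈ (Y : Set G) := by rw [hY]; exact ⟨x, hx, 1, S.one_mem, mul_one x⟩
    exact this
  have hSY : S ≤ Y := by
    intro x hx
    have : x ∈ (Y : Set G) := by rw [hY]; exact ⟨1, R.one_mem, x, hx, one_mul x⟩
    exact this
  have hXY : X ≤ Y := sup_le (hA'R.trans hRY) (hB'S.trans hSY)
  have hYc : Nat.card Y ∣ r ^ a.factorization r * s ^ b.factorization s := by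
    have := Cfsg.Agent.Lib.Helper9.Wielandt.card_mul_card_inf_of_coe_eq_mul hY
    rw [hRc, hSc] at this
    exact Dvd.intro _ this
  -- the Fitting subgroup of `X`
  have hXsol : Group.IsSolvable X := by
    haveI := hLsol
    exact Group.isSolvable_of_isSolvable_injective (Subgroup.inclusion_injective hXL)
  obtain ⟨hFX, -, hFc, -⟩ := rel_fitting X hXsol
  obtain ⟨hFnil, hFn⟩ := rel_fitting' X
  set F := (Cfsg.fittingSubgroup X).map X.subtype with hF
  have hF1 : F ≠ ⊥ := by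
    intro e
    apply hX1
    rw [eq_bot_iff]
    intro c hc
    have := hFc c hc (by
      intro f hf
      rw [e, Subgroup.mem_bot] at hf
      rw [hf, mul_one, one_mul])
    rwa [e] at this
  have hFcard : 1 < Nat.card F := by
    rw [Subgroup.one_lt_card_iff_ne_bot]; exact hF1
  obtain ⟨q, hq, hqd⟩ := Nat.exists_prime_and_dvd hFcard.ne'
  haveI : Fact q.Prime := ⟨hq⟩
  have hqY : q ∣ r ^ a.factorization r * s ^ b.factorization s :=
    hqd.trans ((Subgroup.card_dvd_of_le (hFX.trans hXY)).trans hYc)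
  have hLW : L ≤ Subgroup.normalizer (pPart F q : Set G) :=
    hFn.trans (normalizer_le_normalizer_pPart hFnil q)
  have hWL : pPart F q ≤ L := (pPart_le F q).trans (hFX.trans hXL)
  rcases (Nat.Prime.dvd_mul hq).mp hqY with hqr | hqs
  · have hqr' : q = r := (Nat.prime_dvd_prime_iff_eq hq hr.out).mp (hq.dvd_of_dvd_pow hqr)
    subst hqr'
    left
    exact ⟨pPart F q, pPart_ne_bot F q hqd,
      h.normal_pgroup_le q hrA hfact hWL hLW (pPart_isPGroup F q), hXL.trans hLW⟩
  · have hqs' : q = s := (Nat.prime_dvd_prime_iff_eq hq hs.out).mp (hq.dvd_of_dvd_pow hqs)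
    subst hqs'
    right
    exact ⟨pPart F q, pPart_ne_bot F q hqd,
      h.symm.normal_pgroup_le q hsB hfact' hWL hLW (pPart_isPGroup F q), hXL.trans hLW⟩

end Ctx

end Cfsg.Agent.Lib.Helper9.KW
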