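import Mathlib
import Cfsg.Agent.Lib.Helper9.KW3

set_option autoImplicit false
set_option linter.style.haveILetI false
set_option linter.unusedSectionVars false

/-!
Kegel–Wielandt, coprime case: generation lemmas U0, U1, U2, Step C and `C_G(z) = A`.
-/

namespace Cfsg.Agent.Lib.Helper9.KW

open scoped Pointwise

variable {G : Type*} [Group G] [Finite G]

namespace Ctx

variable {A B : Subgroup G}

/-- a nontrivial `r`-subgroup is not everything, so it cannot be normalized by everything -/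
theorem absurd_of_normalizer (h : Ctx A B) (r : ℕ) [Fact r.Prime] {W : Subgroup G}
    (hW1 : W ≠ ⊥) (hWp : IsPGroup r W) (hn : Subgroup.normalizer (W : Set G) = ⊤) : False :=
  hW1 (h.eq_bot_of_normalizer hn (h.not_isPGroup_top r hWp))

/-- U0: full Sylow subgroups of `A` and `B` generate `G` -/
theorem U0 (h : Ctx A B) (r s : ℕ) [hr : Fact r.Prime] [hs : Fact s.Prime]
    (hrA : r ∣ Nat.card A) (hsB : s ∣ Nat.card B) : pPart A r ⊔ pPart B s = ⊤ := by
  by_contra hX
  rcases h.generic r s (pPart_le A r) (le_normalizer_pPart h.nilA r) (pPart_isPGroup A r)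
    (pPart_ne_bot A r hrA) (pPart_le B s) (le_normalizer_pPart h.nilB s) (pPart_isPGroup B s)
    (pPart_ne_bot B s hsB) hX with ⟨W, hW1, hWA, hWn⟩ | ⟨W, hW1, hWB, hWn⟩
  · have hAn : A ≤ Subgroup.normalizer (W : Set G) :=
      le_normalizer_of_le_pPart h.nilA r hWA (le_sup_left.trans hWn)
    have : Subgroup.normalizer (W : Set G) = ⊤ :=
      h.symm.eq_top_of_le (le_normalizer_pPart h.nilB s) (pPart_ne_bot B s hsB)
        (le_sup_right.trans hWn) hAn
    exact h.absurd_of_normalizer r hW1 ((pPart_isPGroup A r).to_le hWA) this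
  · have hBn : B ≤ Subgroup.normalizer (W : Set G) :=
      le_normalizer_of_le_pPart h.nilB s hWB (le_sup_right.trans hWn)
    have : Subgroup.normalizer (W : Set G) = ⊤ :=
      h.eq_top_of_le (le_normalizer_pPart h.nilA r) (pPart_ne_bot A r hrA)
        (le_sup_left.trans hWn) hBn
    exact h.absurd_of_normalizer s hW1 ((pPart_isPGroup B s).to_le hWB) this

/-- the `p`-part of `A` centralizes, hence normalizes, subgroups of the `r`-part for `p ≠ r` -/
theorem pPart_le_normalizer (h : Ctx A B) {p r : ℕ} [hp : Fact p.Prime] [hr : Fact r.Prime]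
    (hpr : p ≠ r) {W : Subgroup G} (hW : W ≤ pPart A r) :
    pPart A p ≤ Subgroup.normalizer (W : Set G) := by
  intro x hx
  apply Subgroup.centralizer_le_normalizer
  rw [Subgroup.mem_centralizer_iff]
  intro w hw
  obtain ⟨hxA, k, hk⟩ := (mem_pPart_iff h.nilA p x).mp hx
  have hxo : (orderOf x).Coprime r := by
    have : orderOf x ∣ p ^ k := orderOf_dvd_of_pow_eq_one hk
    exact Nat.Coprime.coprime_dvd_left this
      (Nat.Coprime.pow_left k ((Nat.coprime_primes hp.out hr.out).mpr hpr))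
  exact (commute_pPart h.nilA r hxA hxo (hW hw)).symm

/-- U1: a nontrivial normal `r`-subgroup of `A` and a full Sylow subgroup of `B` generate `G` -/
theorem U1 (h : Ctx A B) (r s : ℕ) [hr : Fact r.Prime] [hs : Fact s.Prime]
    {A' : Subgroup G} (hA'A : A' ≤ A) (hA'n : A ≤ Subgroup.normalizer (A' : Set G))
    (hA'p : IsPGroup r A') (hA'1 : A' ≠ ⊥) (hsB : s ∣ Nat.card B) : A' ⊔ pPart B s = ⊤ := by
  by_contra hX
  rcases h.generic r s hA'A hA'n hA'p hA'1 (pPart_le B s) (le_normalizer_pPart h.nilB s)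
    (pPart_isPGroup B s) (pPart_ne_bot B s hsB) hX with ⟨W, hW1, hWA, hWn⟩ | ⟨W, hW1, hWB, hWn⟩
  · obtain ⟨p, hp, hpr, hpA⟩ := h.exists_prime_ne r
    haveI : Fact p.Prime := ⟨hp⟩
    have h1 : pPart A p ≤ Subgroup.normalizer (W : Set G) := h.pPart_le_normalizer hpr hWA
    have : Subgroup.normalizer (W : Set G) = ⊤ := by
      rw [eq_top_iff, ← h.U0 p s hpA hsB]
      exact sup_le h1 (le_sup_right.trans hWn)
    exact h.absurd_of_normalizer r hW1 ((pPart_isPGroup A r).to_le hWA) this
  · have hBn : B ≤ Subgroup.normalizer (W : Set G) :=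
      le_normalizer_of_le_pPart h.nilB s hWB (le_sup_right.trans hWn)
    have : Subgroup.normalizer (W : Set G) = ⊤ :=
      h.eq_top_of_le hA'n hA'1 (le_sup_left.trans hWn) hBn
    exact h.absurd_of_normalizer s hW1 ((pPart_isPGroup B s).to_le hWB) this

/-- U2: nontrivial normal prime-power subgroups of `A` and `B` generate `G` -/
theorem U2 (h : Ctx A B) (r s : ℕ) [hr : Fact r.Prime] [hs : Fact s.Prime]
    {A' B' : Subgroup G} (hA'A : A' ≤ A) (hA'n : A ≤ Subgroup.normalizer (A' : Set G))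
    (hA'p : IsPGroup r A') (hA'1 : A' ≠ ⊥)
    (hB'B : B' ≤ B) (hB'n : B ≤ Subgroup.normalizer (B' : Set G))
    (hB'p : IsPGroup s B') (hB'1 : B' ≠ ⊥) : A' ⊔ B' = ⊤ := by
  by_contra hX
  rcases h.generic r s hA'A hA'n hA'p hA'1 hB'B hB'n hB'p hB'1 hX with
    ⟨W, hW1, hWA, hWn⟩ | ⟨W, hW1, hWB, hWn⟩
  · obtain ⟨p, hp, hpr, hpA⟩ := h.exists_prime_ne r
    haveI : Fact p.Prime := ⟨hp⟩
    have h1 : pPart A p ≤ Subgroup.normalizer (W : Set G) := h.pPart_le_normalizer hpr hWA
    have : Subgroup.normalizer (W : Set G) = ⊤ := by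
      rw [eq_top_iff, ← h.symm.U1 s p hB'B hB'n hB'p hB'1 hpA]
      exact sup_le (le_sup_right.trans hWn) h1
    exact h.absurd_of_normalizer r hW1 ((pPart_isPGroup A r).to_le hWA) this
  · obtain ⟨q, hq, hqs, hqB⟩ := h.symm.exists_prime_ne s
    haveI : Fact q.Prime := ⟨hq⟩
    have h1 : pPart B q ≤ Subgroup.normalizer (W : Set G) := h.symm.pPart_le_normalizer hqs hWB
    have : Subgroup.normalizer (W : Set G) = ⊤ := by
      rw [eq_top_iff, ← h.U1 r q hA'A hA'n hA'p hA'1 hqB]
      exact sup_le (le_sup_left.trans hWn) h1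
    exact h.absurd_of_normalizer s hW1 ((pPart_isPGroup B s).to_le hWB) this

/-- `z` is central in `A` -/
def IsCentral (A : Subgroup G) (z : G) : Prop := z ∈ A ∧ ∀ a ∈ A, a * z = z * a

/-- a central element of prime order generates a normal subgroup of prime power order -/
theorem zpowers_data {A : Subgroup G} {z : G} (hz : IsCentral A z) (r : ℕ) [hr : Fact r.Prime]
    (ho : orderOf z = r) :
    Subgroup.zpowers z ≤ A ∧ A ≤ Subgroup.normalizer (Subgroup.zpowers z : Set G) ∧
      IsPGroup r (Subgroup.zpowers z) ∧ Subgroup.zpowers z ≠ ⊥ := by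
  refine ⟨Subgroup.zpowers_le.mpr hz.1, ?_, ?_, ?_⟩
  · intro a ha
    apply Subgroup.centralizer_le_normalizer
    rw [Subgroup.mem_centralizer_iff]
    intro w hw
    obtain ⟨i, rfl⟩ := Subgroup.mem_zpowers_iff.mp hw
    exact ((show Commute a z from hz.2 a ha).zpow_right i).eq.symm
  · apply IsPGroup.of_card (n := 1)
    rw [Nat.card_zpowers, ho, pow_one]
  · intro e
    have : z = 1 := Subgroup.zpowers_eq_bot.mp e
    rw [this, orderOf_one] at ho
    exact hr.out.one_lt.ne ho

/-- Step C: a nontrivial central element of `A` normalizes no nontrivial subgroup of `B` -/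
theorem stepC (h : Ctx A B) {z : G} (hz : IsCentral A z) (hz1 : z ≠ 1) {X₀ : Subgroup G}
    (hX : X₀ ≤ B) (hX1 : X₀ ≠ ⊥) : z ∉ Subgroup.normalizer (X₀ : Set G) := by
  intro hzn
  -- a power of `z` of prime order
  have ho : orderOf z ≠ 1 := fun e => hz1 (orderOf_eq_one_iff.mp e)
  obtain ⟨r, hr, hrd⟩ := Nat.exists_prime_and_dvd ho
  haveI : Fact r.Prime := ⟨hr⟩
  set z' := z ^ (orderOf z / r) with hz'
  have hz'o : orderOf z' = r := orderOf_pow_orderOf_div (orderOf_pos z).ne' hrd
  have hz'c : IsCentral A z' :=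
    ⟨A.pow_mem hz.1 _, fun a ha => ((show Commute a z from hz.2 a ha).pow_right _).eq⟩
  obtain ⟨h1, h2, h3, h4⟩ := zpowers_data hz'c r hz'o
  -- a central element of `B` of prime order
  have hB1 : 1 < Nat.card B := by
    rw [Subgroup.one_lt_card_iff_ne_bot]; exact h.B_ne_bot
  obtain ⟨s, hs, hsd⟩ := Nat.exists_prime_and_dvd hB1.ne'
  haveI : Fact s.Prime := ⟨hs⟩
  obtain ⟨w, hwB, hwo, hwc⟩ := exists_central h.nilB s hsd
  obtain ⟨k1, k2, k3, k4⟩ := zpowers_data (A := B) ⟨hwB, hwc⟩ s hwo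
  have htop := h.U2 r s h1 h2 h3 h4 k1 k2 k3 k4
  have hn : Subgroup.normalizer (X₀ : Set G) = ⊤ := by
    rw [eq_top_iff, ← htop]
    apply sup_le
    · rw [Subgroup.zpowers_le]
      exact Subgroup.pow_mem _ hzn _
    · rw [Subgroup.zpowers_le]
      apply Subgroup.centralizer_le_normalizer
      rw [Subgroup.mem_centralizer_iff]
      intro x hx
      exact hwc x (hX hx)
  have := h.eq_bot_of_normalizer hn (fun e => h.B_ne_top (eq_top_iff.mpr (e ▸ hX)))
  exact hX1 this

/-- the centralizer of a nontrivial central element of `A` is `A` -/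
theorem mem_of_commute (h : Ctx A B) {z : G} (hz : IsCentral A z) (hz1 : z ≠ 1) {g : G}
    (hg : g * z = z * g) : g ∈ A := by
  obtain ⟨a, ha, b, hb, rfl⟩ := h.fact g
  have hbz : b * z = z * b := by
    have h1 : a * z = z * a := hz.2 a ha
    have h2 : a * (b * z) = a * (z * b) := by
      calc a * (b * z) = a * b * z := by group
        _ = z * (a * b) := hg
        _ = z * a * b := by group
        _ = a * z * b := by rw [h1]
        _ = a * (z * b) := by group
    exact mul_left_cancel h2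
  by_contra hcon
  have hb1 : Subgroup.zpowers b ≠ ⊥ := by
    intro e
    have : b = 1 := Subgroup.zpowers_eq_bot.mp e
    apply hcon
    rw [this, mul_one]; exact ha
  apply h.stepC hz hz1 (Subgroup.zpowers_le.mpr hb) hb1
  apply Subgroup.centralizer_le_normalizer
  rw [Subgroup.mem_centralizer_iff]
  intro x hx
  obtain ⟨i, rfl⟩ := Subgroup.mem_zpowers_iff.mp hx
  exact ((show Commute z b from hbz.symm).zpow_right i).eq.symm

end Ctx

end Cfsg.Agent.Lib.Helper9.KW
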