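import Mathlib
import Cfsg.Agent.Lib.Helper9.KW4

set_option autoImplicit false
set_option linter.style.haveILetI false
set_option linter.unusedSectionVars false

/-!
Kegel–Wielandt, coprime case: strong closure of central elements, Hall property of centralizers,
control of strong fusion.
-/

namespace Cfsg.Agent.Lib.Helper9.KW

open scoped Pointwise

variable {G : Type*} [Group G] [Finite G]

namespace Ctx

variable {A B : Subgroup G}

theorem orderOf_conj' (g x : G) : orderOf (g * x * g⁻¹) = orderOf x := by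
  have := orderOf_injective (MulAut.conj g).toMonoidHom (MulAut.conj g).injective x
  simpa [MulAut.conj_apply] using this

theorem mem_normalizer_of_conj_le (_h : Ctx A B) {g : G} (hg : ∀ v : G, g⁻¹ * v * g ∈ A → v ∈ A) :
    g ∈ Subgroup.normalizer (A : Set G) := by
  -- `g A g⁻¹ ≤ A`, hence equality
  have hle : MulAut.conj g • A ≤ A := by
    intro v hv
    rw [Subgroup.mem_pointwise_smul_iff_inv_smul_mem] at hv
    apply hg
    simpa [MulAut.smul_def] using hv
  have hcard : Nat.card (MulAut.conj g • A : Subgroup G) = Nat.card A :=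
    (Nat.card_congr (Subgroup.equivSMul (MulAut.conj g) A).toEquiv).symm
  have heq : MulAut.conj g • A = A := Subgroup.eq_of_le_of_card_ge hle hcard.ge
  rw [Subgroup.mem_normalizer_iff]
  intro x
  constructor
  · intro hx
    have : g * x * g⁻¹ ∈ MulAut.conj g • A := ⟨x, hx, by simp [MulAut.smul_def]⟩
    rwa [heq] at this
  · intro hx
    rw [← heq] at hx
    obtain ⟨y, hy, e⟩ := hx
    have e' : g * y * g⁻¹ = g * x * g⁻¹ := by simpa [MulAut.smul_def] using e
    have : y = x := by
      have := congrArg (fun t => g⁻¹ * t * g) e'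
      simpa [mul_assoc] using this
    rw [← this]; exact hy

/-- strong closure, prime order case -/
theorem strong_closure_prime (h : Ctx A B) {z : G} (hz : IsCentral A z) (r : ℕ)
    [hr : Fact r.Prime] (hzo : orderOf z = r) {g : G} (hg : g * z * g⁻¹ ∈ A) :
    g ∈ Subgroup.normalizer (A : Set G) := by
  have hz1 : z ≠ 1 := by
    intro e; rw [e, orderOf_one] at hzo; exact hr.out.one_lt.ne hzo
  set y := g * z * g⁻¹ with hy
  have hyo : orderOf y = r := by rw [hy, orderOf_conj', hzo]
  -- the centralizer of `y` is the conjugate of `A`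
  have hCy : ∀ x : G, x * y = y * x → g⁻¹ * x * g ∈ A := by
    intro x hx
    apply h.mem_of_commute hz hz1
    have : g⁻¹ * (x * y) * g = g⁻¹ * (y * x) * g := by rw [hx]
    rw [hy] at this
    calc g⁻¹ * x * g * z = g⁻¹ * (x * (g * z * g⁻¹)) * g := by group
      _ = g⁻¹ * (g * z * g⁻¹ * x) * g := this
      _ = z * (g⁻¹ * x * g) := by group
  -- `r'`-elements of `A` lie in the conjugate
  have hT : ∀ u ∈ A, (orderOf u).Coprime r → g⁻¹ * u * g ∈ A := by
    intro u hu huo
    apply hCy
    apply Cfsg.Agent.Lib.Helper10.commute_of_mem_of_isNilpotent h.nilA hu hg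
    rw [hyo]; exact huo
  -- counting: `r'`-elements of the conjugate lie in `A`
  set S₁ : Set G := {u | u ∈ A ∧ (orderOf u).Coprime r} with hS₁
  set S₂ : Set G := {v | g⁻¹ * v * g ∈ A ∧ (orderOf v).Coprime r} with hS₂
  have hsub : S₁ ⊆ S₂ := fun u hu => ⟨hT u hu.1 hu.2, hu.2⟩
  have himg : S₂ = (fun u => g * u * g⁻¹) '' S₁ := by
    ext v
    constructor
    · rintro ⟨hv1, hv2⟩
      refine ⟨g⁻¹ * v * g, ⟨hv1, ?_⟩, by group⟩
      have := orderOf_conj' g⁻¹ v
      rw [inv_inv] at this
      rw [this]; exact hv2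
    · rintro ⟨u, ⟨hu1, hu2⟩, rfl⟩
      refine ⟨?_, ?_⟩
      · have : g⁻¹ * (g * u * g⁻¹) * g = u := by group
        rw [this]; exact hu1
      · rw [orderOf_conj']; exact hu2
  have hcard : S₂.ncard = S₁.ncard := by
    rw [himg]
    apply Set.ncard_image_of_injective
    intro u v huv
    have := congrArg (fun t => g⁻¹ * t * g) huv
    simpa [mul_assoc] using this
  have heq : S₁ = S₂ := Set.eq_of_subset_of_ncard_le hsub hcard.le (Set.toFinite _)
  -- a central element of order `p ≠ r`
  obtain ⟨p, hp, hpr, hpA⟩ := h.exists_prime_ne r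
  haveI : Fact p.Prime := ⟨hp⟩
  obtain ⟨x', hx'A, hx'o, hx'c⟩ := exists_central h.nilA p hpA
  have hx'1 : x' ≠ 1 := by
    intro e; rw [e, orderOf_one] at hx'o; exact hp.one_lt.ne hx'o
  have hx'r : (orderOf x').Coprime r := by
    rw [hx'o]; exact (Nat.coprime_primes hp hr.out).mpr hpr
  have hx'g : g⁻¹ * x' * g ∈ A := hT x' hx'A hx'r
  apply h.mem_normalizer_of_conj_le
  intro v hv
  obtain ⟨v₁, v₂, hv₁, hv₂, e, hv₁k, hv₂o⟩ := exists_decomp v r
  -- both parts lie in the conjugate
  have hconj : ∀ w ∈ Subgroup.zpowers v, g⁻¹ * w * g ∈ A := by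
    intro w hw
    obtain ⟨i, rfl⟩ := Subgroup.mem_zpowers_iff.mp hw
    have : g⁻¹ * v ^ i * g = (g⁻¹ * v * g) ^ i := by
      have := (MulAut.conj g⁻¹).toMonoidHom.map_zpow v i
      simpa [MulAut.conj_apply] using this
    rw [this]; exact A.zpow_mem hv i
  have hv₂A : v₂ ∈ A := by
    have : v₂ ∈ S₂ := ⟨hconj v₂ hv₂, hv₂o⟩
    rw [← heq] at this
    exact this.1
  have hv₁A : v₁ ∈ A := by
    apply h.mem_of_commute ⟨hx'A, hx'c⟩ hx'1
    -- `v₁` and `x'` commute inside the nilpotent conjugate of `A`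
    have hc : (g⁻¹ * v₁ * g) * (g⁻¹ * x' * g) = (g⁻¹ * x' * g) * (g⁻¹ * v₁ * g) := by
      apply Cfsg.Agent.Lib.Helper10.commute_of_mem_of_isNilpotent h.nilA (hconj v₁ hv₁) hx'g
      have h1 := orderOf_conj' g⁻¹ v₁
      have h2 := orderOf_conj' g⁻¹ x'
      rw [inv_inv] at h1 h2
      rw [h1, h2, hx'o]
      obtain ⟨k, hk⟩ := hv₁k
      have : orderOf v₁ ∣ r ^ k := orderOf_dvd_of_pow_eq_one hk
      exact Nat.Coprime.coprime_dvd_left this
        (Nat.Coprime.pow_left k ((Nat.coprime_primes hr.out hp).mpr hpr.symm))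
    have := congrArg (fun t => g * t * g⁻¹) hc
    simpa [mul_assoc] using this
  rw [← e]; exact A.mul_mem hv₁A hv₂A

/-- strong closure of nontrivial central elements -/
theorem strong_closure (h : Ctx A B) {z : G} (hz : IsCentral A z) (hz1 : z ≠ 1) {g : G}
    (hg : g * z * g⁻¹ ∈ A) : g ∈ Subgroup.normalizer (A : Set G) := by
  have ho : orderOf z ≠ 1 := fun e => hz1 (orderOf_eq_one_iff.mp e)
  obtain ⟨r, hr, hrd⟩ := Nat.exists_prime_and_dvd ho
  haveI : Fact r.Prime := ⟨hr⟩
  set z' := z ^ (orderOf z / r) with hz'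
  have hz'o : orderOf z' = r := orderOf_pow_orderOf_div (orderOf_pos z).ne' hrd
  have hz'c : IsCentral A z' :=
    ⟨A.pow_mem hz.1 _, fun a ha => ((show Commute a z from hz.2 a ha).pow_right _).eq⟩
  apply h.strong_closure_prime hz'c r hz'o
  rw [hz', ← conj_pow]
  exact A.pow_mem hg _

end Ctx

end Cfsg.Agent.Lib.Helper9.KW
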