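import Mathlib
import Cfsg.Agent.Lib.Helper9.KW5

set_option autoImplicit false
set_option linter.style.haveILetI false
set_option linter.unusedSectionVars false

/-!
Kegel–Wielandt, coprime case: Hall property of centralizers and control of strong fusion.
-/

namespace Cfsg.Agent.Lib.Helper9.KW

open scoped Pointwise

variable {G : Type*} [Group G] [Finite G]

namespace Ctx

variable {A B : Subgroup G}

theorem factorization_card (h : Ctx A B) {r : ℕ} [hr : Fact r.Prime] (hd : r ∣ Nat.card A) :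
    (Nat.card G).factorization r = (Nat.card A).factorization r := by
  rw [h.card_eq, Nat.factorization_mul Nat.card_pos.ne' Nat.card_pos.ne', Finsupp.add_apply,
    Nat.factorization_eq_zero_of_not_dvd (h.not_dvd_card_B hd), add_zero]

/-- an `r`-subgroup containing a nontrivial central element of `A` lies in `A` -/
theorem le_of_pgroup_of_mem (h : Ctx A B) {z : G} (hz : IsCentral A z) (hz1 : z ≠ 1) (r : ℕ)
    [hr : Fact r.Prime] {T : Subgroup G} (hT : IsPGroup r T) (hzT : z ∈ T) : T ≤ A := by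
  have hrA : r ∣ Nat.card A := by
    obtain ⟨k, hk⟩ := (IsPGroup.iff_orderOf.mp hT) ⟨z, hzT⟩
    rw [Subgroup.orderOf_mk] at hk
    have hk0 : k ≠ 0 := by
      rintro rfl
      rw [pow_zero, orderOf_eq_one_iff] at hk
      exact hz1 hk
    have h1 : r ∣ orderOf z := by rw [hk]; exact dvd_pow_self r hk0
    have h2 : orderOf z ∣ Nat.card A := by
      have := orderOf_dvd_natCard (⟨z, hz.1⟩ : A)
      rwa [Subgroup.orderOf_mk] at this
    exact h1.trans h2
  have hcard : Nat.card (pPart A r) = r ^ (Nat.card G).factorization r := by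
    rw [card_pPart, h.factorization_card hrA]
  set P₀ : Sylow r G := Sylow.ofCard (pPart A r) hcard with hP₀
  obtain ⟨Q, hQ⟩ := hT.exists_le_sylow
  obtain ⟨c, hc⟩ := MulAction.exists_smul_eq G P₀ Q
  have hmem : ∀ t ∈ T, c⁻¹ * t * c ∈ A := by
    intro t ht
    have h1 : t ∈ (Q : Subgroup G) := hQ ht
    rw [← hc, Sylow.coe_subgroup_smul, Subgroup.mem_pointwise_smul_iff_inv_smul_mem] at h1
    have h2 : c⁻¹ * t * c ∈ pPart A r := by
      rw [← map_inv, MulAut.smul_def, MulAut.conj_apply, inv_inv, hP₀, Sylow.coe_ofCard] at h1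
      exact h1
    exact pPart_le A r h2
  have hcN : c⁻¹ ∈ Subgroup.normalizer (A : Set G) := by
    apply h.strong_closure hz hz1
    rw [inv_inv]; exact hmem z hzT
  have hcN' : c ∈ Subgroup.normalizer (A : Set G) := by
    have := Subgroup.inv_mem _ hcN
    rwa [inv_inv] at this
  intro t ht
  have := (Subgroup.mem_normalizer_iff.mp hcN' (c⁻¹ * t * c)).mp (hmem t ht)
  have e : c * (c⁻¹ * t * c) * c⁻¹ = t := by group
  rwa [e] at this

/-- `A ∩ C_G(X)` is a Hall subgroup of `C_G(X)` for `X ⊆ A` -/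
theorem hall_centralizer (h : Ctx A B) (X : Set G) (hX : X ⊆ A) :
    (Nat.card A).Coprime (Nat.card (Subgroup.centralizer X) /
      Nat.card (A ⊓ Subgroup.centralizer X : Subgroup G)) := by
  set H := Subgroup.centralizer X with hH
  set E := A ⊓ H with hE
  have hdvd : Nat.card E ∣ Nat.card H := Subgroup.card_dvd_of_le inf_le_right
  apply Nat.coprime_of_dvd
  intro r hr hrA hrm
  haveI : Fact r.Prime := ⟨hr⟩
  obtain ⟨z, hzA, hzo, hzc⟩ := exists_central h.nilA r hrA
  have hz1 : z ≠ 1 := by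
    intro e; rw [e, orderOf_one] at hzo; exact hr.one_lt.ne hzo
  have hzH : z ∈ H := by
    rw [hH, Subgroup.mem_centralizer_iff]
    intro x hx
    exact hzc x (hX hx)
  have hpg : IsPGroup r (Subgroup.zpowers (⟨z, hzH⟩ : H)) := by
    apply IsPGroup.of_card (n := 1)
    rw [Nat.card_zpowers, Subgroup.orderOf_mk, hzo, pow_one]
  obtain ⟨P, hP⟩ := hpg.exists_le_sylow
  set T := (P : Subgroup H).map H.subtype with hTdef
  have hTp : IsPGroup r T := P.isPGroup'.map H.subtype
  have hzT : z ∈ T := ⟨⟨z, hzH⟩, hP (Subgroup.mem_zpowers _), rfl⟩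
  have hTA : T ≤ A := h.le_of_pgroup_of_mem ⟨hzA, hzc⟩ hz1 r hTp hzT
  have hTH : T ≤ H := by
    rintro x ⟨y, -, rfl⟩
    exact y.2
  have hTE : T ≤ E := le_inf hTA hTH
  have hTc : Nat.card T = r ^ (Nat.card H).factorization r := by
    rw [hTdef, Subgroup.card_map_of_injective H.subtype_injective]
    exact Sylow.card_eq_multiplicity P
  have h1 : r ^ (Nat.card H).factorization r ∣ Nat.card E := by
    rw [← hTc]; exact Subgroup.card_dvd_of_le hTE
  have h2 : (Nat.card H).factorization r ≤ (Nat.card E).factorization r :=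
    (hr.pow_dvd_iff_le_factorization Nat.card_pos.ne').mp h1
  have h3 : Nat.card H = Nat.card E * (Nat.card H / Nat.card E) :=
    (Nat.mul_div_cancel' hdvd).symm
  have hm0 : Nat.card H / Nat.card E ≠ 0 := by
    intro e
    rw [e, mul_zero] at h3
    exact Nat.card_pos.ne' h3
  have h4 : (Nat.card H).factorization r =
      (Nat.card E).factorization r + (Nat.card H / Nat.card E).factorization r := by
    conv_lhs => rw [h3]
    rw [Nat.factorization_mul Nat.card_pos.ne' hm0, Finsupp.add_apply]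
  have h5 : 0 < (Nat.card H / Nat.card E).factorization r :=
    hr.factorization_pos_of_dvd hm0 hrm
  omega

/-- `N_G(A)` controls strong fusion in `A` -/
theorem strong_fusion (h : Ctx A B) (X : Set G) (hX : X ⊆ A) (g : G)
    (hg : ∀ x ∈ X, g * x * g⁻¹ ∈ A) :
    ∃ n ∈ Subgroup.normalizer (A : Set G), ∀ x ∈ X, n * x * n⁻¹ = g * x * g⁻¹ := by
  set Y : Set G := (fun x => g * x * g⁻¹) '' X with hY
  have hYA : Y ⊆ A := by
    rintro y ⟨x, hx, rfl⟩
    exact hg x hx
  set H := Subgroup.centralizer Y with hH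
  set E := A ⊓ H with hE
  have hA1 : 1 < Nat.card A := by
    rw [Subgroup.one_lt_card_iff_ne_bot]; exact h.A_ne_bot
  obtain ⟨r, hr, hrA⟩ := Nat.exists_prime_and_dvd hA1.ne'
  haveI : Fact r.Prime := ⟨hr⟩
  obtain ⟨z, hzA, hzo, hzc⟩ := exists_central h.nilA r hrA
  have hz1 : z ≠ 1 := by
    intro e; rw [e, orderOf_one] at hzo; exact hr.one_lt.ne hzo
  have hzH : z ∈ H := by
    rw [hH, Subgroup.mem_centralizer_iff]
    intro y hy
    exact hzc y (hYA hy)
  have hzE : z ∈ E := ⟨hzA, hzH⟩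
  have hz'H : g * z * g⁻¹ ∈ H := by
    rw [hH, Subgroup.mem_centralizer_iff]
    rintro y ⟨x, hx, rfl⟩
    have := hzc x (hX hx)
    calc g * x * g⁻¹ * (g * z * g⁻¹) = g * (x * z) * g⁻¹ := by group
      _ = g * (z * x) * g⁻¹ := by rw [this]
      _ = g * z * g⁻¹ * (g * x * g⁻¹) := by group
  have hdvd : Nat.card E ∣ Nat.card H := Subgroup.card_dvd_of_le inf_le_right
  have hcop := h.hall_centralizer Y hYA
  have hrE : r ∣ Nat.card E := by
    have := orderOf_dvd_natCard (⟨z, hzE⟩ : E)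
    rwa [Subgroup.orderOf_mk, hzo] at this
  obtain ⟨l, hl, hlk⟩ := rel_wielandt H E (Subgroup.zpowers (g * z * g⁻¹)) inf_le_right
    (Subgroup.zpowers_le.mpr hz'H) (isNilpotent_of_le h.nilA inf_le_left)
    (Nat.mul_div_cancel' hdvd).symm
    (Nat.Coprime.coprime_dvd_left (Subgroup.card_dvd_of_le inf_le_left) hcop)
    (by
      intro p hp hpd
      rw [Nat.card_zpowers, orderOf_conj', hzo] at hpd
      rw [(Nat.prime_dvd_prime_iff_eq hp hr).mp hpd]
      exact hrE)
  have h1 : l⁻¹ * (g * z * g⁻¹) * l ∈ A := (hlk _ (Subgroup.mem_zpowers _)).1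
  have hn : l⁻¹ * g ∈ Subgroup.normalizer (A : Set G) := by
    apply h.strong_closure ⟨hzA, hzc⟩ hz1
    have e : l⁻¹ * g * z * (l⁻¹ * g)⁻¹ = l⁻¹ * (g * z * g⁻¹) * l := by group
    rw [e]; exact h1
  refine ⟨l⁻¹ * g, hn, ?_⟩
  intro x hx
  have hlc : l * (g * x * g⁻¹) = (g * x * g⁻¹) * l := by
    have := (Subgroup.mem_centralizer_iff.mp hl) (g * x * g⁻¹) ⟨x, hx, rfl⟩
    exact this.symm
  calc l⁻¹ * g * x * (l⁻¹ * g)⁻¹ = l⁻¹ * (g * x * g⁻¹ * l) := by group
    _ = l⁻¹ * (l * (g * x * g⁻¹)) := by rw [hlc]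
    _ = g * x * g⁻¹ := by group

end Ctx

end Cfsg.Agent.Lib.Helper9.KW
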