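import Mathlib
import Cfsg.Agent.Lib.Helper9.KW6

set_option autoImplicit false
set_option linter.style.haveILetI false
set_option linter.unusedSectionVars false

/-!
Kegel–Wielandt, coprime case: centralizers of nontrivial elements of `A` lie in `N_G(A)`,
and `A` is a TI-subgroup.
-/

namespace Cfsg.Agent.Lib.Helper9.KW

open scoped Pointwise

variable {G : Type*} [Group G] [Finite G]

/-- membership in a normalizer from closure under conjugation by `g` and `g⁻¹` -/
theorem mem_normalizer_of_conj_mem {W : Subgroup G} {g : G} (h1 : ∀ w ∈ W, g * w * g⁻¹ ∈ W)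
    (h2 : ∀ w ∈ W, g⁻¹ * w * g ∈ W) : g ∈ Subgroup.normalizer (W : Set G) := by
  rw [Subgroup.mem_normalizer_iff]
  intro w
  constructor
  · exact h1 w
  · intro hw
    have := h2 _ hw
    have e : g⁻¹ * (g * w * g⁻¹) * g = w := by group
    rwa [e] at this

theorem mem_centralizer_singleton_iff (x g : G) :
    g ∈ Subgroup.centralizer ({x} : Set G) ↔ g * x = x * g := by
  rw [Subgroup.mem_centralizer_iff]
  constructor
  · intro hg; exact (hg x rfl).symm
  · intro hg y hy; rw [Set.mem_singleton_iff.mp hy]; exact hg.symm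

namespace Ctx

variable {A B : Subgroup G}

/-- a nontrivial central element of `A` of prime order -/
theorem exists_isCentral (h : Ctx A B) :
    ∃ (z : G) (r : ℕ), r.Prime ∧ r ∣ Nat.card A ∧ IsCentral A z ∧ orderOf z = r ∧ z ≠ 1 := by
  have hA1 : 1 < Nat.card A := by
    rw [Subgroup.one_lt_card_iff_ne_bot]; exact h.A_ne_bot
  obtain ⟨r, hr, hrA⟩ := Nat.exists_prime_and_dvd hA1.ne'
  haveI : Fact r.Prime := ⟨hr⟩
  obtain ⟨z, hzA, hzo, hzc⟩ := exists_central h.nilA r hrA
  have hz1 : z ≠ 1 := by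
    intro e; rw [e, orderOf_one] at hzo; exact hr.one_lt.ne hzo
  exact ⟨z, r, hr, hrA, ⟨hzA, hzc⟩, hzo, hz1⟩

/-- factorization of the normalizer of `A` -/
theorem normalizer_fact (h : Ctx A B) : ∀ g ∈ Subgroup.normalizer (A : Set G),
    ∃ a ∈ A, ∃ b ∈ Subgroup.normalizer (A : Set G) ⊓ B, g = a * b := by
  intro g hg
  obtain ⟨a, ha, b, hb, e⟩ := h.fact g
  refine ⟨a, ha, b, ⟨?_, hb⟩, e⟩
  have : b = a⁻¹ * g := by rw [e]; group
  rw [this]
  exact Subgroup.mul_mem _ (Subgroup.inv_mem _ (Subgroup.le_normalizer ha)) hg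

theorem card_normalizer (h : Ctx A B) : Nat.card (Subgroup.normalizer (A : Set G)) =
    Nat.card A * Nat.card (Subgroup.normalizer (A : Set G) ⊓ B : Subgroup G) := by
  apply card_of_fact Subgroup.le_normalizer inf_le_left h.normalizer_fact
  rw [eq_bot_iff, ← h.inf_eq_bot]
  exact inf_le_inf le_rfl inf_le_right

/-- elements of `N_G(A)` of order prime to `|B|` lie in `A` -/
theorem mem_of_mem_normalizer (h : Ctx A B) {n : G} (hn : n ∈ Subgroup.normalizer (A : Set G))
    (hc : (orderOf n).Coprime (Nat.card B)) : n ∈ A := by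
  set L := Subgroup.normalizer (A : Set G) with hL
  haveI : (A.subgroupOf L).Normal := Subgroup.normal_subgroupOf_of_le_normalizer le_rfl
  have hidx : (A.subgroupOf L).index = Nat.card (L ⊓ B : Subgroup G) :=
    index_subgroupOf_of_card Subgroup.le_normalizer h.card_normalizer
  have h1 : (⟨n, hn⟩ : L) ^ (A.subgroupOf L).index ∈ A.subgroupOf L :=
    Subgroup.pow_index_mem _ _
  have hc' : ((A.subgroupOf L).index).Coprime (orderOf (⟨n, hn⟩ : L)) := by
    rw [Subgroup.orderOf_mk, hidx]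
    exact (Nat.Coprime.coprime_dvd_right (Subgroup.card_dvd_of_le inf_le_right) hc).symm
  obtain ⟨m, hm⟩ := exists_pow_eq_self_of_coprime hc'
  have h2 : (⟨n, hn⟩ : L) ∈ A.subgroupOf L := by
    rw [← hm]; exact Subgroup.pow_mem _ h1 m
  exact Subgroup.mem_subgroupOf.mp h2

/-- the centralizer of a nontrivial element of `N_A(B)` lies in `N_G(A)` -/
theorem centralizer_le_of_mem_normalizer (h : Ctx A B) {x₀ : G} (hxA : x₀ ∈ A)
    (hxN : x₀ ∈ Subgroup.normalizer (B : Set G)) (hx1 : x₀ ≠ 1) :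
    Subgroup.centralizer {x₀} ≤ Subgroup.normalizer (A : Set G) := by
  set K := Subgroup.centralizer ({x₀} : Set G) with hK
  have hmemK : ∀ g : G, g ∈ K ↔ g * x₀ = x₀ * g := mem_centralizer_singleton_iff x₀
  -- `K` is factorized
  have hfact : ∀ g ∈ K, ∃ a ∈ K ⊓ A, ∃ b ∈ K ⊓ B, g = a * b := by
    intro g hg
    obtain ⟨a, ha, b, hb, e⟩ := h.fact g
    have hbK : b ∈ K := by
      rw [hmemK]
      have hg' := (hmemK g).mp hg
      have h1 : b * x₀ * b⁻¹ * x₀⁻¹ ∈ B := by
        have : x₀ * b⁻¹ * x₀⁻¹ ∈ B := (Subgroup.mem_normalizer_iff.mp hxN b⁻¹).mp (B.inv_mem hb)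
        have e2 : b * x₀ * b⁻¹ * x₀⁻¹ = b * (x₀ * b⁻¹ * x₀⁻¹) := by group
        rw [e2]; exact B.mul_mem hb this
      have h2 : b * x₀ * b⁻¹ * x₀⁻¹ ∈ A := by
        have e3 : b * x₀ * b⁻¹ = a⁻¹ * x₀ * a := by
          have : a * b * x₀ = x₀ * (a * b) := by rw [← e]; exact hg'
          calc b * x₀ * b⁻¹ = a⁻¹ * (a * b * x₀) * b⁻¹ := by group
            _ = a⁻¹ * (x₀ * (a * b)) * b⁻¹ := by rw [this]
            _ = a⁻¹ * x₀ * a := by group
        rw [e3]
        exact A.mul_mem (A.mul_mem (A.mul_mem (A.inv_mem ha) hxA) ha) (A.inv_mem hxA)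
      have h3 := h.mem_bot_of_mem h2 h1
      calc b * x₀ = (b * x₀ * b⁻¹ * x₀⁻¹) * x₀ * b := by group
        _ = x₀ * b := by rw [h3, one_mul]
    have haK : a ∈ K := by
      have : a = g * b⁻¹ := by rw [e]; group
      rw [this]; exact K.mul_mem hg (K.inv_mem hbK)
    exact ⟨a, ⟨haK, ha⟩, b, ⟨hbK, hb⟩, e⟩
  have hfact' : ∀ g ∈ K, ∃ b ∈ K ⊓ B, ∃ a ∈ K ⊓ A, g = b * a := by
    intro g hg
    obtain ⟨a, ha, b, hb, e⟩ := hfact g⁻¹ (K.inv_mem hg)
    refine ⟨b⁻¹, Subgroup.inv_mem _ hb, a⁻¹, Subgroup.inv_mem _ ha, ?_⟩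
    rw [← mul_inv_rev, ← e, inv_inv]
  have hKtop : K ≠ ⊤ := by
    intro e
    have hxc : x₀ ∈ Subgroup.center G := by
      rw [Subgroup.mem_center_iff]
      intro g
      exact (hmemK g).mp (e ▸ Subgroup.mem_top g)
    have hcen : Subgroup.center G = ⊤ := by
      apply h.eq_top_of_normal inferInstance
      intro hb
      rw [hb, Subgroup.mem_bot] at hxc
      exact hx1 hxc
    apply h.nonsolv
    apply Group.isSolvable_of_comm
    intro a b
    have : b ∈ Subgroup.center G := hcen ▸ Subgroup.mem_top b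
    exact (Subgroup.mem_center_iff.mp this a)
  have nKA : Group.IsNilpotent (K ⊓ A : Subgroup G) := isNilpotent_of_le h.nilA inf_le_right
  have nKB : Group.IsNilpotent (K ⊓ B : Subgroup G) := isNilpotent_of_le h.nilB inf_le_right
  have hcop : (Nat.card (K ⊓ A : Subgroup G)).Coprime (Nat.card (K ⊓ B : Subgroup G)) :=
    Nat.Coprime.coprime_dvd_left (Subgroup.card_dvd_of_le inf_le_right)
      (Nat.Coprime.coprime_dvd_right (Subgroup.card_dvd_of_le inf_le_right) h.cop)
  have hKsol : Group.IsSolvable K := h.ih K _ _ hKtop nKA nKB hcop inf_le_left inf_le_left hfact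
  set F := (Cfsg.fittingSubgroup K).map K.subtype with hFdef
  obtain ⟨hFK, hFn, hFc, hFmin⟩ : F ≤ K ∧ K ≤ Subgroup.normalizer (F : Set G) ∧
      (∀ c ∈ K, (∀ f ∈ F, c * f = f * c) → c ∈ F) ∧
      ∀ Q : Subgroup G, (∀ q : ℕ, q.Prime → ∀ W : Subgroup G, W ≤ K →
        K ≤ Subgroup.normalizer (W : Set G) → IsPGroup q W → W ≤ Q) → F ≤ Q :=
    rel_fitting K hKsol
  obtain ⟨z, r, hr, hrA, hz, hzo, hz1⟩ := h.exists_isCentral
  have hzK : z ∈ K := by rw [hmemK]; exact (hz.2 x₀ hxA).symm
  have hFA : F ≤ A := by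
    apply hFmin A
    intro q hq W hWK hWn hWp
    haveI : Fact q.Prime := ⟨hq⟩
    by_cases hqA : q ∣ Nat.card A
    · exact (h.normal_pgroup_le q hqA hfact hWK hWn hWp).trans (pPart_le A q)
    · by_cases hqB : q ∣ Nat.card B
      · have hWB : W ≤ B :=
          (h.symm.normal_pgroup_le q hqB hfact' hWK hWn hWp).trans (pPart_le B q)
        by_contra hcon
        have hW1 : W ≠ ⊥ := by
          intro e; apply hcon; rw [e]; exact bot_le
        exact h.stepC hz hz1 hWB hW1 (hWn hzK)
      · have hW : W = ⊥ := by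
          by_contra hW1
          have := dvd_card_of_pgroup (le_top : W ≤ ⊤) hWp hW1
          rw [Subgroup.card_top, h.card_eq] at this
          rcases (Nat.Prime.dvd_mul hq).mp this with h1 | h1
          · exact hqA h1
          · exact hqB h1
        rw [hW]; exact bot_le
  have hzF : z ∈ F := by
    apply hFc z hzK
    intro f hf
    exact (hz.2 f (hFA hf)).symm
  intro k hk
  apply h.strong_closure hz hz1
  exact hFA ((Subgroup.mem_normalizer_iff.mp (hFn hk) z).mp hzF)

/-- the centralizer of any nontrivial element of `A` lies in `N_G(A)` -/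
theorem centralizer_le_normalizer (h : Ctx A B) {x : G} (hxA : x ∈ A) (hx1 : x ≠ 1) :
    Subgroup.centralizer {x} ≤ Subgroup.normalizer (A : Set G) := by
  set H := Subgroup.centralizer ({x} : Set G) with hH
  have hmemH : ∀ g : G, g ∈ H ↔ g * x = x * g := mem_centralizer_singleton_iff x
  set E := A ⊓ H with hE
  obtain ⟨z, r, hr, hrA, hz, hzo, hz1⟩ := h.exists_isCentral
  have hzH : z ∈ H := by rw [hmemH]; exact (hz.2 x hxA).symm
  by_cases hcase : Subgroup.normalizer (A : Set G) ⊓ H ≤ A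
  · -- Case 1: `E` controls its own fusion in `H`
    have hcop := h.hall_centralizer {x} (by
      intro y hy; rw [Set.mem_singleton_iff.mp hy]; exact hxA)
    have hdvd : Nat.card E ∣ Nat.card H := Subgroup.card_dvd_of_le inf_le_right
    have hm : Nat.card H = Nat.card E * (Nat.card H / Nat.card E) :=
      (Nat.mul_div_cancel' hdvd).symm
    have hconj : ∀ g ∈ H, g * x * g⁻¹ = x := by
      intro g hg
      rw [(hmemH g).mp hg]; group
    have hfus : ∀ u ∈ E, ∀ v ∈ E, (∃ g ∈ H, g * u * g⁻¹ = v) → ∃ e ∈ E, e * u * e⁻¹ = v := by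
      rintro u hu v hv ⟨g, hg, rfl⟩
      obtain ⟨n, hn, hnx⟩ := h.strong_fusion {x, u} (by
          intro y hy
          rcases hy with rfl | hy
          · exact hxA
          · rw [Set.mem_singleton_iff.mp hy]; exact hu.1) g (by
          intro y hy
          rcases hy with rfl | hy
          · rw [hconj g hg]; exact hxA
          · rw [Set.mem_singleton_iff.mp hy]; exact hv.1)
      have hnH : n ∈ H := by
        rw [hmemH]
        have h1 := hnx x (Set.mem_insert _ _)
        rw [hconj g hg] at h1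
        calc n * x = n * x * n⁻¹ * n := by group
          _ = x * n := by rw [h1]
      exact ⟨n, ⟨hcase ⟨hn, hnH⟩, hnH⟩, hnx u (Set.mem_insert_of_mem _ rfl)⟩
    obtain ⟨K', hK'H, hK'n, hK'c⟩ := rel_complement H E inf_le_right
      (isNilpotent_of_le h.nilA inf_le_left) hm
      (Nat.Coprime.coprime_dvd_left (Subgroup.card_dvd_of_le inf_le_left) hcop) hfus
    -- `K'` lies in a conjugate of `B`
    have hp : ∀ p : ℕ, p.Prime → p ∣ Nat.card K' → p ∣ Nat.card B := by
      intro p hp hpd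
      rw [hK'c] at hpd
      have h1 : p ∣ Nat.card G :=
        (hpd.trans (Nat.div_dvd_of_dvd hdvd)).trans (Subgroup.card_subgroup_dvd_card H)
      rw [h.card_eq] at h1
      rcases (Nat.Prime.dvd_mul hp).mp h1 with h2 | h2
      · exfalso
        have := Nat.dvd_gcd h2 hpd
        rw [hcop.gcd_eq_one] at this
        exact hp.one_lt.ne' (Nat.dvd_one.mp this)
      · exact h2
    obtain ⟨l, -, hl⟩ := rel_wielandt (⊤ : Subgroup G) B K' le_top le_top h.nilB
      (by rw [Subgroup.card_top, h.card_eq, mul_comm]) h.cop.symm hp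
    obtain ⟨a, ha, b, hb, e⟩ := h.fact l
    have hK'B : ∀ k ∈ K', a⁻¹ * k * a ∈ B := by
      intro k hk
      have h1 := hl k hk
      have e2 : a⁻¹ * k * a = b * (l⁻¹ * k * l) * b⁻¹ := by rw [e]; group
      rw [e2]
      exact B.mul_mem (B.mul_mem hb h1) (B.inv_mem hb)
    set X₀ := K'.map (MulAut.conj a⁻¹).toMonoidHom with hX₀
    have hX₀B : X₀ ≤ B := by
      rintro w ⟨k, hk, rfl⟩
      have := hK'B k hk
      simpa [MulAut.conj_apply] using this
    have hzn : z ∈ Subgroup.normalizer (X₀ : Set G) := by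
      have hza : a * z = z * a := hz.2 a ha
      have hza' : a⁻¹ * z = z * a⁻¹ := by
        calc a⁻¹ * z = a⁻¹ * (z * a) * a⁻¹ := by group
          _ = a⁻¹ * (a * z) * a⁻¹ := by rw [hza]
          _ = z * a⁻¹ := by group
      have hzn' : z ∈ Subgroup.normalizer (K' : Set G) := hK'n hzH
      have hzn'' : z⁻¹ ∈ Subgroup.normalizer (K' : Set G) := Subgroup.inv_mem _ hzn'
      apply mem_normalizer_of_conj_mem
      · rintro w ⟨k, hk, rfl⟩
        refine ⟨z * k * z⁻¹, (Subgroup.mem_normalizer_iff.mp hzn' k).mp hk, ?_⟩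
        simp only [MulEquiv.coe_toMonoidHom, MulAut.conj_apply, inv_inv]
        calc a⁻¹ * (z * k * z⁻¹) * a = (a⁻¹ * z) * k * (a⁻¹ * z)⁻¹ := by group
          _ = (z * a⁻¹) * k * (z * a⁻¹)⁻¹ := by rw [hza']
          _ = z * (a⁻¹ * k * a) * z⁻¹ := by group
      · rintro w ⟨k, hk, rfl⟩
        refine ⟨z⁻¹ * k * z, ?_, ?_⟩
        · have := (Subgroup.mem_normalizer_iff.mp hzn'' k).mp hk
          rwa [inv_inv] at this
        · simp only [MulEquiv.coe_toMonoidHom, MulAut.conj_apply, inv_inv]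
          calc a⁻¹ * (z⁻¹ * k * z) * a = (z * a)⁻¹ * k * (z * a) := by group
            _ = (a * z)⁻¹ * k * (a * z) := by rw [hza]
            _ = z⁻¹ * (a⁻¹ * k * a) * z := by group
    have hX₀bot : X₀ = ⊥ := by
      by_contra hne
      exact h.stepC hz hz1 hX₀B hne hzn
    have hK'bot : K' = ⊥ := by
      rw [hX₀] at hX₀bot
      exact (Subgroup.map_eq_bot_iff_of_injective K' (MulAut.conj a⁻¹).injective).mp hX₀bot
    have hm1 : Nat.card H / Nat.card E = 1 := by
      rw [← hK'c, hK'bot, Subgroup.card_bot]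
    have hHE : Nat.card H = Nat.card E := by rw [hm, hm1, mul_one]
    have hEH : E = H := Subgroup.eq_of_le_of_card_ge inf_le_right hHE.le
    intro c hc
    have : c ∈ E := hEH ▸ hc
    exact Subgroup.le_normalizer this.1
  · -- Case 2: some element of `N_G(A) ∩ H` lies outside `A`
    obtain ⟨n, hn, hnA⟩ := SetLike.not_le_iff_exists.mp hcase
    set L := Subgroup.normalizer (A : Set G) with hL
    set n' := n ^ Nat.card A with hn'
    have hn'1 : n' ≠ 1 := by
      intro e
      apply hnA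
      apply h.mem_of_mem_normalizer hn.1
      exact Nat.Coprime.coprime_dvd_left (orderOf_dvd_of_pow_eq_one e) h.cop
    have hn'B : n' ^ Nat.card B = 1 := by
      rw [hn', ← pow_mul, ← h.card_eq]
      exact pow_card_eq_one'
    have hn'L : n' ∈ L := Subgroup.pow_mem _ hn.1 _
    have hn'H : n' ∈ H := Subgroup.pow_mem _ hn.2 _
    have hoB : orderOf n' ∣ Nat.card B := orderOf_dvd_of_pow_eq_one hn'B
    have hcardL : Nat.card L = Nat.card (L ⊓ B : Subgroup G) * Nat.card A := by
      rw [h.card_normalizer, mul_comm]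
    have hp : ∀ p : ℕ, p.Prime → p ∣ Nat.card (Subgroup.zpowers n') →
        p ∣ Nat.card (L ⊓ B : Subgroup G) := by
      intro p hp hpd
      rw [Nat.card_zpowers] at hpd
      have h1 : orderOf n' ∣ Nat.card L := by
        have := orderOf_dvd_natCard (⟨n', hn'L⟩ : L)
        rwa [Subgroup.orderOf_mk] at this
      have h2 : p ∣ Nat.card (L ⊓ B : Subgroup G) * Nat.card A := by
        rw [← hcardL]; exact hpd.trans h1
      rcases (Nat.Prime.dvd_mul hp).mp h2 with h3 | h3
      · exact h3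
      · exfalso
        have := Nat.dvd_gcd h3 (hpd.trans hoB)
        rw [h.cop.gcd_eq_one] at this
        exact hp.one_lt.ne' (Nat.dvd_one.mp this)
    obtain ⟨l, hlL, hl⟩ := rel_wielandt L (L ⊓ B) (Subgroup.zpowers n') inf_le_left
      (Subgroup.zpowers_le.mpr hn'L) (isNilpotent_of_le h.nilB inf_le_right) hcardL
      (Nat.Coprime.coprime_dvd_left (Subgroup.card_dvd_of_le inf_le_right) h.cop.symm) hp
    set y := l⁻¹ * n' * l with hy
    have hyLB : y ∈ L ⊓ B := hl n' (Subgroup.mem_zpowers _)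
    have hy1 : y ≠ 1 := by
      intro e
      apply hn'1
      calc n' = l * y * l⁻¹ := by rw [hy]; group
        _ = 1 := by rw [e]; group
    set x₁ := l⁻¹ * x * l with hx₁
    have hx₁A : x₁ ∈ A := by
      have := (Subgroup.mem_normalizer_iff.mp (Subgroup.inv_mem _ hlL) x).mp hxA
      rwa [inv_inv] at this
    have hx₁1 : x₁ ≠ 1 := by
      intro e
      apply hx1
      calc x = l * x₁ * l⁻¹ := by rw [hx₁]; group
        _ = 1 := by rw [e]; group
    have hcomm : x₁ * y = y * x₁ := by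
      have h1 : n' * x = x * n' := (hmemH n').mp hn'H
      calc x₁ * y = l⁻¹ * (x * n') * l := by rw [hx₁, hy]; group
        _ = l⁻¹ * (n' * x) * l := by rw [h1]
        _ = y * x₁ := by rw [hx₁, hy]; group
    have h1 : Subgroup.centralizer {y} ≤ Subgroup.normalizer (B : Set G) :=
      h.symm.centralizer_le_of_mem_normalizer hyLB.2 hyLB.1 hy1
    have hx₁N : x₁ ∈ Subgroup.normalizer (B : Set G) :=
      h1 ((mem_centralizer_singleton_iff y x₁).mpr hcomm)
    have h2 : Subgroup.centralizer {x₁} ≤ Subgroup.normalizer (A : Set G) :=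
      h.centralizer_le_of_mem_normalizer hx₁A hx₁N hx₁1
    intro c hc
    have hc' : c * x = x * c := (hmemH c).mp hc
    have h3 : l⁻¹ * c * l ∈ L := by
      apply h2
      rw [mem_centralizer_singleton_iff]
      calc l⁻¹ * c * l * x₁ = l⁻¹ * (c * x) * l := by rw [hx₁]; group
        _ = l⁻¹ * (x * c) * l := by rw [hc']
        _ = x₁ * (l⁻¹ * c * l) := by rw [hx₁]; group
    have e : c = l * (l⁻¹ * c * l) * l⁻¹ := by group
    rw [e]
    exact L.mul_mem (L.mul_mem hlL h3) (L.inv_mem hlL)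

/-- `A` is a TI-subgroup with respect to its normalizer -/
theorem ti (h : Ctx A B) {x g : G} (hxA : x ∈ A) (hx1 : x ≠ 1) (hxg : g⁻¹ * x * g ∈ A) :
    g ∈ Subgroup.normalizer (A : Set G) := by
  obtain ⟨z, r, hr, hrA, hz, hzo, hz1⟩ := h.exists_isCentral
  haveI : Fact r.Prime := ⟨hr⟩
  have hcomm : (g * z * g⁻¹) * x = x * (g * z * g⁻¹) := by
    have := hz.2 _ hxg
    calc g * z * g⁻¹ * x = g * (z * (g⁻¹ * x * g)) * g⁻¹ := by group
      _ = g * ((g⁻¹ * x * g) * z) * g⁻¹ := by rw [this]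
      _ = x * (g * z * g⁻¹) := by group
  have h1 : g * z * g⁻¹ ∈ Subgroup.normalizer (A : Set G) := by
    apply h.centralizer_le_normalizer hxA hx1
    rw [mem_centralizer_singleton_iff]
    exact hcomm
  have h2 : g * z * g⁻¹ ∈ A := by
    apply h.mem_of_mem_normalizer h1
    rw [orderOf_conj', hzo]
    exact (Nat.Prime.coprime_iff_not_dvd hr).mpr (h.not_dvd_card_B hrA)
  exact h.strong_closure hz hz1 h2

end Ctx

end Cfsg.Agent.Lib.Helper9.KW
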