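import Mathlib
import Cfsg.Agent.Lib.Helper9.KW7

set_option autoImplicit false
set_option linter.style.haveILetI false
set_option linter.unusedSectionVars false

/-!
Kegel–Wielandt, coprime case: the counting contradiction and the final induction.
-/

namespace Cfsg.Agent.Lib.Helper9.KW

open scoped Pointwise

variable {G : Type*} [Group G] [Finite G]

/-- If a finite group acts freely on a finite set, its order divides the size of the set. -/
theorem card_dvd_of_free {B α : Type*} [Group B] [MulAction B α] [Finite B] [Finite α]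
    (h : ∀ (b : B) (a : α), b • a = a → b = 1) : Nat.card B ∣ Nat.card α := by
  classical
  have e := MulAction.selfEquivSigmaOrbitsQuotientStabilizer B α
  have : Fintype (Quotient (MulAction.orbitRel B α)) := Fintype.ofFinite _
  rw [Nat.card_congr e, Nat.card_sigma]
  apply Finset.dvd_sum
  intro ω _
  have hst : MulAction.stabilizer B (Quotient.out ω) = ⊥ := by
    rw [Subgroup.eq_bot_iff_forall]
    intro b hb
    exact h b _ (MulAction.mem_stabilizer_iff.mp hb)
  rw [hst, ← Subgroup.index_eq_card, Subgroup.index_bot]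

/-- if `A ≤ N` acts on `G ⧸ N` freely away from the trivial coset, then `|A|` divides
`|G : N| - 1` -/
theorem card_dvd_index_sub_one {A N : Subgroup G} (hAN : A ≤ N)
    (hfree : ∀ a ∈ A, a ≠ 1 → ∀ g : G, g⁻¹ * a * g ∈ N → g ∈ N) :
    Nat.card A ∣ N.index - 1 := by
  classical
  let S : SubMulAction A (G ⧸ N) :=
    { carrier := {c | c ≠ ((1 : G) : G ⧸ N)}
      smul_mem' := by
        intro a c hc hcon
        apply hc
        have h1 : c = a⁻¹ • (a • c) := by rw [inv_smul_smul]
        rw [h1, hcon]
        change (((a⁻¹ : A) : G) • ((1 : G) : G ⧸ N)) = _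
        rw [MulAction.Quotient.smul_coe, QuotientGroup.eq]
        simp only [smul_eq_mul, mul_one, Subgroup.coe_inv, inv_inv]
        exact hAN a.2 }
  have hfree' : ∀ (a : A) (c : S), a • c = c → a = 1 := by
    rintro a ⟨c, hc⟩ hac
    by_contra ha
    apply hc
    have hac' : a • c = c := congrArg Subtype.val hac
    induction c using QuotientGroup.induction_on with
    | H g =>
      change (((a : A) : G) • ((g : G) : G ⧸ N)) = _ at hac'
      rw [MulAction.Quotient.smul_coe, QuotientGroup.eq] at hac'
      have h1 : g⁻¹ * (a : G) * g ∈ N := by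
        have := N.inv_mem hac'
        simpa [mul_assoc] using this
      have h2 : g ∈ N := hfree a a.2 (fun e => ha (Subtype.ext e)) g h1
      rw [QuotientGroup.eq]
      simpa using N.inv_mem h2
  have h1 := card_dvd_of_free hfree'
  have h2 : Nat.card S = N.index - 1 := by
    haveI : Fintype (G ⧸ N) := Fintype.ofFinite _
    have : Nat.card S = Nat.card {c : G ⧸ N // c ≠ ((1 : G) : G ⧸ N)} := rfl
    rw [this, Nat.card_eq_fintype_card, Subgroup.index_eq_card, Nat.card_eq_fintype_card]
    exact Set.card_ne_eq _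
  rwa [h2] at h1

namespace Ctx

variable {A B : Subgroup G}

theorem card_lt (h : Ctx A B) : Nat.card A < Nat.card B := by
  set N := Subgroup.normalizer (A : Set G) with hN
  have h1 : Nat.card A ∣ N.index - 1 := by
    apply card_dvd_index_sub_one Subgroup.le_normalizer
    intro a ha ha1 g hg
    have hgA : g⁻¹ * a * g ∈ A := by
      apply h.mem_of_mem_normalizer hg
      have e : g⁻¹ * a * g = g⁻¹ * a * g⁻¹⁻¹ := by rw [inv_inv]
      rw [e, orderOf_conj']
      have : orderOf a ∣ Nat.card A := by
        have := orderOf_dvd_natCard (⟨a, ha⟩ : A)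
        rwa [Subgroup.orderOf_mk] at this
      exact Nat.Coprime.coprime_dvd_left this h.cop
    exact h.ti ha ha1 hgA
  have h2 : N.index ≠ 1 := by
    intro e
    rw [Subgroup.index_eq_one] at e
    exact h.A_ne_bot (h.eq_bot_of_normalizer e h.A_ne_top)
  have h3 : N.index ≠ 0 := Subgroup.index_ne_zero_of_finite
  have h4 : N.index ∣ Nat.card B := by
    rw [← h.index_A]
    exact Subgroup.index_dvd_of_le Subgroup.le_normalizer
  have h5 : N.index ≤ Nat.card B := Nat.le_of_dvd Nat.card_pos h4
  have h6 : Nat.card A ≤ N.index - 1 := Nat.le_of_dvd (by omega) h1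
  omega

theorem false (h : Ctx A B) : False := by
  have h1 := h.card_lt
  have h2 := h.symm.card_lt
  omega

end Ctx

universe u

/-- Wielandt–Kegel, coprime case, by induction on the order -/
theorem solvable_aux (n : ℕ) : ∀ {G : Type u} [Group G] [Finite G] (A B : Subgroup G),
    Nat.card G = n → Group.IsNilpotent A → Group.IsNilpotent B →
    (Nat.card A).Coprime (Nat.card B) →
    (∀ g : G, ∃ a ∈ A, ∃ b ∈ B, g = a * b) → Group.IsSolvable G := by
  induction n using Nat.strong_induction_on with
  | _ n IH =>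
    intro G _ _ A B hn hA hB hcop hAB
    by_contra hns
    have ih : ∀ K A₁ B₁ : Subgroup G, K ≠ ⊤ → Group.IsNilpotent A₁ → Group.IsNilpotent B₁ →
        (Nat.card A₁).Coprime (Nat.card B₁) → A₁ ≤ K → B₁ ≤ K →
        (∀ g ∈ K, ∃ a ∈ A₁, ∃ b ∈ B₁, g = a * b) → Group.IsSolvable K := by
      intro K A₁ B₁ hK hA₁ hB₁ hc hAK hBK hf
      have hlt : Nat.card K < n := by
        rw [← hn]
        apply lt_of_le_of_ne (Subgroup.card_le_card_group K)
        intro e
        exact hK (K.eq_top_of_card_eq e)
      exact IH _ hlt (A₁.subgroupOf K) (B₁.subgroupOf K) rfl (isNilpotent_subgroupOf hAK hA₁)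
        (isNilpotent_subgroupOf hBK hB₁)
        (by rw [card_subgroupOf_of_le hAK, card_subgroupOf_of_le hBK]; exact hc)
        (by
          rintro ⟨g, hg⟩
          obtain ⟨a, ha, b, hb, e⟩ := hf g hg
          exact ⟨⟨a, hAK ha⟩, Subgroup.mem_subgroupOf.mpr ha, ⟨b, hBK hb⟩,
            Subgroup.mem_subgroupOf.mpr hb, Subtype.ext e⟩)
    have hsimple : ∀ N : Subgroup G, N.Normal → N = ⊥ ∨ N = ⊤ := by
      intro N hN
      by_contra hcon
      push Not at hcon
      obtain ⟨hNb, hNt⟩ := hcon
      set f := QuotientGroup.mk' N with hf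
      have hcopQ : (Nat.card (A.map f)).Coprime (Nat.card (B.map f)) :=
        Nat.Coprime.coprime_dvd_left (A.card_map_dvd f)
          (Nat.Coprime.coprime_dvd_right (B.card_map_dvd f) hcop)
      have hnA : Group.IsNilpotent (A.map f) := by
        haveI := hA
        exact Group.nilpotent_of_surjective (f.subgroupMap A) (f.subgroupMap_surjective A)
      have hnB : Group.IsNilpotent (B.map f) := by
        haveI := hB
        exact Group.nilpotent_of_surjective (f.subgroupMap B) (f.subgroupMap_surjective B)
      -- the quotient is solvable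
      have hQ : Group.IsSolvable (G ⧸ N) := by
        have hlt : Nat.card (G ⧸ N) < n := by
          rw [← hn, ← Subgroup.index_eq_card, ← Subgroup.card_mul_index N]
          have h1 : 1 < Nat.card N := (Subgroup.one_lt_card_iff_ne_bot N).mpr hNb
          have h2 : 0 < N.index := Nat.pos_of_ne_zero Subgroup.index_ne_zero_of_finite
          nlinarith
        refine IH _ hlt (A.map f) (B.map f) rfl hnA hnB hcopQ ?_
        intro q
        obtain ⟨g, rfl⟩ := QuotientGroup.mk'_surjective N q
        obtain ⟨a, ha, b, hb, e⟩ := hAB g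
        exact ⟨f a, Subgroup.mem_map_of_mem f ha, f b, Subgroup.mem_map_of_mem f hb,
          by rw [e, map_mul]⟩
      -- `N` is factorized
      have hNf : ∀ g ∈ N, ∃ a ∈ N ⊓ A, ∃ b ∈ N ⊓ B, g = a * b := by
        intro g hg
        obtain ⟨a, ha, b, hb, e⟩ := hAB g
        have h1 : f a * f b = 1 := by
          rw [← map_mul, ← e]
          exact (QuotientGroup.eq_one_iff g).mpr hg
        have h2 : f a ∈ A.map f ⊓ B.map f := by
          refine ⟨Subgroup.mem_map_of_mem f ha, ?_⟩
          have : f a = (f b)⁻¹ := eq_inv_of_mul_eq_one_left h1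
          rw [this]
          exact Subgroup.inv_mem _ (Subgroup.mem_map_of_mem f hb)
        rw [(Subgroup.disjoint_of_coprime_natCard hcopQ).eq_bot, Subgroup.mem_bot] at h2
        have haN : a ∈ N := (QuotientGroup.eq_one_iff a).mp h2
        have hbN : b ∈ N := by
          have : b = a⁻¹ * g := by rw [e]; group
          rw [this]; exact N.mul_mem (N.inv_mem haN) hg
        exact ⟨a, ⟨haN, ha⟩, b, ⟨hbN, hb⟩, e⟩
      have hNs : Group.IsSolvable N :=
        ih N (N ⊓ A) (N ⊓ B) hNt (isNilpotent_of_le hA inf_le_right)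
          (isNilpotent_of_le hB inf_le_right)
          (Nat.Coprime.coprime_dvd_left (Subgroup.card_dvd_of_le inf_le_right)
            (Nat.Coprime.coprime_dvd_right (Subgroup.card_dvd_of_le inf_le_right) hcop))
          inf_le_left inf_le_left hNf
      exact hns ((Group.isSolvable_iff_subgroup_quotient N).mpr ⟨hNs, hQ⟩)
    exact (Ctx.mk hA hB hcop hAB hsimple hns ih).false

/-- **Wielandt–Kegel, coprime case**: a finite product of two nilpotent subgroups of coprime
orders is solvable. -/
theorem solvable_of_coprime_nilpotent_factors {G : Type u} [Group G] [Finite G]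
    (A B : Subgroup G) (hA : Group.IsNilpotent A) (hB : Group.IsNilpotent B)
    (hcop : (Nat.card A).Coprime (Nat.card B)) (hAB : ∀ g : G, ∃ a ∈ A, ∃ b ∈ B, g = a * b) :
    Group.IsSolvable G :=
  solvable_aux (Nat.card G) A B rfl hA hB hcop hAB

theorem hall_sylow_data (a b p : ℕ) (hp : p.Prime) (ha : a ≠ 0) (hcop : a.Coprime b) :
    a * b = p ^ a.factorization p * (a / p ^ a.factorization p * b) ∧
      (p ^ a.factorization p).Coprime (a / p ^ a.factorization p * b) := by
  constructor
  · rw [← mul_assoc, Nat.ordProj_mul_ordCompl_eq_self]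
  · exact Nat.Coprime.mul_right (Nat.Coprime.pow_left _ (Nat.coprime_ordCompl hp ha))
      (Nat.Coprime.coprime_dvd_left (Nat.ordProj_dvd a p) hcop)

theorem le_normalizer_map_sylow {G : Type u} [Group G] [Finite G] {A : Subgroup G}
    (hA : Group.IsNilpotent A) (p : ℕ) [Fact p.Prime] (P : Sylow p A) :
    A ≤ Subgroup.normalizer (((P : Subgroup A).map A.subtype : Subgroup G) : Set G) := by
  haveI := sylow_normal_of_nilpotent hA p P
  intro a ha
  apply mem_normalizer_of_conj_mem
  · rintro w ⟨x, hx, rfl⟩
    refine ⟨⟨a, ha⟩ * x * ⟨a, ha⟩⁻¹, ?_, rfl⟩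
    exact Subgroup.Normal.conj_mem inferInstance x hx _
  · rintro w ⟨x, hx, rfl⟩
    refine ⟨⟨a, ha⟩⁻¹ * x * ⟨a, ha⟩, ?_, rfl⟩
    have := Subgroup.Normal.conj_mem (inferInstance : (P : Subgroup A).Normal) x hx ⟨a, ha⟩⁻¹
    rwa [inv_inv] at this

/-- **Wielandt–Kegel, coprime case**, with the permutability of the Sylow subgroups of the
factors. -/
theorem kegel_wielandt_coprime {G : Type u} [Group G] [Finite G]
    (A B : Subgroup G) (hA : Group.IsNilpotent A) (hB : Group.IsNilpotent B)
    (hcop : (Nat.card A).Coprime (Nat.card B)) (hAB : ∀ g : G, ∃ a ∈ A, ∃ b ∈ B, g = a * b) :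
    Group.IsSolvable G ∧ ∀ (p q : ℕ) [Fact p.Prime] [Fact q.Prime] (P : Sylow p A)
      (Q : Sylow q B), ∃ S : Subgroup G, (S : Set G) =
        (((P : Subgroup A).map A.subtype : Subgroup G) : Set G) *
          (((Q : Subgroup B).map B.subtype : Subgroup G) : Set G) := by
  have hsol := solvable_of_coprime_nilpotent_factors A B hA hB hcop hAB
  refine ⟨hsol, ?_⟩
  intro p q hp hq P Q
  haveI := hsol
  have hcardG : Nat.card (⊤ : Subgroup G) = Nat.card A * Nat.card B := by
    rw [Subgroup.card_top]
    have hdis : A ⊓ B = ⊥ := (Subgroup.disjoint_of_coprime_natCard hcop).eq_bot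
    have := card_of_fact (K := ⊤) (le_top : A ≤ ⊤) (le_top : B ≤ ⊤) (fun g _ => hAB g) hdis
    rwa [Subgroup.card_top] at this
  have hPc : Nat.card ((P : Subgroup A).map A.subtype) = p ^ (Nat.card A).factorization p := by
    rw [Subgroup.card_map_of_injective A.subtype_injective]
    exact Sylow.card_eq_multiplicity P
  have hQc : Nat.card ((Q : Subgroup B).map B.subtype) = q ^ (Nat.card B).factorization q := by
    rw [Subgroup.card_map_of_injective B.subtype_injective]
    exact Sylow.card_eq_multiplicity Q
  obtain ⟨h1, h2⟩ := hall_sylow_data (Nat.card A) (Nat.card B) p hp.out Nat.card_pos.ne' hcop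
  obtain ⟨h3, h4⟩ := hall_sylow_data (Nat.card B) (Nat.card A) q hq.out Nat.card_pos.ne' hcop.symm
  refine rel_prod ⊤ A B _ _ inferInstance le_top le_top (fun g _ => hAB g) ?_
    (le_normalizer_map_sylow hA p P) ?_ (le_normalizer_map_sylow hB q Q)
    (m₁ := Nat.card A / p ^ (Nat.card A).factorization p * Nat.card B) ?_ ?_
    (m₂ := Nat.card B / q ^ (Nat.card B).factorization q * Nat.card A) ?_ ?_
  · rintro x ⟨y, -, rfl⟩; exact y.2
  · rintro x ⟨y, -, rfl⟩; exact y.2
  · rw [hcardG, hPc]; exact h1
  · rw [hPc]; exact h2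
  · rw [hcardG, hQc, mul_comm]; exact h3
  · rw [hQc]; exact h4

end Cfsg.Agent.Lib.Helper9.KW
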