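import Mathlib

namespace Cfsg.Agent.Lib.Helper9.M11Local

open Subgroup

variable {G : Type*} [Group G] {P N : Subgroup G}

theorem pow_nine_of_card (hcard : Nat.card P = 9) : ∀ x ∈ P, x ^ 9 = 1 := by
  intro x hx
  have h := pow_card_eq_one' (x := (⟨x, hx⟩ : P))
  rw [hcard] at h
  have := congrArg Subtype.val h
  simpa using this

theorem eq_one_of_mul_self (hP9 : ∀ x ∈ P, x ^ 9 = 1) {x : G} (hx : x ∈ P) (h2 : x * x = 1) :
    x = 1 := by
  have h9 := hP9 x hx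
  have e : x ^ 9 = (x * x) ^ 4 * x := by rw [← pow_two, ← pow_mul, ← pow_succ]
  rw [e, h2] at h9
  simpa using h9

theorem eq_one_of_eq_inv (hP9 : ∀ x ∈ P, x ^ 9 = 1) {x : G} (hx : x ∈ P) (h2 : x = x⁻¹) :
    x = 1 := by
  apply eq_one_of_mul_self hP9 hx
  nth_rewrite 1 [h2]
  simp

theorem orderOf_three_or_nine (hP9 : ∀ x ∈ P, x ^ 9 = 1) {x : G} (hx : x ∈ P) (h1 : x ≠ 1) :
    orderOf x = 3 ∨ orderOf x = 9 := by
  have hd : orderOf x ∣ 3 ^ 2 := orderOf_dvd_of_pow_eq_one (by simpa using hP9 x hx)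
  obtain ⟨k, hk, hk2⟩ := (Nat.dvd_prime_pow Nat.prime_three).1 hd
  interval_cases k
  · exfalso; apply h1; simpa using hk2
  · left; simpa using hk2
  · right; simpa using hk2

/-- Trichotomy for an involution acting on an abelian group of order 9. -/
theorem invol_trichotomy [Finite G]
    (hab : ∀ x ∈ P, ∀ y ∈ P, x * y = y * x)
    (hnorm : ∀ g ∈ N, ∀ x ∈ P, g * x * g⁻¹ ∈ P)
    (hcard : Nat.card P = 9) {σ : G} (hσ : σ ∈ N) (hσ2 : σ * σ = 1) :
    (∀ x ∈ P, σ * x * σ⁻¹ = x) ∨ (∀ x ∈ P, σ * x * σ⁻¹ = x⁻¹) ∨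
    ∃ a ∈ P, ∃ b ∈ P, a ≠ 1 ∧ b ≠ 1 ∧ σ * a * σ⁻¹ = a ∧ σ * b * σ⁻¹ = b⁻¹ ∧
      a ^ 3 = 1 ∧ b ^ 3 = 1 ∧ (∀ x ∈ P, ∃ i < 3, ∃ j < 3, x = a ^ i * b ^ j) := by
  classical
  have hP9 := pow_nine_of_card hcard
  by_contra hcon
  push Not at hcon
  obtain ⟨⟨x0, hx0, hx0'⟩, ⟨y0, hy0, hy0'⟩, hcon⟩ := hcon
  have hσi : σ⁻¹ = σ := inv_eq_of_mul_eq_one_right hσ2
  have hcx : σ * x0 * σ⁻¹ ∈ P := hnorm σ hσ x0 hx0
  have hcy : σ * y0 * σ⁻¹ ∈ P := hnorm σ hσ y0 hy0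
  have hcc : ∀ w : G, σ * (σ * w * σ⁻¹) * σ⁻¹ = w := by
    intro w
    rw [hσi]
    calc σ * (σ * w * σ) * σ = (σ * σ) * w * (σ * σ) := by group
      _ = w := by rw [hσ2]; simp
  set a := y0 * (σ * y0 * σ⁻¹) with ha_def
  set b := x0 * (σ * x0 * σ⁻¹)⁻¹ with hb_def
  have ha : a ∈ P := P.mul_mem hy0 hcy
  have hb : b ∈ P := P.mul_mem hx0 (P.inv_mem hcx)
  have ha1 : a ≠ 1 := by
    intro h
    apply hy0'
    rw [ha_def] at h
    exact eq_inv_of_mul_eq_one_right h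
  have hb1 : b ≠ 1 := by
    intro h
    apply hx0'
    rw [hb_def] at h
    exact inv_injective (eq_inv_of_mul_eq_one_right h)
  have hfa : σ * a * σ⁻¹ = a := by
    have : σ * a * σ⁻¹ = (σ * y0 * σ⁻¹) * (σ * (σ * y0 * σ⁻¹) * σ⁻¹) := by
      rw [ha_def]; group
    rw [this, hcc, ha_def]
    exact hab _ hcy _ hy0
  have hfb : σ * b * σ⁻¹ = b⁻¹ := by
    have : σ * b * σ⁻¹ = (σ * x0 * σ⁻¹) * (σ * (σ * x0 * σ⁻¹) * σ⁻¹)⁻¹ := by
      rw [hb_def]; group
    rw [this, hcc, hb_def, mul_inv_rev, inv_inv]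
  have hfixA : ∀ w ∈ zpowers a, σ * w * σ⁻¹ = w := by
    intro w hw
    obtain ⟨k, rfl⟩ := hw
    simp only
    rw [← conj_zpow, hfa]
  have hinvB : ∀ w ∈ zpowers b, σ * w * σ⁻¹ = w⁻¹ := by
    intro w hw
    obtain ⟨k, rfl⟩ := hw
    simp only
    rw [← conj_zpow, hfb, inv_zpow]
  have hdisj : ∀ w ∈ P, σ * w * σ⁻¹ = w → σ * w * σ⁻¹ = w⁻¹ → w = 1 := by
    intro w hw h1 h2
    exact eq_one_of_eq_inv hP9 hw (h1.symm.trans h2)
  have hoa : orderOf a = 3 := by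
    rcases orderOf_three_or_nine hP9 ha ha1 with h | h
    · exact h
    · exfalso
      have hle : zpowers a ≤ P := by rw [zpowers_le]; exact ha
      have heq : zpowers a = P := by
        apply Subgroup.eq_of_le_of_card_ge hle
        rw [Nat.card_zpowers, h, hcard]
      have hbm : b ∈ zpowers a := by rw [heq]; exact hb
      exact hb1 (hdisj b hb (hfixA b hbm) hfb)
  have hob : orderOf b = 3 := by
    rcases orderOf_three_or_nine hP9 hb hb1 with h | h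
    · exact h
    · exfalso
      have hle : zpowers b ≤ P := by rw [zpowers_le]; exact hb
      have heq : zpowers b = P := by
        apply Subgroup.eq_of_le_of_card_ge hle
        rw [Nat.card_zpowers, h, hcard]
      have ham : a ∈ zpowers b := by rw [heq]; exact ha
      exact ha1 (hdisj a ha hfa (hinvB a ham))
  obtain ⟨x, hx, hne⟩ := hcon a ha b hb ha1 hb1 hfa hfb (by rw [← hoa]; exact pow_orderOf_eq_one a)
    (by rw [← hob]; exact pow_orderOf_eq_one b)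
  -- spanning
  set a' : P := ⟨a, ha⟩ with ha'
  set b' : P := ⟨b, hb⟩ with hb'
  have hoa' : orderOf a' = 3 := by rw [← hoa]; exact Subgroup.orderOf_mk a ha
  have hob' : orderOf b' = 3 := by rw [← hob]; exact Subgroup.orderOf_mk b hb
  have hcompl : IsComplement' (zpowers a') (zpowers b') := by
    apply isComplement'_of_card_mul_and_disjoint
    · rw [Nat.card_zpowers, Nat.card_zpowers, hoa', hob', hcard]
    · rw [Subgroup.disjoint_def]
      intro x hxa hxb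
      have h1 : (x : G) ∈ zpowers a := by
        obtain ⟨k, rfl⟩ := hxa
        exact ⟨k, by simp [ha']⟩
      have h2 : (x : G) ∈ zpowers b := by
        obtain ⟨k, rfl⟩ := hxb
        exact ⟨k, by simp [hb']⟩
      have := hdisj x x.2 (hfixA _ h1) (hinvB _ h2)
      exact Subtype.ext this
  obtain ⟨⟨u, v⟩, huv, -⟩ := hcompl.existsUnique (⟨x, hx⟩ : P)
  have hu : (u : P) ∈ zpowers a' := u.2
  have hv : (v : P) ∈ zpowers b' := v.2
  rw [mem_zpowers_iff_mem_range_orderOf, hoa'] at hu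
  rw [mem_zpowers_iff_mem_range_orderOf, hob'] at hv
  simp only [Finset.mem_image, Finset.mem_range] at hu hv
  obtain ⟨i, hi, hiu⟩ := hu
  obtain ⟨j, hj, hjv⟩ := hv
  apply hne i hi j hj
  have := congrArg Subtype.val huv
  simp only [Subgroup.coe_mul] at this
  rw [← this, ← hiu, ← hjv]
  simp [ha', hb']

end Cfsg.Agent.Lib.Helper9.M11Local
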