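import Mathlib
import Cfsg.Agent.Lib.Helper9.M11LocalA

namespace Cfsg.Agent.Lib.Helper9.M11Local

open Subgroup

variable {G : Type*} [Group G] {P N : Subgroup G}

/-- the data of case (iii) of `invol_trichotomy` -/
structure SplitData (P : Subgroup G) (σ a b : G) : Prop where
  ha : a ∈ P
  hb : b ∈ P
  ha1 : a ≠ 1
  hb1 : b ≠ 1
  hfa : σ * a * σ⁻¹ = a
  hfb : σ * b * σ⁻¹ = b⁻¹
  ha3 : a ^ 3 = 1
  hb3 : b ^ 3 = 1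
  hspan : ∀ x ∈ P, ∃ i < 3, ∃ j < 3, x = a ^ i * b ^ j

theorem SplitData.fix_cases {σ a b : G} (D : SplitData P σ a b) (hP9 : ∀ x ∈ P, x ^ 9 = 1)
    {x : G} (hx : x ∈ P) (hfx : σ * x * σ⁻¹ = x) : x = 1 ∨ x = a ∨ x = a⁻¹ := by
  obtain ⟨i, hi, j, hj, rfl⟩ := D.hspan x hx
  have h1 : σ * (a ^ i * b ^ j) * σ⁻¹ = a ^ i * (b ^ j)⁻¹ := by
    calc σ * (a ^ i * b ^ j) * σ⁻¹ = (σ * a * σ⁻¹) ^ i * (σ * b * σ⁻¹) ^ j := by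
          rw [conj_pow, conj_pow]; group
      _ = a ^ i * (b ^ j)⁻¹ := by rw [D.hfa, D.hfb, inv_pow]
  rw [h1] at hfx
  have h2 : b ^ j = (b ^ j)⁻¹ := (mul_left_cancel hfx).symm
  have h3 : b ^ j = 1 := eq_one_of_eq_inv hP9 (P.pow_mem D.hb j) h2
  rw [h3, mul_one]
  interval_cases i
  · left; simp
  · right; left; simp
  · right; right
    apply eq_inv_of_mul_eq_one_left
    rw [← pow_succ]; exact D.ha3

theorem SplitData.inv_cases {σ a b : G} (D : SplitData P σ a b) (hP9 : ∀ x ∈ P, x ^ 9 = 1)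
    (hab : ∀ x ∈ P, ∀ y ∈ P, x * y = y * x)
    {x : G} (hx : x ∈ P) (hfx : σ * x * σ⁻¹ = x⁻¹) : x = 1 ∨ x = b ∨ x = b⁻¹ := by
  obtain ⟨i, hi, j, hj, rfl⟩ := D.hspan x hx
  have h1 : σ * (a ^ i * b ^ j) * σ⁻¹ = a ^ i * (b ^ j)⁻¹ := by
    calc σ * (a ^ i * b ^ j) * σ⁻¹ = (σ * a * σ⁻¹) ^ i * (σ * b * σ⁻¹) ^ j := by
          rw [conj_pow, conj_pow]; group
      _ = a ^ i * (b ^ j)⁻¹ := by rw [D.hfa, D.hfb, inv_pow]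
  rw [h1] at hfx
  have hai : a ^ i ∈ P := P.pow_mem D.ha i
  have hbj : b ^ j ∈ P := P.pow_mem D.hb j
  have h2 : a ^ i = (a ^ i)⁻¹ := by
    have : (a ^ i * b ^ j)⁻¹ = (a ^ i)⁻¹ * (b ^ j)⁻¹ := by
      rw [mul_inv_rev]; exact (hab _ (P.inv_mem hai) _ (P.inv_mem hbj)).symm
    rw [this] at hfx
    exact mul_right_cancel hfx
  have h3 : a ^ i = 1 := eq_one_of_eq_inv hP9 hai h2
  rw [h3, one_mul]
  interval_cases j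
  · left; simp
  · right; left; simp
  · right; right
    apply eq_inv_of_mul_eq_one_left
    rw [← pow_succ]; exact D.hb3

/-- an element commuting with `σ` acts on `a`, `b` by signs -/
theorem SplitData.signs {σ a b : G} (D : SplitData P σ a b) (hP9 : ∀ x ∈ P, x ^ 9 = 1)
    (hab : ∀ x ∈ P, ∀ y ∈ P, x * y = y * x)
    (hnorm : ∀ g ∈ N, ∀ x ∈ P, g * x * g⁻¹ ∈ P)
    {τ : G} (hτ : τ ∈ N) (hcomm : τ * σ = σ * τ) :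
    (τ * a * τ⁻¹ = a ∨ τ * a * τ⁻¹ = a⁻¹) ∧ (τ * b * τ⁻¹ = b ∨ τ * b * τ⁻¹ = b⁻¹) := by
  have hcomm' : σ * τ * σ⁻¹ = τ := by rw [← hcomm]; group
  have key : ∀ w : G, σ * (τ * w * τ⁻¹) * σ⁻¹ = τ * (σ * w * σ⁻¹) * τ⁻¹ := by
    intro w
    calc σ * (τ * w * τ⁻¹) * σ⁻¹ = (σ * τ * σ⁻¹) * (σ * w * σ⁻¹) * (σ * τ * σ⁻¹)⁻¹ := by group
      _ = τ * (σ * w * σ⁻¹) * τ⁻¹ := by rw [hcomm']
  constructor
  · have h1 : σ * (τ * a * τ⁻¹) * σ⁻¹ = τ * a * τ⁻¹ := by rw [key, D.hfa]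
    rcases D.fix_cases hP9 (hnorm τ hτ a D.ha) h1 with h | h | h
    · exfalso; apply D.ha1
      have : a = τ⁻¹ * (τ * a * τ⁻¹) * τ := by group
      rw [this, h]; group
    · left; exact h
    · right; exact h
  · have h1 : σ * (τ * b * τ⁻¹) * σ⁻¹ = (τ * b * τ⁻¹)⁻¹ := by rw [key, D.hfb]; group
    rcases D.inv_cases hP9 hab (hnorm τ hτ b D.hb) h1 with h | h | h
    · exfalso; apply D.hb1
      have : b = τ⁻¹ * (τ * b * τ⁻¹) * τ := by group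
      rw [this, h]; group
    · left; exact h
    · right; exact h

theorem SplitData.act_pp {σ a b : G} (D : SplitData P σ a b) {τ : G}
    (h1 : τ * a * τ⁻¹ = a) (h2 : τ * b * τ⁻¹ = b) : ∀ x ∈ P, τ * x * τ⁻¹ = x := by
  intro x hx
  obtain ⟨i, hi, j, hj, rfl⟩ := D.hspan x hx
  calc τ * (a ^ i * b ^ j) * τ⁻¹ = (τ * a * τ⁻¹) ^ i * (τ * b * τ⁻¹) ^ j := by
        rw [conj_pow, conj_pow]; group
    _ = a ^ i * b ^ j := by rw [h1, h2]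

theorem SplitData.act_mm {σ a b : G} (D : SplitData P σ a b)
    (hab : ∀ x ∈ P, ∀ y ∈ P, x * y = y * x) {τ : G}
    (h1 : τ * a * τ⁻¹ = a⁻¹) (h2 : τ * b * τ⁻¹ = b⁻¹) : ∀ x ∈ P, τ * x * τ⁻¹ = x⁻¹ := by
  intro x hx
  obtain ⟨i, hi, j, hj, rfl⟩ := D.hspan x hx
  have hai : a ^ i ∈ P := P.pow_mem D.ha i
  have hbj : b ^ j ∈ P := P.pow_mem D.hb j
  calc τ * (a ^ i * b ^ j) * τ⁻¹ = (τ * a * τ⁻¹) ^ i * (τ * b * τ⁻¹) ^ j := by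
        rw [conj_pow, conj_pow]; group
    _ = (a ^ i)⁻¹ * (b ^ j)⁻¹ := by rw [h1, h2, inv_pow, inv_pow]
    _ = (a ^ i * b ^ j)⁻¹ := by
        rw [mul_inv_rev]; exact hab _ (P.inv_mem hai) _ (P.inv_mem hbj)

theorem exists_splitData [Finite G]
    (hab : ∀ x ∈ P, ∀ y ∈ P, x * y = y * x)
    (hnorm : ∀ g ∈ N, ∀ x ∈ P, g * x * g⁻¹ ∈ P)
    (hcard : Nat.card P = 9) {σ : G} (hσ : σ ∈ N) (hσ2 : σ * σ = 1) :
    (∀ x ∈ P, σ * x * σ⁻¹ = x) ∨ (∀ x ∈ P, σ * x * σ⁻¹ = x⁻¹) ∨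
    ∃ a b, SplitData P σ a b := by
  rcases invol_trichotomy hab hnorm hcard hσ hσ2 with h | h | h
  · exact Or.inl h
  · exact Or.inr (Or.inl h)
  · obtain ⟨a, ha, b, hb, h1, h2, h3, h4, h5, h6, h7⟩ := h
    exact Or.inr (Or.inr ⟨a, b, ⟨ha, hb, h1, h2, h3, h4, h5, h6, h7⟩⟩)

end Cfsg.Agent.Lib.Helper9.M11Local
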