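import Mathlib
import Cfsg.Agent.Lib.Helper9.M11LocalB

namespace Cfsg.Agent.Lib.Helper9.M11Local

open Subgroup

variable {G : Type*} [Group G] {P N S : Subgroup G}

theorem pow_four_of_card (hS4 : Nat.card S = 4) : ∀ x ∈ S, x ^ 4 = 1 := by
  intro x hx
  have h := pow_card_eq_one' (x := (⟨x, hx⟩ : S))
  rw [hS4] at h
  have := congrArg Subtype.val h
  simpa using this

theorem eq_one_of_mem_both (hP9 : ∀ x ∈ P, x ^ 9 = 1) (hS4 : ∀ x ∈ S, x ^ 4 = 1) {s : G}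
    (hs : s ∈ S) (hsP : s ∈ P) : s = 1 := by
  have h9 := hP9 s hsP
  have h4 := hS4 s hs
  have e : s ^ 9 = (s ^ 4) ^ 2 * s := by rw [← pow_mul, ← pow_succ]
  rw [e, h4] at h9
  simpa using h9

theorem exists_mem_not_mem_finset [Finite G] (hS4 : Nat.card S = 4) (F : Finset G)
    (hF : F.card < 4) : ∃ s ∈ S, s ∉ F := by
  have h : (F : Set G).ncard < (S : Set G).ncard := by
    rw [Set.ncard_coe_finset]
    have : (S : Set G).ncard = Nat.card S := rfl
    rw [this, hS4]; exact hF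
  obtain ⟨e, he, he'⟩ := Set.exists_mem_notMem_of_ncard_lt_ncard h
  exact ⟨e, he, by simpa using he'⟩

section main

variable [Finite G]
  (hab : ∀ x ∈ P, ∀ y ∈ P, x * y = y * x)
  (hnorm : ∀ g ∈ N, ∀ x ∈ P, g * x * g⁻¹ ∈ P)
  (hfaith : ∀ g ∈ N, (∀ x ∈ P, g * x * g⁻¹ = x) → g ∈ P)
  (hcard : Nat.card P = 9)
  (hSN : S ≤ N) (hS4 : Nat.card S = 4)

include hab hnorm hfaith hcard hSN hS4

/-- cyclic case: the square of a generator inverts `P` -/
theorem cyclic_inverts {n : G} (hn : n ∈ S) (hn4 : orderOf n = 4) :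
    ∀ x ∈ P, (n * n) * x * (n * n)⁻¹ = x⁻¹ := by
  have hP9 := pow_nine_of_card hcard
  have hS4' := pow_four_of_card hS4
  have hzS : n * n ∈ S := S.mul_mem hn hn
  have hz2 : (n * n) * (n * n) = 1 := by
    have := hS4' n hn
    rw [← this]
    simp only [pow_succ, pow_zero, one_mul, mul_assoc]
  have hz1 : n * n ≠ 1 := by
    intro h
    have : orderOf n ∣ 2 := orderOf_dvd_of_pow_eq_one (by rw [pow_two]; exact h)
    rw [hn4] at this
    omega
  rcases exists_splitData hab hnorm hcard (hSN hzS) hz2 with h | h | ⟨a, b, D⟩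
  · exfalso
    exact hz1 (eq_one_of_mem_both hP9 hS4' hzS (hfaith _ (hSN hzS) h))
  · exact h
  · exfalso
    have hs := (D.signs hP9 hab hnorm (hSN hn) (by group : n * (n * n) = (n * n) * n)).2
    have hzb : (n * n) * b * (n * n)⁻¹ = b := by
      have e : (n * n) * b * (n * n)⁻¹ = n * (n * b * n⁻¹) * n⁻¹ := by group
      rw [e]
      rcases hs with h | h
      · rw [h, h]
      · rw [h]
        have : n * b⁻¹ * n⁻¹ = (n * b * n⁻¹)⁻¹ := by group
        rw [this, h, inv_inv]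
    apply D.hb1
    apply eq_one_of_eq_inv hP9 D.hb
    rw [← D.hfb]
    exact hzb.symm

/-- Klein case: some involution of `S` inverts `P` -/
theorem klein_inverts (hS2 : ∀ s ∈ S, s * s = 1) :
    ∃ z ∈ S, z ≠ 1 ∧ ∀ x ∈ P, z * x * z⁻¹ = x⁻¹ := by
  classical
  have hP9 := pow_nine_of_card hcard
  have hS4' := pow_four_of_card hS4
  obtain ⟨z1, hz1S, hz1⟩ := exists_mem_not_mem_finset hS4 ({1} : Finset G) (by simp)
  obtain ⟨z2, hz2S, hz2⟩ := exists_mem_not_mem_finset hS4 ({1, z1} : Finset G)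
    (lt_of_le_of_lt Finset.card_le_two (by norm_num))
  simp only [Finset.mem_singleton] at hz1
  simp only [Finset.mem_insert, Finset.mem_singleton, not_or] at hz2
  obtain ⟨hz21, hz2z1⟩ := hz2
  have hinv : ∀ s ∈ S, s⁻¹ = s := fun s hs => inv_eq_of_mul_eq_one_right (hS2 s hs)
  have hcomm : z2 * z1 = z1 * z2 := by
    have h := hS2 (z2 * z1) (S.mul_mem hz2S hz1S)
    have h' : z2 * z1 = (z2 * z1)⁻¹ := (hinv _ (S.mul_mem hz2S hz1S)).symm
    rw [h', mul_inv_rev, hinv z1 hz1S, hinv z2 hz2S]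
  have hz21ne : z2 * z1 ≠ 1 := by
    intro h
    apply hz2z1
    have := eq_inv_of_mul_eq_one_left h
    rw [this, hinv z1 hz1S]
  rcases exists_splitData hab hnorm hcard (hSN hz1S) (hS2 z1 hz1S) with h | h | ⟨a, b, D⟩
  · exfalso
    exact hz1 (eq_one_of_mem_both hP9 hS4' hz1S (hfaith _ (hSN hz1S) h))
  · exact ⟨z1, hz1S, hz1, h⟩
  · have hs := D.signs hP9 hab hnorm (hSN hz2S) hcomm
    have e1 : ∀ w : G, (z2 * z1) * w * (z2 * z1)⁻¹ = z2 * (z1 * w * z1⁻¹) * z2⁻¹ := by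
      intro w; group
    have einv : ∀ w : G, z2 * w⁻¹ * z2⁻¹ = (z2 * w * z2⁻¹)⁻¹ := by intro w; group
    rcases hs with ⟨ha | ha, hb | hb⟩
    · exfalso
      exact hz21 (eq_one_of_mem_both hP9 hS4' hz2S (hfaith _ (hSN hz2S) (D.act_pp ha hb)))
    · exfalso
      have h1 : (z2 * z1) * a * (z2 * z1)⁻¹ = a := by rw [e1, D.hfa, ha]
      have h2 : (z2 * z1) * b * (z2 * z1)⁻¹ = b := by rw [e1, D.hfb, einv, hb, inv_inv]
      have hm := S.mul_mem hz2S hz1S
      exact hz21ne (eq_one_of_mem_both hP9 hS4' hm (hfaith _ (hSN hm) (D.act_pp h1 h2)))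
    · have h1 : (z2 * z1) * a * (z2 * z1)⁻¹ = a⁻¹ := by rw [e1, D.hfa, ha]
      have h2 : (z2 * z1) * b * (z2 * z1)⁻¹ = b⁻¹ := by rw [e1, D.hfb, einv, hb]
      exact ⟨z2 * z1, S.mul_mem hz2S hz1S, hz21ne, D.act_mm hab h1 h2⟩
    · exact ⟨z2, hz2S, hz21, D.act_mm hab ha hb⟩

end main

end Cfsg.Agent.Lib.Helper9.M11Local
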