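import Mathlib
import Cfsg.Agent.Lib.Helper9.M11LocalC

namespace Cfsg.Agent.Lib.Helper9.M11Local

open Subgroup

variable {G : Type*} [Group G] {P N S : Subgroup G}

theorem exists_mem_not_mem_finset' [Finite G] {k : ℕ} (hS4 : Nat.card S = k) (F : Finset G)
    (hF : F.card < k) : ∃ s ∈ S, s ∉ F := by
  have h : (F : Set G).ncard < (S : Set G).ncard := by
    rw [Set.ncard_coe_finset]
    have : (S : Set G).ncard = Nat.card S := rfl
    rw [this, hS4]; exact hF
  obtain ⟨e, he, he'⟩ := Set.exists_mem_notMem_of_ncard_lt_ncard h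
  exact ⟨e, he, by simpa using he'⟩

section main

variable [Finite G]
  (hab : ∀ x ∈ P, ∀ y ∈ P, x * y = y * x)
  (hnorm : ∀ g ∈ N, ∀ x ∈ P, g * x * g⁻¹ ∈ P)
  (hfaith : ∀ g ∈ N, (∀ x ∈ P, g * x * g⁻¹ = x) → g ∈ P)
  (hcard : Nat.card P = 9)
  (hSN : S ≤ N) (hS4 : Nat.card S = 4)
  (hPN : P ≤ N) (hPS : ∀ g ∈ N, ∃ p ∈ P, ∃ s ∈ S, g = p * s)
  (hfus : ∀ x ∈ P, ∀ y ∈ P, IsConj x y → ∃ s ∈ S, s * x * s⁻¹ = y)

include hab hnorm hfaith hcard hSN hS4 hPN hPS hfus

theorem cyclic_case {n : G} (hn : n ∈ S) (hn4 : orderOf n = 4) :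
    ∃ z : G, orderOf z = 2 ∧ (∀ x ∈ P, z * x * z⁻¹ = x⁻¹) ∧ (∀ x ∈ P, x ^ 3 = 1) ∧
      (∀ a ∈ P, a ≠ 1 → N ⊓ centralizer ({a} : Set G) = P) ∧
      ∃ a ∈ P, ∃ b ∈ P, a ≠ 1 ∧ b ≠ 1 ∧ ¬ IsConj a b := by
  classical
  have hP9 := pow_nine_of_card hcard
  have hS4' := pow_four_of_card hS4
  have hzinv := cyclic_inverts hab hnorm hfaith hcard hSN hS4 hn hn4
  have hzS : n * n ∈ S := S.mul_mem hn hn
  have hz2 : (n * n) * (n * n) = 1 := by
    have := hS4' n hn
    rw [← this]
    simp only [pow_succ, pow_zero, one_mul, mul_assoc]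
  have hz1 : n * n ≠ 1 := by
    intro h
    have : orderOf n ∣ 2 := orderOf_dvd_of_pow_eq_one (by rw [pow_two]; exact h)
    rw [hn4] at this
    omega
  have hSz : S = zpowers n := by
    symm
    apply Subgroup.eq_of_le_of_card_ge (zpowers_le.2 hn)
    rw [Nat.card_zpowers, hn4, hS4]
  have hSel : ∀ s ∈ S, s = 1 ∨ s = n ∨ s = n * n ∨ s = n * n * n := by
    intro s hs
    rw [hSz, mem_zpowers_iff_mem_range_orderOf, hn4] at hs
    simp only [Finset.mem_image, Finset.mem_range] at hs
    obtain ⟨i, hi, rfl⟩ := hs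
    interval_cases i <;> simp [pow_succ]
  -- an element of `S` centralising a nontrivial `a ∈ P` is trivial
  have hcent : ∀ s ∈ S, ∀ a ∈ P, a ≠ 1 → s * a * s⁻¹ = a → s = 1 := by
    intro s hs a ha ha1 hsa
    by_contra hs1
    have hza : (n * n) * a * (n * n)⁻¹ = a := by
      have hss : (s * s) * a * (s * s)⁻¹ = a := by
        have : (s * s) * a * (s * s)⁻¹ = s * (s * a * s⁻¹) * s⁻¹ := by group
        rw [this, hsa, hsa]
      rcases hSel s hs with h | h | h | h
      · exact absurd h hs1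
      · rw [h] at hss; exact hss
      · rw [h] at hsa; exact hsa
      · have e : s * s = n * n := by
          rw [h]
          have h4 := hS4' n hn
          calc n * n * n * (n * n * n) = n ^ 4 * (n * n) := by
                simp only [pow_succ, pow_zero, one_mul, mul_assoc]
            _ = n * n := by rw [h4, one_mul]
        rw [e] at hss; exact hss
    apply ha1
    apply eq_one_of_eq_inv hP9 ha
    rw [← hzinv a ha]
    exact hza.symm
  refine ⟨n * n, orderOf_eq_prime (by rw [pow_two]; exact hz2) hz1, hzinv, ?_, ?_, ?_⟩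
  · -- exponent 3
    by_contra hcon
    push Not at hcon
    obtain ⟨x, hx, hx3⟩ := hcon
    have hx1 : x ≠ 1 := by rintro rfl; simp at hx3
    have hox : orderOf x = 9 := by
      rcases orderOf_three_or_nine hP9 hx hx1 with h | h
      · exfalso; apply hx3; rw [← h]; exact pow_orderOf_eq_one x
      · exact h
    have heq : zpowers x = P := by
      apply Subgroup.eq_of_le_of_card_ge (zpowers_le.2 hx)
      rw [Nat.card_zpowers, hox, hcard]
    have hnx : n * x * n⁻¹ ∈ zpowers x := by rw [heq]; exact hnorm n (hSN hn) x hx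
    rw [mem_zpowers_iff_mem_range_orderOf, hox] at hnx
    simp only [Finset.mem_image, Finset.mem_range] at hnx
    obtain ⟨k, hk, hkx⟩ := hnx
    have h1 : (n * n) * x * (n * n)⁻¹ = x ^ (k * k) := by
      have : (n * n) * x * (n * n)⁻¹ = n * (n * x * n⁻¹) * n⁻¹ := by group
      rw [this, ← hkx, ← conj_pow, ← hkx, ← pow_mul]
    rw [hzinv x hx] at h1
    have h2 : x ^ (k * k + 1) = 1 := by
      rw [pow_succ, ← h1]; simp
    have h3 : 9 ∣ k * k + 1 := by rw [← hox]; exact orderOf_dvd_of_pow_eq_one h2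
    interval_cases k <;> omega
  · -- centralisers
    intro a ha ha1
    apply le_antisymm
    · intro g hg
      obtain ⟨hgN, hgc⟩ := Subgroup.mem_inf.1 hg
      rw [mem_centralizer_iff] at hgc
      have hga : a * g = g * a := hgc a rfl
      obtain ⟨p, hp, s, hs, rfl⟩ := hPS g hgN
      have hsa : s * a * s⁻¹ = a := by
        have h1 : p * (a * s) = p * (s * a) := by
          calc p * (a * s) = (p * a) * s := by group
            _ = (a * p) * s := by rw [hab a ha p hp]
            _ = a * (p * s) := by group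
            _ = p * s * a := hga
            _ = p * (s * a) := by group
        have h2 := mul_left_cancel h1
        rw [← h2]; group
      rw [hcent s hs a ha ha1 hsa, mul_one]
      exact hp
    · intro x hx
      refine Subgroup.mem_inf.2 ⟨hPN hx, ?_⟩
      rw [mem_centralizer_iff]
      rintro y rfl
      exact hab y ha x hx
  · -- two non-conjugate elements
    obtain ⟨a, ha, ha1⟩ := exists_mem_not_mem_finset' hcard ({1} : Finset G) (by simp)
    simp only [Finset.mem_singleton] at ha1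
    obtain ⟨b, hb, hbF⟩ := exists_mem_not_mem_finset' hcard
      ({1, a, n * a * n⁻¹, (n * n) * a * (n * n)⁻¹, (n * n * n) * a * (n * n * n)⁻¹} : Finset G)
      (lt_of_le_of_lt Finset.card_le_five (by norm_num))
    simp only [Finset.mem_insert, Finset.mem_singleton, not_or] at hbF
    obtain ⟨hb1, hb2, hb3, hb4, hb5⟩ := hbF
    refine ⟨a, ha, b, hb, ha1, hb1, ?_⟩
    intro hc
    obtain ⟨s, hs, hsab⟩ := hfus a ha b hb hc
    rcases hSel s hs with h | h | h | h
    · apply hb2; rw [← hsab, h]; simp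
    · apply hb3; rw [← hsab, h]
    · apply hb4; rw [← hsab, h]
    · apply hb5; rw [← hsab, h]

omit hPN hPS in
theorem klein_case (hS2 : ∀ s ∈ S, s * s = 1) :
    ∃ a ∈ P, ∃ b ∈ P, ∃ c ∈ P, ∃ d e : G, a ≠ 1 ∧ b ≠ 1 ∧ c ≠ 1 ∧ ¬ IsConj a b ∧ ¬ IsConj a c ∧
      ¬ IsConj b c ∧ orderOf d = 2 ∧ orderOf e = 2 ∧ Commute d a ∧ Commute e c := by
  classical
  have hP9 := pow_nine_of_card hcard
  have hS4' := pow_four_of_card hS4
  obtain ⟨z, hzS, hz1, hzinv⟩ := klein_inverts hab hnorm hfaith hcard hSN hS4 hS2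
  obtain ⟨d, hdS, hd⟩ := exists_mem_not_mem_finset hS4 ({1, z} : Finset G)
    (lt_of_le_of_lt Finset.card_le_two (by norm_num))
  simp only [Finset.mem_insert, Finset.mem_singleton, not_or] at hd
  obtain ⟨hd1, hdz⟩ := hd
  have hinv : ∀ s ∈ S, s⁻¹ = s := fun s hs => inv_eq_of_mul_eq_one_right (hS2 s hs)
  have hcommS : ∀ s ∈ S, ∀ t ∈ S, s * t = t * s := by
    intro s hs t ht
    have h' : s * t = (s * t)⁻¹ := (hinv _ (S.mul_mem hs ht)).symm
    rw [h', mul_inv_rev, hinv s hs, hinv t ht]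
  have heS : d * z ∈ S := S.mul_mem hdS hzS
  have he1 : d * z ≠ 1 := by
    intro h
    apply hdz
    have := eq_inv_of_mul_eq_one_left h
    rw [this, hinv z hzS]
  have e1 : ∀ w : G, (d * z) * w * (d * z)⁻¹ = d * (z * w * z⁻¹) * d⁻¹ := by
    intro w; group
  have einv : ∀ w : G, d * w⁻¹ * d⁻¹ = (d * w * d⁻¹)⁻¹ := by intro w; group
  rcases exists_splitData hab hnorm hcard (hSN hdS) (hS2 d hdS) with h | h | ⟨a, c, D⟩
  · exfalso
    exact hd1 (eq_one_of_mem_both hP9 hS4' hdS (hfaith _ (hSN hdS) h))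
  · exfalso
    have hfix : ∀ x ∈ P, (d * z) * x * (d * z)⁻¹ = x := by
      intro x hx
      rw [e1, hzinv x hx, einv, h x hx, inv_inv]
    exact he1 (eq_one_of_mem_both hP9 hS4' heS (hfaith _ (hSN heS) hfix))
  · have hdisj : ∀ w ∈ P, d * w * d⁻¹ = w → d * w * d⁻¹ = w⁻¹ → w = 1 := by
      intro w hw h1 h2
      exact eq_one_of_eq_inv hP9 hw (h1.symm.trans h2)
    have hac : a ≠ c := by
      intro h
      apply D.ha1
      apply hdisj a D.ha D.hfa
      have := D.hfb
      rw [← h] at this; exact this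
    have hac' : a ≠ c⁻¹ := by
      intro h
      apply D.ha1
      apply hdisj a D.ha D.hfa
      rw [h, einv, D.hfb]
    have ha2 : a * a = a⁻¹ := by
      apply eq_inv_of_mul_eq_one_left
      have := D.ha3
      rw [← this]; simp only [pow_succ, pow_zero, one_mul, mul_assoc]
    have hc2 : c * c = c⁻¹ := by
      apply eq_inv_of_mul_eq_one_left
      have := D.hb3
      rw [← this]; simp only [pow_succ, pow_zero, one_mul, mul_assoc]
    have horb : ∀ s ∈ S, (s * a * s⁻¹ = a ∨ s * a * s⁻¹ = a⁻¹) ∧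
        (s * c * s⁻¹ = c ∨ s * c * s⁻¹ = c⁻¹) :=
      fun s hs => D.signs hP9 hab hnorm (hSN hs) (hcommS s hs d hdS)
    have hb1 : a * c ≠ 1 := by
      intro h
      apply hac'
      exact eq_inv_of_mul_eq_one_left h
    refine ⟨a, D.ha, a * c, P.mul_mem D.ha D.hb, c, D.hb, d, d * z, D.ha1, hb1, D.hb1,
      ?_, ?_, ?_, ?_, ?_, ?_, ?_⟩
    · intro hc
      obtain ⟨s, hs, hsab⟩ := hfus a D.ha (a * c) (P.mul_mem D.ha D.hb) hc
      rcases (horb s hs).1 with h | h
      · rw [h] at hsab
        apply D.hb1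
        have := mul_left_cancel (a := a) (b := 1) (c := c) (by rw [mul_one]; exact hsab)
        exact this.symm
      · rw [h] at hsab
        -- a⁻¹ = a * c → c = a⁻¹ * a⁻¹ = a
        apply hac
        have h1 : c = a⁻¹ * a⁻¹ := by
          calc c = a⁻¹ * (a * c) := by group
            _ = a⁻¹ * a⁻¹ := by rw [← hsab]
        rw [h1, ← mul_inv_rev, ha2, inv_inv]
    · intro hc
      obtain ⟨s, hs, hsab⟩ := hfus a D.ha c D.hb hc
      rcases (horb s hs).1 with h | h
      · rw [h] at hsab; exact hac hsab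
      · rw [h] at hsab
        apply hac'
        rw [← hsab, inv_inv]
    · intro hc
      obtain ⟨s, hs, hsab⟩ := hfus c D.hb (a * c) (P.mul_mem D.ha D.hb) hc.symm
      rcases (horb s hs).2 with h | h
      · rw [h] at hsab
        apply D.ha1
        have := mul_right_cancel (a := 1) (b := c) (c := a) (by rw [one_mul]; exact hsab)
        exact this.symm
      · rw [h] at hsab
        -- c⁻¹ = a * c → a = c⁻¹ * c⁻¹ = c
        apply hac
        have h1 : a = c⁻¹ * c⁻¹ := by
          calc a = (a * c) * c⁻¹ := by group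
            _ = c⁻¹ * c⁻¹ := by rw [← hsab]
        rw [h1, ← mul_inv_rev, hc2, inv_inv]
    · exact orderOf_eq_prime (by rw [pow_two]; exact hS2 d hdS) hd1
    · exact orderOf_eq_prime (by rw [pow_two]; exact hS2 _ heS) he1
    · show d * a = a * d
      have := D.hfa
      calc d * a = (d * a * d⁻¹) * d := by group
        _ = a * d := by rw [this]
    · show (d * z) * c = c * (d * z)
      have h1 : (d * z) * c * (d * z)⁻¹ = c := by
        rw [e1, hzinv c D.hb, einv, D.hfb, inv_inv]
      calc (d * z) * c = ((d * z) * c * (d * z)⁻¹) * (d * z) := by group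
        _ = c * (d * z) := by rw [h1]

end main

end Cfsg.Agent.Lib.Helper9.M11Local
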