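import Mathlib
import Cfsg.Agent.Lib.Helper9.M11LocalD

namespace Cfsg.Agent.Lib.Helper9.M11Local

open Subgroup

variable {G : Type*} [Group G] [Finite G]

/-- FO-B of the S0434 farm-out: local structure of `N(P)` of order 36 with `P` a self-centralising
Sylow 3-subgroup of order 9. -/
theorem local_structure (P : Sylow 3 G) (hP : Nat.card (P : Subgroup G) = 9)
    (hN : Nat.card (normalizer ((P : Subgroup G) : Set G)) = 36)
    (hC : centralizer ((P : Subgroup G) : Set G) = (P : Subgroup G)) :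
    (∃ z : G, orderOf z = 2 ∧ (∀ x ∈ (P : Subgroup G), z * x * z⁻¹ = x⁻¹) ∧
      (∀ x ∈ (P : Subgroup G), x ^ 3 = 1) ∧
      (∀ a ∈ (P : Subgroup G), a ≠ 1 →
        normalizer ((P : Subgroup G) : Set G) ⊓ centralizer ({a} : Set G) = (P : Subgroup G)) ∧
      ∃ a ∈ (P : Subgroup G), ∃ b ∈ (P : Subgroup G), a ≠ 1 ∧ b ≠ 1 ∧ ¬ IsConj a b) ∨
    (∃ a ∈ (P : Subgroup G), ∃ b ∈ (P : Subgroup G), ∃ c ∈ (P : Subgroup G), ∃ d e : G,
      a ≠ 1 ∧ b ≠ 1 ∧ c ≠ 1 ∧ ¬ IsConj a b ∧ ¬ IsConj a c ∧ ¬ IsConj b c ∧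
      orderOf d = 2 ∧ orderOf e = 2 ∧ Commute d a ∧ Commute e c) := by
  classical
  set N : Subgroup G := normalizer ((P : Subgroup G) : Set G) with hNdef
  have hab : ∀ x ∈ (P : Subgroup G), ∀ y ∈ (P : Subgroup G), x * y = y * x := by
    intro x hx y hy
    have h : y ∈ centralizer ((P : Subgroup G) : Set G) := by rw [hC]; exact hy
    rw [mem_centralizer_iff] at h
    exact h x hx
  have hPN : (P : Subgroup G) ≤ N := le_normalizer
  have hnorm : ∀ g ∈ N, ∀ x ∈ (P : Subgroup G), g * x * g⁻¹ ∈ (P : Subgroup G) := by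
    intro g hg x hx
    exact (mem_normalizer_iff.1 hg x).1 hx
  have hfaith : ∀ g ∈ N, (∀ x ∈ (P : Subgroup G), g * x * g⁻¹ = x) → g ∈ (P : Subgroup G) := by
    intro g _ h
    rw [← hC, mem_centralizer_iff]
    intro x hx
    have := h x hx
    calc x * g = (g * x * g⁻¹) * g := by rw [this]
      _ = g * x := by group
  obtain ⟨K, hK⟩ := Sylow.exists_subgroup_card_pow_prime (G := N) 2 (n := 2)
    (by rw [hN]; norm_num)
  set S : Subgroup G := K.map N.subtype with hSdef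
  have hS4 : Nat.card S = 4 := by
    rw [hSdef, Subgroup.card_map_of_injective (subtype_injective _)]
    simpa using hK
  have hSN : S ≤ N := map_subtype_le K
  have hcompl : IsComplement' ((P : Subgroup G).subgroupOf N) K := by
    apply isComplement'_of_coprime
    · rw [Nat.card_congr (subgroupOfEquivOfLe hPN).toEquiv, hP, hK, hN]; norm_num
    · rw [Nat.card_congr (subgroupOfEquivOfLe hPN).toEquiv, hP, hK]; norm_num
  have hPS : ∀ g ∈ N, ∃ p ∈ (P : Subgroup G), ∃ s ∈ S, g = p * s := by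
    intro g hg
    obtain ⟨⟨u, v⟩, huv, -⟩ := hcompl.existsUnique (⟨g, hg⟩ : N)
    have hu : (u : N) ∈ (P : Subgroup G).subgroupOf N := u.2
    have hv : (v : N) ∈ K := v.2
    refine ⟨((u : N) : G), mem_subgroupOf.1 hu, ((v : N) : G), ⟨(v : N), hv, rfl⟩, ?_⟩
    have := congrArg Subtype.val huv
    simpa using this.symm
  have hfus : ∀ x ∈ (P : Subgroup G), ∀ y ∈ (P : Subgroup G), IsConj x y →
      ∃ s ∈ S, s * x * s⁻¹ = y := by
    intro x hx y hy hc
    rw [isConj_iff] at hc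
    obtain ⟨g, hg⟩ := hc
    have : IsMulCommutative P := ⟨⟨fun a b => Subtype.ext (hab a a.2 b b.2)⟩⟩
    obtain ⟨n, hn, hnx⟩ := P.conj_eq_normalizer_conj_of_mem x g⁻¹ hx
      (by rw [inv_inv, hg]; exact hy)
    have hn' : n⁻¹ ∈ N := N.inv_mem hn
    obtain ⟨p, hp, s, hs, hps⟩ := hPS n⁻¹ hn'
    refine ⟨s, hs, ?_⟩
    have hsx : s * x * s⁻¹ ∈ (P : Subgroup G) := hnorm s (hSN hs) x hx
    calc s * x * s⁻¹ = (p * (s * x * s⁻¹)) * p⁻¹ := by rw [hab p hp _ hsx]; group
      _ = (p * s) * x * (p * s)⁻¹ := by group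
      _ = n⁻¹ * x * n := by rw [← hps, inv_inv]
      _ = y := by rw [← hnx, inv_inv, hg]
  by_cases h4 : ∃ n ∈ S, orderOf n = 4
  · obtain ⟨n, hn, hn4⟩ := h4
    exact Or.inl (cyclic_case hab hnorm hfaith hP hSN hS4 hPN hPS hfus hn hn4)
  · push Not at h4
    have hS2 : ∀ s ∈ S, s * s = 1 := by
      intro s hs
      have h := pow_four_of_card hS4 s hs
      have hd : orderOf s ∣ 2 ^ 2 := orderOf_dvd_of_pow_eq_one (by simpa using h)
      obtain ⟨k, hk, hk2⟩ := (Nat.dvd_prime_pow Nat.prime_two).1 hd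
      have hk' : k ≠ 2 := by
        rintro rfl
        exact h4 s hs (by simpa using hk2)
      have hd2 : orderOf s ∣ 2 := by
        rw [hk2]
        interval_cases k
        · simp
        · simp
        · exact absurd rfl hk'
      have := orderOf_dvd_iff_pow_eq_one.1 hd2
      rw [pow_two] at this; exact this
    exact Or.inr (klein_case hab hnorm hfaith hP hSN hS4 hfus hS2)

end Cfsg.Agent.Lib.Helper9.M11Local
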