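import Mathlib

/-!
# S2140, piece F1 (helper9): a Fisher-type inequality

If `G` is 2-transitive on a finite set `X` and `H ≤ G` is not transitive on `X`, then `|X| ≤ [G : H]`:
the indicator vectors of the translates `g • O` of a proper non-empty `H`-orbit `O` (one for each coset of `H`)
span `ℚ^X`.
-/

set_option autoImplicit false

namespace Cfsg.Agent.Lib.Helper11.MinDeg

open MulAction

section fisher

variable {G X : Type*} [Group G] [MulAction G X]

/-- the number of `g` with `x, y ∈ g • O`, where `O` is given by a predicate on `X` -/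
noncomputable def fisherLam [Fintype G] (O : X → Prop) [DecidablePred O] (x y : X) : ℕ :=
  (Finset.univ.filter (fun g : G => O (g⁻¹ • x) ∧ O (g⁻¹ • y))).card

theorem fisherLam_smul [Fintype G] (O : X → Prop) [DecidablePred O] (k : G) (x y : X) :
    fisherLam (G := G) O (k • x) (k • y) = fisherLam (G := G) O x y := by
  unfold fisherLam
  symm
  apply Finset.card_bij (fun g _ => k * g)
  · intro g hg
    simp only [Finset.mem_filter, Finset.mem_univ, true_and] at hg ⊢
    rw [mul_inv_rev, mul_smul, mul_smul, inv_smul_smul, inv_smul_smul]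
    exact hg
  · intro g _ g' _ h
    exact mul_left_cancel h
  · intro g hg
    simp only [Finset.mem_filter, Finset.mem_univ, true_and] at hg
    refine ⟨k⁻¹ * g, ?_, by rw [mul_inv_cancel_left]⟩
    simp only [Finset.mem_filter, Finset.mem_univ, true_and]
    rw [mul_inv_rev, inv_inv, mul_smul, mul_smul]
    exact hg

/-- indicator vector of `g • O` -/
noncomputable def fisherVec (O : X → Prop) [DecidablePred O] (g : G) : X → ℚ :=
  fun x => if O (g⁻¹ • x) then 1 else 0

theorem fisherVec_mul (H : Subgroup G) (O : X → Prop) [DecidablePred O]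
    (hO : ∀ h ∈ H, ∀ x, O (h • x) ↔ O x) (g h : G) (hh : h ∈ H) :
    fisherVec O (g * h) = fisherVec O g := by
  funext x
  unfold fisherVec
  have e : O ((g * h)⁻¹ • x) ↔ O (g⁻¹ • x) := by
    rw [mul_inv_rev, mul_smul, hO h⁻¹ (H.inv_mem hh)]
  simp only [e]

theorem fisher_sum_apply [Fintype G] [DecidableEq X] (O : X → Prop) [DecidablePred O] (x y : X) :
    (∑ g : G, if O (g⁻¹ • x) then fisherVec O g else 0) y = (fisherLam (G := G) O x y : ℚ) := by
  rw [Finset.sum_apply]
  unfold fisherLam
  rw [Finset.card_filter, Nat.cast_sum]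
  apply Finset.sum_congr rfl
  intro g _
  unfold fisherVec
  by_cases h1 : O (g⁻¹ • x) <;> by_cases h2 : O (g⁻¹ • y) <;> simp [h1, h2]

theorem fisher_sum_all_apply [Fintype G] (O : X → Prop) [DecidablePred O] (y : X) :
    (∑ g : G, fisherVec O g) y = (fisherLam (G := G) O y y : ℚ) := by
  rw [Finset.sum_apply]
  unfold fisherLam
  rw [Finset.card_filter, Nat.cast_sum]
  apply Finset.sum_congr rfl
  intro g _
  unfold fisherVec
  by_cases h2 : O (g⁻¹ • y) <;> simp [h2]

end fisher

/-! ### F1: Fisher-type inequality (generic) -/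
theorem fisher {G X : Type*} [Group G] [Finite G] [Finite X] [MulAction G X]
    [MulAction.IsMultiplyPretransitive G X 2] (H : Subgroup G)
    (hH : ¬ MulAction.IsPretransitive H X) : Nat.card X ≤ H.index := by
  classical
  have : Fintype G := Fintype.ofFinite G
  have : Fintype X := Fintype.ofFinite X
  -- a proper non-empty `H`-orbit
  obtain ⟨a, b, hab⟩ : ∃ a b : X, ∀ h : H, h • a ≠ b := by
    by_contra hc
    push Not at hc
    exact hH ⟨hc⟩
  set O : X → Prop := fun x => ∃ h : H, h • a = x with hOdef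
  have hOa : O a := ⟨1, one_smul _ _⟩
  have hOb : ¬ O b := fun ⟨h, hh⟩ => hab h hh
  have hne : a ≠ b := fun h => hOb (h ▸ hOa)
  have hO : ∀ h ∈ H, ∀ x, O (h • x) ↔ O x := by
    intro h hh x
    constructor
    · rintro ⟨k, hk⟩
      refine ⟨(⟨h, hh⟩ : H)⁻¹ * k, ?_⟩
      rw [mul_smul, hk]
      show (⟨h, hh⟩ : H)⁻¹ • (h • x) = x
      exact inv_smul_smul (⟨h, hh⟩ : H) x
    · rintro ⟨k, hk⟩
      refine ⟨(⟨h, hh⟩ : H) * k, ?_⟩
      rw [mul_smul, hk]
      rfl
  have h2 : ∀ {a b c d : X} (_ : a ≠ b) (_ : c ≠ d), ∃ g : G, g • a = c ∧ g • b = d :=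
    (MulAction.is_two_pretransitive_iff (G := G) (α := X)).1 inferInstance
  have : MulAction.IsPretransitive G X := MulAction.isPretransitive_of_is_two_pretransitive
  -- the two constants
  set R : ℕ := fisherLam (G := G) O a a with hR
  set L : ℕ := fisherLam (G := G) O a b with hL
  have hdiag : ∀ x : X, fisherLam (G := G) O x x = R := by
    intro x
    obtain ⟨k, hk⟩ := MulAction.exists_smul_eq G a x
    rw [← hk, fisherLam_smul]
  have hoff : ∀ x y : X, x ≠ y → fisherLam (G := G) O x y = L := by
    intro x y hxy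
    obtain ⟨k, hk1, hk2⟩ := h2 hne hxy
    rw [← hk1, ← hk2, fisherLam_smul]
  have hLR : L < R := by
    rw [hL, hR]
    unfold fisherLam
    apply Finset.card_lt_card
    rw [Finset.ssubset_iff_of_subset]
    · refine ⟨1, ?_, ?_⟩
      · simp only [Finset.mem_filter, Finset.mem_univ, true_and, inv_one, one_smul]
        exact ⟨hOa, hOa⟩
      · simp only [Finset.mem_filter, Finset.mem_univ, true_and, inv_one, one_smul]
        exact fun h => hOb h.2
    · intro g hg
      simp only [Finset.mem_filter, Finset.mem_univ, true_and] at hg ⊢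
      exact ⟨hg.1, hg.1⟩
  have hRpos : (0 : ℚ) < R := by
    have : 0 < R := lt_of_le_of_lt (Nat.zero_le _) hLR
    exact_mod_cast this
  have hRL : (0 : ℚ) < (R : ℚ) - L := by
    have : (L : ℚ) < R := by exact_mod_cast hLR
    linarith
  -- the vectors, indexed by the cosets
  let ubar : G ⧸ H → (X → ℚ) := Quotient.lift (fisherVec O) (by
    intro g g' hgg'
    have hmem : g⁻¹ * g' ∈ H := QuotientGroup.leftRel_apply.1 hgg'
    have := fisherVec_mul H O hO g (g⁻¹ * g') hmem
    rw [mul_inv_cancel_left] at this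
    exact this.symm)
  have hubar : ∀ g : G, ubar (QuotientGroup.mk g) = fisherVec O g := fun g => rfl
  set S : Submodule ℚ (X → ℚ) := Submodule.span ℚ (Set.range ubar) with hS
  have hmemS : ∀ g : G, fisherVec O g ∈ S := fun g =>
    Submodule.subset_span ⟨QuotientGroup.mk g, hubar g⟩
  have hJ : (∑ g : G, fisherVec O g) ∈ S := Submodule.sum_mem _ (fun g _ => hmemS g)
  have hT : ∀ x : X, (∑ g : G, if O (g⁻¹ • x) then fisherVec O g else 0) ∈ S := by
    intro x
    apply Submodule.sum_mem
    intro g _
    split_ifs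
    · exact hmemS g
    · exact Submodule.zero_mem _
  have hsingle : ∀ x : X, (Pi.single x (1 : ℚ) : X → ℚ) ∈ S := by
    intro x
    have key : (Pi.single x (1 : ℚ) : X → ℚ) =
        ((R : ℚ) - L)⁻¹ • ((∑ g : G, if O (g⁻¹ • x) then fisherVec O g else 0) -
          ((L : ℚ) / R) • (∑ g : G, fisherVec O g)) := by
      funext y
      rw [Pi.smul_apply, Pi.sub_apply, Pi.smul_apply, fisher_sum_apply, fisher_sum_all_apply,
        hdiag y, smul_eq_mul, smul_eq_mul]
      by_cases hyx : y = x
      · subst hyx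
        rw [Pi.single_eq_same, hdiag y]
        field_simp
      · rw [Pi.single_eq_of_ne hyx, hoff x y (Ne.symm hyx)]
        field_simp
        ring
    rw [key]
    exact Submodule.smul_mem _ _ (Submodule.sub_mem _ (hT x) (Submodule.smul_mem _ _ hJ))
  have htop : S = ⊤ := by
    rw [eq_top_iff, ← (Pi.basisFun ℚ X).span_eq, Submodule.span_le]
    rintro _ ⟨x, rfl⟩
    rw [Pi.basisFun_apply]
    exact hsingle x
  have : Fintype (G ⧸ H) := Fintype.ofFinite _
  have hfin := finrank_le_of_span_eq_top (R := ℚ) (v := ubar) htop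
  rw [Module.finrank_pi, ← Nat.card_eq_fintype_card, ← Nat.card_eq_fintype_card] at hfin
  exact hfin

end Cfsg.Agent.Lib.Helper11.MinDeg
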