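import Mathlib
import Cfsg.Prelude.Def_Involutions
import Cfsg.Agent.Lib.Helper9.Isolated
import Cfsg.Agent.Lib.Helper9.Conj

set_option autoImplicit false

/-!
# Strongly embedded subgroups (helper9)
Notation: `H^a` is `H.map (MulAut.conj a).toMonoidHom = a H a⁻¹`.
-/

namespace Cfsg.Agent.Lib.Helper9

variable {G : Type*} [Group G]

section Dihedral

theorem sq_of_orderOf_two {t : G} (h : orderOf t = 2) : t * t = 1 := by
  have := pow_orderOf_eq_one t
  rwa [h, pow_two] at this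

theorem ne_one_of_orderOf_two {t : G} (h : orderOf t = 2) : t ≠ 1 := by
  intro h1; rw [h1, orderOf_one] at h; omega

theorem orderOf_two_of_sq {t : G} (h : t * t = 1) (h1 : t ≠ 1) : orderOf t = 2 :=
  orderOf_eq_prime (by rw [pow_two]; exact h) h1

/-- (D1) if `z t` has even order `2k`, then `(z t)^k` is an involution commuting with `z`, `t`. -/
theorem dihedral_even {z t : G} (hz : z * z = 1) (ht : t * t = 1) {k : ℕ}
    (hk : orderOf (z * t) = 2 * k) (hk0 : 0 < k) :
    orderOf ((z * t) ^ k) = 2 ∧ Commute ((z * t) ^ k) z ∧ Commute ((z * t) ^ k) t := by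
  set r := z * t with hr
  have hw2 : r ^ k * r ^ k = 1 := by
    rw [← pow_add, ← two_mul, ← hk, pow_orderOf_eq_one]
  have hw1 : r ^ k ≠ 1 := by
    intro h
    have := orderOf_dvd_of_pow_eq_one h
    have := Nat.le_of_dvd hk0 this
    omega
  have hinv : (r ^ k)⁻¹ = r ^ k := inv_eq_of_mul_eq_one_left hw2
  have hcz : Commute (r ^ k) z := by
    have h := mul_zpow_of_sq hz ht (k : ℤ)
    rw [zpow_natCast, zpow_neg, zpow_natCast, hinv] at h
    exact h.symm
  refine ⟨orderOf_two_of_sq hw2 hw1, hcz, ?_⟩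
  -- t = z * r
  have htr : t = z * r := by rw [hr, ← mul_assoc, hz, one_mul]
  rw [htr]
  exact hcz.mul_right (Commute.pow_self r k)

/-- (D2) if `z t` has odd order `2k+1`, then `μ = (z t)^k z` is an involution with `μ z μ⁻¹ = t`. -/
theorem dihedral_odd {z t : G} (hz : z * z = 1) (ht : t * t = 1) {k : ℕ}
    (hk : orderOf (z * t) = 2 * k + 1) :
    ((z * t) ^ k * z) * ((z * t) ^ k * z) = 1 ∧
      ((z * t) ^ k * z) * z * ((z * t) ^ k * z)⁻¹ = t := by
  set r := z * t with hr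
  have h1 : z * r ^ k = (r ^ k)⁻¹ * z := by
    have h := mul_zpow_of_sq hz ht (k : ℤ)
    rwa [zpow_natCast, zpow_neg, zpow_natCast] at h
  constructor
  · calc r ^ k * z * (r ^ k * z) = r ^ k * (z * r ^ k) * z := by group
      _ = r ^ k * ((r ^ k)⁻¹ * z) * z := by rw [h1]
      _ = z * z := by group
      _ = 1 := hz
  · have h2 := zpow_conj_left hz ht (k : ℤ)
    rw [zpow_natCast] at h2
    have h3 : (r ^ k * z) * z * (r ^ k * z)⁻¹ = r ^ k * z * (r ^ k)⁻¹ := by
      have hzi : z⁻¹ = z := inv_eq_self_of_sq hz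
      rw [mul_inv_rev, hzi]
      calc r ^ k * z * z * (z * (r ^ k)⁻¹) = r ^ k * (z * z) * z * (r ^ k)⁻¹ := by group
        _ = r ^ k * z * (r ^ k)⁻¹ := by rw [hz, mul_one]
    rw [h3, h2]
    have h4 : r ^ (2 * (k : ℤ)) = r⁻¹ := by
      have : r ^ (2 * (k : ℤ) + 1) = 1 := by
        have := pow_orderOf_eq_one r
        rw [hk] at this
        rw [← this, ← zpow_natCast]; congr 1
      rw [zpow_add, zpow_one] at this
      exact eq_inv_of_mul_eq_one_left this
    rw [h4, hr, mul_inv_rev, inv_eq_self_of_sq hz, inv_eq_self_of_sq ht, mul_assoc, hz, mul_one]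

end Dihedral


section SE

variable [Finite G] {H : Subgroup G}

/-- a subgroup containing an involution has even order -/
theorem even_card_of_mem_orderOf_two {K : Subgroup G} {t : G} (ht : orderOf t = 2) (htK : t ∈ K) :
    Even (Nat.card K) := by
  have h1 : Nat.card (Subgroup.zpowers t) = 2 := by rw [Nat.card_zpowers, ht]
  have h2 : Nat.card (Subgroup.zpowers t) ∣ Nat.card K :=
    Subgroup.card_dvd_of_le (Subgroup.zpowers_le.mpr htK)
  rw [h1] at h2
  exact even_iff_two_dvd.mpr h2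

/-- a subgroup of even order contains an involution -/
theorem exists_orderOf_two_of_even {K : Subgroup G} (h : Even (Nat.card K)) :
    ∃ t ∈ K, orderOf t = 2 := by
  have : Fact (Nat.Prime 2) := ⟨Nat.prime_two⟩
  obtain ⟨⟨t, htK⟩, ht⟩ := exists_prime_orderOf_dvd_card' (G := ↥K) 2 (even_iff_two_dvd.mp h)
  refine ⟨t, htK, ?_⟩
  rw [← ht]
  exact (Subgroup.orderOf_mk t htK).symm

/-- (F1) an involution lies in at most one conjugate of a strongly embedded subgroup -/
theorem se_conj_unique (hH : Cfsg.IsStronglyEmbedded H) {t a b : G} (ht : orderOf t = 2)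
    (hta : t ∈ H.map (MulAut.conj a).toMonoidHom) (htb : t ∈ H.map (MulAut.conj b).toMonoidHom) :
    a⁻¹ * b ∈ H := by
  by_contra hg
  have hodd := hH.2.2 (a⁻¹ * b) hg
  rw [mem_conjMap] at hta htb
  have hs : orderOf (a⁻¹ * t * a) = 2 := by
    have := orderOf_conj_eq a⁻¹ t
    rw [inv_inv] at this
    rw [this, ht]
  have hmem : a⁻¹ * t * a ∈ H ⊓ H.map (MulAut.conj (a⁻¹ * b)).toMonoidHom := by
    refine Subgroup.mem_inf.mpr ⟨hta, ?_⟩
    rw [mem_conjMap]
    have : (a⁻¹ * b)⁻¹ * (a⁻¹ * t * a) * (a⁻¹ * b) = b⁻¹ * t * b := by group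
    rw [this]; exact htb
  have heven := even_card_of_mem_orderOf_two hs hmem
  exact (Nat.not_even_iff_odd.mpr hodd) heven

/-- (F0) the centralizer of an involution of `H^a` lies in `H^a` -/
theorem se_centralizer_le (hH : Cfsg.IsStronglyEmbedded H) {t a : G} (ht : orderOf t = 2)
    (hta : t ∈ H.map (MulAut.conj a).toMonoidHom) :
    Subgroup.centralizer ({t} : Set G) ≤ H.map (MulAut.conj a).toMonoidHom := by
  intro c hc
  rw [Subgroup.mem_centralizer_iff] at hc
  have hct := hc t rfl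
  -- t ∈ H^(c a)
  have h1 : t ∈ H.map (MulAut.conj (c * a)).toMonoidHom := by
    rw [mem_conjMap]
    have : (c * a)⁻¹ * t * (c * a) = a⁻¹ * (c⁻¹ * (t * c)) * a := by group
    rw [this, hct]
    have : a⁻¹ * (c⁻¹ * (c * t)) * a = a⁻¹ * t * a := by group
    rw [this]; exact mem_conjMap.mp hta
  have h2 := se_conj_unique hH ht hta h1
  -- a⁻¹ c a ∈ H
  rw [mem_conjMap]
  have : a⁻¹ * (c * a) = a⁻¹ * c * a := by group
  rwa [this] at h2

/-- (F2) involutions in different conjugates of `H` have a product of odd order -/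
theorem se_odd_orderOf_mul (hH : Cfsg.IsStronglyEmbedded H) {s v a b : G} (hs : orderOf s = 2)
    (hv : orderOf v = 2) (hsa : s ∈ H.map (MulAut.conj a).toMonoidHom)
    (hvb : v ∈ H.map (MulAut.conj b).toMonoidHom) (hab : a⁻¹ * b ∉ H) :
    Odd (orderOf (s * v)) := by
  by_contra hodd
  rw [Nat.not_odd_iff_even] at hodd
  obtain ⟨k, hk⟩ := hodd
  have hk0 : 0 < k := by
    have := orderOf_pos (s * v); omega
  have hk' : orderOf (s * v) = 2 * k := by omega
  obtain ⟨hw, hws, hwv⟩ := dihedral_even (sq_of_orderOf_two hs) (sq_of_orderOf_two hv) hk' hk0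
  have h1 : (s * v) ^ k ∈ H.map (MulAut.conj a).toMonoidHom := by
    apply se_centralizer_le hH hs hsa
    rw [Subgroup.mem_centralizer_iff]
    intro y hy
    rw [Set.mem_singleton_iff] at hy; subst hy
    exact hws.eq.symm
  have h2 : (s * v) ^ k ∈ H.map (MulAut.conj b).toMonoidHom := by
    apply se_centralizer_le hH hv hvb
    rw [Subgroup.mem_centralizer_iff]
    intro y hy
    rw [Set.mem_singleton_iff] at hy; subst hy
    exact hwv.eq.symm
  exact hab (se_conj_unique hH hw h1 h2)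

/-- (F3) every involution lies in a conjugate of a strongly embedded subgroup -/
theorem se_exists_conj_mem (hH : Cfsg.IsStronglyEmbedded H) {t : G} (ht : orderOf t = 2) :
    ∃ a : G, t ∈ H.map (MulAut.conj a).toMonoidHom := by
  obtain ⟨s, hsH, hs⟩ := exists_orderOf_two_of_even hH.2.1
  have hs1 : s ∈ H.map (MulAut.conj (1 : G)).toMonoidHom := by rw [conjMap_one]; exact hsH
  rcases Nat.even_or_odd' (orderOf (s * t)) with ⟨k, hk | hk⟩
  · -- even: t ∈ H
    have hk0 : 0 < k := by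
      have := orderOf_pos (s * t); omega
    obtain ⟨hw, hws, hwt⟩ := dihedral_even (sq_of_orderOf_two hs) (sq_of_orderOf_two ht) hk hk0
    have h1 : (s * t) ^ k ∈ H.map (MulAut.conj (1 : G)).toMonoidHom := by
      apply se_centralizer_le hH hs hs1
      rw [Subgroup.mem_centralizer_iff]
      intro y hy
      rw [Set.mem_singleton_iff] at hy; subst hy
      exact hws.eq.symm
    refine ⟨1, se_centralizer_le hH hw h1 ?_⟩
    rw [Subgroup.mem_centralizer_iff]
    intro y hy
    rw [Set.mem_singleton_iff] at hy; subst hy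
    exact hwt.eq
  · obtain ⟨-, hμ⟩ := dihedral_odd (sq_of_orderOf_two hs) (sq_of_orderOf_two ht) hk
    refine ⟨(s * t) ^ k * s, ?_⟩
    have := conj_mem_conjMap (g := (s * t) ^ k * s) hsH
    rwa [hμ] at this

end SE


section SE2

variable [Finite G] {H : Subgroup G}

/-- for involutions `s ∈ H^a`, `v ∈ H^b` in different conjugates there is an involution `μ`
with `μ s μ⁻¹ = v`; it satisfies `μ a ∈ b H` and `μ b ∈ a H`. -/
theorem se_exists_swap (hH : Cfsg.IsStronglyEmbedded H) {s v a b : G} (hs : orderOf s = 2)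
    (hv : orderOf v = 2) (hsa : s ∈ H.map (MulAut.conj a).toMonoidHom)
    (hvb : v ∈ H.map (MulAut.conj b).toMonoidHom) (hab : a⁻¹ * b ∉ H) :
    ∃ μ : G, μ * μ = 1 ∧ μ * s * μ⁻¹ = v ∧ b⁻¹ * (μ * a) ∈ H ∧ a⁻¹ * (μ * b) ∈ H := by
  obtain ⟨k, hk⟩ := se_odd_orderOf_mul hH hs hv hsa hvb hab
  obtain ⟨hμ2, hμ⟩ := dihedral_odd (sq_of_orderOf_two hs) (sq_of_orderOf_two hv) hk
  set μ := (s * v) ^ k * s with hμdef
  have hμinv : μ⁻¹ = μ := inv_eq_self_of_sq hμ2
  refine ⟨μ, hμ2, hμ, ?_, ?_⟩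
  · -- v ∈ H^(μ a) and v ∈ H^b
    have h1 : v ∈ H.map (MulAut.conj (μ * a)).toMonoidHom := by
      rw [conjMap_mul, ← hμ]
      exact conj_mem_conjMap hsa
    have := se_conj_unique hH hv hvb h1
    exact this
  · -- s ∈ H^(μ b) and s ∈ H^a
    have hμ' : μ * v * μ⁻¹ = s := by
      rw [← hμ, hμinv]
      calc μ * (μ * s * μ) * μ = (μ * μ) * s * (μ * μ) := by group
        _ = s := by rw [hμ2, one_mul, mul_one]
    have h1 : s ∈ H.map (MulAut.conj (μ * b)).toMonoidHom := by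
      rw [conjMap_mul, ← hμ']
      exact conj_mem_conjMap hvb
    exact se_conj_unique hH hs hsa h1

/-- **S1225 (a)**: any two involutions of `H` are conjugate under `H ∩ H^u`. -/
theorem se_conj_in_D (hH : Cfsg.IsStronglyEmbedded H) {u s t : G} (hu : orderOf u = 2)
    (huH : u ∉ H) (hs : orderOf s = 2) (hsH : s ∈ H) (ht : orderOf t = 2) (htH : t ∈ H) :
    ∃ d ∈ (H ⊓ H.map (MulAut.conj u).toMonoidHom), d * s * d⁻¹ = t := by
  have hs1 : s ∈ H.map (MulAut.conj (1 : G)).toMonoidHom := by rw [conjMap_one]; exact hsH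
  have ht1 : t ∈ H.map (MulAut.conj (1 : G)).toMonoidHom := by rw [conjMap_one]; exact htH
  have hv : orderOf (u * s * u⁻¹) = 2 := by rw [orderOf_conj_eq, hs]
  have hvu : u * s * u⁻¹ ∈ H.map (MulAut.conj u).toMonoidHom := conj_mem_conjMap hsH
  have h1u : (1 : G)⁻¹ * u ∉ H := by simpa using huH
  obtain ⟨ws, hws2, hws, hws1, hws3⟩ := se_exists_swap hH hs hv hs1 hvu h1u
  obtain ⟨wt, hwt2, hwt, hwt1, hwt3⟩ := se_exists_swap hH ht hv ht1 hvu h1u
  simp only [mul_one, inv_one, one_mul] at hws1 hws3 hwt1 hwt3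
  have hwsinv : ws⁻¹ = ws := inv_eq_self_of_sq hws2
  have hwtinv : wt⁻¹ = wt := inv_eq_self_of_sq hwt2
  refine ⟨wt⁻¹ * ws, Subgroup.mem_inf.mpr ⟨?_, ?_⟩, ?_⟩
  · -- (u⁻¹ wt)⁻¹ (u⁻¹ ws) ∈ H
    have : wt⁻¹ * ws = (u⁻¹ * wt)⁻¹ * (u⁻¹ * ws) := by group
    rw [this]
    exact H.mul_mem (H.inv_mem hwt1) hws1
  · rw [mem_conjMap]
    have : u⁻¹ * (wt⁻¹ * ws) * u = (wt * u)⁻¹ * (ws * u) := by group
    rw [this]
    exact H.mul_mem (H.inv_mem hwt3) hws3
  · calc wt⁻¹ * ws * s * (wt⁻¹ * ws)⁻¹ = wt⁻¹ * (ws * s * ws⁻¹) * wt := by group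
      _ = wt⁻¹ * (wt * t * wt⁻¹) * wt := by rw [hws, hwt]
      _ = t := by group

/-- **S1225 (b)**: if some involution lies outside the strongly embedded `H`, all involutions
of `G` are conjugate. -/
theorem se_all_involutions_conj (hH : Cfsg.IsStronglyEmbedded H) {u : G} (hu : orderOf u = 2)
    (huH : u ∉ H) {a b : G} (ha : orderOf a = 2) (hb : orderOf b = 2) : IsConj a b := by
  obtain ⟨x, hax⟩ := se_exists_conj_mem hH ha
  obtain ⟨y, hby⟩ := se_exists_conj_mem hH hb
  have key : ∀ {a b x y : G}, orderOf a = 2 → orderOf b = 2 →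
      a ∈ H.map (MulAut.conj x).toMonoidHom → b ∈ H.map (MulAut.conj y).toMonoidHom →
      x⁻¹ * y ∉ H → IsConj a b := by
    intro a b x y ha hb hax hby hxy
    obtain ⟨μ, -, hμ, -, -⟩ := se_exists_swap hH ha hb hax hby hxy
    exact isConj_iff.mpr ⟨μ, hμ⟩
  by_cases hxy : x⁻¹ * y ∈ H
  · obtain ⟨s₀, hs₀H, hs₀⟩ := exists_orderOf_two_of_even hH.2.1
    have hc : orderOf ((x * u) * s₀ * (x * u)⁻¹) = 2 := by rw [orderOf_conj_eq, hs₀]
    have hcm : (x * u) * s₀ * (x * u)⁻¹ ∈ H.map (MulAut.conj (x * u)).toMonoidHom :=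
      conj_mem_conjMap hs₀H
    have h1 : x⁻¹ * (x * u) ∉ H := by
      have : x⁻¹ * (x * u) = u := by group
      rw [this]; exact huH
    have h2 : y⁻¹ * (x * u) ∉ H := by
      intro h
      apply huH
      have : u = (x⁻¹ * y) * (y⁻¹ * (x * u)) := by group
      rw [this]
      exact H.mul_mem hxy h
    exact (key ha hc hax hcm h1).trans (key hb hc hby hcm h2).symm
  · exact key ha hb hax hby hxy

end SE2

end Cfsg.Agent.Lib.Helper9
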