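import Mathlib
import Cfsg.Prelude.Def_Involutions
import Cfsg.Agent.Lib.Helper9.StronglyEmbedded

set_option autoImplicit false

/-!
# Groups whose involution centralizers are elementary abelian 2-groups (helper9)
-/

namespace Cfsg.Agent.Lib.Helper9

variable {G : Type*} [Group G] [Finite G]

/-- the hypothesis: all involution centralizers are elementary abelian 2-groups -/
def InvCentElemAb (G : Type*) [Group G] : Prop :=
  ∀ t : G, orderOf t = 2 → IsMulCommutative (Subgroup.centralizer ({t} : Set G)) ∧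
    ∀ c ∈ Subgroup.centralizer ({t} : Set G), c ^ 2 = 1

omit [Finite G] in
theorem isPGroup_two_of_sq {K : Subgroup G} (h : ∀ c ∈ K, c ^ 2 = 1) : IsPGroup 2 K := by
  intro g
  refine ⟨1, ?_⟩
  rw [pow_one]
  exact Subtype.ext (by simpa using h g.1 g.2)

omit [Finite G] in
theorem sylow_ne_bot_of_not_cyclic (T : Sylow 2 G) (hnc : ¬ IsCyclic (T : Subgroup G)) :
    (T : Subgroup G) ≠ ⊥ := by
  intro h
  apply hnc
  rw [h]
  infer_instance

/-- there is a central involution in a nontrivial Sylow 2-subgroup -/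
theorem exists_central_involution (T : Sylow 2 G) (hT : (T : Subgroup G) ≠ ⊥) :
    ∃ z ∈ (T : Subgroup G), orderOf z = 2 ∧ ∀ x ∈ (T : Subgroup G), x * z = z * x := by
  have : Fact (Nat.Prime 2) := ⟨Nat.prime_two⟩
  have hnt : Nontrivial ↥(T : Subgroup G) := (Subgroup.nontrivial_iff_ne_bot _).mpr hT
  have hcn : Nontrivial (Subgroup.center ↥(T : Subgroup G)) := T.2.center_nontrivial
  have hcp : IsPGroup 2 (Subgroup.center ↥(T : Subgroup G)) := T.2.to_subgroup _
  obtain ⟨k, hk⟩ := IsPGroup.iff_card.mp hcp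
  have hk0 : k ≠ 0 := by
    intro h
    rw [h, pow_zero] at hk
    have := Finite.one_lt_card_iff_nontrivial.mpr hcn
    omega
  have heven : Even (Nat.card (Subgroup.center ↥(T : Subgroup G))) := by
    rw [hk]; exact (Nat.even_pow' hk0).mpr even_two
  obtain ⟨t, htc, ht⟩ := exists_orderOf_two_of_even heven
  refine ⟨(t : G), t.2, ?_, ?_⟩
  · rw [Subgroup.orderOf_coe]; exact ht
  · intro x hx
    have := (Subgroup.mem_center_iff.mp htc) ⟨x, hx⟩
    exact congrArg Subtype.val this

variable (hC : InvCentElemAb G) (T : Sylow 2 G)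

include hC in
/-- an involution whose centralizer contains `T` has centralizer `T` -/
theorem centralizer_eq_sylow_of_le {t : G} (ht : orderOf t = 2)
    (hle : (T : Subgroup G) ≤ Subgroup.centralizer ({t} : Set G)) :
    Subgroup.centralizer ({t} : Set G) = (T : Subgroup G) :=
  T.is_maximal' (isPGroup_two_of_sq (hC t ht).2) hle

include hC in
/-- `T` is elementary abelian -/
theorem sylow_elemAb (hT : (T : Subgroup G) ≠ ⊥) :
    (∀ x ∈ (T : Subgroup G), ∀ y ∈ (T : Subgroup G), x * y = y * x) ∧
      ∀ x ∈ (T : Subgroup G), x ^ 2 = 1 := by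
  obtain ⟨z, hzT, hz, hzc⟩ := exists_central_involution T hT
  have hle : (T : Subgroup G) ≤ Subgroup.centralizer ({z} : Set G) := by
    intro x hx
    rw [Subgroup.mem_centralizer_iff]
    intro y hy
    rw [Set.mem_singleton_iff] at hy; subst hy
    exact (hzc x hx).symm
  have heq := centralizer_eq_sylow_of_le hC T hz hle
  obtain ⟨hcomm, hsq⟩ := hC z hz
  constructor
  · intro x hx y hy
    have hx' : x ∈ Subgroup.centralizer ({z} : Set G) := by rw [heq]; exact hx
    have hy' : y ∈ Subgroup.centralizer ({z} : Set G) := by rw [heq]; exact hy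
    have := hcomm.is_comm.comm (⟨x, hx'⟩ : ↥(Subgroup.centralizer ({z} : Set G))) ⟨y, hy'⟩
    exact congrArg Subtype.val this
  · intro x hx
    exact hsq x (by rw [heq]; exact hx)

include hC in
/-- `C(t) = T` for every involution `t ∈ T` -/
theorem centralizer_eq_sylow (hT : (T : Subgroup G) ≠ ⊥) {t : G} (ht : orderOf t = 2)
    (htT : t ∈ (T : Subgroup G)) : Subgroup.centralizer ({t} : Set G) = (T : Subgroup G) := by
  apply centralizer_eq_sylow_of_le hC T ht
  intro x hx
  rw [Subgroup.mem_centralizer_iff]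
  intro y hy
  rw [Set.mem_singleton_iff] at hy; subst hy
  exact (sylow_elemAb hC T hT).1 y htT x hx

omit [Finite G] in
/-- every 2-element of `N(T)` lies in `T` -/
theorem mem_sylow_of_mem_normalizer {t : G} (ht : orderOf t = 2)
    (htN : t ∈ Subgroup.normalizer ((T : Subgroup G) : Set G)) : t ∈ (T : Subgroup G) := by
  have : Fact (Nat.Prime 2) := ⟨Nat.prime_two⟩
  have h1 : IsPGroup 2 (Subgroup.zpowers t) := by
    apply isPGroup_two_of_sq
    intro c hc
    obtain ⟨k, rfl⟩ := Subgroup.mem_zpowers_iff.mp hc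
    have h2 : t ^ 2 = 1 := by rw [← ht]; exact pow_orderOf_eq_one t
    rw [← zpow_natCast, ← zpow_mul, mul_comm, zpow_mul, zpow_natCast, h2, one_zpow]
  have h2 : IsPGroup 2 (Subgroup.zpowers t ⊔ (T : Subgroup G) : Subgroup G) :=
    IsPGroup.to_sup_of_normal_right' h1 T.2 (Subgroup.zpowers_le.mpr htN)
  have h3 := T.is_maximal' h2 le_sup_right
  rw [← h3]
  exact Subgroup.mem_sup_left (Subgroup.mem_zpowers t)


section SE

variable {G : Type*} [Group G] [Finite G]

/-- **S1226**: `N_G(T)` is strongly embedded. -/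
theorem normalizer_sylow_stronglyEmbedded (hC : InvCentElemAb G) (T : Sylow 2 G)
    (hT : (T : Subgroup G) ≠ ⊥) (hnn : ¬ (T : Subgroup G).Normal) :
    Cfsg.IsStronglyEmbedded (Subgroup.normalizer ((T : Subgroup G) : Set G)) := by
  obtain ⟨z, hzT, hz, -⟩ := exists_central_involution T hT
  refine ⟨?_, ?_, ?_⟩
  · intro h
    exact hnn (Subgroup.normalizer_eq_top_iff.mp h)
  · exact even_card_of_mem_orderOf_two hz (Subgroup.le_normalizer hzT)
  · intro g hg
    by_contra hodd
    rw [Nat.not_odd_iff_even] at hodd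
    obtain ⟨t, htm, ht⟩ := exists_orderOf_two_of_even hodd
    rw [Subgroup.mem_inf] at htm
    have htT : t ∈ (T : Subgroup G) := mem_sylow_of_mem_normalizer T ht htm.1
    have ht' : orderOf (g⁻¹ * t * g) = 2 := by
      have := orderOf_conj_eq g⁻¹ t
      rw [inv_inv] at this
      rw [this, ht]
    have ht'T : g⁻¹ * t * g ∈ (T : Subgroup G) :=
      mem_sylow_of_mem_normalizer T ht' (mem_conjMap.mp htm.2)
    have h1 := centralizer_eq_sylow hC T hT ht htT
    have h2 := centralizer_eq_sylow hC T hT ht' ht'T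
    apply hg
    apply mem_normalizer_of_conjMap_eq_self
    apply conjMap_eq_of_le
    rintro _ ⟨x, hx, rfl⟩
    simp only [MulEquiv.coe_toMonoidHom, MulAut.conj_apply]
    have hx' : x ∈ Subgroup.centralizer ({g⁻¹ * t * g} : Set G) := by rw [h2]; exact hx
    rw [← h1, Subgroup.mem_centralizer_iff]
    intro y hy
    rw [Set.mem_singleton_iff] at hy; subst hy
    have := (Subgroup.mem_centralizer_iff.mp hx') _ rfl
    calc y * (g * x * g⁻¹) = g * ((g⁻¹ * y * g) * x) * g⁻¹ := by group
      _ = g * (x * (g⁻¹ * y * g)) * g⁻¹ := by rw [this]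
      _ = g * x * g⁻¹ * y := by group

end SE

end Cfsg.Agent.Lib.Helper9
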