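import Mathlib
import Cfsg.Prelude.Def_Involutions
import Cfsg.Agent.Lib.Helper9.Isolated
import Cfsg.Agent.Lib.Helper9.StronglyEmbedded
import Cfsg.Agent.Lib.Helper9.BSW

set_option autoImplicit false

/-!
# Groups whose involution centralizers are elementary abelian 2-groups, part 2 (helper9)
-/

namespace Cfsg.Agent.Lib.Helper9

section Inverts

variable {G : Type*} [Group G]

/-- An involution normalizing a finite subgroup `D` with `C_D(u) = 1` inverts `D`. -/
theorem inverts_of_fixedPointFree {D : Subgroup G} [Finite D] {u : G} (hu : u * u = 1)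
    (hnorm : ∀ d ∈ D, u * d * u⁻¹ ∈ D) (hfix : ∀ d ∈ D, u * d * u⁻¹ = d → d = 1) :
    ∀ d ∈ D, u * d * u⁻¹ = d⁻¹ := by
  have huinv : u⁻¹ = u := inv_eq_self_of_sq hu
  let f : D → D := fun d => ⟨d.1⁻¹ * (u * d.1 * u⁻¹), D.mul_mem (D.inv_mem d.2) (hnorm d.1 d.2)⟩
  have hinj : Function.Injective f := by
    intro d e h
    have h' : d.1⁻¹ * (u * d.1 * u⁻¹) = e.1⁻¹ * (u * e.1 * u⁻¹) := congrArg Subtype.val h
    have h1 : u * (e.1 * d.1⁻¹) * u⁻¹ = e.1 * d.1⁻¹ := by
      have : u * (e.1 * d.1⁻¹) * u⁻¹ = (u * e.1 * u⁻¹) * (u * d.1 * u⁻¹)⁻¹ := by group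
      rw [this]
      have h2 : u * e.1 * u⁻¹ = e.1 * (d.1⁻¹ * (u * d.1 * u⁻¹)) := by rw [h']; group
      rw [h2]; group
    have h3 := hfix _ (D.mul_mem e.2 (D.inv_mem d.2)) h1
    apply Subtype.ext
    have : e.1 = d.1 := by
      have := mul_inv_eq_one.mp h3
      exact this
    exact this.symm
  have hsurj : Function.Surjective f := Finite.injective_iff_surjective.mp hinj
  intro d hd
  obtain ⟨e, he⟩ := hsurj ⟨d, hd⟩
  have he' : e.1⁻¹ * (u * e.1 * u⁻¹) = d := congrArg Subtype.val he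
  rw [← he']
  calc u * (e.1⁻¹ * (u * e.1 * u⁻¹)) * u⁻¹ = (u * e.1 * u⁻¹)⁻¹ * ((u * u) * e.1 * (u * u)⁻¹) := by
        group
    _ = (e.1⁻¹ * (u * e.1 * u⁻¹))⁻¹ := by rw [hu]; group

end Inverts

section BSW

variable {G : Type*} [Group G] [Finite G]

/-- **S1227**. -/
theorem bsw_normalizer_structure (hC : InvCentElemAb G) (T : Sylow 2 G)
    (hnc : ¬ IsCyclic (T : Subgroup G)) (hnn : ¬ (T : Subgroup G).Normal) {u : G}
    (hu : orderOf u = 2) (huH : u ∉ Subgroup.normalizer ((T : Subgroup G) : Set G)) :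
    (∀ d ∈ Subgroup.normalizer ((T : Subgroup G) : Set G) ⊓
        (Subgroup.normalizer ((T : Subgroup G) : Set G)).map (MulAut.conj u).toMonoidHom,
      u * d * u⁻¹ = d⁻¹) ∧
    Nat.card (Subgroup.normalizer ((T : Subgroup G) : Set G)) = Nat.card T * (Nat.card T - 1) ∧
    Subgroup.IsComplement'
      ((Subgroup.normalizer ((T : Subgroup G) : Set G) ⊓
        (Subgroup.normalizer ((T : Subgroup G) : Set G)).map (MulAut.conj u).toMonoidHom).subgroupOf
          (Subgroup.normalizer ((T : Subgroup G) : Set G)))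
      ((T : Subgroup G).subgroupOf (Subgroup.normalizer ((T : Subgroup G) : Set G))) := by
  classical
  set H := Subgroup.normalizer ((T : Subgroup G) : Set G) with hH
  set D := H ⊓ H.map (MulAut.conj u).toMonoidHom with hD
  have hT : (T : Subgroup G) ≠ ⊥ := sylow_ne_bot_of_not_cyclic T hnc
  have hSE := normalizer_sylow_stronglyEmbedded hC T hT hnn
  have hDodd : Odd (Nat.card D) := hSE.2.2 u huH
  have huu : u * u = 1 := sq_of_orderOf_two hu
  have huinv : u⁻¹ = u := inv_eq_self_of_sq huu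
  have hTH : (T : Subgroup G) ≤ H := Subgroup.le_normalizer
  have hDH : D ≤ H := inf_le_left
  -- u normalizes D
  have hnorm : ∀ d ∈ D, u * d * u⁻¹ ∈ D := by
    intro d hd
    have hd1 : d ∈ H := hd.1
    have hd2 : d ∈ H.map (MulAut.conj u).toMonoidHom := hd.2
    refine Subgroup.mem_inf.mpr ⟨?_, conj_mem_conjMap hd1⟩
    rw [mem_conjMap] at hd2
    have : u * d * u⁻¹ = u⁻¹ * d * u := by rw [huinv]
    rw [this]
    exact hd2
  -- no 2-elements in D
  have h2D : ∀ d ∈ D, d ^ 2 = 1 → d = 1 := by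
    intro d hd h2
    have h1 : orderOf d ∣ 2 := orderOf_dvd_of_pow_eq_one h2
    have h3 : orderOf d ∣ Nat.card D := by
      have := orderOf_dvd_natCard (⟨d, hd⟩ : D)
      rwa [Subgroup.orderOf_mk] at this
    have h4 : Nat.Coprime (Nat.card D) 2 := Nat.coprime_two_right.mpr hDodd
    have h5 : orderOf d ∣ Nat.gcd (Nat.card D) 2 := Nat.dvd_gcd h3 h1
    rw [h4, Nat.dvd_one, orderOf_eq_one_iff] at h5
    exact h5
  have hfix : ∀ d ∈ D, u * d * u⁻¹ = d → d = 1 := by
    intro d hd h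
    apply h2D d hd
    apply (hC u hu).2
    rw [Subgroup.mem_centralizer_iff]
    intro y hy
    rw [Set.mem_singleton_iff] at hy; subst hy
    calc y * d = (y * d * y⁻¹) * y := by group
      _ = d * y := by rw [h]
  have hinv := inverts_of_fixedPointFree huu hnorm hfix
  -- base involution
  obtain ⟨t₀, ht₀T, ht₀, -⟩ := exists_central_involution T hT
  have hCt₀ := centralizer_eq_sylow hC T hT ht₀ ht₀T
  have hTsq := (sylow_elemAb hC T hT).2
  have hDT : ∀ x ∈ D, x ∈ (T : Subgroup G) → x = 1 := fun x hxD hxT => h2D x hxD (hTsq x hxT)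
  -- every h ∈ H is d * t
  have hfact : ∀ h ∈ H, ∃ d ∈ D, d⁻¹ * h ∈ (T : Subgroup G) := by
    intro h hh
    have h1 : h * t₀ * h⁻¹ ∈ (T : Subgroup G) := (Subgroup.mem_normalizer_iff.mp hh t₀).mp ht₀T
    have h2 : orderOf (h * t₀ * h⁻¹) = 2 := by rw [orderOf_conj_eq, ht₀]
    obtain ⟨d, hdD, hd⟩ := se_conj_in_D hSE hu huH ht₀ (hTH ht₀T) h2 (hTH h1)
    refine ⟨d, hdD, ?_⟩
    rw [← hCt₀]
    exact mem_centralizer_singleton_of_conj_eq hd.symm
  have hcompl : Subgroup.IsComplement' (D.subgroupOf H) ((T : Subgroup G).subgroupOf H) := by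
    apply Subgroup.isComplement'_of_disjoint_and_mul_eq_univ
    · rw [Subgroup.disjoint_def]
      intro x hxD hxT
      rw [Subgroup.mem_subgroupOf] at hxD hxT
      exact Subtype.ext (hDT x.1 hxD hxT)
    · rw [Set.eq_univ_iff_forall]
      intro h
      obtain ⟨d, hdD, hd⟩ := hfact h.1 h.2
      refine ⟨⟨d, hDH hdD⟩, ?_, ⟨d⁻¹ * h.1, H.mul_mem (H.inv_mem (hDH hdD)) h.2⟩, ?_, ?_⟩
      · rw [SetLike.mem_coe, Subgroup.mem_subgroupOf]; exact hdD
      · rw [SetLike.mem_coe, Subgroup.mem_subgroupOf]; exact hd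
      · apply Subtype.ext
        show d * (d⁻¹ * h.1) = h.1
        group
  refine ⟨hinv, ?_, hcompl⟩
  -- cardinalities
  have hcardD : Nat.card D = Nat.card T - 1 := by
    let f : D → {x : (T : Subgroup G) // x ≠ 1} := fun d =>
      ⟨⟨d.1 * t₀ * d.1⁻¹, (Subgroup.mem_normalizer_iff.mp (hDH d.2) t₀).mp ht₀T⟩, by
        intro h
        have h1 : d.1 * t₀ * d.1⁻¹ = 1 := congrArg Subtype.val h
        have h2 : t₀ = 1 := by
          have : t₀ = d.1⁻¹ * (d.1 * t₀ * d.1⁻¹) * d.1 := by group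
          rw [this, h1]; group
        exact ne_one_of_orderOf_two ht₀ h2⟩
    have hf : Function.Bijective f := by
      constructor
      · intro d e h
        have h1 : d.1 * t₀ * d.1⁻¹ = e.1 * t₀ * e.1⁻¹ := by
          have := congrArg (fun x => (x.1 : G)) h
          exact this
        have h2 : e.1⁻¹ * d.1 ∈ (T : Subgroup G) := by
          rw [← hCt₀]; exact mem_centralizer_singleton_of_conj_eq h1
        have h3 := hDT _ (D.mul_mem (D.inv_mem e.2) d.2) h2
        apply Subtype.ext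
        have : d.1 = e.1 := by
          have := inv_mul_eq_one.mp h3
          exact this.symm
        exact this
      · rintro ⟨⟨x, hxT⟩, hx1⟩
        have hx1' : x ≠ 1 := fun h => hx1 (Subtype.ext h)
        have hx2 : orderOf x = 2 := orderOf_two_of_sq (by rw [← pow_two]; exact hTsq x hxT) hx1'
        obtain ⟨d, hdD, hd⟩ := se_conj_in_D hSE hu huH ht₀ (hTH ht₀T) hx2 (hTH hxT)
        exact ⟨⟨d, hdD⟩, Subtype.ext (Subtype.ext hd)⟩
    rw [Nat.card_congr (Equiv.ofBijective f hf)]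
    have : Fintype (T : Subgroup G) := Fintype.ofFinite _
    rw [Nat.card_eq_fintype_card, Nat.card_eq_fintype_card, Fintype.card_subtype_compl,
      Fintype.card_subtype_eq]
  have h1 := hcompl.card_mul_card
  rw [Nat.card_congr (Subgroup.subgroupOfEquivOfLe hDH).toEquiv,
    Nat.card_congr (Subgroup.subgroupOfEquivOfLe hTH).toEquiv, hcardD] at h1
  rw [← h1, mul_comm]

end BSW

end Cfsg.Agent.Lib.Helper9
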