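import Cfsg.Agent.Lib.Helper9.TwoCon2
import Cfsg.Agent.Lib.Helper1.Nilpotent

/-!
# Helper9 library TwoCon3: a Sylow `2`-subgroup normalizes no odd-order subgroup

If all involution centralizers of `G` are `Char2` and the Sylow `2`-subgroup `S` has an abelian
normal subgroup `A` with at least `8` elements of order dividing `2`, then `S` normalizes no
nontrivial subgroup of odd order.
-/

set_option autoImplicit false

namespace Cfsg.Agent.Lib.Helper9.TwoCon

open Cfsg

variable {G : Type*} [Group G] [Finite G]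

/-- if `C_S(a)` has index at most `2` in `S` and `C_G(a)` is `Char2`, then `C_X(a) = 1` for
every `S`-invariant subgroup `X` of odd order -/
theorem inf_centralizer_eq_bot (S : Sylow 2 G) {X : Subgroup G} (hXodd : Odd (Nat.card X))
    (hSX : (S : Subgroup G) ≤ Subgroup.normalizer (X : Set G)) {a : G}
    (hC : Char2 (Subgroup.centralizer ({a} : Set G)))
    (hidx : ((S : Subgroup G) ⊓ Subgroup.centralizer ({a} : Set G)).relIndex (S : Subgroup G) ∣ 2) :
    X ⊓ Subgroup.centralizer ({a} : Set G) = ⊥ := by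
  have : Fact (Nat.Prime 2) := ⟨Nat.prime_two⟩
  set C := Subgroup.centralizer ({a} : Set G) with hCdef
  set S1 := (S : Subgroup G) ⊓ C with hS1
  have hS1p : IsPGroup 2 S1 := S.isPGroup'.to_le inf_le_left
  have hS1C : S1 ≤ C := inf_le_right
  have hS1S : S1 ≤ (S : Subgroup G) := inf_le_left
  have hT1 : IsPGroup 2 (S1 ⊔ O2 C : Subgroup G) :=
    IsPGroup.to_sup_of_normal_right' hS1p (O2_isPGroup C) (hS1C.trans (le_normalizer_O2 C))
  have hcardT1 : Nat.card (S1 ⊔ O2 C : Subgroup G) ≤ Nat.card (S : Subgroup G) := by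
    obtain ⟨T, hT⟩ := hT1.exists_le_sylow
    calc Nat.card (S1 ⊔ O2 C : Subgroup G) ≤ Nat.card (T : Subgroup G) := Subgroup.card_le_of_le hT
      _ = Nat.card (S : Subgroup G) := by rw [T.card_eq_multiplicity, S.card_eq_multiplicity]
  have hrel : S1.relIndex (S1 ⊔ O2 C) ∣ 2 := by
    have h1 : Nat.card S1 * S1.relIndex (S1 ⊔ O2 C) = Nat.card (S1 ⊔ O2 C : Subgroup G) := by
      have := Subgroup.relIndex_mul_relIndex (H := ⊥) (K := S1) (L := S1 ⊔ O2 C) bot_le le_sup_left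
      rwa [Subgroup.relIndex_bot_left, Subgroup.relIndex_bot_left] at this
    have h2 : Nat.card S1 * S1.relIndex (S : Subgroup G) = Nat.card (S : Subgroup G) := by
      have := Subgroup.relIndex_mul_relIndex (H := ⊥) (K := S1) (L := (S : Subgroup G)) bot_le hS1S
      rwa [Subgroup.relIndex_bot_left, Subgroup.relIndex_bot_left] at this
    have hpos : 0 < Nat.card S1 := Nat.card_pos
    have h3 : S1.relIndex (S1 ⊔ O2 C) ≤ S1.relIndex (S : Subgroup G) := by
      apply Nat.le_of_mul_le_mul_left _ hpos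
      rw [h1, h2]; exact hcardT1
    have h4 : S1.relIndex (S : Subgroup G) ≤ 2 := Nat.le_of_dvd two_pos hidx
    have h5 : S1.relIndex (S1 ⊔ O2 C) ≠ 0 := by
      intro h
      rw [h, mul_zero] at h1
      exact (Nat.card_pos (α := ↥(S1 ⊔ O2 C : Subgroup G))).ne' h1.symm
    have h6 : S1.relIndex (S1 ⊔ O2 C) ≤ 2 := h3.trans h4
    interval_cases h7 : S1.relIndex (S1 ⊔ O2 C)
    · exact absurd rfl h5
    · exact one_dvd 2
    · exact dvd_rfl
  obtain ⟨s0, -, hs0⟩ := Subgroup.relIindex_dvd_two_iff'.mp hrel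
  rw [eq_bot_iff]
  intro y hy
  obtain ⟨hyX, hyC⟩ := Subgroup.mem_inf.mp hy
  have hyodd : Odd (orderOf y) := Odd.of_dvd_nat hXodd (Subgroup.orderOf_dvd_natCard X hyX)
  rw [Subgroup.mem_bot]
  -- `y` centralizes `Q ∩ S1`
  have hcomm1 : ∀ q ∈ O2 C, q ∈ S1 → y * q = q * y := by
    intro q hq hqS
    have hcX : q * y * q⁻¹ * y⁻¹ ∈ X := by
      apply X.mul_mem _ (X.inv_mem hyX)
      exact (Subgroup.mem_normalizer_iff.mp (hSX (hS1S hqS)) y).mp hyX
    have hcQ : q * y * q⁻¹ * y⁻¹ ∈ O2 C := by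
      have e : q * y * q⁻¹ * y⁻¹ = q * (y * q⁻¹ * y⁻¹) := by group
      rw [e]
      exact (O2 C).mul_mem hq (conj_mem_O2 hyC ((O2 C).inv_mem hq))
    have hc1 := eq_one_of_odd_of_mem_pgroup (O2_isPGroup C) hcQ
      (Odd.of_dvd_nat hXodd (Subgroup.orderOf_dvd_natCard X hcX))
    calc y * q = (q * y * q⁻¹ * y⁻¹)⁻¹ * (q * y) := by group
      _ = q * y := by rw [hc1, inv_one, one_mul]
  apply eq_one_of_odd_of_centralizes_O2 hC hyC hyodd
  intro q hq
  by_cases hqS : q ∈ S1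
  · exact hcomm1 q hq hqS
  · have hq' : y * q * y⁻¹ ∈ O2 C := conj_mem_O2 hyC hq
    have hq'S : y * q * y⁻¹ ∉ S1 := by
      intro h
      apply hqS
      have := hcomm1 _ hq' h
      have e : y * q * y⁻¹ = q := by
        have h2 : y * (y * q * y⁻¹) * y⁻¹ = y * q * y⁻¹ := by rw [this]; group
        have h3 : y * (y * q * y⁻¹) = y * q := by
          calc y * (y * q * y⁻¹) = (y * (y * q * y⁻¹) * y⁻¹) * y := by group
            _ = (y * q * y⁻¹) * y := by rw [h2]
            _ = y * q := by group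
        exact mul_left_cancel h3
      rwa [e] at h
    have h1 := (hs0 q (le_sup_right (a := S1) hq)).resolve_right hqS
    have h2 := (hs0 _ (le_sup_right (a := S1) hq')).resolve_right hq'S
    have hw : q⁻¹ * (y * q * y⁻¹) ∈ S1 := by
      have e : q⁻¹ * (y * q * y⁻¹) = (s0 * q)⁻¹ * (s0 * (y * q * y⁻¹)) := by group
      rw [e]; exact S1.mul_mem (S1.inv_mem h1) h2
    have hwQ : q⁻¹ * (y * q * y⁻¹) ∈ O2 C := (O2 C).mul_mem ((O2 C).inv_mem hq) hq'
    have hwy := hcomm1 _ hwQ hw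
    obtain ⟨j, hj⟩ := (O2_isPGroup C) ⟨_, hwQ⟩
    have hj' : (q⁻¹ * (y * q * y⁻¹)) ^ 2 ^ j = 1 := by simpa using congrArg Subtype.val hj
    have hw1 := eq_one_of_odd_conj (g := y) (u := q) (w := q⁻¹ * (y * q * y⁻¹)) hyodd
      (by group) (by rw [hwy]; group) hj'
    have : y * q * y⁻¹ = q := by
      calc y * q * y⁻¹ = q * (q⁻¹ * (y * q * y⁻¹)) := by group
        _ = q := by rw [hw1, mul_one]
    calc y * q = (y * q * y⁻¹) * y := by group
      _ = q * y := by rw [this]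

/-- an involution normalizing `X` with `C_X(u) = 1` inverts `X` -/
theorem inverts_of_fpf {X : Subgroup G} {u : G} (hu : u * u = 1)
    (huX : u ∈ Subgroup.normalizer (X : Set G))
    (hfix : X ⊓ Subgroup.centralizer ({u} : Set G) = ⊥) : ∀ x ∈ X, u * x * u⁻¹ = x⁻¹ := by
  have huinv : u⁻¹ = u := inv_eq_of_mul_eq_one_left hu
  let f : ↥X → ↥X := fun x =>
    ⟨(x : G)⁻¹ * (u * x * u⁻¹), X.mul_mem (X.inv_mem x.2)
      ((Subgroup.mem_normalizer_iff.mp huX x).mp x.2)⟩
  have hinj : Function.Injective f := by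
    intro x y hxy
    have h1 : (x : G)⁻¹ * (u * x * u⁻¹) = (y : G)⁻¹ * (u * y * u⁻¹) := congrArg Subtype.val hxy
    have h2 : (y : G) * (x : G)⁻¹ ∈ X ⊓ Subgroup.centralizer ({u} : Set G) := by
      refine Subgroup.mem_inf.mpr ⟨X.mul_mem y.2 (X.inv_mem x.2), ?_⟩
      rw [mem_centralizer_singleton]
      have h3 : u * ((y : G) * (x : G)⁻¹) * u⁻¹ = (y : G) * (x : G)⁻¹ := by
        calc u * ((y : G) * (x : G)⁻¹) * u⁻¹
            = (y : G) * ((y : G)⁻¹ * (u * y * u⁻¹)) * (u * x * u⁻¹)⁻¹ := by group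
          _ = (y : G) * ((x : G)⁻¹ * (u * x * u⁻¹)) * (u * x * u⁻¹)⁻¹ := by rw [h1]
          _ = (y : G) * (x : G)⁻¹ := by group
      calc u * ((y : G) * (x : G)⁻¹) = (u * ((y : G) * (x : G)⁻¹) * u⁻¹) * u := by group
        _ = (y : G) * (x : G)⁻¹ * u := by rw [h3]
    rw [hfix, Subgroup.mem_bot] at h2
    have h4 : (y : G) = x := by
      calc (y : G) = ((y : G) * (x : G)⁻¹) * x := by group
        _ = x := by rw [h2, one_mul]
    exact Subtype.ext h4.symm
  have hsurj : Function.Surjective f := Finite.injective_iff_surjective.mp hinj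
  intro w hw
  obtain ⟨x, hx⟩ := hsurj ⟨w, hw⟩
  have hxw : (x : G)⁻¹ * (u * x * u⁻¹) = w := congrArg Subtype.val hx
  rw [← hxw]
  calc u * ((x : G)⁻¹ * (u * x * u⁻¹)) * u⁻¹
      = (u * x * u⁻¹)⁻¹ * ((u * u) * x * (u * u)⁻¹) := by group
    _ = ((x : G)⁻¹ * (u * x * u⁻¹))⁻¹ := by rw [hu]; group

omit [Finite G] in
theorem eq_one_or_eq_of_mem_zpowers {z x : G} (hz : z * z = 1) (hx : x ∈ Subgroup.zpowers z) :
    x = 1 ∨ x = z := by
  obtain ⟨k, rfl⟩ := Subgroup.mem_zpowers_iff.mp hx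
  have h2 : ∀ n : ℕ, z ^ n = 1 ∨ z ^ n = z := by
    intro n
    induction n with
    | zero => left; simp
    | succ n ih =>
      rcases ih with h | h
      · right; rw [pow_succ, h, one_mul]
      · left; rw [pow_succ, h, hz]
  have hzinv : z⁻¹ = z := inv_eq_of_mul_eq_one_left hz
  rcases Int.eq_nat_or_neg k with ⟨n, rfl | rfl⟩
  · rw [zpow_natCast]; exact h2 n
  · rw [zpow_neg, zpow_natCast, ← inv_pow, hzinv]; exact h2 n

omit [Finite G] in
/-- `C_S(a)` has index at most `2` if the `S`-conjugates of `a` are `a` and `a z` -/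
theorem relIndex_centralizer_dvd_two {S : Subgroup G} {z a : G}
    (hzc : ∀ s ∈ S, z * s = s * z) (hz : z * z = 1)
    (h : ∀ s ∈ S, s * a * s⁻¹ = a ∨ s * a * s⁻¹ = a * z) :
    (S ⊓ Subgroup.centralizer ({a} : Set G)).relIndex S ∣ 2 := by
  rw [Subgroup.relIindex_dvd_two_iff']
  have hmem : ∀ s ∈ S, s * a * s⁻¹ = a → s ∈ S ⊓ Subgroup.centralizer ({a} : Set G) := by
    intro s hs hsa
    refine Subgroup.mem_inf.mpr ⟨hs, ?_⟩
    rw [mem_centralizer_singleton]
    calc a * s = (s * a * s⁻¹) * s := by rw [hsa]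
      _ = s * a := by group
  by_cases hall : ∀ s ∈ S, s * a * s⁻¹ = a
  · exact ⟨1, S.one_mem, fun b hb => Or.inr (hmem b hb (hall b hb))⟩
  · push Not at hall
    obtain ⟨s0, hs0, hs0a⟩ := hall
    have hs0a' : s0 * a * s0⁻¹ = a * z := (h s0 hs0).resolve_left hs0a
    refine ⟨s0, hs0, fun b hb => ?_⟩
    rcases h b hb with hb1 | hb1
    · exact Or.inr (hmem b hb hb1)
    · left
      apply hmem _ (S.mul_mem hs0 hb)
      have hzs0 : s0 * z * s0⁻¹ = z := by
        rw [← hzc s0 hs0]; group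
      calc s0 * b * a * (s0 * b)⁻¹ = s0 * (b * a * b⁻¹) * s0⁻¹ := by group
        _ = s0 * (a * z) * s0⁻¹ := by rw [hb1]
        _ = (s0 * a * s0⁻¹) * (s0 * z * s0⁻¹) := by group
        _ = a * z * z := by rw [hs0a', hzs0]
        _ = a := by rw [mul_assoc, hz, mul_one]

end Cfsg.Agent.Lib.Helper9.TwoCon
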