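import Mathlib
import Cfsg.Agent.Lib.Helper28.OTDefs
import Cfsg.Agent.Lib.Helper28.OTExitDefs
import Cfsg.Agent.Lib.Helper22.OTRootB
import Cfsg.Agent.Lib.Helper16.OTRootC

/-!
# S5681 / S5709, EXIT piece X1 (helper9): the elements `1 ⊗ ρ_{k,d}`

Exact signatures of `notes/S5681Exit_helper28.lean.txt` (X1 (a)-(e)); no `Fintype F` needed.
-/

set_option autoImplicit false
set_option linter.unusedSectionVars false
set_option linter.unusedVariables false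

namespace Cfsg.Agent.Lib.Helper9.OTX1

open Matrix Module
open Cfsg.Agent.Lib.Helper16.Tens Cfsg.Agent.Lib.Helper10.TensFund
open Cfsg.Agent.Lib.Helper3.SpT (bf E adj uni Over)
open Cfsg.Agent.Lib.Helper13.TensSO (OrthG IsoG)
open Cfsg.Agent.Lib.Helper28.OT Cfsg.Agent.Lib.Helper28.OTX
open Cfsg.Agent.Lib.Helper16.OTRootC (oneK oneK_val oneK_mem_IsoG rho oneK_rho Om_le_IsoG)
open Cfsg.Agent.Lib.Helper22.OTRootB (Rg_conj yL_mem_kron bf_span_pair)
open scoped Kronecker commutatorElement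

variable {F : Type*} [Field F] {a b : ℕ}
variable {J1 : Matrix (Fin a) (Fin a) F} {J2 : Matrix (Fin b) (Fin b) F}
variable {Q : QuadraticForm F (Fin a × Fin b → F)}
variable {k1 k2 : Fin b → F}

local notation "K" => Cfsg.Geo.kroneckerSubgroup a b F
local notation "V" => (Fin a × Fin b → F)

/-- X1 (a) -/
theorem oneK_mem_kron (R : GL (Fin b) F) : oneK (a := a) R ∈ K :=
  ⟨1, R, by rw [oneK_val, Units.val_one]⟩

/-- X1 (b) -/
theorem rhoW_mem_IsoG (hJ2 : OrthG J2) (h2 : (2 : F) ≠ 0) (k d : Fin b → F) (hk : bf J2 k k = 0) (hkd : bf J2 k d = 0) :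
    rhoW hJ2 h2 k d hk hkd ∈ IsoG J2 := by
  intro x y
  have hdk : bf J2 d k = 0 := by rw [hJ2.symm, hkd]
  rw [rhoW_val, Matrix.add_mulVec, Matrix.add_mulVec, Matrix.one_mulVec, Matrix.one_mulVec, SgN_mulVec, SgN_mulVec]
  simp only [Cfsg.Agent.Lib.Helper3.SpT.bf_add_left, Cfsg.Agent.Lib.Helper3.SpT.bf_add_right,
    Cfsg.Agent.Lib.Helper3.SpT.bf_smul_left, Cfsg.Agent.Lib.Helper3.SpT.bf_smul_right,
    Cfsg.Agent.Lib.Helper3.SpT.bf_sub_left, Cfsg.Agent.Lib.Helper3.SpT.bf_sub_right, hk, hkd, hdk,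
    hJ2.symm k y, hJ2.symm d y]
  field_simp
  ring

/-- X1 (e) : `[V, 1 ⊗ R] = U ⊗ [W, R]` -/
theorem Rg_oneK_sub_one (R : GL (Fin b) F) :
    Rg (((oneK (a := a) R : GL (Fin a × Fin b) F) : Matrix (Fin a × Fin b) (Fin a × Fin b) F) - 1) =
      tW (a := a) (Rg ((R : Matrix (Fin b) (Fin b) F) - 1)) := by
  have e : ((oneK (a := a) R : GL (Fin a × Fin b) F) : Matrix (Fin a × Fin b) (Fin a × Fin b) F) - 1 =
      (1 : Matrix (Fin a) (Fin a) F) ⊗ₖ ((R : Matrix (Fin b) (Fin b) F) - 1) := by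
    rw [oneK_val, sub_eq_iff_eq_add]
    conv_rhs => rw [← Matrix.one_kronecker_one (α := F) (m := Fin a) (n := Fin b), ← Matrix.kronecker_add, sub_add_cancel]
  rw [e]
  apply le_antisymm
  · intro v hv
    rw [mem_Rg_iff] at hv
    obtain ⟨x, rfl⟩ := hv
    refine Cfsg.Agent.Lib.Helper3.SpT.pur_induction
      (p := fun x => ((1 : Matrix (Fin a) (Fin a) F) ⊗ₖ ((R : Matrix (Fin b) (Fin b) F) - 1)) *ᵥ x ∈
        tW (a := a) (Rg ((R : Matrix (Fin b) (Fin b) F) - 1))) ?_ ?_ ?_ x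
    · rw [Matrix.mulVec_zero]
      exact Submodule.zero_mem _
    · intro x y hx hy
      rw [Matrix.mulVec_add]
      exact Submodule.add_mem _ hx hy
    · intro u w
      rw [kron_mulVec_pur, Matrix.one_mulVec]
      exact pur_mem_tW u ((mem_Rg_iff _ _).mpr ⟨w, rfl⟩)
  · unfold tW
    rw [Submodule.span_le]
    rintro v ⟨u, w, hw, rfl⟩
    rw [mem_Rg_iff] at hw
    rw [SetLike.mem_coe, mem_Rg_iff]
    obtain ⟨x, rfl⟩ := hw
    exact ⟨pur u x, by rw [kron_mulVec_pur, Matrix.one_mulVec]⟩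

/-! ### X1 (d) -/

theorem act_oneK_rhoW_pur (hJ2 : OrthG J2) (h2 : (2 : F) ≠ 0) (k d : Fin b → F) (hk' : bf J2 k k = 0)
    (hkd : bf J2 k d = 0) (u : Fin a → F) (w : Fin b → F) :
    act (oneK (a := a) (rhoW hJ2 h2 k d hk' hkd)) (pur u w) - pur u w = pur u (SgN J2 k d *ᵥ w) := by
  rw [act_apply, oneK_val, rhoW_val, kron_mulVec_pur, Matrix.one_mulVec, Matrix.add_mulVec, Matrix.one_mulVec,
    pur_add_right, add_sub_cancel_left]

theorem bf_span_pair' (hJ2 : OrthG J2) (h : Ts2 J2 k1 k2) {w w' : Fin b → F}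
    (hw : w ∈ Submodule.span F {k1, k2}) (hw' : w' ∈ Submodule.span F {k1, k2}) : bf J2 w w' = 0 := by
  obtain ⟨c1, c2, rfl⟩ := Submodule.mem_span_pair.mp hw
  obtain ⟨d1, d2, rfl⟩ := Submodule.mem_span_pair.mp hw'
  have h21 : bf J2 k2 k1 = 0 := by rw [hJ2.symm, h.h12]
  simp only [Cfsg.Agent.Lib.Helper3.SpT.bf_add_left, Cfsg.Agent.Lib.Helper3.SpT.bf_add_right,
    Cfsg.Agent.Lib.Helper3.SpT.bf_smul_left, Cfsg.Agent.Lib.Helper3.SpT.bf_smul_right, h.h11, h.h12, h.h22, h21]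
  ring

theorem bf_piPerp_span (hJ2 : OrthG J2) {w k : Fin b → F} (hw : w ∈ piPerp J2 k1 k2)
    (hk : k ∈ Submodule.span F {k1, k2}) : bf J2 w k = 0 := by
  obtain ⟨c1, c2, rfl⟩ := Submodule.mem_span_pair.mp hk
  rw [Cfsg.Agent.Lib.Helper3.SpT.bf_add_right, Cfsg.Agent.Lib.Helper3.SpT.bf_smul_right,
    Cfsg.Agent.Lib.Helper3.SpT.bf_smul_right, hw.1, hw.2]
  simp

theorem span_le_piPerp (hJ2 : OrthG J2) (h : Ts2 J2 k1 k2) {k : Fin b → F}
    (hk : k ∈ Submodule.span F {k1, k2}) : k ∈ piPerp J2 k1 k2 :=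
  ⟨bf_span_pair' hJ2 h hk (Submodule.subset_span (by simp)), bf_span_pair' hJ2 h hk (Submodule.subset_span (by simp))⟩

/-- X1 (d) : for `k ∈ π`, `d ∈ π^⊥` the element `1 ⊗ ρ_{k,d}` has the shape of `Q_L` -/
theorem oneK_rhoW_InQ (hJ2 : OrthG J2) (h2 : (2 : F) ≠ 0) (h : Ts2 J2 k1 k2) {k d : Fin b → F}
    (hk : k ∈ Submodule.span F {k1, k2}) (hd : d ∈ piPerp J2 k1 k2) (hk' : bf J2 k k = 0) (hkd : bf J2 k d = 0) :
    InQ J2 k1 k2 (oneK (a := a) (rhoW hJ2 h2 k d hk' hkd)) := by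
  have hkP : k ∈ piPerp J2 k1 k2 := span_le_piPerp hJ2 h hk
  refine ⟨?_, ?_, ?_⟩
  · intro v
    refine Cfsg.Agent.Lib.Helper3.SpT.pur_induction
      (p := fun v => act (oneK (a := a) (rhoW hJ2 h2 k d hk' hkd)) v - v ∈ LpPerp (a := a) J2 k1 k2) ?_ ?_ ?_ v
    · rw [map_zero, sub_zero]
      exact Submodule.zero_mem _
    · intro x y hx hy
      rw [map_add, add_sub_add_comm]
      exact Submodule.add_mem _ hx hy
    · intro u w
      rw [act_oneK_rhoW_pur]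
      apply pur_mem_tW
      rw [SgN_mulVec]
      exact Submodule.sub_mem _ (Submodule.sub_mem _ (Submodule.smul_mem _ _ hkP) (Submodule.smul_mem _ _ hd))
        (Submodule.smul_mem _ _ hkP)
  · intro v hv
    unfold LpPerp tW at hv
    induction hv using Submodule.span_induction with
    | mem v hv =>
      obtain ⟨u, w, hw, rfl⟩ := hv
      rw [act_oneK_rhoW_pur]
      apply pur_mem_tW
      rw [SgN_mulVec, bf_piPerp_span hJ2 hw hk]
      simp only [zero_smul, sub_zero, mul_zero]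
      exact Submodule.smul_mem _ _ hk
    | zero =>
      rw [map_zero, sub_zero]
      exact Submodule.zero_mem _
    | add x y _ _ hx hy =>
      rw [map_add, add_sub_add_comm]
      exact Submodule.add_mem _ hx hy
    | smul c x _ hx =>
      rw [map_smul, ← smul_sub]
      exact Submodule.smul_mem _ _ hx
  · intro v hv
    unfold Lp tW at hv
    induction hv using Submodule.span_induction with
    | mem v hv =>
      obtain ⟨u, w, hw, rfl⟩ := hv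
      have hwd : bf J2 w d = 0 := by rw [hJ2.symm]; exact bf_piPerp_span hJ2 hd hw
      have hwk : bf J2 w k = 0 := bf_span_pair' hJ2 h hw hk
      have e := act_oneK_rhoW_pur (a := a) hJ2 h2 k d hk' hkd u w
      rw [SgN_mulVec, hwd, hwk] at e
      simp only [zero_smul, sub_zero, mul_zero] at e
      have e0 : pur u (0 : Fin b → F) = 0 := by
        funext p
        simp [pur]
      rw [e0] at e
      exact sub_eq_zero.mp e
    | zero => rw [map_zero]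
    | add x y _ _ hx hy => rw [map_add, hx, hy]
    | smul c x _ hx => rw [map_smul, hx]

/-! ### X1 (c) -/

theorem SgN_mul_add (hJ2 : OrthG J2) (h2 : (2 : F) ≠ 0) (k d1 d2 : Fin b → F)
    (hk : bf J2 k k = 0) (hkd1 : bf J2 k d1 = 0) (hkd2 : bf J2 k d2 = 0) :
    (1 + SgN J2 k d1) * (1 + SgN J2 k d2) = 1 + SgN J2 k (d1 + d2) := by
  have hd1k : bf J2 d1 k = 0 := by rw [hJ2.symm, hkd1]
  have hd2k : bf J2 d2 k = 0 := by rw [hJ2.symm, hkd2]
  apply Cfsg.Agent.Lib.Helper3.SpT.mat_ext_mulVec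
  intro w
  have e2 : bf J2 (w + SgN J2 k d2 *ᵥ w) d1 = bf J2 w d1 - bf J2 w k * bf J2 d2 d1 := by
    rw [SgN_mulVec]
    simp only [Cfsg.Agent.Lib.Helper3.SpT.bf_add_left, Cfsg.Agent.Lib.Helper3.SpT.bf_sub_left,
      Cfsg.Agent.Lib.Helper3.SpT.bf_smul_left, hkd1]
    ring
  have e3 : bf J2 (w + SgN J2 k d2 *ᵥ w) k = bf J2 w k := by
    rw [SgN_mulVec]
    simp only [Cfsg.Agent.Lib.Helper3.SpT.bf_add_left, Cfsg.Agent.Lib.Helper3.SpT.bf_sub_left,
      Cfsg.Agent.Lib.Helper3.SpT.bf_smul_left, hk, hd2k]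
    ring
  rw [← Matrix.mulVec_mulVec, Matrix.add_mulVec (1 : Matrix (Fin b) (Fin b) F) (SgN J2 k d2), Matrix.one_mulVec,
    Matrix.add_mulVec, Matrix.one_mulVec, SgN_mulVec J2 k d1, e2, e3, SgN_mulVec J2 k d2,
    Matrix.add_mulVec, Matrix.one_mulVec, SgN_mulVec J2 k (d1 + d2)]
  simp only [Cfsg.Agent.Lib.Helper3.SpT.bf_add_left, Cfsg.Agent.Lib.Helper3.SpT.bf_add_right, hJ2.symm d2 d1]
  funext i
  simp only [Pi.add_apply, Pi.sub_apply, Pi.smul_apply, smul_eq_mul]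
  field_simp
  ring

theorem SgN_eq_zero_of_dep (hJ2 : OrthG J2) (k d : Fin b → F) (hk : bf J2 k k = 0)
    (hdep : ¬ ∀ c1 c2 : F, c1 • k + c2 • d = 0 → c1 = 0 ∧ c2 = 0) : SgN J2 k d = 0 := by
  push Not at hdep
  obtain ⟨c1, c2, hc, hne⟩ := hdep
  apply Cfsg.Agent.Lib.Helper3.SpT.mat_ext_mulVec
  intro w
  rw [SgN_mulVec, Matrix.zero_mulVec]
  by_cases hc2 : c2 = 0
  · have hc1 : c1 ≠ 0 := fun h0 => hne h0 hc2
    rw [hc2, zero_smul, add_zero] at hc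
    have hk0 : k = 0 := by
      rcases smul_eq_zero.mp hc with h0 | h0
      · exact absurd h0 hc1
      · exact h0
    rw [hk0]
    simp
  · have hd : d = (-(c1 / c2)) • k := by
      have : c2 • d = -(c1 • k) := eq_neg_of_add_eq_zero_right hc
      calc d = c2⁻¹ • (c2 • d) := by rw [smul_smul, inv_mul_cancel₀ hc2, one_smul]
        _ = (-(c1 / c2)) • k := by rw [this, smul_neg, smul_smul, neg_smul]; congr 2; field_simp
    rw [hd]
    simp only [Cfsg.Agent.Lib.Helper3.SpT.bf_smul_right, Cfsg.Agent.Lib.Helper3.SpT.bf_smul_left, hk, smul_smul]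
    funext i
    simp only [Pi.sub_apply, Pi.smul_apply, smul_eq_mul, Pi.zero_apply]
    ring

theorem exists_partner' (hJ2 : OrthG J2) (h2 : (2 : F) ≠ 0) (k d : Fin b → F) (hk : bf J2 k k = 0)
    (hkd : bf J2 k d = 0) (hind : ∀ c1 c2 : F, c1 • k + c2 • d = 0 → c1 = 0 ∧ c2 = 0) :
    ∃ l : Fin b → F, bf J2 k l = 1 ∧ bf J2 d l = 0 ∧ bf J2 l l = 0 := by
  have hd0 : d ≠ 0 := by
    intro h0
    have := hind 0 1 (by rw [h0]; simp)
    exact one_ne_zero this.2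
  obtain ⟨y1, hy1⟩ : ∃ y1, bf J2 d y1 ≠ 0 := by
    by_contra hcon
    push Not at hcon
    exact hd0 (hJ2.nondeg d hcon)
  obtain ⟨l, hl1, hl2⟩ : ∃ l, bf J2 d l = 0 ∧ bf J2 k l ≠ 0 := by
    by_contra hcon
    push Not at hcon
    have hz : k - (bf J2 k y1 / bf J2 d y1) • d = 0 := by
      apply hJ2.nondeg
      intro x
      have h1 := hcon (x - (bf J2 d x / bf J2 d y1) • y1) (by
        rw [Cfsg.Agent.Lib.Helper3.SpT.bf_sub_right, Cfsg.Agent.Lib.Helper3.SpT.bf_smul_right]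
        field_simp
        ring)
      rw [Cfsg.Agent.Lib.Helper3.SpT.bf_sub_right, Cfsg.Agent.Lib.Helper3.SpT.bf_smul_right] at h1
      rw [Cfsg.Agent.Lib.Helper3.SpT.bf_sub_left, Cfsg.Agent.Lib.Helper3.SpT.bf_smul_left]
      field_simp
      field_simp at h1
      linear_combination h1
    have := hind 1 (-(bf J2 k y1 / bf J2 d y1)) (by
      rw [one_smul, neg_smul, ← sub_eq_add_neg]
      exact hz)
    exact one_ne_zero this.1
  obtain ⟨l0, hl0⟩ : ∃ l0 : Fin b → F, l0 = (bf J2 k l)⁻¹ • l := ⟨_, rfl⟩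
  have h10 : bf J2 d l0 = 0 := by
    rw [hl0, Cfsg.Agent.Lib.Helper3.SpT.bf_smul_right, hl1, mul_zero]
  have h20 : bf J2 k l0 = 1 := by
    rw [hl0, Cfsg.Agent.Lib.Helper3.SpT.bf_smul_right, inv_mul_cancel₀ hl2]
  have h02 : bf J2 l0 k = 1 := by rw [hJ2.symm, h20]
  have hdk : bf J2 d k = 0 := by rw [hJ2.symm, hkd]
  refine ⟨l0 - (bf J2 l0 l0 / 2) • k, ?_, ?_, ?_⟩
  · rw [Cfsg.Agent.Lib.Helper3.SpT.bf_sub_right, Cfsg.Agent.Lib.Helper3.SpT.bf_smul_right, h20, hk]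
    ring
  · rw [Cfsg.Agent.Lib.Helper3.SpT.bf_sub_right, Cfsg.Agent.Lib.Helper3.SpT.bf_smul_right, h10, hdk]
    ring
  · simp only [Cfsg.Agent.Lib.Helper3.SpT.bf_sub_right, Cfsg.Agent.Lib.Helper3.SpT.bf_smul_right,
      Cfsg.Agent.Lib.Helper3.SpT.bf_sub_left, Cfsg.Agent.Lib.Helper3.SpT.bf_smul_left, h20, h02, hk]
    field_simp
    ring

open Cfsg.Agent.Lib.Helper16.OTRootC (Bm Bm_mulVec Bm_sq Bgl Bgl_mem_IsoG bf_Bm_k)

theorem Bm_SgN_Bm (hJ2 : OrthG J2) (k l d : Fin b → F) (hk : bf J2 k k = 0) (hkl : bf J2 k l = 1)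
    (hll : bf J2 l l = 0) (hkd : bf J2 k d = 0) (hdl : bf J2 d l = 0) :
    Bm J2 k l * SgN J2 k d * Bm J2 k l = SgN J2 k (-d) := by
  apply Cfsg.Agent.Lib.Helper3.SpT.mat_ext_mulVec
  intro x
  have hdk : bf J2 d k = 0 := by rw [hJ2.symm, hkd]
  have hld : bf J2 l d = 0 := by rw [hJ2.symm, hdl]
  have hBk : Bm J2 k l *ᵥ k = - k := by
    rw [Bm_mulVec, hkl, hk]
    simp only [one_smul, zero_smul, add_zero, two_smul]
    abel
  have hBd : Bm J2 k l *ᵥ d = d := by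
    rw [Bm_mulVec, hdl, hdk]
    simp
  have hxd : bf J2 (Bm J2 k l *ᵥ x) d = bf J2 x d := by
    rw [Bm_mulVec]
    simp only [Cfsg.Agent.Lib.Helper3.SpT.bf_sub_left, Cfsg.Agent.Lib.Helper3.SpT.bf_smul_left,
      Cfsg.Agent.Lib.Helper3.SpT.bf_add_left, hkd, hld]
    ring
  rw [← Matrix.mulVec_mulVec, ← Matrix.mulVec_mulVec, SgN_mulVec, bf_Bm_k hJ2 hk hkl hll, hxd,
    Matrix.mulVec_sub, Matrix.mulVec_sub, Matrix.mulVec_smul, Matrix.mulVec_smul, Matrix.mulVec_smul, hBk, hBd,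
    SgN_mulVec]
  simp only [Cfsg.Agent.Lib.Helper3.SpT.bf_neg_right, Cfsg.Agent.Lib.Helper3.SpT.bf_neg_left, neg_neg, neg_smul,
    smul_neg, mul_neg, sub_neg_eq_add]

/-- X1 (c) : `1 ⊗ ρ_{k,d} ∈ Ω(V)` -/
theorem oneK_rhoW_mem_Om (hS : SetupO J1 J2 Q) (hb : 5 ≤ b) (k d : Fin b → F) (hk : bf J2 k k = 0) (hkd : bf J2 k d = 0) :
    oneK (a := a) (rhoW hS.h2 hS.two k d hk hkd) ∈ Cfsg.Geo.omegaGL (⇑Q) := by
  by_cases hind : ∀ c1 c2 : F, c1 • k + c2 • d = 0 → c1 = 0 ∧ c2 = 0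
  · obtain ⟨l, hkl, hdl, hll⟩ := exists_partner' hS.h2 hS.two k d hk hkd hind
    obtain ⟨d', hd'⟩ : ∃ d' : Fin b → F, d' = (-(1 / 2 : F)) • d := ⟨_, rfl⟩
    have hkd' : bf J2 k d' = 0 := by
      rw [hd', Cfsg.Agent.Lib.Helper3.SpT.bf_smul_right, hkd, mul_zero]
    have hd'l : bf J2 d' l = 0 := by
      rw [hd', Cfsg.Agent.Lib.Helper3.SpT.bf_smul_left, hdl, mul_zero]
    have hkd'n : bf J2 k (-d') = 0 := by
      rw [Cfsg.Agent.Lib.Helper3.SpT.bf_neg_right, hkd', neg_zero]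
    have hsum : -d' + -d' = d := by
      rw [hd', ← neg_smul, neg_neg, ← add_smul]
      have : (1 / 2 : F) + 1 / 2 = 1 := by
        have := hS.two
        field_simp
        norm_num
      rw [this, one_smul]
    have e0 : ⁅Bgl hS.h2 hk hkl hll, rhoW hS.h2 hS.two k d' hk hkd'⁆ = rhoW hS.h2 hS.two k d hk hkd := by
      apply Units.ext
      rw [commutatorElement_def, Units.val_mul, Units.val_mul, Units.val_mul, rhoW_val, rhoW_val]
      show Bm J2 k l * (1 + SgN J2 k d') * Bm J2 k l * (1 + SgN J2 k (-d')) = 1 + SgN J2 k d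
      have e1 : Bm J2 k l * (1 + SgN J2 k d') * Bm J2 k l = 1 + SgN J2 k (-d') := by
        rw [mul_add, add_mul, mul_one, Bm_sq hS.h2 hk hkl hll, Bm_SgN_Bm hS.h2 k l d' hk hkl hll hkd' hd'l]
      rw [e1, SgN_mul_add hS.h2 hS.two k (-d') (-d') hk hkd'n hkd'n, hsum]
    have e : oneK (a := a) (rhoW hS.h2 hS.two k d hk hkd) =
        ⁅oneK (a := a) (Bgl hS.h2 hk hkl hll), oneK (a := a) (rhoW hS.h2 hS.two k d' hk hkd')⁆ := by
      rw [← map_commutatorElement, e0]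
    rw [e]
    exact Cfsg.Agent.Lib.Helper3.SpT.commutator_mem_Om _ _
      (Cfsg.Agent.Lib.Helper16.OTRootC.mem_iso_of_IsoG hS _ (oneK_mem_IsoG _ (Bgl_mem_IsoG hS.h2 hk hkl hll)))
      (Cfsg.Agent.Lib.Helper16.OTRootC.mem_iso_of_IsoG hS _
        (oneK_mem_IsoG _ (rhoW_mem_IsoG hS.h2 hS.two k d' hk hkd')))
  · have e : rhoW hS.h2 hS.two k d hk hkd = 1 := by
      apply Units.ext
      rw [rhoW_val, SgN_eq_zero_of_dep hS.h2 k d hk hind, add_zero, Units.val_one]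
    rw [e, map_one]
    exact Subgroup.one_mem _

end Cfsg.Agent.Lib.Helper9.OTX1
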