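import Mathlib
import Cfsg.Agent.Lib.Helper12.SC3.Defs

/-!
# S1904 farm: the shared general facts (G2), (G3), (G4) of the Blueprint (helper9)
-/

set_option autoImplicit false

namespace Cfsg.Agent.Lib.Helper9.SC3G

open Cfsg.Agent.Lib.Helper12.SC3

variable {X : Type*} [Group X]

/-- every element of an odd-order group of automorphisms has odd order -/
theorem orderOf_odd_of_mem [Finite X] {A : Subgroup (MulAut X)} (hodd : Odd (Nat.card A))
    {φ : MulAut X} (hφ : φ ∈ A) : Odd (orderOf φ) := by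
  have h1 : orderOf φ ∣ Nat.card A := Subgroup.orderOf_dvd_natCard A hφ
  exact Odd.of_dvd_nat hodd h1

/-- (G2) a normal subgroup fixed pointwise by `A` is central when `[X,A] = X`. -/
theorem central_of_fixed (A : Subgroup (MulAut X))
    (hgen : Subgroup.closure {g : X | ∃ φ ∈ A, ∃ x : X, g = x⁻¹ * φ x} = ⊤)
    (N : Subgroup X) (hN : N.Normal) (hfix : ∀ φ ∈ A, ∀ n ∈ N, φ n = n) :
    N ≤ Subgroup.center X := by
  intro n hn
  rw [Subgroup.mem_center_iff]
  have hle : Subgroup.closure {g : X | ∃ φ ∈ A, ∃ x : X, g = x⁻¹ * φ x} ≤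
      Subgroup.centralizer ({n} : Set X) := by
    rw [Subgroup.closure_le]
    rintro g ⟨φ, hφ, x, rfl⟩
    rw [SetLike.mem_coe, Subgroup.mem_centralizer_iff]
    intro m hm
    rw [Set.mem_singleton_iff] at hm
    subst hm
    -- x m x⁻¹ ∈ N is fixed by φ
    have h1 : x * m * x⁻¹ ∈ N := hN.conj_mem m hn x
    have h2 := hfix φ hφ _ h1
    rw [map_mul, map_mul, hfix φ hφ m hn, map_inv] at h2
    -- φ x * m * (φ x)⁻¹ = x * m * x⁻¹
    have h3 : m * (x⁻¹ * φ x) = x⁻¹ * (x * m * x⁻¹) * φ x := by group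
    rw [h3, ← h2]
    group
  intro g
  have hg : g ∈ Subgroup.centralizer ({n} : Set X) := hle (hgen ▸ Subgroup.mem_top g)
  rw [Subgroup.mem_centralizer_iff] at hg
  exact (hg n (Set.mem_singleton n)).symm

/-- (G4) an odd-order automorphism of an abelian `2`-group fixing `Ω₁` pointwise is trivial. -/
theorem fix_of_fix_omega [Finite X] (hX : IsPGroup 2 X) (N : Subgroup X) (hab : Ab N)
    (φ : MulAut X) (hodd : Odd (orderOf φ)) (hinv : ∀ x ∈ N, φ x ∈ N)
    (hfix : ∀ x ∈ N, x ^ 2 = 1 → φ x = x) : ∀ x ∈ N, φ x = x := by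
  have key : ∀ k : ℕ, ∀ x ∈ N, x ^ 2 ^ k = 1 → φ x = x := by
    intro k
    induction k with
    | zero =>
      intro x _ hx
      rw [pow_zero, pow_one] at hx
      rw [hx, map_one]
    | succ k ih =>
      intro x hxN hx
      have hx2 : (x ^ 2) ^ 2 ^ k = 1 := by rw [← pow_mul, ← pow_succ']; exact hx
      have h1 : φ (x ^ 2) = x ^ 2 := ih _ (N.pow_mem hxN 2) hx2
      have hφx : φ x ∈ N := hinv x hxN
      have hcomm : x⁻¹ * φ x = φ x * x⁻¹ := hab _ (N.inv_mem hxN) _ hφx
      -- c = x⁻¹ φ(x) has c² = 1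
      have hc2 : (x⁻¹ * φ x) ^ 2 = 1 := by
        have hc : Commute x⁻¹ (φ x) := hcomm
        rw [hc.mul_pow, ← map_pow, h1, inv_pow, inv_mul_cancel]
      have hcN : x⁻¹ * φ x ∈ N := N.mul_mem (N.inv_mem hxN) hφx
      have hφc : φ (x⁻¹ * φ x) = x⁻¹ * φ x := hfix _ hcN hc2
      -- (φ ^ m) x = x * c ^ m
      have hpow : ∀ m : ℕ, (φ ^ m) x = x * (x⁻¹ * φ x) ^ m := by
        intro m
        induction m with
        | zero => simp
        | succ m ihm =>
          rw [pow_succ', MulAut.mul_apply, ihm, map_mul, map_pow, hφc, pow_succ',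
            ← mul_assoc x, mul_inv_cancel_left]
      have h2 := hpow (orderOf φ)
      rw [pow_orderOf_eq_one, MulAut.one_apply] at h2
      have h3 : (x⁻¹ * φ x) ^ orderOf φ = 1 := by
        have := h2.symm
        rwa [mul_eq_left] at this
      have h4 : orderOf (x⁻¹ * φ x) ∣ 2 := orderOf_dvd_of_pow_eq_one hc2
      have h5 : orderOf (x⁻¹ * φ x) ∣ orderOf φ := orderOf_dvd_of_pow_eq_one h3
      have h6 : orderOf (x⁻¹ * φ x) = 1 := by
        rcases (Nat.dvd_prime Nat.prime_two).1 h4 with h | h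
        · exact h
        · exfalso
          rw [h] at h5
          exact (Nat.not_even_iff_odd.2 hodd) (even_iff_two_dvd.2 h5)
      have h7 : x⁻¹ * φ x = 1 := orderOf_eq_one_iff.1 h6
      exact (inv_mul_eq_one.1 h7).symm
  intro x hxN
  obtain ⟨k, hk⟩ := hX x
  exact key k x hxN hk

/-- (G3) norm map: if `X/K` is abelian, `X` a `2`-group, `A` of odd order with `[X,A] = X`, then every
element fixed by all of `A` lies in `K`. -/
theorem mem_of_fixed [Finite X] (hX : IsPGroup 2 X) (A : Subgroup (MulAut X))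
    (hodd : Odd (Nat.card A))
    (hgen : Subgroup.closure {g : X | ∃ φ ∈ A, ∃ x : X, g = x⁻¹ * φ x} = ⊤)
    (K : Subgroup X) (hK : K.Normal) (hab : ∀ x y : X, x * y * x⁻¹ * y⁻¹ ∈ K) (x : X)
    (hx : ∀ φ ∈ A, φ x = x) : x ∈ K := by
  classical
  haveI := hK
  letI : CommGroup (X ⧸ K) :=
    { (inferInstance : Group (X ⧸ K)) with
      mul_comm := by
        intro a b
        induction a using QuotientGroup.induction_on with
        | H a =>
          induction b using QuotientGroup.induction_on with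
          | H b =>
            rw [← QuotientGroup.mk_mul, ← QuotientGroup.mk_mul, QuotientGroup.eq]
            have := hab a⁻¹ b⁻¹
            have h2 : (a * b)⁻¹ * (b * a) = (a⁻¹ * b⁻¹ * a⁻¹⁻¹ * b⁻¹⁻¹)⁻¹ := by group
            rw [h2]
            exact K.inv_mem this }
  haveI : Fintype A := Fintype.ofFinite A
  let ν : X →* X ⧸ K := ∏ a : A, (QuotientGroup.mk' K).comp (a : MulAut X).toMonoidHom
  have hν : ∀ y : X, ν y = ∏ a : A, (QuotientGroup.mk' K) ((a : MulAut X) y) := by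
    intro y
    simp only [ν, MonoidHom.finset_prod_apply, MonoidHom.comp_apply, MulEquiv.coe_toMonoidHom]
  have hνφ : ∀ φ ∈ A, ∀ y : X, ν (φ y) = ν y := by
    intro φ hφ y
    rw [hν, hν]
    exact Equiv.prod_comp (Equiv.mulRight (⟨φ, hφ⟩ : A))
      (fun a : A => (QuotientGroup.mk' K) ((a : MulAut X) y))
  have hker : ∀ y : X, ν y = 1 := by
    have hle : Subgroup.closure {g : X | ∃ φ ∈ A, ∃ x : X, g = x⁻¹ * φ x} ≤ ν.ker := by
      rw [Subgroup.closure_le]
      rintro g ⟨φ, hφ, y, rfl⟩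
      rw [SetLike.mem_coe, MonoidHom.mem_ker, map_mul, map_inv, hνφ φ hφ, inv_mul_cancel]
    intro y
    exact MonoidHom.mem_ker.1 (hle (hgen ▸ Subgroup.mem_top y))
  have h1 : (QuotientGroup.mk' K x) ^ Nat.card A = 1 := by
    have h := hker x
    rw [hν] at h
    have h2 : ∀ a : A, (QuotientGroup.mk' K) ((a : MulAut X) x) = QuotientGroup.mk' K x :=
      fun a => by rw [hx a.1 a.2]
    rw [Finset.prod_congr rfl (fun a _ => h2 a), Finset.prod_const, Finset.card_univ,
      ← Nat.card_eq_fintype_card] at h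
    exact h
  obtain ⟨k, hk⟩ := hX x
  have h2 : (QuotientGroup.mk' K x) ^ 2 ^ k = 1 := by rw [← map_pow, hk, map_one]
  have h3 : orderOf (QuotientGroup.mk' K x) ∣ Nat.card A := orderOf_dvd_of_pow_eq_one h1
  have h4 : orderOf (QuotientGroup.mk' K x) ∣ 2 ^ k := orderOf_dvd_of_pow_eq_one h2
  have hcop : Nat.Coprime (2 ^ k) (Nat.card A) :=
    Nat.Coprime.pow_left k (Nat.coprime_two_left.2 hodd)
  have h5 : orderOf (QuotientGroup.mk' K x) ∣ 1 := by
    have := Nat.dvd_gcd h4 h3
    rwa [hcop] at this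
  have h6 : QuotientGroup.mk' K x = 1 := orderOf_eq_one_iff.1 (Nat.dvd_one.1 h5)
  exact (QuotientGroup.eq_one_iff x).1 h6

end Cfsg.Agent.Lib.Helper9.SC3G
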