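import Mathlib

/-!
# S2197 piece P1 (helper9 for helper12): a group `13:3` acting on 26 or 27 points

`x` of order dividing 13, `z` of order dividing 3 with `z x z⁻¹ = x³`.  If `x` is fixed-point-free on
26 points, then `z` has exactly two fixed points.  If `x` moves some point of a set of 27 points,
then `z` fixes a point.
-/

set_option autoImplicit false

namespace Cfsg.Agent.Lib.Helper12.Tits2T

open MulAction

namespace Helper9

variable {G Ω : Type*} [Group G] [MulAction G Ω]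

theorem z_mul_zpow (x z : G) (hzx : z * x * z⁻¹ = x ^ 3) (n : ℤ) :
    z * x ^ n = x ^ (3 * n) * z := by
  have h : z * x ^ n * z⁻¹ = x ^ (3 * n) := by
    rw [← conj_zpow, hzx, zpow_mul, zpow_ofNat]
  rw [← h]
  group

/-- a power of `x` with exponent prime to 13 fixing a point forces `x` to fix it -/
theorem smul_eq_of_zpow_smul_eq (x : G) (hx : x ^ 13 = 1) (n : ℤ) (hn : ¬ (13 : ℤ) ∣ n) (ω : Ω)
    (h : x ^ n • ω = ω) : x • ω = ω := by
  have hp : Prime (13 : ℤ) := Int.prime_iff_natAbs_prime.mpr (by norm_num)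
  obtain ⟨a, b, hab⟩ := (Prime.coprime_iff_not_dvd hp).mpr hn
  have hx' : x ^ (13 : ℤ) = 1 := by
    rw [show (13 : ℤ) = ((13 : ℕ) : ℤ) from rfl, zpow_natCast, hx]
  have h1 : x = (x ^ n) ^ b := by
    have : x = x ^ (a * 13 + b * n) := by rw [hab, zpow_one]
    rw [zpow_add, mul_comm a 13, zpow_mul, hx', one_zpow, one_mul, mul_comm b n, zpow_mul] at this
    exact this
  have hmem : x ^ n ∈ stabilizer G ω := mem_stabilizer_iff.mpr h
  have := (stabilizer G ω).zpow_mem hmem b
  rw [← h1] at this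
  exact mem_stabilizer_iff.mp this

/-- at most `|Ω| / 13` fixed points of `z` when `x` is fixed-point-free -/
theorem thirteen_mul_card_fixed_le [Finite Ω] (x z : G) (hx : x ^ 13 = 1)
    (hzx : z * x * z⁻¹ = x ^ 3) (hfree : ∀ ω : Ω, x • ω ≠ ω) :
    Nat.card {ω : Ω // z • ω = ω} * 13 ≤ Nat.card Ω := by
  have hinj : Function.Injective
      (fun p : {ω : Ω // z • ω = ω} × Fin 13 => x ^ ((p.2 : ℕ) : ℤ) • (p.1 : Ω)) := by
    rintro ⟨⟨ω, hω⟩, i⟩ ⟨⟨ω', hω'⟩, j⟩ hij
    have hij' : x ^ ((i : ℕ) : ℤ) • ω = x ^ ((j : ℕ) : ℤ) • ω' := hij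
    -- apply `z`
    have h2 : x ^ (3 * ((i : ℕ) : ℤ)) • ω = x ^ (3 * ((j : ℕ) : ℤ)) • ω' := by
      have := congrArg (fun v => z • v) hij'
      simp only [smul_smul] at this
      rw [z_mul_zpow x z hzx, z_mul_zpow x z hzx, mul_smul, mul_smul, hω, hω'] at this
      exact this
    have h1 : ω' = x ^ (((i : ℕ) : ℤ) - ((j : ℕ) : ℤ)) • ω := by
      rw [sub_eq_neg_add, zpow_add, mul_smul, hij', smul_smul, zpow_neg, inv_mul_cancel, one_smul]
    have h3 : x ^ (2 * (((j : ℕ) : ℤ) - ((i : ℕ) : ℤ))) • ω = ω := by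
      rw [h1, smul_smul, ← zpow_add] at h2
      have := congrArg (fun v => x ^ (-(3 * ((i : ℕ) : ℤ))) • v) h2
      simp only [smul_smul, ← zpow_add] at this
      rw [neg_add_cancel, zpow_zero, one_smul] at this
      have e : (2 * (((j : ℕ) : ℤ) - ((i : ℕ) : ℤ))) =
          -(3 * ((i : ℕ) : ℤ)) + (3 * ((j : ℕ) : ℤ) + (((i : ℕ) : ℤ) - ((j : ℕ) : ℤ))) := by ring
      rw [e]
      exact this.symm
    have hi := i.isLt
    have hj := j.isLt
    have hijeq : (i : ℕ) = (j : ℕ) := by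
      by_contra hne
      apply hfree ω
      apply smul_eq_of_zpow_smul_eq x hx _ _ ω h3
      omega
    have hfin : i = j := Fin.ext hijeq
    subst hfin
    have hω2 : ω = ω' := smul_left_cancel _ hij'
    subst hω2
    rfl
  have := Nat.card_le_card_of_injective _ hinj
  rw [Nat.card_prod, Nat.card_fin] at this
  exact this

/-- the permutation of `z` has the fixed points of `z` as complement of its support -/
theorem card_fixed_eq_compl_support [Fintype Ω] [DecidableEq Ω] (z : G) :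
    Nat.card {ω : Ω // z • ω = ω} = (toPermHom G Ω z).supportᶜ.card := by
  rw [Nat.card_eq_fintype_card, Fintype.card_subtype]
  congr 1
  ext ω
  simp only [Finset.mem_filter, Finset.mem_univ, true_and, Finset.mem_compl,
    Equiv.Perm.mem_support, not_not]
  rfl

theorem toPerm_pow_eq_one (z : G) (k : ℕ) (hz : z ^ k = 1) : (toPermHom G Ω z) ^ k = 1 := by
  rw [← map_pow, hz, map_one]

end Helper9

open Helper9

theorem card_fixed_eq_two {G Ω : Type*} [Group G] [Fintype Ω] [MulAction G Ω]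
    (hΩ : Fintype.card Ω = 26) (x z : G) (hx : x ^ 13 = 1) (hz : z ^ 3 = 1)
    (hzx : z * x * z⁻¹ = x ^ 3) (hfree : ∀ ω : Ω, x • ω ≠ ω) :
    Nat.card {ω : Ω // z • ω = ω} = 2 := by
  classical
  have : Fact (Nat.Prime 3) := ⟨by norm_num⟩
  have hle := thirteen_mul_card_fixed_le x z hx hzx hfree
  rw [Nat.card_eq_fintype_card (α := Ω), hΩ] at hle
  have hmod := Equiv.Perm.card_compl_support_modEq (p := 3) (n := 1)
    (σ := toPermHom G Ω z) (by rw [pow_one]; exact toPerm_pow_eq_one z 3 hz)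
  rw [← card_fixed_eq_compl_support, hΩ] at hmod
  have h3 : Nat.card {ω : Ω // z • ω = ω} % 3 = 26 % 3 := hmod
  omega

theorem exists_fixed_27 {G Ω : Type*} [Group G] [Fintype Ω] [MulAction G Ω]
    (hΩ : Fintype.card Ω = 27) (x z : G) (hx : x ^ 13 = 1) (hz : z ^ 3 = 1)
    (hzx : z * x * z⁻¹ = x ^ 3) (hmov : ∃ ω : Ω, x • ω ≠ ω) : ∃ ω : Ω, z • ω = ω := by
  classical
  have : Fact (Nat.Prime 3) := ⟨by norm_num⟩
  have : Fact (Nat.Prime 13) := ⟨by norm_num⟩
  -- the number of fixed points of `x`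
  have hmod := Equiv.Perm.card_compl_support_modEq (p := 13) (n := 1)
    (σ := toPermHom G Ω x) (by rw [pow_one]; exact toPerm_pow_eq_one x 13 hx)
  rw [← card_fixed_eq_compl_support, hΩ] at hmod
  have h13 : Nat.card {ω : Ω // x • ω = ω} % 13 = 27 % 13 := hmod
  have hlt : Nat.card {ω : Ω // x • ω = ω} < 27 := by
    rw [Nat.card_eq_fintype_card, ← hΩ]
    apply Fintype.card_subtype_lt (x := hmov.choose)
    exact hmov.choose_spec
  have hnd : ¬ 3 ∣ Fintype.card {ω : Ω // x • ω = ω} := by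
    rw [← Nat.card_eq_fintype_card]
    omega
  -- `z` permutes the fixed points of `x`
  have hinv : ∀ ω : Ω, x • (toPermHom G Ω z ω) = toPermHom G Ω z ω ↔ x • ω = ω := by
    intro ω
    show x • (z • ω) = z • ω ↔ x • ω = ω
    have hz9 : x * z = z * x ^ (9 : ℤ) := by
      -- `z * x ^ 9 = x ^ 27 * z = x * z`
      rw [z_mul_zpow x z hzx]
      have : x ^ (3 * 9 : ℤ) = x := by
        rw [show (3 * 9 : ℤ) = 13 * 2 + 1 by norm_num, zpow_add, zpow_mul, zpow_one,
          show (13 : ℤ) = ((13 : ℕ) : ℤ) from rfl, zpow_natCast, hx, one_zpow, one_mul]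
      rw [this]
    constructor
    · intro h
      rw [smul_smul, hz9, mul_smul] at h
      have h9 : x ^ (9 : ℤ) • ω = ω := smul_left_cancel z h
      exact smul_eq_of_zpow_smul_eq x hx 9 (by norm_num) ω h9
    · intro h
      rw [smul_smul, hz9, mul_smul]
      congr 1
      have hmem : x ∈ stabilizer G ω := mem_stabilizer_iff.mpr h
      exact mem_stabilizer_iff.mp ((stabilizer G ω).zpow_mem hmem 9)
  obtain ⟨⟨ω, hω⟩, hfix⟩ := Equiv.Perm.exists_fixed_point_of_prime (p := 3) (n := 1) hnd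
    (σ := (toPermHom G Ω z).subtypePerm hinv) (by
      rw [pow_one, Equiv.Perm.subtypePerm_pow]
      ext ω
      simp only [Equiv.Perm.subtypePerm_apply, Equiv.Perm.coe_one, id_eq]
      rw [toPerm_pow_eq_one z 3 hz]
      rfl)
  refine ⟨ω, ?_⟩
  have := congrArg Subtype.val hfix
  exact this

end Cfsg.Agent.Lib.Helper12.Tits2T
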