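import Mathlib

/-!
# S2149 (helper9): shared definitions for "the largest proper subgroup of PSU₃(5) has index 50"

`Borel S u1 u2 t`: the hypotheses on a group `S` of order 1000 (in the application: the stabiliser
`5^{1+2}:8` of an isotropic point) that are checked by explicit computation: two non-commuting elements
`u1, u2` of order 5 and an element `t` whose square acts on `U / Z` (`U` the Sylow 5-subgroup,
`Z = ⟨[u1,u2]⟩` its centre) as squaring.
-/

set_option autoImplicit false

namespace Cfsg.Agent.Lib.Helper9.U35Min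

open scoped commutatorElement

/-- hypotheses on a group of order 1000 (the Borel subgroup `5^{1+2}:8` of `PSU₃(5)`) -/
structure Borel (S : Type*) [Group S] (u1 u2 t : S) : Prop where
  card : Nat.card S = 1000
  h1 : u1 ^ 5 = 1
  h2 : u2 ^ 5 = 1
  hnc : u1 * u2 ≠ u2 * u1
  ht1 : ∃ k : ℕ, t ^ 2 * u1 * (t ^ 2)⁻¹ = ⁅u1, u2⁆ ^ k * u1 ^ 2
  ht2 : ∃ k : ℕ, t ^ 2 * u2 * (t ^ 2)⁻¹ = ⁅u1, u2⁆ ^ k * u2 ^ 2

end Cfsg.Agent.Lib.Helper9.U35Min
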