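import Mathlib
import Cfsg.Agent.Lib.Helper22.Conj
import Cfsg.Agent.Lib.Helper22.Jordan
import Cfsg.Agent.Lib.Helper4.ComplementSystem

/-!
Class sizes: basic facts, the Bertram–Herzog–Mann class product lemma for classes of coprime
sizes, and the left stabilizer of a conjugacy class.
-/

set_option autoImplicit false
set_option linter.style.haveILetI false
set_option linter.unusedSectionVars false

namespace Cfsg.Agent.Lib.Helper9.ClassGraph

open Subgroup
open scoped Pointwise

variable {G : Type*} [Group G]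

/-- class size of `g` -/
noncomputable def cs (g : G) : ℕ := (centralizer ({g} : Set G)).index

/-- all prime divisors of `n` lie in `S` -/
def IsS (S : Set ℕ) (n : ℕ) : Prop := ∀ p : ℕ, p.Prime → p ∣ n → p ∈ S

theorem isS_one (S : Set ℕ) : IsS S 1 := by
  intro p hp h
  exact absurd (Nat.dvd_one.mp h) hp.ne_one

theorem IsS.of_dvd {S : Set ℕ} {a b : ℕ} (h : IsS S b) (hab : a ∣ b) : IsS S a :=
  fun p hp hpa => h p hp (hpa.trans hab)

theorem IsS.coprime {S : Set ℕ} {a b : ℕ} (ha : IsS S a) (hb : IsS Sᶜ b) : Nat.Coprime a b := by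
  by_contra h
  obtain ⟨p, hp, hpd⟩ := Nat.exists_prime_and_dvd h
  exact hb p hp (hpd.trans (Nat.gcd_dvd_right a b)) (ha p hp (hpd.trans (Nat.gcd_dvd_left a b)))

theorem IsS.eq_one {S : Set ℕ} {a : ℕ} (h1 : IsS S a) (h2 : IsS Sᶜ a) : a = 1 :=
  (Nat.coprime_self a).mp (h1.coprime h2)

theorem IsS.compl_compl {S : Set ℕ} {a : ℕ} (h : IsS S a) : IsS Sᶜᶜ a := by
  rwa [_root_.compl_compl]

theorem cs_eq_one_iff (g : G) : cs g = 1 ↔ g ∈ center G := by
  unfold cs
  rw [index_eq_one, centralizer_eq_top_iff_subset, Set.singleton_subset_iff]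
  rfl

theorem cs_pos [Finite G] (g : G) : 0 < cs g :=
  Nat.pos_of_ne_zero index_ne_zero_of_finite

theorem one_lt_cs [Finite G] {g : G} (hg : g ∉ center G) : 1 < cs g := by
  have h1 := cs_pos g
  have h2 : cs g ≠ 1 := fun h => hg ((cs_eq_one_iff g).mp h)
  omega

theorem cs_eq_card (g : G) : cs g = Nat.card {h : G // IsConj g h} :=
  Cfsg.Agent.Lib.Helper22.index_centralizer_eq_card_isConj g

theorem cs_eq_of_isConj {g g' : G} (h : IsConj g g') : cs g = cs g' := by
  rw [cs_eq_card, cs_eq_card]
  exact Nat.card_congr (Equiv.subtypeEquivRight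
    (fun x => ⟨fun hx => h.symm.trans hx, fun hx => h.trans hx⟩))

theorem cs_conj (g x : G) : cs (x * g * x⁻¹) = cs g :=
  (cs_eq_of_isConj (isConj_iff.mpr ⟨x, rfl⟩)).symm

theorem mem_cent {g x : G} : x ∈ centralizer ({g} : Set G) ↔ x * g = g * x :=
  mem_centralizer_singleton_iff

theorem cs_inv (g : G) : cs g⁻¹ = cs g := by
  unfold cs
  congr 1
  ext x
  rw [mem_cent, mem_cent]
  constructor
  · intro h
    calc x * g = g * (g⁻¹ * x) * g := by group
      _ = g * (x * g⁻¹) * g := by rw [h]
      _ = g * x := by group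
  · intro h
    calc x * g⁻¹ = g⁻¹ * (g * x) * g⁻¹ := by group
      _ = g⁻¹ * (x * g) * g⁻¹ := by rw [h]
      _ = g⁻¹ * x := by group

theorem cent_le_cent_pow (g : G) (k : ℕ) :
    centralizer ({g} : Set G) ≤ centralizer ({g ^ k} : Set G) := by
  intro x hx
  rw [mem_cent] at hx ⊢
  exact (Commute.pow_right (show Commute x g from hx) k)

theorem cent_le_cent_zpow (g : G) (k : ℤ) :
    centralizer ({g} : Set G) ≤ centralizer ({g ^ k} : Set G) := by
  intro x hx
  rw [mem_cent] at hx ⊢
  exact (Commute.zpow_right (show Commute x g from hx) k)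

theorem cs_pow_dvd (g : G) (k : ℕ) : cs (g ^ k) ∣ cs g :=
  index_dvd_of_le (cent_le_cent_pow g k)

theorem cent_mul_central (g : G) {z : G} (hz : z ∈ center G) :
    centralizer ({g * z} : Set G) = centralizer ({g} : Set G) := by
  ext x
  rw [mem_cent, mem_cent]
  have hz' := mem_center_iff.mp hz
  constructor
  · intro h
    have h1 : x * g * z = g * x * z := by
      calc x * g * z = x * (g * z) := by group
        _ = g * z * x := h
        _ = g * (z * x) := by group
        _ = g * (x * z) := by rw [← hz' x]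
        _ = g * x * z := by group
    exact mul_right_cancel h1
  · intro h
    calc x * (g * z) = x * g * z := by group
      _ = g * x * z := by rw [h]
      _ = g * (x * z) := by group
      _ = g * (z * x) := by rw [hz' x]
      _ = g * z * x := by group

theorem cs_mul_central (g : G) {z : G} (hz : z ∈ center G) : cs (g * z) = cs g := by
  unfold cs
  rw [cent_mul_central g hz]

theorem exists_mul_of_coprime_cs [Finite G] {b c : G} (h : (cs b).Coprime (cs c)) (x : G) :
    ∃ u ∈ centralizer ({b} : Set G), ∃ v ∈ centralizer ({c} : Set G), x = u * v :=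
  Cfsg.Agent.Lib.Helper4.exists_mul_of_coprime_index _ _ h x

theorem cs_mul_dvd [Finite G] {b c : G} (h : (cs b).Coprime (cs c)) :
    cs (b * c) ∣ cs b * cs c := by
  have h1 := Cfsg.Agent.Lib.Helper1.index_inf_of_coprime (centralizer ({b} : Set G))
    (centralizer ({c} : Set G)) h
  have h2 : centralizer ({b} : Set G) ⊓ centralizer ({c} : Set G) ≤
      centralizer ({b * c} : Set G) := by
    intro x hx
    have hx1 : x ∈ centralizer ({b} : Set G) := (Subgroup.mem_inf.mp hx).1
    have hx2 : x ∈ centralizer ({c} : Set G) := (Subgroup.mem_inf.mp hx).2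
    rw [mem_cent] at hx1 hx2
    rw [mem_cent]
    calc x * (b * c) = x * b * c := by group
      _ = b * x * c := by rw [hx1]
      _ = b * (x * c) := by group
      _ = b * (c * x) := by rw [hx2]
      _ = b * c * x := by group
  unfold cs at *
  rw [← h1]
  exact index_dvd_of_le h2

/-- `b · c^G ⊆ (bc)^G` for classes of coprime sizes -/
theorem isConj_mul_conj_right [Finite G] {b c : G} (h : (cs b).Coprime (cs c)) (g : G) :
    IsConj (b * c) (b * (g * c * g⁻¹)) := by
  obtain ⟨u, hu, v, hv, rfl⟩ := exists_mul_of_coprime_cs h g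
  rw [mem_cent] at hu hv
  rw [isConj_iff]
  refine ⟨u, ?_⟩
  have e1 : v * c * v⁻¹ = c := by rw [hv]; group
  have e2 : u * b * u⁻¹ = b := by rw [hu]; group
  calc u * (b * c) * u⁻¹ = (u * b * u⁻¹) * (u * c * u⁻¹) := by group
    _ = b * (u * (v * c * v⁻¹) * u⁻¹) := by rw [e2, e1]
    _ = b * (u * v * c * (u * v)⁻¹) := by group

/-- `b^G · c ⊆ (bc)^G` for classes of coprime sizes -/
theorem isConj_conj_mul_left [Finite G] {b c : G} (h : (cs b).Coprime (cs c)) (g : G) :
    IsConj (b * c) ((g * b * g⁻¹) * c) := by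
  obtain ⟨v, hv, u, hu, rfl⟩ := exists_mul_of_coprime_cs h.symm g
  rw [mem_cent] at hu hv
  rw [isConj_iff]
  refine ⟨v, ?_⟩
  have e1 : u * b * u⁻¹ = b := by rw [hu]; group
  have e2 : v * c * v⁻¹ = c := by rw [hv]; group
  calc v * (b * c) * v⁻¹ = (v * b * v⁻¹) * (v * c * v⁻¹) := by group
    _ = (v * (u * b * u⁻¹) * v⁻¹) * c := by rw [e2, e1]
    _ = (v * u * b * (v * u)⁻¹) * c := by group

theorem cs_le_cs_mul_right [Finite G] {b c : G} (h : (cs b).Coprime (cs c)) :
    cs c ≤ cs (b * c) := by
  rw [cs_eq_card, cs_eq_card]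
  refine Nat.card_le_card_of_injective
    (fun x : {h : G // IsConj c h} => (⟨b * x.1, ?_⟩ : {h : G // IsConj (b * c) h})) ?_
  · obtain ⟨g, hg⟩ := isConj_iff.mp x.2
    rw [← hg]
    exact isConj_mul_conj_right h g
  · intro x y hxy
    have := congrArg Subtype.val hxy
    exact Subtype.ext (mul_left_cancel this)

theorem cs_le_cs_mul_left [Finite G] {b c : G} (h : (cs b).Coprime (cs c)) :
    cs b ≤ cs (b * c) := by
  rw [cs_eq_card, cs_eq_card]
  refine Nat.card_le_card_of_injective
    (fun x : {h : G // IsConj b h} => (⟨x.1 * c, ?_⟩ : {h : G // IsConj (b * c) h})) ?_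
  · obtain ⟨g, hg⟩ := isConj_iff.mp x.2
    rw [← hg]
    exact isConj_conj_mul_left h g
  · intro x y hxy
    have := congrArg Subtype.val hxy
    exact Subtype.ext (mul_right_cancel this)

/-- the conjugacy class of `c` as a set -/
def cls (c : G) : Set G := {h | IsConj c h}

theorem mem_cls {c h : G} : h ∈ cls c ↔ IsConj c h := Iff.rfl

theorem cls_finite [Finite G] (c : G) : (cls c).Finite := Set.toFinite _

/-- the left stabilizer of the class of `c` -/
def stabL (c : G) : Subgroup G := MulAction.stabilizer G (cls c)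

theorem mem_stabL [Finite G] {c x : G} : x ∈ stabL c ↔ ∀ h, IsConj c h → IsConj c (x * h) := by
  unfold stabL
  rw [MulAction.mem_stabilizer_set_iff_smul_set_subset (cls_finite c)]
  constructor
  · intro hsub h hh
    apply hsub
    exact ⟨h, hh, rfl⟩
  · rintro hx _ ⟨h, hh, rfl⟩
    exact hx h hh

instance stabL_normal [Finite G] (c : G) : (stabL c).Normal := by
  constructor
  intro x hx g
  rw [mem_stabL] at hx ⊢
  intro h hh
  have h1 : IsConj c (g⁻¹ * h * g) := by
    refine hh.trans (isConj_iff.mpr ⟨g⁻¹, by group⟩)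
  have h2 := hx _ h1
  refine h2.trans (isConj_iff.mpr ⟨g, by group⟩)

/-- if `cs (bc) = cs c` (coprime class sizes) then `b⁻¹ b^g` stabilizes the class of `c` -/
theorem mem_stabL_of_cs_mul_eq [Finite G] {b c : G} (h : (cs b).Coprime (cs c))
    (heq : cs (b * c) = cs c) (g : G) : b⁻¹ * (g * b * g⁻¹) ∈ stabL c := by
  rw [mem_stabL]
  intro x hx
  -- the map `y ↦ b * y` from the class of `c` to the class of `bc` is a bijection
  let f : {h : G // IsConj c h} → {h : G // IsConj (b * c) h} := fun y => ⟨b * y.1, by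
    obtain ⟨g', hg'⟩ := isConj_iff.mp y.2
    rw [← hg']
    exact isConj_mul_conj_right h g'⟩
  have hf : Function.Injective f := by
    intro y y' hyy
    have := congrArg Subtype.val hyy
    exact Subtype.ext (mul_left_cancel this)
  have hbij : Function.Bijective f := by
    apply hf.bijective_of_nat_card_le
    rw [← cs_eq_card, ← cs_eq_card, heq]
  -- `b^g * x` is in the class of `bc`
  have hb' : (cs (g * b * g⁻¹)).Coprime (cs c) := by rw [cs_conj]; exact h
  have h1 : IsConj (b * c) ((g * b * g⁻¹) * x) := by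
    obtain ⟨g', hg'⟩ := isConj_iff.mp hx
    rw [← hg']
    exact (isConj_conj_mul_left h g).trans (isConj_mul_conj_right hb' g')
  obtain ⟨y, hy⟩ := hbij.2 ⟨(g * b * g⁻¹) * x, h1⟩
  have hy' : b * y.1 = (g * b * g⁻¹) * x := congrArg Subtype.val hy
  have : b⁻¹ * (g * b * g⁻¹) * x = y.1 := by
    rw [mul_assoc, ← hy']; group
  rw [this]
  exact y.2

/-- a subgroup acting by left multiplication on a finite set: its order divides the size -/
theorem card_dvd_card_of_mul_mem [Finite G] (H : Subgroup G) (C : Set G)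
    (hC : ∀ h ∈ H, ∀ x ∈ C, h * x ∈ C) : Nat.card H ∣ Nat.card C := by
  classical
  letI : MulAction H C :=
    { smul := fun h x => ⟨(h : G) * x.1, hC h h.2 x.1 x.2⟩
      one_smul := fun x => Subtype.ext (one_mul _)
      mul_smul := fun a b x => Subtype.ext (mul_assoc _ _ _) }
  have hsmul : ∀ (h : H) (x : C), ((h • x : C) : G) = (h : G) * x.1 := fun _ _ => rfl
  letI : Fintype H := Fintype.ofFinite _
  letI : Fintype C := Fintype.ofFinite _
  letI : Fintype (Quotient (MulAction.orbitRel H C)) := Fintype.ofFinite _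
  have hst : ∀ b : C, MulAction.stabilizer H b = ⊥ := by
    intro b
    rw [Subgroup.eq_bot_iff_forall]
    intro h hh
    rw [MulAction.mem_stabilizer_iff] at hh
    have := congrArg Subtype.val hh
    rw [hsmul] at this
    have h1 : (h : G) = 1 := mul_eq_right.mp this
    exact Subtype.ext h1
  have key := MulAction.card_eq_sum_card_group_div_card_stabilizer H C
  have hterm : ∀ ω : Quotient (MulAction.orbitRel H C),
      Fintype.card H / Fintype.card (MulAction.stabilizer H ω.out) = Fintype.card H := by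
    intro ω
    have : Fintype.card (MulAction.stabilizer H ω.out) = 1 := by
      rw [← Nat.card_eq_fintype_card, hst]
      exact Subgroup.card_bot
    rw [this, Nat.div_one]
  rw [Finset.sum_congr rfl (fun ω _ => hterm ω), Finset.sum_const, smul_eq_mul] at key
  rw [Nat.card_eq_fintype_card, Nat.card_eq_fintype_card, key]
  exact dvd_mul_left _ _

theorem card_stabL_dvd [Finite G] (c : G) : Nat.card (stabL c) ∣ cs c := by
  rw [cs_eq_card]
  apply card_dvd_card_of_mul_mem (stabL c) {h | IsConj c h}
  intro x hx h hh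
  exact (mem_stabL.mp hx) h hh

/-- for a normal subgroup `N`: `|N : D ∩ N|` divides `|G : D|` -/
theorem relIndex_dvd_index_of_normal_right [Finite G] (D N : Subgroup G) [N.Normal] :
    D.relIndex N ∣ D.index := by
  have e1 : D.relIndex (D ⊔ N) = D.relIndex N := by
    have c1 := Cfsg.Agent.Lib.Helper1.card_sup_mul_card_inf D N
    have c2 := Cfsg.Agent.Lib.Helper1.card_mul_relIndex_of_le (le_sup_left : D ≤ D ⊔ N)
    have c3 := Cfsg.Agent.Lib.Helper1.card_mul_relIndex_of_le (inf_le_right : D ⊓ N ≤ N)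
    rw [Subgroup.inf_relIndex_right] at c3
    rw [← c2, ← c3] at c1
    have hD : 0 < Nat.card D := Nat.card_pos
    have hDN : 0 < Nat.card (D ⊓ N : Subgroup G) := Nat.card_pos
    have : Nat.card D * Nat.card (D ⊓ N : Subgroup G) * D.relIndex (D ⊔ N) =
        Nat.card D * Nat.card (D ⊓ N : Subgroup G) * D.relIndex N := by
      calc Nat.card D * Nat.card (D ⊓ N : Subgroup G) * D.relIndex (D ⊔ N)
          = Nat.card D * D.relIndex (D ⊔ N) * Nat.card (D ⊓ N : Subgroup G) := by ring
        _ = Nat.card D * (Nat.card (D ⊓ N : Subgroup G) * D.relIndex N) := c1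
        _ = _ := by ring
    exact Nat.eq_of_mul_eq_mul_left (Nat.mul_pos hD hDN) this
  have e2 := Subgroup.relIndex_mul_index (le_sup_left : D ≤ D ⊔ N)
  rw [e1] at e2
  exact Dvd.intro _ e2

end Cfsg.Agent.Lib.Helper9.ClassGraph
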