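import Mathlib
import Cfsg.Agent.Lib.Helper9.ClassGraph1

/-!
Class sizes: groups in which every class size is an `S`-number or an `S'`-number.
The subgroup `K` generated by the elements with `S`-number class size is abelian, normal and
consists exactly of those elements (when a class of maximal size has `S'`-number size).
-/

set_option autoImplicit false
set_option linter.style.haveILetI false
set_option linter.unusedSectionVars false

namespace Cfsg.Agent.Lib.Helper9.ClassGraph

open Subgroup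
open scoped Pointwise

variable {G : Type*} [Group G]

/-- class product lemma: `u` of `S`-type, `v` of `S'`-type, `cs u < cs v` -/
theorem mul_type_of_lt [Finite G] {S : Set ℕ} (dich : ∀ g : G, IsS S (cs g) ∨ IsS Sᶜ (cs g))
    {u v : G} (hu : IsS S (cs u)) (hv : IsS Sᶜ (cs v)) (hlt : cs u < cs v) :
    IsS Sᶜ (cs (u * v)) ∧ cs (u * v) = cs v ∧ ∀ g, u⁻¹ * (g * u * g⁻¹) ∈ stabL v := by
  have hcop := hu.coprime hv
  have hdvd := cs_mul_dvd hcop
  have hle1 := cs_le_cs_mul_right hcop
  rcases dich (u * v) with h | h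
  · exfalso
    have h1 : cs (u * v) ∣ cs u := by
      have hc : (cs (u * v)).Coprime (cs v) := h.coprime hv
      exact hc.dvd_of_dvd_mul_right hdvd
    have h2 := Nat.le_of_dvd (cs_pos u) h1
    omega
  · have h1 : cs (u * v) ∣ cs v := by
      have hc : (cs (u * v)).Coprime (cs u) := (hu.coprime h).symm
      exact hc.dvd_of_dvd_mul_left hdvd
    have h2 := Nat.le_of_dvd (cs_pos v) h1
    have heq : cs (u * v) = cs v := le_antisymm h2 hle1
    exact ⟨h, heq, fun g => mem_stabL_of_cs_mul_eq hcop heq g⟩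

theorem dich_compl {S : Set ℕ} (dich : ∀ g : G, IsS S (cs g) ∨ IsS Sᶜ (cs g)) :
    ∀ g : G, IsS Sᶜ (cs g) ∨ IsS Sᶜᶜ (cs g) := by
  intro g
  rcases dich g with h | h
  · exact Or.inr h.compl_compl
  · exact Or.inl h

/-- the data: every class size is an `S`-number or an `S'`-number, a class of maximal size
is of `S'`-type, and there is a noncentral element of `S`-type -/
structure Setup (G : Type*) [Group G] (S : Set ℕ) where
  c₀ : G
  b₀ : G
  dich : ∀ g : G, IsS S (cs g) ∨ IsS Sᶜ (cs g)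
  hc₀ : IsS Sᶜ (cs c₀)
  hmax : ∀ g : G, cs g ≤ cs c₀
  hb₀ : b₀ ∉ center G
  hb₀S : IsS S (cs b₀)

variable (S : Set ℕ)

/-- elements of `S`-type (including the centre) -/
def TS (G : Type*) [Group G] (S : Set ℕ) : Set G := {g | IsS S (cs g)}

/-- the subgroup generated by the elements of `S`-type -/
def KS (G : Type*) [Group G] (S : Set ℕ) : Subgroup G := closure (TS G S)

variable {S}

theorem mem_TS {g : G} : g ∈ TS G S ↔ IsS S (cs g) := Iff.rfl

theorem center_subset_TS : (center G : Set G) ⊆ TS G S := by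
  intro z hz
  rw [mem_TS, (cs_eq_one_iff z).mpr hz]
  exact isS_one S

theorem TS_conj {t : G} (ht : t ∈ TS G S) (g : G) : g * t * g⁻¹ ∈ TS G S := by
  rw [mem_TS, cs_conj]; exact ht

theorem TS_inv {t : G} (ht : t ∈ TS G S) : t⁻¹ ∈ TS G S := by
  rw [mem_TS, cs_inv]; exact ht

theorem TS_subset_KS : TS G S ⊆ KS G S := subset_closure

theorem center_le_KS : center G ≤ KS G S :=
  fun _ hz => TS_subset_KS (center_subset_TS hz)

instance KS_normal : (KS G S).Normal := by
  constructor
  intro n hn g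
  unfold KS at hn ⊢
  induction hn using closure_induction with
  | mem x hx => exact subset_closure (TS_conj hx g)
  | one => simp
  | mul x y _ _ hx hy =>
    have : g * (x * y) * g⁻¹ = (g * x * g⁻¹) * (g * y * g⁻¹) := by group
    rw [this]; exact mul_mem hx hy
  | inv x _ hx =>
    have : g * x⁻¹ * g⁻¹ = (g * x * g⁻¹)⁻¹ := by group
    rw [this]; exact inv_mem hx

namespace Setup

variable [Finite G] (h : Setup G S)
include h

theorem c₀_not_mem_center : h.c₀ ∉ center G := by
  intro hc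
  have h1 := one_lt_cs h.hb₀
  have h2 := h.hmax h.b₀
  rw [(cs_eq_one_iff h.c₀).mpr hc] at h2
  omega

theorem lt_max {b : G} (hb : b ∉ center G) (hbS : IsS S (cs b)) : cs b < cs h.c₀ := by
  have h1 := h.hmax b
  rcases Nat.lt_or_ge (cs b) (cs h.c₀) with h2 | h2
  · exact h2
  · exfalso
    have heq : cs b = cs h.c₀ := le_antisymm h1 h2
    have h3 : cs b = 1 := IsS.eq_one hbS (heq ▸ h.hc₀)
    exact hb ((cs_eq_one_iff b).mp h3)

/-- the normal `S'`-subgroup `M₀` -/
def M₀ : Subgroup G := stabL h.c₀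

instance M₀_normal : (h.M₀).Normal := stabL_normal h.c₀

theorem isS_card_M₀ : IsS Sᶜ (Nat.card h.M₀) :=
  h.hc₀.of_dvd (card_stabL_dvd h.c₀)

theorem comm_mem_M₀ {t : G} (ht : t ∈ TS G S) (g : G) : t⁻¹ * (g * t * g⁻¹) ∈ h.M₀ := by
  by_cases htc : t ∈ center G
  · have h1 : g * t = t * g := mem_center_iff.mp htc g
    have : t⁻¹ * (g * t * g⁻¹) = 1 := by rw [h1]; group
    rw [this]; exact one_mem _
  · exact (mul_type_of_lt h.dich ht h.hc₀ (h.lt_max htc ht)).2.2 g

/-- a normal subgroup of `S'`-order centralizes every element of `S`-type -/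
theorem normal_le_cent (N : Subgroup G) [N.Normal] (hN : IsS Sᶜ (Nat.card N)) {t : G}
    (ht : t ∈ TS G S) : N ≤ centralizer ({t} : Set G) := by
  rw [← relIndex_eq_one]
  have h1 : (centralizer ({t} : Set G)).relIndex N ∣ Nat.card N := relIndex_dvd_card _ _
  have h2 : (centralizer ({t} : Set G)).relIndex N ∣ cs t :=
    relIndex_dvd_index_of_normal_right _ N
  exact IsS.eq_one ((mem_TS.mp ht).of_dvd h2) (hN.of_dvd h1)

theorem M₀_le_cent {t : G} (ht : t ∈ TS G S) : h.M₀ ≤ centralizer ({t} : Set G) :=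
  h.normal_le_cent h.M₀ h.isS_card_M₀ ht

theorem KS_comm_mem_M₀ {k : G} (hk : k ∈ KS G S) (g : G) : k⁻¹ * (g * k * g⁻¹) ∈ h.M₀ := by
  unfold KS at hk
  induction hk using closure_induction generalizing g with
  | mem x hx => exact h.comm_mem_M₀ hx g
  | one => simp
  | mul x y _ _ hx hy =>
    have e : (x * y)⁻¹ * (g * (x * y) * g⁻¹) =
        (y⁻¹ * (x⁻¹ * (g * x * g⁻¹)) * y⁻¹⁻¹) * (y⁻¹ * (g * y * g⁻¹)) := by group
    rw [e]
    exact mul_mem (h.M₀_normal.conj_mem _ (hx g) _) (hy g)
  | inv x _ hx =>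
    have e : x⁻¹⁻¹ * (g * x⁻¹ * g⁻¹) = x * (x⁻¹ * (g * x * g⁻¹))⁻¹ * x⁻¹ := by group
    rw [e]
    exact h.M₀_normal.conj_mem _ (inv_mem (hx g)) _

theorem KS_le_cent_M₀ : KS G S ≤ centralizer (h.M₀ : Set G) := by
  unfold KS
  rw [closure_le]
  intro t ht
  rw [SetLike.mem_coe, mem_centralizer_iff]
  intro m hm
  have := h.M₀_le_cent ht hm
  rw [mem_cent] at this
  exact this

/-- every element of `S`-type centralizes `K` -/
theorem KS_le_cent {t : G} (ht : t ∈ TS G S) : KS G S ≤ centralizer ({t} : Set G) := by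
  rw [← relIndex_eq_one]
  have htK : t ∈ KS G S := TS_subset_KS ht
  -- the hom `x ↦ t⁻¹ x t x⁻¹` from `K` to `M₀`
  let φ : (KS G S) →* h.M₀ :=
    { toFun := fun x => ⟨t⁻¹ * ((x : G) * t * (x : G)⁻¹), h.comm_mem_M₀ ht x⟩
      map_one' := by
        apply Subtype.ext
        show t⁻¹ * (((1 : KS G S) : G) * t * ((1 : KS G S) : G)⁻¹) = ((1 : h.M₀) : G)
        simp
      map_mul' := by
        intro x y
        apply Subtype.ext
        show t⁻¹ * (((x * y : KS G S) : G) * t * ((x * y : KS G S) : G)⁻¹) =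
          (t⁻¹ * ((x : G) * t * (x : G)⁻¹)) * (t⁻¹ * ((y : G) * t * (y : G)⁻¹))
        have hm : t⁻¹ * ((y : G) * t * (y : G)⁻¹) ∈ h.M₀ := h.comm_mem_M₀ ht y
        have hc := h.KS_le_cent_M₀ x.2
        rw [mem_centralizer_iff] at hc
        have hc' := hc _ hm
        have e : ((x * y : KS G S) : G) = (x : G) * (y : G) := rfl
        rw [e]
        have hc'' : (t⁻¹ * ((y : G) * t * (y : G)⁻¹)) * (x : G)⁻¹ =
            (x : G)⁻¹ * (t⁻¹ * ((y : G) * t * (y : G)⁻¹)) := by
          calc (t⁻¹ * ((y : G) * t * (y : G)⁻¹)) * (x : G)⁻¹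
              = (x : G)⁻¹ * ((x : G) * (t⁻¹ * ((y : G) * t * (y : G)⁻¹))) * (x : G)⁻¹ := by group
            _ = (x : G)⁻¹ * ((t⁻¹ * ((y : G) * t * (y : G)⁻¹)) * (x : G)) * (x : G)⁻¹ := by
                rw [hc']
            _ = (x : G)⁻¹ * (t⁻¹ * ((y : G) * t * (y : G)⁻¹)) := by group
        calc t⁻¹ * ((x : G) * (y : G) * t * ((x : G) * (y : G))⁻¹)
            = t⁻¹ * (x : G) * t * ((t⁻¹ * ((y : G) * t * (y : G)⁻¹)) * (x : G)⁻¹) := by group
          _ = t⁻¹ * (x : G) * t * ((x : G)⁻¹ * (t⁻¹ * ((y : G) * t * (y : G)⁻¹))) := by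
              rw [hc'']
          _ = _ := by group }
  have hker : φ.ker = (centralizer ({t} : Set G)).subgroupOf (KS G S) := by
    ext x
    rw [MonoidHom.mem_ker, mem_subgroupOf, mem_cent]
    constructor
    · intro hx
      have h1 : t⁻¹ * ((x : G) * t * (x : G)⁻¹) = 1 := congrArg Subtype.val hx
      have h2 : (x : G) * t * (x : G)⁻¹ = t := by
        have := congrArg (fun z => t * z) h1
        simpa [mul_assoc] using this
      calc (x : G) * t = ((x : G) * t * (x : G)⁻¹) * x := by group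
        _ = t * x := by rw [h2]
    · intro hx
      apply Subtype.ext
      show t⁻¹ * ((x : G) * t * (x : G)⁻¹) = 1
      rw [hx]; group
  have h1 : (centralizer ({t} : Set G)).relIndex (KS G S) ∣ Nat.card h.M₀ := by
    unfold relIndex
    rw [← hker, index_ker]
    exact card_subgroup_dvd_card _
  have h2 : (centralizer ({t} : Set G)).relIndex (KS G S) ∣ cs t :=
    relIndex_dvd_index_of_normal_right _ (KS G S)
  exact IsS.eq_one ((mem_TS.mp ht).of_dvd h2) (h.isS_card_M₀.of_dvd h1)

theorem KS_comm {x y : G} (hx : x ∈ KS G S) (hy : y ∈ KS G S) : x * y = y * x := by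
  have key : ∀ t ∈ TS G S, ∀ k ∈ KS G S, k * t = t * k := by
    intro t ht k hk
    have := h.KS_le_cent ht hk
    rwa [mem_cent] at this
  have hle : KS G S ≤ centralizer (KS G S : Set G) := by
    unfold KS
    rw [closure_le]
    intro t ht
    rw [SetLike.mem_coe, mem_centralizer_iff]
    intro k hk
    exact key t ht k hk
  have := hle hy
  rw [mem_centralizer_iff] at this
  exact this x hx

end Setup

end Cfsg.Agent.Lib.Helper9.ClassGraph
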