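import Mathlib
import Cfsg.Agent.Lib.Helper9.ClassGraph2

/-!
Class sizes: in the two-type situation, `K = {g : cs g is an S-number}`, `C_G(K) = K`,
`G/K` is an `S`-group, and `C_K(c) = Z(G)` for `c ∉ K`.
-/

set_option autoImplicit false
set_option linter.style.haveILetI false
set_option linter.unusedSectionVars false

namespace Cfsg.Agent.Lib.Helper9.ClassGraph

open Subgroup
open scoped Pointwise

variable {G : Type*} [Group G]

/-- Bezout for powers in a subgroup -/
theorem mem_of_pow_mem_of_coprime (H : Subgroup G) {x : G} {e f : ℕ} (hcop : Nat.Coprime e f)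
    (h1 : x ^ e ∈ H) (h2 : x ^ f ∈ H) : x ∈ H := by
  have hb : (1 : ℤ) = e * Nat.gcdA e f + f * Nat.gcdB e f := by
    have := Nat.gcd_eq_gcd_ab e f
    rw [hcop.gcd_eq_one] at this
    exact_mod_cast this
  have : x = (x ^ e) ^ (Nat.gcdA e f) * (x ^ f) ^ (Nat.gcdB e f) := by
    rw [← zpow_natCast x e, ← zpow_natCast x f, ← zpow_mul, ← zpow_mul, ← zpow_add, ← hb, zpow_one]
  rw [this]
  exact mul_mem (zpow_mem h1 _) (zpow_mem h2 _)

theorem conj_mem_of_smul_eq {p : ℕ} [Fact p.Prime] {P Q : Sylow p G} {y : G} (hy : y • P = Q)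
    {s : G} (hs : s ∈ (P : Subgroup G)) : y * s * y⁻¹ ∈ (Q : Subgroup G) := by
  subst hy
  show y * s * y⁻¹ ∈ ((y • P : Sylow p G) : Subgroup G)
  rw [Sylow.smul_def, Sylow.pointwise_smul_def]
  have := smul_mem_pointwise_smul s (MulAut.conj y) (P : Subgroup G) hs
  simpa [MulAut.smul_def, MulAut.conj_apply] using this

variable {S : Set ℕ}

/-- `Q`-type: noncentral with `S'`-number class size -/
def QT (S : Set ℕ) (c : G) : Prop := c ∉ center G ∧ IsS Sᶜ (cs c)

namespace Setup

variable [Finite G] (h : Setup G S)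
include h

/-- every class of `S'`-type is larger than every class of `S`-type -/
theorem lt_of_types {b c : G} (hb : b ∉ center G) (hbS : IsS S (cs b)) (hc : c ∉ center G)
    (hcS : IsS Sᶜ (cs c)) : cs b < cs c := by
  by_contra hlt
  have hne : cs b ≠ cs c := by
    intro e
    have : cs b = 1 := IsS.eq_one hbS (e ▸ hcS)
    exact hb ((cs_eq_one_iff b).mp this)
  have hlt' : cs c < cs b := by omega
  obtain ⟨h1, _, h3⟩ := mul_type_of_lt (S := Sᶜ) (dich_compl h.dich) hcS hbS.compl_compl hlt'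
  have hcb : c * b ∈ TS G S := by
    rw [mem_TS]
    rwa [_root_.compl_compl] at h1
  have hcK : c ∈ KS G S := by
    have : c = (c * b) * b⁻¹ := by group
    rw [this]
    exact mul_mem (TS_subset_KS hcb) (TS_subset_KS (TS_inv (mem_TS.mpr hbS)))
  have hcard : IsS S (Nat.card (stabL b)) := hbS.of_dvd (card_stabL_dvd b)
  have hdisj : Disjoint h.M₀ (stabL b) :=
    disjoint_of_coprime_natCard (hcard.coprime h.isS_card_M₀).symm
  apply hc
  rw [mem_center_iff]
  intro g
  have hx1 := h.KS_comm_mem_M₀ hcK g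
  have hx2 := h3 g
  have h1' : c⁻¹ * (g * c * g⁻¹) = 1 := (disjoint_def.mp hdisj) hx1 hx2
  have h2' : g * c * g⁻¹ = c := by
    have := congrArg (fun z => c * z) h1'
    simpa [mul_assoc] using this
  calc g * c = (g * c * g⁻¹) * g := by group
    _ = c * g := by rw [h2']

theorem mul_QT {b c : G} (hb : b ∈ TS G S) (hc : QT S c) : QT S (b * c) := by
  obtain ⟨hc1, hc2⟩ := hc
  by_cases hbc : b ∈ center G
  · have e : b * c = c * b := (mem_center_iff.mp hbc c).symm
    constructor
    · intro hcen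
      apply hc1
      have : c = b⁻¹ * (b * c) := by group
      rw [this]
      exact mul_mem (inv_mem hbc) hcen
    · rw [e, cs_mul_central c hbc]; exact hc2
  · obtain ⟨h1, h2, _⟩ := mul_type_of_lt h.dich (mem_TS.mp hb) hc2
      (h.lt_of_types hbc (mem_TS.mp hb) hc1 hc2)
    refine ⟨?_, h1⟩
    intro hcen
    have h3 := (cs_eq_one_iff _).mpr hcen
    have h4 := one_lt_cs hc1
    omega

theorem KS_mul_QT {k c : G} (hk : k ∈ KS G S) (hc : QT S c) : QT S (k * c) := by
  unfold KS at hk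
  induction hk using closure_induction generalizing c with
  | mem x hx => exact h.mul_QT hx hc
  | one => simpa using hc
  | mul x y _ _ hx hy =>
    rw [mul_assoc]
    exact hx (hy hc)
  | inv x _ hx =>
    have hpow : ∀ n : ℕ, ∀ c' : G, QT S c' → QT S (x ^ n * c') := by
      intro n
      induction n with
      | zero => intro c' hc'; simpa using hc'
      | succ n ih =>
        intro c' hc'
        rw [pow_succ, mul_assoc]
        exact ih _ (hx hc')
    have hinv : x⁻¹ = x ^ (orderOf x - 1) := by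
      have hpos : 0 < orderOf x := orderOf_pos x
      have : x ^ (orderOf x - 1) * x = 1 := by
        rw [← pow_succ, Nat.sub_add_cancel hpos, pow_orderOf_eq_one]
      exact (eq_inv_of_mul_eq_one_left this).symm
    rw [hinv]
    exact hpow _ c hc

/-- `K` consists exactly of the elements of `S`-type -/
theorem mem_KS_iff {k : G} : k ∈ KS G S ↔ IsS S (cs k) := by
  constructor
  · intro hk
    rcases h.dich k with h1 | h1
    · exact h1
    · by_cases hkc : k ∈ center G
      · rw [(cs_eq_one_iff k).mpr hkc]; exact isS_one S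
      · exfalso
        have h2 := h.KS_mul_QT (inv_mem hk) ⟨hkc, h1⟩
        rw [inv_mul_cancel] at h2
        exact h2.1 (one_mem _)
  · intro hk
    exact TS_subset_KS hk

theorem isS_compl_of_not_mem {c : G} (hc : c ∉ KS G S) : IsS Sᶜ (cs c) := by
  rcases h.dich c with h1 | h1
  · exact absurd (h.mem_KS_iff.mpr h1) hc
  · exact h1

theorem b₀_mem_KS : h.b₀ ∈ KS G S := h.mem_KS_iff.mpr h.hb₀S

theorem c₀_not_mem_KS : h.c₀ ∉ KS G S := by
  intro hc
  have h1 := IsS.eq_one (h.mem_KS_iff.mp hc) h.hc₀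
  exact h.c₀_not_mem_center ((cs_eq_one_iff _).mp h1)

/-- an element outside `K` is centralized by some Sylow `p`-subgroup, `p ∈ S` -/
theorem exists_sylow_le_cent {p : ℕ} [hp : Fact p.Prime] (hpS : p ∈ S) {c : G}
    (hc : c ∉ KS G S) : ∃ Q : Sylow p G, (Q : Subgroup G) ≤ centralizer ({c} : Set G) := by
  have hcS := h.isS_compl_of_not_mem hc
  have hpn : ¬ p ∣ (centralizer ({c} : Set G)).index := fun hd => hcS p hp.out hd hpS
  obtain ⟨Q, hQ, _⟩ := Cfsg.Agent.Lib.Helper22.exists_sylow_le_mem_of_not_dvd_index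
    (centralizer ({c} : Set G)) hpn 1 (one_mem _) 0 (by simp)
  exact ⟨Q, hQ⟩

/-- `G = C_G(P) K` for a Sylow `p`-subgroup `P`, `p ∈ S` -/
theorem cent_sylow_sup_KS {p : ℕ} [hp : Fact p.Prime] (hpS : p ∈ S) (P : Sylow p G) :
    centralizer ((P : Subgroup G) : Set G) ⊔ KS G S = ⊤ := by
  by_contra hne
  obtain ⟨g, hg⟩ := Cfsg.Agent.Lib.Helper22.exists_forall_conj_not_mem _ hne
  by_cases hgK : g ∈ KS G S
  · apply hg 1
    have : (1 : G)⁻¹ * g * 1 = g := by group
    rw [this]
    exact mem_sup_right hgK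
  · obtain ⟨Q, hQ⟩ := h.exists_sylow_le_cent hpS hgK
    obtain ⟨y, hy⟩ := MulAction.exists_smul_eq G P Q
    apply hg y
    apply mem_sup_left
    rw [mem_centralizer_iff]
    intro s hs
    have h1 := hQ (conj_mem_of_smul_eq hy hs)
    rw [mem_cent] at h1
    calc s * (y⁻¹ * g * y) = y⁻¹ * ((y * s * y⁻¹) * g) * y := by group
      _ = y⁻¹ * (g * (y * s * y⁻¹)) * y := by rw [h1]
      _ = y⁻¹ * g * y * s := by group

/-- `C_G(K) = K` -/
theorem cent_KS_le : centralizer (KS G S : Set G) ≤ KS G S := by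
  intro c hc
  by_contra hcK
  have hne : cs h.b₀ ≠ 1 := fun e => h.hb₀ ((cs_eq_one_iff _).mp e)
  obtain ⟨p, hp, hpd⟩ := Nat.exists_prime_and_dvd hne
  have hpS := h.hb₀S p hp hpd
  haveI : Fact p.Prime := ⟨hp⟩
  let P : Sylow p G := default
  have claim : ∀ c' : G, c' ∈ centralizer (KS G S : Set G) → c' ∉ KS G S →
      c' ∈ centralizer ((P : Subgroup G) : Set G) := by
    intro c' hc' hc'K
    obtain ⟨Q, hQ⟩ := h.exists_sylow_le_cent hpS hc'K
    obtain ⟨y, hy⟩ := MulAction.exists_smul_eq G P Q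
    have hy' : y ∈ KS G S ⊔ centralizer ((P : Subgroup G) : Set G) := by
      rw [sup_comm, h.cent_sylow_sup_KS hpS P]; trivial
    obtain ⟨k, hk, a, ha, rfl⟩ := mem_sup_of_normal_left.mp hy'
    rw [mem_centralizer_iff]
    intro s hs
    have h1 := hQ (conj_mem_of_smul_eq hy hs)
    rw [mem_cent] at h1
    rw [mem_centralizer_iff] at ha hc'
    have has : s * a = a * s := ha s hs
    have hkc : k * c' = c' * k := hc' k hk
    have e1 : k * a * s * (k * a)⁻¹ = k * s * k⁻¹ := by
      calc k * a * s * (k * a)⁻¹ = k * (a * s) * a⁻¹ * k⁻¹ := by group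
        _ = k * (s * a) * a⁻¹ * k⁻¹ := by rw [has]
        _ = k * s * k⁻¹ := by group
    rw [e1] at h1
    have hkc' : k⁻¹ * c' = c' * k⁻¹ := by
      calc k⁻¹ * c' = k⁻¹ * (c' * k) * k⁻¹ := by group
        _ = k⁻¹ * (k * c') * k⁻¹ := by rw [hkc]
        _ = c' * k⁻¹ := by group
    calc s * c' = k⁻¹ * (k * s * k⁻¹) * (k * c') := by group
      _ = k⁻¹ * (k * s * k⁻¹) * (c' * k) := by rw [hkc]
      _ = k⁻¹ * ((k * s * k⁻¹) * c') * k := by group
      _ = k⁻¹ * (c' * (k * s * k⁻¹)) * k := by rw [h1]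
      _ = (k⁻¹ * c') * (k * s * k⁻¹) * k := by group
      _ = (c' * k⁻¹) * (k * s * k⁻¹) * k := by rw [hkc']
      _ = c' * s := by group
  have hKle : KS G S ≤ centralizer ((P : Subgroup G) : Set G) := by
    intro k hk
    have hkcent : k ∈ centralizer (KS G S : Set G) := by
      rw [mem_centralizer_iff]
      intro k' hk'
      exact h.KS_comm hk' hk
    have h1 : k * c⁻¹ ∈ centralizer (KS G S : Set G) := mul_mem hkcent (inv_mem hc)
    have h2 : k * c⁻¹ ∉ KS G S := by
      intro hmem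
      apply hcK
      have : c = (k * c⁻¹)⁻¹ * k := by group
      rw [this]
      exact mul_mem (inv_mem hmem) hk
    have h3 := claim _ h1 h2
    have h4 := claim c hc hcK
    have : k = (k * c⁻¹) * c := by group
    rw [this]
    exact mul_mem h3 h4
  have hb := hKle h.b₀_mem_KS
  have hPle : (P : Subgroup G) ≤ centralizer ({h.b₀} : Set G) := by
    intro s hs
    rw [mem_centralizer_iff] at hb
    rw [mem_cent]
    exact hb s hs
  have hdvd : cs h.b₀ ∣ (P : Subgroup G).index := index_dvd_of_le hPle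
  exact P.not_dvd_index (hpd.trans hdvd)

/-- Sylow `r`-subgroups for `r ∉ S` lie in `K` -/
theorem sylow_le_KS {r : ℕ} [hr : Fact r.Prime] (hrS : r ∉ S) (R : Sylow r G) :
    (R : Subgroup G) ≤ KS G S := by
  intro c hcR
  by_contra hcK
  apply hcK
  apply h.cent_KS_le
  have hcS := h.isS_compl_of_not_mem hcK
  suffices hsuff : KS G S ≤ centralizer ({c} : Set G) by
    rw [mem_centralizer_iff]
    intro k hk
    have := hsuff hk
    rwa [mem_cent] at this
  unfold KS
  rw [closure_le]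
  intro t ht
  rw [SetLike.mem_coe, mem_cent]
  have htS : IsS S (cs t) := ht
  have hrn : ¬ r ∣ (centralizer ({t} : Set G)).index := fun hd => hrS (htS r hr.out hd)
  obtain ⟨R', hR', _⟩ := Cfsg.Agent.Lib.Helper22.exists_sylow_le_mem_of_not_dvd_index
    (centralizer ({t} : Set G)) hrn 1 (one_mem _) 0 (by simp)
  obtain ⟨y, hy⟩ := MulAction.exists_smul_eq G R R'
  obtain ⟨v, hv, x, hx, rfl⟩ := exists_mul_of_coprime_cs (htS.coprime hcS) y
  have h1 := hR' (conj_mem_of_smul_eq hy hcR)
  rw [mem_cent] at h1 hv hx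
  have e1 : v * x * c * (v * x)⁻¹ = v * c * v⁻¹ := by
    calc v * x * c * (v * x)⁻¹ = v * (x * c) * x⁻¹ * v⁻¹ := by group
      _ = v * (c * x) * x⁻¹ * v⁻¹ := by rw [hx]
      _ = v * c * v⁻¹ := by group
  rw [e1] at h1
  have hv' : v⁻¹ * t = t * v⁻¹ := by
    calc v⁻¹ * t = v⁻¹ * (t * v) * v⁻¹ := by group
      _ = v⁻¹ * (v * t) * v⁻¹ := by rw [hv]
      _ = t * v⁻¹ := by group
  calc t * c = t * v⁻¹ * (v * c * v⁻¹) * v := by group
    _ = v⁻¹ * t * (v * c * v⁻¹) * v := by rw [← hv']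
    _ = v⁻¹ * (t * (v * c * v⁻¹)) * v := by group
    _ = v⁻¹ * ((v * c * v⁻¹) * t) * v := by rw [h1]
    _ = v⁻¹ * (v * c * v⁻¹) * (t * v) := by group
    _ = v⁻¹ * (v * c * v⁻¹) * (v * t) := by rw [hv]
    _ = c * t := by group

end Setup

end Cfsg.Agent.Lib.Helper9.ClassGraph
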