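import Mathlib
import Cfsg.Agent.Lib.Helper9.ClassGraph3
import Cfsg.Agent.Lib.Helper22.Frobenius

/-!
Class sizes: the two-type situation gives a quasi-Frobenius group with abelian kernel `K` and
abelian complements `C_G(c)`, `c ∉ K`.
-/

set_option autoImplicit false
set_option linter.style.haveILetI false
set_option linter.unusedSectionVars false

namespace Cfsg.Agent.Lib.Helper9.ClassGraph

open Subgroup
open scoped Pointwise

variable {G : Type*} [Group G] {S : Set ℕ}

namespace Setup

variable [Finite G] (h : Setup G S)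
include h

/-- `G/K` is an `S`-group -/
theorem isS_index_KS : IsS S (KS G S).index := by
  intro r hr hrd
  by_contra hrS
  haveI : Fact r.Prime := ⟨hr⟩
  let R : Sylow r G := default
  have h1 := index_dvd_of_le (h.sylow_le_KS hrS R)
  exact R.not_dvd_index (hrd.trans h1)

theorem coprime_index_card : Nat.Coprime (KS G S).index (Nat.card h.M₀) :=
  h.isS_index_KS.coprime h.isS_card_M₀

/-- `k ^ |M₀|` is central for `k ∈ K` -/
theorem pow_card_M₀_mem_center {k : G} (hk : k ∈ KS G S) : k ^ (Nat.card h.M₀) ∈ center G := by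
  rw [mem_center_iff]
  intro g
  have hm := h.KS_comm_mem_M₀ hk g
  have hcomm : Commute k (k⁻¹ * (g * k * g⁻¹)) := by
    have := h.KS_le_cent_M₀ hk
    rw [mem_centralizer_iff] at this
    exact (this _ hm).symm
  have hpow : (k⁻¹ * (g * k * g⁻¹)) ^ (Nat.card h.M₀) = 1 := by
    have := pow_card_eq_one' (G := h.M₀) (x := ⟨_, hm⟩)
    exact congrArg Subtype.val this
  have e1 : g * k * g⁻¹ = k * (k⁻¹ * (g * k * g⁻¹)) := by group
  have e2 : g * k ^ (Nat.card h.M₀) * g⁻¹ = k ^ (Nat.card h.M₀) := by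
    rw [← conj_pow, e1, hcomm.mul_pow, hpow, mul_one]
  calc g * k ^ (Nat.card h.M₀) = (g * k ^ (Nat.card h.M₀) * g⁻¹) * g := by group
    _ = k ^ (Nat.card h.M₀) * g := by rw [e2]

/-- `C_K(c) = Z(G)` for `c ∉ K` -/
theorem cent_inf_KS_le_center {c : G} (hc : c ∉ KS G S) :
    centralizer ({c} : Set G) ⊓ KS G S ≤ center G := by
  intro b hb
  have hbc : b ∈ centralizer ({c} : Set G) := (Subgroup.mem_inf.mp hb).1
  have hbK : b ∈ KS G S := (Subgroup.mem_inf.mp hb).2
  by_contra hbZ
  set e := (KS G S).index with he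
  set f := Nat.card h.M₀ with hf
  have hcop : Nat.Coprime e f := h.coprime_index_card
  have hbf : b ^ f ∈ center G := h.pow_card_M₀_mem_center hbK
  have hce : c ^ e ∈ KS G S := pow_index_mem (KS G S) c
  have hcef : (c ^ f) ^ e ∈ center G := by
    have := h.pow_card_M₀_mem_center hce
    rw [← pow_mul, mul_comm, pow_mul] at this
    exact this
  have hc' : c ^ f ∉ KS G S := by
    intro hmem
    exact hc (mem_of_pow_mem_of_coprime (KS G S) hcop hce hmem)
  have hcomm : Commute b (c ^ f) := by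
    rw [mem_cent] at hbc
    exact (Commute.pow_right (show Commute b c from hbc) f)
  -- `C(b c') ≤ C(b)`
  have hle : centralizer ({b * c ^ f} : Set G) ≤ centralizer ({b} : Set G) := by
    intro x hx
    rw [mem_cent] at hx ⊢
    -- `x` commutes with `(b c')^e = b^e * (c'^e)`
    have h1 : Commute x ((b * c ^ f) ^ e) := Commute.pow_right hx e
    rw [hcomm.mul_pow] at h1
    have h2 : Commute x (b ^ e) := by
      have hz := mem_center_iff.mp hcef
      have : Commute x ((c ^ f) ^ e) := hz x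
      have h3 : Commute x (b ^ e * (c ^ f) ^ e * ((c ^ f) ^ e)⁻¹) := h1.mul_right this.inv_right
      simpa using h3
    have h3 : Commute x (b ^ f) := (mem_center_iff.mp hbf) x
    have h4 : b ∈ centralizer ({x} : Set G) := by
      apply mem_of_pow_mem_of_coprime _ hcop
      · rw [mem_cent]; exact h2.symm
      · rw [mem_cent]; exact h3.symm
    rw [mem_cent] at h4
    exact h4.symm
  have hdvd : cs b ∣ cs (b * c ^ f) := index_dvd_of_le hle
  have hnot : b * c ^ f ∉ KS G S := by
    intro hmem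
    apply hc'
    have : c ^ f = b⁻¹ * (b * c ^ f) := by group
    rw [this]
    exact mul_mem (inv_mem hbK) hmem
  have h1 : IsS Sᶜ (cs b) := (h.isS_compl_of_not_mem hnot).of_dvd hdvd
  have h2 : IsS S (cs b) := h.mem_KS_iff.mp hbK
  exact hbZ ((cs_eq_one_iff b).mp (IsS.eq_one h2 h1))

theorem cent_sup_KS {c : G} (hc : c ∉ KS G S) : KS G S ⊔ centralizer ({c} : Set G) = ⊤ := by
  rw [← index_eq_one]
  have h1 : (KS G S ⊔ centralizer ({c} : Set G)).index ∣ cs c := index_dvd_of_le le_sup_right
  have h2 : (KS G S ⊔ centralizer ({c} : Set G)).index ∣ (KS G S).index :=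
    index_dvd_of_le le_sup_left
  exact IsS.eq_one (h.isS_index_KS.of_dvd h2) ((h.isS_compl_of_not_mem hc).of_dvd h1)

/-- fixed-point-freeness modulo the centre -/
theorem mem_center_of_comm_mem_center {k x : G} (hk : k ∈ KS G S) (hx : x ∉ KS G S)
    (hz : k⁻¹ * (x * k * x⁻¹) ∈ center G) : k ∈ center G := by
  set z := k⁻¹ * (x * k * x⁻¹) with hzdef
  have hzM : z ∈ h.M₀ := h.KS_comm_mem_M₀ hk x
  have hz' := mem_center_iff.mp hz
  have hconj : x * k * x⁻¹ = k * z := by rw [hzdef]; group
  have hpow : ∀ n : ℕ, x ^ n * k * (x ^ n)⁻¹ = k * z ^ n := by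
    intro n
    induction n with
    | zero => simp
    | succ n ih =>
      calc x ^ (n + 1) * k * (x ^ (n + 1))⁻¹ = x * (x ^ n * k * (x ^ n)⁻¹) * x⁻¹ := by
            rw [pow_succ']; group
        _ = x * (k * z ^ n) * x⁻¹ := by rw [ih]
        _ = (x * k * x⁻¹) * (x * z ^ n * x⁻¹) := by group
        _ = (k * z) * z ^ n := by
            rw [hconj]
            have : x * z ^ n * x⁻¹ = z ^ n := by
              have hc : Commute x (z ^ n) := Commute.pow_right (hz' x) n
              rw [hc.eq]; group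
            rw [this]
        _ = k * z ^ (n + 1) := by rw [pow_succ']; group
  set e := (KS G S).index with he
  have hxe : x ^ e ∈ KS G S := pow_index_mem (KS G S) x
  have h1 : z ^ e = 1 := by
    have h2 := hpow e
    have h3 : x ^ e * k = k * x ^ e := h.KS_comm hxe hk
    rw [h3] at h2
    have h4 : k * x ^ e * (x ^ e)⁻¹ = k := by group
    rw [h4] at h2
    exact (mul_eq_left.mp h2.symm)
  have h2 : z ^ (Nat.card h.M₀) = 1 := by
    have := pow_card_eq_one' (G := h.M₀) (x := ⟨z, hzM⟩)
    exact congrArg Subtype.val this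
  have hz1 : z = 1 := by
    have := mem_of_pow_mem_of_coprime (⊥ : Subgroup G) h.coprime_index_card
      (x := z) (by rw [h1]; exact one_mem _) (by rw [h2]; exact one_mem _)
    exact Subgroup.mem_bot.mp this
  rw [hz1, mul_one] at hconj
  apply h.cent_inf_KS_le_center hx
  refine Subgroup.mem_inf.mpr ⟨?_, hk⟩
  rw [mem_cent]
  calc k * x = (x * k * x⁻¹) * x := by rw [hconj]
    _ = x * k := by group

/-- centralizers of elements outside `K` are nested, hence equal -/
theorem cent_le_cent {c x : G} (hc : c ∉ KS G S) (hxc : x ∈ centralizer ({c} : Set G))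
    (hx : x ∉ KS G S) : centralizer ({x} : Set G) ≤ centralizer ({c} : Set G) := by
  intro y hy
  have hy' : y ∈ KS G S ⊔ centralizer ({c} : Set G) := by rw [h.cent_sup_KS hc]; trivial
  obtain ⟨k, hk, a, ha, rfl⟩ := mem_sup_of_normal_left.mp hy'
  suffices hkZ : k ∈ center G by
    refine mul_mem ?_ ha
    rw [mem_cent]
    exact mem_center_iff.mp hkZ c |>.symm
  rw [mem_cent] at hy
  -- `k⁻¹ x k = a x a⁻¹ ∈ C(c)`
  have e1 : k⁻¹ * x * k = a * x * a⁻¹ := by
    calc k⁻¹ * x * k = k⁻¹ * x * (k * a) * a⁻¹ := by group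
      _ = k⁻¹ * (x * (k * a)) * a⁻¹ := by group
      _ = k⁻¹ * ((k * a) * x) * a⁻¹ := by rw [hy]
      _ = a * x * a⁻¹ := by group
  have h1 : k⁻¹ * x * k ∈ centralizer ({c} : Set G) := by
    rw [e1]
    exact mul_mem (mul_mem ha hxc) (inv_mem ha)
  -- `w = k⁻¹ (x k x⁻¹)`
  have hw1 : k⁻¹ * (x * k * x⁻¹) ∈ centralizer ({c} : Set G) := by
    have : k⁻¹ * (x * k * x⁻¹) = (k⁻¹ * x * k) * x⁻¹ := by group
    rw [this]
    exact mul_mem h1 (inv_mem hxc)
  have hw2 : k⁻¹ * (x * k * x⁻¹) ∈ KS G S :=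
    mul_mem (inv_mem hk) (KS_normal.conj_mem k hk x)
  have hw : k⁻¹ * (x * k * x⁻¹) ∈ center G :=
    h.cent_inf_KS_le_center hc (Subgroup.mem_inf.mpr ⟨hw1, hw2⟩)
  exact h.mem_center_of_comm_mem_center hk hx hw

theorem cent_comm {c : G} (hc : c ∉ KS G S) {x y : G} (hx : x ∈ centralizer ({c} : Set G))
    (hy : y ∈ centralizer ({c} : Set G)) : x * y = y * x := by
  by_cases hxK : x ∈ KS G S
  · have := h.cent_inf_KS_le_center hc (Subgroup.mem_inf.mpr ⟨hx, hxK⟩)
    exact (mem_center_iff.mp this y).symm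
  · have hcx : c ∈ centralizer ({x} : Set G) := by
      rw [mem_cent] at hx ⊢
      exact hx.symm
    have h1 := h.cent_le_cent hxK hcx hc hy
    rw [mem_cent] at h1
    exact h1.symm

end Setup

end Cfsg.Agent.Lib.Helper9.ClassGraph
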