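import Mathlib
import Cfsg.Agent.Lib.Helper9.ClassGraph4

/-!
Class sizes: the two-type situation gives `G/Z(G)` Frobenius with abelian kernel `K/Z` and abelian
complement `C_G(c)/Z`; the disconnected prime graph theorem.
-/

set_option autoImplicit false
set_option linter.style.haveILetI false
set_option linter.unusedSectionVars false

namespace Cfsg.Agent.Lib.Helper9.ClassGraph

open Subgroup
open scoped Pointwise

variable {G : Type*} [Group G] {S : Set ℕ}

namespace Setup

variable [Finite G] (h : Setup G S)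
include h

theorem not_mem_KS_of_not_mem_center {c a : G} (hc : c ∉ KS G S)
    (ha : a ∈ centralizer ({c} : Set G)) (haZ : a ∉ center G) : a ∉ KS G S := by
  intro haK
  exact haZ (h.cent_inf_KS_le_center hc (Subgroup.mem_inf.mpr ⟨ha, haK⟩))

/-- `G/Z(G)` is a Frobenius group with kernel `K/Z` and complement `C_G(c)/Z` -/
theorem frobenius {c : G} (hc : c ∉ KS G S) :
    Cfsg.IsFrobeniusComplement ((centralizer ({c} : Set G)).map (QuotientGroup.mk' (center G))) ∧
    Cfsg.frobeniusKernel ((centralizer ({c} : Set G)).map (QuotientGroup.mk' (center G))) =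
      (((KS G S).map (QuotientGroup.mk' (center G)) : Subgroup (G ⧸ center G)) :
        Set (G ⧸ center G)) := by
  haveI : ((KS G S).map (QuotientGroup.mk' (center G))).Normal :=
    Subgroup.Normal.map KS_normal _ (QuotientGroup.mk'_surjective _)
  apply Cfsg.Agent.Lib.Helper22.frobenius_of_fpf
  · -- disjoint
    rw [Subgroup.eq_bot_iff_forall]
    intro x hx
    obtain ⟨⟨k, hk, rfl⟩, ⟨a, ha, hka⟩⟩ := Subgroup.mem_inf.mp hx
    have h1 : a⁻¹ * k ∈ center G := by
      have : (QuotientGroup.mk a : G ⧸ center G) = QuotientGroup.mk k := hka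
      exact QuotientGroup.eq.mp this
    have h2 : a ∈ KS G S := by
      have : a = k * (a⁻¹ * k)⁻¹ := by group
      rw [this]
      exact mul_mem hk (inv_mem (center_le_KS h1))
    have h3 := h.cent_inf_KS_le_center hc (Subgroup.mem_inf.mpr ⟨ha, h2⟩)
    have h4 : k ∈ center G := by
      have : k = a * (a⁻¹ * k) := by group
      rw [this]
      exact mul_mem h3 h1
    exact (QuotientGroup.eq_one_iff k).mpr h4
  · -- sup
    rw [← Subgroup.map_sup, h.cent_sup_KS hc, ← MonoidHom.range_eq_map,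
      MonoidHom.range_eq_top]
    exact QuotientGroup.mk'_surjective _
  · -- N ≠ ⊥
    intro hbot
    have h1 : (QuotientGroup.mk' (center G)) h.b₀ ∈
        (KS G S).map (QuotientGroup.mk' (center G)) := ⟨h.b₀, h.b₀_mem_KS, rfl⟩
    rw [hbot, Subgroup.mem_bot] at h1
    exact h.hb₀ ((QuotientGroup.eq_one_iff _).mp h1)
  · -- H ≠ ⊥
    intro hbot
    have hcc : c ∈ centralizer ({c} : Set G) := by rw [mem_cent]
    have h1 : (QuotientGroup.mk' (center G)) c ∈
        (centralizer ({c} : Set G)).map (QuotientGroup.mk' (center G)) := ⟨c, hcc, rfl⟩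
    rw [hbot, Subgroup.mem_bot] at h1
    exact hc (center_le_KS ((QuotientGroup.eq_one_iff _).mp h1))
  · -- fixed point free
    rintro _ ⟨a, ha, rfl⟩ hne _ ⟨k, hk, rfl⟩ hcomm
    have haZ : a ∉ center G := by
      intro haZ
      exact hne ((QuotientGroup.eq_one_iff a).mpr haZ)
    have haK := h.not_mem_KS_of_not_mem_center hc ha haZ
    have h1 : (QuotientGroup.mk (a * k) : G ⧸ center G) = QuotientGroup.mk (k * a) := hcomm
    have h2 : (a * k)⁻¹ * (k * a) ∈ center G := QuotientGroup.eq.mp h1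
    have h3 : k⁻¹ * (a⁻¹ * k * a⁻¹⁻¹) ∈ center G := by
      have : k⁻¹ * (a⁻¹ * k * a⁻¹⁻¹) = (a * k)⁻¹ * (k * a) := by group
      rw [this]; exact h2
    have haK' : a⁻¹ ∉ KS G S := fun hmem => haK (by simpa using inv_mem hmem)
    have := h.mem_center_of_comm_mem_center hk haK' h3
    exact (QuotientGroup.eq_one_iff k).mpr this

theorem exists_frobenius :
    ∃ H : Subgroup (G ⧸ center G), Cfsg.IsFrobeniusComplement H ∧ IsMulCommutative H ∧
      ∀ x ∈ Cfsg.frobeniusKernel H, ∀ y ∈ Cfsg.frobeniusKernel H, x * y = y * x := by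
  have hc := h.c₀_not_mem_KS
  obtain ⟨h1, h2⟩ := h.frobenius hc
  refine ⟨_, h1, ?_, ?_⟩
  · haveI : IsMulCommutative (centralizer ({h.c₀} : Set G)) :=
      ⟨⟨fun a b => Subtype.ext (h.cent_comm hc a.2 b.2)⟩⟩
    exact map_isMulCommutative _ _
  · intro x hx y hy
    rw [h2] at hx hy
    obtain ⟨k, hk, rfl⟩ := hx
    obtain ⟨k', hk', rfl⟩ := hy
    rw [← map_mul, ← map_mul, h.KS_comm hk hk']

end Setup

/-- disconnected class-size prime graph ⟹ `G/Z(G)` is Frobenius with abelian kernel and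
complement -/
theorem frobenius_of_disconnected [Finite G] (S : Set ℕ)
    (hS : ∃ p ∈ S, (p.Prime ∧ ∃ g : G, p ∣ (Subgroup.centralizer ({g} : Set G)).index))
    (hS' : ∃ q ∉ S, (q.Prime ∧ ∃ g : G, q ∣ (Subgroup.centralizer ({g} : Set G)).index))
    (hdisc : ∀ p q : ℕ, (p.Prime ∧ ∃ g : G, p ∣ (Subgroup.centralizer ({g} : Set G)).index) →
      (q.Prime ∧ ∃ g : G, q ∣ (Subgroup.centralizer ({g} : Set G)).index) → p ∈ S → q ∉ S →
      ¬ (∃ g : G, p * q ∣ (Subgroup.centralizer ({g} : Set G)).index)) :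
    ∃ H : Subgroup (G ⧸ Subgroup.center G), Cfsg.IsFrobeniusComplement H ∧ IsMulCommutative H ∧
      ∀ x ∈ Cfsg.frobeniusKernel H, ∀ y ∈ Cfsg.frobeniusKernel H, x * y = y * x := by
  have dich : ∀ g : G, IsS S (cs g) ∨ IsS Sᶜ (cs g) := by
    intro g
    by_contra hcon
    rw [not_or] at hcon
    obtain ⟨h1, h2⟩ := hcon
    unfold IsS at h1 h2
    push Not at h1 h2
    obtain ⟨q, hq, hqd, hqS⟩ := h1
    obtain ⟨p, hp, hpd, hpS⟩ := h2
    have hpS' : p ∈ S := by
      by_contra hn
      exact hpS hn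
    apply hdisc p q ⟨hp, g, hpd⟩ ⟨hq, g, hqd⟩ hpS' hqS
    refine ⟨g, ?_⟩
    have hne : p ≠ q := fun e => hqS (e ▸ hpS')
    exact Nat.Coprime.mul_dvd_of_dvd_of_dvd ((Nat.coprime_primes hp hq).mpr hne) hpd hqd
  obtain ⟨p, hpS, hp, g₁, hg₁⟩ := hS
  obtain ⟨q, hqS, hq, g₂, hg₂⟩ := hS'
  have hg₁Z : g₁ ∉ center G := by
    intro hz
    have : cs g₁ = 1 := (cs_eq_one_iff g₁).mpr hz
    have h1 : p ∣ 1 := this ▸ hg₁
    exact hp.one_lt.ne' (Nat.dvd_one.mp h1)
  have hg₂Z : g₂ ∉ center G := by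
    intro hz
    have : cs g₂ = 1 := (cs_eq_one_iff g₂).mpr hz
    have h1 : q ∣ 1 := this ▸ hg₂
    exact hq.one_lt.ne' (Nat.dvd_one.mp h1)
  have hg₁S : IsS S (cs g₁) := by
    rcases dich g₁ with h1 | h1
    · exact h1
    · exact absurd hpS (h1 p hp hg₁)
  have hg₂S : IsS Sᶜ (cs g₂) := by
    rcases dich g₂ with h1 | h1
    · exact absurd (h1 q hq hg₂) hqS
    · exact h1
  obtain ⟨c₀, hc₀⟩ := Finite.exists_max (fun g : G => cs g)
  rcases dich c₀ with h1 | h1
  · -- the maximal class is of `S`-type: work with the complement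
    let st : Setup G Sᶜ :=
      { c₀ := c₀
        b₀ := g₂
        dich := dich_compl dich
        hc₀ := h1.compl_compl
        hmax := hc₀
        hb₀ := hg₂Z
        hb₀S := hg₂S }
    exact st.exists_frobenius
  · let st : Setup G S :=
      { c₀ := c₀
        b₀ := g₁
        dich := dich
        hc₀ := h1
        hmax := hc₀
        hb₀ := hg₁Z
        hb₀S := hg₁S }
    exact st.exists_frobenius

end Cfsg.Agent.Lib.Helper9.ClassGraph
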