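import Mathlib
import Cfsg.Agent.Lib.Helper9.ClassGraph5

/-!
Class sizes: an abstract version of the abelian normal subgroup `K`: a conjugation-invariant set
`T` whose elements have all commutators in a normal subgroup `M` of order coprime to their class
sizes generates an abelian normal subgroup centralizing `M`.
-/

set_option autoImplicit false
set_option linter.style.haveILetI false
set_option linter.unusedSectionVars false

namespace Cfsg.Agent.Lib.Helper9.ClassGraph

open Subgroup
open scoped Pointwise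

variable {G : Type*} [Group G]

/-- abstract data for the abelian normal subgroup -/
structure Core (G : Type*) [Group G] where
  T : Set G
  M : Subgroup G
  hMn : M.Normal
  conj_mem : ∀ t ∈ T, ∀ g : G, g * t * g⁻¹ ∈ T
  comm_mem : ∀ t ∈ T, ∀ g : G, t⁻¹ * (g * t * g⁻¹) ∈ M
  cop : ∀ t ∈ T, (Nat.card M).Coprime (cs t)

namespace Core

variable (c : Core G)

/-- the subgroup generated by `T` -/
def K : Subgroup G := closure c.T

theorem T_subset_K : c.T ⊆ c.K := subset_closure

instance M_normal : c.M.Normal := c.hMn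

instance K_normal : c.K.Normal := by
  constructor
  intro n hn g
  unfold K at hn ⊢
  induction hn using closure_induction with
  | mem x hx => exact subset_closure (c.conj_mem x hx g)
  | one => simp
  | mul x y _ _ hx hy =>
    have : g * (x * y) * g⁻¹ = (g * x * g⁻¹) * (g * y * g⁻¹) := by group
    rw [this]; exact mul_mem hx hy
  | inv x _ hx =>
    have : g * x⁻¹ * g⁻¹ = (g * x * g⁻¹)⁻¹ := by group
    rw [this]; exact inv_mem hx

theorem M_le_cent [Finite G] {t : G} (ht : t ∈ c.T) : c.M ≤ centralizer ({t} : Set G) :=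
  Cfsg.Agent.Lib.Helper1.le_of_normal_of_coprime_index c.M _ (c.cop t ht)

theorem K_comm_mem {k : G} (hk : k ∈ c.K) (g : G) : k⁻¹ * (g * k * g⁻¹) ∈ c.M := by
  unfold K at hk
  induction hk using closure_induction generalizing g with
  | mem x hx => exact c.comm_mem x hx g
  | one => simp
  | mul x y _ _ hx hy =>
    have e : (x * y)⁻¹ * (g * (x * y) * g⁻¹) =
        (y⁻¹ * (x⁻¹ * (g * x * g⁻¹)) * y⁻¹⁻¹) * (y⁻¹ * (g * y * g⁻¹)) := by group
    rw [e]
    exact mul_mem (c.M_normal.conj_mem _ (hx g) _) (hy g)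
  | inv x _ hx =>
    have e : x⁻¹⁻¹ * (g * x⁻¹ * g⁻¹) = x * (x⁻¹ * (g * x * g⁻¹))⁻¹ * x⁻¹ := by group
    rw [e]
    exact c.M_normal.conj_mem _ (inv_mem (hx g)) _

theorem K_le_cent_M [Finite G] : c.K ≤ centralizer (c.M : Set G) := by
  unfold K
  rw [closure_le]
  intro t ht
  rw [SetLike.mem_coe, mem_centralizer_iff]
  intro m hm
  have := c.M_le_cent ht hm
  rw [mem_cent] at this
  exact this

/-- every element of `T` centralizes `K` -/
theorem K_le_cent [Finite G] {t : G} (ht : t ∈ c.T) : c.K ≤ centralizer ({t} : Set G) := by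
  rw [← relIndex_eq_one]
  let φ : c.K →* c.M :=
    { toFun := fun x => ⟨t⁻¹ * ((x : G) * t * (x : G)⁻¹), c.comm_mem t ht x⟩
      map_one' := by
        apply Subtype.ext
        show t⁻¹ * (((1 : c.K) : G) * t * ((1 : c.K) : G)⁻¹) = ((1 : c.M) : G)
        simp
      map_mul' := by
        intro x y
        apply Subtype.ext
        show t⁻¹ * (((x * y : c.K) : G) * t * ((x * y : c.K) : G)⁻¹) =
          (t⁻¹ * ((x : G) * t * (x : G)⁻¹)) * (t⁻¹ * ((y : G) * t * (y : G)⁻¹))
        have hm : t⁻¹ * ((y : G) * t * (y : G)⁻¹) ∈ c.M := c.comm_mem t ht y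
        have hc := c.K_le_cent_M x.2
        rw [mem_centralizer_iff] at hc
        have hc' := hc _ hm
        have e : ((x * y : c.K) : G) = (x : G) * (y : G) := rfl
        rw [e]
        have hc'' : (t⁻¹ * ((y : G) * t * (y : G)⁻¹)) * (x : G)⁻¹ =
            (x : G)⁻¹ * (t⁻¹ * ((y : G) * t * (y : G)⁻¹)) := by
          calc (t⁻¹ * ((y : G) * t * (y : G)⁻¹)) * (x : G)⁻¹
              = (x : G)⁻¹ * ((x : G) * (t⁻¹ * ((y : G) * t * (y : G)⁻¹))) * (x : G)⁻¹ := by group
            _ = (x : G)⁻¹ * ((t⁻¹ * ((y : G) * t * (y : G)⁻¹)) * (x : G)) * (x : G)⁻¹ := by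
                rw [hc']
            _ = (x : G)⁻¹ * (t⁻¹ * ((y : G) * t * (y : G)⁻¹)) := by group
        calc t⁻¹ * ((x : G) * (y : G) * t * ((x : G) * (y : G))⁻¹)
            = t⁻¹ * (x : G) * t * ((t⁻¹ * ((y : G) * t * (y : G)⁻¹)) * (x : G)⁻¹) := by group
          _ = t⁻¹ * (x : G) * t * ((x : G)⁻¹ * (t⁻¹ * ((y : G) * t * (y : G)⁻¹))) := by
              rw [hc'']
          _ = _ := by group }
  have hker : φ.ker = (centralizer ({t} : Set G)).subgroupOf c.K := by
    ext x
    rw [MonoidHom.mem_ker, mem_subgroupOf, mem_cent]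
    constructor
    · intro hx
      have h1 : t⁻¹ * ((x : G) * t * (x : G)⁻¹) = 1 := congrArg Subtype.val hx
      have h2 : (x : G) * t * (x : G)⁻¹ = t := by
        have := congrArg (fun z => t * z) h1
        simpa [mul_assoc] using this
      calc (x : G) * t = ((x : G) * t * (x : G)⁻¹) * x := by group
        _ = t * x := by rw [h2]
    · intro hx
      apply Subtype.ext
      show t⁻¹ * ((x : G) * t * (x : G)⁻¹) = 1
      rw [hx]; group
  have h1 : (centralizer ({t} : Set G)).relIndex c.K ∣ Nat.card c.M := by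
    unfold relIndex
    rw [← hker, index_ker]
    exact card_subgroup_dvd_card _
  have h2 : (centralizer ({t} : Set G)).relIndex c.K ∣ cs t :=
    relIndex_dvd_index_of_normal_right _ c.K
  exact Nat.eq_one_of_dvd_coprimes (c.cop t ht) h1 h2

theorem K_comm [Finite G] {x y : G} (hx : x ∈ c.K) (hy : y ∈ c.K) : x * y = y * x := by
  have key : ∀ t ∈ c.T, ∀ k ∈ c.K, k * t = t * k := by
    intro t ht k hk
    have := c.K_le_cent ht hk
    rwa [mem_cent] at this
  have hle : c.K ≤ centralizer (c.K : Set G) := by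
    unfold K
    rw [closure_le]
    intro t ht
    rw [SetLike.mem_coe, mem_centralizer_iff]
    intro k hk
    exact key t ht k hk
  have := hle hy
  rw [mem_centralizer_iff] at this
  exact this x hx

/-- `k ^ |M|` is central for `k ∈ K` -/
theorem pow_card_mem_center [Finite G] {k : G} (hk : k ∈ c.K) :
    k ^ (Nat.card c.M) ∈ center G := by
  rw [mem_center_iff]
  intro g
  have hm := c.K_comm_mem hk g
  have hcomm : Commute k (k⁻¹ * (g * k * g⁻¹)) := by
    have := c.K_le_cent_M hk
    rw [mem_centralizer_iff] at this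
    exact (this _ hm).symm
  have hpow : (k⁻¹ * (g * k * g⁻¹)) ^ (Nat.card c.M) = 1 := by
    have := pow_card_eq_one' (G := c.M) (x := ⟨_, hm⟩)
    exact congrArg Subtype.val this
  have e1 : g * k * g⁻¹ = k * (k⁻¹ * (g * k * g⁻¹)) := by group
  have e2 : g * k ^ (Nat.card c.M) * g⁻¹ = k ^ (Nat.card c.M) := by
    rw [← conj_pow, e1, hcomm.mul_pow, hpow, mul_one]
  calc g * k ^ (Nat.card c.M) = (g * k ^ (Nat.card c.M) * g⁻¹) * g := by group
    _ = k ^ (Nat.card c.M) * g := by rw [e2]

/-- an element of `K` whose order is coprime to `|M|` is central -/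
theorem mem_center_of_coprime [Finite G] {k : G} (hk : k ∈ c.K)
    (hcop : (orderOf k).Coprime (Nat.card c.M)) : k ∈ center G := by
  have h1 := c.pow_card_mem_center hk
  have h2 : k ^ (orderOf k) ∈ center G := by rw [pow_orderOf_eq_one]; exact one_mem _
  exact mem_of_pow_mem_of_coprime (center G) hcop h2 h1

/-- if `k ∈ K` and `x` satisfy `k⁻¹ x k x⁻¹ ∈ Z(G)`, `x ^ e` commutes with `k` and
`e` is coprime to `|M|`, then `x` commutes with `k` -/
theorem comm_of_comm_mem_center [Finite G] {k x : G} (hk : k ∈ c.K) {e : ℕ}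
    (hcop : e.Coprime (Nat.card c.M)) (hxe : x ^ e * k = k * x ^ e)
    (hz : k⁻¹ * (x * k * x⁻¹) ∈ center G) : x * k = k * x := by
  set z := k⁻¹ * (x * k * x⁻¹) with hzdef
  have hzM : z ∈ c.M := c.K_comm_mem hk x
  have hz' := mem_center_iff.mp hz
  have hconj : x * k * x⁻¹ = k * z := by rw [hzdef]; group
  have hpow : ∀ n : ℕ, x ^ n * k * (x ^ n)⁻¹ = k * z ^ n := by
    intro n
    induction n with
    | zero => simp
    | succ n ih =>
      calc x ^ (n + 1) * k * (x ^ (n + 1))⁻¹ = x * (x ^ n * k * (x ^ n)⁻¹) * x⁻¹ := by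
            rw [pow_succ']; group
        _ = x * (k * z ^ n) * x⁻¹ := by rw [ih]
        _ = (x * k * x⁻¹) * (x * z ^ n * x⁻¹) := by group
        _ = (k * z) * z ^ n := by
            rw [hconj]
            have : x * z ^ n * x⁻¹ = z ^ n := by
              have hc : Commute x (z ^ n) := Commute.pow_right (hz' x) n
              rw [hc.eq]; group
            rw [this]
        _ = k * z ^ (n + 1) := by rw [pow_succ']; group
  have h1 : z ^ e = 1 := by
    have h2 := hpow e
    rw [hxe] at h2
    have h4 : k * x ^ e * (x ^ e)⁻¹ = k := by group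
    rw [h4] at h2
    exact (mul_eq_left.mp h2.symm)
  have h2 : z ^ (Nat.card c.M) = 1 := by
    have := pow_card_eq_one' (G := c.M) (x := ⟨z, hzM⟩)
    exact congrArg Subtype.val this
  have hz1 : z = 1 := by
    have := mem_of_pow_mem_of_coprime (⊥ : Subgroup G) hcop
      (x := z) (by rw [h1]; exact one_mem _) (by rw [h2]; exact one_mem _)
    exact Subgroup.mem_bot.mp this
  rw [hz1, mul_one] at hconj
  calc x * k = (x * k * x⁻¹) * x := by group
    _ = k * x := by rw [hconj]

end Core

end Cfsg.Agent.Lib.Helper9.ClassGraph
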