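import Mathlib
import Cfsg.Agent.Lib.Helper9.ClassGraph6
import Cfsg.Agent.Lib.Helper22.PiElt
import Cfsg.Agent.Lib.Helper22.TwoClassSizes

/-!
Class sizes: the two largest class sizes are coprime. First part: the abelian normal subgroup `K`
generated by the classes of the second largest size, and the Itô-type lemmas.
-/

set_option autoImplicit false
set_option linter.style.haveILetI false
set_option linter.unusedSectionVars false

namespace Cfsg.Agent.Lib.Helper9.ClassGraph

open Subgroup
open scoped Pointwise
open Cfsg.Agent.Lib.Helper22 (IsPiElt)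

variable {G : Type*} [Group G]

/-- commuting elements of coprime orders: `C(uv) ≤ C(u)` -/
theorem cent_mul_le_left_of_coprime {u v : G} (huv : Commute u v)
    (hcop : (orderOf u).Coprime (orderOf v)) :
    centralizer ({u * v} : Set G) ≤ centralizer ({u} : Set G) := by
  intro x hx
  rw [mem_cent] at hx ⊢
  have h1 := Cfsg.Agent.Lib.Helper22.mem_zpowers_mul_of_coprime huv hcop
  exact Cfsg.Agent.Lib.Helper22.commute_of_mem_zpowers_right h1 hx

theorem cent_mul_le_right_of_coprime {u v : G} (huv : Commute u v)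
    (hcop : (orderOf u).Coprime (orderOf v)) :
    centralizer ({u * v} : Set G) ≤ centralizer ({v} : Set G) := by
  have := cent_mul_le_left_of_coprime huv.symm hcop.symm
  rwa [huv.symm.eq] at this

theorem cent_le_of_mem_zpowers {g w : G} (hw : w ∈ zpowers g) :
    centralizer ({g} : Set G) ≤ centralizer ({w} : Set G) := by
  intro x hx
  rw [mem_cent] at hx ⊢
  exact Cfsg.Agent.Lib.Helper22.commute_of_mem_zpowers_right hw hx

theorem zpowers_le_cent {g u : G} (hu : u ∈ centralizer ({g} : Set G)) :
    zpowers u ≤ centralizer ({g} : Set G) := by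
  rw [zpowers_le]; exact hu

/-- a subgroup of the same finite index containing another is equal -/
theorem eq_of_le_of_index_eq [Finite G] {H L : Subgroup G} (hle : H ≤ L)
    (hidx : H.index = L.index) : H = L := by
  apply le_antisymm hle
  rw [← relIndex_eq_one]
  have h1 := relIndex_mul_index hle
  rw [hidx] at h1
  have hpos : 0 < L.index := Nat.pos_of_ne_zero index_ne_zero_of_finite
  exact Nat.eq_of_mul_eq_mul_right hpos (by rw [h1, one_mul])

/-- the data of S4138 -/
structure TwoLargest (G : Type*) [Group G] where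
  m : ℕ
  n : ℕ
  x : G
  y : G
  hmn : n < m
  hn : 1 < n
  hcop : m.Coprime n
  htop : ∀ z : G, cs z ≤ m
  hsecond : ∀ z : G, cs z < m → cs z ≤ n
  hx : cs x = n
  hy : cs y = m

namespace TwoLargest

variable [Finite G] (h : TwoLargest G)

/-- the primes dividing `n` -/
def piN : Set ℕ := {p | p ∣ h.n}

theorem cs_eq_m_of_n_lt {g : G} (hg : h.n < cs g) : cs g = h.m := by
  by_contra hne
  have h1 : cs g < h.m := lt_of_le_of_ne (h.htop g) hne
  have := h.hsecond g h1
  omega

theorem card_stabL_y_dvd : Nat.card (stabL h.y) ∣ h.m := by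
  have := card_stabL_dvd h.y
  rwa [h.hy] at this

/-- the abstract core: `T` = classes of size `n` and the centre, `M = stabL y` -/
def core : Core G where
  T := {t | cs t = h.n ∨ t ∈ center G}
  M := stabL h.y
  hMn := stabL_normal h.y
  conj_mem := by
    rintro t (ht | ht) g
    · left; rw [cs_conj]; exact ht
    · right; exact (inferInstance : (center G).Normal).conj_mem t ht g
  comm_mem := by
    rintro t (ht | ht) g
    · have hc : (cs t).Coprime (cs h.y) := by rw [ht, h.hy]; exact h.hcop.symm
      have h1 := cs_le_cs_mul_right hc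
      have h2 := h.htop (t * h.y)
      have heq : cs (t * h.y) = cs h.y := by rw [h.hy] at h1 ⊢; omega
      exact mem_stabL_of_cs_mul_eq hc heq g
    · have h1 : g * t = t * g := mem_center_iff.mp ht g
      have : t⁻¹ * (g * t * g⁻¹) = 1 := by rw [h1]; group
      rw [this]; exact one_mem _
  cop := by
    rintro t (ht | ht)
    · rw [ht]
      exact Nat.Coprime.coprime_dvd_left h.card_stabL_y_dvd h.hcop
    · rw [(cs_eq_one_iff t).mpr ht]
      exact Nat.coprime_one_right _

/-- the abelian normal subgroup `K` -/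
def K : Subgroup G := h.core.K

instance K_normal : (h.K).Normal := h.core.K_normal

theorem mem_K_of_cs_eq_n {t : G} (ht : cs t = h.n) : t ∈ h.K :=
  h.core.T_subset_K (Or.inl ht)

theorem center_le_K : center G ≤ h.K := fun _ hz => h.core.T_subset_K (Or.inr hz)

theorem x_mem_K : h.x ∈ h.K := h.mem_K_of_cs_eq_n h.hx

theorem card_M_dvd : Nat.card h.core.M ∣ h.m := h.card_stabL_y_dvd

theorem coprime_n_card_M : (h.n).Coprime (Nat.card h.core.M) :=
  (Nat.Coprime.coprime_dvd_left h.card_M_dvd h.hcop).symm

theorem x_not_mem_center : h.x ∉ center G := by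
  intro hz
  have := (cs_eq_one_iff h.x).mpr hz
  rw [h.hx] at this
  have := h.hn
  omega

theorem T_mul_Q {t c : G} (ht : t ∈ h.core.T) (hc : cs c = h.m) : cs (t * c) = h.m := by
  rcases ht with ht | ht
  · have hcop : (cs t).Coprime (cs c) := by rw [ht, hc]; exact h.hcop.symm
    have h1 := cs_le_cs_mul_right hcop
    have h2 := h.htop (t * c)
    rw [hc] at h1
    omega
  · have e : t * c = c * t := (mem_center_iff.mp ht c).symm
    rw [e, cs_mul_central c ht, hc]

theorem K_mul_Q {k c : G} (hk : k ∈ h.K) (hc : cs c = h.m) : cs (k * c) = h.m := by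
  unfold K Core.K at hk
  induction hk using closure_induction generalizing c with
  | mem x hx => exact h.T_mul_Q hx hc
  | one => simpa using hc
  | mul x y _ _ hx hy =>
    rw [mul_assoc]
    exact hx (hy hc)
  | inv x _ hx =>
    have hpow : ∀ j : ℕ, ∀ c' : G, cs c' = h.m → cs (x ^ j * c') = h.m := by
      intro j
      induction j with
      | zero => intro c' hc'; simpa using hc'
      | succ j ih =>
        intro c' hc'
        rw [pow_succ, mul_assoc]
        exact ih _ (hx hc')
    have hinv : x⁻¹ = x ^ (orderOf x - 1) := by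
      have hpos : 0 < orderOf x := orderOf_pos x
      have : x ^ (orderOf x - 1) * x = 1 := by
        rw [← pow_succ, Nat.sub_add_cancel hpos, pow_orderOf_eq_one]
      exact (eq_inv_of_mul_eq_one_left this).symm
    rw [hinv]
    exact hpow _ c hc

theorem cs_ne_m_of_mem_K {k : G} (hk : k ∈ h.K) : cs k ≠ h.m := by
  intro hkm
  have h1 := h.K_mul_Q (inv_mem hk) hkm
  rw [inv_mul_cancel] at h1
  have h2 : cs (1 : G) = 1 := (cs_eq_one_iff 1).mpr (one_mem _)
  have := h.hn
  have := h.hmn
  omega

/-- **T1**: a noncentral element whose class size is coprime to `n` has class size `m` -/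
theorem cs_eq_m_of_coprime {g : G} (hg : g ∉ center G) (hcop : (cs g).Coprime h.n) :
    cs g = h.m := by
  by_contra hne
  have hlt : cs g < h.m := lt_of_le_of_ne (h.htop g) hne
  have hle : cs g ≤ h.n := h.hsecond g hlt
  have hc : (cs g).Coprime (cs h.x) := by rw [h.hx]; exact hcop
  have h1 := cs_mul_dvd hc
  have h2 := cs_le_cs_mul_right hc
  rw [h.hx] at h1 h2
  have hgx : cs (g * h.x) = h.n := by
    by_contra hne2
    have h3 : h.n < cs (g * h.x) := lt_of_le_of_ne h2 (Ne.symm hne2)
    have h4 := h.cs_eq_m_of_n_lt h3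
    rw [h4] at h1
    have h5 : h.m ∣ cs g := h.hcop.dvd_of_dvd_mul_right h1
    have h6 := Nat.le_of_dvd (cs_pos g) h5
    have := h.hmn
    omega
  have heq : cs (g * h.x) = cs h.x := by rw [hgx, h.hx]
  have h3 := mem_stabL_of_cs_mul_eq hc heq
  have hgK : g ∈ h.K := by
    have : g = (g * h.x) * (h.x)⁻¹ := by group
    rw [this]
    exact mul_mem (h.mem_K_of_cs_eq_n hgx) (inv_mem h.x_mem_K)
  have hcard : (Nat.card h.core.M).Coprime (Nat.card (stabL h.x)) := by
    have h4 := card_stabL_dvd h.x
    rw [h.hx] at h4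
    exact Nat.Coprime.coprime_dvd_left h.card_M_dvd (Nat.Coprime.coprime_dvd_right h4 h.hcop)
  have hdisj : Disjoint h.core.M (stabL h.x) := disjoint_of_coprime_natCard hcard
  apply hg
  rw [mem_center_iff]
  intro u
  have hx1 := h.core.K_comm_mem hgK u
  have hx2 := h3 u
  have h1' : g⁻¹ * (u * g * u⁻¹) = 1 := (disjoint_def.mp hdisj) hx1 hx2
  have h2' : u * g * u⁻¹ = g := by
    have := congrArg (fun z => g * z) h1'
    simpa [mul_assoc] using this
  calc u * g = (u * g * u⁻¹) * u := by group
    _ = g * u := by rw [h2']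

theorem cs_eq_m_of_dvd {g : G} (hg : g ∉ center G) (hd : cs g ∣ h.m) : cs g = h.m :=
  h.cs_eq_m_of_coprime hg (Nat.Coprime.coprime_dvd_left hd h.hcop)

/-- **T2**: Itô's argument for the largest class size -/
theorem cent_le_of_coprime_Q {y' u : G} (hy' : cs y' = h.m)
    (hu : u ∈ centralizer ({y'} : Set G)) (hcop : (orderOf u).Coprime (orderOf y')) :
    centralizer ({y'} : Set G) ≤ centralizer ({u} : Set G) := by
  rw [mem_cent] at hu
  have hcomm : Commute y' u := (show Commute u y' from hu).symm
  have h1 := cent_mul_le_left_of_coprime hcomm hcop.symm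
  have h2 := cent_mul_le_right_of_coprime hcomm hcop.symm
  have h3 : cs y' ∣ cs (y' * u) := index_dvd_of_le h1
  have h4 := h.htop (y' * u)
  have h5 := Nat.le_of_dvd (cs_pos _) h3
  have heq : (centralizer ({y' * u} : Set G)).index = (centralizer ({y'} : Set G)).index := by
    show cs (y' * u) = cs y'
    rw [hy'] at h5 ⊢; omega
  rw [← eq_of_le_of_index_eq h1 heq]
  exact h2

/-- **T3**: Itô's argument for the second largest class size -/
theorem mem_K_of_coprime_P {b a : G} (hb : cs b = h.n)
    (ha : a ∈ centralizer ({b} : Set G)) (hcop : (orderOf a).Coprime (orderOf b)) :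
    a ∈ h.K := by
  rw [mem_cent] at ha
  have hcomm : Commute a b := ha
  have h1 := cent_mul_le_right_of_coprime hcomm hcop
  have h3 : cs b ∣ cs (a * b) := index_dvd_of_le h1
  rw [hb] at h3
  have hab : cs (a * b) = h.n := by
    by_contra hne
    have h4 := Nat.le_of_dvd (cs_pos _) h3
    have h5 := h.cs_eq_m_of_n_lt (lt_of_le_of_ne h4 (Ne.symm hne))
    rw [h5] at h3
    have h6 : h.n ∣ Nat.gcd h.m h.n := Nat.dvd_gcd h3 dvd_rfl
    rw [h.hcop.gcd_eq_one] at h6
    have := Nat.le_of_dvd one_pos h6
    have := h.hn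
    omega
  have : a = (a * b) * b⁻¹ := by group
  rw [this]
  exact mul_mem (h.mem_K_of_cs_eq_n hab) (inv_mem (h.mem_K_of_cs_eq_n hb))

/-- `π(n)`-elements of `K` are central -/
theorem mem_center_of_piElt_K {k : G} (hk : k ∈ h.K) (hpi : IsPiElt h.piN k) :
    k ∈ center G := by
  apply h.core.mem_center_of_coprime hk
  apply Nat.coprime_of_dvd
  intro p hp h1 h2
  have h3 : p ∣ h.n := hpi p hp h1
  have h4 : p ∣ h.m := h2.trans h.card_M_dvd
  have h5 : p ∣ Nat.gcd h.m h.n := Nat.dvd_gcd h4 h3
  rw [h.hcop.gcd_eq_one] at h5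
  exact hp.one_lt.ne' (Nat.dvd_one.mp h5)

end TwoLargest

end Cfsg.Agent.Lib.Helper9.ClassGraph
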