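import Mathlib
import Cfsg.Agent.Lib.Helper9.ClassGraph7

/-!
Class sizes: the two largest class sizes are coprime. Second part: all class sizes are `1`, `n`
or `m`.
-/

set_option autoImplicit false
set_option linter.style.haveILetI false
set_option linter.unusedSectionVars false

namespace Cfsg.Agent.Lib.Helper9.ClassGraph

open Subgroup
open scoped Pointwise
open Cfsg.Agent.Lib.Helper22 (IsPiElt piPart piPart' piPart_spec)

variable {G : Type*} [Group G]

theorem isPiElt_of_orderOf_eq_pow {π : Set ℕ} {s : G} {p k : ℕ} (hp : p ∈ π)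
    (hs : orderOf s = p ^ k) (hpp : p.Prime) : IsPiElt π s := by
  intro q hq hd
  rw [hs] at hd
  have := (Nat.prime_dvd_prime_iff_eq hq hpp).mp (hq.dvd_of_dvd_pow hd)
  rw [this]; exact hp

namespace TwoLargest

variable [Finite G] (h : TwoLargest G)

/-- a representative of `π(n)'`-order for a class of size `n` -/
theorem exists_rep_P {b : G} (hb : cs b = h.n) :
    ∃ b₁ : G, centralizer ({b₁} : Set G) = centralizer ({b} : Set G) ∧ IsPiElt (h.piN)ᶜ b₁ := by
  obtain ⟨hu, hv, hdec, hpu, hpv⟩ := piPart_spec h.piN b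
  have hbK := h.mem_K_of_cs_eq_n hb
  have huK : piPart h.piN b ∈ h.K := (zpowers_le.mpr hbK) hu
  have huZ := h.mem_center_of_piElt_K huK hpu
  refine ⟨piPart' h.piN b, ?_, hpv⟩
  have e : b = piPart' h.piN b * piPart h.piN b := by
    exact hdec.trans (mem_center_iff.mp huZ _).symm
  conv_rhs => rw [e]
  exact (cent_mul_central _ huZ).symm

/-- **E'**: `π(n)`-elements of the centralizer of an element with class size `n` are central -/
theorem mem_center_of_piElt_cent_P {b s : G} (hb : cs b = h.n)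
    (hs : s ∈ centralizer ({b} : Set G)) (hpi : IsPiElt h.piN s) : s ∈ center G := by
  obtain ⟨b₁, hb₁, hpb₁⟩ := h.exists_rep_P hb
  have hb₁n : cs b₁ = h.n := by
    unfold cs; rw [hb₁]; exact hb
  rw [← hb₁] at hs
  have hK := h.mem_K_of_coprime_P hb₁n hs (Cfsg.Agent.Lib.Helper22.coprime_orderOf hpi hpb₁)
  exact h.mem_center_of_piElt_K hK hpi

theorem exists_conj_mem_of_not_dvd_index {r : ℕ} [hr : Fact r.Prime] (C : Subgroup G)
    (hC : ¬ r ∣ C.index) {t : G} {k : ℕ} (ht : orderOf t = r ^ k) :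
    ∃ g : G, g * t * g⁻¹ ∈ C := by
  obtain ⟨R', hR', _⟩ := Cfsg.Agent.Lib.Helper22.exists_sylow_le_mem_of_not_dvd_index
    C hC 1 (one_mem _) 0 (by simp)
  obtain ⟨R'', hR''⟩ := Cfsg.Agent.Lib.Helper22.exists_sylow_mem t ⟨k, ht⟩
  obtain ⟨g, hg⟩ := MulAction.exists_smul_eq G R'' R'
  exact ⟨g, hR' (conj_mem_of_smul_eq hg hR'')⟩

/-- **F**: no element of class size `m` has prime power order for a prime not dividing `n` -/
theorem not_Q_of_prime_pow {y' : G} (hy' : cs y' = h.m) {r k : ℕ} (hr : r.Prime)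
    (hord : orderOf y' = r ^ k) (hrn : ¬ r ∣ h.n) : False := by
  haveI : Fact r.Prime := ⟨hr⟩
  obtain ⟨b, hb, hpb⟩ := h.exists_rep_P h.hx
  have hbn : cs b = h.n := by unfold cs; rw [hb]; exact h.hx
  have hidx : ¬ r ∣ (centralizer ({b} : Set G)).index := by
    show ¬ r ∣ cs b
    rw [hbn]; exact hrn
  obtain ⟨g, hg⟩ := exists_conj_mem_of_not_dvd_index (centralizer ({b} : Set G)) hidx hord
  set y'' := g * y' * g⁻¹ with hy''def
  have hy''m : cs y'' = h.m := by rw [hy''def, cs_conj]; exact hy'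
  have hy''ord : orderOf y'' = r ^ k := by
    rw [hy''def, Cfsg.Agent.Lib.Helper22.TwoClass.orderOf_conj_eq]; exact hord
  have hby'' : b ∈ centralizer ({y''} : Set G) := by
    rw [mem_cent] at hg ⊢
    exact hg.symm
  -- a prime `p` dividing `n`
  have hn1 : h.n ≠ 1 := by have := h.hn; omega
  set p := (h.n).minFac with hpdef
  have hp : p.Prime := Nat.minFac_prime hn1
  have hpn : p ∣ h.n := Nat.minFac_dvd _
  haveI : Fact p.Prime := ⟨hp⟩
  have hpm : ¬ p ∣ h.m := by
    intro hd
    have h5 : p ∣ Nat.gcd h.m h.n := Nat.dvd_gcd hd hpn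
    rw [h.hcop.gcd_eq_one] at h5
    exact hp.one_lt.ne' (Nat.dvd_one.mp h5)
  have hidx2 : ¬ p ∣ (centralizer ({y''} : Set G)).index := by
    show ¬ p ∣ cs y''
    rw [hy''m]; exact hpm
  obtain ⟨Sp, hSp, _⟩ := Cfsg.Agent.Lib.Helper22.exists_sylow_le_mem_of_not_dvd_index
    (centralizer ({y''} : Set G)) hidx2 1 (one_mem _) 0 (by simp)
  -- a noncentral element of `Sp`
  have hex : ∃ s ∈ (Sp : Subgroup G), s ∉ center G := by
    by_contra hcon
    push Not at hcon
    have hle : (Sp : Subgroup G) ≤ centralizer ({b} : Set G) :=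
      fun s hs => (center_le_centralizer _) (hcon s hs)
    have hdvd : cs b ∣ (Sp : Subgroup G).index := index_dvd_of_le hle
    rw [hbn] at hdvd
    exact Sp.not_dvd_index (hpn.trans hdvd)
  obtain ⟨s, hsS, hsZ⟩ := hex
  obtain ⟨j, hj⟩ := Cfsg.Agent.Lib.Helper22.isPElt_of_mem_sylow Sp s hsS
  have hpr : p ≠ r := fun e => hrn (e ▸ hpn)
  have hcop : (orderOf s).Coprime (orderOf y'') := by
    rw [hj, hy''ord]
    exact Nat.Coprime.pow _ _ ((Nat.coprime_primes hp hr).mpr hpr)
  have hle := h.cent_le_of_coprime_Q hy''m (hSp hsS) hcop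
  have hbs := hle hby''
  have hsb : s ∈ centralizer ({b} : Set G) := by
    rw [mem_cent] at hbs ⊢
    exact hbs.symm
  exact hsZ (h.mem_center_of_piElt_cent_P hbn hsb (isPiElt_of_orderOf_eq_pow hpn hj hp))

/-- **G'**: a `π(n)'`-element whose class size divides `m` is central -/
theorem mem_center_of_piElt'_of_dvd {v : G} (hpv : IsPiElt (h.piN)ᶜ v) (hd : cs v ∣ h.m) :
    v ∈ center G := by
  by_contra hvZ
  obtain ⟨r, w, hr, hw, ⟨j, hj⟩, hwZ⟩ :=
    Cfsg.Agent.Lib.Helper22.TwoClass.exists_primary_not_mem_center (orderOf v) v rfl hvZ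
  have hwd : cs w ∣ h.m := (index_dvd_of_le (cent_le_of_mem_zpowers hw)).trans hd
  have hwm := h.cs_eq_m_of_dvd hwZ hwd
  have hj0 : j ≠ 0 := by
    intro e
    rw [e, pow_zero, orderOf_eq_one_iff] at hj
    exact hwZ (hj ▸ one_mem _)
  have hrw : r ∣ orderOf w := by rw [hj]; exact dvd_pow_self r hj0
  have hrv : r ∣ orderOf v := hrw.trans (orderOf_dvd_of_mem_zpowers hw)
  have hrn : ¬ r ∣ h.n := hpv r hr hrv
  exact h.not_Q_of_prime_pow hwm hr hj hrn

/-- a representative of `π(n)`-order for a class of size `m` -/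
theorem exists_rep_Q {y' : G} (hy' : cs y' = h.m) :
    ∃ y₁ : G, centralizer ({y₁} : Set G) = centralizer ({y'} : Set G) ∧ IsPiElt h.piN y₁ := by
  obtain ⟨hu, hv, hdec, hpu, hpv⟩ := piPart_spec h.piN y'
  have hvd : cs (piPart' h.piN y') ∣ h.m := by
    rw [← hy']
    exact index_dvd_of_le (cent_le_of_mem_zpowers hv)
  have hvZ := h.mem_center_of_piElt'_of_dvd hpv hvd
  refine ⟨piPart h.piN y', ?_, hpu⟩
  conv_rhs => rw [hdec]
  exact (cent_mul_central _ hvZ).symm

/-- **L**: `π(n)'`-elements of the centralizer of an element with class size `m` are central -/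
theorem mem_center_of_piElt'_cent_Q {y' u : G} (hy' : cs y' = h.m)
    (hu : u ∈ centralizer ({y'} : Set G)) (hpi : IsPiElt (h.piN)ᶜ u) : u ∈ center G := by
  obtain ⟨y₁, hy₁, hpy₁⟩ := h.exists_rep_Q hy'
  have hy₁m : cs y₁ = h.m := by
    unfold cs; rw [hy₁]; exact hy'
  rw [← hy₁] at hu
  have hle := h.cent_le_of_coprime_Q hy₁m hu
    (Cfsg.Agent.Lib.Helper22.coprime_orderOf hpy₁ hpi).symm
  have hd : cs u ∣ h.m := by
    rw [← hy₁m]
    exact index_dvd_of_le hle
  exact h.mem_center_of_piElt'_of_dvd hpi hd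

theorem mem_center_of_parts {u : G} (h1 : piPart h.piN u ∈ center G)
    (h2 : piPart' h.piN u ∈ center G) : u ∈ center G := by
  obtain ⟨_, _, hdec, _, _⟩ := piPart_spec h.piN u
  rw [hdec]
  exact mul_mem h1 h2

/-- **H**: `C(b) ∩ C(y') = Z(G)` -/
theorem cent_inf_cent_le_center {b y' : G} (hb : cs b = h.n) (hy' : cs y' = h.m) :
    centralizer ({b} : Set G) ⊓ centralizer ({y'} : Set G) ≤ center G := by
  intro u hu
  have hub : u ∈ centralizer ({b} : Set G) := (Subgroup.mem_inf.mp hu).1
  have huy : u ∈ centralizer ({y'} : Set G) := (Subgroup.mem_inf.mp hu).2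
  obtain ⟨hu1, hu2, _, hpu, hpv⟩ := piPart_spec h.piN u
  apply h.mem_center_of_parts
  · exact h.mem_center_of_piElt_cent_P hb (zpowers_le_cent hub hu1) hpu
  · exact h.mem_center_of_piElt'_cent_Q hy' (zpowers_le_cent huy hu2) hpv

theorem cent_inf_K_le_center {y' : G} (hy' : cs y' = h.m) :
    centralizer ({y'} : Set G) ⊓ h.K ≤ center G := by
  intro k hk
  have hky : k ∈ centralizer ({y'} : Set G) := (Subgroup.mem_inf.mp hk).1
  have hkK : k ∈ h.K := (Subgroup.mem_inf.mp hk).2
  obtain ⟨hu1, hu2, _, hpu, hpv⟩ := piPart_spec h.piN k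
  apply h.mem_center_of_parts
  · exact h.mem_center_of_piElt_K ((zpowers_le.mpr hkK) hu1) hpu
  · exact h.mem_center_of_piElt'_cent_Q hy' (zpowers_le_cent hky hu2) hpv

theorem cent_inf_cent_eq_center {b y' : G} (hb : cs b = h.n) (hy' : cs y' = h.m) :
    centralizer ({y'} : Set G) ⊓ centralizer ({b} : Set G) = center G := by
  apply le_antisymm
  · rw [inf_comm]; exact h.cent_inf_cent_le_center hb hy'
  · exact le_inf (center_le_centralizer _) (center_le_centralizer _)

/-- `|G : Z(G)| = m n` -/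
theorem index_center : (center G).index = h.m * h.n := by
  have h1 : (centralizer ({h.y} : Set G)).relIndex (centralizer ({h.x} : Set G)) = h.m := by
    have hc : (centralizer ({h.y} : Set G)).index.Coprime (centralizer ({h.x} : Set G)).index := by
      show (cs h.y).Coprime (cs h.x)
      rw [h.hx, h.hy]; exact h.hcop
    have := Cfsg.Agent.Lib.Helper1.relIndex_eq_index_of_coprime _ _ hc
    rw [this]; exact h.hy
  rw [← inf_relIndex_right, h.cent_inf_cent_eq_center h.hx h.hy] at h1
  have h2 := relIndex_mul_index (center_le_centralizer ({h.x} : Set G))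
  rw [h1] at h2
  rw [← h2]
  congr 1
  exact h.hx

theorem relIndex_center_cent_Q {y' : G} (hy' : cs y' = h.m) :
    (center G).relIndex (centralizer ({y'} : Set G)) = h.n := by
  have h2 := relIndex_mul_index (center_le_centralizer ({y'} : Set G))
  rw [h.index_center] at h2
  have h3 : (centralizer ({y'} : Set G)).index = h.m := hy'
  rw [h3, mul_comm] at h2
  have hm : 0 < h.m := by have := h.hmn; omega
  exact Nat.eq_of_mul_eq_mul_left hm h2

theorem pow_n_mem_center {y' a : G} (hy' : cs y' = h.m) (ha : a ∈ centralizer ({y'} : Set G)) :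
    a ^ h.n ∈ center G := by
  haveI : ((center G).subgroupOf (centralizer ({y'} : Set G))).Normal :=
    Subgroup.normal_subgroupOf
  have h1 := pow_index_mem ((center G).subgroupOf (centralizer ({y'} : Set G)))
    (⟨a, ha⟩ : centralizer ({y'} : Set G))
  have h2 : ((center G).subgroupOf (centralizer ({y'} : Set G))).index = h.n :=
    h.relIndex_center_cent_Q hy'
  rw [h2, mem_subgroupOf] at h1
  exact h1

/-- **I**: noncentral elements of the centralizer of an element of class size `m` have class size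
`m` -/
theorem cs_eq_m_of_mem_cent_Q {y' a : G} (hy' : cs y' = h.m)
    (ha : a ∈ centralizer ({y'} : Set G)) (haZ : a ∉ center G) : cs a = h.m := by
  have haK : a ∉ h.K := fun hK => haZ (h.cent_inf_K_le_center hy' (Subgroup.mem_inf.mpr ⟨ha, hK⟩))
  set b := h.x with hbdef
  have hb : cs b = h.n := h.hx
  have hbK : b ∈ h.K := h.x_mem_K
  -- `C(ba) ∩ C(y') ≤ Z`
  have hinf : centralizer ({b * a} : Set G) ⊓ centralizer ({y'} : Set G) ≤ center G := by
    intro a' ha'
    have ha'1 : a' ∈ centralizer ({b * a} : Set G) := (Subgroup.mem_inf.mp ha').1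
    have ha'2 : a' ∈ centralizer ({y'} : Set G) := (Subgroup.mem_inf.mp ha').2
    rw [mem_cent] at ha'1
    have hzK : b⁻¹ * (a' * b * a'⁻¹) ∈ h.K :=
      mul_mem (inv_mem hbK) (h.K_normal.conj_mem b hbK a')
    have hzA : b⁻¹ * (a' * b * a'⁻¹) ∈ centralizer ({y'} : Set G) := by
      have e : b⁻¹ * (a' * b * a'⁻¹) = a * (a' * a * a'⁻¹)⁻¹ := by
        have e1 : a' * b * a'⁻¹ = (a' * (b * a) * a'⁻¹) * (a' * a * a'⁻¹)⁻¹ := by group
        rw [e1, ha'1]; group
      rw [e]
      exact mul_mem ha (inv_mem (mul_mem (mul_mem ha'2 ha) (inv_mem ha'2)))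
    have hz := h.cent_inf_K_le_center hy' (Subgroup.mem_inf.mpr ⟨hzA, hzK⟩)
    have hpow := h.pow_n_mem_center hy' ha'2
    have hxe : a' ^ h.n * b = b * a' ^ h.n := mem_center_iff.mp hpow b |>.symm
    have hcomm := h.core.comm_of_comm_mem_center hbK h.coprime_n_card_M hxe hz
    apply h.cent_inf_cent_le_center hb hy'
    refine Subgroup.mem_inf.mpr ⟨?_, ha'2⟩
    rw [mem_cent]; exact hcomm
  have heq : centralizer ({b * a} : Set G) ⊓ centralizer ({y'} : Set G) = center G :=
    le_antisymm hinf (le_inf (center_le_centralizer _) (center_le_centralizer _))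
  have h1 : (centralizer ({b * a} : Set G)).relIndex (centralizer ({y'} : Set G)) = h.n := by
    rw [← inf_relIndex_right, heq]
    exact h.relIndex_center_cent_Q hy'
  have h2 : (centralizer ({b * a} : Set G)).relIndex (centralizer ({y'} : Set G)) ≤
      (centralizer ({b * a} : Set G)).index := by
    have := relIndex_le_of_le_right (H := centralizer ({b * a} : Set G))
      (le_top : centralizer ({y'} : Set G) ≤ ⊤) (by
        rw [relIndex_top_right]; exact index_ne_zero_of_finite)
    rwa [relIndex_top_right] at this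
  rw [h1] at h2
  have hbaK : b * a ∉ h.K := by
    intro hmem
    apply haK
    have : a = b⁻¹ * (b * a) := by group
    rw [this]
    exact mul_mem (inv_mem hbK) hmem
  have hne : cs (b * a) ≠ h.n := fun e => hbaK (h.mem_K_of_cs_eq_n e)
  have hlt : h.n < cs (b * a) := lt_of_le_of_ne h2 (Ne.symm hne)
  have hba := h.cs_eq_m_of_n_lt hlt
  have := h.K_mul_Q (inv_mem hbK) hba
  rwa [inv_mul_cancel_left] at this

/-- **J**: noncentral `p`-elements, `p ∣ n`, have class size `m` -/
theorem cs_eq_m_of_prime_pow {s : G} {p k : ℕ} (hp : p.Prime) (hpn : p ∣ h.n)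
    (hs : orderOf s = p ^ k) (hsZ : s ∉ center G) : cs s = h.m := by
  haveI : Fact p.Prime := ⟨hp⟩
  have hpm : ¬ p ∣ h.m := by
    intro hd
    have h5 : p ∣ Nat.gcd h.m h.n := Nat.dvd_gcd hd hpn
    rw [h.hcop.gcd_eq_one] at h5
    exact hp.one_lt.ne' (Nat.dvd_one.mp h5)
  have hidx : ¬ p ∣ (centralizer ({h.y} : Set G)).index := by
    show ¬ p ∣ cs h.y
    rw [h.hy]; exact hpm
  obtain ⟨g, hg⟩ := exists_conj_mem_of_not_dvd_index (centralizer ({h.y} : Set G)) hidx hs
  have hgZ : g * s * g⁻¹ ∉ center G := by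
    intro hz
    apply hsZ
    have := (inferInstance : (center G).Normal).conj_mem _ hz g⁻¹
    have e : g⁻¹ * (g * s * g⁻¹) * g⁻¹⁻¹ = s := by group
    rwa [e] at this
  have := h.cs_eq_m_of_mem_cent_Q h.hy hg hgZ
  rwa [cs_conj] at this

/-- **K**: the only class sizes are `1`, `n` and `m` -/
theorem cs_cases (g : G) : cs g = 1 ∨ cs g = h.n ∨ cs g = h.m := by
  by_contra hcon
  rw [not_or, not_or] at hcon
  obtain ⟨h1, h2, h3⟩ := hcon
  have hlt : cs g < h.m := lt_of_le_of_ne (h.htop g) h3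
  have hle := h.hsecond g hlt
  have hltn : cs g < h.n := lt_of_le_of_ne hle h2
  have hgZ : g ∉ center G := fun hz => h1 ((cs_eq_one_iff g).mpr hz)
  obtain ⟨hu1, hu2, hdec, hpu, hpv⟩ := piPart_spec h.piN g
  -- the `π(n)`-part is central
  have hg1Z : piPart h.piN g ∈ center G := by
    by_contra hnz
    obtain ⟨r, w, hr, hw, ⟨j, hj⟩, hwZ⟩ :=
      Cfsg.Agent.Lib.Helper22.TwoClass.exists_primary_not_mem_center _ (piPart h.piN g) rfl hnz
    have hj0 : j ≠ 0 := by
      intro e
      rw [e, pow_zero, orderOf_eq_one_iff] at hj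
      exact hwZ (hj ▸ one_mem _)
    have hrw : r ∣ orderOf w := by rw [hj]; exact dvd_pow_self r hj0
    have hrn : r ∣ h.n := hpu r hr (hrw.trans (orderOf_dvd_of_mem_zpowers hw))
    have hwm := h.cs_eq_m_of_prime_pow hr hrn hj hwZ
    have hwg : w ∈ zpowers g := (zpowers_le.mpr hu1) hw
    have hd : cs w ∣ cs g := index_dvd_of_le (cent_le_of_mem_zpowers hwg)
    rw [hwm] at hd
    have := Nat.le_of_dvd (cs_pos g) hd
    omega
  set g₂ := piPart' h.piN g with hg₂def
  have hcent : centralizer ({g₂} : Set G) = centralizer ({g} : Set G) := by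
    have e : g = g₂ * piPart h.piN g := by
      exact hdec.trans (mem_center_iff.mp hg1Z _).symm
    conv_rhs => rw [e]
    exact (cent_mul_central _ hg1Z).symm
  have hg₂cs : cs g₂ = cs g := by unfold cs; rw [hcent]
  have hg₂Z : g₂ ∉ center G := by
    intro hz
    apply hgZ
    rw [hdec]
    exact mul_mem hg1Z hz
  -- pigeonhole
  have hex : ∃ a ∈ centralizer ({g₂} : Set G) ⊓ centralizer ({h.y} : Set G), a ∉ center G := by
    by_contra hcon2
    push Not at hcon2
    have heq : centralizer ({g₂} : Set G) ⊓ centralizer ({h.y} : Set G) = center G :=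
      le_antisymm hcon2 (le_inf (center_le_centralizer _) (center_le_centralizer _))
    have h4 : (centralizer ({g₂} : Set G)).relIndex (centralizer ({h.y} : Set G)) = h.n := by
      rw [← inf_relIndex_right, heq]
      exact h.relIndex_center_cent_Q h.hy
    have h5 : (centralizer ({g₂} : Set G)).relIndex (centralizer ({h.y} : Set G)) ≤
        (centralizer ({g₂} : Set G)).index := by
      have := relIndex_le_of_le_right (H := centralizer ({g₂} : Set G))
        (le_top : centralizer ({h.y} : Set G) ≤ ⊤) (by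
          rw [relIndex_top_right]; exact index_ne_zero_of_finite)
      rwa [relIndex_top_right] at this
    rw [h4] at h5
    have : (centralizer ({g₂} : Set G)).index = cs g₂ := rfl
    omega
  obtain ⟨a, haa, haZ⟩ := hex
  have hag : a ∈ centralizer ({g₂} : Set G) := (Subgroup.mem_inf.mp haa).1
  have hay : a ∈ centralizer ({h.y} : Set G) := (Subgroup.mem_inf.mp haa).2
  obtain ⟨ha1, ha2, hadec, hpa1, hpa2⟩ := piPart_spec h.piN a
  have ha2Z := h.mem_center_of_piElt'_cent_Q h.hy (zpowers_le_cent hay ha2) hpa2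
  have ha1Z : piPart h.piN a ∉ center G := by
    intro hz
    apply haZ
    rw [hadec]
    exact mul_mem hz ha2Z
  have ha1m := h.cs_eq_m_of_mem_cent_Q h.hy (zpowers_le_cent hay ha1) ha1Z
  have hg₂a1 : g₂ ∈ centralizer ({piPart h.piN a} : Set G) := by
    have := zpowers_le_cent hag ha1
    rw [mem_cent] at this ⊢
    exact this.symm
  have hle := h.cent_le_of_coprime_Q ha1m hg₂a1
    (Cfsg.Agent.Lib.Helper22.coprime_orderOf hpa1 hpv).symm
  have hd : cs g₂ ∣ h.m := by
    rw [← ha1m]
    exact index_dvd_of_le hle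
  have := h.cs_eq_m_of_dvd hg₂Z hd
  omega

end TwoLargest

end Cfsg.Agent.Lib.Helper9.ClassGraph
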