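import Mathlib
import Cfsg.Prelude.Def_Involutions
import Cfsg.Agent.Lib.Helper9.Conj
import Cfsg.Agent.Lib.Helper9.Isolated
import Cfsg.Agent.Lib.Helper9.StronglyEmbedded
import Cfsg.Agent.Lib.Helper9.BSW
import Cfsg.Agent.Lib.Helper9.BSW2
import Cfsg.Agent.S1224

set_option autoImplicit false
set_option linter.unusedSectionVars false
set_option linter.unusedVariables false

/-!
# Groups whose involution centralizers are elementary abelian 2-groups, part 3 (helper9)

`H = N_G(T)`, `D = H ∩ H^u`: `N_H(D) = D`, Frobenius structure of `H = T D`, fixed points of `D`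
on `G/H`, `N_G(D) = D⟨u⟩`.
-/

namespace Cfsg.Agent.Lib.Helper9.BSW3

open Cfsg.Agent.Lib.Helper9

variable {G : Type*} [Group G] [Finite G]

/-- the normalizer of `T` -/
abbrev NT (T : Sylow 2 G) : Subgroup G := Subgroup.normalizer ((T : Subgroup G) : Set G)

/-- `H ∩ H^u` -/
abbrev DD (T : Sylow 2 G) (u : G) : Subgroup G :=
  NT T ⊓ (NT T).map (MulAut.conj u).toMonoidHom

theorem four_le_card (T : Sylow 2 G) (hnc : ¬ IsCyclic (T : Subgroup G)) : 4 ≤ Nat.card T := by
  have : Fact (Nat.Prime 2) := ⟨Nat.prime_two⟩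
  obtain ⟨k, hk⟩ := IsPGroup.iff_card.mp T.2
  by_contra hlt
  push Not at hlt
  apply hnc
  have hk1 : k ≤ 1 := by
    by_contra h
    push Not at h
    have : 2 ^ 2 ≤ 2 ^ k := Nat.pow_le_pow_right (by norm_num) h
    have h4 : Nat.card (T : Subgroup G) < 4 := hlt
    omega
  interval_cases k
  · have h1 : Nat.card (T : Subgroup G) = 1 := by simpa using hk
    have : Subsingleton (T : Subgroup G) := (Nat.card_eq_one_iff_unique.mp h1).1
    exact isCyclic_of_subsingleton
  · have h2 : Nat.card (T : Subgroup G) = 2 := by simpa using hk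
    exact isCyclic_of_prime_card h2

section Main

variable (hC : InvCentElemAb G) (T : Sylow 2 G) (hnc : ¬ IsCyclic (T : Subgroup G))
  (hnn : ¬ (T : Subgroup G).Normal)

include hC hnc hnn

theorem T_ne_bot : (T : Subgroup G) ≠ ⊥ := sylow_ne_bot_of_not_cyclic T hnc

theorem stronglyEmbedded : Cfsg.IsStronglyEmbedded (NT T) :=
  normalizer_sylow_stronglyEmbedded hC T (sylow_ne_bot_of_not_cyclic T hnc) hnn

theorem T_sq {t : G} (ht : t ∈ (T : Subgroup G)) : t ^ 2 = 1 :=
  (sylow_elemAb hC T (sylow_ne_bot_of_not_cyclic T hnc)).2 t ht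

theorem T_comm {s t : G} (hs : s ∈ (T : Subgroup G)) (ht : t ∈ (T : Subgroup G)) :
    s * t = t * s :=
  (sylow_elemAb hC T (sylow_ne_bot_of_not_cyclic T hnc)).1 s hs t ht

theorem T_orderOf {t : G} (ht : t ∈ (T : Subgroup G)) (ht1 : t ≠ 1) : orderOf t = 2 :=
  orderOf_two_of_sq (by rw [← pow_two]; exact T_sq hC T hnc hnn ht) ht1

theorem T_inv {t : G} (ht : t ∈ (T : Subgroup G)) : t⁻¹ = t :=
  inv_eq_self_of_sq (by rw [← pow_two]; exact T_sq hC T hnc hnn ht)

/-- an element commuting with a nontrivial element of `T` lies in `T` -/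
theorem mem_T_of_commute {t g : G} (ht : t ∈ (T : Subgroup G)) (ht1 : t ≠ 1)
    (h : t * g = g * t) : g ∈ (T : Subgroup G) := by
  rw [← centralizer_eq_sylow hC T (sylow_ne_bot_of_not_cyclic T hnc)
    (T_orderOf hC T hnc hnn ht ht1) ht]
  rw [Subgroup.mem_centralizer_iff]
  intro y hy
  rw [Set.mem_singleton_iff] at hy; subst hy
  exact h

/-- involutions of `H` lie in `T` -/
theorem mem_T_of_involution {t : G} (ht : orderOf t = 2) (htH : t ∈ NT T) :
    t ∈ (T : Subgroup G) :=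
  mem_sylow_of_mem_normalizer T ht htH

/-- conjugation by `H` preserves `T` -/
theorem conj_mem_T {h t : G} (hh : h ∈ NT T) (ht : t ∈ (T : Subgroup G)) :
    h * t * h⁻¹ ∈ (T : Subgroup G) :=
  (Subgroup.mem_normalizer_iff.mp hh t).mp ht

variable {u : G} (hu : orderOf u = 2) (huH : u ∉ NT T)

include hu huH

theorem D_inv {d : G} (hd : d ∈ DD T u) : u * d * u⁻¹ = d⁻¹ :=
  (bsw_normalizer_structure hC T hnc hnn hu huH).1 d hd

theorem D_odd : Odd (Nat.card (DD T u)) :=
  (stronglyEmbedded hC T hnc hnn).2.2 u huH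

theorem D_eq_one_of_sq {d : G} (hd : d ∈ DD T u) (h2 : d ^ 2 = 1) : d = 1 := by
  have h1 : orderOf d ∣ 2 := orderOf_dvd_of_pow_eq_one h2
  have h3 : orderOf d ∣ Nat.card (DD T u) := by
    have := orderOf_dvd_natCard (⟨d, hd⟩ : DD T u)
    rwa [Subgroup.orderOf_mk] at this
  have h4 : Nat.Coprime (Nat.card (DD T u)) 2 :=
    Nat.coprime_two_right.mpr (D_odd hC T hnc hnn hu huH)
  have h5 : orderOf d ∣ Nat.gcd (Nat.card (DD T u)) 2 := Nat.dvd_gcd h3 h1
  rw [h4, Nat.dvd_one, orderOf_eq_one_iff] at h5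
  exact h5

theorem D_inf_T {d : G} (hd : d ∈ DD T u) (hdT : d ∈ (T : Subgroup G)) : d = 1 :=
  D_eq_one_of_sq hC T hnc hnn hu huH hd (T_sq hC T hnc hnn hdT)

theorem card_D : Nat.card (DD T u) = Nat.card T - 1 := by
  obtain ⟨-, h1, h2⟩ := bsw_normalizer_structure hC T hnc hnn hu huH
  have h3 := h2.card_mul_card
  have hTH : (T : Subgroup G) ≤ NT T := Subgroup.le_normalizer
  have hDH : DD T u ≤ NT T := inf_le_left
  rw [Nat.card_congr (Subgroup.subgroupOfEquivOfLe hDH).toEquiv,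
    Nat.card_congr (Subgroup.subgroupOfEquivOfLe hTH).toEquiv, h1] at h3
  have hq : 0 < Nat.card (T : Subgroup G) := Nat.card_pos
  have h4 : Nat.card (DD T u) * Nat.card (T : Subgroup G)
      = (Nat.card (T : Subgroup G) - 1) * Nat.card (T : Subgroup G) := by
    rw [h3, mul_comm]
  exact Nat.eq_of_mul_eq_mul_right hq h4

theorem three_le_card_D : 3 ≤ Nat.card (DD T u) := by
  rw [card_D hC T hnc hnn hu huH]
  have := four_le_card T hnc
  have h : Nat.card (T : Subgroup G) = Nat.card T := rfl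
  omega

/-- a nonidentity element of `D` -/
theorem exists_ne_one_D : ∃ d ∈ DD T u, d ≠ 1 := by
  have h3 := three_le_card_D hC T hnc hnn hu huH
  by_contra hcon
  push Not at hcon
  have : Subsingleton (DD T u) := ⟨fun a b => Subtype.ext ((hcon a.1 a.2).trans (hcon b.1 b.2).symm)⟩
  have : Nat.card (DD T u) ≤ 1 := Finite.card_le_one_iff_subsingleton.mpr this
  omega

theorem D_comm {d e : G} (hd : d ∈ DD T u) (he : e ∈ DD T u) : d * e = e * d := by
  have h1 := D_inv hC T hnc hnn hu huH hd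
  have h2 := D_inv hC T hnc hnn hu huH he
  have h3 := D_inv hC T hnc hnn hu huH ((DD T u).mul_mem hd he)
  have h4 : u * (d * e) * u⁻¹ = (u * d * u⁻¹) * (u * e * u⁻¹) := by group
  rw [h4, h1, h2] at h3
  have h5 : (d⁻¹ * e⁻¹)⁻¹ = ((d * e)⁻¹)⁻¹ := congrArg (·⁻¹) h3
  rw [inv_inv] at h5
  rw [← h5]; group

/-- factorization `h = d * t` -/
theorem exists_factor {h : G} (hh : h ∈ NT T) :
    ∃ d ∈ DD T u, ∃ t ∈ (T : Subgroup G), h = d * t := by
  obtain ⟨-, -, h2⟩ := bsw_normalizer_structure hC T hnc hnn hu huH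
  obtain ⟨x, hx, -⟩ := h2.existsUnique ⟨h, hh⟩
  refine ⟨x.1.1.1, ?_, x.2.1.1, ?_, ?_⟩
  · have := x.1.2
    rwa [SetLike.mem_coe, Subgroup.mem_subgroupOf] at this
  · have := x.2.2
    rwa [SetLike.mem_coe, Subgroup.mem_subgroupOf] at this
  · have := congrArg Subtype.val hx
    exact this.symm

/-- factorization `h = t * d` -/
theorem exists_factor' {h : G} (hh : h ∈ NT T) :
    ∃ t ∈ (T : Subgroup G), ∃ d ∈ DD T u, h = t * d := by
  obtain ⟨d, hd, t, ht, rfl⟩ := exists_factor hC T hnc hnn hu huH hh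
  have hdH : d ∈ NT T := hd.1
  refine ⟨d * t * d⁻¹, conj_mem_T hC T hnc hnn hdH ht, d, hd, by group⟩

/-- an element of `T` commuting with a nonidentity element of `D` is trivial -/
theorem T_eq_one_of_commute {t d : G} (ht : t ∈ (T : Subgroup G)) (hd : d ∈ DD T u)
    (hd1 : d ≠ 1) (h : t * d = d * t) : t = 1 := by
  by_contra ht1
  exact hd1 (D_inf_T hC T hnc hnn hu huH hd (mem_T_of_commute hC T hnc hnn ht ht1 h))

/-- `C_H(d) ≤ D` for `1 ≠ d ∈ D` -/
theorem mem_D_of_commute {h d : G} (hh : h ∈ NT T) (hd : d ∈ DD T u) (hd1 : d ≠ 1)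
    (hcomm : h * d = d * h) : h ∈ DD T u := by
  obtain ⟨e, he, t, ht, rfl⟩ := exists_factor hC T hnc hnn hu huH hh
  have h1 : t * d = d * t := by
    have h2 := D_comm hC T hnc hnn hu huH he hd
    have h3 : t * d = e⁻¹ * (e * t * d) := by group
    rw [h3, hcomm]
    have h4 : e⁻¹ * (d * (e * t)) = e⁻¹ * (d * e) * t := by group
    rw [h4, ← h2]; group
  rw [T_eq_one_of_commute hC T hnc hnn hu huH ht hd hd1 h1, mul_one]
  exact he

/-- `N_H(D) = D` -/
theorem mem_D_of_mem_normalizer {n : G} (hn : n ∈ Subgroup.normalizer ((DD T u : Subgroup G) : Set G))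
    (hnH : n ∈ NT T) : n ∈ DD T u := by
  obtain ⟨e, he, t, ht, rfl⟩ := exists_factor hC T hnc hnn hu huH hnH
  have htN : t ∈ Subgroup.normalizer ((DD T u : Subgroup G) : Set G) := by
    have : t = e⁻¹ * (e * t) := by group
    rw [this]
    exact Subgroup.mul_mem _ (Subgroup.inv_mem _ (Subgroup.le_normalizer he)) hn
  obtain ⟨d, hd, hd1⟩ := exists_ne_one_D hC T hnc hnn hu huH
  have h1 : t * d * t⁻¹ ∈ DD T u := (Subgroup.mem_normalizer_iff.mp htN d).mp hd
  have hdH : d ∈ NT T := hd.1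
  have h2 : t * d * t⁻¹ * d⁻¹ ∈ (T : Subgroup G) := by
    have : t * d * t⁻¹ * d⁻¹ = t * (d * t⁻¹ * d⁻¹) := by group
    rw [this]
    exact Subgroup.mul_mem _ ht (conj_mem_T hC T hnc hnn hdH (Subgroup.inv_mem _ ht))
  have h3 : t * d * t⁻¹ * d⁻¹ = 1 :=
    D_inf_T hC T hnc hnn hu huH ((DD T u).mul_mem h1 ((DD T u).inv_mem hd)) h2
  have h4 : t * d = d * t := by
    have : t * d = (t * d * t⁻¹ * d⁻¹) * (d * t) := by group
    rw [this, h3, one_mul]
  rw [T_eq_one_of_commute hC T hnc hnn hu huH ht hd hd1 h4, mul_one]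
  exact he

/-- Frobenius: `t₁ d₁` is `T`-conjugate to `d₁` -/
theorem exists_conj_eq {d t : G} (hd : d ∈ DD T u) (hd1 : d ≠ 1) (ht : t ∈ (T : Subgroup G)) :
    ∃ s ∈ (T : Subgroup G), s * d * s⁻¹ = t * d := by
  have hdH : d ∈ NT T := hd.1
  let f : ↥(T : Subgroup G) → ↥(T : Subgroup G) := fun s =>
    ⟨s.1 * (d * s.1⁻¹ * d⁻¹), Subgroup.mul_mem _ s.2
      (conj_mem_T hC T hnc hnn hdH (Subgroup.inv_mem _ s.2))⟩
  have hinj : Function.Injective f := by
    intro s s' h
    have h' : s.1 * (d * s.1⁻¹ * d⁻¹) = s'.1 * (d * s'.1⁻¹ * d⁻¹) := congrArg Subtype.val h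
    have hm : s'.1⁻¹ * s.1 ∈ (T : Subgroup G) := Subgroup.mul_mem _ (Subgroup.inv_mem _ s'.2) s.2
    have h1 : (s'.1⁻¹ * s.1) * d = d * (s'.1⁻¹ * s.1) := by
      have e1 : s'.1⁻¹ * s.1 = (d * s'.1⁻¹ * d⁻¹) * (d * s.1⁻¹ * d⁻¹)⁻¹ := by
        have : s'.1⁻¹ * s.1 = s'.1⁻¹ * (s.1 * (d * s.1⁻¹ * d⁻¹)) * (d * s.1⁻¹ * d⁻¹)⁻¹ := by group
        rw [this, h']; group
      have e2 : (d * s'.1⁻¹ * d⁻¹) * (d * s.1⁻¹ * d⁻¹)⁻¹ = d * (s'.1⁻¹ * s.1) * d⁻¹ := by group
      have e3 : s'.1⁻¹ * s.1 = d * (s'.1⁻¹ * s.1) * d⁻¹ := e1.trans e2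
      calc (s'.1⁻¹ * s.1) * d = (d * (s'.1⁻¹ * s.1) * d⁻¹) * d := by rw [← e3]
        _ = d * (s'.1⁻¹ * s.1) := by group
    have h2 := T_eq_one_of_commute hC T hnc hnn hu huH hm hd hd1 h1
    apply Subtype.ext
    have : s.1 = s'.1 := by
      have := inv_mul_eq_one.mp h2
      exact this.symm
    exact this
  have hsurj : Function.Surjective f := Finite.injective_iff_surjective.mp hinj
  obtain ⟨s, hs⟩ := hsurj ⟨t, ht⟩
  have hs' : s.1 * (d * s.1⁻¹ * d⁻¹) = t := congrArg Subtype.val hs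
  refine ⟨s.1, s.2, ?_⟩
  rw [← hs']; group

/-! ### Fixed points of `D` on `G/H` -/

/-- the fixed-point predicate -/
def Fx (T : Sylow 2 G) (u : G) (x : G ⧸ NT T) : Prop := ∀ d ∈ DD T u, d • x = x

omit hC hnc hnn hu huH in
theorem Fx_mk_one : Fx T u (QuotientGroup.mk 1) := by
  intro d hd
  rw [Cfsg.Agent.S1224.smul_mk_eq_iff]
  have : (1 : G)⁻¹ * (d * 1) = d := by group
  rw [this]
  exact hd.1

omit hC hnc hnn hu huH in
theorem Fx_mk_u : Fx T u (QuotientGroup.mk u) := by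
  intro d hd
  rw [Cfsg.Agent.S1224.smul_mk_eq_iff]
  have h2 : d ∈ (NT T).map (MulAut.conj u).toMonoidHom := hd.2
  rw [mem_conjMap] at h2
  have : u⁻¹ * (d * u) = u⁻¹ * d * u := by group
  rw [this]
  exact h2

omit hC hnc hnn hu in
theorem mk_u_ne : (QuotientGroup.mk u : G ⧸ NT T) ≠ QuotientGroup.mk 1 := by
  intro h
  rw [QuotientGroup.eq] at h
  apply huH
  have : u = (u⁻¹ * 1)⁻¹ := by group
  rw [this]
  exact Subgroup.inv_mem _ h

omit hC hnc hnn hu huH in
theorem smul_mk_one (v : G) : v • (QuotientGroup.mk 1 : G ⧸ NT T) = QuotientGroup.mk v := by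
  rw [MulAction.Quotient.smul_mk, smul_eq_mul, mul_one]

omit hC hnc hnn hu huH in
theorem not_mem_of_mk_ne {v : G} (h : (QuotientGroup.mk v : G ⧸ NT T) ≠ QuotientGroup.mk 1) :
    v ∉ NT T := by
  intro hv
  apply h
  rw [QuotientGroup.eq]
  have : v⁻¹ * 1 = v⁻¹ := by group
  rw [this]
  exact Subgroup.inv_mem _ hv

/-- if `D` fixes `vH` for an involution `v ∉ H` then `H ∩ H^v = D` -/
theorem DD_eq_of_Fx {v : G} (hv : orderOf v = 2) (hvH : v ∉ NT T)
    (hF : Fx T u (QuotientGroup.mk v)) : DD T u = DD T v := by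
  apply Subgroup.eq_of_le_of_card_ge
  · intro d hd
    refine Subgroup.mem_inf.mpr ⟨hd.1, ?_⟩
    rw [mem_conjMap]
    have h1 := hF d hd
    rw [Cfsg.Agent.S1224.smul_mk_eq_iff] at h1
    have : v⁻¹ * d * v = v⁻¹ * (d * v) := by group
    rw [this]
    exact h1
  · rw [card_D hC T hnc hnn hu huH, card_D hC T hnc hnn hv hvH]

theorem inv_of_Fx {v : G} (hv : orderOf v = 2) (hvH : v ∉ NT T)
    (hF : Fx T u (QuotientGroup.mk v)) {d : G} (hd : d ∈ DD T u) : v * d * v⁻¹ = d⁻¹ := by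
  rw [DD_eq_of_Fx hC T hnc hnn hu huH hv hvH hF] at hd
  exact D_inv hC T hnc hnn hv hvH hd

theorem u_mem_normalizer : u ∈ Subgroup.normalizer ((DD T u : Subgroup G) : Set G) := by
  have huu : u * u = 1 := sq_of_orderOf_two hu
  have huinv : u⁻¹ = u := inv_eq_self_of_sq huu
  rw [Subgroup.mem_normalizer_iff]
  intro h
  constructor
  · intro hh
    rw [D_inv hC T hnc hnn hu huH hh]
    exact Subgroup.inv_mem _ hh
  · intro hh
    have h1 := D_inv hC T hnc hnn hu huH hh
    have h2 : u * (u * h * u⁻¹) * u⁻¹ = h := by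
      rw [huinv]
      calc u * (u * h * u) * u = (u * u) * h * (u * u) := by group
        _ = h := by rw [huu]; group
    rw [h2] at h1
    rw [h1]
    exact Subgroup.inv_mem _ hh

theorem u_not_mem_centralizer : u ∉ Subgroup.centralizer ((DD T u : Subgroup G) : Set G) := by
  intro h
  obtain ⟨d, hd, hd1⟩ := exists_ne_one_D hC T hnc hnn hu huH
  rw [Subgroup.mem_centralizer_iff] at h
  have h1 := h d hd
  have h2 := D_inv hC T hnc hnn hu huH hd
  have h3 : u * d * u⁻¹ = d := by rw [← h1]; group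
  rw [h3] at h2
  apply hd1
  apply D_eq_one_of_sq hC T hnc hnn hu huH hd
  rw [pow_two]
  nth_rewrite 1 [h2]
  group

theorem u_not_mem_D : u ∉ DD T u := fun h => huH h.1

/-- the involutions of `H` -/
theorem card_involutions :
    Nat.card {t : G // orderOf t = 2 ∧ t ∈ NT T} = Nat.card T - 1 := by
  classical
  have hTH : (T : Subgroup G) ≤ NT T := Subgroup.le_normalizer
  let e : {t : G // orderOf t = 2 ∧ t ∈ NT T} ≃ {x : ↥(T : Subgroup G) // x ≠ 1} :=
    { toFun := fun t => ⟨⟨t.1, mem_T_of_involution hC T hnc hnn t.2.1 t.2.2⟩, by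
        intro h
        have : t.1 = 1 := congrArg Subtype.val h
        exact ne_one_of_orderOf_two t.2.1 this⟩
      invFun := fun x => ⟨x.1.1, T_orderOf hC T hnc hnn x.1.2 (fun h => x.2 (Subtype.ext h)),
        hTH x.1.2⟩
      left_inv := fun t => rfl
      right_inv := fun x => rfl }
  rw [Nat.card_congr e]
  have : Fintype ↥(T : Subgroup G) := Fintype.ofFinite _
  rw [Nat.card_eq_fintype_card, Fintype.card_subtype_compl, Fintype.card_subtype_eq]
  have : Nat.card T = Fintype.card ↥(T : Subgroup G) := Nat.card_eq_fintype_card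
  omega

/-- the points fixed by `D` other than `H` -/
abbrev Fs (T : Sylow 2 G) (u : G) : Type _ :=
  {y : G ⧸ NT T // Fx T u y ∧ y ≠ QuotientGroup.mk 1}

/-- the involutions moving `H` to another fixed point of `D` -/
abbrev As (T : Sylow 2 G) (u : G) : Type _ :=
  {v : G // orderOf v = 2 ∧ Fx T u (v • (QuotientGroup.mk 1 : G ⧸ NT T)) ∧
    v • (QuotientGroup.mk 1 : G ⧸ NT T) ≠ QuotientGroup.mk 1}

theorem card_As : Nat.card (As T u) = Nat.card (Fs T u) * (Nat.card T - 1) := by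
  classical
  have : Fintype (Fs T u) := Fintype.ofFinite _
  let f : As T u → Fs T u := fun a => ⟨a.1 • QuotientGroup.mk 1, a.2.2.1, a.2.2.2⟩
  rw [← Nat.card_congr (Equiv.sigmaFiberEquiv f), Nat.card_sigma]
  have hfib : ∀ y : Fs T u, Nat.card {a : As T u // f a = y} = Nat.card T - 1 := by
    intro y
    have e : {a : As T u // f a = y} ≃
        {i : G // orderOf i = 2 ∧ i • (QuotientGroup.mk 1 : G ⧸ NT T) = y.1} :=
      { toFun := fun a => ⟨a.1.1, a.1.2.1, congrArg Subtype.val a.2⟩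
        invFun := fun i => ⟨⟨i.1, i.2.1, by rw [i.2.2]; exact y.2.1, by rw [i.2.2]; exact y.2.2⟩,
          Subtype.ext i.2.2⟩
        left_inv := fun a => rfl
        right_inv := fun i => rfl }
    rw [Nat.card_congr e, Cfsg.Agent.S1224.result (NT T) (stronglyEmbedded hC T hnc hnn) _ _
      (Ne.symm y.2.2), card_involutions hC T hnc hnn hu huH]
  simp only [hfib, Finset.sum_const, Finset.card_univ, smul_eq_mul]
  rw [Nat.card_eq_fintype_card (α := Fs T u)]

theorem card_As_le :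
    Nat.card (As T u) ≤ Nat.card (Subgroup.centralizer ((DD T u : Subgroup G) : Set G)) := by
  have huu : u * u = 1 := sq_of_orderOf_two hu
  have hmem : ∀ a : As T u, u * a.1 ∈ Subgroup.centralizer ((DD T u : Subgroup G) : Set G) := by
    intro a
    have h1 := a.2.2.1
    have h2 := a.2.2.2
    rw [smul_mk_one] at h1 h2
    have hvH := not_mem_of_mk_ne T h2
    rw [Subgroup.mem_centralizer_iff]
    intro d hd
    have h3 := inv_of_Fx hC T hnc hnn hu huH a.2.1 hvH h1 hd
    have h4 := D_inv hC T hnc hnn hu huH ((DD T u).inv_mem hd)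
    rw [inv_inv] at h4
    calc d * (u * a.1) = (u * d⁻¹ * u⁻¹) * (u * a.1) := by rw [h4]
      _ = u * d⁻¹ * a.1 := by group
      _ = u * (a.1 * d * a.1⁻¹) * a.1 := by rw [h3]
      _ = u * a.1 * d := by group
  apply Nat.card_le_card_of_injective (fun a : As T u => (⟨u * a.1, hmem a⟩ :
    Subgroup.centralizer ((DD T u : Subgroup G) : Set G)))
  intro a b h
  have h1 : u * a.1 = u * b.1 := congrArg Subtype.val h
  exact Subtype.ext (mul_left_cancel h1)

theorem two_mul_card_centralizer_le :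
    2 * Nat.card (Subgroup.centralizer ((DD T u : Subgroup G) : Set G)) ≤
      Nat.card (Subgroup.normalizer ((DD T u : Subgroup G) : Set G)) := by
  have hle : Subgroup.centralizer ((DD T u : Subgroup G) : Set G) ≤
      Subgroup.normalizer ((DD T u : Subgroup G) : Set G) := Subgroup.centralizer_le_normalizer _
  obtain ⟨k, hk⟩ := Subgroup.card_dvd_of_le hle
  have hpos : 0 < Nat.card (Subgroup.normalizer ((DD T u : Subgroup G) : Set G)) := Nat.card_pos
  rcases k with _ | _ | k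
  · rw [hk] at hpos; simp at hpos
  · exfalso
    have h1 : Subgroup.centralizer ((DD T u : Subgroup G) : Set G) =
        Subgroup.normalizer ((DD T u : Subgroup G) : Set G) :=
      Subgroup.eq_of_le_of_card_ge hle (by rw [hk]; simp)
    apply u_not_mem_centralizer hC T hnc hnn hu huH
    rw [h1]
    exact u_mem_normalizer hC T hnc hnn hu huH
  · rw [hk]
    nlinarith [Nat.zero_le (Nat.card (Subgroup.centralizer ((DD T u : Subgroup G) : Set G)))]

theorem card_normalizer_le :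
    Nat.card (Subgroup.normalizer ((DD T u : Subgroup G) : Set G)) ≤
      Nat.card {y : G ⧸ NT T // Fx T u y} * (Nat.card T - 1) := by
  classical
  rw [← card_D hC T hnc hnn hu huH, ← Nat.card_prod]
  set N := Subgroup.normalizer ((DD T u : Subgroup G) : Set G) with hN
  have hFx : ∀ n : N, Fx T u (n.1 • (QuotientGroup.mk 1 : G ⧸ NT T)) := by
    intro n d hd
    have h1 : n.1⁻¹ * d * n.1 ∈ DD T u := by
      have := (Subgroup.mem_normalizer_iff.mp (Subgroup.inv_mem _ n.2) d).mp hd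
      rwa [inv_inv] at this
    have h2 := Fx_mk_one (T := T) (u := u) _ h1
    calc d • n.1 • (QuotientGroup.mk 1 : G ⧸ NT T)
        = n.1 • ((n.1⁻¹ * d * n.1) • (QuotientGroup.mk 1 : G ⧸ NT T)) := by
          rw [← mul_smul, ← mul_smul]; congr 1; group
      _ = n.1 • (QuotientGroup.mk 1 : G ⧸ NT T) := by rw [h2]
  -- choice of representatives
  let σ : (G ⧸ NT T) → G := fun y =>
    if h : ∃ n : G, n ∈ N ∧ n • (QuotientGroup.mk 1 : G ⧸ NT T) = y then Classical.choose h else 1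
  have hσ : ∀ n : N, σ (n.1 • QuotientGroup.mk 1) ∈ N ∧
      σ (n.1 • QuotientGroup.mk 1) • (QuotientGroup.mk 1 : G ⧸ NT T) = n.1 • QuotientGroup.mk 1 := by
    intro n
    have h : ∃ m : G, m ∈ N ∧ m • (QuotientGroup.mk 1 : G ⧸ NT T) = n.1 • QuotientGroup.mk 1 :=
      ⟨n.1, n.2, rfl⟩
    simp only [σ, dif_pos h]
    exact Classical.choose_spec h
  have hmemD : ∀ n : N, (σ (n.1 • QuotientGroup.mk 1))⁻¹ * n.1 ∈ DD T u := by
    intro n
    obtain ⟨h1, h2⟩ := hσ n
    generalize σ (n.1 • QuotientGroup.mk 1) = s at h1 h2 ⊢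
    apply mem_D_of_mem_normalizer hC T hnc hnn hu huH
    · exact Subgroup.mul_mem _ (Subgroup.inv_mem _ h1) n.2
    · have h3 : (s⁻¹ * n.1) • (QuotientGroup.mk 1 : G ⧸ NT T)
          = QuotientGroup.mk 1 := by
        rw [mul_smul, ← h2, ← mul_smul, inv_mul_cancel, one_smul]
      rw [Cfsg.Agent.S1224.smul_mk_eq_iff] at h3
      have h4 : (1 : G)⁻¹ * (s⁻¹ * n.1 * 1)
          = s⁻¹ * n.1 := by group
      rw [h4] at h3
      exact h3
  apply Nat.card_le_card_of_injective (fun n : N =>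
    ((⟨n.1 • QuotientGroup.mk 1, hFx n⟩ : {y : G ⧸ NT T // Fx T u y}),
      (⟨(σ (n.1 • QuotientGroup.mk 1))⁻¹ * n.1, hmemD n⟩ : DD T u)))
  intro n n' h
  have h1 : n.1 • (QuotientGroup.mk 1 : G ⧸ NT T) = n'.1 • QuotientGroup.mk 1 :=
    congrArg (fun p => p.1.1) h
  have h2 : (σ (n.1 • QuotientGroup.mk 1))⁻¹ * n.1 = (σ (n'.1 • QuotientGroup.mk 1))⁻¹ * n'.1 :=
    congrArg (fun p => p.2.1) h
  rw [h1] at h2
  exact Subtype.ext (mul_left_cancel h2)

theorem card_Fx : Nat.card {y : G ⧸ NT T // Fx T u y} = Nat.card (Fs T u) + 1 := by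
  classical
  have : Fintype {y : G ⧸ NT T // Fx T u y} := Fintype.ofFinite _
  let z0 : {y : G ⧸ NT T // Fx T u y} := ⟨QuotientGroup.mk 1, Fx_mk_one T⟩
  let e : Fs T u ≃ {z : {y : G ⧸ NT T // Fx T u y} // z ≠ z0} :=
    { toFun := fun y => ⟨⟨y.1, y.2.1⟩, fun h => y.2.2 (congrArg Subtype.val h)⟩
      invFun := fun z => ⟨z.1.1, z.1.2, fun h => z.2 (Subtype.ext h)⟩
      left_inv := fun y => rfl
      right_inv := fun z => rfl }
  rw [Nat.card_congr e, Nat.card_eq_fintype_card, Nat.card_eq_fintype_card,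
    Fintype.card_subtype_compl, Fintype.card_subtype_eq]
  have : 0 < Fintype.card {y : G ⧸ NT T // Fx T u y} := Fintype.card_pos_iff.mpr ⟨z0⟩
  omega

theorem card_Fs_le_one : Nat.card (Fs T u) ≤ 1 := by
  have h1 := card_As hC T hnc hnn hu huH
  have h2 := card_As_le hC T hnc hnn hu huH
  have h3 := two_mul_card_centralizer_le hC T hnc hnn hu huH
  have h4 := card_normalizer_le hC T hnc hnn hu huH
  have h5 := card_Fx hC T hnc hnn hu huH
  have h6 := four_le_card T hnc
  rw [h5] at h4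
  rw [h1] at h2
  set m := Nat.card (Fs T u)
  set q1 := Nat.card T - 1 with hq1
  have hq : 3 ≤ q1 := by omega
  by_contra hm
  push Not at hm
  have h7 : 2 * (m * q1) ≤ (m + 1) * q1 := by omega
  have h8 : 2 * m * q1 ≤ (m + 1) * q1 := by rw [mul_assoc]; exact h7
  have h9 : 2 * m ≤ m + 1 := Nat.le_of_mul_le_mul_right h8 (by omega)
  omega

/-- **Fixed points of `D`**: exactly `H` and `uH`. -/
theorem Fx_iff (y : G ⧸ NT T) :
    Fx T u y ↔ y = QuotientGroup.mk 1 ∨ y = QuotientGroup.mk u := by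
  constructor
  · intro hy
    by_contra hcon
    push Not at hcon
    have hsub : Subsingleton (Fs T u) :=
      Finite.card_le_one_iff_subsingleton.mp (card_Fs_le_one hC T hnc hnn hu huH)
    have := hsub.elim ⟨y, hy, hcon.1⟩ ⟨QuotientGroup.mk u, Fx_mk_u T, mk_u_ne T huH⟩
    exact hcon.2 (congrArg Subtype.val this)
  · rintro (rfl | rfl)
    · exact Fx_mk_one T
    · exact Fx_mk_u T

theorem card_normalizer_le_two :
    Nat.card (Subgroup.normalizer ((DD T u : Subgroup G) : Set G)) ≤ 2 * (Nat.card T - 1) := by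
  have h4 := card_normalizer_le hC T hnc hnn hu huH
  have h5 := card_Fx hC T hnc hnn hu huH
  have h6 := card_Fs_le_one hC T hnc hnn hu huH
  rw [h5] at h4
  calc Nat.card (Subgroup.normalizer ((DD T u : Subgroup G) : Set G))
      ≤ (Nat.card (Fs T u) + 1) * (Nat.card T - 1) := h4
    _ ≤ 2 * (Nat.card T - 1) := Nat.mul_le_mul_right _ (by omega)

/-- **`N_G(D) = D⟨u⟩`** -/
theorem normalizer_D :
    Subgroup.normalizer ((DD T u : Subgroup G) : Set G) = DD T u ⊔ Subgroup.zpowers u := by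
  symm
  have hle : DD T u ⊔ Subgroup.zpowers u ≤ Subgroup.normalizer ((DD T u : Subgroup G) : Set G) :=
    sup_le Subgroup.le_normalizer
      (Subgroup.zpowers_le.mpr (u_mem_normalizer hC T hnc hnn hu huH))
  apply Subgroup.eq_of_le_of_card_ge hle
  refine (card_normalizer_le_two hC T hnc hnn hu huH).trans ?_
  rw [← card_D hC T hnc hnn hu huH]
  have hle2 : DD T u ≤ DD T u ⊔ Subgroup.zpowers u := le_sup_left
  obtain ⟨k, hk⟩ := Subgroup.card_dvd_of_le hle2
  have hpos : 0 < Nat.card (DD T u ⊔ Subgroup.zpowers u : Subgroup G) := Nat.card_pos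
  rcases k with _ | _ | k
  · rw [hk] at hpos; simp at hpos
  · exfalso
    have h1 : DD T u = DD T u ⊔ Subgroup.zpowers u :=
      Subgroup.eq_of_le_of_card_ge hle2 (by rw [hk]; simp)
    apply u_not_mem_D hC T hnc hnn hu huH
    rw [h1]
    exact Subgroup.mem_sup_right (Subgroup.mem_zpowers u)
  · rw [hk]
    nlinarith [Nat.zero_le (Nat.card (DD T u))]

end Main

end Cfsg.Agent.Lib.Helper9.BSW3
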