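import Mathlib
import Cfsg.Prelude.Def_Involutions
import Cfsg.Agent.Lib.Helper9.BSW3

set_option autoImplicit false
set_option linter.unusedSectionVars false
set_option linter.unusedVariables false

/-!
# Groups whose involution centralizers are elementary abelian 2-groups, part 4 (helper9)

`G` acts sharply 3-transitively on `G/N(T)`.
-/

namespace Cfsg.Agent.Lib.Helper9.BSW4

open Cfsg.Agent.Lib.Helper9 Cfsg.Agent.Lib.Helper9.BSW3

variable {G : Type*} [Group G] [Finite G]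

section Main

variable (hC : InvCentElemAb G) (T : Sylow 2 G) (hnc : ¬ IsCyclic (T : Subgroup G))
  (hnn : ¬ (T : Subgroup G).Normal)

include hC hnc hnn

/-- there is an involution outside `H` -/
theorem exists_involution_not_mem : ∃ u : G, orderOf u = 2 ∧ u ∉ NT T := by
  by_contra hcon
  push Not at hcon
  apply hnn
  refine ⟨fun t ht g => ?_⟩
  by_cases ht1 : t = 1
  · subst ht1
    have : g * 1 * g⁻¹ = 1 := by group
    rw [this]; exact Subgroup.one_mem _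
  · have h1 : orderOf (g * t * g⁻¹) = 2 := by
      rw [orderOf_conj_eq]; exact T_orderOf hC T hnc hnn ht ht1
    exact mem_T_of_involution hC T hnc hnn h1 (hcon _ h1)

variable {u : G} (hu : orderOf u = 2) (huH : u ∉ NT T)

include hu huH

/-- complements are `T`-conjugate -/
theorem complement_conj {v : G} (hv : orderOf v = 2) (hvH : v ∉ NT T) :
    ∃ s ∈ (T : Subgroup G), ∀ x ∈ DD T v, s⁻¹ * x * s ∈ DD T u := by
  obtain ⟨d', hd', hd'1⟩ := exists_ne_one_D hC T hnc hnn hv hvH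
  have hd'H : d' ∈ NT T := hd'.1
  obtain ⟨t₁, ht₁, d₁, hd₁, hfac⟩ := exists_factor' hC T hnc hnn hu huH hd'H
  have hd₁1 : d₁ ≠ 1 := by
    intro h
    rw [h, mul_one] at hfac
    rw [hfac] at hd' hd'1
    exact hd'1 (D_inf_T hC T hnc hnn hv hvH hd' ht₁)
  obtain ⟨s, hs, hsd⟩ := exists_conj_eq hC T hnc hnn hu huH hd₁ hd₁1 ht₁
  refine ⟨s, hs, fun x hx => ?_⟩
  have hsH : s ∈ NT T := Subgroup.le_normalizer hs
  have hxH : x ∈ NT T := hx.1
  apply mem_D_of_commute hC T hnc hnn hu huH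
    (Subgroup.mul_mem _ (Subgroup.mul_mem _ (Subgroup.inv_mem _ hsH) hxH) hsH) hd₁ hd₁1
  have h1 : x * d' = d' * x := D_comm hC T hnc hnn hv hvH hx hd'
  rw [hfac, ← hsd] at h1
  calc s⁻¹ * x * s * d₁ = s⁻¹ * (x * (s * d₁ * s⁻¹)) * s := by group
    _ = s⁻¹ * ((s * d₁ * s⁻¹) * x) * s := by rw [h1]
    _ = d₁ * (s⁻¹ * x * s) := by group

/-- `T` is transitive on the points other than `H` -/
theorem T_transitive (y : G ⧸ NT T) (hy : y ≠ QuotientGroup.mk 1) :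
    ∃ t ∈ (T : Subgroup G), t • (QuotientGroup.mk u : G ⧸ NT T) = y := by
  have hSE := stronglyEmbedded hC T hnc hnn
  have hcard := Cfsg.Agent.S1224.result (NT T) hSE (QuotientGroup.mk 1) y (Ne.symm hy)
  rw [card_involutions hC T hnc hnn hu huH] at hcard
  have h4 := four_le_card T hnc
  have hne : Nonempty {i : G // orderOf i = 2 ∧ i • (QuotientGroup.mk 1 : G ⧸ NT T) = y} := by
    by_contra hemp
    rw [not_nonempty_iff] at hemp
    rw [Nat.card_of_isEmpty] at hcard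
    omega
  obtain ⟨v, hv, hvy⟩ := hne
  rw [smul_mk_one] at hvy
  subst hvy
  have hvH : v ∉ NT T := not_mem_of_mk_ne T hy
  obtain ⟨s, hs, hsx⟩ := complement_conj hC T hnc hnn hv hvH hu huH
  have hsH : s ∈ NT T := Subgroup.le_normalizer hs
  have hFx : Fx T u (s • (QuotientGroup.mk v : G ⧸ NT T)) := by
    intro d hd
    have h1 := Fx_mk_u (T := T) (u := v) _ (hsx d hd)
    calc d • s • (QuotientGroup.mk v : G ⧸ NT T)
        = s • ((s⁻¹ * d * s) • (QuotientGroup.mk v : G ⧸ NT T)) := by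
          rw [← mul_smul, ← mul_smul]; congr 1; group
      _ = s • (QuotientGroup.mk v : G ⧸ NT T) := by rw [h1]
  rw [Fx_iff hC T hnc hnn hu huH] at hFx
  rcases hFx with h | h
  · exfalso
    apply hy
    have h2 : (QuotientGroup.mk v : G ⧸ NT T) = s⁻¹ • (QuotientGroup.mk 1 : G ⧸ NT T) := by
      rw [← h, ← mul_smul, inv_mul_cancel, one_smul]
    rw [h2, Cfsg.Agent.S1224.smul_mk_eq_iff]
    have : (1 : G)⁻¹ * (s⁻¹ * 1) = s⁻¹ := by group
    rw [this]
    exact Subgroup.inv_mem _ hsH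
  · refine ⟨s⁻¹, Subgroup.inv_mem _ hs, ?_⟩
    rw [← h, ← mul_smul, inv_mul_cancel, one_smul]

/-- `T` acts semiregularly off `H` -/
theorem T_semiregular {t : G} (ht : t ∈ (T : Subgroup G)) {y : G ⧸ NT T}
    (hy : y ≠ QuotientGroup.mk 1) (hty : t • y = y) : t = 1 := by
  by_contra ht1
  have hSE := stronglyEmbedded hC T hnc hnn
  have hto := T_orderOf hC T hnc hnn ht ht1
  induction y using QuotientGroup.induction_on with
  | H g =>
    rw [Cfsg.Agent.S1224.smul_mk_eq_iff] at hty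
    have h1 : t ∈ (NT T).map (MulAut.conj g).toMonoidHom := by
      rw [mem_conjMap]
      have : g⁻¹ * t * g = g⁻¹ * (t * g) := by group
      rw [this]; exact hty
    have h2 : t ∈ (NT T).map (MulAut.conj (1 : G)).toMonoidHom := by
      rw [conjMap_one]; exact Subgroup.le_normalizer ht
    have h3 := se_conj_unique hSE hto h2 h1
    apply hy
    rw [QuotientGroup.eq]
    have : g⁻¹ * 1 = ((1 : G)⁻¹ * g)⁻¹ := by group
    rw [this]
    exact Subgroup.inv_mem _ h3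

/-- regularity of `T` -/
theorem T_regular (x y : G ⧸ NT T) (hx : x ≠ QuotientGroup.mk 1) (hy : y ≠ QuotientGroup.mk 1) :
    ∃! t : G, t ∈ T ∧ t • x = y := by
  obtain ⟨t₁, ht₁, h1⟩ := T_transitive hC T hnc hnn hu huH x hx
  obtain ⟨t₂, ht₂, h2⟩ := T_transitive hC T hnc hnn hu huH y hy
  refine ⟨t₂ * t₁⁻¹, ⟨Subgroup.mul_mem _ ht₂ (Subgroup.inv_mem _ ht₁), ?_⟩, ?_⟩
  · rw [← h1, ← mul_smul, inv_mul_cancel_right, h2]
  · rintro t ⟨ht, htx⟩
    have h3 : ((t₂ * t₁⁻¹)⁻¹ * t) • x = x := by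
      rw [mul_smul, htx, ← h2, ← h1, ← mul_smul]
      congr 1; group
    have h4 := T_semiregular hC T hnc hnn hu huH
      (Subgroup.mul_mem _ (Subgroup.inv_mem _ (Subgroup.mul_mem _ ht₂ (Subgroup.inv_mem _ ht₁))) ht)
      hx h3
    have := inv_mul_eq_one.mp h4
    exact this.symm

omit hC hnc hnn hu huH in
theorem mem_NT_of_smul {g : G} (h : g • (QuotientGroup.mk 1 : G ⧸ NT T) = QuotientGroup.mk 1) :
    g ∈ NT T := by
  rw [Cfsg.Agent.S1224.smul_mk_eq_iff] at h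
  have : (1 : G)⁻¹ * (g * 1) = g := by group
  rwa [this] at h

omit hC hnc hnn hu huH in
theorem smul_of_mem_NT {g : G} (h : g ∈ NT T) :
    g • (QuotientGroup.mk 1 : G ⧸ NT T) = QuotientGroup.mk 1 := by
  rw [Cfsg.Agent.S1224.smul_mk_eq_iff]
  have : (1 : G)⁻¹ * (g * 1) = g := by group
  rwa [this]

omit hC hnc hnn hu huH in
theorem mem_DD_of_smul {g : G} (h0 : g • (QuotientGroup.mk 1 : G ⧸ NT T) = QuotientGroup.mk 1)
    (h1 : g • (QuotientGroup.mk u : G ⧸ NT T) = QuotientGroup.mk u) : g ∈ DD T u := by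
  refine Subgroup.mem_inf.mpr ⟨mem_NT_of_smul T h0, ?_⟩
  rw [mem_conjMap]
  rw [Cfsg.Agent.S1224.smul_mk_eq_iff] at h1
  have : u⁻¹ * g * u = u⁻¹ * (g * u) := by group
  rw [this]; exact h1

/-- 2-transitivity: move a pair of distinct points to `(H, uH)` -/
theorem exists_smul_pair (x y : G ⧸ NT T) (hxy : x ≠ y) :
    ∃ g : G, g • x = QuotientGroup.mk 1 ∧ g • y = QuotientGroup.mk u := by
  induction x using QuotientGroup.induction_on with
  | H a =>
    have h1 : a⁻¹ • (QuotientGroup.mk a : G ⧸ NT T) = QuotientGroup.mk 1 := by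
      rw [MulAction.Quotient.smul_mk, smul_eq_mul, inv_mul_cancel]
    have h2 : a⁻¹ • y ≠ QuotientGroup.mk 1 := by
      intro h
      apply hxy
      have : y = a • (QuotientGroup.mk 1 : G ⧸ NT T) := by
        rw [← h, ← mul_smul, mul_inv_cancel, one_smul]
      rw [this, MulAction.Quotient.smul_mk, smul_eq_mul, mul_one]
    obtain ⟨t, ht, hty⟩ := T_transitive hC T hnc hnn hu huH _ h2
    have htH : t ∈ NT T := Subgroup.le_normalizer ht
    refine ⟨t⁻¹ * a⁻¹, ?_, ?_⟩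
    · rw [mul_smul, h1]
      exact smul_of_mem_NT T (Subgroup.inv_mem _ htH)
    · rw [mul_smul, ← hty, ← mul_smul, inv_mul_cancel, one_smul]

/-- `D` is transitive on the remaining points -/
theorem D_transitive (z z' : G ⧸ NT T) (hz0 : z ≠ QuotientGroup.mk 1)
    (hz1 : z ≠ QuotientGroup.mk u) (hz'0 : z' ≠ QuotientGroup.mk 1)
    (hz'1 : z' ≠ QuotientGroup.mk u) : ∃ d ∈ DD T u, d • z = z' := by
  have hSE := stronglyEmbedded hC T hnc hnn
  obtain ⟨t, ht, htz⟩ := T_transitive hC T hnc hnn hu huH z hz0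
  obtain ⟨t', ht', htz'⟩ := T_transitive hC T hnc hnn hu huH z' hz'0
  have ht1 : t ≠ 1 := by
    intro h; apply hz1; rw [← htz, h, one_smul]
  have ht'1 : t' ≠ 1 := by
    intro h; apply hz'1; rw [← htz', h, one_smul]
  obtain ⟨d, hd, hdt⟩ := se_conj_in_D hSE hu huH (T_orderOf hC T hnc hnn ht ht1)
    (Subgroup.le_normalizer ht) (T_orderOf hC T hnc hnn ht' ht'1) (Subgroup.le_normalizer ht')
  refine ⟨d, hd, ?_⟩
  have h1 := Fx_mk_u (T := T) (u := u) d hd
  rw [← htz, ← htz', ← hdt]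
  calc d • t • (QuotientGroup.mk u : G ⧸ NT T)
      = (d * t * d⁻¹) • (d • (QuotientGroup.mk u : G ⧸ NT T)) := by
        rw [← mul_smul, ← mul_smul]; congr 1; group
    _ = (d * t * d⁻¹) • (QuotientGroup.mk u : G ⧸ NT T) := by rw [h1]

/-- 3-transitivity -/
theorem three_transitive (x₁ x₂ x₃ y₁ y₂ y₃ : G ⧸ NT T) (hx12 : x₁ ≠ x₂) (hx13 : x₁ ≠ x₃)
    (hx23 : x₂ ≠ x₃) (hy12 : y₁ ≠ y₂) (hy13 : y₁ ≠ y₃) (hy23 : y₂ ≠ y₃) :
    ∃ g : G, g • x₁ = y₁ ∧ g • x₂ = y₂ ∧ g • x₃ = y₃ := by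
  obtain ⟨g, hg1, hg2⟩ := exists_smul_pair hC T hnc hnn hu huH x₁ x₂ hx12
  obtain ⟨g', hg'1, hg'2⟩ := exists_smul_pair hC T hnc hnn hu huH y₁ y₂ hy12
  have hinj : ∀ (k : G) (a b : G ⧸ NT T), a ≠ b → k • a ≠ k • b := fun k a b hab h =>
    hab (MulAction.injective k h)
  have h1 : g • x₃ ≠ QuotientGroup.mk 1 := by rw [← hg1]; exact (hinj g _ _ hx13).symm
  have h2 : g • x₃ ≠ QuotientGroup.mk u := by rw [← hg2]; exact (hinj g _ _ hx23).symm
  have h3 : g' • y₃ ≠ QuotientGroup.mk 1 := by rw [← hg'1]; exact (hinj g' _ _ hy13).symm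
  have h4 : g' • y₃ ≠ QuotientGroup.mk u := by rw [← hg'2]; exact (hinj g' _ _ hy23).symm
  obtain ⟨d, hd, hdz⟩ := D_transitive hC T hnc hnn hu huH _ _ h1 h2 h3 h4
  have hd0 : d • (QuotientGroup.mk 1 : G ⧸ NT T) = QuotientGroup.mk 1 := Fx_mk_one T d hd
  have hd1 : d • (QuotientGroup.mk u : G ⧸ NT T) = QuotientGroup.mk u := Fx_mk_u T d hd
  refine ⟨g'⁻¹ * d * g, ?_, ?_, ?_⟩
  · rw [mul_smul, mul_smul, hg1, hd0, ← hg'1, ← mul_smul, inv_mul_cancel, one_smul]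
  · rw [mul_smul, mul_smul, hg2, hd1, ← hg'2, ← mul_smul, inv_mul_cancel, one_smul]
  · rw [mul_smul, mul_smul, hdz, ← mul_smul, inv_mul_cancel, one_smul]

/-- only the identity of `D` fixes a third point -/
theorem D_semiregular {d : G} (hd : d ∈ DD T u) {z : G ⧸ NT T} (hz0 : z ≠ QuotientGroup.mk 1)
    (hz1 : z ≠ QuotientGroup.mk u) (hdz : d • z = z) : d = 1 := by
  obtain ⟨t, ht, htz⟩ := T_transitive hC T hnc hnn hu huH z hz0
  have ht1 : t ≠ 1 := by
    intro h; apply hz1; rw [← htz, h, one_smul]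
  have htH : t ∈ NT T := Subgroup.le_normalizer ht
  have hdH : d ∈ NT T := hd.1
  have h1 : (t⁻¹ * d * t) • (QuotientGroup.mk u : G ⧸ NT T) = QuotientGroup.mk u := by
    rw [mul_smul, mul_smul, htz, hdz, ← htz, ← mul_smul, inv_mul_cancel, one_smul]
  have h0 : (t⁻¹ * d * t) • (QuotientGroup.mk 1 : G ⧸ NT T) = QuotientGroup.mk 1 :=
    smul_of_mem_NT T (Subgroup.mul_mem _ (Subgroup.mul_mem _ (Subgroup.inv_mem _ htH) hdH) htH)
  have h2 : t⁻¹ * d * t ∈ DD T u := mem_DD_of_smul T h0 h1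
  have h3 : t⁻¹ * d * t * d⁻¹ ∈ (T : Subgroup G) := by
    have : t⁻¹ * d * t * d⁻¹ = t⁻¹ * (d * t * d⁻¹) := by group
    rw [this]
    exact Subgroup.mul_mem _ (Subgroup.inv_mem _ ht) (conj_mem_T hC T hnc hnn hdH ht)
  have h4 : t⁻¹ * d * t * d⁻¹ = 1 :=
    D_inf_T hC T hnc hnn hu huH ((DD T u).mul_mem h2 ((DD T u).inv_mem hd)) h3
  have h5 : t * d = d * t := by
    have : d * t = t * (t⁻¹ * d * t * d⁻¹) * d := by group
    rw [this, h4, mul_one]
  exact D_inf_T hC T hnc hnn hu huH hd (mem_T_of_commute hC T hnc hnn ht ht1 h5)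

/-- sharpness -/
theorem three_sharp (g : G) (x₁ x₂ x₃ : G ⧸ NT T) (hx12 : x₁ ≠ x₂) (hx13 : x₁ ≠ x₃)
    (hx23 : x₂ ≠ x₃) (h1 : g • x₁ = x₁) (h2 : g • x₂ = x₂) (h3 : g • x₃ = x₃) : g = 1 := by
  obtain ⟨k, hk1, hk2⟩ := exists_smul_pair hC T hnc hnn hu huH x₁ x₂ hx12
  have hinj : ∀ (k : G) (a b : G ⧸ NT T), a ≠ b → k • a ≠ k • b := fun k a b hab h =>
    hab (MulAction.injective k h)
  have hz0 : k • x₃ ≠ QuotientGroup.mk 1 := by rw [← hk1]; exact (hinj k _ _ hx13).symm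
  have hz1 : k • x₃ ≠ QuotientGroup.mk u := by rw [← hk2]; exact (hinj k _ _ hx23).symm
  have hfix : ∀ x : G ⧸ NT T, g • x = x → (k * g * k⁻¹) • (k • x) = k • x := by
    intro x hx
    rw [← mul_smul, inv_mul_cancel_right, mul_smul, hx]
  have e1 := hfix _ h1
  have e2 := hfix _ h2
  have e3 := hfix _ h3
  rw [hk1] at e1
  rw [hk2] at e2
  have hD : k * g * k⁻¹ ∈ DD T u := mem_DD_of_smul T e1 e2
  have := D_semiregular hC T hnc hnn hu huH hD hz0 hz1 e3
  have h5 : g = k⁻¹ * (k * g * k⁻¹) * k := by group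
  rw [h5, this]; group

end Main

end Cfsg.Agent.Lib.Helper9.BSW4
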