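import Mathlib
import Cfsg.Prelude.Def_Involutions
import Cfsg.Agent.Lib.Helper9.BSW4
import Cfsg.Agent.Lib.Helper9.FieldOfAction

set_option autoImplicit false
set_option linter.unusedSectionVars false
set_option linter.unusedVariables false
set_option linter.style.haveILetI false

/-!
# Groups whose involution centralizers are elementary abelian 2-groups, part 5 (helper9)

Coordinatization of `T` by a finite field of order `|T|`.
-/

namespace Cfsg.Agent.Lib.Helper9.BSW5

open Cfsg.Agent.Lib.Helper9 Cfsg.Agent.Lib.Helper9.BSW3 Cfsg.Agent.Lib.Helper9.BSW4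

variable {G : Type*} [Group G] [Finite G]

section Main

variable (hC : InvCentElemAb G) (T : Sylow 2 G) (hnc : ¬ IsCyclic (T : Subgroup G))
  (hnn : ¬ (T : Subgroup G).Normal)

include hC hnc hnn

variable {u : G} (hu : orderOf u = 2) (huH : u ∉ NT T)

include hu huH

/-- **Coordinatization of `T`.** -/
theorem exists_coord {F : Type*} [Field F] [Fintype F]
    (hF : Fintype.card F = Nat.card (T : Subgroup G)) :
    ∃ (θ : G → F) (χ : G → F),
      (∀ s ∈ (T : Subgroup G), ∀ t ∈ (T : Subgroup G), θ (s * t) = θ s + θ t) ∧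
      (∀ s ∈ (T : Subgroup G), ∀ t ∈ (T : Subgroup G), θ s = θ t → s = t) ∧
      (∀ k : F, ∃ t ∈ (T : Subgroup G), θ t = k) ∧
      (∀ d ∈ DD T u, ∀ t ∈ (T : Subgroup G), θ (d * t * d⁻¹) = χ d * θ t) ∧
      (∃ e ∈ (T : Subgroup G), θ e = 1) := by
  classical
  have hSE := stronglyEmbedded hC T hnc hnn
  letI cg : CommGroup ↥(T : Subgroup G) :=
    { (inferInstance : Group ↥(T : Subgroup G)) with
      mul_comm := fun a b => Subtype.ext (T_comm hC T hnc hnn a.2 b.2) }
  -- conjugation as an endomorphism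
  let cj : ∀ d : G, d ∈ NT T → AddMonoid.End (Additive ↥(T : Subgroup G)) := fun d hd =>
    AddMonoidHom.mk' (fun a => Additive.ofMul
      (⟨d * (Additive.toMul a).1 * d⁻¹, conj_mem_T hC T hnc hnn hd (Additive.toMul a).2⟩ :
        ↥(T : Subgroup G))) (by
      intro a b
      apply Additive.toMul.injective
      apply Subtype.ext
      show d * ((Additive.toMul a).1 * (Additive.toMul b).1) * d⁻¹ =
        (d * (Additive.toMul a).1 * d⁻¹) * (d * (Additive.toMul b).1 * d⁻¹)
      group)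
  have hcj : ∀ (d : G) (hd : d ∈ NT T) (a : Additive ↥(T : Subgroup G)),
      ((Additive.toMul (cj d hd a)).1 : G) = d * (Additive.toMul a).1 * d⁻¹ := fun d hd a => rfl
  have hcj_ext : ∀ (φ ψ : AddMonoid.End (Additive ↥(T : Subgroup G))),
      (∀ a, ((Additive.toMul (φ a)).1 : G) = (Additive.toMul (ψ a)).1) → φ = ψ := by
    intro φ ψ h
    refine DFunLike.ext _ _ (fun a => ?_)
    apply Additive.toMul.injective
    exact Subtype.ext (h a)
  have hcj_mul : ∀ (d d' : G) (hd : d ∈ NT T) (hd' : d' ∈ NT T),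
      cj d hd * cj d' hd' = cj (d * d') (Subgroup.mul_mem _ hd hd') := by
    intro d d' hd hd'
    apply hcj_ext
    intro a
    show d * (d' * (Additive.toMul a).1 * d'⁻¹) * d⁻¹ = (d * d') * (Additive.toMul a).1 * (d * d')⁻¹
    group
  have hcj_congr : ∀ (d d' : G) (hd : d ∈ NT T) (hd' : d' ∈ NT T), d = d' → cj d hd = cj d' hd' := by
    intro d d' hd hd' h
    subst h
    rfl
  -- the base point
  obtain ⟨e₀, he₀T, he₀⟩ : ∃ e₀ ∈ (T : Subgroup G), e₀ ≠ 1 := by
    obtain ⟨z, hzT, hz, -⟩ := exists_central_involution T (T_ne_bot hC T hnc hnn)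
    exact ⟨z, hzT, ne_one_of_orderOf_two hz⟩
  have he₀o := T_orderOf hC T hnc hnn he₀T he₀
  let 𝒟 : Set (AddMonoid.End (Additive ↥(T : Subgroup G))) :=
    {φ | ∃ d, ∃ hd : d ∈ DD T u, φ = cj d hd.1}
  let e : Additive ↥(T : Subgroup G) := Additive.ofMul ⟨e₀, he₀T⟩
  have hyp : FieldOfAction.Hyp 𝒟 e := by
    refine ⟨?_, ?_, ?_, ?_, ?_, ?_, ?_⟩
    · refine ⟨1, Subgroup.one_mem _, ?_⟩
      apply hcj_ext
      intro a
      show (Additive.toMul a).1 = 1 * (Additive.toMul a).1 * 1⁻¹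
      group
    · rintro φ ⟨d, hd, rfl⟩ ψ ⟨d', hd', rfl⟩
      exact ⟨d * d', Subgroup.mul_mem _ hd hd', hcj_mul d d' hd.1 hd'.1⟩
    · rintro φ ⟨d, hd, rfl⟩ ψ ⟨d', hd', rfl⟩
      rw [hcj_mul d d' hd.1 hd'.1, hcj_mul d' d hd'.1 hd.1]
      exact hcj_congr _ _ (Subgroup.mul_mem _ hd.1 hd'.1) (Subgroup.mul_mem _ hd'.1 hd.1)
        (D_comm hC T hnc hnn hu huH hd hd')
    · intro h
      apply he₀
      have := congrArg (fun a => ((Additive.toMul a).1 : G)) h
      exact this
    · rintro φ ⟨d, hd, rfl⟩ ψ ⟨d', hd', rfl⟩ h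
      have h1 : d * e₀ * d⁻¹ = d' * e₀ * d'⁻¹ :=
        congrArg (fun a => ((Additive.toMul a).1 : G)) h
      have h2 : d'⁻¹ * d ∈ (T : Subgroup G) := by
        rw [← centralizer_eq_sylow hC T (T_ne_bot hC T hnc hnn) he₀o he₀T]
        exact mem_centralizer_singleton_of_conj_eq h1
      have h3 := D_inf_T hC T hnc hnn hu huH ((DD T u).mul_mem ((DD T u).inv_mem hd') hd) h2
      have h4 : d = d' := by
        have := inv_mul_eq_one.mp h3
        exact this.symm
      exact hcj_congr _ _ hd.1 hd'.1 h4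
    · rintro φ ⟨d, hd, rfl⟩ h
      have h1 : d * e₀ * d⁻¹ = 1 := congrArg (fun a => ((Additive.toMul a).1 : G)) h
      apply he₀
      have : e₀ = d⁻¹ * (d * e₀ * d⁻¹) * d := by group
      rw [this, h1]; group
    · intro a ha
      have ha1 : ((Additive.toMul a).1 : G) ≠ 1 := by
        intro h
        apply ha
        apply Additive.toMul.injective
        exact Subtype.ext h
      obtain ⟨d, hd, hdt⟩ := se_conj_in_D hSE hu huH he₀o (Subgroup.le_normalizer he₀T)
        (T_orderOf hC T hnc hnn (Additive.toMul a).2 ha1)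
        (Subgroup.le_normalizer (Additive.toMul a).2)
      refine ⟨cj d hd.1, ⟨d, hd, rfl⟩, ?_⟩
      apply Additive.toMul.injective
      exact Subtype.ext hdt
  have hF' : Fintype.card F = Nat.card (Additive ↥(T : Subgroup G)) := by
    rw [hF]; exact Nat.card_congr Additive.ofMul
  obtain ⟨θ₀, χ₀, hbij, hadd, hone, hmul⟩ := FieldOfAction.exists_coordinatization hyp hF'
  refine ⟨fun g => if hg : g ∈ (T : Subgroup G) then θ₀ (Additive.ofMul ⟨g, hg⟩) else 0,
    fun d => if hd : d ∈ DD T u then χ₀ (cj d hd.1) else 0, ?_, ?_, ?_, ?_, ?_⟩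
  · intro s hs t ht
    simp only [dif_pos hs, dif_pos ht, dif_pos (Subgroup.mul_mem _ hs ht)]
    rw [← hadd]
    rfl
  · intro s hs t ht h
    simp only [dif_pos hs, dif_pos ht] at h
    have := hbij.1 h
    have h2 := congrArg (fun a => ((Additive.toMul a).1 : G)) this
    exact h2
  · intro k
    obtain ⟨a, ha⟩ := hbij.2 k
    refine ⟨(Additive.toMul a).1, (Additive.toMul a).2, ?_⟩
    simp only [dif_pos (Additive.toMul a).2]
    rw [← ha]
    rfl
  · intro d hd t ht
    have hdH : d ∈ NT T := hd.1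
    simp only [dif_pos hd, dif_pos ht, dif_pos (conj_mem_T hC T hnc hnn hdH ht)]
    rw [← hmul _ ⟨d, hd, rfl⟩]
    rfl
  · refine ⟨e₀, he₀T, ?_⟩
    simp only [dif_pos he₀T]
    exact hone

end Main

end Cfsg.Agent.Lib.Helper9.BSW5
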