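import Mathlib
import Cfsg.Prelude.Def_Involutions
import Cfsg.Agent.Lib.Helper9.BSW5
import Cfsg.Agent.Lib.Helper9.Mobius
import Cfsg.Agent.Lib.Helper3.CardSL
import Cfsg.Agent.S3660

set_option autoImplicit false
set_option linter.unusedSectionVars false
set_option linter.unusedVariables false
set_option linter.style.haveILetI false

/-!
# Groups whose involution centralizers are elementary abelian 2-groups, part 6 (helper9)

`G ≅ SL₂(F) ≅ PSL₂(F)` with `|F| = |T|`.
-/

namespace Cfsg.Agent.Lib.Helper9.BSW6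

open Cfsg.Agent.Lib.Helper9 Cfsg.Agent.Lib.Helper9.BSW3 Cfsg.Agent.Lib.Helper9.BSW4
  Cfsg.Agent.Lib.Helper9.Mobius OnePoint

variable {G : Type*} [Group G] [Finite G]

/-- the coordinate map `G/H → P¹(F)` -/
noncomputable def iota {F : Type*} (T : Sylow 2 G) (u : G) (θ : G → F) :
    G ⧸ NT T → OnePoint F := fun x =>
  open Classical in
  if h : ∃ t ∈ (T : Subgroup G), t • (QuotientGroup.mk u : G ⧸ NT T) = x then
    ((θ (Classical.choose h) : F) : OnePoint F) else ∞

section Main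

variable (hC : InvCentElemAb G) (T : Sylow 2 G) (hnc : ¬ IsCyclic (T : Subgroup G))
  (hnn : ¬ (T : Subgroup G).Normal)

include hC hnc hnn

variable {u : G} (hu : orderOf u = 2) (huH : u ∉ NT T)

include hu huH

theorem smul_x1_ne {t : G} (ht : t ∈ (T : Subgroup G)) :
    t • (QuotientGroup.mk u : G ⧸ NT T) ≠ QuotientGroup.mk 1 := by
  intro h
  apply mk_u_ne T huH
  have h1 : (QuotientGroup.mk u : G ⧸ NT T) = t⁻¹ • (QuotientGroup.mk 1 : G ⧸ NT T) := by
    rw [← h, ← mul_smul, inv_mul_cancel, one_smul]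
  rw [h1]
  exact smul_of_mem_NT T (Subgroup.inv_mem _ (Subgroup.le_normalizer ht))

theorem smul_x1_inj {s t : G} (hs : s ∈ (T : Subgroup G)) (ht : t ∈ (T : Subgroup G))
    (h : s • (QuotientGroup.mk u : G ⧸ NT T) = t • (QuotientGroup.mk u : G ⧸ NT T)) : s = t := by
  have h1 : (t⁻¹ * s) • (QuotientGroup.mk u : G ⧸ NT T) = QuotientGroup.mk u := by
    rw [mul_smul, h, ← mul_smul, inv_mul_cancel, one_smul]
  have h2 := T_semiregular hC T hnc hnn hu huH (Subgroup.mul_mem _ (Subgroup.inv_mem _ ht) hs)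
    (mk_u_ne T huH) h1
  have := inv_mul_eq_one.mp h2
  exact this.symm

theorem u_smul_x1 : u • (QuotientGroup.mk u : G ⧸ NT T) = QuotientGroup.mk 1 := by
  rw [MulAction.Quotient.smul_mk, smul_eq_mul, sq_of_orderOf_two hu]

theorem forall_points (P : G ⧸ NT T → Prop) (h0 : P (QuotientGroup.mk 1))
    (h1 : ∀ t ∈ (T : Subgroup G), P (t • (QuotientGroup.mk u : G ⧸ NT T))) : ∀ x, P x := by
  intro x
  by_cases hx : x = QuotientGroup.mk 1
  · rw [hx]; exact h0
  · obtain ⟨t, ht, rfl⟩ := T_transitive hC T hnc hnn hu huH x hx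
    exact h1 t ht

section Coord

variable {F : Type*} [Field F] [Fintype F] [DecidableEq F] [CharP F 2]
variable (θ χ : G → F)
  (hadd : ∀ s ∈ (T : Subgroup G), ∀ t ∈ (T : Subgroup G), θ (s * t) = θ s + θ t)
  (hinj : ∀ s ∈ (T : Subgroup G), ∀ t ∈ (T : Subgroup G), θ s = θ t → s = t)
  (hsurj : ∀ k : F, ∃ t ∈ (T : Subgroup G), θ t = k)
  (hmul : ∀ d ∈ DD T u, ∀ t ∈ (T : Subgroup G), θ (d * t * d⁻¹) = χ d * θ t)
  {e : G} (heT : e ∈ (T : Subgroup G)) (he : θ e = 1)

theorem iota_x0 : iota T u θ (QuotientGroup.mk 1) = ∞ := by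
  unfold iota
  rw [dif_neg]
  rintro ⟨t, ht, h⟩
  exact smul_x1_ne hC T hnc hnn hu huH ht h

theorem iota_smul {t : G} (ht : t ∈ (T : Subgroup G)) :
    iota T u θ (t • (QuotientGroup.mk u : G ⧸ NT T)) = ((θ t : F) : OnePoint F) := by
  unfold iota
  have h : ∃ s ∈ (T : Subgroup G), s • (QuotientGroup.mk u : G ⧸ NT T) =
      t • (QuotientGroup.mk u : G ⧸ NT T) := ⟨t, ht, rfl⟩
  rw [dif_pos h]
  have h1 := Classical.choose_spec h
  rw [smul_x1_inj hC T hnc hnn hu huH h1.1 ht h1.2]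

theorem iota_x1 (h0 : θ 1 = 0) : iota T u θ (QuotientGroup.mk u) = ((0 : F) : OnePoint F) := by
  have := iota_smul hC T hnc hnn hu huH θ (Subgroup.one_mem (T : Subgroup G))
  rw [one_smul, h0] at this
  exact this

include hadd in
theorem theta_one : θ 1 = 0 := by
  have := hadd 1 (Subgroup.one_mem _) 1 (Subgroup.one_mem _)
  rw [mul_one] at this
  have h2 : θ 1 + 0 = θ 1 + θ 1 := by rw [add_zero]; exact this
  exact (add_left_cancel h2).symm

include hadd hinj in
theorem eq_one_of_theta {t : G} (ht : t ∈ (T : Subgroup G)) (h : θ t = 0) : t = 1 :=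
  hinj t ht 1 (Subgroup.one_mem _) (h.trans (theta_one hC T hnc hnn hu huH θ hadd).symm)

include hinj hsurj in
theorem iota_bijective : Function.Bijective (iota T u θ) := by
  constructor
  · intro x
    refine forall_points hC T hnc hnn hu huH (fun x => ∀ y, iota T u θ x = iota T u θ y → x = y)
      ?_ ?_ x
    · intro y
      refine forall_points hC T hnc hnn hu huH
        (fun y => iota T u θ (QuotientGroup.mk 1) = iota T u θ y → QuotientGroup.mk 1 = y) ?_ ?_ y
      · intro _; rfl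
      · intro t ht h
        rw [iota_x0 hC T hnc hnn hu huH, iota_smul hC T hnc hnn hu huH θ ht] at h
        exact absurd h.symm (OnePoint.coe_ne_infty _)
    · intro s hs y
      refine forall_points hC T hnc hnn hu huH
        (fun y => iota T u θ (s • (QuotientGroup.mk u : G ⧸ NT T)) = iota T u θ y →
          s • (QuotientGroup.mk u : G ⧸ NT T) = y) ?_ ?_ y
      · intro h
        rw [iota_x0 hC T hnc hnn hu huH, iota_smul hC T hnc hnn hu huH θ hs] at h
        exact absurd h (OnePoint.coe_ne_infty _)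
      · intro t ht h
        rw [iota_smul hC T hnc hnn hu huH θ hs, iota_smul hC T hnc hnn hu huH θ ht] at h
        rw [hinj s hs t ht (OnePoint.coe_injective h)]
  · intro p
    cases p with
    | infty => exact ⟨QuotientGroup.mk 1, iota_x0 hC T hnc hnn hu huH θ⟩
    | coe k =>
      obtain ⟨t, ht, rfl⟩ := hsurj k
      exact ⟨t • QuotientGroup.mk u, iota_smul hC T hnc hnn hu huH θ ht⟩

include hadd in
/-- translations -/
theorem T_le_mobius : (T : Subgroup G) ≤ mobiusSubgroup (F := F) (iota T u θ) := by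
  intro t ht
  refine ⟨mkSL 1 (θ t) 0 1 (by ring), ?_⟩
  refine forall_points hC T hnc hnn hu huH _ ?_ ?_
  · rw [iota_x0 hC T hnc hnn hu huH, smul_of_mem_NT T (Subgroup.le_normalizer ht),
      iota_x0 hC T hnc hnn hu huH, mkSL_smul_infty, if_pos rfl]
  · intro s hs
    rw [← mul_smul, iota_smul hC T hnc hnn hu huH θ hs,
      iota_smul hC T hnc hnn hu huH θ (Subgroup.mul_mem _ ht hs), mkSL_smul_coe,
      if_neg (by rw [zero_mul, zero_add]; exact one_ne_zero), hadd t ht s hs]
    congr 1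
    rw [zero_mul, zero_add, div_one, one_mul, add_comm]

include hadd hinj hmul heT he in
theorem chi_ne_zero {d : G} (hd : d ∈ DD T u) : χ d ≠ 0 := by
  intro h
  have hdH : d ∈ NT T := hd.1
  have h1 := hmul d hd e heT
  rw [h, zero_mul] at h1
  have h2 := eq_one_of_theta hC T hnc hnn hu huH θ hadd hinj (conj_mem_T hC T hnc hnn hdH heT) h1
  have h3 : e = 1 := by
    have : e = d⁻¹ * (d * e * d⁻¹) * d := by group
    rw [this, h2]; group
  rw [h3, theta_one hC T hnc hnn hu huH θ hadd] at he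
  exact zero_ne_one he

include hadd hinj hmul heT he in
theorem chi_inv {d : G} (hd : d ∈ DD T u) : χ d⁻¹ * χ d = 1 := by
  have hdH : d ∈ NT T := hd.1
  have h1 := hmul d hd e heT
  have h2 := hmul d⁻¹ ((DD T u).inv_mem hd) (d * e * d⁻¹) (conj_mem_T hC T hnc hnn hdH heT)
  have h3 : d⁻¹ * (d * e * d⁻¹) * d⁻¹⁻¹ = e := by group
  rw [h3, h1, he, mul_one] at h2
  exact h2.symm

include hadd hinj hmul heT he in
/-- dilations -/
theorem D_le_mobius : DD T u ≤ mobiusSubgroup (F := F) (iota T u θ) := by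
  intro d hd
  have hdH : d ∈ NT T := hd.1
  obtain ⟨r, hr⟩ := FiniteField.isSquare_of_char_two (ringChar.eq F 2) (χ d)
  have hχ := chi_ne_zero hC T hnc hnn hu huH θ χ hadd hinj hmul heT he hd
  have hr0 : r ≠ 0 := by
    intro h; rw [h, mul_zero] at hr; exact hχ hr
  refine ⟨mkSL r 0 0 r⁻¹ (by rw [mul_inv_cancel₀ hr0]; ring), ?_⟩
  refine forall_points hC T hnc hnn hu huH _ ?_ ?_
  · rw [iota_x0 hC T hnc hnn hu huH, smul_of_mem_NT T hdH,
      iota_x0 hC T hnc hnn hu huH, mkSL_smul_infty, if_pos rfl]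
  · intro s hs
    have h1 : d • s • (QuotientGroup.mk u : G ⧸ NT T) =
        (d * s * d⁻¹) • (QuotientGroup.mk u : G ⧸ NT T) := by
      have h2 := Fx_mk_u (T := T) (u := u) d hd
      calc d • s • (QuotientGroup.mk u : G ⧸ NT T)
          = (d * s * d⁻¹) • (d • (QuotientGroup.mk u : G ⧸ NT T)) := by
            rw [← mul_smul, ← mul_smul]; congr 1; group
        _ = (d * s * d⁻¹) • (QuotientGroup.mk u : G ⧸ NT T) := by rw [h2]
    rw [h1, iota_smul hC T hnc hnn hu huH θ hs,
      iota_smul hC T hnc hnn hu huH θ (conj_mem_T hC T hnc hnn hdH hs), mkSL_smul_coe,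
      if_neg (by rw [zero_mul, zero_add]; exact inv_ne_zero hr0), hmul d hd s hs, hr]
    congr 1
    rw [zero_mul, zero_add, add_zero, div_eq_mul_inv, inv_inv]
    ring

include hadd hinj hmul heT he in
/-- the inversion -/
theorem u_mem_mobius : u ∈ mobiusSubgroup (F := F) (iota T u θ) := by
  have hSE := stronglyEmbedded hC T hnc hnn
  have hθ1 := theta_one hC T hnc hnn hu huH θ hadd
  have he1 : e ≠ 1 := by
    intro h; rw [h, hθ1] at he; exact zero_ne_one he
  have heo := T_orderOf hC T hnc hnn heT he1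
  -- the image of the base point
  have hne0 : u • e • (QuotientGroup.mk u : G ⧸ NT T) ≠ QuotientGroup.mk 1 := by
    intro h
    rw [← u_smul_x1 hC T hnc hnn hu huH] at h
    have h2 := MulAction.injective u h
    exact he1 (smul_x1_inj hC T hnc hnn hu huH heT (Subgroup.one_mem _) (by rw [h2, one_smul]))
  obtain ⟨s₀, hs₀, hs₀e⟩ := T_transitive hC T hnc hnn hu huH _ hne0
  have hs₀1 : s₀ ≠ 1 := by
    intro h
    rw [h, one_smul] at hs₀e
    have h1 : u • (QuotientGroup.mk 1 : G ⧸ NT T) = QuotientGroup.mk u := smul_mk_one T u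
    have h2 := MulAction.injective u (h1.trans hs₀e)
    exact smul_x1_ne hC T hnc hnn hu huH heT h2.symm
  have hγ : θ s₀ ≠ 0 := fun h => hs₀1 (eq_one_of_theta hC T hnc hnn hu huH θ hadd hinj hs₀ h)
  obtain ⟨r, hr⟩ := FiniteField.isSquare_of_char_two (ringChar.eq F 2) (θ s₀)
  have hr0 : r ≠ 0 := by
    intro h; rw [h, mul_zero] at hr; exact hγ hr
  refine ⟨mkSL 0 r r⁻¹ 0 (by rw [mul_inv_cancel₀ hr0, zero_mul, zero_sub]; exact CharTwo.neg_eq 1), ?_⟩
  refine forall_points hC T hnc hnn hu huH _ ?_ ?_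
  · rw [iota_x0 hC T hnc hnn hu huH, smul_mk_one, iota_x1 hC T hnc hnn hu huH θ hθ1,
      mkSL_smul_infty, if_neg (inv_ne_zero hr0), zero_div]
  · intro s hs
    by_cases hs1 : s = 1
    · rw [hs1, one_smul, u_smul_x1 hC T hnc hnn hu huH, iota_x0 hC T hnc hnn hu huH,
        iota_x1 hC T hnc hnn hu huH θ hθ1, mkSL_smul_coe, if_pos (by rw [mul_zero, add_zero])]
    · obtain ⟨d, hd, hds⟩ := se_conj_in_D hSE hu huH heo (Subgroup.le_normalizer heT)
        (T_orderOf hC T hnc hnn hs hs1) (Subgroup.le_normalizer hs)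
      have hdH : d ∈ NT T := hd.1
      have hdi : d⁻¹ ∈ DD T u := (DD T u).inv_mem hd
      have hχ := chi_ne_zero hC T hnc hnn hu huH θ χ hadd hinj hmul heT he hd
      have hθs : θ s = χ d := by rw [← hds, hmul d hd e heT, he, mul_one]
      have hud : u * d = d⁻¹ * u := by
        have := D_inv hC T hnc hnn hu huH hd
        rw [← this]; group
      have h1 : u • s • (QuotientGroup.mk u : G ⧸ NT T) =
          (d⁻¹ * s₀ * d⁻¹⁻¹) • (QuotientGroup.mk u : G ⧸ NT T) := by
        have h2 := Fx_mk_u (T := T) (u := u) d⁻¹ hdi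
        calc u • s • (QuotientGroup.mk u : G ⧸ NT T)
            = u • (d * e * d⁻¹) • (QuotientGroup.mk u : G ⧸ NT T) := by rw [hds]
          _ = u • (d * e) • (d⁻¹ • (QuotientGroup.mk u : G ⧸ NT T)) := by
            rw [← mul_smul (d * e) d⁻¹]
          _ = (u * d) • (e • (QuotientGroup.mk u : G ⧸ NT T)) := by
            rw [h2, ← mul_smul, ← mul_smul]; congr 1; group
          _ = d⁻¹ • (u • e • (QuotientGroup.mk u : G ⧸ NT T)) := by
            rw [hud, mul_smul]
          _ = d⁻¹ • s₀ • (QuotientGroup.mk u : G ⧸ NT T) := by rw [hs₀e]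
          _ = (d⁻¹ * s₀ * d⁻¹⁻¹) • (d⁻¹ • (QuotientGroup.mk u : G ⧸ NT T)) := by
            rw [← mul_smul, ← mul_smul]; congr 1; group
          _ = (d⁻¹ * s₀ * d⁻¹⁻¹) • (QuotientGroup.mk u : G ⧸ NT T) := by rw [h2]
      have hdiH : d⁻¹ ∈ NT T := hdi.1
      rw [h1, iota_smul hC T hnc hnn hu huH θ hs,
        iota_smul hC T hnc hnn hu huH θ (conj_mem_T hC T hnc hnn hdiH hs₀), mkSL_smul_coe,
        if_neg (by rw [add_zero, hθs]; exact mul_ne_zero (inv_ne_zero hr0) hχ),
        hmul d⁻¹ hdi s₀ hs₀, hθs, hr]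
      congr 1
      have hci := chi_inv hC T hnc hnn hu huH θ χ hadd hinj hmul heT he hd
      have : χ d⁻¹ = (χ d)⁻¹ := eq_inv_of_mul_eq_one_left hci
      rw [this, zero_mul, zero_add, add_zero]
      field_simp

include hadd hinj hmul heT he in
theorem mobius_eq_top : mobiusSubgroup (F := F) (iota T u θ) = (⊤ : Subgroup G) := by
  rw [eq_top_iff]
  intro g _
  have hT := T_le_mobius hC T hnc hnn hu huH θ hadd
  have hD := D_le_mobius hC T hnc hnn hu huH θ χ hadd hinj hmul heT he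
  have hU := u_mem_mobius hC T hnc hnn hu huH θ χ hadd hinj hmul heT he
  have hH : NT T ≤ mobiusSubgroup (F := F) (iota T u θ) := by
    intro h hh
    obtain ⟨d, hd, t, ht, rfl⟩ := exists_factor hC T hnc hnn hu huH hh
    exact Subgroup.mul_mem _ (hD hd) (hT ht)
  by_cases hg : g ∈ NT T
  · exact hH hg
  · have hg0 : g • (QuotientGroup.mk 1 : G ⧸ NT T) ≠ QuotientGroup.mk 1 := by
      intro h; exact hg (mem_NT_of_smul T h)
    obtain ⟨t, ht, htg⟩ := T_transitive hC T hnc hnn hu huH _ hg0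
    have h1 : ((t * u)⁻¹ * g) • (QuotientGroup.mk 1 : G ⧸ NT T) = QuotientGroup.mk 1 := by
      rw [mul_smul, ← htg, ← smul_mk_one T u, ← mul_smul, ← mul_smul, mul_assoc, inv_mul_cancel,
        one_smul]
    have h2 := hH (mem_NT_of_smul T h1)
    have h3 : g = (t * u) * ((t * u)⁻¹ * g) := by group
    rw [h3]
    exact Subgroup.mul_mem _ (Subgroup.mul_mem _ (hT ht) hU) h2

end Coord

theorem faithful (g : G) (h : ∀ x : G ⧸ NT T, g • x = x) : g = 1 := by
  obtain ⟨z, hzT, hz, -⟩ := exists_central_involution T (T_ne_bot hC T hnc hnn)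
  have hz1 := ne_one_of_orderOf_two hz
  refine three_sharp hC T hnc hnn hu huH g (QuotientGroup.mk 1) (QuotientGroup.mk u)
    (z • QuotientGroup.mk u) (mk_u_ne T huH).symm (smul_x1_ne hC T hnc hnn hu huH hzT).symm ?_
    (h _) (h _) (h _)
  intro h2
  apply hz1
  exact smul_x1_inj hC T hnc hnn hu huH hzT (Subgroup.one_mem _) (by rw [← h2, one_smul])

omit hu huH in
/-- **S1230**: `G ≅ PSL₂(F)` with `|F| = |T|`. -/
theorem main : ∃ (F : Type) (_ : Field F) (_ : Fintype F), Fintype.card F = Nat.card T ∧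
    Nonempty (G ≃* Matrix.ProjectiveSpecialLinearGroup (Fin 2) F) := by
  classical
  have : Fact (Nat.Prime 2) := ⟨Nat.prime_two⟩
  obtain ⟨u, hu, huH⟩ := exists_involution_not_mem hC T hnc hnn
  obtain ⟨k, hk⟩ := IsPGroup.iff_card.mp T.2
  have h4 := four_le_card T hnc
  have hTT : Nat.card T = Nat.card (T : Subgroup G) := rfl
  have hk0 : k ≠ 0 := by
    rintro rfl
    rw [pow_zero] at hk
    omega
  letI : Fintype (GaloisField 2 k) := Fintype.ofFinite _
  have hF : Fintype.card (GaloisField 2 k) = Nat.card (T : Subgroup G) := by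
    rw [← Nat.card_eq_fintype_card, GaloisField.card 2 k hk0, hk]
  obtain ⟨θ, χ, hadd, hinj, hsurj, hmul, e, heT, he⟩ :=
    BSW5.exists_coord hC T hnc hnn hu huH hF
  have hbij := iota_bijective hC T hnc hnn hu huH θ hinj hsurj
  have htop := mobius_eq_top hC T hnc hnn hu huH θ χ hadd hinj hmul heT he
  have hall : ∀ g : G, ∃ S : Matrix.SpecialLinearGroup (Fin 2) (GaloisField 2 k),
      ∀ x : G ⧸ NT T, (Matrix.SpecialLinearGroup.toGL S) • iota T u θ x = iota T u θ (g • x) := by
    intro g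
    have : g ∈ mobiusSubgroup (F := GaloisField 2 k) (iota T u θ) := by
      rw [htop]; exact Subgroup.mem_top g
    exact this
  have hcard : Nat.card (Matrix.SpecialLinearGroup (Fin 2) (GaloisField 2 k)) ≤ Nat.card G := by
    rw [Cfsg.Agent.Lib.Helper3.CardSL.card_SL2, hF, ← Subgroup.card_mul_index (NT T)]
    have h1 : (NT T).index = Nat.card (T : Subgroup G) + 1 := by
      show Nat.card (G ⧸ NT T) = _
      rw [Nat.card_congr (Equiv.ofBijective _ hbij), card_onePoint, Nat.card_eq_fintype_card, hF]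
    have h2 := (bsw_normalizer_structure hC T hnc hnn hu huH).2.1
    rw [h1, h2, ← hTT]
    obtain ⟨m, hm⟩ : ∃ m, Nat.card (T : Subgroup G) = m + 1 := ⟨Nat.card (T : Subgroup G) - 1, by omega⟩
    rw [hm]
    have h3 : (m + 1) ^ 2 - 1 = m * (m + 2) := by
      have : (m + 1) ^ 2 = m * (m + 2) + 1 := by ring
      omega
    rw [h3, Nat.add_sub_cancel]
    apply le_of_eq
    ring
  obtain ⟨φ⟩ := nonempty_mulEquiv_SL (iota T u θ) hbij (faithful hC T hnc hnn hu huH) hall hcard
  refine ⟨GaloisField 2 k, inferInstance, inferInstance, hF, ⟨φ.trans ?_⟩⟩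
  exact MulEquiv.ofBijective (QuotientGroup.mk' _) Cfsg.Agent.S3660.mk_bijective

end Main

end Cfsg.Agent.Lib.Helper9.BSW6
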