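import Cfsg.Agent.Lib.Helper16.StCCB.Defs

set_option autoImplicit false

/-! Steinberg's Theorem 10, PART B, piece [BT]: a Bool checker for `ShapeP` with its
specification (the per-type certificates are in `StCCBBT<type>.lean`). -/

namespace Cfsg.Agent.Lib.Helper14.StCC.B.Helper9

open Cfsg.Lie Cfsg.Agent.Lib.Helper8.Chev

/-- admissibility of the ordered pair `(a, b)` as a Bool -/
def admB (D : ChevalleyDatum) (a b : ℕ) : Bool :=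
  decide (a < D.nroots) && decide (b < D.nroots) && !(b == a) && !(b == D.neg a)

theorem admB_spec {D : ChevalleyDatum} {a b : ℕ} (h : admB D a b = true) :
    a < D.nroots ∧ b < D.nroots ∧ b ≠ a ∧ b ≠ D.neg a := by
  simp only [admB, Bool.and_eq_true, decide_eq_true_eq, Bool.not_eq_true', beq_eq_false_iff_ne]
    at h
  exact ⟨h.1.1.1, h.1.1.2, h.1.2, h.2⟩

/-- `NilP` as a Bool -/
def nilB (D : ChevalleyDatum) (a b : ℕ) : Bool :=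
  admB D a b && (D.commTerms a b).isEmpty

theorem nilB_spec {D : ChevalleyDatum} {a b : ℕ} (h : nilB D a b = true) : NilP D a b := by
  simp only [nilB, Bool.and_eq_true, List.isEmpty_iff] at h
  obtain ⟨h1, h2, h3, h4⟩ := admB_spec h.1
  exact ⟨h1, h2, h3, h4, h.2⟩

/-- `OneP` as a Bool -/
def oneB (D : ChevalleyDatum) (a b q : ℕ) (N : ℤ) : Bool :=
  admB D a b && decide (D.commTerms a b = [(q, N, 1, 1)])

theorem oneB_spec {D : ChevalleyDatum} {a b q : ℕ} {N : ℤ} (h : oneB D a b q N = true) :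
    OneP D a b q N := by
  simp only [oneB, Bool.and_eq_true, decide_eq_true_eq] at h
  obtain ⟨h1, h2, h3, h4⟩ := admB_spec h.1
  exact ⟨h1, h2, h3, h4, h.2⟩

/-- the constant of the first term of the commutator formula of `(a, b)` -/
def hdC (D : ChevalleyDatum) (a b : ℕ) : ℤ := ((D.commTerms a b).headD (0, 0, 0, 0)).2.1

/-- `ShapeP` as a Bool -/
def shapeB (D : ChevalleyDatum) (r s : ℕ) : Bool :=
  match D.commTerms r s with
  | [] => true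
  | [c1] => decide (c1.2.2 = (1, 1)) && nilB D s c1.1
  | [c1, c2] =>
      decide (c1.2.2 = (1, 1)) &&
      ((decide (c2.2.2 = (2, 1)) && nilB D c1.1 c2.1 && nilB D s c1.1 && nilB D s c2.1) ||
       (decide (c2.2.2 = (1, 2)) && nilB D c1.1 c2.1 && nilB D r c1.1 && nilB D r c2.1))
  | [c1, c2, c3] =>
      decide (c1.2.2 = (1, 1)) && decide (c2.2.2 = (2, 1)) && decide (c3.2.2 = (1, 2)) &&
      nilB D c1.1 c2.1 && nilB D c1.1 c3.1 && nilB D c2.1 c3.1 && nilB D s c2.1 &&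
      nilB D s c3.1 && oneB D s c1.1 c3.1 (hdC D s c1.1) &&
      decide (2 * c3.2.1 + hdC D s c1.1 * c1.2.1 = 0)
  | [c1, c2, c3, c4] =>
      decide (c1.2.2 = (1, 1)) &&
      ((decide (c2.2.2 = (2, 1)) && decide (c3.2.2 = (3, 1)) && decide (c4.2.2 = (3, 2)) &&
        nilB D c1.1 c3.1 && nilB D c1.1 c4.1 && nilB D c2.1 c3.1 && nilB D c2.1 c4.1 &&
        nilB D c3.1 c4.1 && nilB D s c1.1 && nilB D s c2.1 && nilB D s c4.1 &&
        oneB D c1.1 c2.1 c4.1 (hdC D c1.1 c2.1) && oneB D s c3.1 c4.1 (hdC D s c3.1) &&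
        decide (hdC D c1.1 c2.1 * c1.2.1 * c2.2.1 + hdC D s c3.1 * c3.2.1 + 2 * c4.2.1 = 0)) ||
       (decide (c2.2.2 = (1, 2)) && decide (c3.2.2 = (1, 3)) && decide (c4.2.2 = (2, 3)) &&
        nilB D c1.1 c3.1 && nilB D c1.1 c4.1 && nilB D c2.1 c3.1 && nilB D c2.1 c4.1 &&
        nilB D c3.1 c4.1 && nilB D r c1.1 && nilB D r c2.1 && nilB D r c4.1 &&
        oneB D c1.1 c2.1 c4.1 (hdC D c1.1 c2.1) && oneB D r c3.1 c4.1 (hdC D r c3.1) &&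
        decide (hdC D c1.1 c2.1 * c1.2.1 * c2.2.1 - hdC D r c3.1 * c3.2.1 + 2 * c4.2.1 = 0)))
  | _ => false

theorem shapeB_spec {D : ChevalleyDatum} {r s : ℕ} (h : shapeB D r s = true) : ShapeP D r s := by
  unfold shapeB at h
  unfold ShapeP
  generalize D.commTerms r s = l at h ⊢
  rcases l with _ | ⟨⟨q1, C1, i1, j1⟩, _ | ⟨⟨q2, C2, i2, j2⟩, _ | ⟨⟨q3, C3, i3, j3⟩,
    _ | ⟨⟨q4, C4, i4, j4⟩, _ | ⟨c5, l⟩⟩⟩⟩⟩
  · exact Or.inl rfl
  · simp only [Bool.and_eq_true, decide_eq_true_eq, Prod.mk.injEq] at h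
    obtain ⟨⟨rfl, rfl⟩, hn⟩ := h
    exact Or.inr (Or.inl ⟨q1, C1, rfl, nilB_spec hn⟩)
  · simp only [Bool.and_eq_true, Bool.or_eq_true, decide_eq_true_eq, Prod.mk.injEq] at h
    obtain ⟨⟨rfl, rfl⟩, h | h⟩ := h
    · obtain ⟨⟨⟨⟨rfl, rfl⟩, ha⟩, hb⟩, hc⟩ := h
      exact Or.inr (Or.inr (Or.inl ⟨q1, q2, C1, C2, rfl, nilB_spec ha, nilB_spec hb,
        nilB_spec hc⟩))
    · obtain ⟨⟨⟨⟨rfl, rfl⟩, ha⟩, hb⟩, hc⟩ := h
      exact Or.inr (Or.inr (Or.inr (Or.inl ⟨q1, q2, C1, C2, rfl, nilB_spec ha, nilB_spec hb,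
        nilB_spec hc⟩)))
  · simp only [Bool.and_eq_true, decide_eq_true_eq, Prod.mk.injEq] at h
    obtain ⟨⟨⟨⟨⟨⟨⟨⟨⟨⟨rfl, rfl⟩, ⟨rfl, rfl⟩⟩, ⟨rfl, rfl⟩⟩, h1⟩, h2⟩, h3⟩, h4⟩, h5⟩, h6⟩, h7⟩ := h
    exact Or.inr (Or.inr (Or.inr (Or.inr (Or.inl ⟨q1, q2, q3, C1, C2, C3, hdC D s q1, rfl,
      nilB_spec h1, nilB_spec h2, nilB_spec h3, nilB_spec h4, nilB_spec h5, oneB_spec h6, h7⟩))))
  · simp only [Bool.and_eq_true, Bool.or_eq_true, decide_eq_true_eq, Prod.mk.injEq] at h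
    obtain ⟨⟨rfl, rfl⟩, h | h⟩ := h
    · obtain ⟨⟨⟨⟨⟨⟨⟨⟨⟨⟨⟨⟨⟨⟨rfl, rfl⟩, ⟨rfl, rfl⟩⟩, ⟨rfl, rfl⟩⟩, h1⟩, h2⟩, h3⟩, h4⟩, h5⟩, h6⟩, h7⟩,
        h8⟩, h9⟩, h10⟩, h11⟩ := h
      exact Or.inr (Or.inr (Or.inr (Or.inr (Or.inr (Or.inl ⟨q1, q2, q3, q4, C1, C2, C3, C4,
        hdC D q1 q2, hdC D s q3, rfl, nilB_spec h1, nilB_spec h2, nilB_spec h3, nilB_spec h4,
        nilB_spec h5, nilB_spec h6, nilB_spec h7, nilB_spec h8, oneB_spec h9, oneB_spec h10,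
        h11⟩)))))
    · obtain ⟨⟨⟨⟨⟨⟨⟨⟨⟨⟨⟨⟨⟨⟨rfl, rfl⟩, ⟨rfl, rfl⟩⟩, ⟨rfl, rfl⟩⟩, h1⟩, h2⟩, h3⟩, h4⟩, h5⟩, h6⟩, h7⟩,
        h8⟩, h9⟩, h10⟩, h11⟩ := h
      exact Or.inr (Or.inr (Or.inr (Or.inr (Or.inr (Or.inr ⟨q1, q2, q3, q4, C1, C2, C3, C4,
        hdC D q1 q2, hdC D r q3, rfl, nilB_spec h1, nilB_spec h2, nilB_spec h3, nilB_spec h4,
        nilB_spec h5, nilB_spec h6, nilB_spec h7, nilB_spec h8, oneB_spec h9, oneB_spec h10,
        h11⟩)))))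
  · exact absurd h (by simp)

/-- all admissible ordered pairs `(r, s)` with `r` in the list `rs` have a checked shape -/
def rowsB (D : ChevalleyDatum) (rs : List ℕ) : Bool :=
  rs.all fun r => (List.range D.nroots).all fun s => s == r || s == D.neg r || shapeB D r s

theorem rowsB_spec {D : ChevalleyDatum} {rs : List ℕ} (h : rowsB D rs = true) {r s : ℕ}
    (hr : r ∈ rs) (hs : s < D.nroots) (h1 : s ≠ r) (h2 : s ≠ D.neg r) : ShapeP D r s := by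
  simp only [rowsB, List.all_eq_true, List.mem_range, Bool.or_eq_true, beq_iff_eq] at h
  rcases h r hr s hs with (h | h) | h
  · exact absurd h h1
  · exact absurd h h2
  · exact shapeB_spec h

end Cfsg.Agent.Lib.Helper14.StCC.B.Helper9
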