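import Cfsg.Agent.Lib.Helper16.F4CC.Defs
import Cfsg.Agent.Lib.Helper13.StCCBBMF4
import Cfsg.Agent.Lib.Helper9.StCCBBTDefs

set_option autoImplicit false

/-! S2103 piece [FT2]: the table fact `PerpP chevF4 r s` of Part B for every admissible ordered pair
of roots of type `F₄` (Bool checker + certificate + kernel evaluation).  The table of the vectors
`(aco D (D.simple i) s)_i` and its correctness are helper13's (`tabF4`, `checkTab_F4`). -/

namespace Cfsg.Agent.Lib.Helper16.F4CC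

open Cfsg.Lie Cfsg.Agent.Lib.Helper8.Chev Cfsg.Agent.Lib.Helper14.StCC

namespace Helper9

open Cfsg.Agent.Lib.Helper14.StCC.B.Helper13 (anyF anyF_eq_true tab_spec checkTab tabF4
  checkTab_F4)
open Cfsg.Agent.Lib.Helper14.StCC.B.Helper9 (admB admB_spec hdC)

/-- `DecP D r s` with the witnesses `a`, `b` (and `N = hdC D a b`) as a Bool -/
def decB (D : ChevalleyDatum) (r s a b : ℕ) : Bool :=
  admB D a b && decide (D.commTerms a b = [(s, hdC D a b, 1, 1)]) &&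
  (decide (hdC D a b = 1) || decide (hdC D a b = -1) || decide (hdC D a b = 2) ||
    decide (hdC D a b = -2)) &&
  !(a == r) && !(a == D.neg r) && (D.commTerms r a).isEmpty &&
  !(b == r) && !(b == D.neg r) && (D.commTerms r b).isEmpty

theorem decB_spec {D : ChevalleyDatum} {r s a b : ℕ} (h : decB D r s a b = true) : DecP D r s := by
  simp only [decB, Bool.and_eq_true, Bool.or_eq_true, decide_eq_true_eq, Bool.not_eq_true',
    beq_eq_false_iff_ne, List.isEmpty_iff] at h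
  obtain ⟨⟨⟨⟨⟨⟨⟨⟨hadm, hct⟩, hN⟩, ha1⟩, ha2⟩, ha3⟩, hb1⟩, hb2⟩, hb3⟩ := h
  obtain ⟨h1, h2, h3, h4⟩ := admB_spec hadm
  refine ⟨a, b, hdC D a b, h1, h2, h3, h4, hct, ?_, ⟨ha1, ha2, ha3⟩, ⟨hb1, hb2, hb3⟩⟩
  rcases hN with ((hN | hN) | hN) | hN
  · exact Or.inl hN
  · exact Or.inr (Or.inl hN)
  · exact Or.inr (Or.inr (Or.inl hN))
  · exact Or.inr (Or.inr (Or.inr hN))

/-- the check of the ordered pair `(r, s)`: `ms` are coweights (orthogonal to `r`), `ds` the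
witnesses `(s, a, b)` of `DecP` -/
noncomputable def pairPB (D : ChevalleyDatum) (tab : List (List ℤ)) (ms : List (List ℤ))
    (ds : List (ℕ × ℕ × ℕ)) (r s : ℕ) : Bool :=
  anyF (fun m => decide (B.Helper13.dotF m (tab.getD s []) = 1) || decide (B.Helper13.dotF m (tab.getD s []) = -1)) ms ||
  (anyF (fun m => decide (B.Helper13.dotF m (tab.getD s []) = 2) || decide (B.Helper13.dotF m (tab.getD s []) = -2)) ms &&
    (D.commTerms r s).isEmpty && (D.commTerms s r).isEmpty &&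
    ds.any fun e => e.1 == s && decB D r s e.2.1 e.2.2)

/-- the check of all pairs `(r, s)` for a fixed `r` -/
noncomputable def rowPB (D : ChevalleyDatum) (tab : List (List ℤ)) (ms : List (List ℤ))
    (ds : List (ℕ × ℕ × ℕ)) (r : ℕ) : Bool :=
  allF (fun m => decide (B.Helper13.dotF m (tab.getD r []) = 0)) ms &&
  (List.range D.nroots).all fun s => s == r || s == D.neg r || pairPB D tab ms ds r s

/-- the check of all pairs `(r, s)` with `r` in the list `rs` -/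
noncomputable def rowsPB (D : ChevalleyDatum) (tab : List (List ℤ)) (certM : List (List (List ℤ)))
    (certD : List (List (ℕ × ℕ × ℕ))) (rs : List ℕ) : Bool :=
  rs.all fun r => rowPB D tab (certM.getD r []) (certD.getD r []) r

theorem rowsPB_spec {D : ChevalleyDatum} {tab : List (List ℤ)} {certM : List (List (List ℤ))}
    {certD : List (List (ℕ × ℕ × ℕ))} {rs : List ℕ} (htab : checkTab D tab = true)
    (h : rowsPB D tab certM certD rs = true) {r s : ℕ} (hrs : r ∈ rs) (hr : r < D.nroots)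
    (hs : s < D.nroots) (h1 : s ≠ r) (h2 : s ≠ D.neg r) : PerpP D r s := by
  simp only [rowsPB, List.all_eq_true] at h
  have hrow := h r hrs
  simp only [rowPB, Bool.and_eq_true, allF_eq_true, decide_eq_true_eq, List.all_eq_true,
    List.mem_range, Bool.or_eq_true, beq_iff_eq] at hrow
  obtain ⟨hzero, hall⟩ := hrow
  rcases hall s hs with (hx | hx) | hx
  · exact absurd hx h1
  · exact absurd hx h2
  · simp only [pairPB, Bool.or_eq_true, Bool.and_eq_true, anyF_eq_true, decide_eq_true_eq,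
      List.isEmpty_iff, List.any_eq_true, beq_iff_eq] at hx
    rcases hx with ⟨m, hm, hval⟩ | ⟨⟨⟨⟨m, hm, hval⟩, hrs0⟩, hsr0⟩, e, -, -, hdec⟩
    · left
      refine ⟨fun i => m.getD i 0, ?_, ?_⟩
      · rw [tab_spec htab hr]; exact hzero m hm
      · rw [tab_spec htab hs]; exact hval
    · right
      refine ⟨⟨fun i => m.getD i 0, ?_, ?_⟩, hrs0, hsr0, decB_spec hdec⟩
      · rw [tab_spec htab hr]; exact hzero m hm
      · rw [tab_spec htab hs]; exact hval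

set_option maxHeartbeats 0 in
/-- for every root `r` of `F₄` a few coweights orthogonal to `r` -/
def certM_F4 : List (List (List ℤ)) :=
  [[[-1, -2, -1, 0], [-1, -1, -1, 0], [-2, -2, -1, 0]],
   [[-1, -2, -1, -1], [-1, -1, -1, -1], [-2, -2, -1, -1]],
   [[-1, -1, -2, -1], [-2, -1, -2, -2], [-2, -1, -2, -1]],
   [[0, -1, -2, -1], [0, -1, -1, -1], [0, -2, -2, -1]],
   [[-1, -2, -2, -1], [-1, -1, 0, -1], [-1, -2, -2, -2]],
   [[-1, -1, -1, 1], [0, -1, -1, -1], [-1, -1, -2, 0]],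
   [[-1, -1, -1, -2], [0, -1, -1, 0], [-1, -1, -2, -2]],
   [[-1, -1, -2, -1], [-1, -1, -1, -1], [-2, -2, -2, -1]],
   [[-1, -2, -2, -1], [-1, -1, -1, -1], [-2, -2, -2, -1]],
   [[-1, -1, -2, -1], [-1, -1, -1, 0], [-2, -1, -2, -1]],
   [[-1, -1, -2, -1], [-1, -1, -1, -1], [-2, -1, -2, -1]],
   [[-1, -2, -2, -1], [-1, -1, -1, 0], [-2, -2, -1, 0]],
   [[-1, -2, -2, -1], [-1, -1, -1, -1], [-2, -2, -1, -1]],
   [[-1, -1, -2, -1], [0, -1, -1, -1], [-2, 0, -2, -1]],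
   [[-1, -2, -2, -1], [0, 0, -1, -1], [-1, -2, -2, -2]],
   [[-1, -2, -2, -1], [-1, -1, -2, -2], [-1, -2, -2, -2]],
   [[-1, -1, -1, -1], [-2, -1, 1, -1], [-2, -2, -1, -1]],
   [[-1, -1, -1, 0], [-2, -1, -1, 2], [-2, -2, -1, 0]],
   [[-1, -2, -2, -1], [-1, -1, -1, -1], [-2, -2, -1, -2]],
   [[-1, -2, -2, -1], [-1, -1, -1, 0], [-2, -2, -1, 1]],
   [[-1, -1, -1, -1], [-1, -1, -1, 0], [-2, -1, 0, -2]],
   [[-1, -1, -1, -1], [-2, 0, 1, -1], [-2, -1, -1, -1]],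
   [[-1, -1, -1, 0], [-2, -2, -1, 2], [-2, -1, -1, 0]],
   [[-2, -2, -2, -1], [-1, -2, -2, -1], [-1, -1, -2, -1]],
   [[-2, -2, -2, -1], [-1, -2, -2, -1], [-1, -1, -2, -1]],
   [[-1, -1, -1, 0], [-2, -2, -1, 2], [-2, -1, -1, 0]],
   [[-1, -1, -1, -1], [-2, 0, 1, -1], [-2, -1, -1, -1]],
   [[-1, -1, -1, -1], [-1, -1, -1, 0], [-2, -1, 0, -2]],
   [[-1, -2, -2, -1], [-1, -1, -1, 0], [-2, -2, -1, 1]],
   [[-1, -2, -2, -1], [-1, -1, -1, -1], [-2, -2, -1, -2]],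
   [[-1, -1, -1, 0], [-2, -1, -1, 2], [-2, -2, -1, 0]],
   [[-1, -1, -1, -1], [-2, -1, 1, -1], [-2, -2, -1, -1]],
   [[-1, -2, -2, -1], [-1, -1, -2, -2], [-1, -2, -2, -2]],
   [[-1, -2, -2, -1], [0, 0, -1, -1], [-1, -2, -2, -2]],
   [[-1, -1, -2, -1], [0, -1, -1, -1], [-2, 0, -2, -1]],
   [[-1, -2, -2, -1], [-1, -1, -1, -1], [-2, -2, -1, -1]],
   [[-1, -2, -2, -1], [-1, -1, -1, 0], [-2, -2, -1, 0]],
   [[-1, -1, -2, -1], [-1, -1, -1, -1], [-2, -1, -2, -1]],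
   [[-1, -1, -2, -1], [-1, -1, -1, 0], [-2, -1, -2, -1]],
   [[-1, -2, -2, -1], [-1, -1, -1, -1], [-2, -2, -2, -1]],
   [[-1, -1, -2, -1], [-1, -1, -1, -1], [-2, -2, -2, -1]],
   [[-1, -1, -1, -2], [0, -1, -1, 0], [-1, -1, -2, -2]],
   [[-1, -1, -1, 1], [0, -1, -1, -1], [-1, -1, -2, 0]],
   [[-1, -2, -2, -1], [-1, -1, 0, -1], [-1, -2, -2, -2]],
   [[0, -1, -2, -1], [0, -1, -1, -1], [0, -2, -2, -1]],
   [[-1, -1, -2, -1], [-2, -1, -2, -2], [-2, -1, -2, -1]],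
   [[-1, -2, -1, -1], [-1, -1, -1, -1], [-2, -2, -1, -1]],
   [[-1, -2, -1, 0], [-1, -1, -1, 0], [-2, -2, -1, 0]]]

set_option maxHeartbeats 0 in
/-- for every root `r` of `F₄` the witnesses `(s, a, b)` of `DecP chevF4 r s` for the pairs without
a coweight of value `±1` -/
def certD_F4 : List (List (ℕ × ℕ × ℕ)) :=
  [[(6, 10, 14), (17, 10, 33), (22, 12, 34), (25, 13, 35), (30, 14, 37), (41, 33, 37)],
   [(5, 9, 14), (16, 9, 33), (21, 11, 34), (26, 13, 36), (31, 14, 38), (42, 33, 38)],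
   [(4, 8, 14), (15, 8, 33), (23, 11, 35), (24, 12, 36), (32, 14, 39), (43, 33, 39)], [],
   [(2, 7, 13), (15, 7, 34), (23, 9, 37), (24, 10, 38), (32, 13, 40), (45, 34, 40)],
   [(1, 7, 12), (16, 7, 35), (21, 8, 37), (26, 10, 39), (31, 12, 40), (46, 35, 40)],
   [(0, 7, 11), (17, 7, 36), (22, 8, 38), (25, 9, 39), (30, 11, 40), (47, 36, 40)], [], [], [],
   [], [], [], [], [],
   [(2, 3, 20), (4, 3, 27), (23, 9, 37), (24, 10, 38), (43, 20, 44), (45, 27, 44)],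
   [(1, 3, 19), (5, 3, 28), (21, 8, 37), (26, 10, 39), (42, 19, 44), (46, 28, 44)],
   [(0, 3, 18), (6, 3, 29), (22, 8, 38), (25, 9, 39), (41, 18, 44), (47, 29, 44)], [], [], [],
   [(1, 3, 19), (5, 3, 28), (16, 7, 35), (31, 12, 40), (42, 19, 44), (46, 28, 44)],
   [(0, 3, 18), (6, 3, 29), (17, 7, 36), (30, 11, 40), (41, 18, 44), (47, 29, 44)],
   [(2, 3, 20), (4, 3, 27), (15, 7, 34), (32, 13, 40), (43, 20, 44), (45, 27, 44)],
   [(2, 3, 20), (4, 3, 27), (15, 7, 34), (32, 13, 40), (43, 20, 44), (45, 27, 44)],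
   [(0, 3, 18), (6, 3, 29), (17, 7, 36), (30, 11, 40), (41, 18, 44), (47, 29, 44)],
   [(1, 3, 19), (5, 3, 28), (16, 7, 35), (31, 12, 40), (42, 19, 44), (46, 28, 44)], [], [], [],
   [(0, 3, 18), (6, 3, 29), (22, 8, 38), (25, 9, 39), (41, 18, 44), (47, 29, 44)],
   [(1, 3, 19), (5, 3, 28), (21, 8, 37), (26, 10, 39), (42, 19, 44), (46, 28, 44)],
   [(2, 3, 20), (4, 3, 27), (23, 9, 37), (24, 10, 38), (43, 20, 44), (45, 27, 44)], [], [], [],
   [], [], [], [], [],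
   [(0, 7, 11), (17, 7, 36), (22, 8, 38), (25, 9, 39), (30, 11, 40), (47, 36, 40)],
   [(1, 7, 12), (16, 7, 35), (21, 8, 37), (26, 10, 39), (31, 12, 40), (46, 35, 40)],
   [(2, 7, 13), (15, 7, 34), (23, 9, 37), (24, 10, 38), (32, 13, 40), (45, 34, 40)], [],
   [(4, 8, 14), (15, 8, 33), (23, 11, 35), (24, 12, 36), (32, 14, 39), (43, 33, 39)],
   [(5, 9, 14), (16, 9, 33), (21, 11, 34), (26, 13, 36), (31, 14, 38), (42, 33, 38)],
   [(6, 10, 14), (17, 10, 33), (22, 12, 34), (25, 13, 35), (30, 14, 37), (41, 33, 37)]]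

set_option maxRecDepth 1000000 in
theorem rows_F4 :
    rowsPB chevF4 tabF4 certM_F4 certD_F4 (List.range chevF4.nroots) = true := by
  decide +kernel

end Helper9

/-- [FT2] table for Part B, type `F₄` -/
theorem perpP_F4 {r s : ℕ} (hr : r < chevF4.nroots) (hs : s < chevF4.nroots) (h1 : s ≠ r)
    (h2 : s ≠ chevF4.neg r) : PerpP chevF4 r s :=
  Helper9.rowsPB_spec Cfsg.Agent.Lib.Helper14.StCC.B.Helper13.checkTab_F4 Helper9.rows_F4
    (List.mem_range.mpr hr) hr hs h1 h2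

end Cfsg.Agent.Lib.Helper16.F4CC
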