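import Cfsg.Agent.Lib.Helper9.G23MMDefs

/-!
# S2101 piece [M] (helper9): relator checks of the 2268-point model, chunk 0 (relators 0 to 25)

One small theorem per relator, checked one after the other, so that the kernel's memory is released in between.
-/

set_option autoImplicit false
set_option maxRecDepth 100000
set_option Elab.async false

namespace Cfsg.Agent.Lib.Helper16.G23M.Helper9

theorem chk00_00 : relOK 0 = true := by decide +kernel

theorem chk00_01 : relOK 1 = true := by decide +kernel

theorem chk00_02 : relOK 2 = true := by decide +kernel

theorem chk00_03 : relOK 3 = true := by decide +kernel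

theorem chk00_04 : relOK 4 = true := by decide +kernel

theorem chk00_05 : relOK 5 = true := by decide +kernel

theorem chk00_06 : relOK 6 = true := by decide +kernel

theorem chk00_07 : relOK 7 = true := by decide +kernel

theorem chk00_08 : relOK 8 = true := by decide +kernel

theorem chk00_09 : relOK 9 = true := by decide +kernel

theorem chk00_10 : relOK 10 = true := by decide +kernel

theorem chk00_11 : relOK 11 = true := by decide +kernel

theorem chk00_12 : relOK 12 = true := by decide +kernel

theorem chk00_13 : relOK 13 = true := by decide +kernel

theorem chk00_14 : relOK 14 = true := by decide +kernel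

theorem chk00_15 : relOK 15 = true := by decide +kernel

theorem chk00_16 : relOK 16 = true := by decide +kernel

theorem chk00_17 : relOK 17 = true := by decide +kernel

theorem chk00_18 : relOK 18 = true := by decide +kernel

theorem chk00_19 : relOK 19 = true := by decide +kernel

theorem chk00_20 : relOK 20 = true := by decide +kernel

theorem chk00_21 : relOK 21 = true := by decide +kernel

theorem chk00_22 : relOK 22 = true := by decide +kernel

theorem chk00_23 : relOK 23 = true := by decide +kernel

theorem chk00_24 : relOK 24 = true := by decide +kernel

theorem chk00_25 : relOK 25 = true := by decide +kernel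

theorem chk00 (j : ℕ) (h1 : 0 ≤ j) (h2 : j < 26) : relOK j = true := by
  interval_cases j
  · exact chk00_00
  · exact chk00_01
  · exact chk00_02
  · exact chk00_03
  · exact chk00_04
  · exact chk00_05
  · exact chk00_06
  · exact chk00_07
  · exact chk00_08
  · exact chk00_09
  · exact chk00_10
  · exact chk00_11
  · exact chk00_12
  · exact chk00_13
  · exact chk00_14
  · exact chk00_15
  · exact chk00_16
  · exact chk00_17
  · exact chk00_18
  · exact chk00_19
  · exact chk00_20
  · exact chk00_21
  · exact chk00_22
  · exact chk00_23
  · exact chk00_24
  · exact chk00_25

end Cfsg.Agent.Lib.Helper16.G23M.Helper9
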