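import Cfsg.Agent.Lib.Helper9.G23MMDefs

/-!
# S2101 piece [M] (helper9): relator checks of the 2268-point model, chunk 1 (relators 26 to 51)

One small theorem per relator, checked one after the other, so that the kernel's memory is released in between.
-/

set_option autoImplicit false
set_option maxRecDepth 100000
set_option Elab.async false

namespace Cfsg.Agent.Lib.Helper16.G23M.Helper9

theorem chk01_00 : relOK 26 = true := by decide +kernel

theorem chk01_01 : relOK 27 = true := by decide +kernel

theorem chk01_02 : relOK 28 = true := by decide +kernel

theorem chk01_03 : relOK 29 = true := by decide +kernel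

theorem chk01_04 : relOK 30 = true := by decide +kernel

theorem chk01_05 : relOK 31 = true := by decide +kernel

theorem chk01_06 : relOK 32 = true := by decide +kernel

theorem chk01_07 : relOK 33 = true := by decide +kernel

theorem chk01_08 : relOK 34 = true := by decide +kernel

theorem chk01_09 : relOK 35 = true := by decide +kernel

theorem chk01_10 : relOK 36 = true := by decide +kernel

theorem chk01_11 : relOK 37 = true := by decide +kernel

theorem chk01_12 : relOK 38 = true := by decide +kernel

theorem chk01_13 : relOK 39 = true := by decide +kernel

theorem chk01_14 : relOK 40 = true := by decide +kernel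

theorem chk01_15 : relOK 41 = true := by decide +kernel

theorem chk01_16 : relOK 42 = true := by decide +kernel

theorem chk01_17 : relOK 43 = true := by decide +kernel

theorem chk01_18 : relOK 44 = true := by decide +kernel

theorem chk01_19 : relOK 45 = true := by decide +kernel

theorem chk01_20 : relOK 46 = true := by decide +kernel

theorem chk01_21 : relOK 47 = true := by decide +kernel

theorem chk01_22 : relOK 48 = true := by decide +kernel

theorem chk01_23 : relOK 49 = true := by decide +kernel

theorem chk01_24 : relOK 50 = true := by decide +kernel

theorem chk01_25 : relOK 51 = true := by decide +kernel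

theorem chk01 (j : ℕ) (h1 : 26 ≤ j) (h2 : j < 52) : relOK j = true := by
  interval_cases j
  · exact chk01_00
  · exact chk01_01
  · exact chk01_02
  · exact chk01_03
  · exact chk01_04
  · exact chk01_05
  · exact chk01_06
  · exact chk01_07
  · exact chk01_08
  · exact chk01_09
  · exact chk01_10
  · exact chk01_11
  · exact chk01_12
  · exact chk01_13
  · exact chk01_14
  · exact chk01_15
  · exact chk01_16
  · exact chk01_17
  · exact chk01_18
  · exact chk01_19
  · exact chk01_20
  · exact chk01_21
  · exact chk01_22
  · exact chk01_23
  · exact chk01_24
  · exact chk01_25

end Cfsg.Agent.Lib.Helper16.G23M.Helper9
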