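import Cfsg.Agent.Lib.Helper9.G23MMDefs

/-!
# S2101 piece [M] (helper9): relator checks of the 2268-point model, chunk 2 (relators 52 to 77)

One small theorem per relator, checked one after the other, so that the kernel's memory is released in between.
-/

set_option autoImplicit false
set_option maxRecDepth 100000
set_option Elab.async false

namespace Cfsg.Agent.Lib.Helper16.G23M.Helper9

theorem chk02_00 : relOK 52 = true := by decide +kernel

theorem chk02_01 : relOK 53 = true := by decide +kernel

theorem chk02_02 : relOK 54 = true := by decide +kernel

theorem chk02_03 : relOK 55 = true := by decide +kernel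

theorem chk02_04 : relOK 56 = true := by decide +kernel

theorem chk02_05 : relOK 57 = true := by decide +kernel

theorem chk02_06 : relOK 58 = true := by decide +kernel

theorem chk02_07 : relOK 59 = true := by decide +kernel

theorem chk02_08 : relOK 60 = true := by decide +kernel

theorem chk02_09 : relOK 61 = true := by decide +kernel

theorem chk02_10 : relOK 62 = true := by decide +kernel

theorem chk02_11 : relOK 63 = true := by decide +kernel

theorem chk02_12 : relOK 64 = true := by decide +kernel

theorem chk02_13 : relOK 65 = true := by decide +kernel

theorem chk02_14 : relOK 66 = true := by decide +kernel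

theorem chk02_15 : relOK 67 = true := by decide +kernel

theorem chk02_16 : relOK 68 = true := by decide +kernel

theorem chk02_17 : relOK 69 = true := by decide +kernel

theorem chk02_18 : relOK 70 = true := by decide +kernel

theorem chk02_19 : relOK 71 = true := by decide +kernel

theorem chk02_20 : relOK 72 = true := by decide +kernel

theorem chk02_21 : relOK 73 = true := by decide +kernel

theorem chk02_22 : relOK 74 = true := by decide +kernel

theorem chk02_23 : relOK 75 = true := by decide +kernel

theorem chk02_24 : relOK 76 = true := by decide +kernel

theorem chk02_25 : relOK 77 = true := by decide +kernel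

theorem chk02 (j : ℕ) (h1 : 52 ≤ j) (h2 : j < 78) : relOK j = true := by
  interval_cases j
  · exact chk02_00
  · exact chk02_01
  · exact chk02_02
  · exact chk02_03
  · exact chk02_04
  · exact chk02_05
  · exact chk02_06
  · exact chk02_07
  · exact chk02_08
  · exact chk02_09
  · exact chk02_10
  · exact chk02_11
  · exact chk02_12
  · exact chk02_13
  · exact chk02_14
  · exact chk02_15
  · exact chk02_16
  · exact chk02_17
  · exact chk02_18
  · exact chk02_19
  · exact chk02_20
  · exact chk02_21
  · exact chk02_22
  · exact chk02_23
  · exact chk02_24
  · exact chk02_25

end Cfsg.Agent.Lib.Helper16.G23M.Helper9
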