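import Cfsg.Agent.Lib.Helper9.G23MMDefs

/-!
# S2101 piece [M] (helper9): relator checks of the 2268-point model, chunk 3 (relators 78 to 103)

One small theorem per relator, checked one after the other, so that the kernel's memory is released in between.
-/

set_option autoImplicit false
set_option maxRecDepth 100000
set_option Elab.async false

namespace Cfsg.Agent.Lib.Helper16.G23M.Helper9

theorem chk03_00 : relOK 78 = true := by decide +kernel

theorem chk03_01 : relOK 79 = true := by decide +kernel

theorem chk03_02 : relOK 80 = true := by decide +kernel

theorem chk03_03 : relOK 81 = true := by decide +kernel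

theorem chk03_04 : relOK 82 = true := by decide +kernel

theorem chk03_05 : relOK 83 = true := by decide +kernel

theorem chk03_06 : relOK 84 = true := by decide +kernel

theorem chk03_07 : relOK 85 = true := by decide +kernel

theorem chk03_08 : relOK 86 = true := by decide +kernel

theorem chk03_09 : relOK 87 = true := by decide +kernel

theorem chk03_10 : relOK 88 = true := by decide +kernel

theorem chk03_11 : relOK 89 = true := by decide +kernel

theorem chk03_12 : relOK 90 = true := by decide +kernel

theorem chk03_13 : relOK 91 = true := by decide +kernel

theorem chk03_14 : relOK 92 = true := by decide +kernel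

theorem chk03_15 : relOK 93 = true := by decide +kernel

theorem chk03_16 : relOK 94 = true := by decide +kernel

theorem chk03_17 : relOK 95 = true := by decide +kernel

theorem chk03_18 : relOK 96 = true := by decide +kernel

theorem chk03_19 : relOK 97 = true := by decide +kernel

theorem chk03_20 : relOK 98 = true := by decide +kernel

theorem chk03_21 : relOK 99 = true := by decide +kernel

theorem chk03_22 : relOK 100 = true := by decide +kernel

theorem chk03_23 : relOK 101 = true := by decide +kernel

theorem chk03_24 : relOK 102 = true := by decide +kernel

theorem chk03_25 : relOK 103 = true := by decide +kernel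

theorem chk03 (j : ℕ) (h1 : 78 ≤ j) (h2 : j < 104) : relOK j = true := by
  interval_cases j
  · exact chk03_00
  · exact chk03_01
  · exact chk03_02
  · exact chk03_03
  · exact chk03_04
  · exact chk03_05
  · exact chk03_06
  · exact chk03_07
  · exact chk03_08
  · exact chk03_09
  · exact chk03_10
  · exact chk03_11
  · exact chk03_12
  · exact chk03_13
  · exact chk03_14
  · exact chk03_15
  · exact chk03_16
  · exact chk03_17
  · exact chk03_18
  · exact chk03_19
  · exact chk03_20
  · exact chk03_21
  · exact chk03_22
  · exact chk03_23
  · exact chk03_24
  · exact chk03_25

end Cfsg.Agent.Lib.Helper16.G23M.Helper9
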