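import Cfsg.Agent.Lib.Helper9.G23MMDefs

/-!
# S2101 piece [M] (helper9): relator checks of the 2268-point model, chunk 4 (relators 104 to 129)

One small theorem per relator, checked one after the other, so that the kernel's memory is released in between.
-/

set_option autoImplicit false
set_option maxRecDepth 100000
set_option Elab.async false

namespace Cfsg.Agent.Lib.Helper16.G23M.Helper9

theorem chk04_00 : relOK 104 = true := by decide +kernel

theorem chk04_01 : relOK 105 = true := by decide +kernel

theorem chk04_02 : relOK 106 = true := by decide +kernel

theorem chk04_03 : relOK 107 = true := by decide +kernel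

theorem chk04_04 : relOK 108 = true := by decide +kernel

theorem chk04_05 : relOK 109 = true := by decide +kernel

theorem chk04_06 : relOK 110 = true := by decide +kernel

theorem chk04_07 : relOK 111 = true := by decide +kernel

theorem chk04_08 : relOK 112 = true := by decide +kernel

theorem chk04_09 : relOK 113 = true := by decide +kernel

theorem chk04_10 : relOK 114 = true := by decide +kernel

theorem chk04_11 : relOK 115 = true := by decide +kernel

theorem chk04_12 : relOK 116 = true := by decide +kernel

theorem chk04_13 : relOK 117 = true := by decide +kernel

theorem chk04_14 : relOK 118 = true := by decide +kernel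

theorem chk04_15 : relOK 119 = true := by decide +kernel

theorem chk04_16 : relOK 120 = true := by decide +kernel

theorem chk04_17 : relOK 121 = true := by decide +kernel

theorem chk04_18 : relOK 122 = true := by decide +kernel

theorem chk04_19 : relOK 123 = true := by decide +kernel

theorem chk04_20 : relOK 124 = true := by decide +kernel

theorem chk04_21 : relOK 125 = true := by decide +kernel

theorem chk04_22 : relOK 126 = true := by decide +kernel

theorem chk04_23 : relOK 127 = true := by decide +kernel

theorem chk04_24 : relOK 128 = true := by decide +kernel

theorem chk04_25 : relOK 129 = true := by decide +kernel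

theorem chk04 (j : ℕ) (h1 : 104 ≤ j) (h2 : j < 130) : relOK j = true := by
  interval_cases j
  · exact chk04_00
  · exact chk04_01
  · exact chk04_02
  · exact chk04_03
  · exact chk04_04
  · exact chk04_05
  · exact chk04_06
  · exact chk04_07
  · exact chk04_08
  · exact chk04_09
  · exact chk04_10
  · exact chk04_11
  · exact chk04_12
  · exact chk04_13
  · exact chk04_14
  · exact chk04_15
  · exact chk04_16
  · exact chk04_17
  · exact chk04_18
  · exact chk04_19
  · exact chk04_20
  · exact chk04_21
  · exact chk04_22
  · exact chk04_23
  · exact chk04_24
  · exact chk04_25

end Cfsg.Agent.Lib.Helper16.G23M.Helper9
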