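import Cfsg.Agent.Lib.Helper9.G23MMDefs

/-!
# S2101 piece [M] (helper9): relator checks of the 2268-point model, chunk 5 (relators 130 to 155)

One small theorem per relator, checked one after the other, so that the kernel's memory is released in between.
-/

set_option autoImplicit false
set_option maxRecDepth 100000
set_option Elab.async false

namespace Cfsg.Agent.Lib.Helper16.G23M.Helper9

theorem chk05_00 : relOK 130 = true := by decide +kernel

theorem chk05_01 : relOK 131 = true := by decide +kernel

theorem chk05_02 : relOK 132 = true := by decide +kernel

theorem chk05_03 : relOK 133 = true := by decide +kernel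

theorem chk05_04 : relOK 134 = true := by decide +kernel

theorem chk05_05 : relOK 135 = true := by decide +kernel

theorem chk05_06 : relOK 136 = true := by decide +kernel

theorem chk05_07 : relOK 137 = true := by decide +kernel

theorem chk05_08 : relOK 138 = true := by decide +kernel

theorem chk05_09 : relOK 139 = true := by decide +kernel

theorem chk05_10 : relOK 140 = true := by decide +kernel

theorem chk05_11 : relOK 141 = true := by decide +kernel

theorem chk05_12 : relOK 142 = true := by decide +kernel

theorem chk05_13 : relOK 143 = true := by decide +kernel

theorem chk05_14 : relOK 144 = true := by decide +kernel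

theorem chk05_15 : relOK 145 = true := by decide +kernel

theorem chk05_16 : relOK 146 = true := by decide +kernel

theorem chk05_17 : relOK 147 = true := by decide +kernel

theorem chk05_18 : relOK 148 = true := by decide +kernel

theorem chk05_19 : relOK 149 = true := by decide +kernel

theorem chk05_20 : relOK 150 = true := by decide +kernel

theorem chk05_21 : relOK 151 = true := by decide +kernel

theorem chk05_22 : relOK 152 = true := by decide +kernel

theorem chk05_23 : relOK 153 = true := by decide +kernel

theorem chk05_24 : relOK 154 = true := by decide +kernel

theorem chk05_25 : relOK 155 = true := by decide +kernel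

theorem chk05 (j : ℕ) (h1 : 130 ≤ j) (h2 : j < 156) : relOK j = true := by
  interval_cases j
  · exact chk05_00
  · exact chk05_01
  · exact chk05_02
  · exact chk05_03
  · exact chk05_04
  · exact chk05_05
  · exact chk05_06
  · exact chk05_07
  · exact chk05_08
  · exact chk05_09
  · exact chk05_10
  · exact chk05_11
  · exact chk05_12
  · exact chk05_13
  · exact chk05_14
  · exact chk05_15
  · exact chk05_16
  · exact chk05_17
  · exact chk05_18
  · exact chk05_19
  · exact chk05_20
  · exact chk05_21
  · exact chk05_22
  · exact chk05_23
  · exact chk05_24
  · exact chk05_25

end Cfsg.Agent.Lib.Helper16.G23M.Helper9
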