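import Cfsg.Agent.Lib.Helper9.G23MMDefs

/-!
# S2101 piece [M] (helper9): relator checks of the 2268-point model, chunk 6 (relators 156 to 181)

One small theorem per relator, checked one after the other, so that the kernel's memory is released in between.
-/

set_option autoImplicit false
set_option maxRecDepth 100000
set_option Elab.async false

namespace Cfsg.Agent.Lib.Helper16.G23M.Helper9

theorem chk06_00 : relOK 156 = true := by decide +kernel

theorem chk06_01 : relOK 157 = true := by decide +kernel

theorem chk06_02 : relOK 158 = true := by decide +kernel

theorem chk06_03 : relOK 159 = true := by decide +kernel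

theorem chk06_04 : relOK 160 = true := by decide +kernel

theorem chk06_05 : relOK 161 = true := by decide +kernel

theorem chk06_06 : relOK 162 = true := by decide +kernel

theorem chk06_07 : relOK 163 = true := by decide +kernel

theorem chk06_08 : relOK 164 = true := by decide +kernel

theorem chk06_09 : relOK 165 = true := by decide +kernel

theorem chk06_10 : relOK 166 = true := by decide +kernel

theorem chk06_11 : relOK 167 = true := by decide +kernel

theorem chk06_12 : relOK 168 = true := by decide +kernel

theorem chk06_13 : relOK 169 = true := by decide +kernel

theorem chk06_14 : relOK 170 = true := by decide +kernel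

theorem chk06_15 : relOK 171 = true := by decide +kernel

theorem chk06_16 : relOK 172 = true := by decide +kernel

theorem chk06_17 : relOK 173 = true := by decide +kernel

theorem chk06_18 : relOK 174 = true := by decide +kernel

theorem chk06_19 : relOK 175 = true := by decide +kernel

theorem chk06_20 : relOK 176 = true := by decide +kernel

theorem chk06_21 : relOK 177 = true := by decide +kernel

theorem chk06_22 : relOK 178 = true := by decide +kernel

theorem chk06_23 : relOK 179 = true := by decide +kernel

theorem chk06_24 : relOK 180 = true := by decide +kernel

theorem chk06_25 : relOK 181 = true := by decide +kernel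

theorem chk06 (j : ℕ) (h1 : 156 ≤ j) (h2 : j < 182) : relOK j = true := by
  interval_cases j
  · exact chk06_00
  · exact chk06_01
  · exact chk06_02
  · exact chk06_03
  · exact chk06_04
  · exact chk06_05
  · exact chk06_06
  · exact chk06_07
  · exact chk06_08
  · exact chk06_09
  · exact chk06_10
  · exact chk06_11
  · exact chk06_12
  · exact chk06_13
  · exact chk06_14
  · exact chk06_15
  · exact chk06_16
  · exact chk06_17
  · exact chk06_18
  · exact chk06_19
  · exact chk06_20
  · exact chk06_21
  · exact chk06_22
  · exact chk06_23
  · exact chk06_24
  · exact chk06_25

end Cfsg.Agent.Lib.Helper16.G23M.Helper9
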