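import Cfsg.Agent.Lib.Helper9.G23MMDefs

/-!
# S2101 piece [M] (helper9): relator checks of the 2268-point model, chunk 7 (relators 182 to 207)

One small theorem per relator, checked one after the other, so that the kernel's memory is released in between.
-/

set_option autoImplicit false
set_option maxRecDepth 100000
set_option Elab.async false

namespace Cfsg.Agent.Lib.Helper16.G23M.Helper9

theorem chk07_00 : relOK 182 = true := by decide +kernel

theorem chk07_01 : relOK 183 = true := by decide +kernel

theorem chk07_02 : relOK 184 = true := by decide +kernel

theorem chk07_03 : relOK 185 = true := by decide +kernel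

theorem chk07_04 : relOK 186 = true := by decide +kernel

theorem chk07_05 : relOK 187 = true := by decide +kernel

theorem chk07_06 : relOK 188 = true := by decide +kernel

theorem chk07_07 : relOK 189 = true := by decide +kernel

theorem chk07_08 : relOK 190 = true := by decide +kernel

theorem chk07_09 : relOK 191 = true := by decide +kernel

theorem chk07_10 : relOK 192 = true := by decide +kernel

theorem chk07_11 : relOK 193 = true := by decide +kernel

theorem chk07_12 : relOK 194 = true := by decide +kernel

theorem chk07_13 : relOK 195 = true := by decide +kernel

theorem chk07_14 : relOK 196 = true := by decide +kernel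

theorem chk07_15 : relOK 197 = true := by decide +kernel

theorem chk07_16 : relOK 198 = true := by decide +kernel

theorem chk07_17 : relOK 199 = true := by decide +kernel

theorem chk07_18 : relOK 200 = true := by decide +kernel

theorem chk07_19 : relOK 201 = true := by decide +kernel

theorem chk07_20 : relOK 202 = true := by decide +kernel

theorem chk07_21 : relOK 203 = true := by decide +kernel

theorem chk07_22 : relOK 204 = true := by decide +kernel

theorem chk07_23 : relOK 205 = true := by decide +kernel

theorem chk07_24 : relOK 206 = true := by decide +kernel

theorem chk07_25 : relOK 207 = true := by decide +kernel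

theorem chk07 (j : ℕ) (h1 : 182 ≤ j) (h2 : j < 208) : relOK j = true := by
  interval_cases j
  · exact chk07_00
  · exact chk07_01
  · exact chk07_02
  · exact chk07_03
  · exact chk07_04
  · exact chk07_05
  · exact chk07_06
  · exact chk07_07
  · exact chk07_08
  · exact chk07_09
  · exact chk07_10
  · exact chk07_11
  · exact chk07_12
  · exact chk07_13
  · exact chk07_14
  · exact chk07_15
  · exact chk07_16
  · exact chk07_17
  · exact chk07_18
  · exact chk07_19
  · exact chk07_20
  · exact chk07_21
  · exact chk07_22
  · exact chk07_23
  · exact chk07_24
  · exact chk07_25

end Cfsg.Agent.Lib.Helper16.G23M.Helper9
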