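import Cfsg.Agent.Lib.Helper9.G23MMDefs

/-!
# S2101 piece [M] (helper9): relator checks of the 2268-point model, chunk 8 (relators 208 to 233)

One small theorem per relator, checked one after the other, so that the kernel's memory is released in between.
-/

set_option autoImplicit false
set_option maxRecDepth 100000
set_option Elab.async false

namespace Cfsg.Agent.Lib.Helper16.G23M.Helper9

theorem chk08_00 : relOK 208 = true := by decide +kernel

theorem chk08_01 : relOK 209 = true := by decide +kernel

theorem chk08_02 : relOK 210 = true := by decide +kernel

theorem chk08_03 : relOK 211 = true := by decide +kernel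

theorem chk08_04 : relOK 212 = true := by decide +kernel

theorem chk08_05 : relOK 213 = true := by decide +kernel

theorem chk08_06 : relOK 214 = true := by decide +kernel

theorem chk08_07 : relOK 215 = true := by decide +kernel

theorem chk08_08 : relOK 216 = true := by decide +kernel

theorem chk08_09 : relOK 217 = true := by decide +kernel

theorem chk08_10 : relOK 218 = true := by decide +kernel

theorem chk08_11 : relOK 219 = true := by decide +kernel

theorem chk08_12 : relOK 220 = true := by decide +kernel

theorem chk08_13 : relOK 221 = true := by decide +kernel

theorem chk08_14 : relOK 222 = true := by decide +kernel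

theorem chk08_15 : relOK 223 = true := by decide +kernel

theorem chk08_16 : relOK 224 = true := by decide +kernel

theorem chk08_17 : relOK 225 = true := by decide +kernel

theorem chk08_18 : relOK 226 = true := by decide +kernel

theorem chk08_19 : relOK 227 = true := by decide +kernel

theorem chk08_20 : relOK 228 = true := by decide +kernel

theorem chk08_21 : relOK 229 = true := by decide +kernel

theorem chk08_22 : relOK 230 = true := by decide +kernel

theorem chk08_23 : relOK 231 = true := by decide +kernel

theorem chk08_24 : relOK 232 = true := by decide +kernel

theorem chk08_25 : relOK 233 = true := by decide +kernel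

theorem chk08 (j : ℕ) (h1 : 208 ≤ j) (h2 : j < 234) : relOK j = true := by
  interval_cases j
  · exact chk08_00
  · exact chk08_01
  · exact chk08_02
  · exact chk08_03
  · exact chk08_04
  · exact chk08_05
  · exact chk08_06
  · exact chk08_07
  · exact chk08_08
  · exact chk08_09
  · exact chk08_10
  · exact chk08_11
  · exact chk08_12
  · exact chk08_13
  · exact chk08_14
  · exact chk08_15
  · exact chk08_16
  · exact chk08_17
  · exact chk08_18
  · exact chk08_19
  · exact chk08_20
  · exact chk08_21
  · exact chk08_22
  · exact chk08_23
  · exact chk08_24
  · exact chk08_25

end Cfsg.Agent.Lib.Helper16.G23M.Helper9
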