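import Cfsg.Agent.Lib.Helper9.G23MMDefs

/-!
# S2101 piece [M] (helper9): relator checks of the 2268-point model, chunk 9 (relators 234 to 259)

One small theorem per relator, checked one after the other, so that the kernel's memory is released in between.
-/

set_option autoImplicit false
set_option maxRecDepth 100000
set_option Elab.async false

namespace Cfsg.Agent.Lib.Helper16.G23M.Helper9

theorem chk09_00 : relOK 234 = true := by decide +kernel

theorem chk09_01 : relOK 235 = true := by decide +kernel

theorem chk09_02 : relOK 236 = true := by decide +kernel

theorem chk09_03 : relOK 237 = true := by decide +kernel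

theorem chk09_04 : relOK 238 = true := by decide +kernel

theorem chk09_05 : relOK 239 = true := by decide +kernel

theorem chk09_06 : relOK 240 = true := by decide +kernel

theorem chk09_07 : relOK 241 = true := by decide +kernel

theorem chk09_08 : relOK 242 = true := by decide +kernel

theorem chk09_09 : relOK 243 = true := by decide +kernel

theorem chk09_10 : relOK 244 = true := by decide +kernel

theorem chk09_11 : relOK 245 = true := by decide +kernel

theorem chk09_12 : relOK 246 = true := by decide +kernel

theorem chk09_13 : relOK 247 = true := by decide +kernel

theorem chk09_14 : relOK 248 = true := by decide +kernel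

theorem chk09_15 : relOK 249 = true := by decide +kernel

theorem chk09_16 : relOK 250 = true := by decide +kernel

theorem chk09_17 : relOK 251 = true := by decide +kernel

theorem chk09_18 : relOK 252 = true := by decide +kernel

theorem chk09_19 : relOK 253 = true := by decide +kernel

theorem chk09_20 : relOK 254 = true := by decide +kernel

theorem chk09_21 : relOK 255 = true := by decide +kernel

theorem chk09_22 : relOK 256 = true := by decide +kernel

theorem chk09_23 : relOK 257 = true := by decide +kernel

theorem chk09_24 : relOK 258 = true := by decide +kernel

theorem chk09_25 : relOK 259 = true := by decide +kernel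

theorem chk09 (j : ℕ) (h1 : 234 ≤ j) (h2 : j < 260) : relOK j = true := by
  interval_cases j
  · exact chk09_00
  · exact chk09_01
  · exact chk09_02
  · exact chk09_03
  · exact chk09_04
  · exact chk09_05
  · exact chk09_06
  · exact chk09_07
  · exact chk09_08
  · exact chk09_09
  · exact chk09_10
  · exact chk09_11
  · exact chk09_12
  · exact chk09_13
  · exact chk09_14
  · exact chk09_15
  · exact chk09_16
  · exact chk09_17
  · exact chk09_18
  · exact chk09_19
  · exact chk09_20
  · exact chk09_21
  · exact chk09_22
  · exact chk09_23
  · exact chk09_24
  · exact chk09_25

end Cfsg.Agent.Lib.Helper16.G23M.Helper9
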