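import Cfsg.Agent.Lib.Helper9.G23MMDefs

/-!
# S2101 piece [M] (helper9): relator checks of the 2268-point model, chunk 10 (relators 260 to 285)

One small theorem per relator, checked one after the other, so that the kernel's memory is released in between.
-/

set_option autoImplicit false
set_option maxRecDepth 100000
set_option Elab.async false

namespace Cfsg.Agent.Lib.Helper16.G23M.Helper9

theorem chk10_00 : relOK 260 = true := by decide +kernel

theorem chk10_01 : relOK 261 = true := by decide +kernel

theorem chk10_02 : relOK 262 = true := by decide +kernel

theorem chk10_03 : relOK 263 = true := by decide +kernel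

theorem chk10_04 : relOK 264 = true := by decide +kernel

theorem chk10_05 : relOK 265 = true := by decide +kernel

theorem chk10_06 : relOK 266 = true := by decide +kernel

theorem chk10_07 : relOK 267 = true := by decide +kernel

theorem chk10_08 : relOK 268 = true := by decide +kernel

theorem chk10_09 : relOK 269 = true := by decide +kernel

theorem chk10_10 : relOK 270 = true := by decide +kernel

theorem chk10_11 : relOK 271 = true := by decide +kernel

theorem chk10_12 : relOK 272 = true := by decide +kernel

theorem chk10_13 : relOK 273 = true := by decide +kernel

theorem chk10_14 : relOK 274 = true := by decide +kernel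

theorem chk10_15 : relOK 275 = true := by decide +kernel

theorem chk10_16 : relOK 276 = true := by decide +kernel

theorem chk10_17 : relOK 277 = true := by decide +kernel

theorem chk10_18 : relOK 278 = true := by decide +kernel

theorem chk10_19 : relOK 279 = true := by decide +kernel

theorem chk10_20 : relOK 280 = true := by decide +kernel

theorem chk10_21 : relOK 281 = true := by decide +kernel

theorem chk10_22 : relOK 282 = true := by decide +kernel

theorem chk10_23 : relOK 283 = true := by decide +kernel

theorem chk10_24 : relOK 284 = true := by decide +kernel

theorem chk10_25 : relOK 285 = true := by decide +kernel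

theorem chk10 (j : ℕ) (h1 : 260 ≤ j) (h2 : j < 286) : relOK j = true := by
  interval_cases j
  · exact chk10_00
  · exact chk10_01
  · exact chk10_02
  · exact chk10_03
  · exact chk10_04
  · exact chk10_05
  · exact chk10_06
  · exact chk10_07
  · exact chk10_08
  · exact chk10_09
  · exact chk10_10
  · exact chk10_11
  · exact chk10_12
  · exact chk10_13
  · exact chk10_14
  · exact chk10_15
  · exact chk10_16
  · exact chk10_17
  · exact chk10_18
  · exact chk10_19
  · exact chk10_20
  · exact chk10_21
  · exact chk10_22
  · exact chk10_23
  · exact chk10_24
  · exact chk10_25

end Cfsg.Agent.Lib.Helper16.G23M.Helper9
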