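import Cfsg.Agent.Lib.Helper9.G23MMDefs

/-!
# S2101 piece [M] (helper9): relator checks of the 2268-point model, chunk 12 (relators 312 to 337)

One small theorem per relator, checked one after the other, so that the kernel's memory is released in between.
-/

set_option autoImplicit false
set_option maxRecDepth 100000
set_option Elab.async false

namespace Cfsg.Agent.Lib.Helper16.G23M.Helper9

theorem chk12_00 : relOK 312 = true := by decide +kernel

theorem chk12_01 : relOK 313 = true := by decide +kernel

theorem chk12_02 : relOK 314 = true := by decide +kernel

theorem chk12_03 : relOK 315 = true := by decide +kernel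

theorem chk12_04 : relOK 316 = true := by decide +kernel

theorem chk12_05 : relOK 317 = true := by decide +kernel

theorem chk12_06 : relOK 318 = true := by decide +kernel

theorem chk12_07 : relOK 319 = true := by decide +kernel

theorem chk12_08 : relOK 320 = true := by decide +kernel

theorem chk12_09 : relOK 321 = true := by decide +kernel

theorem chk12_10 : relOK 322 = true := by decide +kernel

theorem chk12_11 : relOK 323 = true := by decide +kernel

theorem chk12_12 : relOK 324 = true := by decide +kernel

theorem chk12_13 : relOK 325 = true := by decide +kernel

theorem chk12_14 : relOK 326 = true := by decide +kernel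

theorem chk12_15 : relOK 327 = true := by decide +kernel

theorem chk12_16 : relOK 328 = true := by decide +kernel

theorem chk12_17 : relOK 329 = true := by decide +kernel

theorem chk12_18 : relOK 330 = true := by decide +kernel

theorem chk12_19 : relOK 331 = true := by decide +kernel

theorem chk12_20 : relOK 332 = true := by decide +kernel

theorem chk12_21 : relOK 333 = true := by decide +kernel

theorem chk12_22 : relOK 334 = true := by decide +kernel

theorem chk12_23 : relOK 335 = true := by decide +kernel

theorem chk12_24 : relOK 336 = true := by decide +kernel

theorem chk12_25 : relOK 337 = true := by decide +kernel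

theorem chk12 (j : ℕ) (h1 : 312 ≤ j) (h2 : j < 338) : relOK j = true := by
  interval_cases j
  · exact chk12_00
  · exact chk12_01
  · exact chk12_02
  · exact chk12_03
  · exact chk12_04
  · exact chk12_05
  · exact chk12_06
  · exact chk12_07
  · exact chk12_08
  · exact chk12_09
  · exact chk12_10
  · exact chk12_11
  · exact chk12_12
  · exact chk12_13
  · exact chk12_14
  · exact chk12_15
  · exact chk12_16
  · exact chk12_17
  · exact chk12_18
  · exact chk12_19
  · exact chk12_20
  · exact chk12_21
  · exact chk12_22
  · exact chk12_23
  · exact chk12_24
  · exact chk12_25

end Cfsg.Agent.Lib.Helper16.G23M.Helper9
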