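import Cfsg.Agent.Lib.Helper9.G23MMDefs
import Cfsg.Agent.Lib.Helper9.G23MMChk00
import Cfsg.Agent.Lib.Helper9.G23MMChk01
import Cfsg.Agent.Lib.Helper9.G23MMChk02
import Cfsg.Agent.Lib.Helper9.G23MMChk03
import Cfsg.Agent.Lib.Helper9.G23MMChk04
import Cfsg.Agent.Lib.Helper9.G23MMChk05
import Cfsg.Agent.Lib.Helper9.G23MMChk06
import Cfsg.Agent.Lib.Helper9.G23MMChk07
import Cfsg.Agent.Lib.Helper9.G23MMChk08
import Cfsg.Agent.Lib.Helper9.G23MMChk09
import Cfsg.Agent.Lib.Helper9.G23MMChk10
import Cfsg.Agent.Lib.Helper9.G23MMChk11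
import Cfsg.Agent.Lib.Helper9.G23MMChk12

/-!
# S2101 piece [M] (helper9 for helper16): the 2268-point model of the triple cover `3.G₂(3)`

`Δ = Sym(2268)`, `d i` the permutations of the tables `MTAB`, `z` that of `ZTAB`: `z` is central of order `3` and the
relator `relsG[j]` acts as `z ^ expG[j]` (checked in the thirteen chunk files).
-/

set_option autoImplicit false

namespace Cfsg.Agent.Lib.Helper16.G23M

namespace Helper9

theorem relOK_all (j : ℕ) (hj : j < 338) : relOK j = true := by
  have hq : j / 26 < 13 := by omega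
  have hle : 26 * (j / 26) ≤ j := Nat.mul_div_le j 26
  have hlt : j < 26 * (j / 26) + 26 := by
    have := Nat.lt_mul_div_succ j (by norm_num : 0 < 26)
    omega
  generalize j / 26 = q at hq hle hlt
  interval_cases q
  · exact chk00 j (by omega) (by omega)
  · exact chk01 j (by omega) (by omega)
  · exact chk02 j (by omega) (by omega)
  · exact chk03 j (by omega) (by omega)
  · exact chk04 j (by omega) (by omega)
  · exact chk05 j (by omega) (by omega)
  · exact chk06 j (by omega) (by omega)
  · exact chk07 j (by omega) (by omega)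
  · exact chk08 j (by omega) (by omega)
  · exact chk09 j (by omega) (by omega)
  · exact chk10 j (by omega) (by omega)
  · exact chk11 j (by omega) (by omega)
  · exact chk12 j (by omega) (by omega)

end Helper9

open Helper9 in
/-- [M] the model of the triple cover -/
theorem exists_model : ∃ (Δ : Type) (_ : Group Δ) (d : ℕ → Δ) (z : Δ),
    (∀ i < 4, z * d i = d i * z) ∧ z ^ 3 = 1 ∧ (∀ m, 0 < m → m < 3 → z ^ m ≠ 1) ∧
    ∀ j < relsG.length, Cfsg.H5.TCk.ev d (relsG.getD j []) = z ^ (expG.getD j 0) := by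
  refine ⟨Equiv.Perm (Fin 2268), inferInstance, dperm, zperm, z_comm, z_cube, z_pow_ne, ?_⟩
  intro j hj
  exact rel_of_ok j hj (relOK_all j (by rw [length_relsG] at hj; exact hj))

end Cfsg.Agent.Lib.Helper16.G23M
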