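import Mathlib
import Cfsg.Agent.Lib.Helper28.Rank3Gen

/-!
# A simplicity criterion for permutation groups with a list of suborbits

Generalisation of `Cfsg.Agent.Lib.Helper28.Rank3.simple_of_rank3_pgens` from two suborbits to a
list `Os` of pairwise disjoint suborbits: a block through `x0` which is invariant under `H` is
`{x0}` together with a union of some of the `O ∈ Os`, and its size divides the degree.
-/

set_option autoImplicit false
set_option linter.style.haveILetI false

namespace Cfsg.Agent.Lib.Helper9.RankList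

open MulAction Cfsg.Agent.Lib.Helper28 Cfsg.Agent.Lib.Helper28.Rank3

section ListUnion

variable {α : Type*} [DecidableEq α]

/-- The union of a list of finsets. -/
def lu (Os : List (Finset α)) : Finset α := Os.foldr (fun O U => O ∪ U) ∅

@[simp] theorem lu_nil : lu ([] : List (Finset α)) = ∅ := rfl

@[simp] theorem lu_cons (O : Finset α) (Os : List (Finset α)) : lu (O :: Os) = O ∪ lu Os := rfl

theorem mem_lu {Os : List (Finset α)} {x : α} : x ∈ lu Os ↔ ∃ O ∈ Os, x ∈ O := by
  induction Os with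
  | nil => simp
  | cons O Os ih =>
    rw [lu_cons, Finset.mem_union, ih]
    constructor
    · rintro (h | ⟨O', hO', hx⟩)
      · exact ⟨O, List.mem_cons_self, h⟩
      · exact ⟨O', List.mem_cons_of_mem _ hO', hx⟩
    · rintro ⟨O', hO', hx⟩
      rcases List.mem_cons.mp hO' with rfl | h
      · exact Or.inl hx
      · exact Or.inr ⟨O', h, hx⟩

theorem card_lu_le (Os : List (Finset α)) : (lu Os).card ≤ (Os.map Finset.card).sum := by
  induction Os with
  | nil => simp
  | cons O Os ih =>
    rw [lu_cons, List.map_cons, List.sum_cons]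
    exact (Finset.card_union_le _ _).trans (Nat.add_le_add_left ih _)

theorem card_lu_of_pairwise {Os : List (Finset α)}
    (h : Os.Pairwise (fun O O' => Disjoint O O')) :
    (lu Os).card = (Os.map Finset.card).sum := by
  induction Os with
  | nil => simp
  | cons O Os ih =>
    rw [List.pairwise_cons] at h
    rw [lu_cons, List.map_cons, List.sum_cons, ← ih h.2]
    apply Finset.card_union_of_disjoint
    rw [Finset.disjoint_left]
    intro x hx hx'
    obtain ⟨O', hO', hxO'⟩ := mem_lu.mp hx'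
    exact (Finset.disjoint_left.mp (h.1 O' hO')) hx hxO'

theorem pairwise_of_card_lu {Os : List (Finset α)}
    (h : (Os.map Finset.card).sum ≤ (lu Os).card) :
    Os.Pairwise (fun O O' => Disjoint O O') := by
  induction Os with
  | nil => exact List.Pairwise.nil
  | cons O Os ih =>
    rw [lu_cons, List.map_cons, List.sum_cons] at h
    have h1 := Finset.card_union_add_card_inter O (lu Os)
    have h2 := card_lu_le Os
    have h3 : (O ∩ lu Os).card = 0 := by omega
    have h4 : (Os.map Finset.card).sum ≤ (lu Os).card := by omega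
    rw [List.pairwise_cons]
    refine ⟨?_, ih h4⟩
    intro O' hO'
    rw [Finset.disjoint_left]
    intro x hx hx'
    have : x ∈ O ∩ lu Os := Finset.mem_inter.mpr ⟨hx, mem_lu.mpr ⟨O', hO', hx'⟩⟩
    rw [Finset.card_eq_zero] at h3
    rw [h3] at this
    exact absurd this (Finset.notMem_empty x)

end ListUnion

/-- **Block R6.** `G` is a transitive permutation group; a subgroup `H` of the stabilizer of `x0`
is transitive on each member of a list `Os` of pairwise disjoint sets covering the remaining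
points; for no proper non-empty sublist `S` of `Os` does `1 + ∑_{O ∈ S} |O|` divide the degree;
`p ^ k` divides the degree, `p ^ (k + 1)` does not divide `|G|`, and `G` is generated by products
of two elements of order dividing `p`.  Then `G` is simple. -/
theorem simple_of_rankList_pgens {α : Type*} [Fintype α] [DecidableEq α]
    (G : Subgroup (Equiv.Perm α)) (x0 : α) (Os : List (Finset α)) (p k : ℕ) (hp : p.Prime)
    (hpk : p ^ k ∣ Fintype.card α) (hG : ¬ p ^ (k + 1) ∣ Nat.card G)
    (hnt : Nontrivial G)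
    (htrans : ∀ x, ∃ g ∈ G, g x0 = x)
    (H : Subgroup (Equiv.Perm α)) (hHG : H ≤ G) (hH0 : ∀ h ∈ H, h x0 = x0)
    (hO : ∀ O ∈ Os, ∀ x ∈ O, ∀ y ∈ O, ∃ h ∈ H, h x = y)
    (hcov : ∀ x, x = x0 ∨ ∃ O ∈ Os, x ∈ O) (hx0 : ∀ O ∈ Os, x0 ∉ O)
    (hdisj : Os.Pairwise (fun O O' => Disjoint O O'))
    (hdiv : ∀ S : List (Finset α), S.Sublist Os → S ≠ [] → S ≠ Os →
      ¬ ((S.map Finset.card).sum + 1) ∣ Fintype.card α)
    (T : Set (Equiv.Perm α)) (hT : G ≤ Subgroup.closure T)
    (hT5 : ∀ t ∈ T, ∃ x y, x ∈ G ∧ y ∈ G ∧ x ^ p = 1 ∧ y ^ p = 1 ∧ t = x * y) :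
    IsSimpleGroup G := by
  classical
  haveI : Nontrivial G := hnt
  haveI : MulAction.IsPretransitive G α := by
    constructor
    intro x y
    obtain ⟨g1, hg1, h1⟩ := htrans x
    obtain ⟨g2, hg2, h2⟩ := htrans y
    refine ⟨⟨g2 * g1⁻¹, G.mul_mem hg2 (G.inv_mem hg1)⟩, ?_⟩
    show (g2 * g1⁻¹) x = y
    have hinv1 : g1⁻¹ (g1 x0) = x0 := g1.symm_apply_apply x0
    rw [Equiv.Perm.mul_apply, ← h1, hinv1, h2]
  refine ⟨fun N hN => ?_⟩
  by_cases hne : N = ⊥
  · exact Or.inl hne
  right
  haveI := hN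
  have hblock : MulAction.IsBlock G (MulAction.orbit N x0) :=
    MulAction.IsBlock.orbit_of_normal x0
  have hdvd : (MulAction.orbit N x0).ncard ∣ Fintype.card α := by
    have := hblock.ncard_dvd_card ⟨x0, MulAction.mem_orbit_self x0⟩
    rwa [Nat.card_eq_fintype_card] at this
  have hinv : ∀ h ∈ H, ∀ y ∈ MulAction.orbit N x0, h y ∈ MulAction.orbit N x0 := by
    intro h hh y hy
    have hst : (⟨h, hHG hh⟩ : G) ∈ MulAction.stabilizer G x0 := by
      rw [MulAction.mem_stabilizer_iff]
      exact hH0 h hh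
    exact orbit_normal_invariant x0 N hN _ hst y hy
  -- each suborbit is inside or outside the block
  have hin : ∀ O ∈ Os, (∃ a ∈ O, a ∈ MulAction.orbit N x0) →
      ∀ a ∈ O, a ∈ MulAction.orbit N x0 := by
    rintro O hOs ⟨a, haO, haΔ⟩ y hy
    obtain ⟨h, hh, hhy⟩ := hO O hOs a haO y hy
    rw [← hhy]; exact hinv h hh a haΔ
  set S : List (Finset α) := Os.filter (fun O => decide (∃ a ∈ O, a ∈ MulAction.orbit N x0))
    with hSdef
  have hSsub : S.Sublist Os := List.filter_sublist
  have hSmem : ∀ O, O ∈ S ↔ O ∈ Os ∧ ∃ a ∈ O, a ∈ MulAction.orbit N x0 := by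
    intro O
    rw [hSdef, List.mem_filter, decide_eq_true_eq]
  have hset : MulAction.orbit N x0 = insert x0 (lu S : Set α) := by
    ext x
    constructor
    · intro hx
      rcases hcov x with rfl | ⟨O, hOs, hxO⟩
      · exact Set.mem_insert _ _
      · refine Set.mem_insert_of_mem _ ?_
        rw [Finset.mem_coe, mem_lu]
        exact ⟨O, (hSmem O).mpr ⟨hOs, x, hxO, hx⟩, hxO⟩
    · intro hx
      rcases Set.mem_insert_iff.mp hx with rfl | hxS
      · exact MulAction.mem_orbit_self _
      · rw [Finset.mem_coe, mem_lu] at hxS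
        obtain ⟨O, hOS, hxO⟩ := hxS
        obtain ⟨hOs, hex⟩ := (hSmem O).mp hOS
        exact hin O hOs hex x hxO
  have hx0S : x0 ∉ (lu S : Set α) := by
    rw [Finset.mem_coe, mem_lu]
    rintro ⟨O, hOS, hxO⟩
    exact hx0 O ((hSmem O).mp hOS).1 hxO
  have hcard : (MulAction.orbit N x0).ncard = (S.map Finset.card).sum + 1 := by
    rw [hset, Set.ncard_insert_of_notMem hx0S (Set.toFinite _), Set.ncard_coe_finset,
      card_lu_of_pairwise (hdisj.sublist hSsub)]
  have hcases : MulAction.orbit N x0 = {x0} ∨ MulAction.orbit N x0 = Set.univ := by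
    by_cases hS1 : S = []
    · left
      rw [hset, hS1]
      simp
    by_cases hS2 : S = Os
    · right
      ext x
      simp only [Set.mem_univ, iff_true]
      rcases hcov x with rfl | ⟨O, hOs, hxO⟩
      · exact MulAction.mem_orbit_self _
      · rw [← hS2] at hOs
        obtain ⟨hOs', hex⟩ := (hSmem O).mp hOs
        exact hin O hOs' hex x hxO
    · exfalso
      apply hdiv S hSsub hS1 hS2
      rw [← hcard]
      exact hdvd
  rcases hcases with h1 | h1
  · exfalso
    apply hne
    rw [eq_bot_iff]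
    intro n hn
    rw [Subgroup.mem_bot]
    apply Subtype.ext
    apply Equiv.ext
    intro x
    show (n : Equiv.Perm α) x = x
    obtain ⟨g, hg, rfl⟩ := htrans x
    have hconj : (⟨g, hg⟩ : G)⁻¹ * n * (⟨g, hg⟩ : G) ∈ N := by
      have := hN.conj_mem n hn (⟨g, hg⟩ : G)⁻¹
      rwa [inv_inv] at this
    have hfix : ((⟨g, hg⟩ : G)⁻¹ * n * (⟨g, hg⟩ : G)) • x0 ∈ MulAction.orbit N x0 :=
      ⟨⟨_, hconj⟩, rfl⟩
    rw [h1, Set.mem_singleton_iff] at hfix
    have h2 : (g⁻¹ * (n : Equiv.Perm α) * g) x0 = x0 := hfix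
    rw [Equiv.Perm.mul_apply, Equiv.Perm.mul_apply, Equiv.Perm.inv_eq_iff_eq] at h2
    exact h2
  · have hcN := card_eq_orbit_mul_card_inf_stabilizer' N x0
    rw [h1, Set.ncard_univ, Nat.card_eq_fintype_card (α := α)] at hcN
    have hpN : p ^ k ∣ Nat.card N := hpk.trans (Dvd.intro _ hcN.symm)
    have hidx : ¬ p ∣ N.index := by
      intro h
      apply hG
      rw [← Subgroup.card_mul_index N, pow_succ]
      exact mul_dvd_mul hpN h
    have hpel : ∀ x (hx : x ∈ G), x ^ p = 1 → (⟨x, hx⟩ : G) ∈ N := by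
      intro x hx hxp
      rw [← QuotientGroup.eq_one_iff]
      have k1 : ((⟨x, hx⟩ : G) : G ⧸ N) ^ p = 1 := by
        rw [← QuotientGroup.mk_pow]
        have : (⟨x, hx⟩ : G) ^ p = 1 := Subtype.ext hxp
        rw [this]; rfl
      have k2 : orderOf ((⟨x, hx⟩ : G) : G ⧸ N) ∣ p := orderOf_dvd_of_pow_eq_one k1
      have k3 : orderOf ((⟨x, hx⟩ : G) : G ⧸ N) ∣ N.index := by
        rw [Subgroup.index_eq_card]
        exact orderOf_dvd_natCard _
      rcases (Nat.dvd_prime hp).mp k2 with h | h
      · exact orderOf_eq_one_iff.mp h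
      · rw [h] at k3; exact absurd k3 hidx
    rw [eq_top_iff]
    intro g _
    have key : ∀ x ∈ Subgroup.closure T, ∃ h : x ∈ G, (⟨x, h⟩ : G) ∈ N := by
      intro x hx
      induction hx using Subgroup.closure_induction with
      | mem x hx =>
        obtain ⟨a, b, haG, hbG, hap, hbp, rfl⟩ := hT5 x hx
        exact ⟨G.mul_mem haG hbG, N.mul_mem (hpel a haG hap) (hpel b hbG hbp)⟩
      | one => exact ⟨G.one_mem, N.one_mem⟩
      | mul x y _ _ ihx ihy =>
        obtain ⟨hx, hxN⟩ := ihx
        obtain ⟨hy, hyN⟩ := ihy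
        exact ⟨G.mul_mem hx hy, N.mul_mem hxN hyN⟩
      | inv x _ ihx =>
        obtain ⟨hx, hxN⟩ := ihx
        exact ⟨G.inv_mem hx, N.inv_mem hxN⟩
    obtain ⟨_, h⟩ := key _ (hT g.2)
    exact h

/-- Numeric variant of `simple_of_rankList_pgens`: the sizes of the suborbits are given as a list
`cs` of numbers with `cs.sum + 1 =` the degree (this forces pairwise disjointness), and the
divisibility condition is a decidable statement about the sublists of `cs`. -/
theorem simple_of_rankList_pgens_num {α : Type*} [Fintype α] [DecidableEq α]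
    (G : Subgroup (Equiv.Perm α)) (x0 : α) (Os : List (Finset α)) (p k : ℕ) (hp : p.Prime)
    (hpk : p ^ k ∣ Fintype.card α) (hG : ¬ p ^ (k + 1) ∣ Nat.card G)
    (hnt : Nontrivial G)
    (htrans : ∀ x, ∃ g ∈ G, g x0 = x)
    (H : Subgroup (Equiv.Perm α)) (hHG : H ≤ G) (hH0 : ∀ h ∈ H, h x0 = x0)
    (hO : ∀ O ∈ Os, ∀ x ∈ O, ∀ y ∈ O, ∃ h ∈ H, h x = y)
    (hcov : ∀ x, x = x0 ∨ ∃ O ∈ Os, x ∈ O) (hx0 : ∀ O ∈ Os, x0 ∉ O)
    (cs : List ℕ) (hcs : Os.map Finset.card = cs) (hsum : cs.sum + 1 = Fintype.card α)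
    (hdiv : ∀ s ∈ cs.sublists, s ≠ [] → s.length < cs.length →
      ¬ (s.sum + 1) ∣ Fintype.card α)
    (T : Set (Equiv.Perm α)) (hT : G ≤ Subgroup.closure T)
    (hT5 : ∀ t ∈ T, ∃ x y, x ∈ G ∧ y ∈ G ∧ x ^ p = 1 ∧ y ^ p = 1 ∧ t = x * y) :
    IsSimpleGroup G := by
  classical
  have hdisj : Os.Pairwise (fun O O' => Disjoint O O') := by
    apply pairwise_of_card_lu
    rw [hcs]
    have huniv : (Finset.univ : Finset α) = insert x0 (lu Os) := by
      ext x
      simp only [Finset.mem_univ, Finset.mem_insert, true_iff, mem_lu]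
      exact hcov x
    have h1 : Fintype.card α ≤ (lu Os).card + 1 := by
      rw [← Finset.card_univ, huniv]
      exact Finset.card_insert_le _ _
    omega
  refine simple_of_rankList_pgens G x0 Os p k hp hpk hG hnt htrans H hHG hH0 hO hcov hx0 hdisj
    ?_ T hT hT5
  intro S hS hS1 hS2
  have hlen : S.length < Os.length := by
    rcases Nat.lt_or_ge S.length Os.length with h | h
    · exact h
    · exact absurd (hS.eq_of_length_le h) hS2
  have hsub : (S.map Finset.card).Sublist cs := hcs ▸ hS.map Finset.card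
  refine hdiv (S.map Finset.card) (List.mem_sublists.mpr hsub) ?_ ?_
  · intro h
    apply hS1
    exact List.map_eq_nil_iff.mp h
  · rw [List.length_map, ← hcs, List.length_map]
    exact hlen

/-- Sanity check of the numeric side condition for the `J₂` action on `315` points. -/
example : ∀ s ∈ ([10, 32, 32, 80, 160] : List ℕ).sublists, s ≠ [] →
    s.length < ([10, 32, 32, 80, 160] : List ℕ).length → ¬ (s.sum + 1) ∣ 315 := by
  decide

end Cfsg.Agent.Lib.Helper9.RankList
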