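import Mathlib

set_option autoImplicit false

/-! # S4538 leaf [A] (helper9): Gelfand's trick

If an anti-involution of `G` preserves `(U, ψ)` and fixes every `ψ`-admissible double coset
compatibly with `ψ`, the `(U, ψ)`-eigenspace of an irreducible complex representation is at most
one-dimensional. -/

namespace Cfsg.Agent.Lib.Helper24.SLB

namespace Helper9

open MonoidAlgebra Representation
open scoped Classical

variable {G : Type*} [Group G]

/-- the monoid hom `g ↦ op (of (ι g))` attached to an anti-automorphism `ι` -/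
noncomputable def antiHom (ι : G → G) (hι : ∀ a b : G, ι (a * b) = ι b * ι a) :
    G →* (MonoidAlgebra ℂ G)ᵐᵒᵖ where
  toFun g := MulOpposite.op (of ℂ G (ι g))
  map_one' := by
    have h3 : ι 1 * ι 1 = ι 1 := by rw [← hι, mul_one]
    have h1 : ι 1 = 1 := mul_left_cancel (a := ι 1) (h3.trans (mul_one _).symm)
    rw [h1, map_one, MulOpposite.op_one]
  map_mul' a b := by
    rw [hι, map_mul, MulOpposite.op_mul]

/-- the anti-automorphism of the group algebra extending `ι` -/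
noncomputable def J (ι : G → G) (hι : ∀ a b : G, ι (a * b) = ι b * ι a)
    (a : MonoidAlgebra ℂ G) : MonoidAlgebra ℂ G :=
  MulOpposite.unop (MonoidAlgebra.lift ℂ (MonoidAlgebra ℂ G)ᵐᵒᵖ G (antiHom ι hι) a)

section J
variable (ι : G → G) (hι : ∀ a b : G, ι (a * b) = ι b * ι a)

lemma J_add (a b : MonoidAlgebra ℂ G) : J ι hι (a + b) = J ι hι a + J ι hι b := by
  unfold J; rw [map_add, MulOpposite.unop_add]

lemma J_zero : J ι hι (0 : MonoidAlgebra ℂ G) = 0 := by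
  unfold J; rw [map_zero, MulOpposite.unop_zero]

lemma J_smul (r : ℂ) (a : MonoidAlgebra ℂ G) : J ι hι (r • a) = r • J ι hι a := by
  unfold J; rw [map_smul, MulOpposite.unop_smul]

lemma J_mul (a b : MonoidAlgebra ℂ G) : J ι hι (a * b) = J ι hι b * J ι hι a := by
  unfold J; rw [map_mul, MulOpposite.unop_mul]

lemma J_of (g : G) : J ι hι (of ℂ G g) = of ℂ G (ι g) := by
  unfold J; rw [MonoidAlgebra.lift_of]; rfl

lemma J_sum {α : Type*} (s : Finset α) (f : α → MonoidAlgebra ℂ G) :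
    J ι hι (∑ i ∈ s, f i) = ∑ i ∈ s, J ι hι (f i) := by
  induction s using Finset.induction_on with
  | empty => simp [J_zero]
  | insert a s ha ih => rw [Finset.sum_insert ha, Finset.sum_insert ha, J_add, ih]

end J

section fin
variable [Fintype G]

/-- the idempotent `|U|⁻¹ ∑ ψ(u)⁻¹ u` -/
noncomputable def idem (U : Subgroup G) (ψ : U →* ℂˣ) : MonoidAlgebra ℂ G :=
  ((Fintype.card U : ℂ))⁻¹ • ∑ u : U, (((ψ u)⁻¹ : ℂˣ) : ℂ) • of ℂ G (u : G)

section idem
variable (U : Subgroup G) (ψ : U →* ℂˣ)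

lemma of_mul_idem (u' : U) :
    of ℂ G (u' : G) * idem U ψ = ((ψ u' : ℂˣ) : ℂ) • idem U ψ := by
  unfold idem
  rw [mul_smul_comm, smul_comm ((ψ u' : ℂˣ) : ℂ)]
  congr 1
  rw [Finset.mul_sum, Finset.smul_sum]
  refine Fintype.sum_equiv (Equiv.mulLeft u') _ _ fun u => ?_
  have hc : ((ψ u' : ℂˣ) : ℂ) * (((ψ (u' * u))⁻¹ : ℂˣ) : ℂ) = (((ψ u)⁻¹ : ℂˣ) : ℂ) := by
    rw [← Units.val_mul, map_mul, mul_inv_rev, mul_comm (ψ u)⁻¹, mul_inv_cancel_left]
  simp only [Equiv.coe_mulLeft, Subgroup.coe_mul]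
  rw [mul_smul_comm, ← map_mul, smul_smul, hc]

lemma idem_mul_of (u' : U) :
    idem U ψ * of ℂ G (u' : G) = ((ψ u' : ℂˣ) : ℂ) • idem U ψ := by
  unfold idem
  rw [smul_mul_assoc, smul_comm ((ψ u' : ℂˣ) : ℂ)]
  congr 1
  rw [Finset.sum_mul, Finset.smul_sum]
  refine Fintype.sum_equiv (Equiv.mulRight u') _ _ fun u => ?_
  have hc : ((ψ u' : ℂˣ) : ℂ) * (((ψ (u * u'))⁻¹ : ℂˣ) : ℂ) = (((ψ u)⁻¹ : ℂˣ) : ℂ) := by
    rw [← Units.val_mul, map_mul, mul_inv_rev, mul_inv_cancel_left]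
  simp only [Equiv.coe_mulRight, Subgroup.coe_mul]
  rw [smul_mul_assoc, ← map_mul, smul_smul, hc]

end idem

section comm
variable (U : Subgroup G) (ψ : U →* ℂˣ)
  (ι : G → G) (hι : ∀ a b : G, ι (a * b) = ι b * ι a) (hιι : ∀ g : G, ι (ι g) = g)
  (hιU : ∀ u : U, ι (u : G) ∈ U) (hιψ : ∀ u : U, ψ ⟨ι (u : G), hιU u⟩ = ψ u)

include hιι hιψ in
lemma J_idem : J ι hι (idem U ψ) = idem U ψ := by
  unfold idem
  rw [J_smul, J_sum]
  congr 1
  let σ : U ≃ U :=
    { toFun := fun u => ⟨ι (u : G), hιU u⟩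
      invFun := fun u => ⟨ι (u : G), hιU u⟩
      left_inv := fun u => Subtype.ext (hιι _)
      right_inv := fun u => Subtype.ext (hιι _) }
  refine Fintype.sum_equiv σ _ _ fun u => ?_
  rw [J_smul, J_of]
  show _ = (((ψ ⟨ι (u : G), hιU u⟩)⁻¹ : ℂˣ) : ℂ) • of ℂ G (ι (u : G))
  rw [hιψ]

include hιι hιψ in
lemma J_sandwich_of
    (hadm : ∀ g : G, (∀ u u' : U, (u : G) * g = g * (u' : G) → ψ u = ψ u') →
      ∃ u₁ u₂ : U, ι g = (u₁ : G) * g * (u₂ : G) ∧ ψ u₁ * ψ u₂ = 1) (g : G) :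
    J ι hι (idem U ψ * of ℂ G g * idem U ψ) = idem U ψ * of ℂ G g * idem U ψ := by
  by_cases hg : ∀ u u' : U, (u : G) * g = g * (u' : G) → ψ u = ψ u'
  · obtain ⟨u₁, u₂, h1, h2⟩ := hadm g hg
    rw [J_mul, J_mul, J_idem U ψ ι hι hιι hιU hιψ, J_of, h1, map_mul, map_mul]
    have e1 : idem U ψ * (of ℂ G (u₁ : G) * of ℂ G g * of ℂ G (u₂ : G) * idem U ψ)
        = (idem U ψ * of ℂ G (u₁ : G)) * of ℂ G g * (of ℂ G (u₂ : G) * idem U ψ) := by
      simp only [mul_assoc]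
    rw [e1, idem_mul_of, of_mul_idem, smul_mul_assoc, smul_mul_assoc, mul_smul_comm, smul_smul,
      ← Units.val_mul, h2, Units.val_one, one_smul]
  · push Not at hg
    obtain ⟨u, u', h, hne⟩ := hg
    have hX : idem U ψ * of ℂ G g * idem U ψ = 0 := by
      have e1 : ((ψ u : ℂˣ) : ℂ) • (idem U ψ * of ℂ G g * idem U ψ)
          = ((ψ u' : ℂˣ) : ℂ) • (idem U ψ * of ℂ G g * idem U ψ) := by
        calc ((ψ u : ℂˣ) : ℂ) • (idem U ψ * of ℂ G g * idem U ψ)
            = (idem U ψ * of ℂ G (u : G)) * of ℂ G g * idem U ψ := by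
              rw [idem_mul_of, smul_mul_assoc, smul_mul_assoc]
          _ = idem U ψ * of ℂ G ((u : G) * g) * idem U ψ := by
              rw [map_mul]; simp only [mul_assoc]
          _ = idem U ψ * of ℂ G (g * (u' : G)) * idem U ψ := by rw [h]
          _ = idem U ψ * of ℂ G g * (of ℂ G (u' : G) * idem U ψ) := by
              rw [map_mul]; simp only [mul_assoc]
          _ = ((ψ u' : ℂˣ) : ℂ) • (idem U ψ * of ℂ G g * idem U ψ) := by
              rw [of_mul_idem, mul_smul_comm]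
      have e2 : (((ψ u : ℂˣ) : ℂ) - ((ψ u' : ℂˣ) : ℂ)) • (idem U ψ * of ℂ G g * idem U ψ) = 0 := by
        rw [sub_smul, e1, sub_self]
      rcases smul_eq_zero.mp e2 with h0 | h0
      · exact absurd (Units.ext (sub_eq_zero.mp h0)) hne
      · exact h0
    rw [hX, J_zero]

include hιι hιψ in
lemma J_sandwich
    (hadm : ∀ g : G, (∀ u u' : U, (u : G) * g = g * (u' : G) → ψ u = ψ u') →
      ∃ u₁ u₂ : U, ι g = (u₁ : G) * g * (u₂ : G) ∧ ψ u₁ * ψ u₂ = 1) (a : MonoidAlgebra ℂ G) :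
    J ι hι (idem U ψ * a * idem U ψ) = idem U ψ * a * idem U ψ := by
  induction a using MonoidAlgebra.induction_linear with
  | zero => rw [mul_zero, zero_mul, J_zero]
  | add x y hx hy => rw [mul_add, add_mul, J_add, hx, hy]
  | single g r =>
    have hs : (MonoidAlgebra.single g r : MonoidAlgebra ℂ G) = r • of ℂ G g := by
      rw [MonoidAlgebra.of_apply, MonoidAlgebra.smul_single, smul_eq_mul, mul_one]
    rw [hs, mul_smul_comm, smul_mul_assoc, J_smul,
      J_sandwich_of U ψ ι hι hιι hιU hιψ hadm g]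

include hι hιι hιψ in
lemma sandwich_comm
    (hadm : ∀ g : G, (∀ u u' : U, (u : G) * g = g * (u' : G) → ψ u = ψ u') →
      ∃ u₁ u₂ : U, ι g = (u₁ : G) * g * (u₂ : G) ∧ ψ u₁ * ψ u₂ = 1) (a b : MonoidAlgebra ℂ G) :
    (idem U ψ * a * idem U ψ) * (idem U ψ * b * idem U ψ)
      = (idem U ψ * b * idem U ψ) * (idem U ψ * a * idem U ψ) := by
  have h1 : (idem U ψ * a * idem U ψ) * (idem U ψ * b * idem U ψ)
      = idem U ψ * (a * idem U ψ * idem U ψ * b) * idem U ψ := by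
    simp only [mul_assoc]
  have h2 := J_sandwich U ψ ι hι hιι hιU hιψ hadm (a * idem U ψ * idem U ψ * b)
  rw [← h1, J_mul, J_sandwich U ψ ι hι hιι hιU hιψ hadm a,
    J_sandwich U ψ ι hι hιι hιU hιψ hadm b] at h2
  exact h2.symm

end comm

section rep
variable (U : Subgroup G) (ψ : U →* ℂˣ) {d : ℕ} (ρ : Representation ℂ G (Fin d → ℂ))

omit [Fintype G] in
lemma asAlgebraHom_mul_apply (x y : MonoidAlgebra ℂ G) (z : Fin d → ℂ) :
    asAlgebraHom ρ (x * y) z = asAlgebraHom ρ x (asAlgebraHom ρ y z) := by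
  rw [map_mul, Module.End.mul_apply]

lemma asAlgebraHom_idem_apply (x : Fin d → ℂ)
    (hx : ∀ u : U, ρ (u : G) x = ((ψ u : ℂˣ) : ℂ) • x) :
    asAlgebraHom ρ (idem U ψ) x = x := by
  unfold idem
  rw [map_smul, map_sum, LinearMap.smul_apply, LinearMap.sum_apply]
  have key : ∀ u : U, (asAlgebraHom ρ ((((ψ u)⁻¹ : ℂˣ) : ℂ) • of ℂ G (u : G))) x = x := by
    intro u
    rw [map_smul, asAlgebraHom_of, LinearMap.smul_apply, hx u, smul_smul, ← Units.val_mul,
      inv_mul_cancel, Units.val_one, one_smul]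
  rw [Finset.sum_congr rfl (fun u _ => key u), Finset.sum_const, Finset.card_univ,
    ← Nat.cast_smul_eq_nsmul ℂ, smul_smul, inv_mul_cancel₀, one_smul]
  exact Nat.cast_ne_zero.mpr Fintype.card_ne_zero

lemma apply_asAlgebraHom_idem (u : U) (x : Fin d → ℂ) :
    ρ (u : G) (asAlgebraHom ρ (idem U ψ) x)
      = ((ψ u : ℂˣ) : ℂ) • asAlgebraHom ρ (idem U ψ) x := by
  have h := congrArg (fun a => asAlgebraHom ρ a x) (of_mul_idem U ψ u)
  simp only [map_mul, map_smul, asAlgebraHom_of, Module.End.mul_apply,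
    LinearMap.smul_apply] at h
  exact h

omit [Fintype G] in
lemma exists_alg_apply (hρ : ρ.IsIrreducible) (v : Fin d → ℂ) (hv0 : v ≠ 0) (w : Fin d → ℂ) :
    ∃ a : MonoidAlgebra ℂ G, asAlgebraHom ρ a v = w := by
  let f : MonoidAlgebra ℂ G →ₗ[ℂ] (Fin d → ℂ) :=
    (LinearMap.applyₗ v).comp (asAlgebraHom ρ).toLinearMap
  have hf : ∀ a, f a = asAlgebraHom ρ a v := fun a => rfl
  let σ : Subrepresentation ρ :=
    { toSubmodule := LinearMap.range f
      apply_mem_toSubmodule := by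
        rintro g _ ⟨a, rfl⟩
        refine ⟨of ℂ G g * a, ?_⟩
        rw [hf, hf, map_mul, asAlgebraHom_of, Module.End.mul_apply] }
  have := hρ
  rcases eq_bot_or_eq_top σ with h | h
  · exfalso
    have hv : v ∈ σ.toSubmodule := ⟨1, by rw [hf, map_one, Module.End.one_apply]⟩
    rw [h] at hv
    exact hv0 ((Submodule.mem_bot ℂ).mp hv)
  · have hw : w ∈ σ.toSubmodule := by rw [h]; exact Submodule.mem_top
    obtain ⟨a, ha⟩ := hw
    exact ⟨a, ha⟩

lemma exists_sandwich_apply (hρ : ρ.IsIrreducible) (v w : Fin d → ℂ) (hv0 : v ≠ 0)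
    (hv : ∀ u : U, ρ (u : G) v = ((ψ u : ℂˣ) : ℂ) • v)
    (hw : ∀ u : U, ρ (u : G) w = ((ψ u : ℂˣ) : ℂ) • w) :
    ∃ a : MonoidAlgebra ℂ G, asAlgebraHom ρ (idem U ψ * a * idem U ψ) v = w := by
  obtain ⟨a, ha⟩ := exists_alg_apply ρ hρ v hv0 w
  refine ⟨a, ?_⟩
  rw [map_mul, map_mul, Module.End.mul_apply, Module.End.mul_apply,
    asAlgebraHom_idem_apply U ψ ρ v hv, ha, asAlgebraHom_idem_apply U ψ ρ w hw]

end rep

end fin

end Helper9


open MonoidAlgebra Representation in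
/-- **[A]** Gelfand's trick: if an anti-involution `ι` of `G` preserves `U` and `ψ` and fixes every
`ψ`-admissible double coset `U g U` compatibly with `ψ`, every irreducible representation has an at
most one-dimensional `(U, ψ)`-eigenspace. -/
theorem gelfand_mult_one {G : Type*} [Group G] [Fintype G] (U : Subgroup G) (ψ : U →* ℂˣ)
    (ι : G → G) (hι : ∀ a b : G, ι (a * b) = ι b * ι a) (hιι : ∀ g : G, ι (ι g) = g)
    (hιU : ∀ u : U, ι (u : G) ∈ U) (hιψ : ∀ u : U, ψ ⟨ι (u : G), hιU u⟩ = ψ u)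
    (hadm : ∀ g : G, (∀ u u' : U, (u : G) * g = g * (u' : G) → ψ u = ψ u') →
      ∃ u₁ u₂ : U, ι g = (u₁ : G) * g * (u₂ : G) ∧ ψ u₁ * ψ u₂ = 1)
    {d : ℕ} (ρ : Representation ℂ G (Fin d → ℂ)) (hρ : ρ.IsIrreducible)
    (v w : Fin d → ℂ) (hv0 : v ≠ 0)
    (hv : ∀ u : U, ρ (u : G) v = ((ψ u : ℂˣ) : ℂ) • v)
    (hw : ∀ u : U, ρ (u : G) w = ((ψ u : ℂˣ) : ℂ) • w) :
    ∃ c : ℂ, w = c • v := by
  classical
  let W : Submodule ℂ (Fin d → ℂ) :=
    { carrier := {x | ∀ u : U, ρ (u : G) x = ((ψ u : ℂˣ) : ℂ) • x}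
      add_mem' := by
        intro x y hx hy u
        rw [map_add, hx u, hy u, smul_add]
      zero_mem' := by
        intro u
        rw [map_zero, smul_zero]
      smul_mem' := by
        intro c x hx u
        rw [map_smul, hx u, smul_comm] }
  obtain ⟨a, ha⟩ := Helper9.exists_sandwich_apply U ψ ρ hρ v w hv0 hv hw
  have hT : ∀ x ∈ W, asAlgebraHom ρ (Helper9.idem U ψ * a * Helper9.idem U ψ) x ∈ W := by
    intro x _ u
    rw [map_mul, map_mul, Module.End.mul_apply, Module.End.mul_apply]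
    exact Helper9.apply_asAlgebraHom_idem U ψ ρ u _
  let T' : Module.End ℂ W :=
    (asAlgebraHom ρ (Helper9.idem U ψ * a * Helper9.idem U ψ)).restrict hT
  have : Nontrivial W := ⟨⟨⟨v, hv⟩, 0, fun h => hv0 (congrArg Subtype.val h)⟩⟩
  obtain ⟨μ, hμ⟩ := Module.End.exists_eigenvalue T'
  obtain ⟨v', hv'⟩ := hμ.exists_hasEigenvector
  have hv'1 : T' v' = μ • v' := Module.End.mem_eigenspace_iff.mp hv'.1
  have hv'0 : (v' : Fin d → ℂ) ≠ 0 := fun h => hv'.2 (Subtype.ext h)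
  have hTv' : asAlgebraHom ρ (Helper9.idem U ψ * a * Helper9.idem U ψ) (v' : Fin d → ℂ)
      = μ • (v' : Fin d → ℂ) := congrArg Subtype.val hv'1
  obtain ⟨a', ha'⟩ :=
    Helper9.exists_sandwich_apply U ψ ρ hρ (v' : Fin d → ℂ) v hv'0 v'.2 hv
  refine ⟨μ, ?_⟩
  calc w = asAlgebraHom ρ (Helper9.idem U ψ * a * Helper9.idem U ψ) v := ha.symm
    _ = asAlgebraHom ρ (Helper9.idem U ψ * a * Helper9.idem U ψ)
          (asAlgebraHom ρ (Helper9.idem U ψ * a' * Helper9.idem U ψ) (v' : Fin d → ℂ)) := by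
        rw [ha']
    _ = asAlgebraHom ρ ((Helper9.idem U ψ * a * Helper9.idem U ψ)
          * (Helper9.idem U ψ * a' * Helper9.idem U ψ)) (v' : Fin d → ℂ) := by
        exact (Helper9.asAlgebraHom_mul_apply ρ _ _ _).symm
    _ = asAlgebraHom ρ ((Helper9.idem U ψ * a' * Helper9.idem U ψ)
          * (Helper9.idem U ψ * a * Helper9.idem U ψ)) (v' : Fin d → ℂ) := by
        rw [Helper9.sandwich_comm U ψ ι hι hιι hιU hιψ hadm a a']
    _ = asAlgebraHom ρ (Helper9.idem U ψ * a' * Helper9.idem U ψ)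
          (asAlgebraHom ρ (Helper9.idem U ψ * a * Helper9.idem U ψ) (v' : Fin d → ℂ)) := by
        exact Helper9.asAlgebraHom_mul_apply ρ _ _ _
    _ = μ • v := by rw [hTv', map_smul, ha']

end Cfsg.Agent.Lib.Helper24.SLB
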