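import Cfsg.Agent.Lib.Helper9.TwoCon1

/-!
# Helper9 library TwoCon2: `Char2` passes to `2`-locals

* `char2_inf_normalizer`: `Char2 H`, `R ≤ H` a `2`-subgroup ⟹ `Char2 (N_H(R))` (Thompson `A × B`);
* `char2_normalizer`: if all involution centralizers of `G` are `Char2`, so are all `2`-locals;
* `char2_centralizer_of_maximal`: if all maximal `2`-locals are `Char2`, so are all involution
  centralizers.
-/

set_option autoImplicit false

namespace Cfsg.Agent.Lib.Helper9.TwoCon

open Cfsg

variable {G : Type*} [Group G] [Finite G]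

omit [Finite G] in
/-- if `g` of odd order maps `u` to `u w`, fixes `w`, and `w` is a `2`-element, then `w = 1` -/
theorem eq_one_of_odd_conj {g u w : G} (hg : Odd (orderOf g)) (h1 : g * u * g⁻¹ = u * w)
    (h2 : g * w * g⁻¹ = w) {j : ℕ} (hw : w ^ (2 ^ j) = 1) : w = 1 := by
  have key : ∀ k : ℕ, g ^ k * u * (g ^ k)⁻¹ = u * w ^ k := by
    intro k
    induction k with
    | zero => simp
    | succ k ih =>
      have hwk : g * w ^ k * g⁻¹ = w ^ k := by
        have := conj_pow (a := g) (b := w) (i := k)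
        rw [h2] at this
        exact this.symm
      calc g ^ (k + 1) * u * (g ^ (k + 1))⁻¹ = g * (g ^ k * u * (g ^ k)⁻¹) * g⁻¹ := by
            rw [pow_succ']; group
        _ = g * (u * w ^ k) * g⁻¹ := by rw [ih]
        _ = (g * u * g⁻¹) * (g * w ^ k * g⁻¹) := by group
        _ = u * w * w ^ k := by rw [h1, hwk]
        _ = u * w ^ (k + 1) := by rw [pow_succ', mul_assoc]
  have h3 := key (orderOf g)
  rw [pow_orderOf_eq_one, one_mul, inv_one, mul_one] at h3
  have h4 : w ^ orderOf g = 1 := by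
    have : u * w ^ orderOf g = u * 1 := by rw [mul_one]; exact h3.symm
    exact mul_left_cancel this
  have h5 : orderOf w ∣ Nat.gcd (orderOf g) (2 ^ j) :=
    Nat.dvd_gcd (orderOf_dvd_of_pow_eq_one h4) (orderOf_dvd_of_pow_eq_one hw)
  have h6 : Nat.gcd (orderOf g) (2 ^ j) = 1 := by
    apply Nat.Coprime.pow_right
    exact Nat.coprime_two_right.mpr hg
  rw [h6, Nat.dvd_one] at h5
  exact orderOf_eq_one_iff.mp h5

omit [Finite G] in
/-- an element of odd order in a `2`-group is trivial -/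
theorem eq_one_of_odd_of_mem_pgroup {Q : Subgroup G} (hQ : IsPGroup 2 Q) {y : G} (hy : y ∈ Q)
    (hodd : Odd (orderOf y)) : y = 1 := by
  obtain ⟨k, hk⟩ := hQ ⟨y, hy⟩
  have hk' : y ^ 2 ^ k = 1 := by simpa using congrArg Subtype.val hk
  have h5 : orderOf y ∣ Nat.gcd (orderOf y) (2 ^ k) :=
    Nat.dvd_gcd dvd_rfl (orderOf_dvd_of_pow_eq_one hk')
  have h6 : Nat.gcd (orderOf y) (2 ^ k) = 1 := by
    apply Nat.Coprime.pow_right
    exact Nat.coprime_two_right.mpr hodd
  rw [h6, Nat.dvd_one] at h5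
  exact orderOf_eq_one_iff.mp h5

omit [Finite G] in
theorem eq_one_of_odd_of_centralizes_O2 {H : Subgroup G} (hH : Char2 H) {y : G} (hyH : y ∈ H)
    (hy : Odd (orderOf y)) (hc : ∀ x ∈ O2 H, y * x = x * y) : y = 1 := by
  have h1 : y ∈ H ⊓ Subgroup.centralizer ((O2 H : Subgroup G) : Set G) := by
    refine Subgroup.mem_inf.mpr ⟨hyH, ?_⟩
    rw [Subgroup.mem_centralizer_iff]
    intro x hx
    exact (hc x hx).symm
  exact eq_one_of_odd_of_mem_pgroup (O2_isPGroup H) (hH h1) hy

/-- a subgroup without nontrivial elements of odd order is a `2`-group -/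
theorem isPGroup_of_odd_trivial {X : Subgroup G} (h : ∀ y ∈ X, Odd (orderOf y) → y = 1) :
    IsPGroup 2 X := by
  intro x
  have hpos : orderOf (x : G) ≠ 0 := (orderOf_pos (x : G)).ne'
  obtain ⟨k, m, hm, hkm⟩ := Nat.exists_eq_two_pow_mul_odd hpos
  refine ⟨k, ?_⟩
  have h1 : ((x : G) ^ 2 ^ k) ^ m = 1 := by
    rw [← pow_mul, ← hkm, pow_orderOf_eq_one]
  have h2 : Odd (orderOf ((x : G) ^ 2 ^ k)) :=
    Odd.of_dvd_nat hm (orderOf_dvd_of_pow_eq_one h1)
  have h3 := h _ (X.pow_mem x.2 _) h2
  exact Subtype.ext (by simpa using h3)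

/-- `Char2` passes to normalizers of `2`-subgroups (Thompson `A × B`) -/
theorem char2_inf_normalizer {H R : Subgroup G} (hH : Char2 H) (hRH : R ≤ H) (hR : IsPGroup 2 R) :
    Char2 (H ⊓ Subgroup.normalizer (R : Set G)) := by
  have : Fact (Nat.Prime 2) := ⟨Nat.prime_two⟩
  set N := H ⊓ Subgroup.normalizer (R : Set G) with hN
  have hNH : N ≤ H := inf_le_left
  have hNR : N ≤ Subgroup.normalizer (R : Set G) := inf_le_right
  -- `R ≤ O_2(N)`
  have hRP : R ≤ O2 N := by
    apply le_O2 (le_inf hRH Subgroup.le_normalizer) _ hR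
    intro n hn x hx
    exact (Subgroup.mem_normalizer_iff.mp (hNR hn) x).mp hx
  -- `N_Q(R) ≤ O_2(N)`
  have hQP : O2 H ⊓ Subgroup.normalizer (R : Set G) ≤ O2 N := by
    apply le_O2 (inf_le_inf_right _ (O2_le H)) _ ((O2_isPGroup H).to_le inf_le_left)
    intro n hn x hx
    obtain ⟨hxQ, hxR⟩ := Subgroup.mem_inf.mp hx
    refine Subgroup.mem_inf.mpr ⟨conj_mem_O2 (hNH hn) hxQ, ?_⟩
    exact Subgroup.mul_mem _ (Subgroup.mul_mem _ (hNR hn) hxR) (Subgroup.inv_mem _ (hNR hn))
  -- odd elements of `C_N(O_2(N))` are trivial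
  have hodd : ∀ y ∈ N ⊓ Subgroup.centralizer ((O2 N : Subgroup G) : Set G),
      Odd (orderOf y) → y = 1 := by
    intro y hy hyodd
    obtain ⟨hyN, hyc⟩ := Subgroup.mem_inf.mp hy
    have hyP : ∀ x ∈ O2 N, y * x = x * y := fun x hx =>
      (Subgroup.mem_centralizer_iff.mp hyc x hx).symm
    apply eq_one_of_odd_of_centralizes_O2 hH (hNH hyN) hyodd
    apply Cfsg.Agent.Lib.Helper17.thompson_AxB hR (Nat.coprime_two_right.mpr hyodd)
      (fun b hb => hyP b (hRP hb)) (Nat.card (O2 H)) (O2 H) rfl (O2_isPGroup H)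
      (le_normalizer_O2 H (hNH hyN)) (hRH.trans (le_normalizer_O2 H))
    intro x hx hxR
    apply hyP
    apply hQP
    refine Subgroup.mem_inf.mpr ⟨hx, ?_⟩
    rw [Subgroup.mem_normalizer_iff]
    intro b
    have key : ∀ b ∈ R, x * b * x⁻¹ = b := by
      intro b hb
      have := hxR b hb
      rw [← this]; group
    constructor
    · intro hb
      rw [key b hb]; exact hb
    · intro hb
      have := key _ hb
      have e : x * b * x⁻¹ = b := by
        have h2 : x * (x * b * x⁻¹) * x⁻¹ = x * b * x⁻¹ := this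
        have h3 : x * (x * b * x⁻¹) = x * b := by
          calc x * (x * b * x⁻¹) = (x * (x * b * x⁻¹) * x⁻¹) * x := by group
            _ = (x * b * x⁻¹) * x := by rw [h2]
            _ = x * b := by group
        have h4 := mul_left_cancel h3
        exact h4
      rw [← e]; exact hb
  have h2 := isPGroup_of_odd_trivial hodd
  apply le_O2 inf_le_left _ h2
  intro n hn x hx
  obtain ⟨hxN, hxc⟩ := Subgroup.mem_inf.mp hx
  refine Subgroup.mem_inf.mpr ⟨N.mul_mem (N.mul_mem hn hxN) (N.inv_mem hn), ?_⟩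
  rw [Subgroup.mem_centralizer_iff]
  intro w hw
  have hw' : n⁻¹ * w * n⁻¹⁻¹ ∈ O2 N := conj_mem_O2 (N.inv_mem hn) hw
  have := Subgroup.mem_centralizer_iff.mp hxc _ hw'
  calc w * (n * x * n⁻¹) = n * ((n⁻¹ * w * n⁻¹⁻¹) * x) * n⁻¹ := by group
    _ = n * (x * (n⁻¹ * w * n⁻¹⁻¹)) * n⁻¹ := by rw [this]
    _ = (n * x * n⁻¹) * w := by group

/-- a central involution of a nontrivial `2`-subgroup -/
theorem exists_central_involution {P : Subgroup G} (hP : IsPGroup 2 P) (hne : P ≠ ⊥) :
    ∃ t ∈ P, orderOf t = 2 ∧ ∀ x ∈ P, t * x = x * t := by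
  have : Fact (Nat.Prime 2) := ⟨Nat.prime_two⟩
  have hnt : Nontrivial ↥P := (Subgroup.nontrivial_iff_ne_bot _).mpr hne
  have hcn : Nontrivial (Subgroup.center ↥P) := hP.center_nontrivial
  have hcp : IsPGroup 2 (Subgroup.center ↥P) := hP.to_subgroup _
  obtain ⟨k, hk⟩ := IsPGroup.iff_card.mp hcp
  have hk0 : k ≠ 0 := by
    intro h
    rw [h, pow_zero] at hk
    have := Finite.one_lt_card_iff_nontrivial.mpr hcn
    omega
  have heven : Even (Nat.card (Subgroup.center ↥P)) := by
    rw [hk]; exact (Nat.even_pow' hk0).mpr even_two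
  obtain ⟨⟨t, htc⟩, ht⟩ := exists_prime_orderOf_dvd_card' (G := ↥(Subgroup.center ↥P)) 2
    (even_iff_two_dvd.mp heven)
  rw [Subgroup.orderOf_mk] at ht
  refine ⟨(t : G), t.2, ?_, ?_⟩
  · rw [Subgroup.orderOf_coe]; exact ht
  · intro x hx
    have := (Subgroup.mem_center_iff.mp htc) ⟨x, hx⟩
    exact (congrArg Subtype.val this).symm

omit [Finite G] in
theorem mem_centralizer_singleton {t x : G} : x ∈ Subgroup.centralizer ({t} : Set G) ↔ t * x = x * t := by
  rw [Subgroup.mem_centralizer_iff]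
  constructor
  · intro h; exact h t rfl
  · intro h y hy
    rw [Set.mem_singleton_iff] at hy; subst hy; exact h

/-- if all involution centralizers are `Char2`, so are all `2`-locals -/
theorem char2_normalizer
    (hinv : ∀ t : G, orderOf t = 2 → Char2 (Subgroup.centralizer ({t} : Set G)))
    {T : Subgroup G} (hT : IsPGroup 2 T) (hT1 : T ≠ ⊥) :
    Char2 (Subgroup.normalizer (T : Set G)) := by
  have : Fact (Nat.Prime 2) := ⟨Nat.prime_two⟩
  set N := Subgroup.normalizer (T : Set G) with hN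
  have hTP : T ≤ O2 N := by
    apply le_O2 Subgroup.le_normalizer _ hT
    intro n hn x hx
    exact (Subgroup.mem_normalizer_iff.mp hn x).mp hx
  have hP1 : O2 N ≠ ⊥ := by
    intro h
    apply hT1
    rw [eq_bot_iff, ← h]; exact hTP
  obtain ⟨t, htP, ht2, htc⟩ := exists_central_involution (O2_isPGroup N) hP1
  have hC := hinv t ht2
  set C := Subgroup.centralizer ({t} : Set G) with hCdef
  have hPC : O2 N ≤ C := by
    intro x hx
    exact mem_centralizer_singleton.mpr (htc x hx)
  set X := N ⊓ Subgroup.centralizer ((O2 N : Subgroup G) : Set G) with hX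
  have hXN : X ≤ N := inf_le_left
  have hXc : ∀ u ∈ X, ∀ w ∈ O2 N, u * w = w * u := by
    intro u hu w hw
    exact (Subgroup.mem_centralizer_iff.mp (Subgroup.mem_inf.mp hu).2 w hw).symm
  have hXC : X ≤ C := by
    intro u hu
    exact mem_centralizer_singleton.mpr (hXc u hu t htP).symm
  -- `N` normalizes `X`
  have hNX : ∀ n ∈ N, ∀ x ∈ X, n * x * n⁻¹ ∈ X := by
    intro n hn x hx
    obtain ⟨hxN, hxc⟩ := Subgroup.mem_inf.mp hx
    refine Subgroup.mem_inf.mpr ⟨N.mul_mem (N.mul_mem hn hxN) (N.inv_mem hn), ?_⟩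
    rw [Subgroup.mem_centralizer_iff]
    intro w hw
    have hw' : n⁻¹ * w * n⁻¹⁻¹ ∈ O2 N := conj_mem_O2 (N.inv_mem hn) hw
    have := Subgroup.mem_centralizer_iff.mp hxc _ hw'
    calc w * (n * x * n⁻¹) = n * ((n⁻¹ * w * n⁻¹⁻¹) * x) * n⁻¹ := by group
      _ = n * (x * (n⁻¹ * w * n⁻¹⁻¹)) * n⁻¹ := by rw [this]
      _ = (n * x * n⁻¹) * w := by group
  -- `O_2(X) ≤ O_2(N)`
  have hO2X : O2 X ≤ O2 N := by
    apply le_O2 ((O2_le X).trans hXN) _ (O2_isPGroup X)
    intro n hn w hw
    -- the conjugate of `O_2(X)` by `n` is a normal `2`-subgroup of `X`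
    have hle : (O2 X).map (MulAut.conj n).toMonoidHom ≤ O2 X := by
      apply le_O2
      · rintro _ ⟨v, hv, rfl⟩
        exact hNX n hn v (O2_le X hv)
      · rintro u hu _ ⟨v, hv, rfl⟩
        have hu' : n⁻¹ * u * n⁻¹⁻¹ ∈ X := hNX n⁻¹ (N.inv_mem hn) u hu
        have := conj_mem_O2 hu' hv
        refine ⟨_, this, ?_⟩
        simp only [MulEquiv.coe_toMonoidHom, MulAut.conj_apply]
        group
      · exact (O2_isPGroup X).map _
    exact hle ⟨w, hw, by simp [MulAut.conj_apply]⟩
  -- odd elements of `X` are trivial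
  have hodd : ∀ y ∈ X, Odd (orderOf y) → y = 1 := by
    intro y hy hyodd
    apply eq_one_of_odd_of_centralizes_O2 hC (hXC hy) hyodd
    apply Cfsg.Agent.Lib.Helper17.thompson_AxB (O2_isPGroup N) (Nat.coprime_two_right.mpr hyodd)
      (fun b hb => hXc y hy b hb) (Nat.card (O2 C)) (O2 C) rfl (O2_isPGroup C)
      (le_normalizer_O2 C (hXC hy)) (hPC.trans (le_normalizer_O2 C))
    intro x hx hxP
    apply hXc y hy
    apply hO2X
    -- `D = C_Q(P)` is a normal `2`-subgroup of `X`
    have hD : O2 C ⊓ Subgroup.centralizer ((O2 N : Subgroup G) : Set G) ≤ O2 X := by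
      apply le_O2
      · intro d hd
        obtain ⟨hdQ, hdc⟩ := Subgroup.mem_inf.mp hd
        refine Subgroup.mem_inf.mpr ⟨?_, hdc⟩
        -- `d` centralizes `T`, hence normalizes it
        have key : ∀ b ∈ T, d * b * d⁻¹ = b := by
          intro b hb
          have := Subgroup.mem_centralizer_iff.mp hdc b (hTP hb)
          rw [← this]; group
        rw [hN, Subgroup.mem_normalizer_iff]
        intro b
        constructor
        · intro hb
          rw [key b hb]; exact hb
        · intro hb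
          have h2 := key _ hb
          have h3 : d * (d * b * d⁻¹) = d * b := by
            calc d * (d * b * d⁻¹) = (d * (d * b * d⁻¹) * d⁻¹) * d := by group
              _ = (d * b * d⁻¹) * d := by rw [h2]
              _ = d * b := by group
          have e := mul_left_cancel h3
          rw [← e]; exact hb
      · intro u hu d hd
        obtain ⟨hdQ, hdc⟩ := Subgroup.mem_inf.mp hd
        refine Subgroup.mem_inf.mpr ⟨conj_mem_O2 (hXC hu) hdQ, ?_⟩
        have huc := (Subgroup.mem_inf.mp hu).2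
        exact Subgroup.mul_mem _ (Subgroup.mul_mem _ huc hdc) (Subgroup.inv_mem _ huc)
      · exact (O2_isPGroup C).to_le inf_le_left
    apply hD
    refine Subgroup.mem_inf.mpr ⟨hx, ?_⟩
    rw [Subgroup.mem_centralizer_iff]
    intro b hb
    exact hxP b hb
  exact le_O2 hXN hNX (isPGroup_of_odd_trivial hodd)

omit [Finite G] in
theorem normalizer_zpowers_eq_centralizer {t : G} (ht : orderOf t = 2) :
    Subgroup.normalizer ((Subgroup.zpowers t : Subgroup G) : Set G) =
      Subgroup.centralizer ({t} : Set G) := by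
  have ht1 : t ≠ 1 := by
    intro h; rw [h, orderOf_one] at ht; omega
  have ht2 : t ^ 2 = 1 := by rw [← ht]; exact pow_orderOf_eq_one t
  ext g
  rw [mem_centralizer_singleton]
  constructor
  · intro hg
    have h1 : g * t * g⁻¹ ∈ Subgroup.zpowers t :=
      (Subgroup.mem_normalizer_iff.mp hg t).mp (Subgroup.mem_zpowers t)
    obtain ⟨k, hk⟩ := Subgroup.mem_zpowers_iff.mp h1
    have h2 : t ^ k = t ^ (k % 2) := by
      have := zpow_mod_orderOf t k
      rw [ht] at this
      exact this.symm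
    have h3 : g * t * g⁻¹ = t := by
      rcases Int.emod_two_eq_zero_or_one k with h | h
      · exfalso
        rw [h, zpow_zero] at h2
        rw [h2] at hk
        apply ht1
        have : g * t * g⁻¹ = 1 := hk.symm
        calc t = g⁻¹ * (g * t * g⁻¹) * g := by group
          _ = 1 := by rw [this]; group
      · rw [h, zpow_one] at h2
        rw [← hk, h2]
    calc t * g = (g * t * g⁻¹) * g := by rw [h3]
      _ = g * t := by group
  · intro hg
    have key : ∀ x ∈ Subgroup.zpowers t, g * x * g⁻¹ = x := by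
      intro x hx
      obtain ⟨k, rfl⟩ := Subgroup.mem_zpowers_iff.mp hx
      have h1 : g * t * g⁻¹ = t := by
        calc g * t * g⁻¹ = (t * g) * g⁻¹ := by rw [hg]
          _ = t := by group
      have := conj_zpow (a := g) (b := t) (i := k)
      rw [h1] at this
      exact this.symm
    rw [Subgroup.mem_normalizer_iff]
    intro x
    constructor
    · intro hx
      rw [key x hx]; exact hx
    · intro hx
      have h2 := key _ hx
      have h3 : g * (g * x * g⁻¹) = g * x := by
        calc g * (g * x * g⁻¹) = (g * (g * x * g⁻¹) * g⁻¹) * g := by group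
          _ = (g * x * g⁻¹) * g := by rw [h2]
          _ = g * x := by group
      have e := mul_left_cancel h3
      rw [← e]; exact hx

/-- if all maximal `2`-locals are `Char2`, so are all involution centralizers -/
theorem char2_centralizer_of_maximal
    (hmax : ∀ M : Subgroup G, Cfsg.IsMaximalTwoLocal M → Char2 M) {t : G} (ht : orderOf t = 2) :
    Char2 (Subgroup.centralizer ({t} : Set G)) := by
  have ht1 : t ≠ 1 := by
    intro h; rw [h, orderOf_one] at ht; omega
  have hT0 : IsPGroup 2 (Subgroup.zpowers t) := by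
    apply IsPGroup.of_card (n := 1)
    rw [Nat.card_zpowers, ht, pow_one]
  have hT01 : Subgroup.zpowers t ≠ ⊥ := Subgroup.zpowers_ne_bot.mpr ht1
  have hN0 : Cfsg.IsTwoLocal (Subgroup.normalizer ((Subgroup.zpowers t : Subgroup G) : Set G)) :=
    ⟨_, hT0, hT01, rfl⟩
  obtain ⟨M, ⟨hM2, hN0M⟩, hMmax⟩ := Set.exists_max_image
    {M : Subgroup G | Cfsg.IsTwoLocal M ∧
      Subgroup.normalizer ((Subgroup.zpowers t : Subgroup G) : Set G) ≤ M}
    (fun M => Nat.card M) (Set.toFinite _) ⟨_, hN0, le_rfl⟩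
  have hMm : Cfsg.IsMaximalTwoLocal M :=
    ⟨hM2, fun N hN hMN =>
      (Subgroup.eq_of_le_of_card_ge hMN (hMmax N ⟨hN, hN0M.trans hMN⟩)).symm⟩
  have hTM : Subgroup.zpowers t ≤ M := Subgroup.le_normalizer.trans hN0M
  have h1 := char2_inf_normalizer (hmax M hMm) hTM hT0
  have h2 : M ⊓ Subgroup.normalizer ((Subgroup.zpowers t : Subgroup G) : Set G) =
      Subgroup.centralizer ({t} : Set G) := by
    rw [inf_eq_right.mpr hN0M, normalizer_zpowers_eq_centralizer ht]
  rwa [h2] at h1

end Cfsg.Agent.Lib.Helper9.TwoCon
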