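import Mathlib
import Cfsg.Prelude.Def_Balance
import Cfsg.Agent.Lib.Helper9.ZStar
import Cfsg.Agent.Lib.Helper9.Layer

/-!
Quasisimple groups of `2`-rank one: the Sylow `2`-subgroups are generalized quaternion and the
involution is central.  Application to classical involutions.
-/

set_option autoImplicit false

namespace Cfsg.Agent.Lib.Helper9

open Cfsg Cfsg.Agent.Lib.Helper1

universe u

/-- A finite `2`-group of `2`-rank at most one has at most one involution. -/
theorem uniqueOrderP_of_pRankLE_one {P : Type*} [Group P] [Finite P] (hP : IsPGroup 2 P)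
    (hrk : PRankLE 2 1 P) : Cfsg.Agent.Lib.Helper10.UniqueOrderP 2 P := by
  have h2 : Fact (Nat.Prime 2) := ⟨Nat.prime_two⟩
  -- every involution equals the central involution
  have key : ∀ z : P, z ∈ Subgroup.center P → z ^ 2 = 1 → z ≠ 1 →
      ∀ x : P, x ^ 2 = 1 → x ≠ 1 → x = z := by
    intro z hzc hz2 hz1 x hx2 hx1
    have hcomm : ∀ a ∈ ({z, x} : Set P), ∀ b ∈ ({z, x} : Set P), a * b = b * a := by
      intro a ha b hb
      rcases ha with rfl | rfl <;> rcases hb with rfl | rfl
      · rfl
      · exact (Subgroup.mem_center_iff.mp hzc b).symm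
      · exact Subgroup.mem_center_iff.mp hzc a
      · rfl
    have hcl : IsMulCommutative (Subgroup.closure ({z, x} : Set P)) :=
      Subgroup.isMulCommutative_closure hcomm
    have hexp : ∀ y ∈ Subgroup.closure ({z, x} : Set P), y ^ 2 = 1 := by
      intro y hy
      induction hy using Subgroup.closure_induction with
      | mem y hy =>
        rcases hy with rfl | rfl
        · exact hz2
        · exact hx2
      | one => simp
      | mul a b ha hb iha ihb =>
        have hab : Commute a b := by
          have := hcl.is_comm.comm (⟨a, ha⟩ : Subgroup.closure ({z, x} : Set P)) ⟨b, hb⟩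
          exact congrArg Subtype.val this
        rw [hab.mul_pow, iha, ihb, one_mul]
      | inv a ha iha => rw [inv_pow, iha, inv_one]
    have hcard := hrk _ hcl hexp
    rw [pow_one] at hcard
    have hzA : Subgroup.zpowers z ≤ Subgroup.closure ({z, x} : Set P) := by
      rw [Subgroup.zpowers_le]; exact Subgroup.subset_closure (by simp)
    have hzcard : Nat.card (Subgroup.zpowers z) = 2 := by
      rw [Nat.card_zpowers]; exact orderOf_eq_prime hz2 hz1
    have heq : Subgroup.zpowers z = Subgroup.closure ({z, x} : Set P) :=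
      Subgroup.eq_of_le_of_card_ge hzA (by rw [hzcard]; exact hcard)
    have hx : x ∈ Subgroup.zpowers z := by
      rw [heq]; exact Subgroup.subset_closure (by simp)
    rcases Cfsg.Agent.Lib.Helper10.eq_one_or_eq_of_mem_zpowers_of_sq hz2 hx with h | h
    · exact absurd h hx1
    · exact h
  intro x y hx2 hx1 hy2
  by_cases hy1 : y = 1
  · rw [hy1]; exact Subgroup.one_mem _
  have hnt : Nontrivial P := ⟨⟨x, 1, hx1⟩⟩
  have hcnt : Nontrivial (Subgroup.center P) := hP.center_nontrivial
  have h2c : 2 ∣ Nat.card (Subgroup.center P) := by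
    obtain ⟨n, hn⟩ := IsPGroup.iff_card.mp (hP.to_subgroup (Subgroup.center P))
    rw [hn]
    have hn0 : n ≠ 0 := by
      rintro rfl
      rw [pow_zero] at hn
      have := (Nat.card_eq_one_iff_unique.mp hn).1
      exact not_subsingleton _ this
    exact dvd_pow_self 2 hn0
  obtain ⟨z, hz⟩ := exists_prime_orderOf_dvd_card' (G := ↥(Subgroup.center P)) 2 h2c
  have hz2 : (z : P) ^ 2 = 1 := by
    have := pow_orderOf_eq_one z
    rw [hz] at this
    have := congrArg Subtype.val this
    simpa using this
  have hz1 : (z : P) ≠ 1 := by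
    intro h
    have : z = 1 := Subtype.ext h
    rw [this, orderOf_one] at hz
    omega
  have e1 := key z z.2 hz2 hz1 x hx2 hx1
  have e2 := key z z.2 hz2 hz1 y hy2 hy1
  rw [e2, ← e1]
  exact Subgroup.mem_zpowers x

/-- `2`-rank at most one passes to subgroups. -/
theorem pRankLE_subgroup {G : Type*} [Group G] {p k : ℕ} (h : PRankLE p k G) (H : Subgroup G) :
    PRankLE p k ↥H := by
  intro A hA hexp
  have hA' : IsMulCommutative (A.map H.subtype) := by
    constructor
    constructor
    rintro ⟨_, a, ha, rfl⟩ ⟨_, b, hb, rfl⟩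
    apply Subtype.ext
    have := hA.is_comm.comm ⟨a, ha⟩ ⟨b, hb⟩
    have h1 : a * b = b * a := congrArg Subtype.val this
    show H.subtype a * H.subtype b = H.subtype b * H.subtype a
    rw [← map_mul, ← map_mul, h1]
  have hexp' : ∀ x ∈ A.map H.subtype, x ^ p = 1 := by
    rintro _ ⟨a, ha, rfl⟩
    rw [← map_pow, hexp a ha, map_one]
  have := h _ hA' hexp'
  rwa [Subgroup.card_map_of_injective H.subtype_injective] at this

/-- A perfect group has only the trivial homomorphism into a group in which all elements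
commute. -/
theorem hom_eq_one_of_perfect {L P : Type*} [Group L] [Group P] (hL : commutator L = ⊤)
    (hP : ∀ a b : P, a * b = b * a) (f : L →* P) (x : L) : f x = 1 := by
  have hx : x ∈ commutator L := by rw [hL]; trivial
  rw [commutator_def] at hx
  have hle : ⁅(⊤ : Subgroup L), ⊤⁆ ≤ f.ker := by
    rw [Subgroup.commutator_le]
    intro a _ b _
    rw [MonoidHom.mem_ker, commutatorElement_def, map_mul, map_mul, map_mul, map_inv, map_inv,
      hP (f a) (f b), mul_inv_cancel_right, mul_inv_cancel]
  exact MonoidHom.mem_ker.mp (hle hx)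

/-- A finite quasisimple group of even order and `2`-rank one has generalized quaternion Sylow
`2`-subgroups and a central involution. -/
theorem qs_rank_one {L : Type u} [Group L] [Finite L] (hq : IsQuasisimple L)
    (heven : Even (Nat.card L)) (hrk : PRankLE 2 1 L) :
    ∃ t : L, orderOf t = 2 ∧ t ∈ Subgroup.center L ∧ ∃ S : Sylow 2 L, ∃ n : ℕ,
      Nonempty (↥(S : Subgroup L) ≃* QuaternionGroup (2 ^ (n + 1))) := by
  have h2 : Fact (Nat.Prime 2) := ⟨Nat.prime_two⟩
  have hperf : commutator L = ⊤ := qs_commutator_eq_top hq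
  obtain ⟨S⟩ : Nonempty (Sylow 2 L) := inferInstance
  have h2L : 2 ∣ Nat.card L := even_iff_two_dvd.mp heven
  have huniq : Cfsg.Agent.Lib.Helper10.UniqueOrderP 2 ↥(S : Subgroup L) :=
    uniqueOrderP_of_pRankLE_one S.isPGroup' (pRankLE_subgroup hrk _)
  -- the cyclic case is impossible
  have hcyc : ¬ IsCyclic ↥(S : Subgroup L) := by
    intro hc
    have hle := IsCyclic.normalizer_le_centralizer ((Nat.minFac_eq_two_iff _).mpr h2L) hc
    have hker := MonoidHom.not_dvd_card_ker_transferSylow S hle
    have hcomm : ∀ a b : ↥(S : Subgroup L), a * b = b * a := by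
      intro a b
      obtain ⟨g, hg⟩ := hc.exists_generator
      obtain ⟨i, rfl⟩ := Subgroup.mem_zpowers_iff.mp (hg a)
      obtain ⟨j, rfl⟩ := Subgroup.mem_zpowers_iff.mp (hg b)
      rw [← zpow_add, ← zpow_add, add_comm]
    have htop : (MonoidHom.transferSylow S hle).ker = ⊤ := by
      rw [eq_top_iff]
      intro x _
      rw [MonoidHom.mem_ker]
      exact hom_eq_one_of_perfect hperf hcomm _ x
    rw [htop, Subgroup.card_top] at hker
    exact hker h2L
  rcases Cfsg.Agent.Lib.Helper10.isCyclic_or_quaternion_of_uniqueOrderP S.isPGroup' huniq with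
    hc | ⟨_, n, ⟨e⟩⟩
  · exact absurd hc hcyc
  rcases n with _ | n
  · exfalso
    apply hcyc
    have : IsCyclic (QuaternionGroup (2 ^ 0)) := by
      rw [pow_zero]; exact QuaternionGroup.quaternionGroup_one_isCyclic
    exact isCyclic_of_surjective e.symm e.symm.surjective
  -- the involution of `S`
  have h2S : 2 ∣ Nat.card (S : Subgroup L) := by
    have : NeZero (2 ^ (n + 1)) := ⟨pow_ne_zero _ (by norm_num)⟩
    rw [Nat.card_congr e.toEquiv, Nat.card_eq_fintype_card, QuaternionGroup.card]
    exact Dvd.dvd.mul_right (by norm_num) _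
  obtain ⟨t', ht'⟩ := exists_prime_orderOf_dvd_card' (G := ↥(S : Subgroup L)) 2 h2S
  have ht2 : orderOf (t' : L) = 2 := by rw [Subgroup.orderOf_coe]; exact ht'
  have hwc : ∀ g : L, g * (t' : L) * g⁻¹ ∈ S → g * (t' : L) * g⁻¹ = t' := by
    intro g hg
    have h1 : (⟨g * (t' : L) * g⁻¹, hg⟩ : ↥(S : Subgroup L)) ^ 2 = 1 := by
      apply Subtype.ext
      rw [Subgroup.coe_pow, Subgroup.coe_one]
      show (g * (t' : L) * g⁻¹) ^ 2 = 1
      have h0 : (t' : L) ^ 2 = 1 := by
        have := pow_orderOf_eq_one (t' : L)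
        rwa [ht2] at this
      rw [conj_pow, h0]; group
    have ht'2 : t' ^ 2 = 1 := by
      have := pow_orderOf_eq_one t'
      rwa [ht'] at this
    have ht'1 : t' ≠ 1 := by
      intro h; rw [h, orderOf_one] at ht'; omega
    have h3 := huniq t' ⟨g * (t' : L) * g⁻¹, hg⟩ ht'2 ht'1 h1
    rcases Cfsg.Agent.Lib.Helper10.eq_one_or_eq_of_mem_zpowers_of_sq ht'2 h3 with h | h
    · exfalso
      have h4 : g * (t' : L) * g⁻¹ = 1 := congrArg Subtype.val h
      have h5 : (t' : L) = 1 := by
        have := congrArg (fun w => g⁻¹ * w * g) h4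
        simpa [mul_assoc] using this
      exact ht'1 (Subtype.ext h5)
    · exact congrArg Subtype.val h
  have hiso := isolated_of_weakly_closed S ht2 t'.2 hwc
  -- `O(L)` is central
  have hOn : (pPrimeCore 2 L).Normal := Cfsg.Agent.Lib.Helper1.pPrimeCore_normal 2
  have hOc : pPrimeCore 2 L ≤ Subgroup.center L := by
    rcases qs_normal_le_center_or_eq_top hq (pPrimeCore 2 L) with h | h
    · exact h
    · exfalso
      have := pPrimeCore_coprime (G := L) 2
      rw [h, Subgroup.card_top] at this
      exact (Nat.Prime.coprime_iff_not_dvd Nat.prime_two).mp this.symm h2L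
  refine ⟨t', ht2, ?_, S, n, ⟨e⟩⟩
  -- `g ↦ [t, g]` is a homomorphism into the centre
  have hmem : ∀ g : L, (t' : L) * g * (t' : L)⁻¹ * g⁻¹ ∈ Subgroup.center L :=
    fun g => hOc (zstar hiso g)
  let f : L →* ↥(Subgroup.center L) :=
    { toFun := fun g => ⟨(t' : L) * g * (t' : L)⁻¹ * g⁻¹, hmem g⟩
      map_one' := by apply Subtype.ext; simp
      map_mul' := by
        intro a b
        apply Subtype.ext
        show (t' : L) * (a * b) * (t' : L)⁻¹ * (a * b)⁻¹ =
          ((t' : L) * a * (t' : L)⁻¹ * a⁻¹) * ((t' : L) * b * (t' : L)⁻¹ * b⁻¹)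
        have hc := Subgroup.mem_center_iff.mp (hmem b) a⁻¹
        calc (t' : L) * (a * b) * (t' : L)⁻¹ * (a * b)⁻¹
            = (t' : L) * a * (t' : L)⁻¹ * (((t' : L) * b * (t' : L)⁻¹ * b⁻¹) * a⁻¹) := by group
          _ = (t' : L) * a * (t' : L)⁻¹ * (a⁻¹ * ((t' : L) * b * (t' : L)⁻¹ * b⁻¹)) := by
              rw [hc]
          _ = _ := by group }
  have hf : ∀ g : L, f g = 1 :=
    hom_eq_one_of_perfect hperf
      (fun a b => Subtype.ext (Subgroup.mem_center_iff.mp b.2 (a : L))) f
  rw [Subgroup.mem_center_iff]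
  intro g
  have := congrArg Subtype.val (hf g)
  have h1 : (t' : L) * g * (t' : L)⁻¹ * g⁻¹ = 1 := this
  have h3 : (t' : L) * g = g * (t' : L) := by
    have := congrArg (· * (g * (t' : L))) h1
    simpa [mul_assoc] using this
  exact h3.symm

end Cfsg.Agent.Lib.Helper9
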