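import Mathlib
import Cfsg.Prelude
import Cfsg.Agent.Lib.Helper9.PComp3
import Cfsg.Agent.Lib.Helper9.Layer3

/-! S3164 farm, spare of leaf C3b (helper9). -/

set_option autoImplicit false

namespace Cfsg.Agent.Lib.Helper9.SS64C3b

open Cfsg Cfsg.Agent.Lib.Helper9 Cfsg.Agent.Lib.Helper10
open scoped commutatorElement

/-- Lemma X: a perfect subgroup of `T ⊔ C(A)` with `T` normal lies in `T`. -/
theorem le_of_le_sup_centralizer {H : Type*} [Group H] (T A : Subgroup H) (hT : T.Normal)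
    (hperf : ⁅A, A⁆ = A) (hle : A ≤ T ⊔ Subgroup.centralizer (A : Set H)) : A ≤ T := by
  have h1 : ⁅A, A⁆ ≤ T := by
    rw [Subgroup.commutator_le]
    intro a ha b hb
    have ha' := hle ha
    haveI := hT
    rw [← SetLike.mem_coe, Subgroup.normal_mul, Set.mem_mul] at ha'
    obtain ⟨t, ht, c, hc, rfl⟩ := ha'
    have hcb : b * c = c * b := (Subgroup.mem_centralizer_iff.1 hc) b hb
    have : ⁅t * c, b⁆ = t * (b * t⁻¹ * b⁻¹) := by
      rw [commutatorElement_def]
      have : t * c * b * (t * c)⁻¹ * b⁻¹ = t * (c * b) * c⁻¹ * t⁻¹ * b⁻¹ := by group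
      rw [this, ← hcb]
      group
    rw [this]
    exact T.mul_mem ht (hT.conj_mem _ (T.inv_mem ht) b)
  rw [hperf] at h1
  exact h1

theorem le_layer_of_le_pLayer' {G : Type*} [Group G] [Finite G] (A : Subgroup G)
    (hperf : ⁅A, A⁆ = A)
    (hA2 : A ≤ Cfsg.pLayer 2 G) (hD : ⁅A, Cfsg.oddCore G⁆ = ⊥) : A ≤ Cfsg.layer G := by
  classical
  haveI : Fact (2 : ℕ).Prime := ⟨Nat.prime_two⟩
  have hDn : (Cfsg.pPrimeCore 2 G).Normal := Cfsg.Agent.Lib.Helper1.pPrimeCore_normal 2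
  have hAD : ⁅A, Cfsg.pPrimeCore 2 G⁆ = ⊥ := hD
  have hDA : ⁅Cfsg.pPrimeCore 2 G, A⁆ = ⊥ := by rw [Subgroup.commutator_comm]; exact hAD
  -- Step 2: dichotomy for every 2-component
  have hdich : ∀ L : Subgroup G, Cfsg.IsPComponent 2 L →
      L ≤ Cfsg.layer G ∨
        L.map (QuotientGroup.mk' (Cfsg.pPrimeCore 2 G)) ≤
          Subgroup.centralizer ((A.map (QuotientGroup.mk' (Cfsg.pPrimeCore 2 G)) :
            Subgroup (G ⧸ Cfsg.pPrimeCore 2 G)) : Set (G ⧸ Cfsg.pPrimeCore 2 G)) := by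
    intro L hL
    have hAL : A ≤ Subgroup.normalizer (L : Set G) :=
      hA2.trans (pLayer_le_normalizer_isPComponent 2 hL)
    let N : Subgroup G :=
      L ⊓ Subgroup.centralizer (((Cfsg.pPrimeCore 2 G) ⊓ L : Subgroup G) : Set G)
    have hNL : N ≤ L := inf_le_left
    have hNn : (N.subgroupOf L).Normal := by
      constructor
      intro c hc l
      rw [Subgroup.mem_subgroupOf] at hc ⊢
      have hc1 : (c : G) ∈ L := (Subgroup.mem_inf.1 hc).1
      have hc2 : (c : G) ∈ Subgroup.centralizer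
          (((Cfsg.pPrimeCore 2 G) ⊓ L : Subgroup G) : Set G) := (Subgroup.mem_inf.1 hc).2
      refine Subgroup.mem_inf.2 ⟨L.mul_mem (L.mul_mem l.2 hc1) (L.inv_mem l.2), ?_⟩
      rw [Subgroup.mem_centralizer_iff]
      intro d hd0
      have hd : d ∈ (Cfsg.pPrimeCore 2 G) ∧ d ∈ L := Subgroup.mem_inf.1 hd0
      have hd' : (l : G)⁻¹ * d * (l : G) ∈ ((Cfsg.pPrimeCore 2 G) ⊓ L : Subgroup G) := by
        refine Subgroup.mem_inf.2 ⟨?_, L.mul_mem (L.mul_mem (L.inv_mem l.2) hd.2) l.2⟩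
        have := hDn.conj_mem d hd.1 (l : G)⁻¹
        simpa using this
      have h1 := (Subgroup.mem_centralizer_iff.1 hc2) _ hd'
      simp only [Subgroup.coe_mul, Subgroup.coe_inv]
      calc d * ((l : G) * (c : G) * (l : G)⁻¹)
          = (l : G) * (((l : G)⁻¹ * d * (l : G)) * (c : G)) * (l : G)⁻¹ := by group
        _ = (l : G) * ((c : G) * ((l : G)⁻¹ * d * (l : G))) * (l : G)⁻¹ := by rw [h1]
        _ = (l : G) * (c : G) * (l : G)⁻¹ * d := by group
    have hNsn : N.IsSubnormal := Subgroup.IsSubnormal.trans hNL hNn.isSubnormal hL.1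
    -- ⁅L, A⁆ ≤ N
    have hLA_L : ⁅L, A⁆ ≤ L := commutator_le_left_of_le_normalizer hAL
    have hLA_C : ⁅⁅L, A⁆, (Cfsg.pPrimeCore 2 G) ⊓ L⁆ = ⊥ := by
      apply Subgroup.commutator_commutator_eq_bot_of_rotate
      · -- ⁅⁅A, D ⊓ L⁆, L⁆ = ⊥
        have : ⁅A, (Cfsg.pPrimeCore 2 G) ⊓ L⁆ = ⊥ :=
          le_bot_iff.1 ((Subgroup.commutator_mono le_rfl inf_le_left).trans hAD.le)
        rw [this, Subgroup.commutator_bot_left]
      · -- ⁅⁅D ⊓ L, L⁆, A⁆ = ⊥
        have h1 : ⁅(Cfsg.pPrimeCore 2 G) ⊓ L, L⁆ ≤ Cfsg.pPrimeCore 2 G := by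
          have := Subgroup.commutator_le_left ((Cfsg.pPrimeCore 2 G)) L
          exact (Subgroup.commutator_mono inf_le_left le_rfl).trans this
        exact le_bot_iff.1 ((Subgroup.commutator_mono h1 le_rfl).trans hDA.le)
    have hLA_N : ⁅L, A⁆ ≤ N :=
      le_inf hLA_L (Subgroup.commutator_eq_bot_iff_le_centralizer.1 hLA_C)
    rcases pcomp_subnormal_image hL hNsn hNL with h | h
    · left
      have hq : Cfsg.IsQuasisimple ↥L := by
        rw [pcomp_qs_iff hL, map_pPrimeCore_subnormal hL.1,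
          Subgroup.commutator_eq_bot_iff_le_centralizer]
        intro l hl
        have hlN : l ∈ N := h ▸ hl
        exact (Subgroup.mem_inf.1 hlN).2
      exact comp_le_layer ⟨hL.1, hq⟩
    · right
      -- ⁅L̄, Ā⁆ ≤ N̄, central in L̄
      have hcomm : ∀ x ∈ (⁅L, A⁆).map (QuotientGroup.mk' (Cfsg.pPrimeCore 2 G)),
          ∀ y ∈ L.map (QuotientGroup.mk' (Cfsg.pPrimeCore 2 G)), y * x = x * y := by
        intro x hx y hy
        have hxN : x ∈ N.map (QuotientGroup.mk' (Cfsg.pPrimeCore 2 G)) :=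
          Subgroup.map_mono hLA_N hx
        have hxL : x ∈ L.map (QuotientGroup.mk' (Cfsg.pPrimeCore 2 G)) :=
          Subgroup.map_mono hNL hxN
        have hc := h (x := ⟨x, hxL⟩) (Subgroup.mem_subgroupOf.2 hxN)
        have h2 := (Subgroup.mem_center_iff.1 hc) ⟨y, hy⟩
        exact congrArg Subtype.val h2
      have hmapc : (⁅L, A⁆).map (QuotientGroup.mk' (Cfsg.pPrimeCore 2 G)) =
          ⁅L.map (QuotientGroup.mk' (Cfsg.pPrimeCore 2 G)),
            A.map (QuotientGroup.mk' (Cfsg.pPrimeCore 2 G))⁆ := Subgroup.map_commutator _ _ _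
      have h1 : ⁅⁅L.map (QuotientGroup.mk' (Cfsg.pPrimeCore 2 G)),
          A.map (QuotientGroup.mk' (Cfsg.pPrimeCore 2 G))⁆,
          L.map (QuotientGroup.mk' (Cfsg.pPrimeCore 2 G))⁆ = ⊥ := by
        rw [Subgroup.commutator_eq_bot_iff_le_centralizer, ← hmapc]
        intro x hx
        rw [Subgroup.mem_centralizer_iff]
        intro y hy
        exact hcomm x hx y hy
      have h2 : ⁅⁅A.map (QuotientGroup.mk' (Cfsg.pPrimeCore 2 G)),
          L.map (QuotientGroup.mk' (Cfsg.pPrimeCore 2 G))⁆,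
          L.map (QuotientGroup.mk' (Cfsg.pPrimeCore 2 G))⁆ = ⊥ := by
        rw [Subgroup.commutator_comm (A.map _) (L.map _)]
        exact h1
      have h3 := Subgroup.commutator_commutator_eq_bot_of_rotate h1 h2
      rw [comp_perfect hL.2.1] at h3
      exact Subgroup.commutator_eq_bot_iff_le_centralizer.1 h3
  -- Step 3a: the image of A lies in the image of the layer
  have hTn : ((Cfsg.layer G).map (QuotientGroup.mk' (Cfsg.pPrimeCore 2 G))).Normal := by
    haveI : (Cfsg.layer G).Characteristic := layer_characteristic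
    exact Subgroup.Normal.map inferInstance _ (QuotientGroup.mk'_surjective _)
  have hPLle : (Cfsg.pLayer 2 G).map (QuotientGroup.mk' (Cfsg.pPrimeCore 2 G)) ≤
      (Cfsg.layer G).map (QuotientGroup.mk' (Cfsg.pPrimeCore 2 G)) ⊔
        Subgroup.centralizer ((A.map (QuotientGroup.mk' (Cfsg.pPrimeCore 2 G)) :
          Subgroup (G ⧸ Cfsg.pPrimeCore 2 G)) : Set (G ⧸ Cfsg.pPrimeCore 2 G)) := by
    unfold Cfsg.pLayer
    rw [sSup_eq_iSup, Subgroup.map_iSup]
    apply iSup_le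
    intro K
    rw [Subgroup.map_iSup]
    apply iSup_le
    intro hK
    rcases hdich K hK with h | h
    · exact (Subgroup.map_mono h).trans le_sup_left
    · exact h.trans le_sup_right
  have hAbar_perf : ⁅A.map (QuotientGroup.mk' (Cfsg.pPrimeCore 2 G)),
      A.map (QuotientGroup.mk' (Cfsg.pPrimeCore 2 G))⁆ =
      A.map (QuotientGroup.mk' (Cfsg.pPrimeCore 2 G)) := by
    rw [← Subgroup.map_commutator, hperf]
  have hAbar : A.map (QuotientGroup.mk' (Cfsg.pPrimeCore 2 G)) ≤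
      (Cfsg.layer G).map (QuotientGroup.mk' (Cfsg.pPrimeCore 2 G)) :=
    le_of_le_sup_centralizer _ _ hTn hAbar_perf ((Subgroup.map_mono hA2).trans hPLle)
  -- Step 3b: A ≤ layer G ⊔ D, then Lemma X again
  have hAED : A ≤ Cfsg.layer G ⊔ Cfsg.pPrimeCore 2 G := by
    have := (Subgroup.map_le_map_iff' (f := QuotientGroup.mk' (Cfsg.pPrimeCore 2 G))).1 hAbar
    rw [QuotientGroup.ker_mk'] at this
    exact le_sup_left.trans this
  have hEn : (Cfsg.layer G).Normal := by
    haveI : (Cfsg.layer G).Characteristic := layer_characteristic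
    infer_instance
  have hDcent : Cfsg.pPrimeCore 2 G ≤ Subgroup.centralizer (A : Set G) :=
    Subgroup.commutator_eq_bot_iff_le_centralizer.1 hDA
  exact le_of_le_sup_centralizer _ _ hEn hperf (hAED.trans (sup_le_sup_left hDcent _))

end Cfsg.Agent.Lib.Helper9.SS64C3b
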