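import Mathlib
import Cfsg.Agent.Lib.Helper16.SylowInf
import Cfsg.Agent.Lib.Helper9.LocalAut

set_option autoImplicit false
set_option linter.unusedSectionVars false

/-!
# Subgroups of index two and Sylow 2-subgroups
-/

namespace Cfsg.Agent.Lib.Helper9.IndexTwo

variable {G : Type*} [Group G] [Finite G]

/-- elements of odd order lie in every subgroup of index two -/
theorem mem_of_odd (K : Subgroup G) (hK : K.index = 2) {g : G} (hg : Odd (orderOf g)) : g ∈ K :=
  mem_of_odd_of_relIndex_two K ⊤ (by rw [Subgroup.relIndex_top_right]; exact hK)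
    (Subgroup.mem_top g) hg

/-- a subgroup of index two meets a Sylow 2-subgroup in a subgroup of index two -/
theorem relIndex_sylow (S : Sylow 2 G) (K : Subgroup G) (hK : K.index = 2) :
    K.relIndex (S : Subgroup G) = 2 := by
  have hn : K.Normal := Subgroup.normal_of_index_eq_two hK
  have h1 : K.relIndex (S : Subgroup G) ∣ 2 := by
    have := Subgroup.relIndex_dvd_index_of_normal K (S : Subgroup G)
    rwa [hK] at this
  rcases (Nat.dvd_prime Nat.prime_two).mp h1 with h2 | h2
  · exfalso
    rw [Subgroup.relIndex_eq_one] at h2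
    have h3 : K.index ∣ (S : Subgroup G).index := Subgroup.index_dvd_of_le h2
    rw [hK] at h3
    exact S.not_dvd_index h3
  · exact h2

/-- multiplication rule for a subgroup of relative index two -/
theorem mul_mem_iff_of_relIndex_two {H K : Subgroup G} (hH : H.relIndex K = 2) {a b : G}
    (ha : a ∈ K) (hb : b ∈ K) : a * b ∈ H ↔ (a ∈ H ↔ b ∈ H) := by
  have := Subgroup.mul_mem_iff_of_index_two (H := H.subgroupOf K) hH (a := ⟨a, ha⟩) (b := ⟨b, hb⟩)
  simpa [Subgroup.mem_subgroupOf] using this

/-- a subgroup of relative index two in `K` is normalized by `K` -/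
theorem conj_mem_of_relIndex_two {H K : Subgroup G} (hH : H.relIndex K = 2) {a k : G}
    (ha : a ∈ H) (hk : k ∈ K) (hHK : H ≤ K) : k * a * k⁻¹ ∈ H := by
  have hn : (H.subgroupOf K).Normal := Subgroup.normal_of_index_eq_two hH
  have := hn.conj_mem ⟨a, hHK ha⟩ (Subgroup.mem_subgroupOf.mpr ha) ⟨k, hk⟩
  simpa [Subgroup.mem_subgroupOf] using this

/-- all Sylow 2-subgroups of a normal subgroup `K` are isomorphic to `K ∩ S` -/
theorem sylow_equiv (S : Sylow 2 G) (K : Subgroup G) [K.Normal] (P : Sylow 2 K) :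
    Nonempty ((P : Subgroup K) ≃* (K.subgroupOf (S : Subgroup G))) := by
  have : Fact (Nat.Prime 2) := ⟨Nat.prime_two⟩
  have e0 : (P : Subgroup K) ≃* ((S : Subgroup G).subgroupOf K) :=
    Sylow.equiv P (Cfsg.Agent.Lib.Helper16.sylowInf S K)
  have e1 : ((S : Subgroup G).subgroupOf K) ≃* (((S : Subgroup G) ⊓ K).subgroupOf K) :=
    MulEquiv.subgroupCongr (Subgroup.inf_subgroupOf_right (S : Subgroup G) K).symm
  have e2 : (((S : Subgroup G) ⊓ K).subgroupOf K) ≃* ((S : Subgroup G) ⊓ K : Subgroup G) :=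
    Subgroup.subgroupOfEquivOfLe inf_le_right
  have e3 : ((S : Subgroup G) ⊓ K : Subgroup G) ≃* (((S : Subgroup G) ⊓ K).subgroupOf S) :=
    (Subgroup.subgroupOfEquivOfLe inf_le_left).symm
  have e4 : (((S : Subgroup G) ⊓ K).subgroupOf S) ≃* (K.subgroupOf (S : Subgroup G)) :=
    MulEquiv.subgroupCongr (Subgroup.inf_subgroupOf_left K (S : Subgroup G))
  exact ⟨e0.trans (e1.trans (e2.trans (e3.trans e4)))⟩

/-- no subgroup of relative index two in a normal subgroup `K` contains `S ∩ K` -/
theorem not_inf_le (S : Sylow 2 G) (K : Subgroup G) [K.Normal] (H : Subgroup G)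
    (hH : H.relIndex K = 2) : ¬ ((S : Subgroup G) ⊓ K ≤ H) := by
  have : Fact (Nat.Prime 2) := ⟨Nat.prime_two⟩
  intro hle
  have h1 : H.relIndex K ∣ ((S : Subgroup G) ⊓ K).relIndex K := Subgroup.relIndex_dvd_of_le_left K hle
  rw [hH, Subgroup.inf_relIndex_right] at h1
  have h2 := Cfsg.Agent.Lib.Helper16.relIndex_dvd_index_of_normal_right' (S : Subgroup G) K
  exact S.not_dvd_index (dvd_trans h1 h2)

/-- the image in `G` of a subgroup of index two of `K` -/
theorem relIndex_map_subtype (K : Subgroup G) (H : Subgroup K) :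
    (H.map K.subtype).relIndex K = H.index := by
  rw [Subgroup.relIndex]
  congr 1
  ext x
  rw [Subgroup.mem_subgroupOf]
  constructor
  · rintro ⟨y, hy, hyx⟩
    have : y = x := Subtype.ext hyx
    rw [← this]; exact hy
  · intro hx
    exact ⟨x, hx, rfl⟩

/-- reduction of "`K` has no subgroup of index two" to a statement in `G` -/
theorem no_index_two_of (S : Sylow 2 G) (K : Subgroup G) [K.Normal]
    (h : ∀ H : Subgroup G, H ≤ K → H.relIndex K = 2 → (S : Subgroup G) ⊓ K ≤ H) :
    ∀ H : Subgroup K, H.index ≠ 2 := by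
  intro H hH
  have h1 : (H.map K.subtype).relIndex K = 2 := by rw [relIndex_map_subtype, hH]
  exact not_inf_le S K _ h1 (h _ (Subgroup.map_subtype_le H) h1)

end Cfsg.Agent.Lib.Helper9.IndexTwo
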