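import Mathlib
import Cfsg.Agent.S1965
import Cfsg.Agent.Lib.Helper13.AlperinGoldschmidt
import Cfsg.Agent.Lib.Helper13.Residual
import Cfsg.Agent.Lib.Helper13.SylowRel

set_option autoImplicit false

/-!
# Fusion invariants

A property `Φ` of elements of a Sylow `p`-subgroup `P` which is preserved by conjugation with
elements of `P` and by conjugation with `p'`-elements of `N_G(U)` acting on `U`, for the subgroups
`U ≤ P` with `C_P(U) ≤ U` whose normalizer has `N_P(U)` as a Sylow subgroup, is preserved by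
every `G`-conjugation between elements of `P` (consequence of the Alperin--Goldschmidt theorem).
-/

namespace Cfsg.Agent.Lib.Helper9

open Cfsg.Agent.S1965 Cfsg.Agent.Lib.Helper13

variable {p : ℕ} [Fact p.Prime] {G : Type*} [Group G] [Finite G]

/-- local step: elements of `N_G(U)` preserve `Φ` on `U` -/
theorem fusionInv_local (P : Sylow p G) (Φ : G → Prop)
    (hS : ∀ s ∈ (P : Subgroup G), ∀ a ∈ (P : Subgroup G), Φ a → Φ (s * a * s⁻¹))
    (U : Subgroup G) (hUP : U ≤ (P : Subgroup G))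
    (hU : ¬ p ∣ ((P : Subgroup G) ⊓ Subgroup.normalizer (U : Set G)).relIndex
      (Subgroup.normalizer (U : Set G)))
    (hloc : ∀ g ∈ Subgroup.normalizer (U : Set G), (orderOf g).Coprime p →
      ∀ a ∈ U, Φ a → Φ (g * a * g⁻¹))
    (c : G) (hc : c ∈ Subgroup.normalizer (U : Set G)) (a : G) (ha : a ∈ U) (hΦ : Φ a) :
    Φ (c * a * c⁻¹) := by
  set N : Subgroup G := Subgroup.normalizer (U : Set G) with hN
  obtain ⟨m, hm, u, hu, hcmu⟩ := exists_mul_of_sylow_pResidual p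
    (((P : Subgroup G) ⊓ N).subgroupOf N) hU ⟨c, hc⟩
  have hres : ∀ u ∈ Cfsg.pResidual p ↥N, ∀ a ∈ U, Φ a → Φ ((u : G) * a * (u : G)⁻¹) := by
    intro u hu
    unfold Cfsg.pResidual at hu
    induction hu using Subgroup.closure_induction'' with
    | mem g hg =>
      intro a ha hΦ
      have hg' : Nat.Coprime (orderOf g) p := hg
      exact hloc (g : G) g.2 (by rwa [Subgroup.orderOf_coe]) a ha hΦ
    | inv_mem g hg =>
      intro a ha hΦ
      have hg' : Nat.Coprime (orderOf g) p := hg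
      have h1 : (g⁻¹ : N) = g⁻¹ := rfl
      have := hloc ((g⁻¹ : N) : G) (g⁻¹ : N).2
        (by rw [Subgroup.orderOf_coe, orderOf_inv]; exact hg') a ha hΦ
      exact this
    | one =>
      intro a ha hΦ
      simpa using hΦ
    | mul g₁ g₂ _ _ ih₁ ih₂ =>
      intro a ha hΦ
      have h2 := ih₂ a ha hΦ
      have ha2 : (g₂ : G) * a * (g₂ : G)⁻¹ ∈ U := (Subgroup.mem_normalizer_iff.mp g₂.2 a).mp ha
      have h1 := ih₁ _ ha2 h2
      have e : ((g₁ * g₂ : N) : G) * a * ((g₁ * g₂ : N) : G)⁻¹ =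
          (g₁ : G) * ((g₂ : G) * a * (g₂ : G)⁻¹) * (g₁ : G)⁻¹ := by
        rw [Subgroup.coe_mul]; group
      rw [e]; exact h1
  have hc' : c = (m : G) * (u : G) := by
    have := congrArg Subtype.val hcmu
    simpa using this
  have hmP : (m : G) ∈ (P : Subgroup G) := (Subgroup.mem_inf.mp (Subgroup.mem_subgroupOf.mp hm)).1
  have h1 := hres u hu a ha hΦ
  have ha1 : (u : G) * a * (u : G)⁻¹ ∈ U := (Subgroup.mem_normalizer_iff.mp u.2 a).mp ha
  have h2 := hS (m : G) hmP _ (hUP ha1) h1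
  have e : c * a * c⁻¹ = (m : G) * ((u : G) * a * (u : G)⁻¹) * (m : G)⁻¹ := by
    rw [hc']; group
  rw [e]; exact h2

/-- **Fusion invariant lemma.** -/
theorem fusion_invariant (P : Sylow p G) (Φ : G → Prop)
    (hS : ∀ s ∈ (P : Subgroup G), ∀ a ∈ (P : Subgroup G), Φ a → Φ (s * a * s⁻¹))
    (hloc : ∀ U : Subgroup G, U ≤ (P : Subgroup G) →
      (P : Subgroup G) ⊓ Subgroup.centralizer (U : Set G) ≤ U →
      ¬ p ∣ ((P : Subgroup G) ⊓ Subgroup.normalizer (U : Set G)).relIndex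
        (Subgroup.normalizer (U : Set G)) →
      ∀ g ∈ Subgroup.normalizer (U : Set G), (orderOf g).Coprime p →
      ∀ a ∈ U, Φ a → Φ (g * a * g⁻¹))
    (x : G) (hx : x ∈ (P : Subgroup G)) (g : G) (hg : g⁻¹ * x * g ∈ (P : Subgroup G))
    (hΦ : Φ x) : Φ (g⁻¹ * x * g) := by
  set 𝓣 : Set (Subgroup G) := {U | U ≤ (P : Subgroup G) ∧
    ¬ p ∣ ((P : Subgroup G) ⊓ Subgroup.normalizer ((U : Subgroup G) : Set G)).relIndex
      (Subgroup.normalizer ((U : Subgroup G) : Set G))} with h𝓣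
  set 𝓣' : Set (Subgroup G) := {U | U ∈ 𝓣 ∧
    (P : Subgroup G) ⊓ Subgroup.centralizer (U : Set G) ≤ U} with h𝓣'
  have h𝓣S : ∀ U ∈ 𝓣, U ≤ (P : Subgroup G) := fun U hU => hU.1
  have h𝓣t : ∀ U ∈ 𝓣, ¬ p ∣ ((P : Subgroup G) ⊓
      Subgroup.normalizer ((U : Subgroup G) : Set G)).relIndex
      (Subgroup.normalizer ((U : Subgroup G) : Set G)) := fun U hU => hU.2
  have hfam : ∀ T : Subgroup G, T ≤ (P : Subgroup G) → ∃ U ∈ 𝓣,
      (∃ g : G, T.map (MulAut.conj g).toMonoidHom = U) ∧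
      ¬ p ∣ ((P : Subgroup G) ⊓ Subgroup.normalizer ((U : Subgroup G) : Set G)).relIndex
        (Subgroup.normalizer ((U : Subgroup G) : Set G)) := by
    intro T hT
    obtain ⟨n, hn1, hn2⟩ := exists_conj_normalizer_sylow P T
    have hTn : T.map (MulAut.conj n).toMonoidHom ≤ (P : Subgroup G) :=
      (Subgroup.map_mono (le_inf hT Subgroup.le_normalizer)).trans hn1
    exact ⟨_, ⟨hTn, hn2⟩, ⟨n, rfl⟩, hn2⟩
  have key : ∀ (L : List (Subgroup G × G)) (x : G), Valid 𝓣' {x} L → Φ x →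
      Φ (((L.map Prod.snd).prod)⁻¹ * x * (L.map Prod.snd).prod) := by
    intro L
    induction L with
    | nil => intro x _ hx; simpa using hx
    | cons Uc L ih =>
      obtain ⟨U, c⟩ := Uc
      rintro x ⟨hU, hc, hxU, hrest⟩ hΦx
      rw [Set.image_singleton] at hrest
      have hxU' : x ∈ U := hxU (Set.mem_singleton x)
      have h1 : Φ (c⁻¹ * x * c⁻¹⁻¹) :=
        fusionInv_local P Φ hS U hU.1.1 hU.1.2 (hloc U hU.1.1 hU.2 hU.1.2) c⁻¹
          (Subgroup.inv_mem _ hc) x hxU' hΦx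
      rw [inv_inv] at h1
      have h2 := ih _ hrest h1
      simp only [List.map_cons, List.prod_cons]
      have e : (c * (L.map Prod.snd).prod)⁻¹ * x * (c * (L.map Prod.snd).prod)
          = ((L.map Prod.snd).prod)⁻¹ * (c⁻¹ * x * c) * (L.map Prod.snd).prod := by group
      rw [e]; exact h2
  have hreach : CReach 𝓣' (((Subgroup.zpowers x : Subgroup G)) : Set G) g := by
    apply creach_main P 𝓣 h𝓣S h𝓣t hfam _ (Subgroup.zpowers x) g
      (Subgroup.zpowers_le.mpr hx) _ rfl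
    intro t ht
    obtain ⟨k, rfl⟩ := Subgroup.mem_zpowers_iff.mp ht
    have : g⁻¹ * x ^ k * g = (g⁻¹ * x * g) ^ k := by
      have h1 : g⁻¹ * x ^ k * g = g⁻¹ * x ^ k * g⁻¹⁻¹ := by rw [inv_inv]
      have h2 : g⁻¹ * x * g = g⁻¹ * x * g⁻¹⁻¹ := by rw [inv_inv]
      rw [h1, h2, conj_zpow]
    rw [this]
    exact Subgroup.zpow_mem _ hg k
  obtain ⟨c, hc, g', hg', rfl⟩ := hreach
  have hreach' : Reach 𝓣' ({x} : Set G) g' := by
    apply reach_mono 𝓣' (A := ((Subgroup.zpowers x : Subgroup G) : Set G)) _ hg'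
    intro a ha
    rw [Set.mem_singleton_iff.mp ha]
    exact Subgroup.mem_zpowers x
  obtain ⟨L, hL, hLg⟩ := hreach'
  have h3 := key L x hL hΦ
  rw [hLg] at h3
  have hcx : x * c = c * x :=
    Subgroup.mem_centralizer_iff.mp hc x (Subgroup.mem_zpowers x)
  have e : (c * g')⁻¹ * x * (c * g') = g'⁻¹ * x * g' := by
    calc (c * g')⁻¹ * x * (c * g') = g'⁻¹ * (c⁻¹ * (x * c)) * g' := by group
      _ = g'⁻¹ * (c⁻¹ * (c * x)) * g' := by rw [hcx]
      _ = g'⁻¹ * x * g' := by group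
  rw [e]; exact h3

/-- form with left conjugation -/
theorem fusion_invariant' (P : Sylow p G) (Φ : G → Prop)
    (hS : ∀ s ∈ (P : Subgroup G), ∀ a ∈ (P : Subgroup G), Φ a → Φ (s * a * s⁻¹))
    (hloc : ∀ U : Subgroup G, U ≤ (P : Subgroup G) →
      (P : Subgroup G) ⊓ Subgroup.centralizer (U : Set G) ≤ U →
      ¬ p ∣ ((P : Subgroup G) ⊓ Subgroup.normalizer (U : Set G)).relIndex
        (Subgroup.normalizer (U : Set G)) →
      ∀ g ∈ Subgroup.normalizer (U : Set G), (orderOf g).Coprime p →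
      ∀ a ∈ U, Φ a → Φ (g * a * g⁻¹))
    (x : G) (hx : x ∈ (P : Subgroup G)) (g : G) (hg : g * x * g⁻¹ ∈ (P : Subgroup G))
    (hΦ : Φ x) : Φ (g * x * g⁻¹) := by
  have := fusion_invariant P Φ hS hloc x hx g⁻¹ (by rwa [inv_inv]) hΦ
  rwa [inv_inv] at this

/-! ### Subgroup version -/

theorem conjMap_le_of_mem_normalizer {U T : Subgroup G} (hTU : T ≤ U) {g : G}
    (hg : g ∈ Subgroup.normalizer (U : Set G)) : T.map (MulAut.conj g).toMonoidHom ≤ U := by
  rintro _ ⟨t, ht, rfl⟩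
  exact (Subgroup.mem_normalizer_iff.mp hg t).mp (hTU ht)

theorem conjMap_mul' (W : Subgroup G) (g h : G) :
    W.map (MulAut.conj (g * h)).toMonoidHom =
      (W.map (MulAut.conj h).toMonoidHom).map (MulAut.conj g).toMonoidHom := by
  rw [Subgroup.map_map]
  congr 1
  ext x
  simp [MulAut.conj_apply, mul_assoc]

/-- local step: elements of `N_G(U)` preserve `Φ` on subgroups of `U` -/
theorem fusionInvSub_local (P : Sylow p G) (Φ : Subgroup G → Prop)
    (hS : ∀ s ∈ (P : Subgroup G), ∀ T : Subgroup G, T ≤ (P : Subgroup G) → Φ T →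
      Φ (T.map (MulAut.conj s).toMonoidHom))
    (U : Subgroup G) (hUP : U ≤ (P : Subgroup G))
    (hU : ¬ p ∣ ((P : Subgroup G) ⊓ Subgroup.normalizer (U : Set G)).relIndex
      (Subgroup.normalizer (U : Set G)))
    (hloc : ∀ g ∈ Subgroup.normalizer (U : Set G), (orderOf g).Coprime p →
      ∀ T : Subgroup G, T ≤ U → Φ T → Φ (T.map (MulAut.conj g).toMonoidHom))
    (c : G) (hc : c ∈ Subgroup.normalizer (U : Set G)) (T : Subgroup G) (hT : T ≤ U) (hΦ : Φ T) :
    Φ (T.map (MulAut.conj c).toMonoidHom) := by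
  set N : Subgroup G := Subgroup.normalizer (U : Set G) with hN
  obtain ⟨m, hm, u, hu, hcmu⟩ := exists_mul_of_sylow_pResidual p
    (((P : Subgroup G) ⊓ N).subgroupOf N) hU ⟨c, hc⟩
  have hres : ∀ u ∈ Cfsg.pResidual p ↥N, ∀ T : Subgroup G, T ≤ U → Φ T →
      Φ (T.map (MulAut.conj (u : G)).toMonoidHom) := by
    intro u hu
    unfold Cfsg.pResidual at hu
    induction hu using Subgroup.closure_induction'' with
    | mem g hg =>
      intro T hT hΦ
      have hg' : Nat.Coprime (orderOf g) p := hg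
      exact hloc (g : G) g.2 (by rwa [Subgroup.orderOf_coe]) T hT hΦ
    | inv_mem g hg =>
      intro T hT hΦ
      have hg' : Nat.Coprime (orderOf g) p := hg
      exact hloc ((g⁻¹ : N) : G) (g⁻¹ : N).2
        (by rw [Subgroup.orderOf_coe, orderOf_inv]; exact hg') T hT hΦ
    | one =>
      intro T hT hΦ
      have : T.map (MulAut.conj ((1 : N) : G)).toMonoidHom = T := by
        ext x; simp
      rw [this]; exact hΦ
    | mul g₁ g₂ _ _ ih₁ ih₂ =>
      intro T hT hΦ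
      have h2 := ih₂ T hT hΦ
      have hT2 : T.map (MulAut.conj (g₂ : G)).toMonoidHom ≤ U :=
        conjMap_le_of_mem_normalizer hT g₂.2
      have h1 := ih₁ _ hT2 h2
      rw [Subgroup.coe_mul, conjMap_mul']
      exact h1
  have hc' : c = (m : G) * (u : G) := by
    have := congrArg Subtype.val hcmu
    simpa using this
  have hmP : (m : G) ∈ (P : Subgroup G) := (Subgroup.mem_inf.mp (Subgroup.mem_subgroupOf.mp hm)).1
  have h1 := hres u hu T hT hΦ
  have hT1 : T.map (MulAut.conj (u : G)).toMonoidHom ≤ U := conjMap_le_of_mem_normalizer hT u.2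
  have h2 := hS (m : G) hmP _ (hT1.trans hUP) h1
  rw [hc', conjMap_mul']
  exact h2

/-- **Fusion invariant lemma for subgroups.** -/
theorem fusion_invariant_subgroup (P : Sylow p G) (Φ : Subgroup G → Prop)
    (hS : ∀ s ∈ (P : Subgroup G), ∀ T : Subgroup G, T ≤ (P : Subgroup G) → Φ T →
      Φ (T.map (MulAut.conj s).toMonoidHom))
    (hloc : ∀ U : Subgroup G, U ≤ (P : Subgroup G) →
      (P : Subgroup G) ⊓ Subgroup.centralizer (U : Set G) ≤ U →
      ¬ p ∣ ((P : Subgroup G) ⊓ Subgroup.normalizer (U : Set G)).relIndex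
        (Subgroup.normalizer (U : Set G)) →
      ∀ g ∈ Subgroup.normalizer (U : Set G), (orderOf g).Coprime p →
      ∀ T : Subgroup G, T ≤ U → Φ T → Φ (T.map (MulAut.conj g).toMonoidHom))
    (T : Subgroup G) (hT : T ≤ (P : Subgroup G)) (g : G)
    (hg : T.map (MulAut.conj g).toMonoidHom ≤ (P : Subgroup G))
    (hΦ : Φ T) : Φ (T.map (MulAut.conj g).toMonoidHom) := by
  set 𝓣 : Set (Subgroup G) := {U | U ≤ (P : Subgroup G) ∧
    ¬ p ∣ ((P : Subgroup G) ⊓ Subgroup.normalizer ((U : Subgroup G) : Set G)).relIndex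
      (Subgroup.normalizer ((U : Subgroup G) : Set G))} with h𝓣
  set 𝓣' : Set (Subgroup G) := {U | U ∈ 𝓣 ∧
    (P : Subgroup G) ⊓ Subgroup.centralizer (U : Set G) ≤ U} with h𝓣'
  have h𝓣S : ∀ U ∈ 𝓣, U ≤ (P : Subgroup G) := fun U hU => hU.1
  have h𝓣t : ∀ U ∈ 𝓣, ¬ p ∣ ((P : Subgroup G) ⊓
      Subgroup.normalizer ((U : Subgroup G) : Set G)).relIndex
      (Subgroup.normalizer ((U : Subgroup G) : Set G)) := fun U hU => hU.2
  have hfam : ∀ T : Subgroup G, T ≤ (P : Subgroup G) → ∃ U ∈ 𝓣,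
      (∃ g : G, T.map (MulAut.conj g).toMonoidHom = U) ∧
      ¬ p ∣ ((P : Subgroup G) ⊓ Subgroup.normalizer ((U : Subgroup G) : Set G)).relIndex
        (Subgroup.normalizer ((U : Subgroup G) : Set G)) := by
    intro T hT
    obtain ⟨n, hn1, hn2⟩ := exists_conj_normalizer_sylow P T
    have hTn : T.map (MulAut.conj n).toMonoidHom ≤ (P : Subgroup G) :=
      (Subgroup.map_mono (le_inf hT Subgroup.le_normalizer)).trans hn1
    exact ⟨_, ⟨hTn, hn2⟩, ⟨n, rfl⟩, hn2⟩
  have key : ∀ (L : List (Subgroup G × G)) (T : Subgroup G), Valid 𝓣' (T : Set G) L → Φ T →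
      Φ (T.map (MulAut.conj ((L.map Prod.snd).prod)⁻¹).toMonoidHom) := by
    intro L
    induction L with
    | nil =>
      intro T _ hT
      have : T.map (MulAut.conj (([] : List (Subgroup G × G)).map Prod.snd).prod⁻¹).toMonoidHom
          = T := by
        ext x; simp
      rw [this]; exact hT
    | cons Uc L ih =>
      obtain ⟨U, c⟩ := Uc
      rintro T ⟨hU, hc, hTU, hrest⟩ hΦT
      rw [rconj_image_eq] at hrest
      have hTU' : T ≤ U := hTU
      have h1 : Φ (T.map (MulAut.conj c⁻¹).toMonoidHom) :=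
        fusionInvSub_local P Φ hS U hU.1.1 hU.1.2 (hloc U hU.1.1 hU.2 hU.1.2) c⁻¹
          (Subgroup.inv_mem _ hc) T hTU' hΦT
      have h2 := ih _ hrest h1
      simp only [List.map_cons, List.prod_cons]
      rw [mul_inv_rev, conjMap_mul']
      exact h2
  have hreach : CReach 𝓣' (T : Set G) g⁻¹ := by
    apply creach_main P 𝓣 h𝓣S h𝓣t hfam _ T g⁻¹ hT _ rfl
    intro t ht
    rw [inv_inv]
    exact hg ⟨t, ht, by simp [MulAut.conj_apply]⟩
  obtain ⟨c, hc, g', hg', hcg⟩ := hreach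
  obtain ⟨L, hL, hLg⟩ := hg'
  have h3 := key L T hL hΦ
  rw [hLg] at h3
  have hg2 : g = g'⁻¹ * c⁻¹ := by
    have : g⁻¹⁻¹ = (c * g')⁻¹ := by rw [hcg]
    rw [inv_inv, mul_inv_rev] at this
    exact this
  have hcT : T.map (MulAut.conj c⁻¹).toMonoidHom = T := by
    ext x
    constructor
    · rintro ⟨t, ht, rfl⟩
      have h1 : t * c = c * t := Subgroup.mem_centralizer_iff.mp hc t ht
      have : (MulAut.conj c⁻¹).toMonoidHom t = t := by
        simp only [MulEquiv.coe_toMonoidHom, MulAut.conj_apply, inv_inv]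
        rw [mul_assoc, h1, inv_mul_cancel_left]
      rw [this]; exact ht
    · intro hx
      refine ⟨x, hx, ?_⟩
      have h1 : x * c = c * x := Subgroup.mem_centralizer_iff.mp hc x hx
      simp only [MulEquiv.coe_toMonoidHom, MulAut.conj_apply, inv_inv]
      rw [mul_assoc, h1, inv_mul_cancel_left]
  rw [hg2, conjMap_mul', hcT]
  exact h3

end Cfsg.Agent.Lib.Helper9
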