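import Mathlib
import Cfsg.Agent.Lib.Helper9.Conj
import Cfsg.Agent.Lib.Helper16.NilAction

set_option autoImplicit false

/-!
# Odd-order elements normalizing a chain with factors of order 2 in a 2-group
-/

namespace Cfsg.Agent.Lib.Helper9

variable {G : Type*} [Group G]

/-- an element of odd order stabilizing a chain of subgroups of a `2`-group `R` whose successive
indices are at most `2` centralizes `R` -/
theorem centralizes_of_index_two_chain (R : Subgroup G) (hR : IsPGroup 2 R)
    (D : ℕ → Subgroup G) (m : ℕ) (h0 : D 0 = R) (hm : D m = ⊥) (hle : ∀ i, D i ≤ R)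
    (hidx : ∀ i, (D (i + 1)).relIndex (D i) = 2 ∨ D i ≤ D (i + 1)) (g : G)
    (hodd : Odd (orderOf g)) (hnorm : ∀ i, ∀ r, r ∈ D i ↔ g * r * g⁻¹ ∈ D i) :
    ∀ r ∈ R, g * r = r * g := by
  have : Fact (Nat.Prime 2) := ⟨Nat.prime_two⟩
  apply Cfsg.Agent.Lib.Helper16.centralizes_of_chain R hR D m h0 hm hle g
    (Nat.coprime_two_right.mpr hodd)
  intro i r hr
  have e : r⁻¹ * g * r * g⁻¹ = r⁻¹ * (g * r * g⁻¹) := by group
  rw [e]
  have h1 : r⁻¹ ∈ D i := (D i).inv_mem hr
  have h2 : g * r * g⁻¹ ∈ D i := (hnorm i r).mp hr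
  rcases hidx i with h2i | hlei
  · have : (⟨r⁻¹, h1⟩ : D i) * ⟨g * r * g⁻¹, h2⟩ ∈ (D (i + 1)).subgroupOf (D i) := by
      rw [Subgroup.mul_mem_iff_of_index_two h2i, Subgroup.mem_subgroupOf, Subgroup.mem_subgroupOf]
      simp only [inv_mem_iff]
      exact hnorm (i + 1) r
    rw [Subgroup.mem_subgroupOf] at this
    exact this
  · exact hlei ((D i).mul_mem h1 h2)

theorem relIndex_eq_two_of_card {A B : Subgroup G} (hAB : A ≤ B) {k : ℕ} (hk : 0 < k)
    (hA : Nat.card A = k) (hB : Nat.card B = 2 * k) : A.relIndex B = 2 := by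
  have h1 : A.relIndex B * Nat.card A = Nat.card B := by
    have h1 := (A.subgroupOf B).index_mul_card
    rwa [Nat.card_congr (Subgroup.subgroupOfEquivOfLe hAB).toEquiv] at h1
  rw [hA, hB] at h1
  exact Nat.eq_of_mul_eq_mul_right hk h1

theorem conj_mem_iff_of_conjMap_le [Finite G] {W : Subgroup G} {g : G}
    (h : W.map (MulAut.conj g).toMonoidHom ≤ W) (r : G) : r ∈ W ↔ g * r * g⁻¹ ∈ W := by
  have h1 := conjMap_eq_of_le h
  have h2 := mem_normalizer_of_conjMap_eq_self h1
  exact Subgroup.mem_normalizer_iff.mp h2 r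

theorem conjMap_zpowers_le {c g : G} {k : ℤ} (h : g * c * g⁻¹ = c ^ k) :
    (Subgroup.zpowers c).map (MulAut.conj g).toMonoidHom ≤ Subgroup.zpowers c := by
  rintro _ ⟨r, hr, rfl⟩
  obtain ⟨j, rfl⟩ := Subgroup.mem_zpowers_iff.mp hr
  simp only [MulEquiv.toMonoidHom_eq_coe, MonoidHom.coe_coe, MulAut.conj_apply]
  rw [← conj_zpow, h]
  exact Subgroup.zpow_mem _ (Subgroup.zpow_mem _ (Subgroup.mem_zpowers c) _) _

/-- **Klein four**: an odd-order element normalizing `T` and fixing a non-identity element of `T`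
centralizes `T` -/
theorem klein_centralizes_of_fix [Finite G] (T : Subgroup G) (hT : IsKleinFour T) {z g : G}
    (hz : z ∈ T) (hz1 : z ≠ 1) (hg : g ∈ Subgroup.normalizer (T : Set G))
    (hodd : Odd (orderOf g)) (hgz : g * z * g⁻¹ = z) : g ∈ Subgroup.centralizer (T : Set G) := by
  have hT2 : IsPGroup 2 T := IsPGroup.of_card (n := 2) (by rw [hT.card_four]; norm_num)
  have hzo : orderOf z = 2 := by
    apply orderOf_eq_prime
    · have := Monoid.pow_exponent_eq_one (⟨z, hz⟩ : T)
      rw [hT.exponent_two] at this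
      simpa using congrArg Subtype.val this
    · exact hz1
  let D : ℕ → Subgroup G := fun k => match k with
    | 0 => T
    | 1 => Subgroup.zpowers z
    | _ => ⊥
  have hzT : Subgroup.zpowers z ≤ T := Subgroup.zpowers_le.mpr hz
  have key := centralizes_of_index_two_chain T hT2 D 2 rfl rfl ?_ ?_ g hodd ?_
  · rw [Subgroup.mem_centralizer_iff]
    intro t ht
    exact (key t ht).symm
  · intro i
    match i with
    | 0 => exact le_refl _
    | 1 => exact hzT
    | (k + 2) => exact bot_le
  · intro i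
    match i with
    | 0 =>
      left
      show (Subgroup.zpowers z).relIndex T = 2
      exact relIndex_eq_two_of_card (k := 2) hzT (by norm_num) (by rw [Nat.card_zpowers, hzo])
        (by rw [hT.card_four])
    | 1 =>
      left
      show (⊥ : Subgroup G).relIndex (Subgroup.zpowers z) = 2
      rw [Subgroup.relIndex_bot_left, Nat.card_zpowers, hzo]
    | (k + 2) => right; exact le_refl _
  · intro i r
    match i with
    | 0 => exact Subgroup.mem_normalizer_iff.mp hg r
    | 1 =>
      apply conj_mem_iff_of_conjMap_le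
      apply conjMap_zpowers_le (k := 1)
      rw [zpow_one]; exact hgz
    | (k + 2) =>
      show r ∈ (⊥ : Subgroup G) ↔ g * r * g⁻¹ ∈ (⊥ : Subgroup G)
      rw [Subgroup.mem_bot, Subgroup.mem_bot]
      constructor
      · rintro rfl; group
      · intro h1
        have : r = g⁻¹ * (g * r * g⁻¹) * g := by group
        rw [this, h1]; group

/-- **`Q₈`**: an odd-order element normalizing a group `Q` of order `8` and a cyclic subgroup of
order `4` of `Q` centralizes `Q` -/
theorem quat_centralizes_of_normalizes [Finite G] (Q : Subgroup G) (hQ : Nat.card Q = 8) {c g : G}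
    (hc : c ∈ Q) (hc4 : orderOf c = 4) (hg : g ∈ Subgroup.normalizer (Q : Set G))
    (hodd : Odd (orderOf g)) (hgc : g * c * g⁻¹ ∈ Subgroup.zpowers c) :
    g ∈ Subgroup.centralizer (Q : Set G) := by
  have hQ2 : IsPGroup 2 Q := IsPGroup.of_card (n := 3) (by rw [hQ]; norm_num)
  obtain ⟨k, hk⟩ := Subgroup.mem_zpowers_iff.mp hgc
  have hc2 : orderOf (c ^ 2) = 2 := by
    rw [orderOf_pow' c (by norm_num), hc4]; rfl
  let D : ℕ → Subgroup G := fun k => match k with
    | 0 => Q
    | 1 => Subgroup.zpowers c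
    | 2 => Subgroup.zpowers (c ^ 2)
    | _ => ⊥
  have hcQ : Subgroup.zpowers c ≤ Q := Subgroup.zpowers_le.mpr hc
  have hc2c : Subgroup.zpowers (c ^ 2) ≤ Subgroup.zpowers c :=
    Subgroup.zpowers_le.mpr (Subgroup.pow_mem _ (Subgroup.mem_zpowers c) 2)
  have key := centralizes_of_index_two_chain Q hQ2 D 3 rfl rfl ?_ ?_ g hodd ?_
  · rw [Subgroup.mem_centralizer_iff]
    intro t ht
    exact (key t ht).symm
  · intro i
    match i with
    | 0 => exact le_refl _
    | 1 => exact hcQ
    | 2 => exact hc2c.trans hcQ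
    | (k + 3) => exact bot_le
  · intro i
    match i with
    | 0 =>
      left
      show (Subgroup.zpowers c).relIndex Q = 2
      exact relIndex_eq_two_of_card (k := 4) hcQ (by norm_num) (by rw [Nat.card_zpowers, hc4])
        (by rw [hQ])
    | 1 =>
      left
      show (Subgroup.zpowers (c ^ 2)).relIndex (Subgroup.zpowers c) = 2
      exact relIndex_eq_two_of_card (k := 2) hc2c (by norm_num) (by rw [Nat.card_zpowers, hc2])
        (by rw [Nat.card_zpowers, hc4])
    | 2 =>
      left
      show (⊥ : Subgroup G).relIndex (Subgroup.zpowers (c ^ 2)) = 2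
      rw [Subgroup.relIndex_bot_left, Nat.card_zpowers, hc2]
    | (k + 3) => right; exact le_refl _
  · intro i r
    match i with
    | 0 => exact Subgroup.mem_normalizer_iff.mp hg r
    | 1 =>
      apply conj_mem_iff_of_conjMap_le
      exact conjMap_zpowers_le hk.symm
    | 2 =>
      apply conj_mem_iff_of_conjMap_le
      apply conjMap_zpowers_le (k := k)
      rw [← conj_pow, ← hk, ← zpow_natCast, ← zpow_natCast, ← zpow_mul, ← zpow_mul, mul_comm]
    | (k + 3) =>
      show r ∈ (⊥ : Subgroup G) ↔ g * r * g⁻¹ ∈ (⊥ : Subgroup G)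
      rw [Subgroup.mem_bot, Subgroup.mem_bot]
      constructor
      · rintro rfl; group
      · intro h1
        have : r = g⁻¹ * (g * r * g⁻¹) * g := by group
        rw [this, h1]; group

end Cfsg.Agent.Lib.Helper9
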