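import Mathlib

set_option autoImplicit false

/-!
# Maximal subgroups of finite `p`-groups are normal of index `p`
-/

namespace Cfsg.Agent.Lib.Helper9

theorem normal_of_isCoatom_of_isPGroup {p : ℕ} [Fact p.Prime] {G : Type*} [Group G] [Finite G]
    (hG : IsPGroup p G) (M : Subgroup G) (hM : IsCoatom M) : M.Normal := by
  have : Group.IsNilpotent G := hG.isNilpotent
  exact Subgroup.NormalizerCondition.normal_of_coatom M Group.normalizerCondition_of_isNilpotent hM

theorem index_of_isCoatom_of_isPGroup {p : ℕ} [Fact p.Prime] {G : Type*} [Group G] [Finite G]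
    (hG : IsPGroup p G) (M : Subgroup G) (hM : IsCoatom M) : M.index = p := by
  have hp := (Fact.out : p.Prime)
  have hN : M.Normal := normal_of_isCoatom_of_isPGroup hG M hM
  obtain ⟨k, hk⟩ := hG.index M
  have hk1 : k ≠ 0 := by
    rintro rfl
    rw [pow_zero, Subgroup.index_eq_one] at hk
    exact hM.1 hk
  have hdvd : p ∣ Nat.card (G ⧸ M) := by
    have : Nat.card (G ⧸ M) = M.index := rfl
    rw [this, hk]
    exact dvd_pow_self p hk1
  obtain ⟨q, hq⟩ := exists_prime_orderOf_dvd_card' p hdvd
  obtain ⟨g, rfl⟩ := QuotientGroup.mk_surjective q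
  set H := Subgroup.zpowers (QuotientGroup.mk g : G ⧸ M) with hH
  set K := H.comap (QuotientGroup.mk' M) with hK
  have hMK : M ≤ K := by
    intro m hm
    rw [hK, Subgroup.mem_comap]
    have : (QuotientGroup.mk' M) m = 1 := (QuotientGroup.eq_one_iff m).mpr hm
    rw [this]; exact one_mem _
  have hgK : g ∈ K := by
    rw [hK, Subgroup.mem_comap]
    exact Subgroup.mem_zpowers _
  have hgM : g ∉ M := by
    intro hgM
    have : (QuotientGroup.mk g : G ⧸ M) = 1 := (QuotientGroup.eq_one_iff g).mpr hgM
    rw [this, orderOf_one] at hq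
    exact hp.one_lt.ne hq
  have hKtop : K = ⊤ := by
    apply hM.2
    exact lt_of_le_of_ne hMK (fun he => hgM (he ▸ hgK))
  have hHtop : H = ⊤ := by
    rw [eq_top_iff]
    intro r _
    obtain ⟨g', rfl⟩ := QuotientGroup.mk_surjective r
    have : g' ∈ K := by rw [hKtop]; trivial
    exact this
  have : Nat.card (G ⧸ M) = p := by
    rw [← hq, ← Nat.card_zpowers, ← hH, hHtop, Subgroup.card_top]
  exact this

theorem isCoatom_of_index_prime {G : Type*} [Group G] (H : Subgroup G) {p : ℕ}
    (hp : p.Prime) (hH : H.index = p) : IsCoatom H := by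
  constructor
  · intro htop
    rw [htop, Subgroup.index_top] at hH
    exact hp.one_lt.ne hH
  · intro K hK
    have h1 := Subgroup.relIndex_mul_index hK.le
    rw [hH] at h1
    have h2 : K.index ∣ p := Dvd.intro_left _ h1
    rcases (Nat.dvd_prime hp).mp h2 with h3 | h3
    · exact Subgroup.index_eq_one.mp h3
    · exfalso
      rw [h3] at h1
      have h4 : H.relIndex K = 1 := by
        have hp0 : 0 < p := hp.pos
        exact Nat.eq_of_mul_eq_mul_right hp0 (by rw [h1, one_mul])
      rw [Subgroup.relIndex_eq_one] at h4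
      exact hK.not_ge h4

end Cfsg.Agent.Lib.Helper9
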