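import Mathlib
import Cfsg.Agent.Lib.Helper9.Conj
import Cfsg.Agent.Lib.Helper9.Misc
import Cfsg.Agent.Lib.Helper9.LocalAut
import Cfsg.Agent.Lib.Helper13.Sylow

set_option autoImplicit false

/-!
# Transport between a subgroup `S ≤ G` as a group and subgroups of `G` contained in `S`;
conjugacy classes of `p`-elements under control of fusion
-/

namespace Cfsg.Agent.Lib.Helper9

variable {G : Type*} [Group G]

theorem isKleinFour_of_mulEquiv {A B : Type*} [Group A] [Group B] (e : A ≃* B) (hB : IsKleinFour B) :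
    IsKleinFour A :=
  ⟨by rw [Nat.card_congr e.toEquiv, hB.card_four],
   by rw [Monoid.exponent_eq_of_mulEquiv e, hB.exponent_two]⟩

theorem isKleinFour_subgroupOf {S Q : Subgroup G} (hQS : Q ≤ S) (hQ : IsKleinFour Q) :
    IsKleinFour (Q.subgroupOf S) :=
  isKleinFour_of_mulEquiv (Subgroup.subgroupOfEquivOfLe hQS) hQ

theorem isKleinFour_of_subgroupOf {S Q : Subgroup G} (hQS : Q ≤ S) (hQ : IsKleinFour (Q.subgroupOf S)) :
    IsKleinFour Q :=
  isKleinFour_of_mulEquiv (Subgroup.subgroupOfEquivOfLe hQS).symm hQ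

theorem isPGroup_mulAut_of_subgroupOf {p : ℕ} {S Q : Subgroup G} (hQS : Q ≤ S)
    (hQ : IsPGroup p (MulAut (Q.subgroupOf S))) : IsPGroup p (MulAut Q) :=
  hQ.of_equiv (MulAut.congr (Subgroup.subgroupOfEquivOfLe hQS))

/-- conjugacy inside `S` of subgroups of `S`, read in `G` -/
theorem conjMap_eq_of_subgroupOf {S Q T : Subgroup G} (hQS : Q ≤ S) (hTS : T ≤ S) (s : S)
    (h : (Q.subgroupOf S).map (MulAut.conj s).toMonoidHom = T.subgroupOf S) :
    Q.map (MulAut.conj (s : G)).toMonoidHom = T := by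
  ext g
  rw [mem_conjMap]
  constructor
  · intro hg
    have hgS : g ∈ S := by
      have : g = (s : G) * ((s : G)⁻¹ * g * (s : G)) * (s : G)⁻¹ := by group
      rw [this]
      exact S.mul_mem (S.mul_mem s.2 (hQS hg)) (S.inv_mem s.2)
    have h1 : (⟨g, hgS⟩ : S) ∈ (Q.subgroupOf S).map (MulAut.conj s).toMonoidHom := by
      rw [mem_conjMap, Subgroup.mem_subgroupOf]
      simpa using hg
    rw [h, Subgroup.mem_subgroupOf] at h1
    exact h1
  · intro hg
    have h1 : (⟨g, hTS hg⟩ : S) ∈ T.subgroupOf S := by rwa [Subgroup.mem_subgroupOf]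
    rw [← h, mem_conjMap, Subgroup.mem_subgroupOf] at h1
    simpa using h1

/-- a `p'`-element of `Q ⊔ C_G(Q)` normalizing the `p`-group `Q` centralizes it -/
theorem mem_centralizer_of_mem_sup_centralizer [Finite G] {p : ℕ} [Fact p.Prime] (Q : Subgroup G)
    (hQ : IsPGroup p Q) {g : G} (hg : g ∈ Q ⊔ Subgroup.centralizer (Q : Set G))
    (hcop : (orderOf g).Coprime p) : g ∈ Subgroup.centralizer (Q : Set G) := by
  have hCN : Subgroup.centralizer (Q : Set G) ≤ Subgroup.normalizer (Q : Set G) :=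
    Subgroup.centralizer_le_normalizer _
  have hQN : Q ≤ Subgroup.normalizer (Q : Set G) := Subgroup.le_normalizer
  have hnorm : Subgroup.centralizer (Q : Set G) ≤ Subgroup.normalizer ((Q : Subgroup G) : Set G) := hCN
  obtain ⟨q, hq, c, hc, rfl⟩ := (mem_sup_of_le_normalizer hnorm).mp hg
  have hgN : q * c ∈ Subgroup.normalizer (Q : Set G) :=
    Subgroup.mul_mem _ (hQN hq) (hCN hc)
  set α : MulAut Q := Q.normalizerMonoidHom ⟨q * c, hgN⟩ with hα
  have hαq : α = Q.normalizerMonoidHom ⟨q, hQN hq⟩ := by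
    have h1 : (⟨q * c, hgN⟩ : Subgroup.normalizer (Q : Set G)) = ⟨q, hQN hq⟩ * ⟨c, hCN hc⟩ := rfl
    have h2 : Q.normalizerMonoidHom ⟨c, hCN hc⟩ = 1 := by
      rw [← MonoidHom.mem_ker, Subgroup.normalizerMonoidHom_ker, Subgroup.mem_subgroupOf]
      exact hc
    rw [hα, h1, map_mul, h2, mul_one]
  obtain ⟨k, hk⟩ := hQ ⟨q, hq⟩
  have hk' : q ^ p ^ k = 1 := by simpa using congrArg Subtype.val hk
  have h1 : α ^ p ^ k = 1 := by
    rw [hαq, ← map_pow]
    have : (⟨q, hQN hq⟩ : Subgroup.normalizer (Q : Set G)) ^ p ^ k = 1 := by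
      apply Subtype.ext
      simpa using hk'
    rw [this, map_one]
  have h2 : α ^ orderOf (q * c) = 1 := by
    rw [hα, ← map_pow]
    have : (⟨q * c, hgN⟩ : Subgroup.normalizer (Q : Set G)) ^ orderOf (q * c) = 1 := by
      apply Subtype.ext
      simp [pow_orderOf_eq_one]
    rw [this, map_one]
  have h3 : orderOf α = 1 := by
    have hc' : (orderOf (q * c)).Coprime (p ^ k) := Nat.Coprime.pow_right k hcop
    exact Nat.eq_one_of_dvd_coprimes hc' (orderOf_dvd_of_pow_eq_one h2) (orderOf_dvd_of_pow_eq_one h1)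
  have h4 : α = 1 := orderOf_eq_one_iff.mp h3
  have h5 : (⟨q * c, hgN⟩ : Subgroup.normalizer (Q : Set G)) ∈ Q.normalizerMonoidHom.ker := by
    rw [MonoidHom.mem_ker]; exact h4
  rw [Subgroup.normalizerMonoidHom_ker, Subgroup.mem_subgroupOf] at h5
  exact h5

/-- under control of fusion, classes of `p`-elements of `G` correspond to classes of `P` -/
theorem card_classes_eq_of_control [Finite G] {p : ℕ} [Fact p.Prime] (P : Sylow p G)
    (hctrl : ∀ a ∈ (P : Subgroup G), ∀ g : G, g⁻¹ * a * g ∈ (P : Subgroup G) →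
      ∃ s ∈ (P : Subgroup G), g⁻¹ * a * g = s⁻¹ * a * s) (k : ℕ) :
    Nat.card {C : ConjClasses G // ∃ t : G, orderOf t = p ^ k ∧ ConjClasses.mk t = C} =
    Nat.card {C : ConjClasses (P : Subgroup G) //
      ∃ t : (P : Subgroup G), orderOf t = p ^ k ∧ ConjClasses.mk t = C} := by
  symm
  let f : {C : ConjClasses (P : Subgroup G) //
      ∃ t : (P : Subgroup G), orderOf t = p ^ k ∧ ConjClasses.mk t = C} →
      {C : ConjClasses G // ∃ t : G, orderOf t = p ^ k ∧ ConjClasses.mk t = C} :=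
    fun C => ⟨ConjClasses.map (P : Subgroup G).subtype C.1, by
      obtain ⟨t, ht, htC⟩ := C.2
      refine ⟨(t : G), by rw [Subgroup.orderOf_coe, ht], ?_⟩
      rw [← htC]
      rfl⟩
  apply Nat.card_congr
  apply Equiv.ofBijective f
  constructor
  · rintro ⟨C₁, t₁, ht₁, rfl⟩ ⟨C₂, t₂, ht₂, rfl⟩ he
    have he' := congrArg Subtype.val he
    simp only [f] at he'
    have he'' : ConjClasses.mk ((t₁ : G)) = ConjClasses.mk ((t₂ : G)) := he'
    rw [ConjClasses.mk_eq_mk_iff_isConj, isConj_iff] at he''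
    obtain ⟨c, hc⟩ := he''
    have h1 : c⁻¹⁻¹ * (t₁ : G) * c⁻¹ ∈ (P : Subgroup G) := by
      rw [inv_inv, hc]; exact t₂.2
    obtain ⟨s, hs, hs'⟩ := hctrl _ t₁.2 c⁻¹ h1
    apply Subtype.ext
    simp only
    rw [ConjClasses.mk_eq_mk_iff_isConj, isConj_iff]
    refine ⟨⟨s, hs⟩⁻¹, ?_⟩
    apply Subtype.ext
    simp only [Subgroup.coe_mul, Subgroup.coe_inv, inv_inv]
    rw [← hs', inv_inv, hc]
  · rintro ⟨C, t, ht, rfl⟩
    have hpow : ∃ j : ℕ, t ^ p ^ j = 1 := ⟨k, by rw [← ht]; exact pow_orderOf_eq_one t⟩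
    obtain ⟨c, hc⟩ := Cfsg.Agent.Lib.Helper13.exists_conj_mem_sylow P t hpow
    refine ⟨⟨ConjClasses.mk ⟨c * t * c⁻¹, hc⟩, ⟨c * t * c⁻¹, hc⟩, ?_, rfl⟩, ?_⟩
    · rw [← Subgroup.orderOf_coe]
      simp only
      rw [← ht]
      exact (MulAut.conj c).orderOf_eq t
    · apply Subtype.ext
      simp only [f]
      show ConjClasses.mk (c * t * c⁻¹) = ConjClasses.mk t
      rw [ConjClasses.mk_eq_mk_iff_isConj, isConj_comm, isConj_iff]
      exact ⟨c, rfl⟩

end Cfsg.Agent.Lib.Helper9
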