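import Cfsg.Agent.Lib.Helper9.U35MinData
import Cfsg.Agent.Lib.Helper4.TC.PresU35

/-!
# S2149 (helper9): the actions of the presented group of order 126000 on 126 and on 50 points

`rho : P →* Perm (Fin 126)` (isotropic points; permutations computed from helper4's matrices over `K25`) and
`sig : P →* Perm (Fin 50)` (cosets of a subgroup `A₇`), both by `PresentedGroup.toGroup` (six relators, `decide`);
tree certificates for transitivity of `rho`, of the stabiliser of the point `0` on the other 125 points, and of `sig`;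
the explicit elements `u1, u2, t` of the stabiliser of `0`.
-/

set_option autoImplicit false
set_option linter.unusedSimpArgs false

namespace Cfsg.Agent.Lib.Helper9.U35Min

open Cfsg.Agent.Helper4.Pres.U35 Data

/-- table lookup: `w` bits per entry -/
def lk (w t a : ℕ) : ℕ := (t >>> (w * a)) % 2 ^ w

def fA (i : Fin 126) : Fin 126 := ⟨lk 7 tA i.val % 126, Nat.mod_lt _ (by norm_num)⟩
def fB (i : Fin 126) : Fin 126 := ⟨lk 7 tB i.val % 126, Nat.mod_lt _ (by norm_num)⟩
def fBi (i : Fin 126) : Fin 126 := ⟨lk 7 tBi i.val % 126, Nat.mod_lt _ (by norm_num)⟩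

theorem fA_inv : ∀ i, fA (fA i) = i := by decide +kernel
theorem fB_l : ∀ i, fBi (fB i) = i := by decide +kernel
theorem fB_r : ∀ i, fB (fBi i) = i := by decide +kernel

/-- the permutation of the 126 isotropic points induced by `a` -/
def a126 : Equiv.Perm (Fin 126) := ⟨fA, fA, fA_inv, fA_inv⟩
/-- the permutation of the 126 isotropic points induced by `b` -/
def b126 : Equiv.Perm (Fin 126) := ⟨fB, fBi, fB_l, fB_r⟩

def gA (i : Fin 50) : Fin 50 := ⟨lk 6 sA i.val % 50, Nat.mod_lt _ (by norm_num)⟩
def gB (i : Fin 50) : Fin 50 := ⟨lk 6 sB i.val % 50, Nat.mod_lt _ (by norm_num)⟩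
def gBi (i : Fin 50) : Fin 50 := ⟨lk 6 sBi i.val % 50, Nat.mod_lt _ (by norm_num)⟩

theorem gA_inv : ∀ i, gA (gA i) = i := by decide +kernel
theorem gB_l : ∀ i, gBi (gB i) = i := by decide +kernel
theorem gB_r : ∀ i, gB (gBi i) = i := by decide +kernel

/-- the permutation of the 50 cosets induced by `a` -/
def a50 : Equiv.Perm (Fin 50) := ⟨gA, gA, gA_inv, gA_inv⟩
/-- the permutation of the 50 cosets induced by `b` -/
def b50 : Equiv.Perm (Fin 50) := ⟨gB, gBi, gB_l, gB_r⟩

/-- the relators of the presentation -/
abbrev RS : Set (FreeGroup Gen) := Cfsg.Spor.coxRelators edges ∪ {r | r ∈ extra}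

/-- the presented group of order 126000 -/
abbrev P : Type := PresentedGroup RS

section rels
variable {M : Type*} [Group M] (x y : M)

/-- the six relators hold for `x, y` -/
def RelsHold : Prop :=
  x * x = 1 ∧ y * y * y * y * y * y * y * y * y * y = 1 ∧
  x * y * y * y * x * y * y * y * x * y * y * y * x * y * y * y * x * y * y * y * x * y * y * y * x * y * y * y = 1 ∧
  x * y * x * y * x * y * x * y * x * y * x * y * x * y * x * y = 1 ∧
  x * y * y * y * y * y * x * y * y * y * y * y * x * y * y * y * y * y = 1 ∧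
  x * y⁻¹ * x * y * y * x * y⁻¹ * x * y⁻¹ * x * y⁻¹ * x * y * y * x * y⁻¹ * x * y * y * y * y = 1

/-- the images of the generators -/
def genMap : Gen → M
  | Gen.a => x
  | Gen.b => y

theorem rel_ok (h : RelsHold x y) : ∀ r ∈ RS, FreeGroup.lift (genMap x y) r = 1 := by
  intro r hr
  obtain ⟨h1, h2, h3, h4, h5, h6⟩ := h
  rcases hr with hr | hr
  · simp [Cfsg.Spor.coxRelators, Cfsg.Spor.coxNodes, edges] at hr
  · simp only [Set.mem_ofPred_eq, extra, List.mem_cons, List.not_mem_nil, or_false] at hr
    rcases hr with rfl | rfl | rfl | rfl | rfl | rfl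
    · simp only [map_mul, map_inv, FreeGroup.lift_apply_of, a, b, genMap]; exact h1
    · simp only [map_mul, map_inv, FreeGroup.lift_apply_of, a, b, genMap]; exact h2
    · simp only [map_mul, map_inv, FreeGroup.lift_apply_of, a, b, genMap]; exact h3
    · simp only [map_mul, map_inv, FreeGroup.lift_apply_of, a, b, genMap]; exact h4
    · simp only [map_mul, map_inv, FreeGroup.lift_apply_of, a, b, genMap]; exact h5
    · simp only [map_mul, map_inv, FreeGroup.lift_apply_of, a, b, genMap]; exact h6

end rels

theorem rels126 : RelsHold a126 b126 := by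
  refine ⟨?_, ?_, ?_, ?_, ?_, ?_⟩ <;> (apply Equiv.ext; decide +kernel)

theorem rels50 : RelsHold a50 b50 := by
  refine ⟨?_, ?_, ?_, ?_, ?_, ?_⟩ <;> (apply Equiv.ext; decide +kernel)

/-- the action on the 126 isotropic points -/
def rho : P →* Equiv.Perm (Fin 126) := PresentedGroup.toGroup (rel_ok a126 b126 rels126)

/-- the action on the 50 cosets -/
def sig : P →* Equiv.Perm (Fin 50) := PresentedGroup.toGroup (rel_ok a50 b50 rels50)

/-- the generators of `P` -/
def pa : P := PresentedGroup.of Gen.a
def pb : P := PresentedGroup.of Gen.b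

theorem rho_a : rho pa = a126 := PresentedGroup.toGroup.of (rel_ok a126 b126 rels126)
theorem rho_b : rho pb = b126 := PresentedGroup.toGroup.of (rel_ok a126 b126 rels126)
theorem sig_a : sig pa = a50 := PresentedGroup.toGroup.of (rel_ok a50 b50 rels50)
theorem sig_b : sig pb = b50 := PresentedGroup.toGroup.of (rel_ok a50 b50 rels50)

end Cfsg.Agent.Lib.Helper9.U35Min
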