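import Mathlib
import Cfsg.Agent.Lib.Helper1.Nilpotent

/-!
# S3174 (architect helper19), Part I, steps I.1 and I.2: generic facts on the upper central series
of a finite `p`-group (helper9).

* `ucs_lt_succ` : `Z_i ≠ ⊤ → Z_i < Z_{i+1}`;
* `card_ucs_ge`, `card_ucs_eq_of_card_eq` : orders along the series;
* `normal_le_ucs` : a normal subgroup of order `≤ p ^ k` lies in `Z_k`;
* `normal_eq_ucs` : a normal subgroup of order `p ^ j = #Z_j` equals `Z_j`.
-/

set_option autoImplicit false

namespace Cfsg.Agent.Lib.Helper9.RUI12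

open scoped commutatorElement

variable {T : Type*} [Group T] [Finite T] {p : ℕ} [Fact p.Prime]

/-- strict inclusion of subgroups of a finite `p`-group multiplies the order by at least `p` -/
theorem card_mul_le_of_lt (hT : IsPGroup p T) {A B : Subgroup T} (hlt : A < B) :
    p * Nat.card ↥A ≤ Nat.card ↥B := by
  have hp : p.Prime := Fact.out
  obtain ⟨s, hs⟩ := (hT.to_subgroup A).exists_card_eq
  obtain ⟨t, ht⟩ := (hT.to_subgroup B).exists_card_eq
  have hlt' : Nat.card ↥A < Nat.card ↥B := by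
    refine lt_of_le_of_ne (Subgroup.card_le_of_le hlt.le) ?_
    intro he
    exact hlt.ne (Subgroup.eq_of_le_of_card_ge hlt.le he.ge)
  rw [hs, ht] at hlt' ⊢
  have hst : s < t := (Nat.pow_lt_pow_iff_right hp.one_lt).mp hlt'
  calc p * p ^ s = p ^ (s + 1) := by ring
    _ ≤ p ^ t := Nat.pow_le_pow_right hp.pos hst

/-- the key step: a normal subgroup not inside `Z_i` meets `Z_{i+1}` in more than it meets `Z_i` -/
theorem inf_ucs_lt (hT : IsPGroup p T) (N : Subgroup T) [hN : N.Normal] (i : ℕ)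
    (h : ¬ N ≤ Subgroup.upperCentralSeries T i) :
    N ⊓ Subgroup.upperCentralSeries T i < N ⊓ Subgroup.upperCentralSeries T (i + 1) := by
  set Z := Subgroup.upperCentralSeries T i with hZ
  have hmono : Z ≤ Subgroup.upperCentralSeries T (i + 1) := Subgroup.upperCentralSeries_mono T (Nat.le_succ i)
  have hQp : IsPGroup p (T ⧸ Z) := hT.to_quotient Z
  have : Group.IsNilpotent (T ⧸ Z) := hQp.isNilpotent
  have hsurj : Function.Surjective (QuotientGroup.mk' Z) := QuotientGroup.mk'_surjective Z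
  have hNbar : (N.map (QuotientGroup.mk' Z)).Normal := hN.map _ hsurj
  have hne : N.map (QuotientGroup.mk' Z) ≠ ⊥ := by
    intro hbot
    rw [Subgroup.map_eq_bot_iff, QuotientGroup.ker_mk'] at hbot
    exact h hbot
  have h1 := Cfsg.Agent.Lib.Helper1.inf_center_ne_bot_of_normal (N.map (QuotientGroup.mk' Z)) hne
  obtain ⟨⟨y, hy⟩, hy1⟩ := (Subgroup.ne_bot_iff_exists_ne_one).mp h1
  obtain ⟨hyN, hyZ⟩ := Subgroup.mem_inf.mp hy
  obtain ⟨x, hxN, rfl⟩ := hyN
  have hxZ : x ∉ Z := by
    intro hx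
    apply hy1
    apply Subtype.ext
    exact (QuotientGroup.eq_one_iff x).mpr hx
  have hxZ1 : x ∈ Subgroup.upperCentralSeries T (i + 1) := by
    rw [Subgroup.mem_upperCentralSeries_succ_iff]
    intro t
    have h2 : (QuotientGroup.mk' Z) ⁅x, t⁆ = 1 := by
      rw [map_commutatorElement, commutatorElement_eq_one_iff_mul_comm]
      exact ((Subgroup.mem_center_iff.mp hyZ) ((QuotientGroup.mk' Z) t)).symm
    exact (QuotientGroup.eq_one_iff _).mp h2
  refine lt_of_le_of_ne (inf_le_inf_left N hmono) ?_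
  intro he
  have h3 : x ∈ N ⊓ Subgroup.upperCentralSeries T (i + 1) := Subgroup.mem_inf.mpr ⟨hxN, hxZ1⟩
  rw [← he] at h3
  exact hxZ (Subgroup.mem_inf.mp h3).2

/-- I.1: the upper central series of a finite `p`-group is strictly increasing until it reaches `⊤` -/
theorem ucs_lt_succ (hT : IsPGroup p T) (i : ℕ) (h : Subgroup.upperCentralSeries T i ≠ ⊤) :
    Subgroup.upperCentralSeries T i < Subgroup.upperCentralSeries T (i + 1) := by
  have h1 := inf_ucs_lt hT (⊤ : Subgroup T) i (by rwa [top_le_iff])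
  simpa using h1

/-- orders of `N ⊓ Z_{i+1}` for a normal subgroup `N` not inside `Z_i` -/
theorem card_inf_ucs_ge (hT : IsPGroup p T) (N : Subgroup T) [N.Normal] :
    ∀ i : ℕ, ¬ N ≤ Subgroup.upperCentralSeries T i →
      p ^ (i + 1) ≤ Nat.card ↥(N ⊓ Subgroup.upperCentralSeries T (i + 1)) := by
  intro i
  induction i with
  | zero =>
    intro h
    have h1 := card_mul_le_of_lt hT (inf_ucs_lt hT N 0 h)
    have h2 : 1 ≤ Nat.card ↥(N ⊓ Subgroup.upperCentralSeries T 0) := Nat.card_pos
    calc p ^ (0 + 1) = p * 1 := by ring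
      _ ≤ p * Nat.card ↥(N ⊓ Subgroup.upperCentralSeries T 0) := Nat.mul_le_mul_left p h2
      _ ≤ _ := h1
  | succ i ih =>
    intro h
    have h0 : ¬ N ≤ Subgroup.upperCentralSeries T i :=
      fun h' => h (h'.trans (Subgroup.upperCentralSeries_mono T (Nat.le_succ i)))
    have h1 := card_mul_le_of_lt hT (inf_ucs_lt hT N (i + 1) h)
    calc p ^ (i + 1 + 1) = p * p ^ (i + 1) := by ring
      _ ≤ p * Nat.card ↥(N ⊓ Subgroup.upperCentralSeries T (i + 1)) := Nat.mul_le_mul_left p (ih h0)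
      _ ≤ _ := h1

/-- I.1': `p ^ (i+1) ≤ #Z_{i+1}` as long as `Z_i ≠ ⊤` -/
theorem card_ucs_ge (hT : IsPGroup p T) (i : ℕ) (h : Subgroup.upperCentralSeries T i ≠ ⊤) :
    p ^ (i + 1) ≤ Nat.card ↥(Subgroup.upperCentralSeries T (i + 1)) := by
  have h1 := card_inf_ucs_ge hT (⊤ : Subgroup T) i (by rwa [top_le_iff])
  simpa using h1

/-- I.2: a normal subgroup of order at most `p ^ k` of a finite `p`-group lies in `Z_k` -/
theorem normal_le_ucs (hT : IsPGroup p T) (N : Subgroup T) [N.Normal] (k : ℕ)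
    (hN : Nat.card ↥N ≤ p ^ k) : N ≤ Subgroup.upperCentralSeries T k := by
  have hp : p.Prime := Fact.out
  cases k with
  | zero =>
    have h1 : Nat.card ↥N = 1 := le_antisymm (by simpa using hN) Nat.card_pos
    rw [Subgroup.card_eq_one.mp h1]
    exact bot_le
  | succ k =>
    by_contra hcon
    have h0 : ¬ N ≤ Subgroup.upperCentralSeries T k :=
      fun h' => hcon (h'.trans (Subgroup.upperCentralSeries_mono T (Nat.le_succ k)))
    have h1 := card_inf_ucs_ge hT N k h0
    have h2 : Nat.card ↥(N ⊓ Subgroup.upperCentralSeries T (k + 1)) ≤ Nat.card ↥N :=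
      Subgroup.card_le_of_le inf_le_left
    have h3 : N ⊓ Subgroup.upperCentralSeries T (k + 1) = N :=
      Subgroup.eq_of_le_of_card_ge inf_le_left (hN.trans h1)
    exact hcon (inf_eq_left.mp h3)

/-- I.2': a normal subgroup of the same order `p ^ j` as `Z_j` equals `Z_j` -/
theorem normal_eq_ucs (hT : IsPGroup p T) (N : Subgroup T) [N.Normal] (j : ℕ)
    (hN : Nat.card ↥N = p ^ j) (hZ : Nat.card ↥(Subgroup.upperCentralSeries T j) = p ^ j) :
    N = Subgroup.upperCentralSeries T j :=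
  Subgroup.eq_of_le_of_card_ge (normal_le_ucs hT N j hN.le) (by rw [hN, hZ])

/-- `#Z_i * p ^ d ≤ #Z_{i+d}` as long as the series has not reached `⊤` before `i + d` -/
theorem card_ucs_mul_le (hT : IsPGroup p T) (i : ℕ) :
    ∀ d : ℕ, (∀ j, i ≤ j → j < i + d → Subgroup.upperCentralSeries T j ≠ ⊤) →
      Nat.card ↥(Subgroup.upperCentralSeries T i) * p ^ d ≤ Nat.card ↥(Subgroup.upperCentralSeries T (i + d)) := by
  intro d
  induction d with
  | zero => intro _; simp
  | succ d ih =>
    intro h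
    have h1 := ih (fun j hj1 hj2 => h j hj1 (by omega))
    have h2 := card_mul_le_of_lt hT (ucs_lt_succ hT (i + d) (h (i + d) (by omega) (by omega)))
    calc Nat.card ↥(Subgroup.upperCentralSeries T i) * p ^ (d + 1)
        = p * (Nat.card ↥(Subgroup.upperCentralSeries T i) * p ^ d) := by ring
      _ ≤ p * Nat.card ↥(Subgroup.upperCentralSeries T (i + d)) := Nat.mul_le_mul_left p h1
      _ ≤ Nat.card ↥(Subgroup.upperCentralSeries T (i + d + 1)) := h2

/-- I.1'': if `#Z_n = p ^ n` and `Z_n ≠ ⊤`, then `#Z_i = p ^ i` for all `i ≤ n` -/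
theorem card_ucs_eq_of_card_eq (hT : IsPGroup p T) (n : ℕ)
    (hn : Nat.card ↥(Subgroup.upperCentralSeries T n) = p ^ n) (hne : Subgroup.upperCentralSeries T n ≠ ⊤) :
    ∀ i ≤ n, Nat.card ↥(Subgroup.upperCentralSeries T i) = p ^ i := by
  have hp : p.Prime := Fact.out
  have hall : ∀ j ≤ n, Subgroup.upperCentralSeries T j ≠ ⊤ := by
    intro j hj htop
    apply hne
    rw [← top_le_iff, ← htop]
    exact Subgroup.upperCentralSeries_mono T hj
  intro i hi
  apply le_antisymm
  · have h1 := card_ucs_mul_le hT i (n - i) (fun j _ hj2 => hall j (by omega))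
    have h2 : i + (n - i) = n := by omega
    rw [h2, hn] at h1
    have h3 : p ^ n = p ^ i * p ^ (n - i) := by rw [← pow_add, h2]
    rw [h3] at h1
    exact Nat.le_of_mul_le_mul_right h1 (pow_pos hp.pos _)
  · have h1 := card_ucs_mul_le hT 0 i (fun j _ hj2 => hall j (by omega))
    simpa using h1

end Cfsg.Agent.Lib.Helper9.RUI12
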