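import Mathlib
import Cfsg.Agent.Lib.Helper7.U34Defs
import Cfsg.Agent.Lib.Helper7.U34Cert
import Cfsg.Agent.Lib.Helper7.U34Cert2

/-!
# S3663, piece PB0 (helper9): semantics of helper7's list operations over `ZMod 5`

Exact statements of `notes/S3663Skel_helper7.lean.txt`: `mulVec_toMat`, `toMat_mmL`, `wfB_mmL`, `toMat_addL`, `wfB_addL`,
`toMat_idL`, `toMat_zeroL`, `toMat_powL`, `toMat_sumPowL`, `unitOf_val`, `gP_val`, `gT_val`, `gD_val`, `vecOf_inj`.
-/

set_option autoImplicit false

namespace Cfsg.Agent.Lib.Helper9.U34PB0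

open Matrix Cfsg.Agent.Lib.Helper7.U34

/-! ### list lemmas -/

theorem getD_map_of_lt {α β : Type*} (f : α → β) (l : List α) (i : ℕ) (hi : i < l.length) (da : α) (db : β) :
    (l.map f).getD i db = f (l.getD i da) := by
  rw [List.getD_eq_getElem _ _ (by rw [List.length_map]; exact hi), List.getD_eq_getElem _ _ hi, List.getElem_map]

theorem getD_zipWith_of_lt {α β γ : Type*} (f : α → β → γ) (l : List α) (m : List β) (i : ℕ)
    (hl : i < l.length) (hm : i < m.length) (da : α) (db : β) (dc : γ) :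
    (List.zipWith f l m).getD i dc = f (l.getD i da) (m.getD i db) := by
  rw [List.getD_eq_getElem _ _ (by rw [List.length_zipWith]; exact lt_min hl hm), List.getD_eq_getElem _ _ hl,
    List.getD_eq_getElem _ _ hm, List.getElem_zipWith]

theorem getD_range_of_lt (n i : ℕ) (hi : i < n) (d : ℕ) : (List.range n).getD i d = i := by
  rw [List.getD_eq_getElem _ _ (by rw [List.length_range]; exact hi), List.getElem_range]

/-- the sum of a `zipWith` product as a sum over `Fin n` -/
theorem sum_zipWith_mul : ∀ (n : ℕ) (r v : List ℕ), r.length = n → v.length = n →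
    (List.zipWith (· * ·) r v).sum = ∑ j : Fin n, r.getD j.val 0 * v.getD j.val 0 := by
  intro n
  induction n with
  | zero =>
    intro r v hr hv
    rw [List.length_eq_zero_iff] at hr
    subst hr
    simp
  | succ m ih =>
    intro r v hr hv
    match r, v, hr, hv with
    | a :: r', b :: v', hr, hv =>
      have hr' : r'.length = m := by simpa using hr
      have hv' : v'.length = m := by simpa using hv
      rw [List.zipWith_cons_cons, List.sum_cons, ih r' v' hr' hv', Fin.sum_univ_succ]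
      rfl

/-! ### well-formedness -/

theorem wfB_iff (A : List (List ℕ)) : wfB A = true ↔ A.length = 12 ∧ ∀ r ∈ A, r.length = 12 := by
  unfold wfB
  rw [Bool.and_eq_true, beq_iff_eq, List.all_eq_true]
  constructor
  · rintro ⟨h1, h2⟩
    exact ⟨h1, fun r hr => by simpa using h2 r hr⟩
  · rintro ⟨h1, h2⟩
    exact ⟨h1, fun r hr => by simpa using h2 r hr⟩

theorem wfB_length {A : List (List ℕ)} (hA : wfB A = true) : A.length = 12 := ((wfB_iff A).mp hA).1

theorem wfB_row {A : List (List ℕ)} (hA : wfB A = true) (i : ℕ) (hi : i < 12) : (A.getD i []).length = 12 := by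
  have h := (wfB_iff A).mp hA
  rw [List.getD_eq_getElem _ _ (by rw [h.1]; exact hi)]
  exact h.2 _ (List.getElem_mem _)

/-- the dot product, cast to `ZMod 5` -/
theorem dotL_cast (r v : List ℕ) (hr : r.length = 12) (hv : v.length = 12) :
    ((dotL r v : ℕ) : ZMod 5) = ∑ j : Fin 12, ((r.getD j.val 0 : ℕ) : ZMod 5) * ((v.getD j.val 0 : ℕ) : ZMod 5) := by
  unfold dotL
  rw [ZMod.natCast_mod, sum_zipWith_mul 12 r v hr hv, Nat.cast_sum]
  simp only [Nat.cast_mul]

theorem mulVec_toMat (A : List (List ℕ)) (v : List ℕ) (hA : wfB A = true) (hv : v.length = 12) :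
    toMat A *ᵥ vecOf v = vecOf (mvL A v) := by
  funext i
  have hi : i.val < A.length := by rw [wfB_length hA]; exact i.isLt
  show ∑ j : Fin 12, toMat A i j * vecOf v j = vecOf (mvL A v) i
  unfold vecOf mvL
  rw [getD_map_of_lt _ A i.val hi [] 0, dotL_cast _ _ (wfB_row hA i.val i.isLt) hv]
  rfl

theorem colL_length (B : List (List ℕ)) (j : ℕ) : (colL B j).length = B.length := by
  unfold colL; rw [List.length_map]

theorem colL_getD (B : List (List ℕ)) (hB : wfB B = true) (j k : ℕ) (hk : k < 12) :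
    (colL B j).getD k 0 = (B.getD k []).getD j 0 := by
  unfold colL
  rw [getD_map_of_lt _ B k (by rw [wfB_length hB]; exact hk) [] 0]

theorem mmL_getD (A B : List (List ℕ)) (hA : wfB A = true) (i k : ℕ) (hi : i < 12) (hk : k < 12) :
    ((mmL A B).getD i []).getD k 0 = dotL (A.getD i []) (colL B k) := by
  unfold mmL
  rw [getD_map_of_lt _ A i (by rw [wfB_length hA]; exact hi) [] [],
    getD_map_of_lt _ (List.range 12) k (by rw [List.length_range]; exact hk) 0 0, getD_range_of_lt 12 k hk]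

theorem toMat_mmL (A B : List (List ℕ)) (hA : wfB A = true) (hB : wfB B = true) :
    toMat A * toMat B = toMat (mmL A B) := by
  ext i k
  show ∑ j : Fin 12, toMat A i j * toMat B j k = toMat (mmL A B) i k
  unfold toMat
  rw [mmL_getD A B hA i.val k.val i.isLt k.isLt,
    dotL_cast _ _ (wfB_row hA i.val i.isLt) (by rw [colL_length, wfB_length hB])]
  apply Finset.sum_congr rfl
  intro j _
  rw [colL_getD B hB k.val j.val j.isLt]

theorem wfB_mmL (A B : List (List ℕ)) (hA : wfB A = true) : wfB (mmL A B) = true := by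
  rw [wfB_iff]
  unfold mmL
  refine ⟨by rw [List.length_map]; exact wfB_length hA, ?_⟩
  intro r hr
  obtain ⟨s, _, rfl⟩ := List.mem_map.mp hr
  rw [List.length_map, List.length_range]

theorem addL_getD (A B : List (List ℕ)) (hA : wfB A = true) (hB : wfB B = true) (i j : ℕ) (hi : i < 12)
    (hj : j < 12) :
    ((addL A B).getD i []).getD j 0 = ((A.getD i []).getD j 0 + (B.getD i []).getD j 0) % 5 := by
  unfold addL
  rw [getD_zipWith_of_lt _ A B i (by rw [wfB_length hA]; exact hi) (by rw [wfB_length hB]; exact hi) [] [] [],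
    getD_zipWith_of_lt _ _ _ j (by rw [wfB_row hA i hi]; exact hj) (by rw [wfB_row hB i hi]; exact hj) 0 0 0]

theorem toMat_addL (A B : List (List ℕ)) (hA : wfB A = true) (hB : wfB B = true) :
    toMat A + toMat B = toMat (addL A B) := by
  ext i j
  show toMat A i j + toMat B i j = toMat (addL A B) i j
  unfold toMat
  rw [addL_getD A B hA hB i.val j.val i.isLt j.isLt, ZMod.natCast_mod, Nat.cast_add]

theorem wfB_addL (A B : List (List ℕ)) (hA : wfB A = true) (hB : wfB B = true) :
    wfB (addL A B) = true := by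
  rw [wfB_iff]
  have hA' := (wfB_iff A).mp hA
  have hB' := (wfB_iff B).mp hB
  unfold addL
  refine ⟨by rw [List.length_zipWith, hA'.1, hB'.1]; rfl, ?_⟩
  intro r hr
  rw [List.mem_iff_getElem] at hr
  obtain ⟨n, hn, rfl⟩ := hr
  rw [List.getElem_zipWith, List.length_zipWith, hA'.2 _ (List.getElem_mem _), hB'.2 _ (List.getElem_mem _)]
  rfl

theorem idL_getD : ∀ i j : Fin 12, (idL.getD i.val []).getD j.val 0 = if i = j then 1 else 0 := by decide

theorem zeroL_getD : ∀ i j : Fin 12, (zeroL.getD i.val []).getD j.val 0 = 0 := by decide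

theorem toMat_idL : toMat idL = 1 := by
  ext i j
  show (((idL.getD i.val []).getD j.val 0 : ℕ) : ZMod 5) = (1 : Matrix (Fin 12) (Fin 12) (ZMod 5)) i j
  rw [idL_getD i j, Matrix.one_apply]
  split_ifs <;> simp

theorem toMat_zeroL : toMat zeroL = 0 := by
  ext i j
  show (((zeroL.getD i.val []).getD j.val 0 : ℕ) : ZMod 5) = (0 : Matrix (Fin 12) (Fin 12) (ZMod 5)) i j
  rw [zeroL_getD i j]
  simp

theorem wfB_idL : wfB idL = true := by decide

theorem wfB_zeroL : wfB zeroL = true := by decide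

theorem toMat_powL (A : List (List ℕ)) (hA : wfB A = true) (k : ℕ) :
    toMat A ^ k = toMat (powL A k) ∧ wfB (powL A k) = true := by
  induction k with
  | zero => exact ⟨by rw [pow_zero]; exact toMat_idL.symm, wfB_idL⟩
  | succ k ih =>
    refine ⟨?_, wfB_mmL _ _ ih.2⟩
    rw [pow_succ, ih.1]
    exact toMat_mmL _ _ ih.2 hA

theorem toMat_sumPowL (A : List (List ℕ)) (hA : wfB A = true) (k : ℕ) :
    ∑ i ∈ Finset.range k, toMat A ^ i = toMat (sumPowL A k) ∧ wfB (sumPowL A k) = true := by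
  induction k with
  | zero => exact ⟨by rw [Finset.sum_range_zero]; exact toMat_zeroL.symm, wfB_zeroL⟩
  | succ k ih =>
    have hp := toMat_powL A hA k
    refine ⟨?_, wfB_addL _ _ ih.2 hp.2⟩
    rw [Finset.sum_range_succ, ih.1, hp.1]
    exact toMat_addL _ _ ih.2 hp.2

theorem unitOf_val (A B : List (List ℕ)) (hA : wfB A = true) (hB : wfB B = true)
    (h1 : (mmL A B == idL) = true) (h2 : (mmL B A == idL) = true) :
    ((unitOf A B : GL (Fin 12) (ZMod 5)) : Matrix (Fin 12) (Fin 12) (ZMod 5)) = toMat A := by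
  have e1 : toMat A * toMat B = 1 := by
    rw [toMat_mmL A B hA hB, eq_of_beq h1, toMat_idL]
  have e2 : toMat B * toMat A = 1 := by
    rw [toMat_mmL B A hB hA, eq_of_beq h2, toMat_idL]
  unfold unitOf
  rw [dif_pos ⟨e1, e2⟩]

/-- equal vectors of `𝔽₅¹²` from lists with entries `< 5` come from equal lists -/
theorem vecOf_inj (u v : List ℕ) (hu : u.length = 12) (hv : v.length = 12)
    (hu5 : ∀ x ∈ u, x < 5) (hv5 : ∀ x ∈ v, x < 5) (h : vecOf u = vecOf v) : u = v := by
  apply List.ext_getElem (by rw [hu, hv])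
  intro i h1 h2
  have hi : i < 12 := by rw [← hu]; exact h1
  have h3 := congrFun h ⟨i, hi⟩
  unfold vecOf at h3
  rw [List.getD_eq_getElem _ _ h1, List.getD_eq_getElem _ _ h2] at h3
  have h4 := congrArg ZMod.val h3
  rw [ZMod.val_natCast, ZMod.val_natCast, Nat.mod_eq_of_lt (hu5 _ (List.getElem_mem _)),
    Nat.mod_eq_of_lt (hv5 _ (List.getElem_mem _))] at h4
  exact h4

theorem wf_all : wfB rP = true ∧ wfB rPi = true ∧ wfB rT = true ∧ wfB rTi = true ∧ wfB rD = true ∧ wfB rDi = true := by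
  have h := wf_ok
  simp only [Bool.and_eq_true] at h
  obtain ⟨⟨⟨⟨⟨h1, h2⟩, h3⟩, h4⟩, h5⟩, h6⟩ := h
  exact ⟨h1, h2, h3, h4, h5, h6⟩

theorem inv_all : (mmL rP rPi == idL) = true ∧ (mmL rPi rP == idL) = true ∧ (mmL rT rTi == idL) = true ∧
    (mmL rTi rT == idL) = true ∧ (mmL rD rDi == idL) = true ∧ (mmL rDi rD == idL) = true := by
  have h := inv_ok
  simp only [Bool.and_eq_true] at h
  obtain ⟨⟨⟨⟨⟨h1, h2⟩, h3⟩, h4⟩, h5⟩, h6⟩ := h
  exact ⟨h1, h2, h3, h4, h5, h6⟩

theorem gP_val : ((gP : GL (Fin 12) (ZMod 5)) : Matrix (Fin 12) (Fin 12) (ZMod 5)) = toMat rP :=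
  unitOf_val rP rPi wf_all.1 wf_all.2.1 inv_all.1 inv_all.2.1

theorem gT_val : ((gT : GL (Fin 12) (ZMod 5)) : Matrix (Fin 12) (Fin 12) (ZMod 5)) = toMat rT :=
  unitOf_val rT rTi wf_all.2.2.1 wf_all.2.2.2.1 inv_all.2.2.1 inv_all.2.2.2.1

theorem gD_val : ((gD : GL (Fin 12) (ZMod 5)) : Matrix (Fin 12) (Fin 12) (ZMod 5)) = toMat rD :=
  unitOf_val rD rDi wf_all.2.2.2.2.1 wf_all.2.2.2.2.2 inv_all.2.2.2.2.1 inv_all.2.2.2.2.2

end Cfsg.Agent.Lib.Helper9.U34PB0
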