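import Cfsg.Agent.Lib.Helper9.Co2MRELDefs

/-! S2044 piece [MOD-REL] (helper9 for helper1): the words 0, …, 53 of `wordsAll` are trivial on the 4600 points -/

set_option autoImplicit false
set_option maxRecDepth 100000
set_option Elab.async false

namespace Cfsg.Agent.Lib.Helper1.Co2M.Helper9

theorem okG_0 : okG 0 = true := by decide +kernel
theorem okG_1 : okG 1 = true := by decide +kernel
theorem okG_2 : okG 2 = true := by decide +kernel
theorem okG_3 : okG 3 = true := by decide +kernel
theorem okG_4 : okG 4 = true := by decide +kernel
theorem okG_5 : okG 5 = true := by decide +kernel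
theorem okG_6 : okG 6 = true := by decide +kernel
theorem okG_7 : okG 7 = true := by decide +kernel
theorem okG_8 : okG 8 = true := by decide +kernel
theorem okG_9 : okG 9 = true := by decide +kernel
theorem okG_10 : okG 10 = true := by decide +kernel
theorem okG_11 : okG 11 = true := by decide +kernel
theorem okG_12 : okG 12 = true := by decide +kernel
theorem okG_13 : okG 13 = true := by decide +kernel
theorem okG_14 : okG 14 = true := by decide +kernel
theorem okG_15 : okG 15 = true := by decide +kernel
theorem okG_16 : okG 16 = true := by decide +kernel
theorem okG_17 : okG 17 = true := by decide +kernel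
theorem okG_18 : okG 18 = true := by decide +kernel
theorem okG_19 : okG 19 = true := by decide +kernel
theorem okG_20 : okG 20 = true := by decide +kernel
theorem okG_21 : okG 21 = true := by decide +kernel
theorem okG_22 : okG 22 = true := by decide +kernel
theorem okG_23 : okG 23 = true := by decide +kernel
theorem okG_24 : okG 24 = true := by decide +kernel
theorem okG_25 : okG 25 = true := by decide +kernel
theorem okG_26 : okG 26 = true := by decide +kernel
theorem okG_27 : okG 27 = true := by decide +kernel
theorem okG_28 : okG 28 = true := by decide +kernel
theorem okG_29 : okG 29 = true := by decide +kernel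
theorem okG_30 : okG 30 = true := by decide +kernel
theorem okG_31 : okG 31 = true := by decide +kernel
theorem okG_32 : okG 32 = true := by decide +kernel
theorem okG_33 : okG 33 = true := by decide +kernel
theorem okG_34 : okG 34 = true := by decide +kernel
theorem okG_35 : okG 35 = true := by decide +kernel
theorem okG_36 : okG 36 = true := by decide +kernel
theorem okG_37 : okG 37 = true := by decide +kernel
theorem okG_38 : okG 38 = true := by decide +kernel
theorem okG_39 : okG 39 = true := by decide +kernel
theorem okG_40 : okG 40 = true := by decide +kernel
theorem okG_41 : okG 41 = true := by decide +kernel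
theorem okG_42 : okG 42 = true := by decide +kernel
theorem okG_43 : okG 43 = true := by decide +kernel
theorem okG_44 : okG 44 = true := by decide +kernel
theorem okG_45 : okG 45 = true := by decide +kernel
theorem okG_46 : okG 46 = true := by decide +kernel
theorem okG_47 : okG 47 = true := by decide +kernel
theorem okG_48 : okG 48 = true := by decide +kernel
theorem okG_49 : okG 49 = true := by decide +kernel
theorem okG_50 : okG 50 = true := by decide +kernel
theorem okG_51 : okG 51 = true := by decide +kernel
theorem okG_52 : okG 52 = true := by decide +kernel
theorem okG_53 : okG 53 = true := by decide +kernel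

theorem okG_chunk01 (j : ℕ) (h1 : 0 ≤ j) (h2 : j < 54) : okG j = true := by
  interval_cases j
  · exact okG_0
  · exact okG_1
  · exact okG_2
  · exact okG_3
  · exact okG_4
  · exact okG_5
  · exact okG_6
  · exact okG_7
  · exact okG_8
  · exact okG_9
  · exact okG_10
  · exact okG_11
  · exact okG_12
  · exact okG_13
  · exact okG_14
  · exact okG_15
  · exact okG_16
  · exact okG_17
  · exact okG_18
  · exact okG_19
  · exact okG_20
  · exact okG_21
  · exact okG_22
  · exact okG_23
  · exact okG_24
  · exact okG_25
  · exact okG_26
  · exact okG_27
  · exact okG_28
  · exact okG_29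
  · exact okG_30
  · exact okG_31
  · exact okG_32
  · exact okG_33
  · exact okG_34
  · exact okG_35
  · exact okG_36
  · exact okG_37
  · exact okG_38
  · exact okG_39
  · exact okG_40
  · exact okG_41
  · exact okG_42
  · exact okG_43
  · exact okG_44
  · exact okG_45
  · exact okG_46
  · exact okG_47
  · exact okG_48
  · exact okG_49
  · exact okG_50
  · exact okG_51
  · exact okG_52
  · exact okG_53

end Cfsg.Agent.Lib.Helper1.Co2M.Helper9
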