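import Cfsg.Agent.Lib.Helper9.Co2MRELDefs

/-! S2044 piece [MOD-REL] (helper9 for helper1): the words 54, …, 90 of `wordsAll` are trivial on the 4600 points -/

set_option autoImplicit false
set_option maxRecDepth 100000
set_option Elab.async false

namespace Cfsg.Agent.Lib.Helper1.Co2M.Helper9

theorem okG_54 : okG 54 = true := by decide +kernel
theorem okG_55 : okG 55 = true := by decide +kernel
theorem okG_56 : okG 56 = true := by decide +kernel
theorem okG_57 : okG 57 = true := by decide +kernel
theorem okG_58 : okG 58 = true := by decide +kernel
theorem okG_59 : okG 59 = true := by decide +kernel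
theorem okG_60 : okG 60 = true := by decide +kernel
theorem okG_61 : okG 61 = true := by decide +kernel
theorem okG_62 : okG 62 = true := by decide +kernel
theorem okG_63 : okG 63 = true := by decide +kernel
theorem okG_64 : okG 64 = true := by decide +kernel
theorem okG_65 : okG 65 = true := by decide +kernel
theorem okG_66 : okG 66 = true := by decide +kernel
theorem okG_67 : okG 67 = true := by decide +kernel
theorem okG_68 : okG 68 = true := by decide +kernel
theorem okG_69 : okG 69 = true := by decide +kernel
theorem okG_70 : okG 70 = true := by decide +kernel
theorem okG_71 : okG 71 = true := by decide +kernel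
theorem okG_72 : okG 72 = true := by decide +kernel
theorem okG_73 : okG 73 = true := by decide +kernel
theorem okG_74 : okG 74 = true := by decide +kernel
theorem okG_75 : okG 75 = true := by decide +kernel
theorem okG_76 : okG 76 = true := by decide +kernel
theorem okG_77 : okG 77 = true := by decide +kernel
theorem okG_78 : okG 78 = true := by decide +kernel
theorem okG_79 : okG 79 = true := by decide +kernel
theorem okG_80 : okG 80 = true := by decide +kernel
theorem okG_81 : okG 81 = true := by decide +kernel
theorem okG_82 : okG 82 = true := by decide +kernel
theorem okG_83 : okG 83 = true := by decide +kernel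
theorem okG_84 : okG 84 = true := by decide +kernel
theorem okG_85 : okG 85 = true := by decide +kernel
theorem okG_86 : okG 86 = true := by decide +kernel
theorem okG_87 : okG 87 = true := by decide +kernel
theorem okG_88 : okG 88 = true := by decide +kernel
theorem okG_89 : okG 89 = true := by decide +kernel
theorem okG_90 : okG 90 = true := by decide +kernel

theorem okG_chunk02 (j : ℕ) (h1 : 54 ≤ j) (h2 : j < 91) : okG j = true := by
  interval_cases j
  · exact okG_54
  · exact okG_55
  · exact okG_56
  · exact okG_57
  · exact okG_58
  · exact okG_59
  · exact okG_60
  · exact okG_61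
  · exact okG_62
  · exact okG_63
  · exact okG_64
  · exact okG_65
  · exact okG_66
  · exact okG_67
  · exact okG_68
  · exact okG_69
  · exact okG_70
  · exact okG_71
  · exact okG_72
  · exact okG_73
  · exact okG_74
  · exact okG_75
  · exact okG_76
  · exact okG_77
  · exact okG_78
  · exact okG_79
  · exact okG_80
  · exact okG_81
  · exact okG_82
  · exact okG_83
  · exact okG_84
  · exact okG_85
  · exact okG_86
  · exact okG_87
  · exact okG_88
  · exact okG_89
  · exact okG_90

end Cfsg.Agent.Lib.Helper1.Co2M.Helper9
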