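import Cfsg.Agent.Lib.Helper9.Co2MRELDefs

/-! S2044 piece [MOD-REL] (helper9 for helper1): the words 91, …, 125 of `wordsAll` are trivial on the 4600 points -/

set_option autoImplicit false
set_option maxRecDepth 100000
set_option Elab.async false

namespace Cfsg.Agent.Lib.Helper1.Co2M.Helper9

theorem okG_91 : okG 91 = true := by decide +kernel
theorem okG_92 : okG 92 = true := by decide +kernel
theorem okG_93 : okG 93 = true := by decide +kernel
theorem okG_94 : okG 94 = true := by decide +kernel
theorem okG_95 : okG 95 = true := by decide +kernel
theorem okG_96 : okG 96 = true := by decide +kernel
theorem okG_97 : okG 97 = true := by decide +kernel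
theorem okG_98 : okG 98 = true := by decide +kernel
theorem okG_99 : okG 99 = true := by decide +kernel
theorem okG_100 : okG 100 = true := by decide +kernel
theorem okG_101 : okG 101 = true := by decide +kernel
theorem okG_102 : okG 102 = true := by decide +kernel
theorem okG_103 : okG 103 = true := by decide +kernel
theorem okG_104 : okG 104 = true := by decide +kernel
theorem okG_105 : okG 105 = true := by decide +kernel
theorem okG_106 : okG 106 = true := by decide +kernel
theorem okG_107 : okG 107 = true := by decide +kernel
theorem okG_108 : okG 108 = true := by decide +kernel
theorem okG_109 : okG 109 = true := by decide +kernel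
theorem okG_110 : okG 110 = true := by decide +kernel
theorem okG_111 : okG 111 = true := by decide +kernel
theorem okG_112 : okG 112 = true := by decide +kernel
theorem okG_113 : okG 113 = true := by decide +kernel
theorem okG_114 : okG 114 = true := by decide +kernel
theorem okG_115 : okG 115 = true := by decide +kernel
theorem okG_116 : okG 116 = true := by decide +kernel
theorem okG_117 : okG 117 = true := by decide +kernel
theorem okG_118 : okG 118 = true := by decide +kernel
theorem okG_119 : okG 119 = true := by decide +kernel
theorem okG_120 : okG 120 = true := by decide +kernel
theorem okG_121 : okG 121 = true := by decide +kernel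
theorem okG_122 : okG 122 = true := by decide +kernel
theorem okG_123 : okG 123 = true := by decide +kernel
theorem okG_124 : okG 124 = true := by decide +kernel
theorem okG_125 : okG 125 = true := by decide +kernel

theorem okG_chunk03 (j : ℕ) (h1 : 91 ≤ j) (h2 : j < 126) : okG j = true := by
  interval_cases j
  · exact okG_91
  · exact okG_92
  · exact okG_93
  · exact okG_94
  · exact okG_95
  · exact okG_96
  · exact okG_97
  · exact okG_98
  · exact okG_99
  · exact okG_100
  · exact okG_101
  · exact okG_102
  · exact okG_103
  · exact okG_104
  · exact okG_105
  · exact okG_106
  · exact okG_107
  · exact okG_108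
  · exact okG_109
  · exact okG_110
  · exact okG_111
  · exact okG_112
  · exact okG_113
  · exact okG_114
  · exact okG_115
  · exact okG_116
  · exact okG_117
  · exact okG_118
  · exact okG_119
  · exact okG_120
  · exact okG_121
  · exact okG_122
  · exact okG_123
  · exact okG_124
  · exact okG_125

end Cfsg.Agent.Lib.Helper1.Co2M.Helper9
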