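import Cfsg.Agent.Lib.Helper9.Co2MRELDefs

/-! S2044 piece [MOD-REL] (helper9 for helper1): the words 126, …, 158 of `wordsAll` are trivial on the 4600 points -/

set_option autoImplicit false
set_option maxRecDepth 100000
set_option Elab.async false

namespace Cfsg.Agent.Lib.Helper1.Co2M.Helper9

theorem okG_126 : okG 126 = true := by decide +kernel
theorem okG_127 : okG 127 = true := by decide +kernel
theorem okG_128 : okG 128 = true := by decide +kernel
theorem okG_129 : okG 129 = true := by decide +kernel
theorem okG_130 : okG 130 = true := by decide +kernel
theorem okG_131 : okG 131 = true := by decide +kernel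
theorem okG_132 : okG 132 = true := by decide +kernel
theorem okG_133 : okG 133 = true := by decide +kernel
theorem okG_134 : okG 134 = true := by decide +kernel
theorem okG_135 : okG 135 = true := by decide +kernel
theorem okG_136 : okG 136 = true := by decide +kernel
theorem okG_137 : okG 137 = true := by decide +kernel
theorem okG_138 : okG 138 = true := by decide +kernel
theorem okG_139 : okG 139 = true := by decide +kernel
theorem okG_140 : okG 140 = true := by decide +kernel
theorem okG_141 : okG 141 = true := by decide +kernel
theorem okG_142 : okG 142 = true := by decide +kernel
theorem okG_143 : okG 143 = true := by decide +kernel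
theorem okG_144 : okG 144 = true := by decide +kernel
theorem okG_145 : okG 145 = true := by decide +kernel
theorem okG_146 : okG 146 = true := by decide +kernel
theorem okG_147 : okG 147 = true := by decide +kernel
theorem okG_148 : okG 148 = true := by decide +kernel
theorem okG_149 : okG 149 = true := by decide +kernel
theorem okG_150 : okG 150 = true := by decide +kernel
theorem okG_151 : okG 151 = true := by decide +kernel
theorem okG_152 : okG 152 = true := by decide +kernel
theorem okG_153 : okG 153 = true := by decide +kernel
theorem okG_154 : okG 154 = true := by decide +kernel
theorem okG_155 : okG 155 = true := by decide +kernel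
theorem okG_156 : okG 156 = true := by decide +kernel
theorem okG_157 : okG 157 = true := by decide +kernel
theorem okG_158 : okG 158 = true := by decide +kernel

theorem okG_chunk04 (j : ℕ) (h1 : 126 ≤ j) (h2 : j < 159) : okG j = true := by
  interval_cases j
  · exact okG_126
  · exact okG_127
  · exact okG_128
  · exact okG_129
  · exact okG_130
  · exact okG_131
  · exact okG_132
  · exact okG_133
  · exact okG_134
  · exact okG_135
  · exact okG_136
  · exact okG_137
  · exact okG_138
  · exact okG_139
  · exact okG_140
  · exact okG_141
  · exact okG_142
  · exact okG_143
  · exact okG_144
  · exact okG_145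
  · exact okG_146
  · exact okG_147
  · exact okG_148
  · exact okG_149
  · exact okG_150
  · exact okG_151
  · exact okG_152
  · exact okG_153
  · exact okG_154
  · exact okG_155
  · exact okG_156
  · exact okG_157
  · exact okG_158

end Cfsg.Agent.Lib.Helper1.Co2M.Helper9
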