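import Cfsg.Agent.Lib.Helper9.Co2MRELDefs

/-! S2044 piece [MOD-REL] (helper9 for helper1): the words 159, …, 190 of `wordsAll` are trivial on the 4600 points -/

set_option autoImplicit false
set_option maxRecDepth 100000
set_option Elab.async false

namespace Cfsg.Agent.Lib.Helper1.Co2M.Helper9

theorem okG_159 : okG 159 = true := by decide +kernel
theorem okG_160 : okG 160 = true := by decide +kernel
theorem okG_161 : okG 161 = true := by decide +kernel
theorem okG_162 : okG 162 = true := by decide +kernel
theorem okG_163 : okG 163 = true := by decide +kernel
theorem okG_164 : okG 164 = true := by decide +kernel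
theorem okG_165 : okG 165 = true := by decide +kernel
theorem okG_166 : okG 166 = true := by decide +kernel
theorem okG_167 : okG 167 = true := by decide +kernel
theorem okG_168 : okG 168 = true := by decide +kernel
theorem okG_169 : okG 169 = true := by decide +kernel
theorem okG_170 : okG 170 = true := by decide +kernel
theorem okG_171 : okG 171 = true := by decide +kernel
theorem okG_172 : okG 172 = true := by decide +kernel
theorem okG_173 : okG 173 = true := by decide +kernel
theorem okG_174 : okG 174 = true := by decide +kernel
theorem okG_175 : okG 175 = true := by decide +kernel
theorem okG_176 : okG 176 = true := by decide +kernel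
theorem okG_177 : okG 177 = true := by decide +kernel
theorem okG_178 : okG 178 = true := by decide +kernel
theorem okG_179 : okG 179 = true := by decide +kernel
theorem okG_180 : okG 180 = true := by decide +kernel
theorem okG_181 : okG 181 = true := by decide +kernel
theorem okG_182 : okG 182 = true := by decide +kernel
theorem okG_183 : okG 183 = true := by decide +kernel
theorem okG_184 : okG 184 = true := by decide +kernel
theorem okG_185 : okG 185 = true := by decide +kernel
theorem okG_186 : okG 186 = true := by decide +kernel
theorem okG_187 : okG 187 = true := by decide +kernel
theorem okG_188 : okG 188 = true := by decide +kernel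
theorem okG_189 : okG 189 = true := by decide +kernel
theorem okG_190 : okG 190 = true := by decide +kernel

theorem okG_chunk05 (j : ℕ) (h1 : 159 ≤ j) (h2 : j < 191) : okG j = true := by
  interval_cases j
  · exact okG_159
  · exact okG_160
  · exact okG_161
  · exact okG_162
  · exact okG_163
  · exact okG_164
  · exact okG_165
  · exact okG_166
  · exact okG_167
  · exact okG_168
  · exact okG_169
  · exact okG_170
  · exact okG_171
  · exact okG_172
  · exact okG_173
  · exact okG_174
  · exact okG_175
  · exact okG_176
  · exact okG_177
  · exact okG_178
  · exact okG_179
  · exact okG_180
  · exact okG_181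
  · exact okG_182
  · exact okG_183
  · exact okG_184
  · exact okG_185
  · exact okG_186
  · exact okG_187
  · exact okG_188
  · exact okG_189
  · exact okG_190

end Cfsg.Agent.Lib.Helper1.Co2M.Helper9
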