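import Cfsg.Agent.Lib.Helper9.Co2MRELDefs

/-! S2044 piece [MOD-REL] (helper9 for helper1): the words 191, …, 235 of `wordsAll` are trivial on the 4600 points -/

set_option autoImplicit false
set_option maxRecDepth 100000
set_option Elab.async false

namespace Cfsg.Agent.Lib.Helper1.Co2M.Helper9

theorem okG_191 : okG 191 = true := by decide +kernel
theorem okG_192 : okG 192 = true := by decide +kernel
theorem okG_193 : okG 193 = true := by decide +kernel
theorem okG_194 : okG 194 = true := by decide +kernel
theorem okG_195 : okG 195 = true := by decide +kernel
theorem okG_196 : okG 196 = true := by decide +kernel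
theorem okG_197 : okG 197 = true := by decide +kernel
theorem okG_198 : okG 198 = true := by decide +kernel
theorem okG_199 : okG 199 = true := by decide +kernel
theorem okG_200 : okG 200 = true := by decide +kernel
theorem okG_201 : okG 201 = true := by decide +kernel
theorem okG_202 : okG 202 = true := by decide +kernel
theorem okG_203 : okG 203 = true := by decide +kernel
theorem okG_204 : okG 204 = true := by decide +kernel
theorem okG_205 : okG 205 = true := by decide +kernel
theorem okG_206 : okG 206 = true := by decide +kernel
theorem okG_207 : okG 207 = true := by decide +kernel
theorem okG_208 : okG 208 = true := by decide +kernel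
theorem okG_209 : okG 209 = true := by decide +kernel
theorem okG_210 : okG 210 = true := by decide +kernel
theorem okG_211 : okG 211 = true := by decide +kernel
theorem okG_212 : okG 212 = true := by decide +kernel
theorem okG_213 : okG 213 = true := by decide +kernel
theorem okG_214 : okG 214 = true := by decide +kernel
theorem okG_215 : okG 215 = true := by decide +kernel
theorem okG_216 : okG 216 = true := by decide +kernel
theorem okG_217 : okG 217 = true := by decide +kernel
theorem okG_218 : okG 218 = true := by decide +kernel
theorem okG_219 : okG 219 = true := by decide +kernel
theorem okG_220 : okG 220 = true := by decide +kernel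
theorem okG_221 : okG 221 = true := by decide +kernel
theorem okG_222 : okG 222 = true := by decide +kernel
theorem okG_223 : okG 223 = true := by decide +kernel
theorem okG_224 : okG 224 = true := by decide +kernel
theorem okG_225 : okG 225 = true := by decide +kernel
theorem okG_226 : okG 226 = true := by decide +kernel
theorem okG_227 : okG 227 = true := by decide +kernel
theorem okG_228 : okG 228 = true := by decide +kernel
theorem okG_229 : okG 229 = true := by decide +kernel
theorem okG_230 : okG 230 = true := by decide +kernel
theorem okG_231 : okG 231 = true := by decide +kernel
theorem okG_232 : okG 232 = true := by decide +kernel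
theorem okG_233 : okG 233 = true := by decide +kernel
theorem okG_234 : okG 234 = true := by decide +kernel
theorem okG_235 : okG 235 = true := by decide +kernel

theorem okG_chunk06 (j : ℕ) (h1 : 191 ≤ j) (h2 : j < 236) : okG j = true := by
  interval_cases j
  · exact okG_191
  · exact okG_192
  · exact okG_193
  · exact okG_194
  · exact okG_195
  · exact okG_196
  · exact okG_197
  · exact okG_198
  · exact okG_199
  · exact okG_200
  · exact okG_201
  · exact okG_202
  · exact okG_203
  · exact okG_204
  · exact okG_205
  · exact okG_206
  · exact okG_207
  · exact okG_208
  · exact okG_209
  · exact okG_210
  · exact okG_211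
  · exact okG_212
  · exact okG_213
  · exact okG_214
  · exact okG_215
  · exact okG_216
  · exact okG_217
  · exact okG_218
  · exact okG_219
  · exact okG_220
  · exact okG_221
  · exact okG_222
  · exact okG_223
  · exact okG_224
  · exact okG_225
  · exact okG_226
  · exact okG_227
  · exact okG_228
  · exact okG_229
  · exact okG_230
  · exact okG_231
  · exact okG_232
  · exact okG_233
  · exact okG_234
  · exact okG_235

end Cfsg.Agent.Lib.Helper1.Co2M.Helper9
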