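import Cfsg.Agent.Lib.Helper9.Co2MRELDefs

/-! S2044 piece [MOD-REL] (helper9 for helper1): the words 236, …, 278 of `wordsAll` are trivial on the 4600 points -/

set_option autoImplicit false
set_option maxRecDepth 100000
set_option Elab.async false

namespace Cfsg.Agent.Lib.Helper1.Co2M.Helper9

theorem okG_236 : okG 236 = true := by decide +kernel
theorem okG_237 : okG 237 = true := by decide +kernel
theorem okG_238 : okG 238 = true := by decide +kernel
theorem okG_239 : okG 239 = true := by decide +kernel
theorem okG_240 : okG 240 = true := by decide +kernel
theorem okG_241 : okG 241 = true := by decide +kernel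
theorem okG_242 : okG 242 = true := by decide +kernel
theorem okG_243 : okG 243 = true := by decide +kernel
theorem okG_244 : okG 244 = true := by decide +kernel
theorem okG_245 : okG 245 = true := by decide +kernel
theorem okG_246 : okG 246 = true := by decide +kernel
theorem okG_247 : okG 247 = true := by decide +kernel
theorem okG_248 : okG 248 = true := by decide +kernel
theorem okG_249 : okG 249 = true := by decide +kernel
theorem okG_250 : okG 250 = true := by decide +kernel
theorem okG_251 : okG 251 = true := by decide +kernel
theorem okG_252 : okG 252 = true := by decide +kernel
theorem okG_253 : okG 253 = true := by decide +kernel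
theorem okG_254 : okG 254 = true := by decide +kernel
theorem okG_255 : okG 255 = true := by decide +kernel
theorem okG_256 : okG 256 = true := by decide +kernel
theorem okG_257 : okG 257 = true := by decide +kernel
theorem okG_258 : okG 258 = true := by decide +kernel
theorem okG_259 : okG 259 = true := by decide +kernel
theorem okG_260 : okG 260 = true := by decide +kernel
theorem okG_261 : okG 261 = true := by decide +kernel
theorem okG_262 : okG 262 = true := by decide +kernel
theorem okG_263 : okG 263 = true := by decide +kernel
theorem okG_264 : okG 264 = true := by decide +kernel
theorem okG_265 : okG 265 = true := by decide +kernel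
theorem okG_266 : okG 266 = true := by decide +kernel
theorem okG_267 : okG 267 = true := by decide +kernel
theorem okG_268 : okG 268 = true := by decide +kernel
theorem okG_269 : okG 269 = true := by decide +kernel
theorem okG_270 : okG 270 = true := by decide +kernel
theorem okG_271 : okG 271 = true := by decide +kernel
theorem okG_272 : okG 272 = true := by decide +kernel
theorem okG_273 : okG 273 = true := by decide +kernel
theorem okG_274 : okG 274 = true := by decide +kernel
theorem okG_275 : okG 275 = true := by decide +kernel
theorem okG_276 : okG 276 = true := by decide +kernel
theorem okG_277 : okG 277 = true := by decide +kernel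
theorem okG_278 : okG 278 = true := by decide +kernel

theorem okG_chunk07 (j : ℕ) (h1 : 236 ≤ j) (h2 : j < 279) : okG j = true := by
  interval_cases j
  · exact okG_236
  · exact okG_237
  · exact okG_238
  · exact okG_239
  · exact okG_240
  · exact okG_241
  · exact okG_242
  · exact okG_243
  · exact okG_244
  · exact okG_245
  · exact okG_246
  · exact okG_247
  · exact okG_248
  · exact okG_249
  · exact okG_250
  · exact okG_251
  · exact okG_252
  · exact okG_253
  · exact okG_254
  · exact okG_255
  · exact okG_256
  · exact okG_257
  · exact okG_258
  · exact okG_259
  · exact okG_260
  · exact okG_261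
  · exact okG_262
  · exact okG_263
  · exact okG_264
  · exact okG_265
  · exact okG_266
  · exact okG_267
  · exact okG_268
  · exact okG_269
  · exact okG_270
  · exact okG_271
  · exact okG_272
  · exact okG_273
  · exact okG_274
  · exact okG_275
  · exact okG_276
  · exact okG_277
  · exact okG_278

end Cfsg.Agent.Lib.Helper1.Co2M.Helper9
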