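import Cfsg.Agent.Lib.Helper9.Co2MRELDefs

/-! S2044 piece [MOD-REL] (helper9 for helper1): the words 279, …, 308 of `wordsAll` are trivial on the 4600 points -/

set_option autoImplicit false
set_option maxRecDepth 100000
set_option Elab.async false

namespace Cfsg.Agent.Lib.Helper1.Co2M.Helper9

theorem okG_279 : okG 279 = true := by decide +kernel
theorem okG_280 : okG 280 = true := by decide +kernel
theorem okG_281 : okG 281 = true := by decide +kernel
theorem okG_282 : okG 282 = true := by decide +kernel
theorem okG_283 : okG 283 = true := by decide +kernel
theorem okG_284 : okG 284 = true := by decide +kernel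
theorem okG_285 : okG 285 = true := by decide +kernel
theorem okG_286 : okG 286 = true := by decide +kernel
theorem okG_287 : okG 287 = true := by decide +kernel
theorem okG_288 : okG 288 = true := by decide +kernel
theorem okG_289 : okG 289 = true := by decide +kernel
theorem okG_290 : okG 290 = true := by decide +kernel
theorem okG_291 : okG 291 = true := by decide +kernel
theorem okG_292 : okG 292 = true := by decide +kernel
theorem okG_293 : okG 293 = true := by decide +kernel
theorem okG_294 : okG 294 = true := by decide +kernel
theorem okG_295 : okG 295 = true := by decide +kernel
theorem okG_296 : okG 296 = true := by decide +kernel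
theorem okG_297 : okG 297 = true := by decide +kernel
theorem okG_298 : okG 298 = true := by decide +kernel
theorem okG_299 : okG 299 = true := by decide +kernel
theorem okG_300 : okG 300 = true := by decide +kernel
theorem okG_301 : okG 301 = true := by decide +kernel
theorem okG_302 : okG 302 = true := by decide +kernel
theorem okG_303 : okG 303 = true := by decide +kernel
theorem okG_304 : okG 304 = true := by decide +kernel
theorem okG_305 : okG 305 = true := by decide +kernel
theorem okG_306 : okG 306 = true := by decide +kernel
theorem okG_307 : okG 307 = true := by decide +kernel
theorem okG_308 : okG 308 = true := by decide +kernel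

theorem okG_chunk08 (j : ℕ) (h1 : 279 ≤ j) (h2 : j < 309) : okG j = true := by
  interval_cases j
  · exact okG_279
  · exact okG_280
  · exact okG_281
  · exact okG_282
  · exact okG_283
  · exact okG_284
  · exact okG_285
  · exact okG_286
  · exact okG_287
  · exact okG_288
  · exact okG_289
  · exact okG_290
  · exact okG_291
  · exact okG_292
  · exact okG_293
  · exact okG_294
  · exact okG_295
  · exact okG_296
  · exact okG_297
  · exact okG_298
  · exact okG_299
  · exact okG_300
  · exact okG_301
  · exact okG_302
  · exact okG_303
  · exact okG_304
  · exact okG_305
  · exact okG_306
  · exact okG_307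
  · exact okG_308

end Cfsg.Agent.Lib.Helper1.Co2M.Helper9
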