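import Cfsg.Agent.Lib.Helper9.Co2MRELDefs

/-! S2044 piece [MOD-REL] (helper9 for helper1): the words 309, …, 335 of `wordsAll` are trivial on the 4600 points -/

set_option autoImplicit false
set_option maxRecDepth 100000
set_option Elab.async false

namespace Cfsg.Agent.Lib.Helper1.Co2M.Helper9

theorem okG_309 : okG 309 = true := by decide +kernel
theorem okG_310 : okG 310 = true := by decide +kernel
theorem okG_311 : okG 311 = true := by decide +kernel
theorem okG_312 : okG 312 = true := by decide +kernel
theorem okG_313 : okG 313 = true := by decide +kernel
theorem okG_314 : okG 314 = true := by decide +kernel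
theorem okG_315 : okG 315 = true := by decide +kernel
theorem okG_316 : okG 316 = true := by decide +kernel
theorem okG_317 : okG 317 = true := by decide +kernel
theorem okG_318 : okG 318 = true := by decide +kernel
theorem okG_319 : okG 319 = true := by decide +kernel
theorem okG_320 : okG 320 = true := by decide +kernel
theorem okG_321 : okG 321 = true := by decide +kernel
theorem okG_322 : okG 322 = true := by decide +kernel
theorem okG_323 : okG 323 = true := by decide +kernel
theorem okG_324 : okG 324 = true := by decide +kernel
theorem okG_325 : okG 325 = true := by decide +kernel
theorem okG_326 : okG 326 = true := by decide +kernel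
theorem okG_327 : okG 327 = true := by decide +kernel
theorem okG_328 : okG 328 = true := by decide +kernel
theorem okG_329 : okG 329 = true := by decide +kernel
theorem okG_330 : okG 330 = true := by decide +kernel
theorem okG_331 : okG 331 = true := by decide +kernel
theorem okG_332 : okG 332 = true := by decide +kernel
theorem okG_333 : okG 333 = true := by decide +kernel
theorem okG_334 : okG 334 = true := by decide +kernel
theorem okG_335 : okG 335 = true := by decide +kernel

theorem okG_chunk09 (j : ℕ) (h1 : 309 ≤ j) (h2 : j < 336) : okG j = true := by
  interval_cases j
  · exact okG_309
  · exact okG_310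
  · exact okG_311
  · exact okG_312
  · exact okG_313
  · exact okG_314
  · exact okG_315
  · exact okG_316
  · exact okG_317
  · exact okG_318
  · exact okG_319
  · exact okG_320
  · exact okG_321
  · exact okG_322
  · exact okG_323
  · exact okG_324
  · exact okG_325
  · exact okG_326
  · exact okG_327
  · exact okG_328
  · exact okG_329
  · exact okG_330
  · exact okG_331
  · exact okG_332
  · exact okG_333
  · exact okG_334
  · exact okG_335

end Cfsg.Agent.Lib.Helper1.Co2M.Helper9
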