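import Cfsg.Agent.Lib.Helper9.Co2MRELDefs

/-! S2044 piece [MOD-REL] (helper9 for helper1): the words of `relsU` are trivial on the 4600 points for `um`, and `wordU` gives `u₀` -/

set_option autoImplicit false
set_option maxRecDepth 100000
set_option Elab.async false

namespace Cfsg.Agent.Lib.Helper1.Co2M.Helper9

theorem okU_0 : okU 0 = true := by decide +kernel
theorem okU_1 : okU 1 = true := by decide +kernel
theorem okU_2 : okU 2 = true := by decide +kernel
theorem okU_3 : okU 3 = true := by decide +kernel
theorem okU_4 : okU 4 = true := by decide +kernel
theorem okU_5 : okU 5 = true := by decide +kernel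
theorem okU_6 : okU 6 = true := by decide +kernel
theorem okU_7 : okU 7 = true := by decide +kernel
theorem okU_8 : okU 8 = true := by decide +kernel
theorem okU_9 : okU 9 = true := by decide +kernel
theorem okU_10 : okU 10 = true := by decide +kernel
theorem okU_11 : okU 11 = true := by decide +kernel
theorem okU_12 : okU 12 = true := by decide +kernel
theorem okU_13 : okU 13 = true := by decide +kernel
theorem okU_14 : okU 14 = true := by decide +kernel
theorem okU_15 : okU 15 = true := by decide +kernel
theorem okU_16 : okU 16 = true := by decide +kernel
theorem okU_17 : okU 17 = true := by decide +kernel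
theorem okU_18 : okU 18 = true := by decide +kernel
theorem okU_19 : okU 19 = true := by decide +kernel
theorem okU_20 : okU 20 = true := by decide +kernel
theorem okU_21 : okU 21 = true := by decide +kernel
theorem okU_22 : okU 22 = true := by decide +kernel
theorem okU_23 : okU 23 = true := by decide +kernel
theorem okU_24 : okU 24 = true := by decide +kernel
theorem okU_25 : okU 25 = true := by decide +kernel

theorem okU_all (j : ℕ) (h2 : j < 26) : okU j = true := by
  interval_cases j
  · exact okU_0
  · exact okU_1
  · exact okU_2
  · exact okU_3
  · exact okU_4
  · exact okU_5
  · exact okU_6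
  · exact okU_7
  · exact okU_8
  · exact okU_9
  · exact okU_10
  · exact okU_11
  · exact okU_12
  · exact okU_13
  · exact okU_14
  · exact okU_15
  · exact okU_16
  · exact okU_17
  · exact okU_18
  · exact okU_19
  · exact okU_20
  · exact okU_21
  · exact okU_22
  · exact okU_23
  · exact okU_24
  · exact okU_25

theorem okWU_true : okWU = true := by decide +kernel

end Cfsg.Agent.Lib.Helper1.Co2M.Helper9
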