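import Mathlib
import Cfsg.Agent.H5.TCkSound
import Cfsg.Agent.Lib.Helper28.BSGSPerm
import Cfsg.Agent.Lib.Helper15.WalkFast
import Cfsg.Agent.Lib.Helper1.Co2MData
import Cfsg.Agent.Lib.Helper1.Co2MTabs

/-!
# S2044 piece [MOD-REL] (helper9 for helper1): the relators of `Co2MData` in the 4600-point model, definitions

`gm i` is the permutation of the `i`-th pair of tables `(Tg_i, Tg_i i)` of `Co2MTabs`, `um 0` the one of
`(Tu0, Tu0i)` and `um 1 = gm 0`.  A word in the letters acts through the list of its tables (`ev_acts`,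
`ev_actsU`).  All the words to be checked are collected in `wordsAll` (for `gm`) and `relsU` (for `um`); the
checks themselves are in the chunk files `Co2MRELC*`.
-/

set_option autoImplicit false
set_option maxRecDepth 100000

namespace Cfsg.Agent.Lib.Helper1.Co2M

open Cfsg.Agent.Lib.Helper28.BSGS Cfsg.H5.TCk
open Cfsg.Agent.Lib.Helper15.Walk (pairOKf pairOK_of_fast wordIdF wordId_of_fast wordEqF wordEq_of_fast)
open Cfsg.Agent.Lib.Helper12.McLW (relsG relsU)

/-- the pairs of tables of `g₀, …, g₅` -/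
def tabG (i : ℕ) : ℕ × ℕ :=
  [(Tg0, Tg0i), (Tg1, Tg1i), (Tg2, Tg2i), (Tg3, Tg3i), (Tg4, Tg4i), (Tg5, Tg5i)].getD i (0, 0)

/-- the pairs of tables of `u₀, u₁ = g₀` -/
def tabU (i : ℕ) : ℕ × ℕ := [(Tu0, Tu0i), (Tg0, Tg0i)].getD i (0, 0)

/-- the permutations `g₀, …, g₅` of the 4600 points -/
noncomputable def gm (i : ℕ) : Equiv.Perm (Fin 4600) := permOf 4600 13 (tabG i).1 (tabG i).2

/-- the permutations `u₀, u₁` of the 4600 points -/
noncomputable def um (i : ℕ) : Equiv.Perm (Fin 4600) := permOf 4600 13 (tabU i).1 (tabU i).2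

theorem gm_zero : gm 0 = permOf 4600 13 Tg0 Tg0i := rfl
theorem gm_one : gm 1 = permOf 4600 13 Tg1 Tg1i := rfl
theorem gm_two : gm 2 = permOf 4600 13 Tg2 Tg2i := rfl
theorem gm_three : gm 3 = permOf 4600 13 Tg3 Tg3i := rfl
theorem gm_four : gm 4 = permOf 4600 13 Tg4 Tg4i := rfl
theorem gm_five : gm 5 = permOf 4600 13 Tg5 Tg5i := rfl
theorem um_zero : um 0 = permOf 4600 13 Tu0 Tu0i := rfl
theorem um_one : um 1 = permOf 4600 13 Tg0 Tg0i := rfl
theorem um_one_eq : um 1 = gm 0 := rfl

namespace Helper9

/-- the table of a letter (`gm`) -/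
def ltb (l : ℕ) : ℕ := if l % 2 = 0 then (tabG (l / 2)).1 else (tabG (l / 2)).2

/-- the table of a letter (`um`) -/
def ltbU (l : ℕ) : ℕ := if l % 2 = 0 then (tabU (l / 2)).1 else (tabU (l / 2)).2

theorem pair_ok : ∀ i < 6, pairOK 4600 13 (tabG i).1 (tabG i).2 = true := by
  have h : ∀ i < 6, pairOKf 4600 13 (tabG i).1 (tabG i).2 = true := by decide +kernel
  exact fun i hi => pairOK_of_fast (h i hi)

theorem pair_okU : ∀ i < 2, pairOK 4600 13 (tabU i).1 (tabU i).2 = true := by
  have h : ∀ i < 2, pairOKf 4600 13 (tabU i).1 (tabU i).2 = true := by decide +kernel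
  exact fun i hi => pairOK_of_fast (h i hi)

theorem gl_acts (l : ℕ) (hl : l < 12) (a : Fin 4600) :
    (gl gm l a).val = look 13 (ltb l) a.val := by
  rcases Nat.even_or_odd' l with ⟨i, rfl | rfl⟩
  · rw [gl_even]
    have h1 : ltb (2 * i) = (tabG i).1 := by
      unfold ltb
      rw [if_pos (by omega)]
      congr 2
      omega
    rw [h1]
    exact permOf_apply (pair_ok i (by omega)) a
  · rw [gl_odd]
    have h1 : ltb (2 * i + 1) = (tabG i).2 := by
      unfold ltb
      rw [if_neg (by omega)]
      congr 2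
      omega
    rw [h1]
    exact permOf_inv_apply (pair_ok i (by omega)) a

theorem gl_actsU (l : ℕ) (hl : l < 4) (a : Fin 4600) :
    (gl um l a).val = look 13 (ltbU l) a.val := by
  rcases Nat.even_or_odd' l with ⟨i, rfl | rfl⟩
  · rw [gl_even]
    have h1 : ltbU (2 * i) = (tabU i).1 := by
      unfold ltbU
      rw [if_pos (by omega)]
      congr 2
      omega
    rw [h1]
    exact permOf_apply (pair_okU i (by omega)) a
  · rw [gl_odd]
    have h1 : ltbU (2 * i + 1) = (tabU i).2 := by
      unfold ltbU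
      rw [if_neg (by omega)]
      congr 2
      omega
    rw [h1]
    exact permOf_inv_apply (pair_okU i (by omega)) a

theorem ev_acts (w : List ℕ) (hw : ∀ l ∈ w, l < 12) :
    ActsByW 4600 13 (ev gm w) (w.map ltb) := by
  induction w with
  | nil => exact actsByW_one 4600 13
  | cons l w ih =>
    have h1 : ev gm (l :: w) = gl gm l * ev gm w := rfl
    rw [h1, List.map_cons]
    exact actsByW_cons (gl_acts l (hw l List.mem_cons_self))
      (ih fun l' hl' => hw l' (List.mem_cons_of_mem _ hl'))

theorem ev_actsU (w : List ℕ) (hw : ∀ l ∈ w, l < 4) :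
    ActsByW 4600 13 (ev um w) (w.map ltbU) := by
  induction w with
  | nil => exact actsByW_one 4600 13
  | cons l w ih =>
    have h1 : ev um (l :: w) = gl um l * ev um w := rfl
    rw [h1, List.map_cons]
    exact actsByW_cons (gl_actsU l (hw l List.mem_cons_self))
      (ih fun l' hl' => hw l' (List.mem_cons_of_mem _ hl'))

/-- all the words which are trivial on `gm` -/
def wordsAll : List (List ℕ) :=
  relsG ++ exactTop ++ amalTop.map amalRel ++ amalTop.map ordWord ++ mixedTop

/-- the check of word `j` of `wordsAll` -/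
noncomputable def okG (j : ℕ) : Bool := wordIdF 4600 13 ((wordsAll.getD j []).map ltb)

/-- the check of word `j` of `relsU` -/
noncomputable def okU (j : ℕ) : Bool := wordIdF 4600 13 ((relsU.getD j []).map ltbU)

theorem length_wordsAll : wordsAll.length = 358 := by decide +kernel

theorem length_relsU : relsU.length = 26 := by decide +kernel

theorem letters_ok : ∀ r ∈ wordsAll, ∀ l ∈ r, l < 12 := by
  have h : (wordsAll.all fun r => r.all fun l => decide (l < 12)) = true := by decide +kernel
  intro r hr l hl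
  rw [List.all_eq_true] at h
  have h1 := h r hr
  rw [List.all_eq_true] at h1
  exact of_decide_eq_true (h1 l hl)

theorem letters_okU : ∀ r ∈ relsU, ∀ l ∈ r, l < 4 := by
  have h : (relsU.all fun r => r.all fun l => decide (l < 4)) = true := by decide +kernel
  intro r hr l hl
  rw [List.all_eq_true] at h
  have h1 := h r hr
  rw [List.all_eq_true] at h1
  exact of_decide_eq_true (h1 l hl)

theorem rel_of_ok (j : ℕ) (hj : j < wordsAll.length) (h : okG j = true) :
    ev gm (wordsAll.getD j []) = 1 := by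
  have hm : wordsAll.getD j [] ∈ wordsAll := by
    rw [List.getD_eq_getElem _ _ hj]
    exact List.getElem_mem hj
  exact eq_one_of_wordId 4600 13 (ev_acts _ (letters_ok _ hm)) (wordId_of_fast h)

theorem relU_of_ok (j : ℕ) (hj : j < relsU.length) (h : okU j = true) :
    ev um (relsU.getD j []) = 1 := by
  have hm : relsU.getD j [] ∈ relsU := by
    rw [List.getD_eq_getElem _ _ hj]
    exact List.getElem_mem hj
  exact eq_one_of_wordId 4600 13 (ev_actsU _ (letters_okU _ hm)) (wordId_of_fast h)

theorem all_of_ok (h : ∀ j < 358, okG j = true) : ∀ r ∈ wordsAll, ev gm r = 1 := by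
  intro r hr
  obtain ⟨j, hj, rfl⟩ := List.getElem_of_mem hr
  have h1 := rel_of_ok j hj (h j (by rw [← length_wordsAll]; exact hj))
  rwa [List.getD_eq_getElem _ _ hj] at h1

theorem allU_of_ok (h : ∀ j < 26, okU j = true) : ∀ r ∈ relsU, ev um r = 1 := by
  intro r hr
  obtain ⟨j, hj, rfl⟩ := List.getElem_of_mem hr
  have h1 := relU_of_ok j hj (h j (by rw [← length_relsU]; exact hj))
  rwa [List.getD_eq_getElem _ _ hj] at h1

/-- the check of `wordU` -/
noncomputable def okWU : Bool := wordEqF 4600 13 (wordU.map ltb) [Tu0]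

theorem wordU_of_ok (h : okWU = true) : ev gm wordU = um 0 := by
  have h1 : ∀ l ∈ wordU, l < 12 := by decide
  have h2 : ActsByW 4600 13 (um 0) [Tu0] :=
    actsByW_single (permOf_apply (pair_okU 0 (by norm_num)))
  exact eq_of_wordEq 4600 13 (ev_acts _ h1) h2 (wordEq_of_fast h)

end Helper9

end Cfsg.Agent.Lib.Helper1.Co2M
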