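import Mathlib
import Cfsg.Agent.Lib.Helper9.Co2MA
import Cfsg.Agent.Lib.Helper9.Co2MRELDefs
import Cfsg.Agent.Lib.Helper9.Co2MRELC01
import Cfsg.Agent.Lib.Helper9.Co2MRELC02
import Cfsg.Agent.Lib.Helper9.Co2MRELC03
import Cfsg.Agent.Lib.Helper9.Co2MRELC04
import Cfsg.Agent.Lib.Helper9.Co2MRELC05
import Cfsg.Agent.Lib.Helper9.Co2MRELC06
import Cfsg.Agent.Lib.Helper9.Co2MRELC07
import Cfsg.Agent.Lib.Helper9.Co2MRELC08
import Cfsg.Agent.Lib.Helper9.Co2MRELC09
import Cfsg.Agent.Lib.Helper9.Co2MRELC10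
import Cfsg.Agent.Lib.Helper9.Co2MRELCU

/-!
# S2044 piece [MOD-REL] (helper9 for helper1): the relators of `Co2MData` hold in the 4600-point model

`rels_model`: for `gm i = permOf 4600 13 (Tg_i) (Tg_i i)` (`i < 6`), `um 0 = permOf 4600 13 Tu0 Tu0i`, `um 1 = gm 0`
all the words of `relsG`, `exactTop`, `amalTop` (both `amalRel` and `ordWord`), `mixedTop` are trivial on `gm`, the
words of `relsU` are trivial on `um`, and `ev gm wordU = um 0`.  `rels_model_sub` is the same for a tuple in a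
subgroup which restricts to `gm`, `um` (the relator part of `IsCo2Tuple`).
-/

set_option autoImplicit false

namespace Cfsg.Agent.Lib.Helper1.Co2M

open Cfsg.Agent.Lib.Helper28.BSGS Cfsg.H5.TCk
open Cfsg.Agent.Lib.Helper12.McLW (relsG relsU)

namespace Helper9

theorem okG_all (j : ℕ) (hj : j < 358) : okG j = true := by
  by_cases h1 : j < 54
  · exact okG_chunk01 j (by omega) h1
  by_cases h2 : j < 91
  · exact okG_chunk02 j (by omega) h2
  by_cases h3 : j < 126
  · exact okG_chunk03 j (by omega) h3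
  by_cases h4 : j < 159
  · exact okG_chunk04 j (by omega) h4
  by_cases h5 : j < 191
  · exact okG_chunk05 j (by omega) h5
  by_cases h6 : j < 236
  · exact okG_chunk06 j (by omega) h6
  by_cases h7 : j < 279
  · exact okG_chunk07 j (by omega) h7
  by_cases h8 : j < 309
  · exact okG_chunk08 j (by omega) h8
  by_cases h9 : j < 336
  · exact okG_chunk09 j (by omega) h9
  exact okG_chunk10 j (by omega) (by omega)

theorem all_gm : ∀ r ∈ wordsAll, ev gm r = 1 := all_of_ok okG_all

theorem all_um : ∀ r ∈ relsU, ev um r = 1 := allU_of_ok okU_all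

end Helper9

open Helper9

/-- the relators of `Co2MData` hold in the model -/
theorem rels_model :
    (∀ r ∈ relsG, ev gm r = 1) ∧ (∀ r ∈ relsU, ev um r = 1) ∧ (∀ r ∈ exactTop, ev gm r = 1) ∧
      (∀ q ∈ amalTop, ev gm (amalRel q) = 1 ∧ ev gm (ordWord q) = 1) ∧
      (∀ r ∈ mixedTop, ev gm r = 1) ∧ ev gm wordU = um 0 ∧ um 1 = gm 0 := by
  refine ⟨fun r hr => all_gm r ?_, all_um, fun r hr => all_gm r ?_, fun q hq => ⟨all_gm _ ?_, all_gm _ ?_⟩,
    fun r hr => all_gm r ?_, wordU_of_ok okWU_true, rfl⟩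
  · unfold wordsAll
    simp only [List.mem_append]
    exact Or.inl (Or.inl (Or.inl (Or.inl hr)))
  · unfold wordsAll
    simp only [List.mem_append]
    exact Or.inl (Or.inl (Or.inl (Or.inr hr)))
  · unfold wordsAll
    simp only [List.mem_append]
    exact Or.inl (Or.inl (Or.inr (List.mem_map_of_mem hq)))
  · unfold wordsAll
    simp only [List.mem_append]
    exact Or.inl (Or.inr (List.mem_map_of_mem hq))
  · unfold wordsAll
    simp only [List.mem_append]
    exact Or.inr hr

/-- the relator part of `IsCo2Tuple` for a tuple in a subgroup which restricts to `gm`, `um` -/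
theorem rels_model_sub (K : Subgroup (Equiv.Perm (Fin 4600))) (g u : ℕ → ↥K)
    (hg : ∀ i < 6, (g i : Equiv.Perm (Fin 4600)) = gm i)
    (hu : ∀ i < 2, (u i : Equiv.Perm (Fin 4600)) = um i) :
    u 0 = ev g wordU ∧ u 1 = g 0 ∧
      (∀ r ∈ relsG, ev g r = 1) ∧ (∀ r ∈ relsU, ev u r = 1) ∧
      (∀ r ∈ exactTop, ev g r = 1) ∧
      (∀ q ∈ amalTop, ev g (amalRel q) = 1 ∧ ev g (ordWord q) = 1) ∧
      (∀ r ∈ mixedTop, ev g r = 1) := by
  obtain ⟨h1, h2, h3, h4, h5, h6, h7⟩ := rels_model
  have cg : ∀ w : List ℕ, (∀ l ∈ w, l < 12) → ((ev g w : ↥K) : Equiv.Perm (Fin 4600)) = ev gm w := by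
    intro w hw
    have e1 := map_ev K.subtype g w
    have e2 := ev_congr (fun i => K.subtype (g i)) gm 6 (fun i hi => hg i hi) w hw
    exact e1.trans e2
  have cu : ∀ w : List ℕ, (∀ l ∈ w, l < 4) → ((ev u w : ↥K) : Equiv.Perm (Fin 4600)) = ev um w := by
    intro w hw
    have e1 := map_ev K.subtype u w
    have e2 := ev_congr (fun i => K.subtype (u i)) um 2 (fun i hi => hu i hi) w hw
    exact e1.trans e2
  have lg : ∀ r ∈ wordsAll, ∀ l ∈ r, l < 12 := letters_ok
  have mem1 : ∀ r ∈ relsG, r ∈ wordsAll := by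
    intro r hr
    unfold wordsAll
    simp only [List.mem_append]
    exact Or.inl (Or.inl (Or.inl (Or.inl hr)))
  have mem2 : ∀ r ∈ exactTop, r ∈ wordsAll := by
    intro r hr
    unfold wordsAll
    simp only [List.mem_append]
    exact Or.inl (Or.inl (Or.inl (Or.inr hr)))
  have mem3 : ∀ q ∈ amalTop, amalRel q ∈ wordsAll := by
    intro q hq
    unfold wordsAll
    simp only [List.mem_append]
    exact Or.inl (Or.inl (Or.inr (List.mem_map_of_mem hq)))
  have mem4 : ∀ q ∈ amalTop, ordWord q ∈ wordsAll := by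
    intro q hq
    unfold wordsAll
    simp only [List.mem_append]
    exact Or.inl (Or.inr (List.mem_map_of_mem hq))
  have mem5 : ∀ r ∈ mixedTop, r ∈ wordsAll := by
    intro r hr
    unfold wordsAll
    simp only [List.mem_append]
    exact Or.inr hr
  have one_of : ∀ w : List ℕ, w ∈ wordsAll → ev g w = 1 := by
    intro w hw
    apply Subtype.ext
    rw [cg w (lg w hw)]
    exact all_gm w hw
  refine ⟨?_, ?_, fun r hr => one_of r (mem1 r hr), ?_, fun r hr => one_of r (mem2 r hr),
    fun q hq => ⟨one_of _ (mem3 q hq), one_of _ (mem4 q hq)⟩, fun r hr => one_of r (mem5 r hr)⟩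
  · apply Subtype.ext
    rw [cg wordU (by decide), h6]
    exact hu 0 (by norm_num)
  · apply Subtype.ext
    rw [hu 1 (by norm_num), hg 0 (by norm_num)]
    rfl
  · intro r hr
    apply Subtype.ext
    rw [cu r (letters_okU r hr)]
    exact h2 r hr

end Cfsg.Agent.Lib.Helper1.Co2M
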