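import Mathlib
import Cfsg.Prelude.Def_Classical
import Cfsg.Agent.Lib.Helper15.SympOrder

/-!
# Orders in `PSp(6,3)`  (helper9, pieces L1 + L2 of S3664)

For a field `F` with three elements:
* `prime_dvd_card_iff` : the prime divisors of `Nat.card (Cfsg.PSp 3 F)` are exactly `2, 3, 5, 7, 13`;
* `exists_orderOf` : `Cfsg.PSp 3 F` has elements of orders `6, 10, 15, 14` (and `2, 3, 5, 7, 13`).

Upper bound from the order formula of the symplectic group (helper15); the elements are explicit `6 × 6` symplectic matrices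
over `ZMod 3`, transported along `ZMod 3 →+* F` (pattern of helper10's `SpecPSp43`).
-/

set_option autoImplicit false

namespace Cfsg.Agent.Lib.Helper9.Sp63Ord

open Matrix

/-- the index type of the `6 × 6` symplectic matrices -/
abbrev I6 := Fin 3 ⊕ Fin 3

/-- matrices over the prime field -/
abbrev M6 := Matrix I6 I6 (ZMod 3)

/-! ### the witnesses -/

def wa : M6 := Matrix.fromBlocks !![2, 1, 0; 1, 0, 0; 0, 0, 1] !![0, 2, 0; 0, 0, 0; 0, 0, 1] !![2, 1, 0; 0, 0, 0; 0, 0, 2] !![0, 0, 0; 1, 1, 0; 0, 0, 0]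
def wa2 : M6 := Matrix.fromBlocks !![2, 2, 0; 2, 1, 0; 0, 0, 0] !![2, 0, 0; 0, 2, 0; 0, 0, 1] !![2, 2, 0; 2, 1, 0; 0, 0, 2] !![0, 1, 0; 1, 1, 0; 0, 0, 2]
def wa3 : M6 := Matrix.fromBlocks !![1, 1, 0; 2, 2, 0; 0, 0, 2] !![0, 1, 0; 2, 0, 0; 0, 0, 0] !![0, 2, 0; 1, 0, 0; 0, 0, 0] !![1, 2, 0; 1, 2, 0; 0, 0, 2]
def ha3 : M6 := Matrix.fromBlocks !![1, 0, 0; 0, 1, 0; 0, 0, 1] !![1, 0, 0; 0, 0, 0; 0, 0, 0] !![0, 0, 0; 0, 0, 0; 0, 0, 0] !![1, 0, 0; 0, 1, 0; 0, 0, 1]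
def ha2 : M6 := Matrix.fromBlocks !![1, 0, 0; 0, 1, 0; 0, 0, 1] !![1, 0, 0; 0, 0, 0; 0, 0, 0] !![0, 0, 0; 0, 0, 0; 0, 0, 0] !![1, 0, 0; 0, 1, 0; 0, 0, 1]
def wb : M6 := Matrix.fromBlocks !![0, 0, 2; 0, 1, 0; 1, 0, 2] !![0, 0, 0; 0, 0, 0; 2, 0, 0] !![0, 0, 2; 0, 0, 0; 1, 0, 2] !![2, 0, 2; 0, 1, 0; 0, 0, 0]
def wb2 : M6 := Matrix.fromBlocks !![2, 0, 1; 0, 1, 0; 2, 0, 1] !![1, 0, 0; 0, 0, 0; 2, 0, 1] !![1, 0, 0; 0, 0, 0; 2, 0, 0] !![2, 0, 1; 0, 1, 0; 1, 0, 0]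
def wb4 : M6 := Matrix.fromBlocks !![1, 0, 0; 0, 1, 0; 1, 0, 0] !![0, 0, 2; 0, 0, 0; 0, 0, 0] !![0, 0, 1; 0, 0, 0; 2, 0, 2] !![0, 0, 2; 0, 1, 0; 1, 0, 1]
def wb5 : M6 := Matrix.fromBlocks !![2, 0, 0; 0, 1, 0; 0, 0, 2] !![0, 0, 0; 0, 0, 0; 0, 0, 0] !![0, 0, 0; 0, 0, 0; 0, 0, 0] !![2, 0, 0; 0, 1, 0; 0, 0, 2]
def hb5 : M6 := Matrix.fromBlocks !![1, 0, 0; 0, 1, 0; 0, 0, 1] !![0, 1, 0; 1, 0, 0; 0, 0, 0] !![0, 0, 0; 0, 0, 0; 0, 0, 0] !![1, 0, 0; 0, 1, 0; 0, 0, 1]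
def hb2 : M6 := Matrix.fromBlocks !![1, 0, 0; 0, 1, 0; 0, 0, 1] !![1, 0, 0; 0, 0, 0; 0, 0, 0] !![0, 0, 0; 0, 0, 0; 0, 0, 0] !![1, 0, 0; 0, 1, 0; 0, 0, 1]
def wc : M6 := Matrix.fromBlocks !![0, 0, 0; 0, 0, 0; 0, 2, 0] !![0, 0, 1; 1, 0, 2; 0, 0, 0] !![2, 2, 2; 2, 0, 0; 0, 2, 0] !![0, 0, 0; 0, 0, 0; 0, 2, 1]
def wc2 : M6 := Matrix.fromBlocks !![0, 2, 0; 2, 0, 2; 0, 0, 0] !![0, 2, 1; 0, 1, 2; 2, 0, 1] !![0, 1, 0; 0, 0, 0; 1, 2, 0] !![2, 0, 0; 0, 0, 2; 2, 2, 2]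
def wc3 : M6 := Matrix.fromBlocks !![1, 2, 0; 2, 2, 0; 1, 0, 1] !![2, 2, 2; 0, 1, 1; 0, 2, 1] !![1, 1, 1; 0, 1, 0; 2, 2, 1] !![1, 0, 2; 0, 1, 2; 2, 1, 1]
def wc5 : M6 := Matrix.fromBlocks !![0, 2, 1; 2, 0, 1; 1, 1, 0] !![2, 2, 1; 2, 2, 1; 1, 1, 2] !![1, 1, 2; 1, 1, 2; 2, 2, 1] !![2, 1, 2; 1, 2, 2; 2, 2, 2]
def wc10 : M6 := Matrix.fromBlocks !![2, 1, 2; 1, 2, 2; 2, 2, 2] !![1, 1, 2; 1, 1, 2; 2, 2, 1] !![2, 2, 1; 2, 2, 1; 1, 1, 2] !![0, 2, 1; 2, 0, 1; 1, 1, 0]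
def hc5 : M6 := Matrix.fromBlocks !![1, 0, 0; 0, 1, 0; 0, 0, 1] !![1, 0, 0; 0, 0, 0; 0, 0, 0] !![0, 0, 0; 0, 0, 0; 0, 0, 0] !![1, 0, 0; 0, 1, 0; 0, 0, 1]
def hc3 : M6 := Matrix.fromBlocks !![1, 0, 0; 0, 1, 0; 0, 0, 1] !![1, 0, 0; 0, 0, 0; 0, 0, 0] !![0, 0, 0; 0, 0, 0; 0, 0, 0] !![1, 0, 0; 0, 1, 0; 0, 0, 1]
def wd : M6 := Matrix.fromBlocks !![0, 0, 0; 0, 0, 0; 0, 2, 0] !![0, 0, 1; 1, 0, 2; 0, 0, 0] !![2, 2, 2; 2, 0, 0; 0, 2, 0] !![0, 0, 2; 0, 0, 0; 0, 2, 1]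
def wd2 : M6 := Matrix.fromBlocks !![0, 2, 0; 2, 0, 2; 0, 0, 0] !![0, 2, 1; 0, 1, 1; 2, 0, 1] !![0, 2, 0; 0, 0, 0; 1, 2, 0] !![2, 1, 2; 0, 0, 2; 2, 2, 2]
def wd4 : M6 := Matrix.fromBlocks !![2, 2, 1; 1, 0, 0; 1, 0, 0] !![2, 1, 2; 0, 0, 2; 0, 1, 0] !![0, 2, 1; 2, 1, 0; 0, 1, 1] !![2, 2, 0; 1, 1, 1; 2, 1, 0]
def wd6 : M6 := Matrix.fromBlocks !![0, 0, 1; 2, 0, 0; 0, 2, 0] !![1, 0, 0; 1, 0, 2; 0, 2, 0] !![1, 1, 1; 0, 2, 2; 2, 1, 2] !![0, 1, 2; 1, 2, 0; 0, 0, 2]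
def wd7 : M6 := Matrix.fromBlocks !![2, 1, 2; 2, 0, 2; 1, 0, 0] !![0, 0, 2; 0, 1, 0; 2, 0, 1] !![2, 0, 0; 0, 0, 2; 0, 2, 0] !![1, 1, 2; 2, 0, 0; 1, 1, 0]
def hd7 : M6 := Matrix.fromBlocks !![1, 0, 0; 0, 1, 0; 0, 0, 1] !![1, 0, 0; 0, 0, 0; 0, 0, 0] !![0, 0, 0; 0, 0, 0; 0, 0, 0] !![1, 0, 0; 0, 1, 0; 0, 0, 1]
def hd2 : M6 := Matrix.fromBlocks !![1, 0, 0; 0, 1, 0; 0, 0, 1] !![1, 0, 0; 0, 0, 0; 0, 0, 0] !![0, 0, 0; 0, 0, 0; 0, 0, 0] !![1, 0, 0; 0, 1, 0; 0, 0, 1]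
def we : M6 := Matrix.fromBlocks !![0, 0, 2; 2, 0, 0; 0, 2, 0] !![2, 0, 1; 1, 0, 2; 0, 1, 0] !![0, 0, 0; 0, 0, 0; 0, 2, 0] !![0, 0, 2; 2, 0, 0; 0, 0, 0]
def we2 : M6 := Matrix.fromBlocks !![0, 0, 0; 0, 1, 1; 1, 0, 0] !![0, 2, 1; 1, 0, 1; 1, 0, 1] !![0, 1, 0; 0, 0, 0; 1, 0, 0] !![0, 0, 0; 0, 0, 1; 2, 0, 1]
def we3 : M6 := Matrix.fromBlocks !![0, 2, 0; 2, 1, 0; 0, 2, 2] !![1, 0, 0; 1, 1, 1; 2, 0, 0] !![2, 0, 0; 0, 2, 0; 0, 2, 2] !![1, 0, 2; 0, 0, 0; 2, 0, 2]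
def we6 : M6 := Matrix.fromBlocks !![0, 2, 0; 1, 0, 2; 2, 0, 1] !![0, 2, 1; 0, 1, 2; 2, 2, 0] !![2, 2, 1; 1, 2, 0; 2, 1, 2] !![1, 0, 0; 2, 2, 2; 0, 2, 1]
def we12 : M6 := Matrix.fromBlocks !![0, 2, 0; 0, 0, 0; 2, 0, 0] !![1, 2, 0; 0, 0, 2; 2, 1, 0] !![0, 0, 0; 0, 0, 1; 0, 0, 0] !![0, 2, 0; 0, 0, 2; 2, 0, 0]
def he1 : M6 := Matrix.fromBlocks !![1, 0, 0; 0, 1, 0; 0, 0, 1] !![1, 0, 0; 0, 0, 0; 0, 0, 0] !![0, 0, 0; 0, 0, 0; 0, 0, 0] !![1, 0, 0; 0, 1, 0; 0, 0, 1]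

set_option maxRecDepth 100000 in
theorem wa_p2 : wa * wa = wa2 := by decide +kernel
set_option maxRecDepth 100000 in
theorem wa_p3 : wa2 * wa = wa3 := by decide +kernel
set_option maxRecDepth 100000 in
theorem wa_p6 : wa3 * wa3 = 1 := by decide +kernel
set_option maxRecDepth 100000 in
theorem ha3_nc : wa3 * ha3 ≠ ha3 * wa3 := by decide +kernel
set_option maxRecDepth 100000 in
theorem ha3_mem : ha3 * J (Fin 3) (ZMod 3) * ha3ᵀ = J (Fin 3) (ZMod 3) := by decide +kernel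
set_option maxRecDepth 100000 in
theorem ha2_nc : wa2 * ha2 ≠ ha2 * wa2 := by decide +kernel
set_option maxRecDepth 100000 in
theorem ha2_mem : ha2 * J (Fin 3) (ZMod 3) * ha2ᵀ = J (Fin 3) (ZMod 3) := by decide +kernel
set_option maxRecDepth 100000 in
theorem wa_mem : wa * J (Fin 3) (ZMod 3) * waᵀ = J (Fin 3) (ZMod 3) := by decide +kernel
set_option maxRecDepth 100000 in
theorem wb_p2 : wb * wb = wb2 := by decide +kernel
set_option maxRecDepth 100000 in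
theorem wb_p4 : wb2 * wb2 = wb4 := by decide +kernel
set_option maxRecDepth 100000 in
theorem wb_p5 : wb4 * wb = wb5 := by decide +kernel
set_option maxRecDepth 100000 in
theorem wb_p10 : wb5 * wb5 = 1 := by decide +kernel
set_option maxRecDepth 100000 in
theorem hb5_nc : wb5 * hb5 ≠ hb5 * wb5 := by decide +kernel
set_option maxRecDepth 100000 in
theorem hb5_mem : hb5 * J (Fin 3) (ZMod 3) * hb5ᵀ = J (Fin 3) (ZMod 3) := by decide +kernel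
set_option maxRecDepth 100000 in
theorem hb2_nc : wb2 * hb2 ≠ hb2 * wb2 := by decide +kernel
set_option maxRecDepth 100000 in
theorem hb2_mem : hb2 * J (Fin 3) (ZMod 3) * hb2ᵀ = J (Fin 3) (ZMod 3) := by decide +kernel
set_option maxRecDepth 100000 in
theorem wb_mem : wb * J (Fin 3) (ZMod 3) * wbᵀ = J (Fin 3) (ZMod 3) := by decide +kernel
set_option maxRecDepth 100000 in
theorem wc_p2 : wc * wc = wc2 := by decide +kernel
set_option maxRecDepth 100000 in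
theorem wc_p3 : wc2 * wc = wc3 := by decide +kernel
set_option maxRecDepth 100000 in
theorem wc_p5 : wc3 * wc2 = wc5 := by decide +kernel
set_option maxRecDepth 100000 in
theorem wc_p10 : wc5 * wc5 = wc10 := by decide +kernel
set_option maxRecDepth 100000 in
theorem wc_p15 : wc10 * wc5 = 1 := by decide +kernel
set_option maxRecDepth 100000 in
theorem hc5_nc : wc5 * hc5 ≠ hc5 * wc5 := by decide +kernel
set_option maxRecDepth 100000 in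
theorem hc5_mem : hc5 * J (Fin 3) (ZMod 3) * hc5ᵀ = J (Fin 3) (ZMod 3) := by decide +kernel
set_option maxRecDepth 100000 in
theorem hc3_nc : wc3 * hc3 ≠ hc3 * wc3 := by decide +kernel
set_option maxRecDepth 100000 in
theorem hc3_mem : hc3 * J (Fin 3) (ZMod 3) * hc3ᵀ = J (Fin 3) (ZMod 3) := by decide +kernel
set_option maxRecDepth 100000 in
theorem wc_mem : wc * J (Fin 3) (ZMod 3) * wcᵀ = J (Fin 3) (ZMod 3) := by decide +kernel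
set_option maxRecDepth 100000 in
theorem wd_p2 : wd * wd = wd2 := by decide +kernel
set_option maxRecDepth 100000 in
theorem wd_p4 : wd2 * wd2 = wd4 := by decide +kernel
set_option maxRecDepth 100000 in
theorem wd_p6 : wd4 * wd2 = wd6 := by decide +kernel
set_option maxRecDepth 100000 in
theorem wd_p7 : wd6 * wd = wd7 := by decide +kernel
set_option maxRecDepth 100000 in
theorem wd_p14 : wd7 * wd7 = -1 := by decide +kernel
set_option maxRecDepth 100000 in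
theorem hd7_nc : wd7 * hd7 ≠ hd7 * wd7 := by decide +kernel
set_option maxRecDepth 100000 in
theorem hd7_mem : hd7 * J (Fin 3) (ZMod 3) * hd7ᵀ = J (Fin 3) (ZMod 3) := by decide +kernel
set_option maxRecDepth 100000 in
theorem hd2_nc : wd2 * hd2 ≠ hd2 * wd2 := by decide +kernel
set_option maxRecDepth 100000 in
theorem hd2_mem : hd2 * J (Fin 3) (ZMod 3) * hd2ᵀ = J (Fin 3) (ZMod 3) := by decide +kernel
set_option maxRecDepth 100000 in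
theorem wd_mem : wd * J (Fin 3) (ZMod 3) * wdᵀ = J (Fin 3) (ZMod 3) := by decide +kernel
set_option maxRecDepth 100000 in
theorem we_p2 : we * we = we2 := by decide +kernel
set_option maxRecDepth 100000 in
theorem we_p3 : we2 * we = we3 := by decide +kernel
set_option maxRecDepth 100000 in
theorem we_p6 : we3 * we3 = we6 := by decide +kernel
set_option maxRecDepth 100000 in
theorem we_p12 : we6 * we6 = we12 := by decide +kernel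
set_option maxRecDepth 100000 in
theorem we_p13 : we12 * we = 1 := by decide +kernel
set_option maxRecDepth 100000 in
theorem he1_nc : we * he1 ≠ he1 * we := by decide +kernel
set_option maxRecDepth 100000 in
theorem he1_mem : he1 * J (Fin 3) (ZMod 3) * he1ᵀ = J (Fin 3) (ZMod 3) := by decide +kernel
set_option maxRecDepth 100000 in
theorem we_mem : we * J (Fin 3) (ZMod 3) * weᵀ = J (Fin 3) (ZMod 3) := by decide +kernel

/-! ### powers -/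

theorem wa_pow2 : wa ^ 2 = wa2 := by rw [pow_two, wa_p2]
theorem wa_pow3 : wa ^ 3 = wa3 := by
  have h : wa ^ 3 = wa ^ 2 * wa := by rw [← pow_succ]
  rw [h, wa_pow2, wa_p3]
theorem wa_pow6 : wa ^ 6 = 1 := by
  have h : wa ^ 6 = wa ^ 3 * wa ^ 3 := by rw [← pow_add]
  rw [h, wa_pow3, wa_p6]

theorem wb_pow2 : wb ^ 2 = wb2 := by rw [pow_two, wb_p2]
theorem wb_pow4 : wb ^ 4 = wb4 := by
  have h : wb ^ 4 = wb ^ 2 * wb ^ 2 := by rw [← pow_add]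
  rw [h, wb_pow2, wb_p4]
theorem wb_pow5 : wb ^ 5 = wb5 := by
  have h : wb ^ 5 = wb ^ 4 * wb := by rw [← pow_succ]
  rw [h, wb_pow4, wb_p5]
theorem wb_pow10 : wb ^ 10 = 1 := by
  have h : wb ^ 10 = wb ^ 5 * wb ^ 5 := by rw [← pow_add]
  rw [h, wb_pow5, wb_p10]

theorem wc_pow2 : wc ^ 2 = wc2 := by rw [pow_two, wc_p2]
theorem wc_pow3 : wc ^ 3 = wc3 := by
  have h : wc ^ 3 = wc ^ 2 * wc := by rw [← pow_succ]
  rw [h, wc_pow2, wc_p3]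
theorem wc_pow5 : wc ^ 5 = wc5 := by
  have h : wc ^ 5 = wc ^ 3 * wc ^ 2 := by rw [← pow_add]
  rw [h, wc_pow3, wc_pow2, wc_p5]
theorem wc_pow10 : wc ^ 10 = wc10 := by
  have h : wc ^ 10 = wc ^ 5 * wc ^ 5 := by rw [← pow_add]
  rw [h, wc_pow5, wc_p10]
theorem wc_pow15 : wc ^ 15 = 1 := by
  have h : wc ^ 15 = wc ^ 10 * wc ^ 5 := by rw [← pow_add]
  rw [h, wc_pow10, wc_pow5, wc_p15]

theorem wd_pow2 : wd ^ 2 = wd2 := by rw [pow_two, wd_p2]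
theorem wd_pow4 : wd ^ 4 = wd4 := by
  have h : wd ^ 4 = wd ^ 2 * wd ^ 2 := by rw [← pow_add]
  rw [h, wd_pow2, wd_p4]
theorem wd_pow6 : wd ^ 6 = wd6 := by
  have h : wd ^ 6 = wd ^ 4 * wd ^ 2 := by rw [← pow_add]
  rw [h, wd_pow4, wd_pow2, wd_p6]
theorem wd_pow7 : wd ^ 7 = wd7 := by
  have h : wd ^ 7 = wd ^ 6 * wd := by rw [← pow_succ]
  rw [h, wd_pow6, wd_p7]
theorem wd_pow14 : wd ^ 14 = -1 := by
  have h : wd ^ 14 = wd ^ 7 * wd ^ 7 := by rw [← pow_add]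
  rw [h, wd_pow7, wd_p14]

theorem we_pow2 : we ^ 2 = we2 := by rw [pow_two, we_p2]
theorem we_pow3 : we ^ 3 = we3 := by
  have h : we ^ 3 = we ^ 2 * we := by rw [← pow_succ]
  rw [h, we_pow2, we_p3]
theorem we_pow6 : we ^ 6 = we6 := by
  have h : we ^ 6 = we ^ 3 * we ^ 3 := by rw [← pow_add]
  rw [h, we_pow3, we_p6]
theorem we_pow12 : we ^ 12 = we12 := by
  have h : we ^ 12 = we ^ 6 * we ^ 6 := by rw [← pow_add]
  rw [h, we_pow6, we_p12]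
theorem we_pow13 : we ^ 13 = 1 := by
  have h : we ^ 13 = we ^ 12 * we := by rw [← pow_succ]
  rw [h, we_pow12, we_p13]

/-- the symplectic group over the prime field -/
abbrev Sp3 := symplecticGroup (Fin 3) (ZMod 3)

def xa : Sp3 := ⟨wa, SymplecticGroup.mem_iff.mpr wa_mem⟩
def ya3 : Sp3 := ⟨ha3, SymplecticGroup.mem_iff.mpr ha3_mem⟩
def ya2 : Sp3 := ⟨ha2, SymplecticGroup.mem_iff.mpr ha2_mem⟩
def xb : Sp3 := ⟨wb, SymplecticGroup.mem_iff.mpr wb_mem⟩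
def yb5 : Sp3 := ⟨hb5, SymplecticGroup.mem_iff.mpr hb5_mem⟩
def yb2 : Sp3 := ⟨hb2, SymplecticGroup.mem_iff.mpr hb2_mem⟩
def xc : Sp3 := ⟨wc, SymplecticGroup.mem_iff.mpr wc_mem⟩
def yc5 : Sp3 := ⟨hc5, SymplecticGroup.mem_iff.mpr hc5_mem⟩
def yc3 : Sp3 := ⟨hc3, SymplecticGroup.mem_iff.mpr hc3_mem⟩
def xd : Sp3 := ⟨wd, SymplecticGroup.mem_iff.mpr wd_mem⟩
def yd7 : Sp3 := ⟨hd7, SymplecticGroup.mem_iff.mpr hd7_mem⟩
def yd2 : Sp3 := ⟨hd2, SymplecticGroup.mem_iff.mpr hd2_mem⟩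
def xe : Sp3 := ⟨we, SymplecticGroup.mem_iff.mpr we_mem⟩
def ye1 : Sp3 := ⟨he1, SymplecticGroup.mem_iff.mpr he1_mem⟩

theorem ord_pow {G : Type*} [Monoid G] (x : G) (a k b : ℕ) (hx : orderOf x = a) (hk : k ≠ 0)
    (hb : a / Nat.gcd a k = b) : orderOf (x ^ k) = b := by
  rw [orderOf_pow' x hk, hx, hb]

section lower

variable {F : Type*} [Field F]

/-- base change of symplectic matrices -/
def Psi (φ : ZMod 3 →+* F) : Sp3 →* symplecticGroup (Fin 3) F where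
  toFun A := ⟨A.1.map φ, SymplecticGroup.map_mem A.2 φ⟩
  map_one' := Subtype.ext (Matrix.map_one φ (map_zero φ) (map_one φ))
  map_mul' _ _ := Subtype.ext (Matrix.map_mul)

theorem Psi_injective (φ : ZMod 3 →+* F) : Function.Injective (Psi φ) := by
  intro A B h
  apply Subtype.ext
  have h1 : A.1.map φ = B.1.map φ := congrArg Subtype.val h
  exact Matrix.map_injective φ.injective h1

/-- the order of the class of a transported matrix in `PSp(6,F)`, from `±1` certificates -/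
theorem order_mk (φ : ZMod 3 →+* F) {n : ℕ} (hn : 0 < n) (x0 : Sp3) (hx : x0.1 ^ n = 1 ∨ x0.1 ^ n = -1)
    (hd : ∀ p : ℕ, p.Prime → p ∣ n → ∃ h0 : Sp3, x0.1 ^ (n / p) * h0.1 ≠ h0.1 * x0.1 ^ (n / p)) :
    orderOf (QuotientGroup.mk (Psi φ x0) : Cfsg.PSp 3 F) = n := by
  refine orderOf_eq_of_pow_and_pow_div_prime hn ?_ ?_
  · rw [← QuotientGroup.mk_pow, ← map_pow, QuotientGroup.eq_one_iff, Subgroup.mem_center_iff]
    intro z
    apply Subtype.ext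
    have hv : (Psi φ (x0 ^ n)).1 = (x0.1 ^ n).map φ := by
      show ((x0 ^ n).1).map φ = _
      rw [SubmonoidClass.coe_pow]
    show z.1 * (Psi φ (x0 ^ n)).1 = (Psi φ (x0 ^ n)).1 * z.1
    rw [hv]
    rcases hx with h | h
    · rw [h, Matrix.map_one φ (map_zero φ) (map_one φ), mul_one, one_mul]
    · have hm : ((-1 : M6)).map φ = -1 := by
        rw [Matrix.map_neg φ (fun a => map_neg φ a), Matrix.map_one φ (map_zero φ) (map_one φ)]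
      rw [h, hm, mul_neg, neg_mul, mul_one, one_mul]
  · intro p hp hpn h
    obtain ⟨h0, hh⟩ := hd p hp hpn
    rw [← QuotientGroup.mk_pow, ← map_pow, QuotientGroup.eq_one_iff] at h
    have hc := Subgroup.mem_center_iff.mp h (Psi φ h0)
    rw [← map_mul, ← map_mul] at hc
    have h2 := congrArg Subtype.val (Psi_injective φ hc)
    apply hh
    have h3 : h0.1 * x0.1 ^ (n / p) = x0.1 ^ (n / p) * h0.1 := by
      rw [← SubmonoidClass.coe_pow]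
      exact h2
    exact h3.symm

theorem prime_dvd_6 {p : ℕ} (hp : p.Prime) (h : p ∣ 6) : p = 2 ∨ p = 3 := by
  have h' : p ∣ 2 * 3 := h
  rcases (Nat.Prime.dvd_mul hp).mp h' with h1 | h1
  · exact Or.inl ((Nat.prime_dvd_prime_iff_eq hp Nat.prime_two).mp h1)
  · exact Or.inr ((Nat.prime_dvd_prime_iff_eq hp Nat.prime_three).mp h1)

theorem prime_dvd_10 {p : ℕ} (hp : p.Prime) (h : p ∣ 10) : p = 2 ∨ p = 5 := by
  have h' : p ∣ 2 * 5 := h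
  rcases (Nat.Prime.dvd_mul hp).mp h' with h1 | h1
  · exact Or.inl ((Nat.prime_dvd_prime_iff_eq hp Nat.prime_two).mp h1)
  · exact Or.inr ((Nat.prime_dvd_prime_iff_eq hp Nat.prime_five).mp h1)

theorem prime_dvd_15 {p : ℕ} (hp : p.Prime) (h : p ∣ 15) : p = 3 ∨ p = 5 := by
  have h' : p ∣ 3 * 5 := h
  rcases (Nat.Prime.dvd_mul hp).mp h' with h1 | h1
  · exact Or.inl ((Nat.prime_dvd_prime_iff_eq hp Nat.prime_three).mp h1)
  · exact Or.inr ((Nat.prime_dvd_prime_iff_eq hp Nat.prime_five).mp h1)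

theorem prime_dvd_14 {p : ℕ} (hp : p.Prime) (h : p ∣ 14) : p = 2 ∨ p = 7 := by
  have h' : p ∣ 2 * 7 := h
  rcases (Nat.Prime.dvd_mul hp).mp h' with h1 | h1
  · exact Or.inl ((Nat.prime_dvd_prime_iff_eq hp Nat.prime_two).mp h1)
  · exact Or.inr ((Nat.prime_dvd_prime_iff_eq hp (by norm_num)).mp h1)

theorem prime_dvd_13 {p : ℕ} (hp : p.Prime) (h : p ∣ 13) : p = 13 :=
  (Nat.prime_dvd_prime_iff_eq hp (by norm_num)).mp h

theorem ord6 (φ : ZMod 3 →+* F) : orderOf (QuotientGroup.mk (Psi φ xa) : Cfsg.PSp 3 F) = 6 := by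
  refine order_mk φ (by norm_num) xa (Or.inl wa_pow6) ?_
  intro p hp hpn
  rcases prime_dvd_6 hp hpn with rfl | rfl
  · refine ⟨ya3, ?_⟩
    show wa ^ (6 / 2) * ha3 ≠ ha3 * wa ^ (6 / 2)
    rw [show 6 / 2 = 3 from rfl, wa_pow3]
    exact ha3_nc
  · refine ⟨ya2, ?_⟩
    show wa ^ (6 / 3) * ha2 ≠ ha2 * wa ^ (6 / 3)
    rw [show 6 / 3 = 2 from rfl, wa_pow2]
    exact ha2_nc

theorem ord10 (φ : ZMod 3 →+* F) : orderOf (QuotientGroup.mk (Psi φ xb) : Cfsg.PSp 3 F) = 10 := by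
  refine order_mk φ (by norm_num) xb (Or.inl wb_pow10) ?_
  intro p hp hpn
  rcases prime_dvd_10 hp hpn with rfl | rfl
  · refine ⟨yb5, ?_⟩
    show wb ^ (10 / 2) * hb5 ≠ hb5 * wb ^ (10 / 2)
    rw [show 10 / 2 = 5 from rfl, wb_pow5]
    exact hb5_nc
  · refine ⟨yb2, ?_⟩
    show wb ^ (10 / 5) * hb2 ≠ hb2 * wb ^ (10 / 5)
    rw [show 10 / 5 = 2 from rfl, wb_pow2]
    exact hb2_nc

theorem ord15 (φ : ZMod 3 →+* F) : orderOf (QuotientGroup.mk (Psi φ xc) : Cfsg.PSp 3 F) = 15 := by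
  refine order_mk φ (by norm_num) xc (Or.inl wc_pow15) ?_
  intro p hp hpn
  rcases prime_dvd_15 hp hpn with rfl | rfl
  · refine ⟨yc5, ?_⟩
    show wc ^ (15 / 3) * hc5 ≠ hc5 * wc ^ (15 / 3)
    rw [show 15 / 3 = 5 from rfl, wc_pow5]
    exact hc5_nc
  · refine ⟨yc3, ?_⟩
    show wc ^ (15 / 5) * hc3 ≠ hc3 * wc ^ (15 / 5)
    rw [show 15 / 5 = 3 from rfl, wc_pow3]
    exact hc3_nc

theorem ord14 (φ : ZMod 3 →+* F) : orderOf (QuotientGroup.mk (Psi φ xd) : Cfsg.PSp 3 F) = 14 := by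
  refine order_mk φ (by norm_num) xd (Or.inr wd_pow14) ?_
  intro p hp hpn
  rcases prime_dvd_14 hp hpn with rfl | rfl
  · refine ⟨yd7, ?_⟩
    show wd ^ (14 / 2) * hd7 ≠ hd7 * wd ^ (14 / 2)
    rw [show 14 / 2 = 7 from rfl, wd_pow7]
    exact hd7_nc
  · refine ⟨yd2, ?_⟩
    show wd ^ (14 / 7) * hd2 ≠ hd2 * wd ^ (14 / 7)
    rw [show 14 / 7 = 2 from rfl, wd_pow2]
    exact hd2_nc

theorem ord13 (φ : ZMod 3 →+* F) : orderOf (QuotientGroup.mk (Psi φ xe) : Cfsg.PSp 3 F) = 13 := by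
  refine order_mk φ (by norm_num) xe (Or.inl we_pow13) ?_
  intro p hp hpn
  obtain rfl := prime_dvd_13 hp hpn
  refine ⟨ye1, ?_⟩
  show we ^ (13 / 13) * he1 ≠ he1 * we ^ (13 / 13)
  rw [show 13 / 13 = 1 from rfl, pow_one]
  exact he1_nc

end lower

section final

variable {F : Type*} [Field F] [Fintype F]

/-- the ring homomorphism from the prime field -/
noncomputable def phi (hF : Fintype.card F = 3) : ZMod 3 →+* F :=
  haveI : Fact (Nat.Prime 3) := ⟨Nat.prime_three⟩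
  haveI := charP_of_card_eq_prime hF
  ZMod.castHom (dvd_refl 3) F

/-- **L2**: elements of orders `6, 10, 15, 14` in `PSp(6,3)` -/
theorem exists_orderOf (hF : Fintype.card F = 3) :
    ∀ n ∈ ({6, 10, 15, 14} : Finset ℕ), ∃ g : Cfsg.PSp 3 F, orderOf g = n := by
  intro n hn
  simp only [Finset.mem_insert, Finset.mem_singleton] at hn
  rcases hn with rfl | rfl | rfl | rfl
  · exact ⟨_, ord6 (phi hF)⟩
  · exact ⟨_, ord10 (phi hF)⟩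
  · exact ⟨_, ord15 (phi hF)⟩
  · exact ⟨_, ord14 (phi hF)⟩

/-- elements of each prime order `2, 3, 5, 7, 13` in `PSp(6,3)` -/
theorem exists_orderOf_prime (hF : Fintype.card F = 3) :
    ∀ n ∈ ({2, 3, 5, 7, 13} : Finset ℕ), ∃ g : Cfsg.PSp 3 F, orderOf g = n := by
  intro n hn
  simp only [Finset.mem_insert, Finset.mem_singleton] at hn
  rcases hn with rfl | rfl | rfl | rfl | rfl
  · exact ⟨_, ord_pow _ 6 3 2 (ord6 (phi hF)) (by norm_num) (by norm_num)⟩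
  · exact ⟨_, ord_pow _ 6 2 3 (ord6 (phi hF)) (by norm_num) (by norm_num)⟩
  · exact ⟨_, ord_pow _ 10 2 5 (ord10 (phi hF)) (by norm_num) (by norm_num)⟩
  · exact ⟨_, ord_pow _ 14 2 7 (ord14 (phi hF)) (by norm_num) (by norm_num)⟩
  · exact ⟨_, ord13 (phi hF)⟩

theorem card_Sp63 (hF : Fintype.card F = 3) :
    Nat.card (Matrix.symplecticGroup (Fin 3) F) = 2 ^ 10 * 3 ^ 9 * 5 * 7 * 13 := by
  rw [Cfsg.Agent.Lib.Helper15.card_symplecticGroup, hF]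
  norm_num [Finset.prod_range_succ]

theorem card_PSp63_dvd (hF : Fintype.card F = 3) :
    Nat.card (Cfsg.PSp 3 F) ∣ 2 ^ 10 * 3 ^ 9 * 5 * 7 * 13 := by
  rw [← card_Sp63 hF]
  exact Subgroup.card_quotient_dvd_card _

/-- **L1**: the prime divisors of the order of `PSp(6,3)` -/
theorem prime_dvd_card_iff (hF : Fintype.card F = 3) (p : ℕ) (hp : p.Prime) :
    p ∣ Nat.card (Cfsg.PSp 3 F) ↔ p ∈ ({2, 3, 5, 7, 13} : Finset ℕ) := by
  constructor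
  · intro h
    have h1 : p ∣ 2 ^ 10 * 3 ^ 9 * 5 * 7 * 13 := h.trans (card_PSp63_dvd hF)
    simp only [Finset.mem_insert, Finset.mem_singleton]
    rcases (Nat.Prime.dvd_mul hp).mp h1 with h2 | h2
    · rcases (Nat.Prime.dvd_mul hp).mp h2 with h3 | h3
      · rcases (Nat.Prime.dvd_mul hp).mp h3 with h4 | h4
        · rcases (Nat.Prime.dvd_mul hp).mp h4 with h5 | h5
          · exact Or.inl ((Nat.prime_dvd_prime_iff_eq hp Nat.prime_two).mp (hp.dvd_of_dvd_pow h5))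
          · exact Or.inr (Or.inl ((Nat.prime_dvd_prime_iff_eq hp Nat.prime_three).mp (hp.dvd_of_dvd_pow h5)))
        · exact Or.inr (Or.inr (Or.inl ((Nat.prime_dvd_prime_iff_eq hp Nat.prime_five).mp h4)))
      · exact Or.inr (Or.inr (Or.inr (Or.inl ((Nat.prime_dvd_prime_iff_eq hp (by norm_num)).mp h3))))
    · exact Or.inr (Or.inr (Or.inr (Or.inr ((Nat.prime_dvd_prime_iff_eq hp (by norm_num)).mp h2))))
  · intro h
    obtain ⟨g, hg⟩ := exists_orderOf_prime hF p h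
    rw [← hg]
    exact orderOf_dvd_natCard g

end final

end Cfsg.Agent.Lib.Helper9.Sp63Ord
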