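import Mathlib
import Cfsg.Agent.Lib.Helper9.SURUC0

/-!
# Regular unipotent generation of `SU_n(q)`: two-dimensional growth (B2)
-/

set_option autoImplicit false
set_option linter.unusedSectionVars false
set_option linter.unusedVariables false
set_option linter.unusedSimpArgs false

namespace Cfsg.Agent.Lib.Helper9.SURU

open Matrix Cfsg.Agent.Lib.Helper6 Cfsg.Agent.S0779 Cfsg.Agent.S0781
open Cfsg.Agent.Lib.Helper6.SUG Cfsg.Agent.Lib.Helper13 Cfsg.Agent.Lib.Helper9.SUGen

section B2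
variable {F : Type*} [Field F] [Fintype F] {q : ℕ}

/-- B2.  two-dimensional growth, `embSU` form. -/
theorem W_step2 (hF : Fintype.card F = q ^ 2) (n : ℕ) (hn : 3 ≤ n) (h32 : ¬ (n = 3 ∧ q = 2))
    (L : Subgroup ↥(Cfsg.SU (n + 1 + 1) F q))
    (hall : ∀ v : Fin n → F, Cfsg.hermForm n F q v v = 0 →
      XL ((L.comap embSU).comap embSU) v)
    (a b a' b' : F) (hab : a * a ^ q + b * b ^ q = 0) (hab' : a' * a' ^ q + b' * b' ^ q = 0)
    (hne : a * a' ^ q + b * b' ^ q ≠ 0) (v v' : Fin n → F) (hv0 : v ≠ 0) (hv0' : v' ≠ 0)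
    (hx : XL L (pl (n + 1 + 1) 0 a b + up (up v)))
    (hx' : XL L (pl (n + 1 + 1) 0 a' b' + up (up v'))) :
    ∀ x, Cfsg.hermForm (n + 1 + 1) F q x x = 0 → XL L x := by
  have hq0 : q ≠ 0 := (q_pos hF).ne'
  have hk0 : 0 + 1 < n + 1 + 1 := by omega
  -- `a` and `a'` are non-zero
  have ha0 : a ≠ 0 := by
    intro h
    rw [h, zero_mul, zero_add] at hab
    have hb : b = 0 := by
      rcases mul_eq_zero.mp hab with h1 | h1
      · exact h1
      · exact (pow_eq_zero_iff hq0).mp h1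
    apply hne
    rw [h, hb, zero_mul, zero_mul, add_zero]
  have ha0' : a' ≠ 0 := by
    intro h
    rw [h, zero_mul, zero_add] at hab'
    have hb : b' = 0 := by
      rcases mul_eq_zero.mp hab' with h1 | h1
      · exact h1
      · exact (pow_eq_zero_iff hq0).mp h1
    apply hne
    rw [h, hb, zero_pow hq0, mul_zero, mul_zero, add_zero]
  -- orthogonality of the two parts
  have hPU : ∀ (c d : F) (y : Fin n → F),
      Cfsg.hermForm (n + 1 + 1) F q (pl (n + 1 + 1) 0 c d) (up (up y)) = 0 := by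
    intro c d y
    rw [herm_pl_left 0 hk0, upup_apply_zero, upup_apply_one, zero_pow hq0]
    ring
  have hnorm : ∀ (c d : F) (y : Fin n → F),
      Cfsg.hermForm (n + 1 + 1) F q (pl (n + 1 + 1) 0 c d + up (up y))
        (pl (n + 1 + 1) 0 c d + up (up y)) = c * c ^ q + d * d ^ q + Cfsg.hermForm n F q y y := by
    intro c d y
    rw [herm_add_self hF _ _ (hPU c d y), herm_pl_pl_same 0 hk0, herm_up, herm_up]
  have hvv : Cfsg.hermForm n F q v v = 0 := by
    have h := hx.1
    rw [hnorm, hab, zero_add] at h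
    exact h
  have hvv' : Cfsg.hermForm n F q v' v' = 0 := by
    have h := hx'.1
    rw [hnorm, hab', zero_add] at h
    exact h
  have hTT : ∀ t ∈ TT n F q, embSU (embSU t) ∈ L := by
    intro t ht
    exact TT_le_of_forall hF _ hall ht
  have hact : ∀ (t : ↥(Cfsg.SU n F q)) (c d : F) (y : Fin n → F),
      av (embSU (embSU t)) (pl (n + 1 + 1) 0 c d + up (up y)) =
        pl (n + 1 + 1) 0 c d + up (up (av t y)) := by
    intro t c d y
    rw [av_add, av_embSU_up, av_embSU_up]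
    congr 1
    apply av_emb2_fix
    exact tail_tail_pl0 _ _
  -- moving the old part
  have hmove : ∀ v'' : Fin n → F, v'' ≠ 0 → Cfsg.hermForm n F q v'' v'' = 0 →
      XL L (pl (n + 1 + 1) 0 a b + up (up v'')) := by
    intro v'' h0 hiso
    obtain ⟨t, ht, htv⟩ := rel_iso hF hn v v'' hv0 h0 hvv hiso
    have := hx.map _ (hTT t ht)
    rwa [hact, htv] at this
  -- the parameters
  obtain ⟨κ, hκ0, hκ⟩ := exists_trace_zero hF
  obtain ⟨μ, hμ⟩ : ∃ μ : F, μ = -a / a' := ⟨_, rfl⟩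
  have hμ0 : μ ≠ 0 := by
    rw [hμ]
    exact div_ne_zero (neg_ne_zero.mpr ha0) ha0'
  have hμq0 : μ ^ q ≠ 0 := pow_ne_zero _ hμ0
  obtain ⟨η, hη⟩ : ∃ η : F, η = κ / μ ^ q - (a * a' ^ q + b * b' ^ q) := ⟨_, rfl⟩
  -- an isotropic vector with prescribed product
  obtain ⟨v'', hv''0, hv''iso, hv''⟩ : ∃ v'' : Fin n → F, v'' ≠ 0 ∧
      Cfsg.hermForm n F q v'' v'' = 0 ∧ Cfsg.hermForm n F q v'' v' = η := by
    by_cases hη0 : η = 0
    · exact ⟨v', hv0', hvv', by rw [hvv', hη0]⟩
    · obtain ⟨y, hyy, -, hyv⟩ := exists_iso_nonperp hF v' v' hv0' hv0' hvv' hvv' hvv'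
      refine ⟨(η / Cfsg.hermForm n F q y v') • y, ?_, ?_, ?_⟩
      · intro h0
        have hy0 : y ≠ 0 := by
          rintro rfl
          exact hyv (herm_zero_left _)
        rcases smul_eq_zero.mp h0 with h1 | h1
        · exact (div_ne_zero hη0 hyv) h1
        · exact hy0 h1
      · rw [herm_smul_left, herm_smul_right, hyy, mul_zero, mul_zero]
      · rw [herm_smul_left, div_mul_cancel₀ _ hyv]
  have hX := hmove v'' hv''0 hv''iso
  have hB : Cfsg.hermForm (n + 1 + 1) F q (pl (n + 1 + 1) 0 a b + up (up v''))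
      (pl (n + 1 + 1) 0 a' b' + up (up v')) = κ / μ ^ q := by
    rw [herm_add_left, herm_add_right hF, herm_add_right hF, hPU, herm_swap_zero hF (hPU a' b' v''),
      herm_pl_pl_same 0 hk0, herm_up, herm_up, hv'', hη]
    ring
  have hB0 : Cfsg.hermForm (n + 1 + 1) F q (pl (n + 1 + 1) 0 a b + up (up v''))
      (pl (n + 1 + 1) 0 a' b' + up (up v')) ≠ 0 := by
    rw [hB]
    exact div_ne_zero hκ0 hμq0
  obtain ⟨y₁, hy₁⟩ : ∃ y₁ : Fin (n + 1 + 1) → F, y₁ = (pl (n + 1 + 1) 0 a b + up (up v'')) +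
      μ • (pl (n + 1 + 1) 0 a' b' + up (up v')) := ⟨_, rfl⟩
  have hY : XL L y₁ := by
    rw [hy₁]
    apply XL.rule hF hX hx' hB0 μ
    have hX1 := hX.1
    have hx1' := hx'.1
    have hB2 : Cfsg.hermForm (n + 1 + 1) F q (pl (n + 1 + 1) 0 a' b' + up (up v'))
        (pl (n + 1 + 1) 0 a b + up (up v'')) = (κ / μ ^ q) ^ q := by
      rw [← hB, herm_conj hF]
    generalize pl (n + 1 + 1) 0 a b + up (up v'') = A at hX1 hB hB2 ⊢
    generalize pl (n + 1 + 1) 0 a' b' + up (up v') = B' at hx1' hB hB2 ⊢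
    rw [herm_add_left, herm_add_right hF, herm_add_right hF, herm_smul_left, herm_smul_left,
      herm_smul_right, herm_smul_right, hX1, hx1', hB, hB2, div_pow, pow_q_q hF, hκ]
    field_simp
    ring
  have hy0 : y₁ 0 = 0 := by
    rw [hy₁]
    simp only [Pi.add_apply, Pi.smul_apply, smul_eq_mul]
    have e1 : ∀ c d : F, pl (n + 1 + 1) 0 c d 0 = c := fun c d => pl_apply_same 0 (by omega) c d
    have e2 : ∀ y : Fin n → F, up (up y) (0 : Fin (n + 1 + 1)) = 0 := fun y => rfl
    rw [e1, e1, e2, e2, hμ]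
    field_simp
    ring
  have hy1 : y₁ 1 ≠ 0 := by
    rw [hy₁]
    simp only [Pi.add_apply, Pi.smul_apply, smul_eq_mul]
    have e1 : ∀ c d : F, pl (n + 1 + 1) 0 c d 1 = d := fun c d => pl_apply_succ 0 hk0 c d
    have e2 : ∀ y : Fin n → F, up (up y) (1 : Fin (n + 1 + 1)) = 0 := fun y => rfl
    rw [e1, e1, e2, e2, hμ]
    intro h
    apply hne
    have haq : a ^ q ≠ 0 := pow_ne_zero _ ha0
    have hb' : b' = b * a' / a := by
      field_simp
      field_simp at h
      linear_combination (-1 : F) * h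
    rw [hb', div_pow, mul_pow]
    field_simp
    linear_combination (a' ^ q) * hab
  -- first growth step
  have hall1 : ∀ x : Fin (n + 1) → F, Cfsg.hermForm (n + 1) F q x x = 0 →
      XL (L.comap embSU) x := by
    have hyup : y₁ = up (Fin.tail y₁) := by
      conv_lhs => rw [← Fin.cons_self_tail y₁, hy0]
      rfl
    apply step1 hF n (by omega) h32 (L.comap embSU) hall (Fin.tail y₁)
    · apply XL_comap hF
      rw [← hyup]
      exact hY
    · exact hy1
  -- second growth step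
  apply step1 hF (n + 1) (by omega) (by omega) L hall1 _ hx
  simp only [Pi.add_apply]
  have e1 : pl (n + 1 + 1) 0 a b 0 = a := pl_apply_same 0 (by omega) a b
  have e2 : up (up v) (0 : Fin (n + 1 + 1)) = 0 := rfl
  rw [e1, e2, add_zero]
  exact ha0

end B2

end Cfsg.Agent.Lib.Helper9.SURU
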