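import Mathlib
import Cfsg.Agent.Lib.Helper9.SURUB2

/-!
# Regular unipotent generation of `SU_n(q)`: the growth lemmas in support form (B3, B4, B5)
-/

set_option autoImplicit false
set_option linter.unusedSectionVars false
set_option linter.unusedVariables false
set_option linter.unusedSimpArgs false

namespace Cfsg.Agent.Lib.Helper9.SURU

open Matrix Cfsg.Agent.Lib.Helper6 Cfsg.Agent.S0779 Cfsg.Agent.S0781
open Cfsg.Agent.Lib.Helper6.SUG Cfsg.Agent.Lib.Helper13 Cfsg.Agent.Lib.Helper9.SUGen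

section B3
variable {F : Type*} [Field F] [Fintype F] {q : ℕ}

theorem Sup_up {n c : ℕ} {v : Fin n → F} (h : Sup n c v) : Sup (n + 1) (c + 1) (up v) := by
  intro a ha
  refine Fin.cases ?_ (fun j => ?_) a (motive := fun a => a.val < c + 1 → up v a = 0) ha
  · intro _
    rfl
  · intro hj
    rw [up_succ]
    apply h
    simpa using hj

theorem Sup_tail {n c : ℕ} {v : Fin (n + 1) → F} (h : Sup (n + 1) (c + 1) v) :
    Sup n c (Fin.tail v) := by
  intro a ha
  unfold Fin.tail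
  apply h
  simp
  omega

theorem eq_up_tail {n : ℕ} (v : Fin (n + 1) → F) (h0 : v 0 = 0) : v = up (Fin.tail v) := by
  conv_lhs => rw [← Fin.cons_self_tail v, h0]
  rfl

theorem Sup.eq_up_tail {n c : ℕ} {v : Fin (n + 1) → F} (h : Sup (n + 1) (c + 1) v) :
    v = up (Fin.tail v) :=
  SURU.eq_up_tail v (h 0 (by simp))

theorem AllIso_succ_iff (hF : Fintype.card F = q ^ 2) {n c : ℕ}
    (L : Subgroup ↥(Cfsg.SU (n + 1) F q)) : AllIso L (c + 1) ↔ AllIso (L.comap embSU) c := by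
  constructor
  · intro h v hv hvv
    apply XL_comap hF
    apply h _ (Sup_up hv)
    rw [herm_up]
    exact hvv
  · intro h v hv hvv
    rw [hv.eq_up_tail] at hvv ⊢
    rw [herm_up] at hvv
    exact XL_up hF (h _ (Sup_tail hv) hvv)

/-- B3.  `step1` in support form. -/
theorem S1_aux (hF : Fintype.card F = q ^ 2) : ∀ (c : ℕ) {n : ℕ} (L : Subgroup ↥(Cfsg.SU n F q))
    (hc : c + 3 ≤ n) (h32 : ¬ (n - (c + 1) = 3 ∧ q = 2)) (hall : AllIso L (c + 1))
    (xw : Fin n → F) (hxw : XL L xw) (hs : Sup n c xw) (hne : xw ⟨c, by omega⟩ ≠ 0),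
    AllIso L c := by
  intro c
  induction c with
  | zero =>
    intro n L hc h32 hall xw hxw hs hne
    obtain ⟨n', rfl⟩ : ∃ n', n = n' + 1 := ⟨n - 1, by omega⟩
    have h1 := step1 hF n' (by omega) (by omega) L
      (fun v hv => (AllIso_succ_iff hF L).mp hall v (fun a ha => absurd ha (Nat.not_lt_zero _)) hv)
      xw hxw hne
    intro v _ hvv
    exact h1 v hvv
  | succ c ih =>
    intro n L hc h32 hall xw hxw hs hne
    obtain ⟨n', rfl⟩ : ∃ n', n = n' + 1 := ⟨n - 1, by omega⟩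
    rw [AllIso_succ_iff hF]
    apply ih (L.comap embSU) (by omega) (by omega) ((AllIso_succ_iff hF L).mp hall) (Fin.tail xw)
    · apply XL_comap hF
      rw [← hs.eq_up_tail]
      exact hxw
    · exact Sup_tail hs
    · exact hne

/-- B4.  `W_step2` in support form. -/
theorem S2_aux (hF : Fintype.card F = q ^ 2) : ∀ (c : ℕ) {n : ℕ} (L : Subgroup ↥(Cfsg.SU n F q))
    (hc : c + 5 ≤ n) (h32 : ¬ (n - (c + 2) = 3 ∧ q = 2)) (hall : AllIso L (c + 2))
    (a b a' b' : F) (hab : a * a ^ q + b * b ^ q = 0) (hab' : a' * a' ^ q + b' * b' ^ q = 0)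
    (hne : a * a' ^ q + b * b' ^ q ≠ 0) (v v' : Fin n → F) (hv : Sup n (c + 2) v)
    (hv' : Sup n (c + 2) v') (hv0 : v ≠ 0) (hv0' : v' ≠ 0)
    (hx : XL L (pl n c a b + v)) (hx' : XL L (pl n c a' b' + v')), AllIso L c := by
  intro c
  induction c with
  | zero =>
    intro n L hc h32 hall a b a' b' hab hab' hne v v' hv hv' hv0 hv0' hx hx'
    obtain ⟨n', rfl⟩ : ∃ n', n = n' + 1 + 1 := ⟨n - 2, by omega⟩
    have e1 : v = up (up (Fin.tail (Fin.tail v))) := by
      have h1 := hv.eq_up_tail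
      have h2 := (Sup_tail hv).eq_up_tail
      rw [← h2, ← h1]
    have e2 : v' = up (up (Fin.tail (Fin.tail v'))) := by
      have h1 := hv'.eq_up_tail
      have h2 := (Sup_tail hv').eq_up_tail
      rw [← h2, ← h1]
    have hall2 : AllIso ((L.comap embSU).comap embSU) 0 :=
      (AllIso_succ_iff hF _).mp ((AllIso_succ_iff hF L).mp hall)
    have h1 := W_step2 hF n' (by omega) (by omega) L
      (fun y hy => hall2 y (fun a ha => absurd ha (Nat.not_lt_zero _)) hy)
      a b a' b' hab hab' hne (Fin.tail (Fin.tail v)) (Fin.tail (Fin.tail v'))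
      (by
        intro h0
        apply hv0
        rw [e1, h0, up_zero, up_zero])
      (by
        intro h0
        apply hv0'
        rw [e2, h0, up_zero, up_zero])
      (by rw [← e1]; exact hx) (by rw [← e2]; exact hx')
    intro y _ hyy
    exact h1 y hyy
  | succ c ih =>
    intro n L hc h32 hall a b a' b' hab hab' hne v v' hv hv' hv0 hv0' hx hx'
    obtain ⟨n', rfl⟩ : ∃ n', n = n' + 1 := ⟨n - 1, by omega⟩
    have hv1 : Sup (n' + 1) (c + 1) v := hv.mono (by omega)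
    have hv1' : Sup (n' + 1) (c + 1) v' := hv'.mono (by omega)
    rw [AllIso_succ_iff hF]
    apply ih (L.comap embSU) (by omega) (by omega) ((AllIso_succ_iff hF L).mp hall)
      a b a' b' hab hab' hne (Fin.tail v) (Fin.tail v') (Sup_tail hv) (Sup_tail hv')
    · intro h0
      apply hv0
      rw [hv1.eq_up_tail, h0, up_zero]
    · intro h0
      apply hv0'
      rw [hv1'.eq_up_tail, h0, up_zero]
    · apply XL_comap hF
      rw [up_add, up_pl, ← hv1.eq_up_tail]
      exact hx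
    · apply XL_comap hF
      rw [up_add, up_pl, ← hv1'.eq_up_tail]
      exact hx'

/-- B5.  `W_odd` in support form. -/
theorem S0_aux (hF : Fintype.card F = q ^ 2) (C : Hyp F q) (m' : ℕ) (hm' : 1 ≤ m') :
    ∀ (c : ℕ) {n : ℕ} (L : Subgroup ↥(Cfsg.SU n F q)) (hn : n = c + 2 * m' + 1)
    (hL : WH C n m' (c + 1) L) (xw : Fin n → F) (hxw : XL L xw) (hs : Sup n c xw)
    (hne : xw ⟨c, by omega⟩ ≠ 0), AllIso L c := by
  intro c
  induction c with
  | zero =>
    intro n L hn hL xw hxw hs hne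
    obtain ⟨n', rfl⟩ : ∃ n', n = n' + 1 := ⟨n - 1, by omega⟩
    have h1 := W_odd C hF m' hm' n' (by omega) L hL xw hxw hne
    intro v _ hvv
    exact h1 v hvv
  | succ c ih =>
    intro n L hn hL xw hxw hs hne
    obtain ⟨n', rfl⟩ : ∃ n', n = n' + 1 := ⟨n - 1, by omega⟩
    rw [AllIso_succ_iff hF]
    apply ih (L.comap embSU) (by omega) (WH_comap C hF n' m' (c + 1) L hL) (Fin.tail xw)
    · apply XL_comap hF
      rw [← hs.eq_up_tail]
      exact hxw
    · exact Sup_tail hs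
    · exact hne

/-- B3.  `step1` in support form. -/
theorem S1 (hF : Fintype.card F = q ^ 2) {n : ℕ} (L : Subgroup ↥(Cfsg.SU n F q)) (c : ℕ)
    (hc : c + 3 ≤ n) (h32 : ¬ (n - (c + 1) = 3 ∧ q = 2)) (hall : AllIso L (c + 1))
    (xw : Fin n → F) (hxw : XL L xw) (hs : Sup n c xw) (hne : xw ⟨c, by omega⟩ ≠ 0) :
    AllIso L c :=
  S1_aux hF c L hc h32 hall xw hxw hs hne

/-- B4.  `W_step2` in support form. -/
theorem S2 (hF : Fintype.card F = q ^ 2) {n : ℕ} (L : Subgroup ↥(Cfsg.SU n F q)) (c : ℕ)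
    (hc : c + 5 ≤ n) (h32 : ¬ (n - (c + 2) = 3 ∧ q = 2)) (hall : AllIso L (c + 2))
    (a b a' b' : F) (hab : a * a ^ q + b * b ^ q = 0) (hab' : a' * a' ^ q + b' * b' ^ q = 0)
    (hne : a * a' ^ q + b * b' ^ q ≠ 0) (v v' : Fin n → F) (hv : Sup n (c + 2) v)
    (hv' : Sup n (c + 2) v') (hv0 : v ≠ 0) (hv0' : v' ≠ 0)
    (hx : XL L (pl n c a b + v)) (hx' : XL L (pl n c a' b' + v')) : AllIso L c :=
  S2_aux hF c L hc h32 hall a b a' b' hab hab' hne v v' hv hv' hv0 hv0' hx hx'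

/-- B5.  `W_odd` in support form. -/
theorem S0 (hF : Fintype.card F = q ^ 2) (C : Hyp F q) (m' : ℕ) (hm' : 1 ≤ m') {n : ℕ}
    (L : Subgroup ↥(Cfsg.SU n F q)) (c : ℕ) (hn : n = c + 2 * m' + 1)
    (hL : WH C n m' (c + 1) L) (xw : Fin n → F) (hxw : XL L xw) (hs : Sup n c xw)
    (hne : xw ⟨c, by omega⟩ ≠ 0) : AllIso L c :=
  S0_aux hF C m' hm' c L hn hL xw hxw hs hne

/-- D1.  the induction over the planes `Q_k`, `2 ≤ k < m`. -/
theorem grow_all (hF : Fintype.card F = q ^ 2) (C : Hyp F q) (m : ℕ) (hm : 2 ≤ m)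
    (H : Subgroup ↥(Cfsg.SU (2 * m + 1) F q)) (hbase : AllIso H (2 * m - 4))
    (hlink : ∀ k, 2 ≤ k → k < m → AllIso H (2 * (m - k)) →
      ∃ v v' : Fin (2 * m + 1) → F, Sup (2 * m + 1) (2 * (m - k)) v ∧
        Sup (2 * m + 1) (2 * (m - k)) v' ∧ v ≠ 0 ∧ v' ≠ 0 ∧
        XL H (ev C (2 * m + 1) (2 * (m - 1 - k)) + v) ∧
        XL H (fv C (2 * m + 1) (2 * (m - 1 - k)) + v')) : H = ⊤ := by
  have key : ∀ k, 2 ≤ k → k ≤ m → AllIso H (2 * (m - k)) := by
    intro k hk
    induction k, hk using Nat.le_induction with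
    | base =>
      intro _
      have e : 2 * (m - 2) = 2 * m - 4 := by omega
      rw [e]
      exact hbase
    | succ k hk ih =>
      intro hkm
      have hA := ih (by omega)
      obtain ⟨v, v', hv, hv', hv0, hv0', hx, hx'⟩ := hlink k hk (by omega) hA
      have e1 : 2 * (m - 1 - k) = 2 * (m - (k + 1)) := by omega
      have e2 : 2 * (m - k) = 2 * (m - (k + 1)) + 2 := by omega
      rw [e1] at hx hx'
      rw [e2] at hA hv hv'
      have hne : C.u0 * C.v0 ^ q + C.u1 * C.v1 ^ q ≠ 0 := by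
        rw [C.huv]
        exact one_ne_zero
      exact S2 hF H (2 * (m - (k + 1))) (by omega) (by omega) hA C.u0 C.u1 C.v0 C.v1 C.huu C.hvv hne
        v v' hv hv' hv0 hv0' hx hx'
  have h0 := key m hm le_rfl
  rw [Nat.sub_self, mul_zero] at h0
  exact top_of_AllIso hF (by omega) (by omega) H h0

end B3

end Cfsg.Agent.Lib.Helper9.SURU
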