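import Mathlib

/-!
# S2074 piece P5 (helper9 for helper22): conjugation by a normalising element as an automorphism
-/

set_option autoImplicit false

namespace Cfsg.Agent.Lib.Helper22.SuzOut

/-- conjugation by `q`, which normalises `K`, as an automorphism of `K` -/
def conjAut {G : Type*} [Group G] (K : Subgroup G) (q : G) (h1 : ∀ k ∈ K, q * k * q⁻¹ ∈ K)
    (h2 : ∀ k ∈ K, q⁻¹ * k * q ∈ K) : MulAut K where
  toFun k := ⟨q * k.1 * q⁻¹, h1 k.1 k.2⟩
  invFun k := ⟨q⁻¹ * k.1 * q, h2 k.1 k.2⟩
  left_inv k := by apply Subtype.ext; simp [mul_assoc]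
  right_inv k := by apply Subtype.ext; simp [mul_assoc]
  map_mul' a b := by apply Subtype.ext; simp [mul_assoc]

theorem conjAut_apply {G : Type*} [Group G] (K : Subgroup G) (q : G)
    (h1 : ∀ k ∈ K, q * k * q⁻¹ ∈ K) (h2 : ∀ k ∈ K, q⁻¹ * k * q ∈ K) (k : K) :
    ((conjAut K q h1 h2 k : K) : G) = q * k.1 * q⁻¹ := rfl

/-- an element conjugating a generating set of a finite subgroup into it normalises it -/
theorem normalizes_of_gens {G : Type*} [Group G] (K : Subgroup G) [Finite K] (S : Set G)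
    (hS : Subgroup.closure S = K) (q : G) (h : ∀ s ∈ S, q * s * q⁻¹ ∈ K) :
    (∀ k ∈ K, q * k * q⁻¹ ∈ K) ∧ (∀ k ∈ K, q⁻¹ * k * q ∈ K) := by
  have h1 : ∀ k ∈ K, q * k * q⁻¹ ∈ K := by
    intro k hk
    rw [← hS] at hk
    induction hk using Subgroup.closure_induction with
    | mem s hs => exact h s hs
    | one => rw [mul_one, mul_inv_cancel]; exact K.one_mem
    | mul a b _ _ iha ihb =>
      have : q * (a * b) * q⁻¹ = (q * a * q⁻¹) * (q * b * q⁻¹) := by group
      rw [this]
      exact K.mul_mem iha ihb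
    | inv a _ iha =>
      have : q * a⁻¹ * q⁻¹ = (q * a * q⁻¹)⁻¹ := by group
      rw [this]
      exact K.inv_mem iha
  refine ⟨h1, ?_⟩
  -- conjugation by `q` is an injective self-map of the finite set `K`, hence surjective
  let f : K → K := fun k => ⟨q * k.1 * q⁻¹, h1 k.1 k.2⟩
  have hinj : Function.Injective f := by
    intro a b hab
    have h' : q * a.1 * q⁻¹ = q * b.1 * q⁻¹ := congrArg Subtype.val hab
    apply Subtype.ext
    exact mul_left_cancel (mul_right_cancel h')
  have hsurj : Function.Surjective f := Finite.surjective_of_injective hinj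
  intro k hk
  obtain ⟨a, ha⟩ := hsurj ⟨k, hk⟩
  have h' : q * a.1 * q⁻¹ = k := congrArg Subtype.val ha
  have : q⁻¹ * k * q = a.1 := by
    rw [← h']
    group
  rw [this]
  exact a.2

end Cfsg.Agent.Lib.Helper22.SuzOut
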