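import Mathlib
import Cfsg.Prelude.Def_Blocks
import Cfsg.Prelude.Def_BlockLocal
import Cfsg.Prelude.Def_BlockRank
import Cfsg.Prelude.Def_BrauerPairs
import Cfsg.Agent.Lib.Helper24.StableCover

/-! # S4640 leaf [A] (helper9): the covering block of a stable block of a normal subgroup of
`p`-power index -/

set_option autoImplicit false

namespace Cfsg.Agent.Lib.Helper24.PIdx

open Cfsg
open scoped ComplexConjugate

variable {G : Type*} [Group G] [Fintype G] {p : ℕ} [Fact p.Prime] {M : Ideal Cfsg.AlgInt}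

/-- [A] the covering block has the idempotent of the stable block; membership by covering -/
theorem Helper9.cover_facts_spare (hM : Cfsg.IsPModular p M) (N : Subgroup G) [N.Normal] [Fintype N]
    (hNi : ∃ k : ℕ, N.index = p ^ k) (b : Set (Cfsg.IrrCharacter N)) (hb : Cfsg.IsPBlock M b)
    (hstab : ∀ g : G, Cfsg.StabilizesBlock N b g) (B : Set (Cfsg.IrrCharacter G))
    (hB : Cfsg.IsPBlock M B)
    (hcov : ∃ χ ∈ B, ∃ θ ∈ b,
      Cfsg.classInner (fun n : N => (χ : G → ℂ) n) (θ : N → ℂ) ≠ 0) :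
    (∀ g : G, Cfsg.blockCoeff B g = Cfsg.subgroupBlockCoeff N b g) ∧
    (∀ χ : Cfsg.IrrCharacter G, ∀ θ ∈ b,
      Cfsg.classInner (fun n : N => (χ : G → ℂ) n) (θ : N → ℂ) ≠ 0 → χ ∈ B) ∧
    (∀ χ ∈ B, ∀ θ : Cfsg.IrrCharacter N,
      Cfsg.classInner (fun n : N => (χ : G → ℂ) n) (θ : N → ℂ) ≠ 0 → θ ∈ b) := by
  classical
  obtain ⟨B0, hB0, hB0c⟩ :=
    Cfsg.Agent.Lib.Helper24.exists_block_of_stable N hM hNi b hb hstab
  have hU := Cfsg.Agent.Lib.Helper24.stable_iff_conjIrr N b hstab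
  -- the key equivalence
  have key : ∀ (χ : Cfsg.IrrCharacter G) (θ : Cfsg.IrrCharacter N),
      Cfsg.classInner (fun n : N => (χ : G → ℂ) n) (θ : N → ℂ) ≠ 0 → (χ ∈ B0 ↔ θ ∈ b) := by
    intro χ θ hcon
    have h1 := Cfsg.Agent.Lib.Helper7.omega_coverFn N b hU χ θ hcon
    have h2 := Cfsg.Agent.Lib.Helper24.omega_blockCoeff B0 χ
    have h3 : Cfsg.blockCoeff B0 = Cfsg.Agent.Lib.Helper7.coverFn N b := by
      rw [← Cfsg.Agent.Lib.Helper24.subgroupBlockCoeff_eq_coverFn]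
      funext g
      exact hB0c g
    rw [h3, h1] at h2
    by_cases hθ : θ ∈ b
    · by_cases hχ : χ ∈ B0
      · exact ⟨fun _ => hθ, fun _ => hχ⟩
      · rw [if_pos hθ, if_neg hχ] at h2
        exact absurd h2 one_ne_zero
    · by_cases hχ : χ ∈ B0
      · rw [if_neg hθ, if_pos hχ] at h2
        exact absurd h2 zero_ne_one
      · exact ⟨fun h => absurd h hχ, fun h => absurd h hθ⟩
  -- `B = B0`
  obtain ⟨χ₀, hχ₀B, θ₀, hθ₀, hcon₀⟩ := hcov
  have hχ₀B0 : χ₀ ∈ B0 := (key χ₀ θ₀ hcon₀).2 hθ₀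
  have hBB0 : B = B0 := by
    rw [Cfsg.Agent.Lib.Helper24.eq_blockOf_of_mem hM hB hχ₀B,
      Cfsg.Agent.Lib.Helper24.eq_blockOf_of_mem hM hB0 hχ₀B0]
  subst hBB0
  exact ⟨hB0c, fun χ θ hθ hcon => (key χ θ hcon).2 hθ, fun χ hχ θ hcon => (key χ θ hcon).1 hχ⟩

end Cfsg.Agent.Lib.Helper24.PIdx
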