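import Mathlib
import Cfsg.Prelude.Def_Blocks
import Cfsg.Agent.Lib.Helper2.Linear
import Cfsg.Agent.Lib.Helper2.DirectProduct
import Cfsg.Agent.Lib.Helper2.Orthogonality

/-! # S4640 leaf [H] (helper9): a linear character times an irreducible character is irreducible -/

set_option autoImplicit false

namespace Cfsg.Agent.Lib.Helper24.PIdx

open Cfsg
open scoped ComplexConjugate

variable {G : Type*} [Group G] [Fintype G] {p : ℕ} [Fact p.Prime] {M : Ideal Cfsg.AlgInt}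

omit [Fintype G] in
/-- values of a homomorphism of a finite group to `ℂˣ` have norm one -/
theorem Helper9.mul_conj_eq_one [Finite G] (lam : G →* ℂˣ) (g : G) :
    ((lam g : ℂˣ) : ℂ) * conj ((lam g : ℂˣ) : ℂ) = 1 := by
  have h1 : ((lam g : ℂˣ) : ℂ) ^ (orderOf g) = 1 := by
    rw [← Units.val_pow_eq_pow_val, ← map_pow, pow_orderOf_eq_one, map_one, Units.val_one]
  have h2 : ‖((lam g : ℂˣ) : ℂ)‖ = 1 :=
    Complex.norm_eq_one_of_pow_eq_one h1 (orderOf_pos g).ne'
  rw [Complex.mul_conj, Complex.normSq_eq_norm_sq, h2]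
  simp

/-- [H] linear times irreducible is irreducible -/
theorem isIrrCharacter_lin_mul (lam : G →* ℂˣ) (χ : Cfsg.IrrCharacter G) :
    Cfsg.IsIrrCharacter G (fun g => ((lam g : ℂˣ) : ℂ) * (χ : G → ℂ) g) := by
  have hc : Cfsg.IsCharacter G (fun g => ((lam g : ℂˣ) : ℂ) * (χ : G → ℂ) g) :=
    Cfsg.Agent.Lib.Helper2.isCharacter_mul
      (Cfsg.Agent.Lib.Helper2.IsIrrCharacter.isCharacter
        (Cfsg.Agent.Lib.Helper2.isIrrCharacter_of_monoidHom lam))
      (Cfsg.Agent.Lib.Helper2.IsIrrCharacter.isCharacter χ.2)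
  refine Cfsg.Agent.Lib.Helper2.isIrrCharacter_of_classInner_self_eq_one hc ?_
  have h1 := Cfsg.Agent.Lib.Helper2.classInner_irrCharacter_self χ
  rw [← h1]
  unfold Cfsg.classInner
  congr 1
  refine Finset.sum_congr rfl fun g _ => ?_
  rw [map_mul]
  calc ((lam g : ℂˣ) : ℂ) * (χ : G → ℂ) g * (conj ((lam g : ℂˣ) : ℂ) * conj ((χ : G → ℂ) g))
      = (((lam g : ℂˣ) : ℂ) * conj ((lam g : ℂˣ) : ℂ))
          * ((χ : G → ℂ) g * conj ((χ : G → ℂ) g)) := by ring
    _ = (χ : G → ℂ) g * conj ((χ : G → ℂ) g) := by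
        rw [Helper9.mul_conj_eq_one lam g, one_mul]

end Cfsg.Agent.Lib.Helper24.PIdx
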