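import Cfsg.Agent.Lib.Helper9.ClassGraph8

/-!
# S4321 piece [A]: class products (Stage 1)

`commute_conj_of_coprime`, `p_dvd_cs_of_cs_mul_eq`, `p_dvd_cs_of_noMix`.
-/

set_option autoImplicit false

namespace Cfsg.Agent.Lib.Helper24.PSing

open Subgroup
open Cfsg.Agent.Lib.Helper9.ClassGraph

variable {G : Type*} [Group G]

/-- [A1] commuting elements with coprime class sizes: every conjugate of `u` commutes with `v` -/
theorem commute_conj_of_coprime [Finite G] {u v : G} (huv : Commute u v)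
    (hcop : (cs u).Coprime (cs v)) (g : G) : Commute (g * u * g⁻¹) v := by
  obtain ⟨x, hx, y, hy, rfl⟩ := exists_mul_of_coprime_cs hcop.symm g
  rw [mem_cent] at hx hy
  have e1 : y * u * y⁻¹ = u := by rw [hy]; group
  have e2 : x * y * u * (x * y)⁻¹ = x * u * x⁻¹ := by
    calc x * y * u * (x * y)⁻¹ = x * (y * u * y⁻¹) * x⁻¹ := by group
      _ = x * u * x⁻¹ := by rw [e1]
  rw [e2]
  have hxv : x⁻¹ * v = v * x⁻¹ := by
    calc x⁻¹ * v = x⁻¹ * (v * x) * x⁻¹ := by group
      _ = x⁻¹ * (x * v) * x⁻¹ := by rw [hx]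
      _ = v * x⁻¹ := by group
  show x * u * x⁻¹ * v = v * (x * u * x⁻¹)
  calc x * u * x⁻¹ * v = x * u * (x⁻¹ * v) := by group
    _ = x * u * (v * x⁻¹) := by rw [hxv]
    _ = x * (u * v) * x⁻¹ := by group
    _ = x * (v * u) * x⁻¹ := by rw [huv.eq]
    _ = (x * v) * u * x⁻¹ := by group
    _ = (v * x) * u * x⁻¹ := by rw [hx]
    _ = v * (x * u * x⁻¹) := by group

/-- [A2] if `cs (ab) = cs b` (coprime class sizes, `a` a noncentral `p`-element commuting with `b`)
then `p ∣ cs b` -/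
theorem p_dvd_cs_of_cs_mul_eq [Finite G] (p : ℕ) [Fact p.Prime] {a b : G} (hab : Commute a b)
    (hap : ∃ k : ℕ, orderOf a = p ^ k) (hcop : (cs a).Coprime (cs b)) (ha : cs a ≠ 1)
    (heq : cs (a * b) = cs b) : p ∣ cs b := by
  obtain ⟨k, hk⟩ := hap
  -- a conjugate of `a` different from `a`
  have hnc : a ∉ center G := fun h => ha ((cs_eq_one_iff a).mpr h)
  obtain ⟨g, hg⟩ : ∃ g : G, g * a * g⁻¹ ≠ a := by
    by_contra hall
    push Not at hall
    apply hnc
    rw [Subgroup.mem_center_iff]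
    intro g
    have := hall g
    calc g * a = g * a * g⁻¹ * g := by group
      _ = a * g := by rw [this]
  -- the conjugate commutes with `a`
  have hcb : Commute (g * a * g⁻¹) b := commute_conj_of_coprime hab hcop g
  have hcab : Commute (g * a * g⁻¹) (a * b) :=
    commute_conj_of_coprime (u := a) (v := a * b)
      ((Commute.refl a).mul_right hab) (by rw [heq]; exact hcop) g
  have hca : Commute (g * a * g⁻¹) a := by
    have h1 : a * b * b⁻¹ = a := by group
    have h2 : Commute (g * a * g⁻¹) (a * b * b⁻¹) := hcab.mul_right hcb.inv_right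
    rwa [h1] at h2
  -- `h = a⁻¹ a^g` is a nontrivial `p`-element of `stabL b`
  set h := a⁻¹ * (g * a * g⁻¹) with hh
  have hmem : h ∈ stabL b := mem_stabL_of_cs_mul_eq hcop heq g
  have hne : h ≠ 1 := by
    intro h1
    apply hg
    have : a * h = a := by rw [h1, mul_one]
    rw [hh] at this
    calc g * a * g⁻¹ = a * (a⁻¹ * (g * a * g⁻¹)) := by group
      _ = a := this
  have hpow : h ^ (p ^ k) = 1 := by
    have hcomm : Commute a⁻¹ (g * a * g⁻¹) := hca.symm.inv_left
    rw [hh, hcomm.mul_pow, inv_pow, ← hk, pow_orderOf_eq_one, inv_one, one_mul]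
    have : (g * a * g⁻¹) ^ orderOf a = g * a ^ orderOf a * g⁻¹ := by
      rw [conj_pow]
    rw [this, pow_orderOf_eq_one, mul_one, mul_inv_cancel]
  have hord : orderOf h ∣ p ^ k := orderOf_dvd_of_pow_eq_one hpow
  obtain ⟨j, hj, hoj⟩ := (Nat.dvd_prime_pow (Fact.out : p.Prime)).mp hord
  have hj0 : j ≠ 0 := by
    intro h0
    rw [h0, pow_zero, orderOf_eq_one_iff] at hoj
    exact hne hoj
  have hp : p ∣ orderOf h := by
    rw [hoj]
    exact dvd_pow_self p hj0
  have h1 : orderOf h ∣ Nat.card (stabL b) := by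
    have := orderOf_dvd_natCard (⟨h, hmem⟩ : stabL b)
    rwa [Subgroup.orderOf_mk] at this
  exact hp.trans (h1.trans (card_stabL_dvd b))

/-- [A3] Stage 1 -/
theorem p_dvd_cs_of_noMix [Finite G] (p : ℕ) [Fact p.Prime] {a b : G} (hab : Commute a b)
    (hap : ∃ k : ℕ, orderOf a = p ^ k) (hbp : ∃ k : ℕ, orderOf b = p ^ k)
    (hcop : (cs a).Coprime (cs b)) (ha : cs a ≠ 1) (hb : cs b ≠ 1) (hpa : ¬ p ∣ cs a)
    (hmix : (cs (a * b)).Coprime (cs a) ∨ (cs (a * b)).Coprime (cs b)) : p ∣ cs b := by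
  have hdvd : cs (a * b) ∣ cs a * cs b := cs_mul_dvd hcop
  have hlea : cs a ≤ cs (a * b) := cs_le_cs_mul_left hcop
  have hleb : cs b ≤ cs (a * b) := cs_le_cs_mul_right hcop
  rcases hmix with hm | hm
  · have h1 : cs (a * b) ∣ cs b := hm.dvd_of_dvd_mul_left hdvd
    have heq : cs (a * b) = cs b := le_antisymm (Nat.le_of_dvd (cs_pos b) h1) hleb
    exact p_dvd_cs_of_cs_mul_eq p hab hap hcop ha heq
  · exfalso
    have h1 : cs (a * b) ∣ cs a := hm.dvd_of_dvd_mul_right hdvd
    have heq : cs (a * b) = cs a := le_antisymm (Nat.le_of_dvd (cs_pos a) h1) hlea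
    have heq' : cs (b * a) = cs a := by rw [← hab.eq]; exact heq
    exact hpa (p_dvd_cs_of_cs_mul_eq p hab.symm hbp hcop.symm hb heq')

end Cfsg.Agent.Lib.Helper24.PSing
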