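import Cfsg.Agent.Lib.Helper25.FB.L02
import Cfsg.Agent.Lib.Helper25.FB.L03
import Cfsg.Agent.Lib.Helper25.FB.L05
import Cfsg.Agent.Lib.Helper25.FB.L06

/-!
# S3819 farm (helper25), leaf L07 — spare by helper9
-/

set_option autoImplicit false

namespace Cfsg.Agent.Lib.Helper9.FBL07

open Cfsg Cfsg.Agent.Lib.Helper25.FB
open scoped commutatorElement

variable {G : Type*} [Group G]

/-- the auxiliary solvable group `L = K ⊔ ⟨x⟩ ⊔ ⟨z⟩` attached to `x ∈ Y` -/
theorem exists_L [Finite G] {q : ℕ} [Fact q.Prime] (K : Subgroup G) (hK : Group.IsSolvable ↥K)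
    (Hs : Subgroup G) (hKH : K ≤ Hs) (z : G) (hzH : z ∈ Hs) (hz : IsPGroup q (Subgroup.zpowers z))
    (hzK : z ∈ Subgroup.normalizer (K : Set G))
    (Y : Subgroup G) (hYH : Y ≤ Hs) (hYz : Y ≤ Subgroup.centralizer {z})
    (hYK : Y ≤ Subgroup.normalizer (K : Set G))
    (hYn : Hs ⊓ Subgroup.centralizer {z} ≤ Subgroup.normalizer (Y : Set G))
    (hYq : (Nat.card Y).Coprime q) (x : G) (hx : x ∈ Y) :
    ∃ L : Subgroup G, K ≤ L ∧ L ≤ Subgroup.normalizer (K : Set G) ∧ x ∈ oq q L ∧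
      L ≤ Subgroup.normalizer ((oq q L : Subgroup G) : Set G) := by
  have hxz : x * z = z * x := Subgroup.mem_centralizer_singleton_iff.mp (hYz hx)
  have hxN : x ∈ Subgroup.normalizer (K : Set G) := hYK hx
  set L : Subgroup G := K ⊔ Subgroup.zpowers x ⊔ Subgroup.zpowers z with hLdef
  have hLs : Group.IsSolvable ↥L := isSolvable_sup_zpowers K hK x z hxz hxN hzK
  have hKL : K ≤ L := le_sup_left.trans le_sup_left
  have hxL : x ∈ L :=
    (le_sup_right.trans le_sup_left : Subgroup.zpowers x ≤ L) (Subgroup.mem_zpowers x)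
  have hzL : z ∈ L := (le_sup_right : Subgroup.zpowers z ≤ L) (Subgroup.mem_zpowers z)
  have hLH : L ≤ Hs := by
    refine sup_le (sup_le hKH ?_) ?_
    · rw [Subgroup.zpowers_le]; exact hYH hx
    · rw [Subgroup.zpowers_le]; exact hzH
  have hLN : L ≤ Subgroup.normalizer (K : Set G) := by
    refine sup_le (sup_le Subgroup.le_normalizer ?_) ?_
    · rw [Subgroup.zpowers_le]; exact hxN
    · rw [Subgroup.zpowers_le]; exact hzK
  have h6 : Y ⊓ L ≤ oq q L := by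
    apply inf_le_oq_of_solvable L hLs z hzL hz Y hYz _ hYq
    intro c hcL hcz
    exact hYn (Subgroup.mem_inf.mpr ⟨hLH hcL, hcz⟩)
  refine ⟨L, hKL, hLN, h6 (Subgroup.mem_inf.mpr ⟨hx, hxL⟩), ?_⟩
  exact Subgroup.le_normalizer.trans (normalizer_le_normalizer_oq q L)

/-- [L07], official statement -/
theorem commutator_mem_oq [Finite G] {q : ℕ} [Fact q.Prime] (K : Subgroup G) (hK : Group.IsSolvable ↥K)
    (Hs : Subgroup G) (hKH : K ≤ Hs) (z : G) (hzH : z ∈ Hs) (hz : IsPGroup q (Subgroup.zpowers z))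
    (hzK : z ∈ Subgroup.normalizer (K : Set G))
    (Y : Subgroup G) (hYH : Y ≤ Hs) (hYz : Y ≤ Subgroup.centralizer {z})
    (hYK : Y ≤ Subgroup.normalizer (K : Set G))
    (hYn : Hs ⊓ Subgroup.centralizer {z} ≤ Subgroup.normalizer (Y : Set G))
    (hYq : (Nat.card Y).Coprime q) :
    (∀ x ∈ Y, ∀ k ∈ K, ⁅x, k⁆ ∈ oq q K) ∧ Y ⊓ K ≤ oq q K := by
  constructor
  · intro x hx k hk
    obtain ⟨L, hKL, hLN, hxo, hLo⟩ := exists_L K hK Hs hKH z hzH hz hzK Y hYH hYz hYK hYn hYq x hx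
    apply oq_inf_le q hKL hLN
    rw [Subgroup.mem_inf, commutatorElement_def]
    constructor
    · have hkN := hLo (hKL hk)
      have h1 : k * x⁻¹ * k⁻¹ ∈ oq q L :=
        (Subgroup.mem_normalizer_iff.mp hkN x⁻¹).mp ((oq q L).inv_mem hxo)
      have e : x * k * x⁻¹ * k⁻¹ = x * (k * x⁻¹ * k⁻¹) := by group
      rw [e]
      exact (oq q L).mul_mem hxo h1
    · have hxN := hYK hx
      have h1 : x * k * x⁻¹ ∈ K := (Subgroup.mem_normalizer_iff.mp hxN k).mp hk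
      exact K.mul_mem h1 (K.inv_mem hk)
  · intro x hx
    rw [Subgroup.mem_inf] at hx
    obtain ⟨L, hKL, hLN, hxo, _⟩ := exists_L K hK Hs hKH z hzH hz hzK Y hYH hYz hYK hYn hYq x hx.1
    exact oq_inf_le q hKL hLN (Subgroup.mem_inf.mpr ⟨hxo, hx.2⟩)

end Cfsg.Agent.Lib.Helper9.FBL07
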