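import Mathlib
import Cfsg.Agent.Lib.Helper25.HS.PI_Vbar
import Cfsg.Agent.Lib.Helper25.HS.PI_Fusion

/-!
# S4025 farm, spare of leaf PI_VTrans (helper9)
-/

set_option autoImplicit false
open Cfsg

namespace Cfsg.Agent.Lib.Helper9.HSVTrans

open Cfsg.Agent.Lib.Helper25.HS

/-- An element of a `p`-subgroup lying in the `p'`-core is trivial. -/
theorem eq_one_of_mem_pgroup_of_mem_core {N : Type*} [Group N] [Finite N] {p : ℕ} [Fact p.Prime]
    (PN : Subgroup N) (hPN : IsPGroup p PN) (x : N) (hx : x ∈ PN)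
    (hxK : x ∈ pPrimeCore p N) : x = 1 := by
  obtain ⟨k, hk⟩ := hPN ⟨x, hx⟩
  have hk' : x ^ p ^ k = 1 := by
    have := congrArg Subtype.val hk
    simpa using this
  have h1 : orderOf x ∣ p ^ k := orderOf_dvd_of_pow_eq_one hk'
  have h2 : orderOf x ∣ Nat.card (pPrimeCore p N) := Subgroup.orderOf_dvd_natCard _ hxK
  have h3 : (Nat.card (pPrimeCore p N)).Coprime (p ^ k) :=
    Nat.Coprime.pow_right k (Cfsg.Agent.Lib.Helper1.pPrimeCore_coprime (G := N) p)
  have h4 : orderOf x ∣ 1 := by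
    have := Nat.dvd_gcd h2 h1
    rwa [h3] at this
  exact orderOf_eq_one_iff.1 (Nat.dvd_one.1 h4)

/-- The lift to `P` of a subgroup of the quotient. -/
def lift {G : Type*} [Group G] (p : ℕ) (P : Subgroup G)
    (A : Subgroup (↥(Subgroup.normalizer (P : Set G)) ⧸
      Cfsg.pPrimeCore p ↥(Subgroup.normalizer (P : Set G)))) : Subgroup G :=
  ((A.comap (QuotientGroup.mk' (Cfsg.pPrimeCore p ↥(Subgroup.normalizer (P : Set G))))) ⊓
    (P.subgroupOf (Subgroup.normalizer (P : Set G)))).map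
    (Subgroup.normalizer (P : Set G)).subtype

theorem mem_lift {G : Type*} [Group G] (p : ℕ) (P : Subgroup G)
    (A : Subgroup (↥(Subgroup.normalizer (P : Set G)) ⧸
      Cfsg.pPrimeCore p ↥(Subgroup.normalizer (P : Set G)))) (y : G) :
    y ∈ lift p P A ↔ ∃ x : ↥(Subgroup.normalizer (P : Set G)),
      (QuotientGroup.mk' (Cfsg.pPrimeCore p ↥(Subgroup.normalizer (P : Set G))) x ∈ A ∧
        (x : G) ∈ P) ∧ (x : G) = y := by
  unfold lift
  simp only [Subgroup.mem_map, Subgroup.mem_inf, Subgroup.mem_comap, Subgroup.mem_subgroupOf,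
    Subgroup.coe_subtype]

theorem lift_le {G : Type*} [Group G] (p : ℕ) (P : Subgroup G)
    (A : Subgroup (↥(Subgroup.normalizer (P : Set G)) ⧸
      Cfsg.pPrimeCore p ↥(Subgroup.normalizer (P : Set G)))) : lift p P A ≤ P := by
  intro y hy
  obtain ⟨x, ⟨-, hxP⟩, rfl⟩ := (mem_lift p P A y).1 hy
  exact hxP

theorem card_lift {G : Type*} [Group G] [Finite G] {p : ℕ} [Fact p.Prime] (P : Sylow p G)
    (A : Subgroup (↥(Subgroup.normalizer ((P : Subgroup G) : Set G)) ⧸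
      Cfsg.pPrimeCore p ↥(Subgroup.normalizer ((P : Subgroup G) : Set G))))
    (hA : A ≤ Vbar p (P : Subgroup G)) :
    Nat.card (lift p (P : Subgroup G) A) = Nat.card A := by
  have hPN : IsPGroup p ((P : Subgroup G).subgroupOf
      (Subgroup.normalizer ((P : Subgroup G) : Set G))) :=
    P.isPGroup'.comap_subtype
  refine Nat.card_congr (Equiv.ofBijective
    (fun y : lift p (P : Subgroup G) A =>
      (⟨QuotientGroup.mk' (Cfsg.pPrimeCore p
          ↥(Subgroup.normalizer ((P : Subgroup G) : Set G)))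
        ⟨(y : G), Subgroup.le_normalizer (lift_le p _ A y.2)⟩, ?_⟩ : A)) ⟨?_, ?_⟩)
  · obtain ⟨x, ⟨hxA, -⟩, hxy⟩ := (mem_lift p _ A (y : G)).1 y.2
    have : x = ⟨(y : G), Subgroup.le_normalizer (lift_le p _ A y.2)⟩ := Subtype.ext hxy
    rw [← this]; exact hxA
  · intro y z hyz
    have h1 := congrArg Subtype.val hyz
    simp only at h1
    have h2 := QuotientGroup.eq.1 h1
    have h3 : (⟨(y : G), Subgroup.le_normalizer (lift_le p _ A y.2)⟩ :
        ↥(Subgroup.normalizer ((P : Subgroup G) : Set G)))⁻¹ *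
        ⟨(z : G), Subgroup.le_normalizer (lift_le p _ A z.2)⟩ ∈
        (P : Subgroup G).subgroupOf (Subgroup.normalizer ((P : Subgroup G) : Set G)) := by
      rw [Subgroup.mem_subgroupOf]
      exact (P : Subgroup G).mul_mem ((P : Subgroup G).inv_mem (lift_le p _ A y.2))
        (lift_le p _ A z.2)
    have h4 := eq_one_of_mem_pgroup_of_mem_core _ hPN _ h3 h2
    have h5 := congrArg Subtype.val h4
    simp only [Subgroup.coe_mul, Subgroup.coe_inv, Subgroup.coe_one] at h5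
    apply Subtype.ext
    exact (inv_mul_eq_one.1 h5)
  · rintro ⟨a, ha⟩
    obtain ⟨x, hx0, rfl⟩ := hA ha
    have hx : (x : G) ∈ (P : Subgroup G) := Subgroup.mem_subgroupOf.1 hx0
    refine ⟨⟨(x : G), (mem_lift p _ A _).2 ⟨x, ⟨ha, hx⟩, rfl⟩⟩, ?_⟩
    apply Subtype.ext
    rfl

theorem Vbar_trans' {G : Type*} [Group G] [Finite G] {p : ℕ} [Fact p.Prime]
    (hC : ∀ H K : Subgroup G, IsPGroup p H → IsPGroup p K → Nat.card H = Nat.card K →
      ∃ g : G, K = H.map (MulAut.conj g).toMonoidHom)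
    (P : Sylow p G)
    (hab : ∀ a ∈ (P : Subgroup G), ∀ b ∈ (P : Subgroup G), a * b = b * a)
    (A B : Subgroup (↥(Subgroup.normalizer ((P : Subgroup G) : Set G)) ⧸
      Cfsg.pPrimeCore p ↥(Subgroup.normalizer ((P : Subgroup G) : Set G))))
    (hA : A ≤ Vbar p (P : Subgroup G)) (hB : B ≤ Vbar p (P : Subgroup G))
    (hAB : Nat.card A = Nat.card B) :
    ∃ g : ↥(Subgroup.normalizer ((P : Subgroup G) : Set G)) ⧸
      Cfsg.pPrimeCore p ↥(Subgroup.normalizer ((P : Subgroup G) : Set G)),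
      B = A.map (MulAut.conj g).toMonoidHom := by
  have hA' : IsPGroup p (lift p (P : Subgroup G) A) := P.isPGroup'.to_le (lift_le p _ A)
  have hB' : IsPGroup p (lift p (P : Subgroup G) B) := P.isPGroup'.to_le (lift_le p _ B)
  have hcard : Nat.card (lift p (P : Subgroup G) A) = Nat.card (lift p (P : Subgroup G) B) := by
    rw [card_lift P A hA, card_lift P B hB, hAB]
  obtain ⟨x, hx⟩ := hC _ _ hA' hB' hcard
  obtain ⟨g, hg, hgAB⟩ := fusion P hab _ _ (lift_le p _ A) (lift_le p _ B) x hx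
  refine ⟨QuotientGroup.mk' _ ⟨g, hg⟩, ?_⟩
  ext b
  simp only [Subgroup.mem_map, MulEquiv.coe_toMonoidHom, MulAut.conj_apply]
  constructor
  · intro hb
    obtain ⟨y, hy0, rfl⟩ := hB hb
    have hy : (y : G) ∈ (P : Subgroup G) := Subgroup.mem_subgroupOf.1 hy0
    have hyB : (y : G) ∈ lift p (P : Subgroup G) B := (mem_lift p _ B _).2 ⟨y, ⟨hb, hy⟩, rfl⟩
    rw [hgAB] at hyB
    obtain ⟨a', ha', hay⟩ := Subgroup.mem_map.1 hyB
    obtain ⟨x', ⟨hx'A, hx'P⟩, rfl⟩ := (mem_lift p _ A a').1 ha'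
    refine ⟨QuotientGroup.mk' _ x', hx'A, ?_⟩
    rw [← map_inv, ← map_mul, ← map_mul]
    congr 1
    apply Subtype.ext
    simpa using hay
  · rintro ⟨a, ha, rfl⟩
    obtain ⟨x', hx0, rfl⟩ := hA ha
    have hx' : (x' : G) ∈ (P : Subgroup G) := Subgroup.mem_subgroupOf.1 hx0
    have hxA : (x' : G) ∈ lift p (P : Subgroup G) A := (mem_lift p _ A _).2 ⟨x', ⟨ha, hx'⟩, rfl⟩
    have : g * (x' : G) * g⁻¹ ∈ lift p (P : Subgroup G) B := by
      rw [hgAB]
      exact Subgroup.mem_map.2 ⟨(x' : G), hxA, by simp⟩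
    obtain ⟨y, ⟨hyB, -⟩, hy⟩ := (mem_lift p _ B _).1 this
    have hyy : y = ⟨g, hg⟩ * x' * (⟨g, hg⟩ : ↥(Subgroup.normalizer ((P : Subgroup G) : Set G)))⁻¹ := by
      apply Subtype.ext
      simpa using hy
    rw [← map_inv, ← map_mul, ← map_mul, ← hyy]
    exact hyB

end Cfsg.Agent.Lib.Helper9.HSVTrans
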