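import Cfsg.Agent.Lib.Helper25.SLCC.Defs

set_option autoImplicit false

/-! S2086 piece [A8]: lifts of the orthogonal commuting root elements `x_ij(t)`, `x_kl(u)`
(`i, j, k, l` pairwise distinct) of `SL_n(F_3)` commute, given that lifts of commuting root
elements sharing a row or a column commute.

Write `d(a, b) = ⁅lift x_kj(a), lift x_il(b)⁆` (central, independent of the lifts).  The two
decompositions `x_kl(u) = ⁅x_ki(u), x_il(1)⁆ = ⁅x_kj(u), x_jl(1)⁆` give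
`⁅A, B⁆ = d(-(ut), 1)` and `⁅A, B⁆ = d(u, t)`.  Hence `d(1,1)⁻¹ = d(1,1)`, and `d(1,1)³ = 1` in
characteristic `3`, so `d(1,1) = 1` and all `d(u, t)` are trivial over the prime field. -/

namespace Cfsg.Agent.Lib.Helper25.SLCC

open Matrix
open scoped commutatorElement

namespace Helper9

section Gen

variable {Γ : Type*} [Group Γ] {E : Type*} [Group E]

theorem cmcl {z : E} (hz : z ∈ Subgroup.center E) (a b : E) : ⁅a * z, b⁆ = ⁅a, b⁆ := by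
  rw [Subgroup.mem_center_iff] at hz
  have h1 : z * b = b * z := (hz b).symm
  simp only [commutatorElement_def, _root_.mul_inv_rev]
  calc a * z * b * (z⁻¹ * a⁻¹) * b⁻¹ = a * (z * b) * z⁻¹ * a⁻¹ * b⁻¹ := by group
    _ = a * (b * z) * z⁻¹ * a⁻¹ * b⁻¹ := by rw [h1]
    _ = a * b * a⁻¹ * b⁻¹ := by group

theorem cmcr {z : E} (hz : z ∈ Subgroup.center E) (a b : E) : ⁅a, b * z⁆ = ⁅a, b⁆ := by
  rw [Subgroup.mem_center_iff] at hz
  have h1 : z * a⁻¹ = a⁻¹ * z := (hz a⁻¹).symm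
  simp only [commutatorElement_def, _root_.mul_inv_rev]
  calc a * (b * z) * a⁻¹ * (z⁻¹ * b⁻¹) = a * b * (z * a⁻¹) * z⁻¹ * b⁻¹ := by group
    _ = a * b * (a⁻¹ * z) * z⁻¹ * b⁻¹ := by rw [h1]
    _ = a * b * a⁻¹ * b⁻¹ := by group

/-- the commutator of two lifts depends only on the images -/
theorem comm_eq_of_map_eq (ψ : E →* Γ) (hc : ψ.ker ≤ Subgroup.center E) {a a' b b' : E}
    (ha : ψ a = ψ a') (hb : ψ b = ψ b') : ⁅a, b⁆ = ⁅a', b'⁆ := by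
  have hz : a'⁻¹ * a ∈ Subgroup.center E := hc (by
    rw [MonoidHom.mem_ker, map_mul, map_inv, ha, inv_mul_cancel])
  have hw : b'⁻¹ * b ∈ Subgroup.center E := hc (by
    rw [MonoidHom.mem_ker, map_mul, map_inv, hb, inv_mul_cancel])
  have e1 : a = a' * (a'⁻¹ * a) := by group
  have e2 : b = b' * (b'⁻¹ * b) := by group
  rw [e1, e2, cmcl hz, cmcr hw]

/-- lifts of commuting elements have a central commutator -/
theorem comm_mem_center (ψ : E →* Γ) (hc : ψ.ker ≤ Subgroup.center E) {a b : E}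
    (h : ψ a * ψ b = ψ b * ψ a) : ⁅a, b⁆ ∈ Subgroup.center E := by
  apply hc
  rw [MonoidHom.mem_ker, map_commutatorElement, commutatorElement_eq_one_iff_mul_comm]
  exact h

theorem conj_comm (g a b : E) : g * ⁅a, b⁆ * g⁻¹ = ⁅g * a * g⁻¹, g * b * g⁻¹⁆ := by
  simp only [commutatorElement_def]
  group

theorem comm_mul_left_id (a b c : E) : ⁅a * b, c⁆ = a * ⁅b, c⁆ * a⁻¹ * ⁅a, c⁆ := by
  simp only [commutatorElement_def]
  group

theorem comm_mul_right_id (a b c : E) : ⁅a, b * c⁆ = ⁅a, b⁆ * (b * ⁅a, c⁆ * b⁻¹) := by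
  simp only [commutatorElement_def]
  group

/-- `⁅a * b, c⁆ = ⁅b, c⁆ * ⁅a, c⁆` when `⁅b, c⁆` is central -/
theorem comm_mul_left_of_center {a b c : E} (h : ⁅b, c⁆ ∈ Subgroup.center E) :
    ⁅a * b, c⁆ = ⁅b, c⁆ * ⁅a, c⁆ := by
  rw [comm_mul_left_id]
  rw [Subgroup.mem_center_iff] at h
  rw [h a]
  group

/-- `⁅a⁻¹, b⁆ = ⁅a, b⁆⁻¹` when `⁅a, b⁆` is central -/
theorem comm_inv_left_of_center {a b : E} (h : ⁅a, b⁆ ∈ Subgroup.center E) :
    ⁅a⁻¹, b⁆ = ⁅a, b⁆⁻¹ := by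
  have e : ⁅a⁻¹, b⁆ = a⁻¹ * ⁅a, b⁆⁻¹ * a := by
    simp only [commutatorElement_def]
    group
  have h' : ⁅a, b⁆⁻¹ ∈ Subgroup.center E := inv_mem h
  rw [Subgroup.mem_center_iff] at h'
  rw [e, mul_assoc, ← h' a]
  group

theorem comm_of_center_left {z : E} (hz : z ∈ Subgroup.center E) (b : E) : ⁅z, b⁆ = 1 := by
  rw [commutatorElement_eq_one_iff_mul_comm]
  rw [Subgroup.mem_center_iff] at hz
  exact (hz b).symm

end Gen

variable {n : ℕ} {K : Type*} [Field K] {E : Type*} [Group E]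

/-- `x_ij(t) x_ki(u) x_ij(t)⁻¹ = x_ki(u) x_kj(-ut)` -/
theorem conj1 {i j k : Fin n} (hij : i ≠ j) (hki : k ≠ i) (hkj : k ≠ j) (t u : K) :
    T i j t * T k i u * (T i j t)⁻¹ = T k i u * T k j (-(u * t)) := by
  have h := T_comm3 hki hij hkj u t
  rw [commutatorElement_def] at h
  have e1 : T i j t * T k i u * (T i j t)⁻¹ = (T k j (u * t))⁻¹ * T k i u := by
    rw [← h]; group
  rw [e1, T_inv hkj]
  exact T_comm hkj hki hki hkj.symm _ _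

/-- `x_ij(t) x_jl(1) x_ij(t)⁻¹ = x_il(t) x_jl(1)` -/
theorem conj2 {i j l : Fin n} (hij : i ≠ j) (hjl : j ≠ l) (hil : i ≠ l) (t : K) :
    T i j t * T j l 1 * (T i j t)⁻¹ = T i l t * T j l (1 : K) := by
  have h := T_comm3 hij hjl hil t (1 : K)
  rw [commutatorElement_def, mul_one] at h
  rw [← h]; group

/-- first decomposition: `x_kl(u) = ⁅x_ki(u), x_il(1)⁆` -/
theorem stepI (ψ : E →* SpecialLinearGroup (Fin n) K) (hψ : Function.Surjective ψ)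
    (hc : ψ.ker ≤ Subgroup.center E) (hsh : CommLiftShare ψ) {i j k l : Fin n} (hij : i ≠ j)
    (hkl : k ≠ l) (hil : i ≠ l) (hjk : j ≠ k) (hik : i ≠ k) (_hjl : j ≠ l) (t u : K)
    (A B R Q : E) (hA : ψ A = T i j t) (hB : ψ B = T k l u) (hR : ψ R = T k j (-(u * t)))
    (hQ : ψ Q = T i l 1) : ⁅A, B⁆ = ⁅R, Q⁆ := by
  obtain ⟨P, hP⟩ := hψ (T k i u)
  have hPQ : ψ ⁅P, Q⁆ = T k l u := by
    rw [map_commutatorElement, hP, hQ, T_comm3 hik.symm hil hkl, mul_one]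
  have e1 : ⁅A, B⁆ = ⁅A, ⁅P, Q⁆⁆ := comm_eq_of_map_eq ψ hc rfl (hB.trans hPQ.symm)
  have hAQ : A * Q = Q * A := hsh i j i l hij hil hil hij.symm (Or.inl rfl) t 1 A Q hA hQ
  have hAQ' : A * Q * A⁻¹ = Q := by rw [hAQ]; group
  have hAP : ψ (A * P * A⁻¹) = ψ (P * R) := by
    rw [map_mul, map_mul, map_inv, hA, hP, map_mul, hP, hR]
    exact conj1 hij hik.symm hjk.symm t u
  have hcen : ⁅R, Q⁆ ∈ Subgroup.center E := comm_mem_center ψ hc (by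
    rw [hR, hQ]; exact T_comm hjk.symm hil hkl hij.symm _ _)
  have e2 : A * ⁅P, Q⁆ * A⁻¹ = ⁅R, Q⁆ * ⁅P, Q⁆ := by
    rw [conj_comm, hAQ', comm_eq_of_map_eq ψ hc hAP rfl, comm_mul_left_id]
    rw [Subgroup.mem_center_iff] at hcen
    rw [hcen P]; group
  rw [e1]
  calc ⁅A, ⁅P, Q⁆⁆ = A * ⁅P, Q⁆ * A⁻¹ * ⁅P, Q⁆⁻¹ := commutatorElement_def _ _
    _ = ⁅R, Q⁆ := by rw [e2]; group

/-- second decomposition: `x_kl(u) = ⁅x_kj(u), x_jl(1)⁆` -/
theorem stepII (ψ : E →* SpecialLinearGroup (Fin n) K) (hψ : Function.Surjective ψ)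
    (hc : ψ.ker ≤ Subgroup.center E) (hsh : CommLiftShare ψ) {i j k l : Fin n} (hij : i ≠ j)
    (hkl : k ≠ l) (hil : i ≠ l) (hjk : j ≠ k) (_hik : i ≠ k) (hjl : j ≠ l) (t u : K)
    (A B P' R' : E) (hA : ψ A = T i j t) (hB : ψ B = T k l u) (hP' : ψ P' = T k j u)
    (hR' : ψ R' = T i l t) : ⁅A, B⁆ = ⁅P', R'⁆ := by
  obtain ⟨Q', hQ'⟩ := hψ (T j l 1)
  have hPQ : ψ ⁅P', Q'⁆ = T k l u := by
    rw [map_commutatorElement, hP', hQ', T_comm3 hjk.symm hjl hkl, mul_one]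
  have e1 : ⁅A, B⁆ = ⁅A, ⁅P', Q'⁆⁆ := comm_eq_of_map_eq ψ hc rfl (hB.trans hPQ.symm)
  have hAP : A * P' = P' * A := hsh i j k j hij hjk.symm hij hjk (Or.inr rfl) t u A P' hA hP'
  have hAP' : A * P' * A⁻¹ = P' := by rw [hAP]; group
  have hAQ : ψ (A * Q' * A⁻¹) = ψ (R' * Q') := by
    rw [map_mul, map_mul, map_inv, hA, hQ', map_mul, hR', hQ']
    exact conj2 hij hjl hil t
  have hRc : R' * ⁅P', Q'⁆ = ⁅P', Q'⁆ * R' :=
    hsh i l k l hil hkl hil hkl.symm (Or.inr rfl) t u R' ⁅P', Q'⁆ hR' hPQ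
  have e2 : A * ⁅P', Q'⁆ * A⁻¹ = ⁅P', R'⁆ * ⁅P', Q'⁆ := by
    rw [conj_comm, hAP', comm_eq_of_map_eq ψ hc rfl hAQ, comm_mul_right_id, hRc]
    group
  rw [e1]
  calc ⁅A, ⁅P', Q'⁆⁆ = A * ⁅P', Q'⁆ * A⁻¹ * ⁅P', Q'⁆⁻¹ := commutatorElement_def _ _
    _ = ⁅P', R'⁆ := by rw [e2]; group

end Helper9

variable {n : ℕ} {K : Type*} [Field K] {E : Type*} [Group E]

/-- [A8] orthogonal pairs over the prime field `F_3` -/
theorem lifts_commute_orth_F3 (ψ : E →* SpecialLinearGroup (Fin n) K) (hψ : Function.Surjective ψ)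
    (hc : ψ.ker ≤ Subgroup.center E) (hK : ∀ a : K, a = 0 ∨ a = 1 ∨ a = -1) (h3 : (3 : K) = 0)
    (hsh : CommLiftShare ψ) {i j k l : Fin n} (hij : i ≠ j) (hkl : k ≠ l) (hil : i ≠ l)
    (hjk : j ≠ k) (hik : i ≠ k) (hjl : j ≠ l) (t u : K) (A B : E)
    (hA : ψ A = T i j t) (hB : ψ B = T k l u) : A * B = B * A := by
  have hkj : k ≠ j := hjk.symm
  obtain ⟨P1, hP1⟩ := hψ (T k j 1)
  obtain ⟨Q1, hQ1⟩ := hψ (T i l 1)
  have hcen : ⁅P1, Q1⁆ ∈ Subgroup.center E := Helper9.comm_mem_center ψ hc (by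
    rw [hP1, hQ1]; exact T_comm hkj hil hkl hij.symm _ _)
  -- `δ⁻¹ = δ`
  have hinv : ⁅P1, Q1⁆⁻¹ = ⁅P1, Q1⁆ := by
    obtain ⟨A0, hA0⟩ := hψ (T i j 1)
    obtain ⟨B0, hB0⟩ := hψ (T k l 1)
    have hR : ψ P1⁻¹ = T k j (-((1 : K) * 1)) := by
      rw [map_inv, hP1, T_inv hkj, mul_one]
    have h1 := Helper9.stepI ψ hψ hc hsh hij hkl hil hjk hik hjl 1 1 A0 B0 P1⁻¹ Q1 hA0 hB0 hR hQ1
    have h2 := Helper9.stepII ψ hψ hc hsh hij hkl hil hjk hik hjl 1 1 A0 B0 P1 Q1 hA0 hB0 hP1 hQ1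
    rw [← Helper9.comm_inv_left_of_center hcen, ← h1, h2]
  -- `δ³ = 1`
  have hcube : ⁅P1, Q1⁆ * (⁅P1, Q1⁆ * ⁅P1, Q1⁆) = 1 := by
    have hz : P1 * P1 * P1 ∈ Subgroup.center E := hc (by
      rw [MonoidHom.mem_ker, map_mul, map_mul, hP1, T_add hkj, T_add hkj]
      have : (1 : K) + 1 + 1 = 0 := by rw [← h3]; norm_num
      rw [this, T_zero hkj])
    have e := Helper9.comm_of_center_left hz Q1
    rw [Helper9.comm_mul_left_of_center hcen, Helper9.comm_mul_left_of_center hcen] at e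
    exact e
  have hone : ⁅P1, Q1⁆ = 1 := by
    have h2 : ⁅P1, Q1⁆ * ⁅P1, Q1⁆ = 1 := by
      nth_rewrite 1 [← hinv]
      exact inv_mul_cancel _
    rw [h2, mul_one] at hcube
    exact hcube
  have hPQ : Commute P1 Q1 := commutatorElement_eq_one_iff_commute.mp hone
  -- lifts of `x_kj(u)` and `x_il(t)` built from `P1`, `Q1`
  have hliftP : ∀ a : K, ∃ P : E, ψ P = T k j a ∧ ∀ X : E, Commute P1 X → Commute P X := by
    intro a
    rcases hK a with rfl | rfl | rfl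
    · exact ⟨1, by rw [map_one, T_zero hkj], fun X _ => Commute.one_left X⟩
    · exact ⟨P1, hP1, fun X h => h⟩
    · exact ⟨P1⁻¹, by rw [map_inv, hP1, T_inv hkj], fun X h => h.inv_left⟩
  have hliftQ : ∀ a : K, ∃ Q : E, ψ Q = T i l a ∧ ∀ X : E, Commute X Q1 → Commute X Q := by
    intro a
    rcases hK a with rfl | rfl | rfl
    · exact ⟨1, by rw [map_one, T_zero hil], fun X _ => Commute.one_right X⟩
    · exact ⟨Q1, hQ1, fun X h => h⟩
    · exact ⟨Q1⁻¹, by rw [map_inv, hQ1, T_inv hil], fun X h => h.inv_right⟩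
  obtain ⟨P', hP', hPc⟩ := hliftP u
  obtain ⟨R', hR', hRc⟩ := hliftQ t
  have hfin := Helper9.stepII ψ hψ hc hsh hij hkl hil hjk hik hjl t u A B P' R' hA hB hP' hR'
  have hcomm : Commute P' R' := hPc R' (hRc P1 hPQ)
  rw [commutatorElement_eq_one_iff_commute.mpr hcomm] at hfin
  exact commutatorElement_eq_one_iff_mul_comm.mp hfin

end Cfsg.Agent.Lib.Helper25.SLCC
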