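import Mathlib
import Cfsg.Prelude.Def_Transfer
import Cfsg.Agent.Lib.Helper26.L34LocDefs

/-!
# S3154 piece [N] (helper9 for helper26): normalizer and complement

In a quasisimple group `X` (perfect, `X / Z(X)` simple) a proper normal subgroup is central.  If moreover
`|X| = 20160 |Z|`, `Z ≤ E`, `|E| = 16 |Z|`, and a subgroup `D` of order `60` normalizes `E` and meets it
trivially, then `E ⊔ D` is the whole normalizer of `E`: its order is a multiple of `960 |Z|`, so the index of
the normalizer divides `21`, and a proper subgroup of index at most `7` is impossible since the quotient by its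
core, of order at least `20160`, embeds in the symmetric group of degree at most `7`.
-/

set_option autoImplicit false
set_option linter.unusedVariables false

namespace Cfsg.Agent.Lib.Helper26.L34Loc

open scoped commutatorElement

variable {X : Type*} [Group X]

namespace Helper9

theorem comm_mul_central_left (a b z : X) (hz : z ∈ Subgroup.center X) : ⁅a * z, b⁆ = ⁅a, b⁆ := by
  rw [commutatorElement_def, commutatorElement_def, mul_inv_rev]
  have h : z * b = b * z := ((Subgroup.mem_center_iff.mp hz) b).symm
  calc a * z * b * (z⁻¹ * a⁻¹) * b⁻¹ = a * (z * b * z⁻¹) * a⁻¹ * b⁻¹ := by group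
    _ = a * b * a⁻¹ * b⁻¹ := by rw [h, mul_inv_cancel_right]

theorem comm_mul_central_right (a b z : X) (hz : z ∈ Subgroup.center X) : ⁅a, b * z⁆ = ⁅a, b⁆ := by
  rw [commutatorElement_def, commutatorElement_def, mul_inv_rev]
  have h : z * a⁻¹ = a⁻¹ * z := ((Subgroup.mem_center_iff.mp hz) a⁻¹).symm
  calc a * (b * z) * a⁻¹ * (z⁻¹ * b⁻¹) = a * b * (z * a⁻¹ * z⁻¹) * b⁻¹ := by group
    _ = a * b * a⁻¹ * b⁻¹ := by rw [h, mul_inv_cancel_right]

/-- if `D` meets `E` trivially and both lie in `M ≤ N(E)` then `|E| |D|` divides `|M|` -/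
theorem card_mul_dvd {E D M : Subgroup X} (hEM : E ≤ M) (hDM : D ≤ M)
    (hMN : M ≤ Subgroup.normalizer (E : Set X)) (hinf : D ⊓ E = ⊥) :
    Nat.card E * Nat.card D ∣ Nat.card M := by
  have : (E.subgroupOf M).Normal := Subgroup.normal_subgroupOf_of_le_normalizer hMN
  let f : D →* M ⧸ E.subgroupOf M := (QuotientGroup.mk' (E.subgroupOf M)).comp (Subgroup.inclusion hDM)
  have hf : Function.Injective f := by
    rw [injective_iff_map_eq_one]
    intro d hd
    have h1 : Subgroup.inclusion hDM d ∈ E.subgroupOf M := by
      rw [← QuotientGroup.eq_one_iff]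
      exact hd
    rw [Subgroup.mem_subgroupOf] at h1
    have h2 : (d : X) ∈ D ⊓ E := ⟨d.2, h1⟩
    rw [hinf, Subgroup.mem_bot] at h2
    exact Subtype.ext h2
  have h1 : Nat.card D ∣ Nat.card (M ⧸ E.subgroupOf M) := Subgroup.card_dvd_of_injective f hf
  have h2 : Nat.card M = Nat.card (M ⧸ E.subgroupOf M) * Nat.card (E.subgroupOf M) :=
    Subgroup.card_eq_card_quotient_mul_card_subgroup (E.subgroupOf M)
  have h3 : Nat.card (E.subgroupOf M) = Nat.card E :=
    Nat.card_congr (Subgroup.subgroupOfEquivOfLe hEM).toEquiv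
  rw [h2, h3, mul_comm (Nat.card E)]
  exact Nat.mul_dvd_mul_right h1 _

end Helper9

open Helper9 in
/-- in a quasisimple group a proper normal subgroup is central -/
theorem le_center_of_normal (hperf : commutator X = ⊤) (hsimp : IsSimpleGroup (X ⧸ Subgroup.center X))
    (N : Subgroup X) [N.Normal] (hN : N ≠ ⊤) : N ≤ Subgroup.center X := by
  have hsurj : Function.Surjective (QuotientGroup.mk' (Subgroup.center X)) :=
    QuotientGroup.mk'_surjective _
  have : (N.map (QuotientGroup.mk' (Subgroup.center X))).Normal :=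
    Subgroup.Normal.map inferInstance _ hsurj
  rcases Subgroup.Normal.eq_bot_or_eq_top
    (inferInstance : (N.map (QuotientGroup.mk' (Subgroup.center X))).Normal) with h | h
  · -- the image is trivial
    intro n hn
    have h1 : QuotientGroup.mk' (Subgroup.center X) n ∈ N.map (QuotientGroup.mk' (Subgroup.center X)) :=
      Subgroup.mem_map_of_mem _ hn
    rw [h, Subgroup.mem_bot] at h1
    have h2 : n ∈ (QuotientGroup.mk' (Subgroup.center X)).ker := h1
    rw [QuotientGroup.ker_mk'] at h2
    exact h2
  · -- the image is everything: then `X = N Z` and `X' ≤ N`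
    exfalso
    apply hN
    have hform : ∀ x : X, ∃ n ∈ N, ∃ z ∈ Subgroup.center X, x = n * z := by
      intro x
      have h1 : QuotientGroup.mk' (Subgroup.center X) x ∈
          N.map (QuotientGroup.mk' (Subgroup.center X)) := by rw [h]; trivial
      obtain ⟨n, hn, hnx⟩ := Subgroup.mem_map.mp h1
      have h2 : n⁻¹ * x ∈ Subgroup.center X := by
        rw [← QuotientGroup.ker_mk' (Subgroup.center X), MonoidHom.mem_ker, map_mul, map_inv, hnx,
          inv_mul_cancel]
      exact ⟨n, hn, n⁻¹ * x, h2, by group⟩
    rw [eq_top_iff, ← hperf, commutator_def, Subgroup.commutator_le]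
    intro g1 _ g2 _
    obtain ⟨n1, hn1, z1, hz1, rfl⟩ := hform g1
    obtain ⟨n2, hn2, z2, hz2, rfl⟩ := hform g2
    rw [comm_mul_central_left _ _ _ hz1, comm_mul_central_right _ _ _ hz2, commutatorElement_def]
    have h3 : n1 * n2 * n1⁻¹ ∈ N := (inferInstance : N.Normal).conj_mem n2 hn2 n1
    exact N.mul_mem h3 (N.inv_mem hn2)

namespace Helper9

/-- a proper subgroup of a quasisimple group of order `20160 |Z|` has index at least `8` -/
theorem eight_le_index [Finite X] (hperf : commutator X = ⊤)
    (hsimp : IsSimpleGroup (X ⧸ Subgroup.center X))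
    (hcard : Nat.card X = 20160 * Nat.card (Subgroup.center X))
    (H : Subgroup X) (hH : H ≠ ⊤) : 8 ≤ H.index := by
  have hcore_ne : H.normalCore ≠ ⊤ := by
    intro h
    apply hH
    rw [eq_top_iff, ← h]
    exact Subgroup.normalCore_le H
  have hcore : H.normalCore ≤ Subgroup.center X :=
    le_center_of_normal hperf hsimp H.normalCore hcore_ne
  have hZpos : 0 < Nat.card (Subgroup.center X) := Nat.card_pos
  have hcore_card : Nat.card H.normalCore ≤ Nat.card (Subgroup.center X) :=
    Subgroup.card_le_of_le hcore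
  -- the action on the cosets
  have hker : H.normalCore = (MulAction.toPermHom X (X ⧸ H)).ker := Subgroup.normalCore_eq_ker H
  have h1 : Nat.card X = Nat.card (X ⧸ (MulAction.toPermHom X (X ⧸ H)).ker) *
      Nat.card (MulAction.toPermHom X (X ⧸ H)).ker :=
    Subgroup.card_eq_card_quotient_mul_card_subgroup _
  have h2 : Nat.card (X ⧸ (MulAction.toPermHom X (X ⧸ H)).ker) =
      Nat.card (MulAction.toPermHom X (X ⧸ H)).range :=
    Nat.card_congr (QuotientGroup.quotientKerEquivRange _).toEquiv
  have h3 : Nat.card (MulAction.toPermHom X (X ⧸ H)).range ≤ Nat.card (Equiv.Perm (X ⧸ H)) :=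
    Subgroup.card_le_card_group _
  have h4 : Nat.card (Equiv.Perm (X ⧸ H)) = (H.index).factorial := by
    rw [Nat.card_perm]
    rfl
  rw [h2] at h1
  rw [← hker] at h1
  rw [h4] at h3
  -- 20160 |Z| ≤ index! |Z|
  have h5 : 20160 * Nat.card (Subgroup.center X) ≤
      (H.index).factorial * Nat.card (Subgroup.center X) := by
    calc 20160 * Nat.card (Subgroup.center X) = Nat.card X := hcard.symm
      _ = Nat.card (MulAction.toPermHom X (X ⧸ H)).range * Nat.card H.normalCore := h1
      _ ≤ (H.index).factorial * Nat.card (Subgroup.center X) := Nat.mul_le_mul h3 hcore_card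
  have h6 : 20160 ≤ (H.index).factorial := Nat.le_of_mul_le_mul_right h5 hZpos
  by_contra hlt
  rw [not_le] at hlt
  have h7 : (H.index).factorial ≤ (7 : ℕ).factorial := Nat.factorial_le (by omega)
  have h8 : (7 : ℕ).factorial = 5040 := by decide
  omega

end Helper9

open Helper9 in
theorem normalizer_eq_sup [Finite X] (hperf : commutator X = ⊤)
    (hsimp : IsSimpleGroup (X ⧸ Subgroup.center X))
    (hcard : Nat.card X = 20160 * Nat.card (Subgroup.center X))
    (E D : Subgroup X) (hZE : Subgroup.center X ≤ E)
    (hE : Nat.card E = 16 * Nat.card (Subgroup.center X)) (hD : Nat.card D = 60)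
    (hDE : D ≤ Subgroup.normalizer (E : Set X)) (hinf : D ⊓ E = ⊥) :
    E ⊔ D = Subgroup.normalizer (E : Set X) := by
  have hZpos : 0 < Nat.card (Subgroup.center X) := Nat.card_pos
  have hEN : E ≤ Subgroup.normalizer (E : Set X) := Subgroup.le_normalizer
  have hle : E ⊔ D ≤ Subgroup.normalizer (E : Set X) := sup_le hEN hDE
  -- the normalizer is proper
  have hNtop : Subgroup.normalizer (E : Set X) ≠ ⊤ := by
    intro h
    have : E.Normal := Subgroup.normalizer_eq_top_iff.mp h
    have hEtop : E ≠ ⊤ := by
      intro h1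
      have h2 : Nat.card E = Nat.card X := by rw [h1, Subgroup.card_top]
      rw [hE, hcard] at h2
      have : (16 : ℕ) = 20160 := Nat.eq_of_mul_eq_mul_right hZpos h2
      omega
    have h3 : Nat.card E ≤ Nat.card (Subgroup.center X) :=
      Subgroup.card_le_of_le (le_center_of_normal hperf hsimp E hEtop)
    rw [hE] at h3
    omega
  have hidx : 8 ≤ (Subgroup.normalizer (E : Set X)).index :=
    eight_le_index hperf hsimp hcard _ hNtop
  -- orders
  have hdvdN : Nat.card E * Nat.card D ∣ Nat.card (Subgroup.normalizer (E : Set X)) :=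
    card_mul_dvd hEN hDE le_rfl hinf
  have hdvdM : Nat.card E * Nat.card D ∣ Nat.card ↥(E ⊔ D) :=
    card_mul_dvd le_sup_left le_sup_right hle hinf
  rw [hE, hD] at hdvdN hdvdM
  obtain ⟨c, hc⟩ := hdvdN
  have hmul := Subgroup.card_mul_index (Subgroup.normalizer (E : Set X))
  rw [hcard, hc] at hmul
  -- `c * index = 21`
  have h21 : c * (Subgroup.normalizer (E : Set X)).index = 21 := by
    have h1 : Nat.card (Subgroup.center X) * (960 * (c * (Subgroup.normalizer (E : Set X)).index)) =
        Nat.card (Subgroup.center X) * (960 * 21) := by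
      calc Nat.card (Subgroup.center X) * (960 * (c * (Subgroup.normalizer (E : Set X)).index))
          = 16 * Nat.card (Subgroup.center X) * 60 * c *
            (Subgroup.normalizer (E : Set X)).index := by ring
        _ = 20160 * Nat.card (Subgroup.center X) := hmul
        _ = Nat.card (Subgroup.center X) * (960 * 21) := by ring
    have h2 := Nat.eq_of_mul_eq_mul_left hZpos h1
    exact Nat.eq_of_mul_eq_mul_left (by norm_num) h2
  have hc1 : c = 1 := by
    have hcpos : 0 < c := by
      rcases Nat.eq_zero_or_pos c with h0 | h0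
      · rw [h0, zero_mul] at h21; omega
      · exact h0
    have hc2 : c < 3 := by
      by_contra hge
      rw [not_lt] at hge
      have : 3 * 8 ≤ c * (Subgroup.normalizer (E : Set X)).index := Nat.mul_le_mul hge hidx
      omega
    interval_cases c
    · rfl
    · omega
  rw [hc1, mul_one] at hc
  -- compare
  apply Subgroup.eq_of_le_of_card_ge hle
  rw [hc]
  exact Nat.le_of_dvd Nat.card_pos hdvdM

end Cfsg.Agent.Lib.Helper26.L34Loc
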