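import Mathlib
import Cfsg.Prelude.Def_Transfer
import Cfsg.Agent.Lib.Helper26.L34LocDefs

/-!
# S3154 piece [S] (helper9 for helper26): the subgroup `quad a ⊔ quad b` is a Sylow `2`-subgroup

The statement of piece [T3] (`isPGroup_sup`) enters as the hypothesis `hT`: a `2`-subgroup `T'` of order at
least `64 |Z|` in a group of order `20160 |Z| = 2⁶ · 315 · |Z|` with `Z` a `2`-group is a Sylow `2`-subgroup,
hence conjugate to any given one.
-/

set_option autoImplicit false
set_option linter.unusedVariables false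

namespace Cfsg.Agent.Lib.Helper26.L34Loc

variable {X : Type*} [Group X]

namespace Helper9

/-- a `2`-subgroup of order at least `64 |Z|` is conjugate to every Sylow `2`-subgroup -/
theorem conj_sylow_of_card [Finite X]
    (hZ : Cfsg.IsElementaryAbelian 2 (Subgroup.center X))
    (hcard : Nat.card X = 20160 * Nat.card (Subgroup.center X)) (T' : Subgroup X)
    (hT : IsPGroup 2 ↥T' ∧ 64 * Nat.card (Subgroup.center X) ≤ Nat.card ↥T') (T : Sylow 2 X) :
    ∃ g : X, (T : Subgroup X) = T'.map (MulAut.conj g).toMonoidHom := by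
  have : Fact (Nat.Prime 2) := ⟨Nat.prime_two⟩
  -- the centre is a `2`-group
  have hZp : IsPGroup 2 (Subgroup.center X) := by
    intro z
    refine ⟨1, ?_⟩
    rw [pow_one]
    apply Subtype.ext
    rw [Subgroup.coe_pow]
    exact hZ.2 z z.2
  obtain ⟨k, hk⟩ := IsPGroup.iff_card.mp hZp
  -- a Sylow subgroup containing `T'`
  obtain ⟨P, hP⟩ := IsPGroup.exists_le_sylow hT.1
  obtain ⟨m, hm⟩ := IsPGroup.iff_card.mp P.isPGroup'
  have hdvd : Nat.card (P : Subgroup X) ∣ Nat.card X := Subgroup.card_subgroup_dvd_card _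
  have hm' : Nat.card (P : Subgroup X) = 2 ^ m := hm
  rw [hm', hcard, hk] at hdvd
  have h1 : 2 ^ m ∣ 2 ^ (6 + k) * 315 := by
    have e : 20160 * 2 ^ k = 2 ^ (6 + k) * 315 := by rw [pow_add]; ring
    rw [← e]; exact hdvd
  have hcop : Nat.Coprime (2 ^ m) 315 := Nat.Coprime.pow_left m (by norm_num)
  have h2 : 2 ^ m ∣ 2 ^ (6 + k) := hcop.dvd_of_dvd_mul_right h1
  have h3 : 2 ^ m ≤ 2 ^ (6 + k) := Nat.le_of_dvd (by positivity) h2
  have h4 : Nat.card (P : Subgroup X) ≤ Nat.card ↥T' := by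
    rw [hm']
    calc 2 ^ m ≤ 2 ^ (6 + k) := h3
      _ = 64 * Nat.card (Subgroup.center X) := by rw [hk, pow_add]; norm_num
      _ ≤ Nat.card ↥T' := hT.2
  have heq : T' = (P : Subgroup X) := Subgroup.eq_of_le_of_card_ge hP h4
  -- Sylow subgroups are conjugate
  obtain ⟨g, hg⟩ := MulAction.exists_smul_eq X P T
  refine ⟨g, ?_⟩
  rw [heq, ← hg, Sylow.coe_subgroup_smul]
  rfl

end Helper9

/-- [S] with the statement of [T3] as the extra hypothesis `hT` -/
theorem exists_conj_sylow [Finite X] {a1 a2 b1 b2 w1 w2 : X} (h : Hyp a1 a2 b1 b2 w1 w2)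
    (hZ : Cfsg.IsElementaryAbelian 2 (Subgroup.center X))
    (hcard : Nat.card X = 20160 * Nat.card (Subgroup.center X))
    (hT : IsPGroup 2 ↥(quad a1 a2 w1 w2 ⊔ quad b1 b2 w1 w2) ∧
      64 * Nat.card (Subgroup.center X) ≤ Nat.card ↥(quad a1 a2 w1 w2 ⊔ quad b1 b2 w1 w2))
    (T : Sylow 2 X) :
    ∃ g : X, (T : Subgroup X) =
      (quad a1 a2 w1 w2 ⊔ quad b1 b2 w1 w2).map (MulAut.conj g).toMonoidHom :=
  Helper9.conj_sylow_of_card hZ hcard _ hT T

end Cfsg.Agent.Lib.Helper26.L34Loc
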