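import Mathlib
import Cfsg.Prelude.Def_Transfer
import Cfsg.Agent.Lib.Helper26.L34LocDefs
import Cfsg.Agent.Lib.Helper21.L34LocQ

/-!
# S3154 piece [T2] (helper9 for helper26), with the normal form of [T1] as a hypothesis

`A = quad a1 a2 w1 w2`, `B = quad b1 b2 w1 w2`, `W = duo w1 w2`, `T = A ⊔ B`.  `SupForm` is the statement of
`sup_form` of piece [T1].  Then `A ⊓ B = W`, an element of `T` with central square lies in `A` or in `B`, and
`A ⊓ B` is the centre of `T`.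
-/

set_option autoImplicit false
set_option linter.unusedVariables false

namespace Cfsg.Agent.Lib.Helper26.L34Loc

variable {X : Type*} [Group X]

namespace Helper9

open Helper21Q

variable {a1 a2 b1 b2 w1 w2 : X}

/-- the statement of `sup_form` of piece [T1] -/
def SupForm (a1 a2 b1 b2 w1 w2 : X) : Prop :=
  ∀ x ∈ quad a1 a2 w1 w2 ⊔ quad b1 b2 w1 w2,
    ∃ i j k l : ℕ, i < 2 ∧ j < 2 ∧ k < 2 ∧ l < 2 ∧ ∃ u ∈ duo w1 w2,
      x = (a1 ^ i * a2 ^ j) * (b1 ^ k * b2 ^ l) * u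

theorem duo_le_quad (x1 x2 y1 y2 : X) : duo y1 y2 ≤ quad x1 x2 y1 y2 := by
  unfold duo quad
  apply sup_le_sup_right
  apply Subgroup.closure_mono
  intro g hg
  simp only [Set.mem_insert_iff, Set.mem_singleton_iff] at hg ⊢
  rcases hg with hg | hg
  · right; right; left; exact hg
  · right; right; right; exact hg

theorem pow_mul_pow_mem (x1 x2 y1 y2 : X) (i j : ℕ) : x1 ^ i * x2 ^ j ∈ quad x1 x2 y1 y2 :=
  Subgroup.mul_mem _ (Subgroup.pow_mem _ (mem_quad_of_mem (by simp)) i)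
    (Subgroup.pow_mem _ (mem_quad_of_mem (by simp)) j)

theorem pow_mul_pow_sq {x y : X} (hx : x * x = 1) (hy : y * y = 1) (hxy : x * y = y * x) (i j : ℕ) :
    (x ^ i * y ^ j) * (x ^ i * y ^ j) = 1 := by
  have hc : Commute (x ^ i) (y ^ j) := (Commute.pow_pow (show Commute x y from hxy) i j)
  rw [← pow_two, hc.mul_pow, ← pow_mul, ← pow_mul, mul_comm i 2, mul_comm j 2, pow_mul, pow_mul,
    pow_two, pow_two, hx, hy, one_pow, one_pow, one_mul]

/-- elements of `W` commute with everything in `T` -/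
theorem duo_comm_sup (h : Hyp a1 a2 b1 b2 w1 w2) {u t : X} (hu : u ∈ duo w1 w2)
    (ht : t ∈ quad a1 a2 w1 w2 ⊔ quad b1 b2 w1 w2) : t * u = u * t := by
  have hle : quad a1 a2 w1 w2 ⊔ quad b1 b2 w1 w2 ≤ Subgroup.centralizer {u} := by
    apply sup_le
    · intro g hg
      rw [Subgroup.mem_centralizer_iff]
      intro y hy
      rw [Set.mem_singleton_iff] at hy
      rw [hy]
      exact quad_comm h.hA u (duo_le_quad _ _ _ _ hu) g hg
    · intro g hg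
      rw [Subgroup.mem_centralizer_iff]
      intro y hy
      rw [Set.mem_singleton_iff] at hy
      rw [hy]
      exact quad_comm h.hB u (duo_le_quad _ _ _ _ hu) g hg
  have := Subgroup.mem_centralizer_iff.mp (hle ht) u rfl
  exact this.symm

theorem quad_inf' (h : Hyp a1 a2 b1 b2 w1 w2) :
    quad a1 a2 w1 w2 ⊓ quad b1 b2 w1 w2 = duo w1 w2 := by
  apply le_antisymm
  · rintro x ⟨hxA, hxB⟩
    obtain ⟨i, j, k, l, hi, hj, hk, hl, z, hz, hxe⟩ := quad_form h.hA hxA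
    -- `x = α * u`
    have hu : w1 ^ k * w2 ^ l * z ∈ duo w1 w2 := by
      unfold duo
      apply Subgroup.mul_mem _ _ ((le_sup_right : Subgroup.center X ≤ _) hz)
      apply (le_sup_left : Subgroup.closure {w1, w2} ≤ _)
      exact Subgroup.mul_mem _ (Subgroup.pow_mem _ (Subgroup.subset_closure (by simp)) k)
        (Subgroup.pow_mem _ (Subgroup.subset_closure (by simp)) l)
    have hx' : x = (a1 ^ i * a2 ^ j) * (w1 ^ k * w2 ^ l * z) := by rw [hxe]; group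
    by_cases hij : i = 0 ∧ j = 0
    · rw [hx', hij.1, hij.2, pow_zero, pow_zero, one_mul, one_mul]
      exact hu
    · exfalso
      -- `α` commutes with `b1`
      have hb1 : b1 ∈ quad b1 b2 w1 w2 := mem_quad_of_mem (by simp)
      have hxb : x * b1 = b1 * x := quad_comm h.hB x hxB b1 hb1
      have hub : (w1 ^ k * w2 ^ l * z) * b1 = b1 * (w1 ^ k * w2 ^ l * z) :=
        quad_comm h.hB _ (duo_le_quad _ _ _ _ hu) b1 hb1
      have hαb : (a1 ^ i * a2 ^ j) * b1 = b1 * (a1 ^ i * a2 ^ j) := by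
        have e : a1 ^ i * a2 ^ j = x * (w1 ^ k * w2 ^ l * z)⁻¹ := by rw [hx']; group
        have hub' : (w1 ^ k * w2 ^ l * z)⁻¹ * b1 = b1 * (w1 ^ k * w2 ^ l * z)⁻¹ :=
          ((show Commute (w1 ^ k * w2 ^ l * z) b1 from hub).inv_left).eq
        rw [e, mul_assoc, hub', ← mul_assoc, hxb, mul_assoc]
      have hcr := h.cr i j 1 0 hi hj (by norm_num) (by norm_num) hij (by omega)
      apply hcr
      rw [pow_one, pow_zero, mul_one, hαb]
      have : b1 * (a1 ^ i * a2 ^ j) * (a1 ^ i * a2 ^ j)⁻¹ * b1⁻¹ = 1 := by group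
      rw [this]
      exact Subgroup.one_mem _
  · exact le_inf (duo_le_quad _ _ _ _) (duo_le_quad _ _ _ _)

theorem sq_mem_center' (h : Hyp a1 a2 b1 b2 w1 w2) (hform : SupForm a1 a2 b1 b2 w1 w2)
    (hZ : Cfsg.IsElementaryAbelian 2 (Subgroup.center X)) {x : X}
    (hx : x ∈ quad a1 a2 w1 w2 ⊔ quad b1 b2 w1 w2) (hx2 : x * x ∈ Subgroup.center X) :
    x ∈ quad a1 a2 w1 w2 ∨ x ∈ quad b1 b2 w1 w2 := by
  obtain ⟨i, j, k, l, hi, hj, hk, hl, u, hu, hxe⟩ := hform x hx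
  have hαA : a1 ^ i * a2 ^ j ∈ quad a1 a2 w1 w2 := pow_mul_pow_mem _ _ _ _ i j
  have hβB : b1 ^ k * b2 ^ l ∈ quad b1 b2 w1 w2 := pow_mul_pow_mem _ _ _ _ k l
  have hαβT : (a1 ^ i * a2 ^ j) * (b1 ^ k * b2 ^ l) ∈ quad a1 a2 w1 w2 ⊔ quad b1 b2 w1 w2 :=
    Subgroup.mul_mem _ ((le_sup_left : quad a1 a2 w1 w2 ≤ _) hαA)
      ((le_sup_right : quad b1 b2 w1 w2 ≤ _) hβB)
  have hα2 : (a1 ^ i * a2 ^ j) * (a1 ^ i * a2 ^ j) = 1 := pow_mul_pow_sq h.hA.s1 h.hA.s2 h.hA.c12 i j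
  have hβ2 : (b1 ^ k * b2 ^ l) * (b1 ^ k * b2 ^ l) = 1 := pow_mul_pow_sq h.hB.s1 h.hB.s2 h.hB.c12 k l
  have hu2 : u * u = 1 := by
    have := (quad_elementary h.hA hZ).2 u (duo_le_quad _ _ _ _ hu)
    rw [pow_two] at this
    exact this
  have hcomm : Commute u ((a1 ^ i * a2 ^ j) * (b1 ^ k * b2 ^ l)) :=
    (duo_comm_sup h hu hαβT).symm
  have hsq : x * x = ((a1 ^ i * a2 ^ j) * (b1 ^ k * b2 ^ l)) * ((a1 ^ i * a2 ^ j) * (b1 ^ k * b2 ^ l)) := by
    rw [hxe, hcomm.mul_mul_mul_comm, hu2, mul_one]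
  have hαinv : (a1 ^ i * a2 ^ j)⁻¹ = a1 ^ i * a2 ^ j := inv_eq_of_mul_eq_one_left hα2
  have hβinv : (b1 ^ k * b2 ^ l)⁻¹ = b1 ^ k * b2 ^ l := inv_eq_of_mul_eq_one_left hβ2
  have hcommu : (a1 ^ i * a2 ^ j) * (b1 ^ k * b2 ^ l) * (a1 ^ i * a2 ^ j)⁻¹ * (b1 ^ k * b2 ^ l)⁻¹ ∈
      Subgroup.center X := by
    rw [hαinv, hβinv, mul_assoc ((a1 ^ i * a2 ^ j) * (b1 ^ k * b2 ^ l)), ← hsq]
    exact hx2
  by_cases hij : i = 0 ∧ j = 0
  · right
    rw [hxe, hij.1, hij.2, pow_zero, pow_zero, one_mul, one_mul]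
    exact Subgroup.mul_mem _ hβB (duo_le_quad _ _ _ _ hu)
  · by_cases hkl : k = 0 ∧ l = 0
    · left
      rw [hxe, hkl.1, hkl.2, pow_zero, pow_zero, one_mul, mul_one]
      exact Subgroup.mul_mem _ hαA (duo_le_quad _ _ _ _ hu)
    · exact absurd hcommu (h.cr i j k l hi hj hk hl hij hkl)

theorem center_sup' (h : Hyp a1 a2 b1 b2 w1 w2) (hform : SupForm a1 a2 b1 b2 w1 w2)
    (hZ : Cfsg.IsElementaryAbelian 2 (Subgroup.center X)) :
    quad a1 a2 w1 w2 ⊓ quad b1 b2 w1 w2 =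
      (Subgroup.center ↥(quad a1 a2 w1 w2 ⊔ quad b1 b2 w1 w2)).map
        (quad a1 a2 w1 w2 ⊔ quad b1 b2 w1 w2).subtype := by
  rw [quad_inf' h]
  have hWT : duo w1 w2 ≤ quad a1 a2 w1 w2 ⊔ quad b1 b2 w1 w2 :=
    le_trans (duo_le_quad a1 a2 w1 w2) le_sup_left
  apply le_antisymm
  · intro u hu
    refine Subgroup.mem_map.mpr ⟨⟨u, hWT hu⟩, ?_, rfl⟩
    rw [Subgroup.mem_center_iff]
    intro t
    apply Subtype.ext
    exact duo_comm_sup h hu t.2
  · intro x hx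
    obtain ⟨y, hy, rfl⟩ := Subgroup.mem_map.mp hx
    rw [Subgroup.mem_center_iff] at hy
    have hcen : ∀ t ∈ quad a1 a2 w1 w2 ⊔ quad b1 b2 w1 w2, t * (y : X) = (y : X) * t := by
      intro t ht
      exact congrArg Subtype.val (hy ⟨t, ht⟩)
    obtain ⟨i, j, k, l, hi, hj, hk, hl, u, hu, hxe⟩ := hform (y : X) y.2
    have hxe' : (y : X) = (a1 ^ i * a2 ^ j) * (b1 ^ k * b2 ^ l) * u := hxe
    have hαA : a1 ^ i * a2 ^ j ∈ quad a1 a2 w1 w2 := pow_mul_pow_mem _ _ _ _ i j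
    have hβB : b1 ^ k * b2 ^ l ∈ quad b1 b2 w1 w2 := pow_mul_pow_mem _ _ _ _ k l
    -- `α β` is central in `T`
    have hcen2 : ∀ t ∈ quad a1 a2 w1 w2 ⊔ quad b1 b2 w1 w2,
        t * ((a1 ^ i * a2 ^ j) * (b1 ^ k * b2 ^ l)) = (a1 ^ i * a2 ^ j) * (b1 ^ k * b2 ^ l) * t := by
      intro t ht
      have h1 := hcen t ht
      rw [hxe'] at h1
      have h2 : t * u = u * t := duo_comm_sup h hu ht
      have h3 : t * ((a1 ^ i * a2 ^ j) * (b1 ^ k * b2 ^ l)) * u =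
          (a1 ^ i * a2 ^ j) * (b1 ^ k * b2 ^ l) * t * u := by
        calc t * ((a1 ^ i * a2 ^ j) * (b1 ^ k * b2 ^ l)) * u
            = t * ((a1 ^ i * a2 ^ j) * (b1 ^ k * b2 ^ l) * u) := mul_assoc t _ u
          _ = (a1 ^ i * a2 ^ j) * (b1 ^ k * b2 ^ l) * u * t := h1
          _ = (a1 ^ i * a2 ^ j) * (b1 ^ k * b2 ^ l) * (u * t) := mul_assoc _ u t
          _ = (a1 ^ i * a2 ^ j) * (b1 ^ k * b2 ^ l) * (t * u) := by rw [h2]
          _ = (a1 ^ i * a2 ^ j) * (b1 ^ k * b2 ^ l) * t * u := (mul_assoc _ t u).symm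
      exact mul_right_cancel h3
    -- `β` is trivial
    have hkl : k = 0 ∧ l = 0 := by
      by_contra hkl
      have ha1 : a1 ∈ quad a1 a2 w1 w2 := mem_quad_of_mem (by simp)
      have h1 := hcen2 a1 ((le_sup_left : quad a1 a2 w1 w2 ≤ _) ha1)
      have h2 : a1 * (a1 ^ i * a2 ^ j) = (a1 ^ i * a2 ^ j) * a1 := quad_comm h.hA _ ha1 _ hαA
      -- `a1 β = β a1`
      have h3 : a1 * (b1 ^ k * b2 ^ l) = (b1 ^ k * b2 ^ l) * a1 := by
        have h4 : (a1 ^ i * a2 ^ j) * (a1 * (b1 ^ k * b2 ^ l)) =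
            (a1 ^ i * a2 ^ j) * ((b1 ^ k * b2 ^ l) * a1) := by
          rw [← mul_assoc, ← h2, mul_assoc, h1, mul_assoc, mul_assoc]
        exact mul_left_cancel h4
      have hcr := h.cr 1 0 k l (by norm_num) (by norm_num) hk hl (by omega) hkl
      apply hcr
      rw [pow_one, pow_zero, mul_one, h3]
      have : (b1 ^ k * b2 ^ l) * a1 * a1⁻¹ * (b1 ^ k * b2 ^ l)⁻¹ = 1 := by group
      rw [this]
      exact Subgroup.one_mem _
    -- `α` is trivial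
    have hij : i = 0 ∧ j = 0 := by
      by_contra hij
      have hb1 : b1 ∈ quad b1 b2 w1 w2 := mem_quad_of_mem (by simp)
      have h1 := hcen2 b1 ((le_sup_right : quad b1 b2 w1 w2 ≤ _) hb1)
      rw [hkl.1, hkl.2, pow_zero, pow_zero, mul_one, mul_one] at h1
      have hcr := h.cr i j 1 0 hi hj (by norm_num) (by norm_num) hij (by omega)
      apply hcr
      rw [pow_one, pow_zero, mul_one, ← h1]
      have : b1 * (a1 ^ i * a2 ^ j) * (a1 ^ i * a2 ^ j)⁻¹ * b1⁻¹ = 1 := by group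
      rw [this]
      exact Subgroup.one_mem _
    show (y : X) ∈ duo w1 w2
    rw [hxe', hij.1, hij.2, hkl.1, hkl.2, pow_zero, pow_zero, pow_zero, pow_zero, one_mul, one_mul,
      one_mul]
    exact hu

end Helper9

end Cfsg.Agent.Lib.Helper26.L34Loc
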