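import Mathlib
import Cfsg.Prelude.Def_Transfer
import Cfsg.Agent.Lib.Helper26.L34LocDefs
import Cfsg.Agent.Lib.Helper21.L34LocQ
import Cfsg.Agent.Lib.Helper11.L34LocT1
import Cfsg.Agent.Lib.Helper9.L34LocT2Gen

/-!
# S3154 piece [T2] (helper9 for helper26): `quad_inf`, `sq_mem_center`, `center_sup`

Exact skeleton statements; the proofs are in `L34LocT2Gen` (with the normal form of [T1] as a hypothesis).
-/

set_option autoImplicit false

namespace Cfsg.Agent.Lib.Helper26.L34Loc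

variable {X : Type*} [Group X]

section T

variable {a1 a2 b1 b2 w1 w2 : X}

theorem quad_inf (h : Hyp a1 a2 b1 b2 w1 w2) :
    quad a1 a2 w1 w2 ⊓ quad b1 b2 w1 w2 = duo w1 w2 :=
  Helper9.quad_inf' h

theorem sq_mem_center (h : Hyp a1 a2 b1 b2 w1 w2)
    (hZ : Cfsg.IsElementaryAbelian 2 (Subgroup.center X)) {x : X}
    (hx : x ∈ quad a1 a2 w1 w2 ⊔ quad b1 b2 w1 w2) (hx2 : x * x ∈ Subgroup.center X) :
    x ∈ quad a1 a2 w1 w2 ∨ x ∈ quad b1 b2 w1 w2 :=
  Helper9.sq_mem_center' h (fun _ hx => sup_form h hx) hZ hx hx2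

theorem center_sup (h : Hyp a1 a2 b1 b2 w1 w2)
    (hZ : Cfsg.IsElementaryAbelian 2 (Subgroup.center X)) :
    quad a1 a2 w1 w2 ⊓ quad b1 b2 w1 w2 =
      (Subgroup.center ↥(quad a1 a2 w1 w2 ⊔ quad b1 b2 w1 w2)).map
        (quad a1 a2 w1 w2 ⊔ quad b1 b2 w1 w2).subtype :=
  Helper9.center_sup' h (fun _ hx => sup_form h hx) hZ

end T

end Cfsg.Agent.Lib.Helper26.L34Loc
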