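import Mathlib
import Cfsg.Prelude.Def_Transfer
import Cfsg.Agent.Lib.Helper26.L34LocDefs

/-!
# S3154 (helper9 for helper26): generic cores of the pieces [T3] and [I]

Pure subgroup counting: no reference to `quad` / `duo` / `Hyp`.
-/

set_option autoImplicit false
set_option linter.unusedVariables false

namespace Cfsg.Agent.Lib.Helper26.L34Loc.Helper9

variable {X : Type*} [Group X]

theorem isPGroup_of_elementary {A : Subgroup X} (h : Cfsg.IsElementaryAbelian 2 A) : IsPGroup 2 A := by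
  intro a
  refine ⟨1, ?_⟩
  rw [pow_one]
  apply Subtype.ext
  rw [Subgroup.coe_pow]
  exact h.2 a a.2

/-- `|A| |B| ≤ |A ⊓ B| |A ⊔ B|` -/
theorem card_mul_card_le [Finite X] (A B : Subgroup X) :
    Nat.card A * Nat.card B ≤ Nat.card ↥(A ⊓ B) * Nat.card ↥(A ⊔ B) := by
  have h1 : Nat.card ↥(A ⊓ B) * (A ⊓ B).relIndex B = Nat.card B := by
    have := Subgroup.relIndex_mul_relIndex ⊥ (A ⊓ B) B bot_le inf_le_right
    rw [Subgroup.relIndex_bot_left, Subgroup.relIndex_bot_left] at this
    exact this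
  have h2 : Nat.card A * A.relIndex (A ⊔ B) = Nat.card ↥(A ⊔ B) := by
    have := Subgroup.relIndex_mul_relIndex ⊥ A (A ⊔ B) bot_le le_sup_left
    rw [Subgroup.relIndex_bot_left, Subgroup.relIndex_bot_left] at this
    exact this
  have h3 : (A ⊓ B).relIndex B = A.relIndex B := Subgroup.inf_relIndex_right A B
  have h4 : A.relIndex B ≤ A.relIndex (A ⊔ B) := by
    apply Subgroup.relIndex_le_of_le_right le_sup_right
    intro h0
    rw [h0, mul_zero] at h2
    have : 0 < Nat.card ↥(A ⊔ B) := Nat.card_pos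
    omega
  calc Nat.card A * Nat.card B = Nat.card A * (Nat.card ↥(A ⊓ B) * A.relIndex B) := by
        rw [← h3, h1]
    _ ≤ Nat.card A * (Nat.card ↥(A ⊓ B) * A.relIndex (A ⊔ B)) :=
        Nat.mul_le_mul_left _ (Nat.mul_le_mul_left _ h4)
    _ = Nat.card ↥(A ⊓ B) * (Nat.card A * A.relIndex (A ⊔ B)) := by ring
    _ = Nat.card ↥(A ⊓ B) * Nat.card ↥(A ⊔ B) := by rw [h2]

/-- a subgroup all of whose elements are `y1 ^ k * y2 ^ l * z` (`k, l < 2`, `z` central) has order at most
`4 |Z|` -/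
theorem card_le_four_mul [Finite X] (Dd : Subgroup X) (y1 y2 : X)
    (hform : ∀ x ∈ Dd, ∃ k l : ℕ, k < 2 ∧ l < 2 ∧ ∃ z ∈ Subgroup.center X, x = y1 ^ k * y2 ^ l * z) :
    Nat.card Dd ≤ 4 * Nat.card (Subgroup.center X) := by
  classical
  let f : (Fin 2 × Fin 2) × Subgroup.center X → X := fun t => y1 ^ t.1.1.val * y2 ^ t.1.2.val * t.2.val
  have hsub : (Dd : Set X) ⊆ Set.range f := by
    intro x hx
    obtain ⟨k, l, hk, hl, z, hz, rfl⟩ := hform x hx
    exact ⟨((⟨k, hk⟩, ⟨l, hl⟩), ⟨z, hz⟩), rfl⟩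
  have h1 : Nat.card Dd ≤ Nat.card (Set.range f) := Nat.card_mono (Set.toFinite _) hsub
  have h2 : Nat.card (Set.range f) ≤ Nat.card ((Fin 2 × Fin 2) × Subgroup.center X) :=
    Nat.card_le_card_of_surjective (Set.rangeFactorization f) Set.rangeFactorization_surjective
  have h3 : Nat.card ((Fin 2 × Fin 2) × Subgroup.center X) = 4 * Nat.card (Subgroup.center X) := by
    rw [Nat.card_prod, Nat.card_prod, Nat.card_fin]
  omega

/-- generic core of [T3] -/
theorem isPGroup_sup_of [Finite X] (A B Dd : Subgroup X)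
    (hA : Cfsg.IsElementaryAbelian 2 A) (hB : Cfsg.IsElementaryAbelian 2 B)
    (hBN : B ≤ Subgroup.normalizer (A : Set X))
    (hcA : Nat.card A = 16 * Nat.card (Subgroup.center X))
    (hcB : Nat.card B = 16 * Nat.card (Subgroup.center X))
    (hinf : A ⊓ B = Dd) (hD : Nat.card Dd ≤ 4 * Nat.card (Subgroup.center X)) :
    IsPGroup 2 ↥(A ⊔ B) ∧ 64 * Nat.card (Subgroup.center X) ≤ Nat.card ↥(A ⊔ B) := by
  have : Fact (Nat.Prime 2) := ⟨Nat.prime_two⟩
  refine ⟨IsPGroup.to_sup_of_normal_left' (isPGroup_of_elementary hA) (isPGroup_of_elementary hB) hBN, ?_⟩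
  have hZpos : 0 < Nat.card (Subgroup.center X) := Nat.card_pos
  have h1 := card_mul_card_le A B
  rw [hinf, hcA, hcB] at h1
  have h2 : Nat.card Dd * Nat.card ↥(A ⊔ B) ≤
      4 * Nat.card (Subgroup.center X) * Nat.card ↥(A ⊔ B) := Nat.mul_le_mul_right _ hD
  have h3 : 4 * Nat.card (Subgroup.center X) * (64 * Nat.card (Subgroup.center X)) ≤
      4 * Nat.card (Subgroup.center X) * Nat.card ↥(A ⊔ B) := by
    calc 4 * Nat.card (Subgroup.center X) * (64 * Nat.card (Subgroup.center X))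
        = 16 * Nat.card (Subgroup.center X) * (16 * Nat.card (Subgroup.center X)) := by ring
      _ ≤ Nat.card Dd * Nat.card ↥(A ⊔ B) := h1
      _ ≤ 4 * Nat.card (Subgroup.center X) * Nat.card ↥(A ⊔ B) := h2
  exact Nat.le_of_mul_le_mul_left h3 (by positivity)

/-- generic core of [I] -/
theorem ident_of [Finite X] (A B T' E : Subgroup X)
    (hsq : ∀ x ∈ T', x * x ∈ Subgroup.center X → x ∈ A ∨ x ∈ B)
    (hcA : Nat.card A = 16 * Nat.card (Subgroup.center X))
    (hcB : Nat.card B = 16 * Nat.card (Subgroup.center X))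
    (hE : E ≤ T') (hZE : Subgroup.center X ≤ E)
    (hel : Cfsg.IsElementaryAbelian 2 (E.map (QuotientGroup.mk' (Subgroup.center X))))
    (hc : Nat.card ↥(E.map (QuotientGroup.mk' (Subgroup.center X))) = 16) :
    E = A ∨ E = B := by
  -- the order of `E`
  have hcE : Nat.card E = 16 * Nat.card (Subgroup.center X) := by
    have h1 := Subgroup.relIndex_ker (K := E) (QuotientGroup.mk' (Subgroup.center X))
    rw [QuotientGroup.ker_mk', hc] at h1
    have h2 := Subgroup.relIndex_mul_relIndex ⊥ (Subgroup.center X) E bot_le hZE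
    rw [Subgroup.relIndex_bot_left, Subgroup.relIndex_bot_left, h1] at h2
    rw [← h2, mul_comm]
  -- every element of `E` has a central square
  have hsub : (E : Set X) ⊆ (A : Set X) ∪ (B : Set X) := by
    intro x hx
    have h1 : QuotientGroup.mk' (Subgroup.center X) x ∈
        E.map (QuotientGroup.mk' (Subgroup.center X)) := Subgroup.mem_map_of_mem _ hx
    have h2 := hel.2 _ h1
    rw [← map_pow] at h2
    have h3 : x ^ 2 ∈ (QuotientGroup.mk' (Subgroup.center X)).ker := h2
    rw [QuotientGroup.ker_mk', pow_two] at h3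
    exact hsq x (hE hx) h3
  rcases SubgroupClass.subset_union.mp hsub with h | h
  · left
    apply Subgroup.eq_of_le_of_card_ge h
    rw [hcA, hcE]
  · right
    apply Subgroup.eq_of_le_of_card_ge h
    rw [hcB, hcE]

end Cfsg.Agent.Lib.Helper26.L34Loc.Helper9
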