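import Mathlib
import Cfsg.Prelude.Def_Transfer
import Cfsg.Agent.Lib.Helper26.L34LocDefs
import Cfsg.Agent.Lib.Helper21.L34LocQ
import Cfsg.Agent.Lib.Helper11.L34LocT1
import Cfsg.Agent.Lib.Helper9.L34LocGen
import Cfsg.Agent.Lib.Helper9.L34LocT2

/-!
# S3154 pieces [T3] and [I] (helper9 for helper26): `isPGroup_sup`, `ident`

Exact skeleton statements; the counting is in `L34LocGen`.
-/

set_option autoImplicit false

namespace Cfsg.Agent.Lib.Helper26.L34Loc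

variable {X : Type*} [Group X]

section T

variable {a1 a2 b1 b2 w1 w2 : X}

/-- `T` is a `2`-group of order at least `64 |Z|` -/
theorem isPGroup_sup [Finite X] (h : Hyp a1 a2 b1 b2 w1 w2)
    (hZ : Cfsg.IsElementaryAbelian 2 (Subgroup.center X)) :
    IsPGroup 2 ↥(quad a1 a2 w1 w2 ⊔ quad b1 b2 w1 w2) ∧
      64 * Nat.card (Subgroup.center X) ≤ Nat.card ↥(quad a1 a2 w1 w2 ⊔ quad b1 b2 w1 w2) :=
  Helper9.isPGroup_sup_of (quad a1 a2 w1 w2) (quad b1 b2 w1 w2) (duo w1 w2)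
    (quad_elementary h.hA hZ) (quad_elementary h.hB hZ) (quadB_le_normalizer h)
    (card_quad h.hA h.iA) (card_quad h.hB h.iB) (quad_inf h)
    (Helper9.card_le_four_mul (duo w1 w2) w1 w2
      (fun _ hx => duo_form h.hA.s3 h.hA.s4 h.hA.c34 hx))

end T

theorem ident [Finite X] {a1 a2 b1 b2 w1 w2 : X} (h : Hyp a1 a2 b1 b2 w1 w2)
    (hZ : Cfsg.IsElementaryAbelian 2 (Subgroup.center X)) (E : Subgroup X)
    (hE : E ≤ quad a1 a2 w1 w2 ⊔ quad b1 b2 w1 w2) (hZE : Subgroup.center X ≤ E)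
    (hel : Cfsg.IsElementaryAbelian 2 (E.map (QuotientGroup.mk' (Subgroup.center X))))
    (hc : Nat.card ↥(E.map (QuotientGroup.mk' (Subgroup.center X))) = 16) :
    E = quad a1 a2 w1 w2 ∨ E = quad b1 b2 w1 w2 :=
  Helper9.ident_of (quad a1 a2 w1 w2) (quad b1 b2 w1 w2) (quad a1 a2 w1 w2 ⊔ quad b1 b2 w1 w2) E
    (fun _ hx hx2 => sq_mem_center h hZ hx hx2) (card_quad h.hA h.iA) (card_quad h.hB h.iB)
    hE hZE hel hc

end Cfsg.Agent.Lib.Helper26.L34Loc
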