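import Mathlib
import Cfsg.Prelude.Def_KGroupFacts
import Cfsg.Agent.H5.StemTC
import Cfsg.Agent.Lib.Helper17.WeakL6

/-!
# S2045 piece [P2G] (helper9 for helper20): the generic bound with an abstract order bound

The proof of `Helper10.Weak.card_ker_mul_card_le` with the Todd–Coxeter step replaced by an abstract
bound `hB` on the order of every group generated by elements satisfying the relators, applied to the
preimage of `H = ⟨γ i⟩` under the stem extension.
-/

set_option autoImplicit false

namespace Cfsg.Agent.Lib.Helper20.Co3Mult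

open Cfsg Cfsg.H5.TCk Cfsg.Agent.Lib.Helper10.Weak

universe u

/-- [P2G] lifts `γh i` of generators `γ i` of a subgroup `H` of `p'`-index, relators that hold for the
lifts, and a bound `B` for the order of every group generated by elements satisfying the relators, bound
`|ker σ| · |H|` by `B`. -/
theorem card_ker_mul_card_le_of_bound {G : Type u} [Group G] {Γ : Type u} [Group Γ] [Finite Γ]
    (σ : Γ →* G) (hσ : Cfsg.IsStemExtension σ) (p : ℕ) [Fact p.Prime] (hk : IsPGroup p σ.ker)
    (t : ℕ) (γ : ℕ → G)
    (hidx : ¬ p ∣ (Subgroup.closure (Set.range fun i : Fin t => γ i.val)).index)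
    (γh : ℕ → Γ) (hγh : ∀ i < t, σ (γh i) = γ i)
    (rels : List (List ℕ)) (hl : ∀ r ∈ rels, r.all (fun l => decide (l < 2 * t)) = true)
    (hrels : ∀ r ∈ rels, Cfsg.H5.TCk.ev γh r = 1)
    (B : ℕ)
    (hB : ∀ (M : Type u) [Group M] (γm : ℕ → M), (∀ r ∈ rels, Cfsg.H5.TCk.ev γm r = 1) →
      Subgroup.closure (Set.range fun i : Fin t => γm i.val) = ⊤ → Nat.card M ≤ B) :
    Nat.card σ.ker * Nat.card (Subgroup.closure (Set.range fun i : Fin t => γ i.val)) ≤ B := by
  classical
  have hsurj : Function.Surjective σ := hσ.1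
  -- the subgroup generated by the `γ i` and its preimage
  have hτ : IsStemExtension
      (σ.subgroupComap (Subgroup.closure (Set.range fun i : Fin t => γ i.val))) :=
    stem_restrict_p σ hσ hk _ hidx
  have hcardM : Nat.card ((Subgroup.closure (Set.range fun i : Fin t => γ i.val)).comap σ) =
      Nat.card σ.ker * Nat.card (Subgroup.closure (Set.range fun i : Fin t => γ i.val)) :=
    card_comap σ hsurj _
  generalize hHdef : Subgroup.closure (Set.range fun i : Fin t => γ i.val) = H at hτ hcardM ⊢
  have hγH : ∀ i < t, γ i ∈ H := by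
    intro i hi
    rw [← hHdef]
    exact Subgroup.subset_closure ⟨⟨i, hi⟩, rfl⟩
  have hγhM : ∀ i < t, γh i ∈ H.comap σ := by
    intro i hi
    rw [Subgroup.mem_comap, hγh i hi]
    exact hγH i hi
  let γm : ℕ → H.comap σ := fun i => if h : i < t then ⟨γh i, hγhM i h⟩ else 1
  have hγm : ∀ i < t, ((γm i : H.comap σ) : Γ) = γh i := by
    intro i hi
    simp only [γm, dif_pos hi]
  have hev : ∀ w : List ℕ, w.all (fun l => decide (l < 2 * t)) = true →
      ((ev γm w : H.comap σ) : Γ) = ev γh w := by
    intro w hw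
    have h1 : ((ev γm w : H.comap σ) : Γ) = ev (fun i => ((γm i : H.comap σ) : Γ)) w :=
      Cfsg.H5.StemTC.map_ev (H.comap σ).subtype γm w
    rw [h1]
    exact Helper17.ev_congr_lt _ _ t (fun i hi => hγm i hi) w hw
  -- the lifts generate the preimage
  have hgenM : Subgroup.closure (Set.range fun i : Fin t => γm i.val) = ⊤ := by
    apply Cfsg.H5.StemLift.eq_top_of_map_eq_top (σ.subgroupComap H) hτ
    apply Subgroup.map_injective H.subtype_injective
    have h1 : (⊤ : Subgroup H).map H.subtype = H := by
      rw [← MonoidHom.range_eq_map, Subgroup.range_subtype]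
    rw [h1, Subgroup.map_map, MonoidHom.map_closure]
    have himg : (⇑(H.subtype.comp (σ.subgroupComap H)) '' Set.range fun i : Fin t => γm i.val) =
        Set.range fun i : Fin t => γ i.val := by
      ext x
      constructor
      · rintro ⟨_, ⟨i, rfl⟩, rfl⟩
        refine ⟨i, ?_⟩
        show γ i.val = σ ((γm i.val : H.comap σ) : Γ)
        rw [hγm i.val i.isLt, hγh i.val i.isLt]
      · rintro ⟨i, rfl⟩
        refine ⟨γm i.val, ⟨i, rfl⟩, ?_⟩
        show σ ((γm i.val : H.comap σ) : Γ) = γ i.val
        rw [hγm i.val i.isLt, hγh i.val i.isLt]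
    rw [himg]
    exact hHdef
  -- the relators hold inside the preimage
  have hrelM : ∀ r ∈ rels, ev γm r = 1 := by
    intro r hr
    apply Subtype.ext
    rw [hev r (hl r hr), hrels r hr]
    rfl
  calc Nat.card σ.ker * Nat.card H = Nat.card (H.comap σ) := hcardM.symm
    _ ≤ B := hB (H.comap σ) γm hrelM hgenM

end Cfsg.Agent.Lib.Helper20.Co3Mult
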