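import Cfsg.Agent.Lib.Helper28.Ord459648.Basic

/-!
# S1022 piece [P2c]: `four_dvd_card_inf_centralizer`

If `4 ∣ |C|` and `x ∈ C` is an involution then `4 ∣ |C ∩ C_G(x)|`.
-/

set_option autoImplicit false

namespace Cfsg.Agent.Lib.Helper28.Ord459648

namespace Helper9

/-- In a finite `p`-group of order divisible by `p ^ 2`, the centralizer of any element has
order divisible by `p ^ 2`. -/
theorem sq_dvd_card_centralizer_of_isPGroup {Q : Type*} [Group Q] [Finite Q] {p : ℕ}
    [hp : Fact p.Prime] (hQ : IsPGroup p Q) (h4 : p ^ 2 ∣ Nat.card Q) (y : Q) :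
    p ^ 2 ∣ Nat.card (Subgroup.centralizer ({y} : Set Q)) := by
  classical
  by_cases hy : y ∈ Subgroup.center Q
  · have htop : Subgroup.centralizer ({y} : Set Q) = ⊤ := by
      rw [eq_top_iff]
      intro g _
      rw [Subgroup.mem_centralizer_iff]
      intro h hh
      rw [Set.mem_singleton_iff] at hh
      subst hh
      exact (Subgroup.mem_center_iff.mp hy g).symm
    rw [htop, Subgroup.card_top]
    exact h4
  · have hnt : Nontrivial Q := by
      by_contra hcon
      rw [not_nontrivial_iff_subsingleton] at hcon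
      exact hy (by rw [Subsingleton.elim y 1]; exact one_mem _)
    have hcn : Nontrivial (Subgroup.center Q) := hQ.center_nontrivial
    have hle : Subgroup.center Q ≤ Subgroup.centralizer ({y} : Set Q) :=
      Subgroup.center_le_centralizer _
    have hymem : y ∈ Subgroup.centralizer ({y} : Set Q) := by
      rw [Subgroup.mem_centralizer_iff]
      intro h hh
      rw [Set.mem_singleton_iff] at hh
      subst hh
      rfl
    have hlt : Subgroup.center Q < Subgroup.centralizer ({y} : Set Q) := by
      refine lt_of_le_of_ne hle ?_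
      intro heq
      apply hy
      rw [heq]
      exact hymem
    obtain ⟨a, ha⟩ := (hQ.to_subgroup (Subgroup.center Q)).exists_card_eq
    obtain ⟨b, hb⟩ := (hQ.to_subgroup (Subgroup.centralizer ({y} : Set Q))).exists_card_eq
    have ha0 : a ≠ 0 := by
      intro h0
      rw [h0, pow_zero] at ha
      have : Subsingleton (Subgroup.center Q) := (Nat.card_eq_one_iff_unique.mp ha).1
      exact not_subsingleton _ this
    have hcardlt : Nat.card (Subgroup.center Q) <
        Nat.card (Subgroup.centralizer ({y} : Set Q)) := by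
      have hdvd := Subgroup.card_dvd_of_le hle
      have hle' := Nat.le_of_dvd Nat.card_pos hdvd
      refine lt_of_le_of_ne hle' ?_
      intro heq
      exact hlt.ne (Subgroup.eq_of_le_of_card_ge hle heq.ge)
    rw [ha, hb] at hcardlt
    have hab : a < b := (Nat.pow_lt_pow_iff_right hp.out.one_lt).mp hcardlt
    rw [hb]
    exact pow_dvd_pow p (by omega)

end Helper9

variable {G : Type*} [Group G] [Finite G]

/-- [P2c] -/
theorem four_dvd_card_inf_centralizer (C : Subgroup G) (hC : 4 ∣ Nat.card C) (x : G)
    (hxC : x ∈ C) (hx : orderOf x = 2) :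
    4 ∣ Nat.card ↥(C ⊓ Subgroup.centralizer {x}) := by
  classical
  -- the element of `C`
  set x' : C := ⟨x, hxC⟩ with hx'
  have hox' : orderOf x' = 2 := by
    rw [← hx, ← Subgroup.orderOf_coe x']
  -- `zpowers x'` is a 2-group
  have hz : IsPGroup 2 (Subgroup.zpowers x') := by
    refine IsPGroup.of_card (n := 1) ?_
    rw [Nat.card_zpowers, hox', pow_one]
  obtain ⟨Q, hQ⟩ := hz.exists_le_sylow
  have hx'Q : x' ∈ (Q : Subgroup C) := hQ (Subgroup.mem_zpowers x')
  -- the order of `Q`
  have hQcard : 2 ^ 2 ∣ Nat.card (Q : Subgroup C) := by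
    rw [Sylow.card_eq_multiplicity]
    refine pow_dvd_pow 2 ?_
    have h4 : 2 ^ 2 ∣ Nat.card C := by simpa using hC
    exact (Nat.Prime.pow_dvd_iff_le_factorization Nat.prime_two Nat.card_pos.ne').mp h4
  set y : (Q : Subgroup C) := ⟨x', hx'Q⟩ with hy
  have key := Helper9.sq_dvd_card_centralizer_of_isPGroup (p := 2) Q.isPGroup' hQcard y
  -- transfer to `G`
  let K : Subgroup G :=
    ((Subgroup.centralizer ({y} : Set (Q : Subgroup C))).map (Q : Subgroup C).subtype).map
      C.subtype
  have hKcard : Nat.card K = Nat.card (Subgroup.centralizer ({y} : Set (Q : Subgroup C))) := by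
    rw [Subgroup.card_map_of_injective (Subgroup.subtype_injective _),
      Subgroup.card_map_of_injective (Subgroup.subtype_injective _)]
  have hKle : K ≤ C ⊓ Subgroup.centralizer {x} := by
    intro g hg
    obtain ⟨c, hc, rfl⟩ := hg
    obtain ⟨q, hq, rfl⟩ := hc
    refine ⟨?_, ?_⟩
    · exact SetLike.coe_mem ((Q : Subgroup C).subtype q)
    · have hq' : q ∈ Subgroup.centralizer ({y} : Set (Q : Subgroup C)) := hq
      show C.subtype ((Q : Subgroup C).subtype q) ∈ Subgroup.centralizer {x}
      rw [Subgroup.mem_centralizer_iff] at hq' ⊢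
      intro h hh
      rw [Set.mem_singleton_iff] at hh
      subst hh
      have := hq' y rfl
      have h2 := congrArg (fun t : (Q : Subgroup C) => ((t : C) : G)) this
      simpa using h2
  have h1 : (2 : ℕ) ^ 2 ∣ Nat.card K := hKcard ▸ key
  have h2 := Subgroup.card_dvd_of_le hKle
  exact dvd_trans (by simpa using h1) h2

end Cfsg.Agent.Lib.Helper28.Ord459648
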