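import Cfsg.Agent.Lib.Helper28.Srg77.Psd

set_option autoImplicit false
set_option linter.unusedSectionVars false
set_option linter.unusedVariables false

/-! # S0429 piece [F] (helper9): the graph induced on `Tset L` is 6-regular

Direct double count (no PSD certificate needed): for `v ∈ Tset L` and `x ∈ L` the pair `v, x` has
4 common neighbours, so the 16 neighbours `s` of `v` (all off `L`) satisfy `∑ d(s) = 20` with
`d(s) ∈ {0, 2}`; hence exactly 10 of them have `d = 2` and 6 have `d = 0`, i.e. lie in `Tset L`. -/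

namespace Cfsg.Agent.Lib.Helper28.Srg77

open Finset Classical

variable {V : Type*} [Fintype V] {G : SimpleGraph V}

/-- [F] -/
theorem p6 (hG : M22Like G) (h4 : P4 G) (h5 : P5 G) : P6 G := by
  intro L hL v hv
  obtain ⟨a, b, hab, rfl⟩ := hL
  have hL : IsLine G (line G a b) := ⟨a, b, hab, rfl⟩
  have hL5 : (line G a b).card = 5 := h4.card_line a b hab
  obtain ⟨hvL, hvadj⟩ := mem_Tset.1 hv
  set L := line G a b with hLdef
  set N := univ.filter (fun c => G.Adj v c) with hN
  have hN16 : N.card = 16 := hG.deg v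
  -- neighbours of `v` are off `L`
  have hNL : ∀ s ∈ N, s ∉ L := by
    intro s hs hsL
    exact hvadj s hsL (mem_filter.1 hs).2
  have hd : ∀ s ∈ N, (L.filter (fun x => G.Adj s x)).card = 0 ∨
      (L.filter (fun x => G.Adj s x)).card = 2 :=
    fun s hs => h5.nb_line L hL s (hNL s hs)
  -- the double count
  have hsum : ∑ s ∈ N, (L.filter (fun x => G.Adj s x)).card = 20 := by
    have h1 : ∀ s ∈ N, (L.filter (fun x => G.Adj s x)).card
        = ∑ x ∈ L, (if G.Adj s x then 1 else 0) := by
      intro s _
      rw [Finset.sum_boole]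
      simp
    rw [Finset.sum_congr rfl h1, Finset.sum_comm]
    have h2 : ∀ x ∈ L, ∑ s ∈ N, (if G.Adj s x then 1 else 0) = 4 := by
      intro x hx
      rw [Finset.sum_boole]
      have hne : v ≠ x := fun h => hvL (h ▸ hx)
      have := hG.mu v x hne (hvadj x hx)
      simp only [Nat.cast_id]
      rw [← this]
      congr 1
      ext s
      simp only [hN, mem_filter, mem_univ, true_and]
      exact ⟨fun h => ⟨h.1, h.2.symm⟩, fun h => ⟨h.1, h.2.symm⟩⟩
    rw [Finset.sum_congr rfl h2]
    simp [hL5]
  -- split the neighbours by `d`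
  have hsplit := Finset.card_filter_add_card_filter_not (s := N)
    (fun s => (L.filter (fun x => G.Adj s x)).card = 0)
  have hsum2 : ∑ s ∈ N, (L.filter (fun x => G.Adj s x)).card
      = 2 * (N.filter (fun s => ¬ (L.filter (fun x => G.Adj s x)).card = 0)).card := by
    rw [Finset.card_filter, Finset.mul_sum]
    refine Finset.sum_congr rfl fun s hs => ?_
    rcases hd s hs with h | h
    · simp [h]
    · simp [h]
  have h6 : (N.filter (fun s => (L.filter (fun x => G.Adj s x)).card = 0)).card = 6 := by
    omega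
  rw [← h6]
  congr 1
  ext s
  simp only [mem_filter, mem_Tset, hN, mem_univ, true_and, card_eq_zero, filter_eq_empty_iff]
  constructor
  · rintro ⟨⟨_, h⟩, hvs⟩
    exact ⟨hvs, fun x hx => h x hx⟩
  · rintro ⟨hvs, h⟩
    exact ⟨⟨hNL s (mem_filter.2 ⟨mem_univ _, hvs⟩), fun x hx => h x hx⟩, hvs⟩

end Cfsg.Agent.Lib.Helper28.Srg77
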