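import Mathlib
import Cfsg.Agent.Lib.Helper29.Law.Defs

/-! # S2355 leaf [E2] (helper9): degree bound + root counting -/

set_option autoImplicit false

namespace Cfsg.Agent.Lib.Helper29.Law

open Matrix

/-- the word evaluated at the generators over `F[X]` is the image of the one over `ℤ[X]` -/
theorem Helper9.lift_gen_polynomial (F : Type*) [Field F] (w : FreeGroup ℕ) :
    FreeGroup.lift (fun i => gen (Polynomial F) Polynomial.X i) w
      = SpecialLinearGroup.map (Polynomial.mapRingHom (Int.castRingHom F))
          (FreeGroup.lift (fun i => gen (Polynomial ℤ) Polynomial.X i) w) := by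
  rw [← lift_comp]
  congr 2
  funext i
  rw [gen_map]
  simp

/-- the word evaluated at the generators over `F` at `τ` is the evaluation of the one over `F[X]` -/
theorem Helper9.lift_gen_eval (F : Type*) [Field F] (τ : F) (w : FreeGroup ℕ) :
    FreeGroup.lift (fun i => gen F τ i) w
      = SpecialLinearGroup.map (Polynomial.evalRingHom τ)
          (FreeGroup.lift (fun i => gen (Polynomial F) Polynomial.X i) w) := by
  rw [← lift_comp]
  congr 2
  funext i
  rw [gen_map]
  simp

/-- [E2] degree bound + root counting: specialise `X ↦ τ`. -/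
theorem slBound_of_offDiag (w : FreeGroup ℕ)
    (h : ∀ (F : Type) [Field F], ∃ a b : Fin 2, a ≠ b ∧
      (FreeGroup.lift (fun i => gen (Polynomial F) Polynomial.X i) w :
        Matrix (Fin 2) (Fin 2) (Polynomial F)) a b ≠ 0) :
    ∃ D : ℕ, SLBound w D := by
  classical
  refine ⟨∑ a : Fin 2, ∑ b : Fin 2,
    ((FreeGroup.lift (fun i => gen (Polynomial ℤ) Polynomial.X i) w :
      Matrix (Fin 2) (Fin 2) (Polynomial ℤ)) a b).natDegree, ?_⟩
  intro F _ T hT
  obtain ⟨a, b, hab, hne⟩ := h F
  set p : Polynomial F := (FreeGroup.lift (fun i => gen (Polynomial F) Polynomial.X i) w :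
        Matrix (Fin 2) (Fin 2) (Polynomial F)) a b with hp
  -- degree bound
  have hdeg : p.natDegree ≤ ∑ a : Fin 2, ∑ b : Fin 2,
      ((FreeGroup.lift (fun i => gen (Polynomial ℤ) Polynomial.X i) w :
        Matrix (Fin 2) (Fin 2) (Polynomial ℤ)) a b).natDegree := by
    have h1 : p = ((FreeGroup.lift (fun i => gen (Polynomial ℤ) Polynomial.X i) w :
        Matrix (Fin 2) (Fin 2) (Polynomial ℤ)) a b).map (Int.castRingHom F) := by
      rw [hp, Helper9.lift_gen_polynomial F w, Matrix.SpecialLinearGroup.map_apply_coe,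
        RingHom.mapMatrix_apply, Matrix.map_apply]
      rfl
    rw [h1]
    refine le_trans (Polynomial.natDegree_map_le) ?_
    refine le_trans ?_ (Finset.single_le_sum (f := fun a : Fin 2 => ∑ b : Fin 2,
      ((FreeGroup.lift (fun i => gen (Polynomial ℤ) Polynomial.X i) w :
        Matrix (Fin 2) (Fin 2) (Polynomial ℤ)) a b).natDegree) (fun _ _ => Nat.zero_le _)
      (Finset.mem_univ a))
    exact Finset.single_le_sum (f := fun b : Fin 2 =>
      ((FreeGroup.lift (fun i => gen (Polynomial ℤ) Polynomial.X i) w :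
        Matrix (Fin 2) (Fin 2) (Polynomial ℤ)) a b).natDegree) (fun _ _ => Nat.zero_le _)
      (Finset.mem_univ b)
  -- some `τ ∈ T` is not a root
  have hex : ∃ τ ∈ T, ¬ p.IsRoot τ := by
    by_contra hcon
    push Not at hcon
    have hsub : T.val ⊆ p.roots := by
      intro τ hτ
      exact (Polynomial.mem_roots hne).2 (hcon τ hτ)
    have := Polynomial.card_le_degree_of_subset_roots hsub
    omega
  obtain ⟨τ, hτT, hτ⟩ := hex
  refine ⟨τ, hτT, a, b, hab, ?_⟩
  rw [Helper9.lift_gen_eval F τ w, Matrix.SpecialLinearGroup.map_apply_coe,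
    RingHom.mapMatrix_apply, Matrix.map_apply]
  exact hτ

end Cfsg.Agent.Lib.Helper29.Law
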