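import Cfsg.Agent.Lib.Helper9.StCCBBTSmall
import Cfsg.Agent.Lib.Helper9.StCCBBTE6
import Cfsg.Agent.Lib.Helper22.StCCBBTE78

set_option autoImplicit false

/-! Steinberg's Theorem 10, PART B, piece [BT]: every admissible ordered pair of roots of the
seven types has one of the seven shapes (`G2, B2, D4, F4, E6`: helper9; `E7, E8`: helper22). -/

namespace Cfsg.Agent.Lib.Helper14.StCC.B

open Cfsg.Lie Cfsg.Agent.Lib.Helper8.Chev

variable {D : ChevalleyDatum}

/-- [BT] shapes of the commutator formulas (tables, `decide` per type) -/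
theorem shapeP_of_mem (hD : D ∈ [chevG2, chevB2, chevD4, chevF4, chevE6, chevE7, chevE8])
    {r s : ℕ} (hr : r < D.nroots) (hs : s < D.nroots) (h1 : s ≠ r) (h2 : s ≠ D.neg r) :
    ShapeP D r s := by
  simp only [List.mem_cons, List.not_mem_nil, or_false] at hD
  rcases hD with rfl | rfl | rfl | rfl | rfl | rfl | rfl
  · exact shapeP_G2 hr hs h1 h2
  · exact shapeP_B2 hr hs h1 h2
  · exact shapeP_D4 hr hs h1 h2
  · exact shapeP_F4 hr hs h1 h2
  · exact shapeP_E6 hr hs h1 h2
  · exact Helper22.shapeP_E7 hr hs h1 h2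
  · exact Helper22.shapeP_E8 hr hs h1 h2

end Cfsg.Agent.Lib.Helper14.StCC.B
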