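import Cfsg.Agent.Lib.Helper6.Fi22M.Defs
import Cfsg.Agent.Lib.Helper23.U62MCLA
import Cfsg.Agent.Lib.Helper9.Fi22MCLCCore

/-!
# S2053 piece [CL-C] (helper9 for helper6), with the statement of the certificates as a hypothesis

From the certificates and the abstract lemma [CL-A] of helper23 (generic): every central extension of
`P = Fi22` has lifts of the nine generators satisfying the 81 Coxeter relator words exactly.
-/

set_option autoImplicit false
set_option maxRecDepth 100000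
set_option linter.unusedVariables false
set_option linter.constructorNameAsVariable false

namespace Cfsg.Agent.Lib.Helper6.Fi22M

open Cfsg Cfsg.Agent.Helper4.TC

namespace Helper9

/-- the statement of the certificates (base involution `a`) -/
def CertMain : Prop :=
  ∃ (x y : P) (gw : Gen → P),
    x ∈ Cfsg.Agent.Lib.Helper7.U62M.oddCent (PresentedGroup.of (rels := RP) .a) ∧
    x * y * x⁻¹ * y⁻¹ = PresentedGroup.of .a ∧ x * x = 1 ∧
    (∀ i, gw i * PresentedGroup.of .a * (gw i)⁻¹ = PresentedGroup.of i) ∧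
    (∀ p ∈ cPairs, (gw p.2)⁻¹ * PresentedGroup.of p.1 * gw p.2 ∈
      Cfsg.Agent.Lib.Helper7.U62M.oddCent (PresentedGroup.of (rels := RP) .a)) ∧
    (∀ p ∈ ePairs, (gw p.2)⁻¹ * PresentedGroup.of p.1 * PresentedGroup.of p.2 * gw p.1 ∈
      Cfsg.Agent.Lib.Helper7.U62M.oddCent (PresentedGroup.of (rels := RP) .a))

theorem a_sq : (PresentedGroup.of (rels := RP) Cfsg.Spor.Fi22.Gen.a) * PresentedGroup.of Cfsg.Spor.Fi22.Gen.a = 1 := by
  have hmem : [enc Cfsg.Spor.Fi22.Gen.a, enc Cfsg.Spor.Fi22.Gen.a] ∈ coxL ++ centL := by decide +kernel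
  have h := evc_of_eq_one [enc Cfsg.Spor.Fi22.Gen.a, enc Cfsg.Spor.Fi22.Gen.a] hmem
  rw [evc_two] at h
  exact h

theorem exists_lifts_of (hB : CertMain) {Γ : Type*} [Group Γ] (σ : Γ →* P)
    (hs : Function.Surjective σ) (hk : σ.ker ≤ Subgroup.center Γ) :
    ∃ g : Gen → Γ, (∀ x, σ (g x) = PresentedGroup.of x) ∧ ∀ b ∈ coxL, evc g dec b = 1 := by
  obtain ⟨x, y, gw, hx, hxy, hxx, hgw, hc, he⟩ := hB
  obtain ⟨g, hg1, hg2, hg3, hg4⟩ := Cfsg.Agent.Lib.Helper7.U62M.exists_coxeter_lifts σ hs hk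
    (PresentedGroup.of (rels := RP) Cfsg.Spor.Fi22.Gen.a)
    a_sq x y hx hxy hxx (fun i : Gen => (PresentedGroup.of (rels := RP) i)) gw hgw
  refine ⟨g, hg1, cox_of_relations g hg2 ?_ ?_⟩
  · intro p hp
    exact hg3 p.1 p.2 (hc p hp)
  · intro p hp
    exact hg4 p.1 p.2 (he p hp)

end Helper9

end Cfsg.Agent.Lib.Helper6.Fi22M
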