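import Cfsg.Agent.Lib.Helper6.Fi22M.CLB
import Cfsg.Agent.Lib.Helper9.Fi22MCLCGen

/-!
# S2053 piece [CL-C] (helper9 for helper6): exact statement of the skeleton

Every central extension of `P = Fi22` has lifts of the nine generators satisfying the 81 Coxeter relator words
exactly: the generic form of `Fi22MCLCGen` applied to the certificates `cert_main` of [CL-B].
-/

set_option autoImplicit false
set_option maxRecDepth 100000
set_option linter.unusedVariables false

namespace Cfsg.Agent.Lib.Helper6.Fi22M

open Cfsg Cfsg.Agent.Helper4.TC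

/-- **[CL-C]** -/
theorem exists_lifts {Γ : Type*} [Group Γ] (σ : Γ →* P) (hs : Function.Surjective σ)
    (hk : σ.ker ≤ Subgroup.center Γ) :
    ∃ g : Gen → Γ, (∀ x, σ (g x) = PresentedGroup.of x) ∧ ∀ b ∈ coxL, evc g dec b = 1 :=
  Helper9.exists_lifts_of cert_main σ hs hk

end Cfsg.Agent.Lib.Helper6.Fi22M
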