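import Cfsg.Agent.Lib.Helper6.Fi22M.Defs

/-!
# S2053-[EX-card] and [EX-perf] (helper6's `Fi22` multiplier front)  (helper9; port of helper18's `U62MEXC`)

`PW1` is a quotient of the weak group `PW` in which the word `rho2` (of odd length) dies, so
`2 |PW1| ≤ |PW|`; and `PW1` is perfect: its generators are involutions, adjacent ones have a product of order
`3`, the diagram is connected, and `rho2` has odd length.  The statements of [TC] (`card_PW`) and [PAR]
(`exists_parity`) of `notes/S2053_Skel_helper6.lean.txt` enter as hypotheses.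
-/

set_option autoImplicit false
set_option maxRecDepth 100000
set_option linter.unusedVariables false

namespace Cfsg.Agent.Lib.Helper6.Fi22M

open Cfsg Cfsg.Agent.Helper4.TC

namespace Helper9X

/-- the code word of a generator -/
def gwd (k : Gen) : List ℕ := [enc k]

theorem evc_gwd {Q : Type*} [Group Q] (f : Gen → Q) (k : Gen) : evc f dec (gwd k) = f k := by
  unfold gwd
  rw [evc_cons, evc_nil, one_mul]
  have h : dec (enc k) = (k, true) := Fi22U62.coding.dec_enc k
  rw [h]
  rfl

theorem gwd_mem (k : Gen) : gwd k ∈ gensL := by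
  cases k <;> decide

theorem comm_word_mem (k : Gen) (ρ : List ℕ) (L : List (List ℕ)) (hρ : ρ ∈ L) :
    invW (gwd k) ++ invW ρ ++ gwd k ++ ρ ∈ Schur.weakify0 gensL L := by
  unfold Schur.weakify0
  exact List.mem_flatMap.mpr ⟨ρ, hρ, List.mem_map.mpr ⟨gwd k, gwd_mem k, rfl⟩⟩

/-- a commutator word which is trivial: the two elements commute -/
theorem commute_of_comm_word {Q : Type*} [Group Q] (f : Gen → Q) (x ρ : List ℕ)
    (h : evc f dec (invW x ++ invW ρ ++ x ++ ρ) = 1) :
    evc f dec ρ * evc f dec x = evc f dec x * evc f dec ρ := by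
  rw [evc_append, evc_append, evc_append, evc_invW f Fi22U62.coding,
    evc_invW f Fi22U62.coding] at h
  have h2 : evc f dec ρ * evc f dec x * (evc f dec ρ)⁻¹ * (evc f dec x)⁻¹ = 1 := by
    rw [← h]
    group
  calc evc f dec ρ * evc f dec x
      = (evc f dec ρ * evc f dec x * (evc f dec ρ)⁻¹ * (evc f dec x)⁻¹) *
          (evc f dec x * evc f dec ρ) := by group
    _ = evc f dec x * evc f dec ρ := by rw [h2, one_mul]

/-- the relators of `PW1` hold in `PW1` -/
theorem relW1_one (b : List ℕ) (hb : b ∈ relW1) :
    evc (PresentedGroup.of (rels := RW1)) dec b = 1 := by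
  rw [evc_of]
  exact PresentedGroup.one_of_mem (mem_relSet relW1 b hb)

/-- an element commuting with the generators is central -/
theorem center_of_comm_W1 (g : PW1)
    (hg : ∀ k, g * PresentedGroup.of k = PresentedGroup.of k * g) :
    g ∈ Subgroup.center PW1 := by
  have h : (⊤ : Subgroup PW1) ≤ Subgroup.centralizer {g} := by
    rw [← PresentedGroup.closure_range_of RW1, Subgroup.closure_le]
    rintro _ ⟨k, rfl⟩
    rw [SetLike.mem_coe, Subgroup.mem_centralizer_iff]
    intro h hh
    rw [Set.mem_singleton_iff.mp hh]
    exact hg k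
  rw [Subgroup.mem_center_iff]
  intro x
  have hx := Subgroup.mem_centralizer_iff.mp (h (Subgroup.mem_top x)) g (Set.mem_singleton _)
  exact hx.symm

theorem rho_center (ρ : List ℕ) (hρ : ρ ∈ [rho1, rho3]) :
    evc (PresentedGroup.of (rels := RW1)) dec ρ ∈ Subgroup.center PW1 := by
  apply center_of_comm_W1
  intro k
  have h := commute_of_comm_word (PresentedGroup.of (rels := RW1)) (gwd k) ρ
    (relW1_one _ (List.mem_append_right _ (comm_word_mem k ρ _ hρ)))
  rw [evc_gwd] at h
  exact h

/-- the quotient map from the weak group -/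
theorem exists_q : ∃ q : PW →* PW1, ∀ x, q (PresentedGroup.of x) = PresentedGroup.of x := by
  refine Schur.exists_hom_weak0 Fi22U62.coding (Subgroup.center PW1) le_rfl
    (PresentedGroup.of (rels := RW1)) coxL centL gensL ?_ ?_
  · intro b hb
    exact relW1_one b (List.mem_append_left _ (List.mem_append_left _ hb))
  · intro ρ hρ
    have hρ' : ρ = rho1 ∨ ρ = rho2 ∨ ρ = rho3 := by
      simpa [centL] using hρ
    rcases hρ' with rfl | rfl | rfl
    · exact rho_center rho1 (by simp)
    · rw [relW1_one rho2 (List.mem_append_left _ (List.mem_append_right _ (by simp)))]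
      exact Subgroup.one_mem _
    · exact rho_center rho3 (by simp)

/-- the value of a word under a constant assignment of an involution -/
theorem evc_const {Q : Type*} [Group Q] (a : Q) (ha : a * a = 1) (w : List ℕ) :
    evc (fun _ : Gen => a) dec w = a ^ w.length := by
  induction w with
  | nil => rw [evc_nil, List.length_nil, pow_zero]
  | cons c u ih =>
    rw [evc_cons, ih, List.length_cons, pow_succ]
    congr 1
    unfold gl
    split
    · rfl
    · exact (eq_inv_of_mul_eq_one_left ha).symm

theorem length_rho2 : rho2.length = 63 := by decide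

end Helper9X

open Helper9X in
/-- **[EX-card]** from the statements of [TC] and [PAR] -/
theorem card_PW1_of
    (hTC : Finite PW ∧ Nat.card PW ≤ 12 * 64561751654400)
    (hPar : ∃ χ : PW →* Multiplicative (ZMod 2),
      ∀ x, χ (PresentedGroup.of x) = Multiplicative.ofAdd 1) :
    Finite PW1 ∧ Nat.card PW1 ≤ 6 * 64561751654400 := by
  haveI : Finite PW := hTC.1
  obtain ⟨q, hq⟩ := exists_q
  obtain ⟨χ, hχ⟩ := hPar
  have hsurj : Function.Surjective q := by
    rw [← MonoidHom.range_eq_top, eq_top_iff, ← PresentedGroup.closure_range_of RW1,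
      Subgroup.closure_le]
    rintro _ ⟨k, rfl⟩
    exact ⟨PresentedGroup.of k, hq k⟩
  haveI : Finite PW1 := Finite.of_surjective q hsurj
  refine ⟨inferInstance, ?_⟩
  -- `rho2` is a nontrivial element of the kernel
  set k4 : PW := evc (PresentedGroup.of (rels := RW)) dec rho2 with hk4
  have hk4ker : k4 ∈ q.ker := by
    rw [MonoidHom.mem_ker, hk4, Schur.map_evc]
    have : (fun x => q (PresentedGroup.of (rels := RW) x)) = PresentedGroup.of (rels := RW1) :=
      funext hq
    rw [this]
    exact relW1_one rho2 (List.mem_append_left _ (List.mem_append_right _ (by simp)))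
  have hk4ne : k4 ≠ 1 := by
    intro h1
    have h2 : χ k4 = 1 := by rw [h1, map_one]
    rw [hk4, Schur.map_evc] at h2
    have : (fun x => χ (PresentedGroup.of (rels := RW) x)) =
        fun _ : Gen => (Multiplicative.ofAdd 1 : Multiplicative (ZMod 2)) := funext hχ
    rw [this, evc_const _ (by decide), length_rho2] at h2
    exact absurd h2 (by decide)
  have hker2 : 2 ≤ Nat.card q.ker := by
    by_contra hlt
    push Not at hlt
    have hpos : 0 < Nat.card q.ker := Nat.card_pos
    have h1 : Nat.card q.ker = 1 := by omega
    have hbot : q.ker = ⊥ := Subgroup.card_eq_one.mp h1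
    rw [hbot, Subgroup.mem_bot] at hk4ker
    exact hk4ne hk4ker
  have hc1 : Nat.card PW = Nat.card q.ker * Nat.card PW1 := by
    rw [← Subgroup.card_mul_index q.ker, Subgroup.index_ker,
      MonoidHom.range_eq_top.mpr hsurj, Subgroup.card_top]
  have h12 := hTC.2
  rw [hc1] at h12
  have h2 : 2 * Nat.card PW1 ≤ 12 * 64561751654400 := (Nat.mul_le_mul_right _ hker2).trans h12
  omega

namespace Helper9X

/-- three times two commuting involutions -/
theorem eq_of_braid {Q : Type*} [CommGroup Q] (a b : Q) (ha : a * a = 1) (hb : b * b = 1)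
    (h : a * b * a * b * a * b = 1) : a = b := by
  have h1 : a * b * a * b * a * b = (a * a) * (b * b) * (a * b) := by ac_rfl
  rw [h1, ha, hb, one_mul, one_mul] at h
  exact (mul_eq_one_iff_eq_inv.mp h).trans (inv_eq_of_mul_eq_one_left hb)

/-- the value of a square word -/
theorem evc_sq {Q : Type*} [Group Q] (f : Gen → Q) (k : Gen) :
    evc f dec [enc k, enc k] = f k * f k := by
  have h : dec (enc k) = (k, true) := Fi22U62.coding.dec_enc k
  rw [evc_cons, evc_cons, evc_nil, one_mul, h]
  rfl

/-- the value of a braid word -/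
theorem evc_braid {Q : Type*} [Group Q] (f : Gen → Q) (k l : Gen) :
    evc f dec [enc l, enc k, enc l, enc k, enc l, enc k] = f k * f l * f k * f l * f k * f l := by
  have hk : dec (enc k) = (k, true) := Fi22U62.coding.dec_enc k
  have hl : dec (enc l) = (l, true) := Fi22U62.coding.dec_enc l
  rw [evc_cons, evc_cons, evc_cons, evc_cons, evc_cons, evc_cons, evc_nil, one_mul, hk, hl]
  rfl

theorem sq_mem (k : Gen) : [enc k, enc k] ∈ coxL := by
  cases k <;> decide +kernel

/-- the edges of the diagram (a tree), rooted at `a` -/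
theorem braid_mem : ∀ p ∈ ([(.a, .b), (.b, .c), (.c, .d), (.d, .e), (.d, .h), (.e, .f), (.f, .g), (.h, .i)] :
    List (Gen × Gen)), [enc p.2, enc p.1, enc p.2, enc p.1, enc p.2, enc p.1] ∈ coxL := by
  decide +kernel

end Helper9X

open Helper9X in
/-- **[EX-perf]** all generators are conjugate involutions and `rho2` has odd length -/
theorem perfect_PW1 : commutator PW1 = ⊤ := by
  -- the images of the generators in the abelianization
  let π : PW1 →* Abelianization PW1 := Abelianization.of
  let f : Gen → Abelianization PW1 := fun k => π (PresentedGroup.of k)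
  have hrel : ∀ b ∈ relW1, evc f dec b = 1 := by
    intro b hb
    have h := Schur.map_evc (dec := dec) π (PresentedGroup.of (rels := RW1)) b
    rw [relW1_one b hb, map_one] at h
    exact h.symm
  have hcox : ∀ b ∈ coxL, evc f dec b = 1 := fun b hb =>
    hrel b (List.mem_append_left _ (List.mem_append_left _ hb))
  have hsq : ∀ k, f k * f k = 1 := by
    intro k
    rw [← evc_sq]
    exact hcox _ (sq_mem k)
  have hbr : ∀ k l : Gen, [enc l, enc k, enc l, enc k, enc l, enc k] ∈ coxL → f k = f l := by
    intro k l h
    have h1 := hcox _ h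
    rw [evc_braid] at h1
    exact eq_of_braid _ _ (hsq k) (hsq l) h1
  have hab : f .a = f .b := hbr .a .b (braid_mem (.a, .b) (by simp))
  have hbc : f .b = f .c := hbr .b .c (braid_mem (.b, .c) (by simp))
  have hcd : f .c = f .d := hbr .c .d (braid_mem (.c, .d) (by simp))
  have hde : f .d = f .e := hbr .d .e (braid_mem (.d, .e) (by simp))
  have hdh : f .d = f .h := hbr .d .h (braid_mem (.d, .h) (by simp))
  have hef : f .e = f .f := hbr .e .f (braid_mem (.e, .f) (by simp))
  have hfg : f .f = f .g := hbr .f .g (braid_mem (.f, .g) (by simp))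
  have hhi : f .h = f .i := hbr .h .i (braid_mem (.h, .i) (by simp))
  have had : f .a = f .d := hab.trans (hbc.trans hcd)
  have hconst : f = fun _ => f .a := by
    funext k
    cases k
    · rfl
    · exact hab.symm
    · exact (hab.trans hbc).symm
    · exact had.symm
    · exact (had.trans hde).symm
    · exact (had.trans (hde.trans hef)).symm
    · exact (had.trans (hde.trans (hef.trans hfg))).symm
    · exact (had.trans hdh).symm
    · exact (had.trans (hdh.trans hhi)).symm
  -- `rho2` has odd length
  have h4 := hrel rho2 (List.mem_append_left _ (List.mem_append_right _ (by simp)))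
  rw [hconst, evc_const _ (hsq .a), length_rho2] at h4
  have hc1 : f .a = 1 := by
    have h62 : f .a ^ 63 = (f .a * f .a) ^ 31 * f .a := by
      rw [← pow_two, ← pow_mul, ← pow_succ]
    rw [h62, hsq, one_pow, one_mul] at h4
    exact h4
  have hall : ∀ k, f k = 1 := by
    intro k
    rw [hconst]
    exact hc1
  -- so the generators lie in the commutator subgroup
  rw [eq_top_iff, ← PresentedGroup.closure_range_of RW1, Subgroup.closure_le]
  rintro _ ⟨k, rfl⟩
  have hk : π (PresentedGroup.of k) = 1 := hall k
  rw [SetLike.mem_coe, ← Abelianization.ker_of PW1]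
  exact MonoidHom.mem_ker.mpr hk

end Cfsg.Agent.Lib.Helper6.Fi22M
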