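import Mathlib
import Cfsg.Prelude.Def_KGroupFacts
import Cfsg.Agent.Lib.Helper12.SchurMore
import Cfsg.Agent.Lib.Helper9.StemTwoGen

/-!
# S2036 piece D (helper9): transfer bounds on the kernel of a finite stem extension

If `p ^ 2 ∤ |G|` then `p ∤ |ker σ|` (cyclic Sylow subgroup), and if `p ^ 2 ∥ |G|` then
`p ^ 2 ∤ |ker σ|` (the Sylow subgroup is abelian on two generators, one of them of order dividing `p`).
-/

set_option autoImplicit false

namespace Cfsg.Agent.Lib.Helper6.M22Mult

open Cfsg
open scoped commutatorElement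

universe u

namespace Helper9

/-- a group of order `p ^ 2` is generated by two commuting elements, the first of order dividing `p` -/
theorem exists_two_gen {P : Type*} [Group P] [Finite P] (p : ℕ) [hp : Fact p.Prime]
    (hP : Nat.card P = p ^ 2) :
    ∃ a b : P, a * b = b * a ∧ a ^ p = 1 ∧ Subgroup.closure {a, b} = ⊤ := by
  have hcomm : ∀ a b : P, a * b = b * a :=
    fun a b => (IsPGroup.isMulCommutative_of_card_eq_prime_sq hP).is_comm.comm a b
  by_cases hcyc : IsCyclic P
  · obtain ⟨g, hg⟩ := hcyc.exists_generator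
    refine ⟨1, g, hcomm 1 g, one_pow p, ?_⟩
    rw [eq_top_iff]
    intro x _
    have h1 : Subgroup.zpowers g ≤ Subgroup.closure {1, g} := by
      rw [Subgroup.zpowers_le]
      exact Subgroup.subset_closure (by simp)
    exact h1 (hg x)
  · have hexp : ∀ x : P, x ^ p = 1 := by
      intro x
      have h1 : orderOf x ∣ p ^ 2 := by
        rw [← hP]
        exact orderOf_dvd_natCard x
      obtain ⟨j, hj, hjo⟩ := (Nat.dvd_prime_pow hp.out).mp h1
      have hj2 : j ≠ 2 := by
        intro h2
        apply hcyc
        apply isCyclic_of_orderOf_eq_card x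
        rw [hjo, h2, hP]
      have hj1 : j ≤ 1 := by omega
      have h3 : orderOf x ∣ p := by
        rw [hjo]
        calc p ^ j ∣ p ^ 1 := pow_dvd_pow p hj1
          _ = p := pow_one p
      exact orderOf_dvd_iff_pow_eq_one.mp h3
    have hnt : Nontrivial P := by
      rw [← Finite.one_lt_card_iff_nontrivial, hP]
      have := hp.out.two_le
      nlinarith
    obtain ⟨a, ha⟩ := exists_ne (1 : P)
    have hoa : orderOf a = p := orderOf_eq_prime (hexp a) ha
    have hca : Nat.card (Subgroup.zpowers a) = p := by rw [Nat.card_zpowers, hoa]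
    obtain ⟨b, hb⟩ : ∃ b : P, b ∉ Subgroup.zpowers a := by
      by_contra hall
      push Not at hall
      have htop : Subgroup.zpowers a = ⊤ := by
        rw [eq_top_iff]
        intro x _
        exact hall x
      rw [htop, Subgroup.card_top, hP] at hca
      have := hp.out.two_le
      nlinarith
    refine ⟨a, b, hcomm a b, hexp a, ?_⟩
    set K := Subgroup.closure ({a, b} : Set P) with hK
    have haK : Subgroup.zpowers a ≤ K := by
      rw [Subgroup.zpowers_le]
      exact Subgroup.subset_closure (by simp)
    have hbK : b ∈ K := Subgroup.subset_closure (by simp)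
    have hdvd : Nat.card K ∣ p ^ 2 := by
      rw [← hP]
      exact Subgroup.card_subgroup_dvd_card K
    obtain ⟨j, hj, hjK⟩ := (Nat.dvd_prime_pow hp.out).mp hdvd
    have hpK : p ∣ Nat.card K := by
      rw [← hca]
      exact Subgroup.card_dvd_of_le haK
    have hj0 : j ≠ 0 := by
      intro h0
      rw [hjK, h0, pow_zero] at hpK
      exact hp.out.one_lt.ne' (Nat.dvd_one.mp hpK)
    have hj1 : j ≠ 1 := by
      intro h1
      rw [h1, pow_one] at hjK
      have heq : Subgroup.zpowers a = K :=
        Subgroup.eq_of_le_of_card_ge haK (by rw [hjK, hca])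
      exact hb (heq ▸ hbK)
    have hj2 : j = 2 := by omega
    apply Subgroup.eq_top_of_card_eq
    rw [hjK, hj2, hP]

/-- one generator: if `⟨b⟩` has index prime to `p`, the kernel of a finite stem extension is a
`p'`-group -/
theorem not_dvd_card_ker_of_zpowers {Γ G : Type*} [Group Γ] [Group G] [Finite Γ] (σ : Γ →* G)
    (hσ : IsStemExtension σ) (p : ℕ) [hp : Fact p.Prime] (b : G)
    (hidx : ¬ p ∣ (Subgroup.closure {1, b}).index) : ¬ p ∣ Nat.card σ.ker := by
  intro hdvd
  obtain ⟨y, hy⟩ := hσ.1 b
  have hcen := hσ.2.1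
  set H := (Subgroup.closure {(1 : G), b}).comap σ with hH
  have hHidx : H.index = (Subgroup.closure {(1 : G), b}).index :=
    Subgroup.index_comap_of_surjective _ hσ.1
  have hpow : ∀ z ∈ σ.ker, z ^ H.index = 1 := by
    intro z hz
    obtain ⟨hzH, hzc⟩ := Cfsg.Agent.Lib.Helper12.Schur.pow_index_mem_commutator H (hcen hz)
      (hσ.2.2 hz)
    have hle : commutator H ≤ (Subgroup.zpowers ⁅(1 : Γ), y⁆).comap H.subtype := by
      rw [commutator_def, Subgroup.commutator_le]
      intro g _ h _
      rw [Subgroup.mem_comap]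
      exact Cfsg.Agent.Lib.Helper9.StemTwoGen.comm_mem_zpowers σ hcen 1 b
        (by rw [one_mul, mul_one]) 1 y (map_one σ) hy g.1 h.1 g.2 h.2
    have h1 := hle hzc
    rw [Subgroup.mem_comap] at h1
    have h2 : ⁅(1 : Γ), y⁆ = 1 := by
      rw [commutatorElement_def]
      group
    rw [h2, Subgroup.zpowers_one_eq_bot, Subgroup.mem_bot] at h1
    exact h1
  obtain ⟨z, hz⟩ := exists_prime_orderOf_dvd_card' p hdvd
  have hzo : orderOf ((z : σ.ker) : Γ) = p := by
    rw [Subgroup.orderOf_coe]
    exact hz
  have h3 : p ∣ H.index := by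
    rw [← hzo]
    exact orderOf_dvd_of_pow_eq_one (hpow _ z.2)
  rw [hHidx] at h3
  exact hidx h3

/-- the index of a Sylow subgroup is prime to `p` -/
theorem not_dvd_index_of_sylow_le {G : Type*} [Group G] [Finite G] (p : ℕ) [hp : Fact p.Prime]
    (P : Sylow p G) (K : Subgroup G) (hPK : (P : Subgroup G) ≤ K) : ¬ p ∣ K.index := by
  intro hdvd
  have h1 : K.index ∣ (P : Subgroup G).index := Subgroup.index_dvd_of_le hPK
  have h2 : p ∣ (P : Subgroup G).index := dvd_trans hdvd h1
  have h3 : Nat.card (P : Subgroup G) * (P : Subgroup G).index = Nat.card G :=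
    Subgroup.card_mul_index _
  have h4 : Nat.card (P : Subgroup G) = p ^ (Nat.card G).factorization p :=
    P.card_eq_multiplicity
  obtain ⟨k, hk⟩ : ∃ k, k = (Nat.card G).factorization p := ⟨_, rfl⟩
  rw [← hk] at h4
  have h5 : p ^ (k + 1) ∣ Nat.card G := by
    calc p ^ (k + 1) = p ^ k * p := pow_succ p k
      _ ∣ p ^ k * (P : Subgroup G).index := Nat.mul_dvd_mul_left _ h2
      _ = Nat.card G := by rw [← h4]; exact h3
  rw [hk] at h5
  exact Nat.pow_succ_factorization_not_dvd Nat.card_pos.ne' hp.out h5

end Helper9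

/-- D: if `p² ∤ |G|` the kernel is a `p'`-group (cyclic Sylow); if `p² ∥ |G|` then `p² ∤ |ker|`
(Sylow `p`-subgroup abelian on two generators, transfer `pow_index_mem_commutator`). -/
theorem factorization_ker_le {Γ G : Type u} [Group Γ] [Group G] [Finite Γ] [Finite G] (σ : Γ →* G)
    (hσ : IsStemExtension σ) (p : ℕ) [Fact p.Prime] :
    ((Nat.card G).factorization p ≤ 1 → (Nat.card σ.ker).factorization p = 0) ∧
    ((Nat.card G).factorization p = 2 → (Nat.card σ.ker).factorization p ≤ 1) := by
  have hp : p.Prime := Fact.out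
  let P : Sylow p G := default
  have hPcard : Nat.card (P : Subgroup G) = p ^ (Nat.card G).factorization p :=
    P.card_eq_multiplicity
  constructor
  · intro hle
    -- the Sylow subgroup is cyclic
    have hcyc : IsCyclic (P : Subgroup G) := by
      rcases Nat.le_one_iff_eq_zero_or_eq_one.mp hle with h0 | h1
      · rw [h0, pow_zero] at hPcard
        have : Subsingleton (P : Subgroup G) := (Nat.card_eq_one_iff_unique.mp hPcard).1
        exact isCyclic_of_subsingleton
      · rw [h1, pow_one] at hPcard
        exact isCyclic_of_prime_card hPcard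
    obtain ⟨g, hg⟩ := hcyc.exists_generator
    have hPle : (P : Subgroup G) ≤ Subgroup.closure {1, (g : G)} := by
      intro x hx
      have h1 := hg ⟨x, hx⟩
      obtain ⟨k, hk⟩ := Subgroup.mem_zpowers_iff.mp h1
      have h2 : (g : G) ^ k = x := by
        have := congrArg Subtype.val hk
        simpa using this
      rw [← h2]
      exact Subgroup.zpow_mem _ (Subgroup.subset_closure (by simp)) k
    have hnd := Helper9.not_dvd_card_ker_of_zpowers σ hσ p (g : G)
      (Helper9.not_dvd_index_of_sylow_le p P _ hPle)
    exact Nat.factorization_eq_zero_of_not_dvd hnd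
  · intro h2
    rw [h2] at hPcard
    obtain ⟨a, b, hab, ha, hcl⟩ := Helper9.exists_two_gen (P := (P : Subgroup G)) p hPcard
    have hPle : (P : Subgroup G) ≤ Subgroup.closure {(a : G), (b : G)} := by
      intro x hx
      have h1 : (⟨x, hx⟩ : (P : Subgroup G)) ∈ Subgroup.closure {a, b} := by
        rw [hcl]
        trivial
      have h3 : (P : Subgroup G).subtype ⟨x, hx⟩ ∈
          (Subgroup.closure {a, b}).map (P : Subgroup G).subtype :=
        Subgroup.mem_map_of_mem _ h1
      rw [MonoidHom.map_closure] at h3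
      have h4 : (P : Subgroup G).subtype '' {a, b} = {(a : G), (b : G)} := by
        rw [Set.image_pair]
        rfl
      rw [h4] at h3
      exact h3
    have hab' : (a : G) * (b : G) = (b : G) * (a : G) := by
      have := congrArg Subtype.val hab
      simpa using this
    have ha' : (a : G) ^ p = 1 := by
      have := congrArg Subtype.val ha
      simpa using this
    exact Cfsg.Agent.Lib.Helper9.StemTwoGen.factorization_card_ker_le_one σ hσ p (a : G) (b : G)
      hab' ha' (Helper9.not_dvd_index_of_sylow_le p P _ hPle)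

end Cfsg.Agent.Lib.Helper6.M22Mult
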