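import Mathlib
import Cfsg.Prelude.Def_KGroupFacts

/-!
# Fibre products of stem extensions (helper9, S2036 piece T1 for helper6)

If `σ₁ : Γ₁ →* G` and `σ₂ : Γ₂ →* G` are stem extensions with finite kernels of coprime orders, the
fibre product `{(a, b) | σ₁ a = σ₂ b}` is a stem extension of `G` with kernel `ker σ₁ × ker σ₂`.
In particular cyclic kernels of coprime orders `a`, `b` give a cyclic kernel of order `a * b`.
(No perfectness hypothesis on `G` is needed.)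
-/

set_option autoImplicit false

namespace Cfsg.Agent.Lib.Helper9.FibreStem

universe u

variable {G Γ1 Γ2 : Type u} [Group G] [Group Γ1] [Group Γ2]

/-- the fibre product of two homomorphisms to `G` -/
def fib (σ1 : Γ1 →* G) (σ2 : Γ2 →* G) : Subgroup (Γ1 × Γ2) where
  carrier := {p | σ1 p.1 = σ2 p.2}
  one_mem' := by simp
  mul_mem' := by
    intro p q hp hq
    have hp' : σ1 p.1 = σ2 p.2 := hp
    have hq' : σ1 q.1 = σ2 q.2 := hq
    show σ1 (p * q).1 = σ2 (p * q).2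
    simp only [Prod.fst_mul, Prod.snd_mul, map_mul, hp', hq']
  inv_mem' := by
    intro p hp
    have hp' : σ1 p.1 = σ2 p.2 := hp
    show σ1 (p⁻¹).1 = σ2 (p⁻¹).2
    simp only [Prod.fst_inv, Prod.snd_inv, map_inv, hp']

theorem mem_fib {σ1 : Γ1 →* G} {σ2 : Γ2 →* G} {p : Γ1 × Γ2} :
    p ∈ fib σ1 σ2 ↔ σ1 p.1 = σ2 p.2 := Iff.rfl

/-- the two projections of the fibre product -/
def pr1 (σ1 : Γ1 →* G) (σ2 : Γ2 →* G) : fib σ1 σ2 →* Γ1 :=
  (MonoidHom.fst Γ1 Γ2).comp (fib σ1 σ2).subtype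

def pr2 (σ1 : Γ1 →* G) (σ2 : Γ2 →* G) : fib σ1 σ2 →* Γ2 :=
  (MonoidHom.snd Γ1 Γ2).comp (fib σ1 σ2).subtype

/-- the structure map of the fibre product -/
def fibHom (σ1 : Γ1 →* G) (σ2 : Γ2 →* G) : fib σ1 σ2 →* G := σ1.comp (pr1 σ1 σ2)

theorem fibHom_apply (σ1 : Γ1 →* G) (σ2 : Γ2 →* G) (w : fib σ1 σ2) :
    fibHom σ1 σ2 w = σ1 w.1.1 := rfl

theorem fibHom_apply' (σ1 : Γ1 →* G) (σ2 : Γ2 →* G) (w : fib σ1 σ2) :
    fibHom σ1 σ2 w = σ2 w.1.2 := by
  rw [fibHom_apply]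
  exact w.2

theorem pr1_surjective (σ1 : Γ1 →* G) (σ2 : Γ2 →* G) (h2 : Function.Surjective σ2) :
    Function.Surjective (pr1 σ1 σ2) := by
  intro a
  obtain ⟨b, hb⟩ := h2 (σ1 a)
  exact ⟨⟨(a, b), hb.symm⟩, rfl⟩

theorem pr2_surjective (σ1 : Γ1 →* G) (σ2 : Γ2 →* G) (h1 : Function.Surjective σ1) :
    Function.Surjective (pr2 σ1 σ2) := by
  intro b
  obtain ⟨a, ha⟩ := h1 (σ2 b)
  exact ⟨⟨(a, b), ha⟩, rfl⟩

theorem fibHom_surjective (σ1 : Γ1 →* G) (σ2 : Γ2 →* G) (h1 : Function.Surjective σ1)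
    (h2 : Function.Surjective σ2) : Function.Surjective (fibHom σ1 σ2) := by
  intro g
  obtain ⟨a, ha⟩ := h1 g
  obtain ⟨b, hb⟩ := h2 g
  exact ⟨⟨(a, b), by rw [mem_fib]; exact ha.trans hb.symm⟩, ha⟩

theorem mem_ker_fibHom {σ1 : Γ1 →* G} {σ2 : Γ2 →* G} {w : fib σ1 σ2} :
    w ∈ (fibHom σ1 σ2).ker ↔ w.1.1 ∈ σ1.ker ∧ w.1.2 ∈ σ2.ker := by
  rw [MonoidHom.mem_ker, MonoidHom.mem_ker, MonoidHom.mem_ker]
  constructor
  · intro h
    exact ⟨h, by rw [← fibHom_apply']; exact h⟩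
  · intro h
    exact h.1

theorem ker_le_center (σ1 : Γ1 →* G) (σ2 : Γ2 →* G) (h1 : σ1.ker ≤ Subgroup.center Γ1)
    (h2 : σ2.ker ≤ Subgroup.center Γ2) : (fibHom σ1 σ2).ker ≤ Subgroup.center (fib σ1 σ2) := by
  intro w hw
  rw [mem_ker_fibHom] at hw
  rw [Subgroup.mem_center_iff]
  intro v
  apply Subtype.ext
  apply Prod.ext
  · exact Subgroup.mem_center_iff.mp (h1 hw.1) v.1.1
  · exact Subgroup.mem_center_iff.mp (h2 hw.2) v.1.2

theorem commutator_map_of_surjective {A B : Type*} [Group A] [Group B] (f : A →* B)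
    (hf : Function.Surjective f) : (commutator A).map f = commutator B := by
  rw [commutator_def, commutator_def, Subgroup.map_commutator,
    Subgroup.map_top_of_surjective f hf]

/-- elements `(z, 1)` with `z` in the first kernel are commutators of the fibre product -/
theorem left_mem_commutator [Finite Γ1] [Finite Γ2] (σ1 : Γ1 →* G) (σ2 : Γ2 →* G)
    (h2s : Function.Surjective σ2) (h1c : σ1.ker ≤ commutator Γ1)
    (hc : (Nat.card σ1.ker).Coprime (Nat.card σ2.ker)) (z : Γ1) (hz : z ∈ σ1.ker) :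
    ∃ w : fib σ1 σ2, w ∈ commutator (fib σ1 σ2) ∧ w.1 = (z, 1) := by
  -- write `z = y ^ m`
  obtain ⟨y, hy⟩ := (powCoprime hc).surjective ⟨z, hz⟩
  have hy' : (y : Γ1) ^ Nat.card σ2.ker = z := by
    have := congrArg Subtype.val hy
    simpa using this
  -- lift `y` to a commutator of the fibre product
  have hyc : (y : Γ1) ∈ (commutator (fib σ1 σ2)).map (pr1 σ1 σ2) := by
    rw [commutator_map_of_surjective _ (pr1_surjective σ1 σ2 h2s)]
    exact h1c y.2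
  obtain ⟨v, hv, hvy⟩ := hyc
  have hv2 : v.1.2 ∈ σ2.ker := by
    rw [MonoidHom.mem_ker, ← fibHom_apply', fibHom_apply]
    have : v.1.1 = (y : Γ1) := hvy
    rw [this]
    exact y.2
  refine ⟨v ^ Nat.card σ2.ker, Subgroup.pow_mem _ hv _, ?_⟩
  apply Prod.ext
  · show (v ^ Nat.card σ2.ker).1.1 = z
    rw [← hy']
    have : v.1.1 = (y : Γ1) := hvy
    rw [← this]
    rfl
  · show (v ^ Nat.card σ2.ker).1.2 = 1
    have h := pow_card_eq_one' (G := σ2.ker) (x := ⟨v.1.2, hv2⟩)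
    have := congrArg Subtype.val h
    simpa using this

/-- elements `(1, z)` with `z` in the second kernel are commutators of the fibre product -/
theorem right_mem_commutator [Finite Γ1] [Finite Γ2] (σ1 : Γ1 →* G) (σ2 : Γ2 →* G)
    (h1s : Function.Surjective σ1) (h2c : σ2.ker ≤ commutator Γ2)
    (hc : (Nat.card σ1.ker).Coprime (Nat.card σ2.ker)) (z : Γ2) (hz : z ∈ σ2.ker) :
    ∃ w : fib σ1 σ2, w ∈ commutator (fib σ1 σ2) ∧ w.1 = (1, z) := by
  obtain ⟨y, hy⟩ := (powCoprime hc.symm).surjective ⟨z, hz⟩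
  have hy' : (y : Γ2) ^ Nat.card σ1.ker = z := by
    have := congrArg Subtype.val hy
    simpa using this
  have hyc : (y : Γ2) ∈ (commutator (fib σ1 σ2)).map (pr2 σ1 σ2) := by
    rw [commutator_map_of_surjective _ (pr2_surjective σ1 σ2 h1s)]
    exact h2c y.2
  obtain ⟨v, hv, hvy⟩ := hyc
  have hv1 : v.1.1 ∈ σ1.ker := by
    rw [MonoidHom.mem_ker, ← fibHom_apply, fibHom_apply']
    have : v.1.2 = (y : Γ2) := hvy
    rw [this]
    exact y.2
  refine ⟨v ^ Nat.card σ1.ker, Subgroup.pow_mem _ hv _, ?_⟩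
  apply Prod.ext
  · show (v ^ Nat.card σ1.ker).1.1 = 1
    have h := pow_card_eq_one' (G := σ1.ker) (x := ⟨v.1.1, hv1⟩)
    have := congrArg Subtype.val h
    simpa using this
  · show (v ^ Nat.card σ1.ker).1.2 = z
    rw [← hy']
    have : v.1.2 = (y : Γ2) := hvy
    rw [← this]
    rfl

theorem ker_le_commutator [Finite Γ1] [Finite Γ2] (σ1 : Γ1 →* G) (σ2 : Γ2 →* G)
    (h1 : Cfsg.IsStemExtension σ1) (h2 : Cfsg.IsStemExtension σ2)
    (hc : (Nat.card σ1.ker).Coprime (Nat.card σ2.ker)) :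
    (fibHom σ1 σ2).ker ≤ commutator (fib σ1 σ2) := by
  intro w hw
  rw [mem_ker_fibHom] at hw
  obtain ⟨a, ha, ha'⟩ := left_mem_commutator σ1 σ2 h2.1 h1.2.2 hc _ hw.1
  obtain ⟨b, hb, hb'⟩ := right_mem_commutator σ1 σ2 h1.1 h2.2.2 hc _ hw.2
  have : w = a * b := by
    apply Subtype.ext
    show w.1 = a.1 * b.1
    rw [ha', hb']
    apply Prod.ext <;> simp
  rw [this]
  exact Subgroup.mul_mem _ ha hb

theorem isStem_fibHom [Finite Γ1] [Finite Γ2] (σ1 : Γ1 →* G) (σ2 : Γ2 →* G)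
    (h1 : Cfsg.IsStemExtension σ1) (h2 : Cfsg.IsStemExtension σ2)
    (hc : (Nat.card σ1.ker).Coprime (Nat.card σ2.ker)) :
    Cfsg.IsStemExtension (fibHom σ1 σ2) :=
  ⟨fibHom_surjective σ1 σ2 h1.1 h2.1, ker_le_center σ1 σ2 h1.2.1 h2.2.1,
    ker_le_commutator σ1 σ2 h1 h2 hc⟩

/-- the kernel of the fibre product is the product of the kernels -/
def kerEquiv (σ1 : Γ1 →* G) (σ2 : Γ2 →* G) : (fibHom σ1 σ2).ker ≃* σ1.ker × σ2.ker where
  toFun w := (⟨w.1.1.1, (mem_ker_fibHom.mp w.2).1⟩, ⟨w.1.1.2, (mem_ker_fibHom.mp w.2).2⟩)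
  invFun p := ⟨⟨(p.1.1, p.2.1), by
      rw [mem_fib]
      exact (MonoidHom.mem_ker.mp p.1.2).trans (MonoidHom.mem_ker.mp p.2.2).symm⟩, by
      rw [mem_ker_fibHom]
      exact ⟨p.1.2, p.2.2⟩⟩
  left_inv w := rfl
  right_inv p := rfl
  map_mul' w v := rfl

/-- **Fibre product of stem extensions with coprime kernels.** -/
theorem fibre_stem [Finite Γ1] [Finite Γ2] (σ1 : Γ1 →* G) (σ2 : Γ2 →* G)
    (h1 : Cfsg.IsStemExtension σ1) (h2 : Cfsg.IsStemExtension σ2)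
    (hc : (Nat.card σ1.ker).Coprime (Nat.card σ2.ker)) :
    ∃ (Γ : Type u) (_ : Group Γ) (_ : Finite Γ) (σ : Γ →* G),
      Cfsg.IsStemExtension σ ∧ Nonempty (σ.ker ≃* σ1.ker × σ2.ker) :=
  ⟨fib σ1 σ2, inferInstance, inferInstance, fibHom σ1 σ2, isStem_fibHom σ1 σ2 h1 h2 hc,
    ⟨kerEquiv σ1 σ2⟩⟩

/-- `C_a × C_b ≃ C_{ab}` for coprime `a`, `b`, multiplicatively -/
noncomputable def zmodProdEquiv {a b : ℕ} (hab : a.Coprime b) :
    Multiplicative (ZMod a) × Multiplicative (ZMod b) ≃* Multiplicative (ZMod (a * b)) :=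
  ((AddEquiv.toMultiplicative (ZMod.chineseRemainder hab).toAddEquiv).trans
    (MulEquiv.prodMultiplicative (ZMod a) (ZMod b))).symm

/-- **Cyclic version**: stem extensions of `G` with cyclic kernels of coprime orders `a` and `b`
give a stem extension with cyclic kernel of order `a * b`. -/
theorem exists_stem_mul (G : Type u) [Group G] (a b : ℕ) (hab : a.Coprime b)
    (h1 : ∃ (Γ : Type u) (_ : Group Γ) (_ : Finite Γ) (σ : Γ →* G),
      Cfsg.IsStemExtension σ ∧ Nonempty (σ.ker ≃* Multiplicative (ZMod a)))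
    (h2 : ∃ (Γ : Type u) (_ : Group Γ) (_ : Finite Γ) (σ : Γ →* G),
      Cfsg.IsStemExtension σ ∧ Nonempty (σ.ker ≃* Multiplicative (ZMod b))) :
    ∃ (Γ : Type u) (_ : Group Γ) (_ : Finite Γ) (σ : Γ →* G),
      Cfsg.IsStemExtension σ ∧ Nonempty (σ.ker ≃* Multiplicative (ZMod (a * b))) := by
  obtain ⟨Γ1, _, _, σ1, hs1, ⟨e1⟩⟩ := h1
  obtain ⟨Γ2, _, _, σ2, hs2, ⟨e2⟩⟩ := h2
  have hc1 : Nat.card σ1.ker = a := by
    rw [Nat.card_congr e1.toEquiv]
    exact Nat.card_zmod a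
  have hc2 : Nat.card σ2.ker = b := by
    rw [Nat.card_congr e2.toEquiv]
    exact Nat.card_zmod b
  obtain ⟨Γ, iG, iF, σ, hs, ⟨e⟩⟩ := fibre_stem σ1 σ2 hs1 hs2 (by rw [hc1, hc2]; exact hab)
  exact ⟨Γ, iG, iF, σ, hs, ⟨(e.trans (e1.prodCongr e2)).trans (zmodProdEquiv hab)⟩⟩

end Cfsg.Agent.Lib.Helper9.FibreStem
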