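import Mathlib
import Cfsg.Agent.Lib.Helper9.USubB5

/-!
# Unitary subfield subgroups: the Sylow trick, in the form used by side B
-/

set_option autoImplicit false
set_option linter.unusedSectionVars false
set_option linter.unusedVariables false

namespace Cfsg.Agent.Lib.Helper9.USub

open Matrix Cfsg.Agent.Lib.Helper6 Cfsg.Agent.S0779 Cfsg.Agent.S0781
open Cfsg.Agent.Lib.Helper6.SUG Cfsg.Agent.Lib.Helper13 Cfsg.Agent.Lib.Helper9.SUGen

section sylow
variable {F : Type*} [Field F] [Fintype F] {q n : ℕ}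

local notation "hh" => Cfsg.hermForm n F q

/-- **S5658B FO-B3** -/
theorem exists_sylow_conj (hF : Fintype.card F = q ^ 2) (L : Subgroup ↥(Cfsg.SU n F q))
    (u w : Fin n → F) (huu : hh u u = 0) (hww : hh w w = 0) (huw : hh u w ≠ 0)
    (z : F) (hz0 : z ≠ 0) (hz : z ^ q = -z)
    (hu : tv hF u z huu hz ∈ L) (hw : tv hF w z hww hz ∈ L) :
    ∃ δ ∈ L, ∃ c : F, c ≠ 0 ∧ av δ u = c • w ∧
      ∀ x, hh x u = 0 → hh x w = 0 → av δ x = x := by
  obtain ⟨d, hdL, hfix, c, hc⟩ := exists_delta hF L u w huu hww huw z hz0 hz hu hw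
  refine ⟨d, hdL, c, ?_, hc, hfix⟩
  rintro rfl
  rw [zero_smul] at hc
  have h1 : u = 0 := by
    have := av_inv_av d u
    rw [hc] at this
    rw [← this]
    unfold av
    rw [Matrix.mulVec_zero]
  rw [h1, herm_zero_left] at huw
  exact huw rfl

end sylow

end Cfsg.Agent.Lib.Helper9.USub
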