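import Mathlib

/-!
# Two small general lemmas on Sylow subgroups
-/

set_option autoImplicit false

namespace Cfsg.Agent.Lib.Helper9.Ex24

/-- an element of `p`-power order is conjugate into any given Sylow `p`-subgroup -/
theorem exists_conj_mem_sylow {G : Type*} [Group G] [Finite G] {p : ℕ} [Fact p.Prime] (P : Sylow p G)
    {x : G} {n : ℕ} (hx : x ^ p ^ n = 1) : ∃ g : G, g⁻¹ * x * g ∈ P := by
  have hpg : IsPGroup p (Subgroup.zpowers x) := by
    apply IsPGroup.of_card_dvd_pow (n := n)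
    rw [Nat.card_zpowers]
    exact orderOf_dvd_of_pow_eq_one hx
  obtain ⟨Q, hQ⟩ := hpg.exists_le_sylow
  obtain ⟨g, hg⟩ := MulAction.exists_smul_eq G Q P
  refine ⟨g⁻¹, ?_⟩
  have hxQ : x ∈ Q := hQ (Subgroup.mem_zpowers x)
  have : g * x * g⁻¹ ∈ (g • Q : Sylow p G) := by
    change _ ∈ ((g • Q : Sylow p G) : Subgroup G)
    rw [Sylow.coe_subgroup_smul]
    rw [Subgroup.mem_pointwise_smul_iff_inv_smul_mem]
    rw [MulAut.smul_def, ← map_inv, MulAut.conj_apply]
    have e : g⁻¹ * (g * x * g⁻¹) * g⁻¹⁻¹ = x := by group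
    rw [e]
    exact hxQ
  rw [hg] at this
  simpa using this

/-- a nontrivial finite `p`-group has a central element of order `p` -/
theorem exists_central_of_order {P : Type*} [Group P] [Finite P] [Nontrivial P] {p : ℕ}
    [hp : Fact p.Prime] (hP : IsPGroup p P) : ∃ z : P, orderOf z = p ∧ ∀ g : P, g * z = z * g := by
  haveI := hP.center_nontrivial
  have hPc : IsPGroup p ↥(Subgroup.center P) := hP.to_subgroup _
  obtain ⟨n, hn0, hn⟩ := hPc.nontrivial_iff_card.mp inferInstance
  have hdvd : p ∣ Nat.card ↥(Subgroup.center P) := by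
    rw [hn]; exact dvd_pow_self p hn0.ne'
  obtain ⟨z, hz⟩ := exists_prime_orderOf_dvd_card' (G := ↥(Subgroup.center P)) p hdvd
  refine ⟨z, ?_, ?_⟩
  · rw [← hz, Subgroup.orderOf_coe]
  · intro g
    exact Subgroup.mem_center_iff.mp z.2 g

end Cfsg.Agent.Lib.Helper9.Ex24
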