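import Mathlib
import Cfsg.Prelude.Def_GeometricClasses

/-!
# The trace identity for normalizers of absolutely irreducible finite matrix groups

For a finite subgroup `R ≤ GL(ι, F)` whose commutant consists of the scalar matrices and whose
nonscalar elements have trace zero, and `y` normalizing `R` such that no element `g` of `R` is
mapped to a nontrivial scalar multiple of itself:
`n² · #C_R(y) = |R| · tr(y) · tr(y⁻¹)` where `n = |ι|`.
-/

set_option autoImplicit false

namespace Cfsg.Agent.Lib.Helper9.TraceId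

open Matrix

variable {ι : Type} [Fintype ι] [DecidableEq ι] {F : Type*} [Field F]
variable {R : Subgroup (GL ι F)}

/-- If `k g k⁻¹ = ζ g` with `ζ ≠ 1` then `g` has trace zero. -/
theorem trace_zero_of_conj_smul {g k : GL ι F} {ζ : F} (hζ : ζ ≠ 1)
    (h : ((k * g * k⁻¹ : GL ι F) : Matrix ι ι F) = ζ • (g : Matrix ι ι F)) :
    trace (g : Matrix ι ι F) = 0 := by
  have h1 : trace ((k * g * k⁻¹ : GL ι F) : Matrix ι ι F) = trace (g : Matrix ι ι F) := by
    rw [Units.val_mul, Units.val_mul, Matrix.trace_mul_cycle, ← Units.val_mul, inv_mul_cancel,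
      Units.val_one, Matrix.one_mul]
  rw [h, trace_smul, smul_eq_mul] at h1
  have : (ζ - 1) * trace (g : Matrix ι ι F) = 0 := by linear_combination h1
  rcases mul_eq_zero.mp this with h2 | h2
  · exact absurd (sub_eq_zero.mp h2) hζ
  · exact h2

/-- Averaging over `R`: the sum of the conjugates of a matrix is a scalar matrix. -/
theorem avg (hirr : ∀ M : Matrix ι ι F, (∀ s ∈ Cfsg.Geo.matrixSet R, M * s = s * M) →
      ∃ c : F, M = c • (1 : Matrix ι ι F)) [Fintype ↥R] (A : Matrix ι ι F) :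
    ∃ c : F, ∑ g : ↥R, ((g : GL ι F) : Matrix ι ι F) * A * (((g : GL ι F)⁻¹ : GL ι F) : Matrix ι ι F)
        = c • (1 : Matrix ι ι F) ∧
      (Fintype.card ι : F) * c = (Fintype.card ↥R : F) * trace A := by
  set T : Matrix ι ι F :=
    ∑ g : ↥R, ((g : GL ι F) : Matrix ι ι F) * A * (((g : GL ι F)⁻¹ : GL ι F) : Matrix ι ι F) with hT
  have hcomm : ∀ s ∈ Cfsg.Geo.matrixSet R, T * s = s * T := by
    rintro s ⟨k, hk, rfl⟩
    have h1 : (k : Matrix ι ι F) * T * ((k⁻¹ : GL ι F) : Matrix ι ι F) = T := by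
      rw [hT, Finset.mul_sum, Finset.sum_mul]
      refine Fintype.sum_equiv (Equiv.mulLeft (⟨k, hk⟩ : ↥R)) _ _ ?_
      intro g
      simp only [Equiv.coe_mulLeft, Subgroup.coe_mul, Units.val_mul, _root_.mul_inv_rev]
      simp only [Matrix.mul_assoc]
    have h2 : (k : Matrix ι ι F) * T = T * (k : Matrix ι ι F) := by
      calc (k : Matrix ι ι F) * T
          = (k : Matrix ι ι F) * T * (((k⁻¹ : GL ι F) : Matrix ι ι F) * (k : Matrix ι ι F)) := by
            rw [← Units.val_mul, inv_mul_cancel, Units.val_one, Matrix.mul_one]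
        _ = ((k : Matrix ι ι F) * T * ((k⁻¹ : GL ι F) : Matrix ι ι F)) * (k : Matrix ι ι F) := by
            simp only [Matrix.mul_assoc]
        _ = T * (k : Matrix ι ι F) := by rw [h1]
    exact h2.symm
  obtain ⟨c, hc⟩ := hirr T hcomm
  refine ⟨c, hc, ?_⟩
  have htr : trace T = (Fintype.card ↥R : F) * trace A := by
    rw [hT, trace_sum]
    have : ∀ g : ↥R, trace (((g : GL ι F) : Matrix ι ι F) * A *
        (((g : GL ι F)⁻¹ : GL ι F) : Matrix ι ι F)) = trace A := by
      intro g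
      rw [Matrix.trace_mul_cycle, ← Units.val_mul, inv_mul_cancel, Units.val_one, Matrix.one_mul]
    rw [Finset.sum_congr rfl (fun g _ => this g), Finset.sum_const, Finset.card_univ, nsmul_eq_mul]
  rw [hc, trace_smul, trace_one, smul_eq_mul] at htr
  rw [← htr]; ring

/-- The trace identity. -/
theorem trace_identity (hirr : ∀ M : Matrix ι ι F, (∀ s ∈ Cfsg.Geo.matrixSet R, M * s = s * M) →
      ∃ c : F, M = c • (1 : Matrix ι ι F)) [Fintype ↥R] [DecidableEq (GL ι F)]
    (htr : ∀ g ∈ R, (∀ c : F, (g : Matrix ι ι F) ≠ c • (1 : Matrix ι ι F)) →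
      trace (g : Matrix ι ι F) = 0)
    (y : GL ι F) (hn : ∀ g ∈ R, y⁻¹ * g * y ∈ R)
    (hno : ∀ g ∈ R, ∀ c : F, ((y⁻¹ * g * y : GL ι F) : Matrix ι ι F) = c • (g : Matrix ι ι F) → c = 1) :
    (Fintype.card ι : F) ^ 2 *
        (((Finset.univ.filter (fun g : ↥R => y⁻¹ * (g : GL ι F) * y = g)).card : ℕ) : F)
      = (Fintype.card ↥R : F) *
        (trace (y : Matrix ι ι F) * trace ((y⁻¹ : GL ι F) : Matrix ι ι F)) := by
  obtain ⟨c, h1, hc⟩ := avg hirr (y : Matrix ι ι F)
  have h2 : ∑ g : ↥R, ((y⁻¹ * (g : GL ι F) * y * (g : GL ι F)⁻¹ : GL ι F) : Matrix ι ι F)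
      = c • ((y⁻¹ : GL ι F) : Matrix ι ι F) := by
    have := congrArg (fun X : Matrix ι ι F => ((y⁻¹ : GL ι F) : Matrix ι ι F) * X) h1
    simp only [Finset.mul_sum, Matrix.mul_smul, Matrix.mul_one] at this
    rw [← this]
    apply Finset.sum_congr rfl
    intro g _
    simp only [Units.val_mul, Matrix.mul_assoc]
  have h3 := congrArg trace h2
  rw [trace_sum, trace_smul, smul_eq_mul] at h3
  have h4 : ∀ g : ↥R, trace ((y⁻¹ * (g : GL ι F) * y * (g : GL ι F)⁻¹ : GL ι F) : Matrix ι ι F)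
      = if y⁻¹ * (g : GL ι F) * y = g then (Fintype.card ι : F) else 0 := by
    intro g
    have hmem : y⁻¹ * (g : GL ι F) * y * (g : GL ι F)⁻¹ ∈ R := R.mul_mem (hn g g.2) (R.inv_mem g.2)
    split_ifs with hfix
    · rw [hfix, mul_inv_cancel, Units.val_one, trace_one]
    · apply htr _ hmem
      intro c' h5
      have e : ((y⁻¹ * (g : GL ι F) * y : GL ι F) : Matrix ι ι F)
          = ((y⁻¹ * (g : GL ι F) * y * (g : GL ι F)⁻¹ : GL ι F) : Matrix ι ι F)
            * ((g : GL ι F) : Matrix ι ι F) := by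
        rw [← Units.val_mul]
        congr 1
        group
      rw [h5, Matrix.smul_mul, Matrix.one_mul] at e
      have hc1 := hno g g.2 c' e
      apply hfix
      apply Units.ext
      rw [e, hc1, one_smul]
  rw [Finset.sum_congr rfl (fun g _ => h4 g), Finset.sum_ite, Finset.sum_const, Finset.sum_const_zero,
    add_zero, nsmul_eq_mul] at h3
  calc (Fintype.card ι : F) ^ 2 *
        (((Finset.univ.filter (fun g : ↥R => y⁻¹ * (g : GL ι F) * y = g)).card : ℕ) : F)
      = (Fintype.card ι : F) * ((((Finset.univ.filter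
          (fun g : ↥R => y⁻¹ * (g : GL ι F) * y = g)).card : ℕ) : F) * (Fintype.card ι : F)) := by
        ring
    _ = (Fintype.card ι : F) * (c * trace ((y⁻¹ : GL ι F) : Matrix ι ι F)) := by rw [h3]
    _ = ((Fintype.card ι : F) * c) * trace ((y⁻¹ : GL ι F) : Matrix ι ι F) := by ring
    _ = _ := by rw [hc]; ring

/-- The hypothesis `hno` of `trace_identity` for `y` with `y ^ r = 1`, when the scalars `c` with
`c • g ∈ R` for some `g ∈ R` have no `r`-torsion: e.g. `r` odd and these scalars of 2-power order. -/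
theorem hno_of_pow [Nonempty ι] {y : GL ι F} {r : ℕ} (hy : y ^ r = 1)
    (hR : ∀ c : F, c ^ r = 1 → (∃ g ∈ R, ∃ g' ∈ R, (g' : Matrix ι ι F) = c • (g : Matrix ι ι F)) → c = 1)
    (hn : ∀ g ∈ R, y⁻¹ * g * y ∈ R) :
    ∀ g ∈ R, ∀ c : F, ((y⁻¹ * g * y : GL ι F) : Matrix ι ι F) = c • (g : Matrix ι ι F) → c = 1 := by
  intro g hg c hc
  apply hR c _ ⟨g, hg, _, hn g hg, hc⟩
  -- iterate: y^-k g y^k = c^k g
  have key : ∀ k : ℕ, (((y ^ k)⁻¹ * g * y ^ k : GL ι F) : Matrix ι ι F) = c ^ k • (g : Matrix ι ι F) := by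
    intro k
    induction k with
    | zero => simp
    | succ k ih =>
      have e : (y ^ (k + 1))⁻¹ * g * y ^ (k + 1) = y⁻¹ * ((y ^ k)⁻¹ * g * y ^ k) * y := by
        rw [pow_succ]; group
      rw [e, Units.val_mul, Units.val_mul, ih, Matrix.mul_smul, Matrix.smul_mul, ← Units.val_mul,
        ← Units.val_mul, hc, smul_smul, pow_succ]
  have h1 := key r
  rw [hy, inv_one, one_mul, mul_one] at h1
  -- g = c^r g, g invertible
  have h2 : (1 : Matrix ι ι F) = c ^ r • (1 : Matrix ι ι F) := by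
    have := congrArg (fun X : Matrix ι ι F => X * ((g⁻¹ : GL ι F) : Matrix ι ι F)) h1
    simp only [Matrix.smul_mul, ← Units.val_mul, mul_inv_cancel, Units.val_one] at this
    exact this
  obtain ⟨i⟩ := ‹Nonempty ι›
  have := congrFun (congrFun h2 i) i
  simp only [Matrix.one_apply_eq, Matrix.smul_apply, smul_eq_mul, mul_one] at this
  exact this.symm

end Cfsg.Agent.Lib.Helper9.TraceId
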