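import Cfsg.Agent.Lib.Helper9.U62MCLBAltCore

/-! S2091-[CL-B] (helper9, spare copy): certificate checks (commuting pairs 5-9), one declaration per certificate -/

set_option autoImplicit false
set_option maxRecDepth 100000
set_option maxHeartbeats 0
set_option Elab.async false

namespace Cfsg.Agent.Lib.Helper7.U62M

open Cfsg Cfsg.Agent.Helper4.TC

namespace CLBAlt

theorem comm_5 : oddOK (hComm .c .x) [6, 10, 8, 14, 6, 2, 10, 4, 0, 2, 10, 4, 0, 2, 10, 4, 0, 8, 6, 12] 9 9 = true := by decide +kernel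

theorem comm_6 : oddOK (hComm .d .f) [14, 6, 0, 2, 10, 4, 0, 2, 10, 4, 0, 2, 10, 4, 8, 12] 9 9 = true := by decide +kernel

theorem comm_7 : oddOK (hComm .d .g) [14, 12, 6, 2, 10, 4, 0, 2, 10, 4, 0, 2, 10, 4, 0, 8] 5 9 = true := by decide +kernel

theorem comm_8 : oddOK (hComm .d .i) [14, 8, 12, 6, 2, 10, 4, 0, 2, 10, 4, 0, 2, 10, 4, 0] 5 9 = true := by decide +kernel

theorem comm_9 : oddOK (hComm .d .x) [2, 10, 4, 0, 2, 10, 4, 0, 2, 10, 4, 0, 8, 6, 12, 14] 5 9 = true := by decide +kernel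


end CLBAlt

end Cfsg.Agent.Lib.Helper7.U62M
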