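import Cfsg.Agent.Lib.Helper9.U62MCLBAltCore

/-! S2091-[CL-B] (helper9, spare copy): certificate checks (commuting pairs 10-14), one declaration per certificate -/

set_option autoImplicit false
set_option maxRecDepth 100000
set_option maxHeartbeats 0
set_option Elab.async false

namespace Cfsg.Agent.Lib.Helper7.U62M

open Cfsg Cfsg.Agent.Helper4.TC

namespace CLBAlt

theorem comm_10 : oddOK (hComm .e .g) [2, 10, 4, 0, 2, 10, 4, 0, 2, 10, 4, 0, 12, 6, 14, 12] 9 9 = true := by decide +kernel

theorem comm_11 : oddOK (hComm .e .h) [8, 14, 10, 12, 14, 6] 5 9 = true := by decide +kernel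

theorem comm_12 : oddOK (hComm .e .i) [8, 14, 10, 12, 14, 6] 5 9 = true := by decide +kernel

theorem comm_13 : oddOK (hComm .e .x) [6, 8, 12, 2, 10, 4, 0, 2, 10, 4, 0, 2, 10, 4, 0] 5 5 = true := by decide +kernel

theorem comm_14 : oddOK (hComm .f .h) [14, 12, 6, 2, 10, 4, 0, 2, 10, 4, 0, 2, 10, 4, 0, 8] 5 9 = true := by decide +kernel


end CLBAlt

end Cfsg.Agent.Lib.Helper7.U62M
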