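import Cfsg.Agent.Lib.Helper9.U62MCLBAltCore

/-! S2091-[CL-B] (helper9, spare copy): certificate checks (edges, base pair, conjugating words), one declaration per certificate -/

set_option autoImplicit false
set_option maxRecDepth 100000
set_option maxHeartbeats 0
set_option Elab.async false

namespace Cfsg.Agent.Lib.Helper7.U62M

open Cfsg Cfsg.Agent.Helper4.TC

namespace CLBAlt

theorem edge_0 : oddOK (hEdge .c .d) [] 1 1 = true := by decide +kernel

theorem edge_1 : oddOK (hEdge .d .e) [] 1 1 = true := by decide +kernel

theorem edge_2 : oddOK (hEdge .d .h) [] 1 1 = true := by decide +kernel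

theorem edge_3 : oddOK (hEdge .e .f) [] 1 1 = true := by decide +kernel

theorem edge_4 : oddOK (hEdge .f .g) [] 1 1 = true := by decide +kernel

theorem edge_5 : oddOK (hEdge .f .x) [] 1 1 = true := by decide +kernel

theorem edge_6 : oddOK (hEdge .h .i) [] 1 1 = true := by decide +kernel

theorem edge_7 : oddOK (hEdge .i .x) [12, 6, 14, 4] 5 5 = true := by decide +kernel

theorem xOK : oddOK xW xuW xuOrd.1 xuOrd.2 = true := by decide +kernel

theorem xyOK : chk hXY = true := by decide +kernel

theorem xxOK : chk (xW ++ xW) = true := by decide +kernel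

noncomputable def gwOK : Bool :=
  ([.c, .d, .e, .f, .g, .h, .i, .x] : List Gen).all fun i => chk (hGw i)

theorem gwOK_true : gwOK = true := by decide +kernel


end CLBAlt

end Cfsg.Agent.Lib.Helper7.U62M
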