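import Cfsg.Agent.Lib.Helper9.U62MCLBAltC1
import Cfsg.Agent.Lib.Helper9.U62MCLBAltC2
import Cfsg.Agent.Lib.Helper9.U62MCLBAltC3
import Cfsg.Agent.Lib.Helper9.U62MCLBAltC4
import Cfsg.Agent.Lib.Helper9.U62MCLBAltC5

/-! S2091-[CL-B] (helper9; port of helper6's `Fi22M.CLB`; a spare copy of the piece of helper11): the certificates of
`U62M.CertData` hold in `P ≅ PSU₆(2)`; the statement `cert_main` of the skeleton. -/

set_option autoImplicit false
set_option maxRecDepth 100000
set_option linter.unusedVariables false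
set_option linter.constructorNameAsVariable false

namespace Cfsg.Agent.Lib.Helper7.U62M

open Cfsg Cfsg.Agent.Helper4.TC

/-- the pairs of commuting generators, oriented as in the certificates -/
def commPairs : List (Gen × Gen) :=
  [(.c, .e), (.c, .f), (.c, .g), (.c, .h), (.c, .i), (.c, .x), (.d, .f), (.d, .g), (.d, .i), (.d, .x),
   (.e, .g), (.e, .h), (.e, .i), (.e, .x), (.f, .h), (.f, .i), (.g, .h), (.g, .i), (.g, .x), (.h, .x)]

/-- the edges `(i, j)` of the diagram, oriented as in the certificates -/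
def edgePairs : List (Gen × Gen) :=
  [(.c, .d), (.d, .e), (.d, .h), (.e, .f), (.f, .g), (.h, .i), (.f, .x), (.i, .x)]

namespace CLBAlt

theorem commPairs_sub : ∀ p ∈ commPairs, p ∈ commCert.map fun t => (t.1, t.2.1) := by decide
theorem edgePairs_sub : ∀ p ∈ edgePairs, p ∈ edgeCert.map fun t => (t.1, t.2.1) := by decide


theorem comm_all : ∀ t ∈ commCert, oddOK (hComm t.1 t.2.1) t.2.2.1 t.2.2.2.1 t.2.2.2.2 = true := by
  intro t ht
  simp only [commCert, List.mem_cons, List.not_mem_nil, or_false] at ht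
  rcases ht with rfl | rfl | rfl | rfl | rfl | rfl | rfl | rfl | rfl | rfl | rfl | rfl | rfl | rfl | rfl | rfl | rfl | rfl | rfl | rfl
  · exact comm_0
  · exact comm_1
  · exact comm_2
  · exact comm_3
  · exact comm_4
  · exact comm_5
  · exact comm_6
  · exact comm_7
  · exact comm_8
  · exact comm_9
  · exact comm_10
  · exact comm_11
  · exact comm_12
  · exact comm_13
  · exact comm_14
  · exact comm_15
  · exact comm_16
  · exact comm_17
  · exact comm_18
  · exact comm_19

theorem edge_all : ∀ t ∈ edgeCert, oddOK (hEdge t.1 t.2.1) t.2.2.1 t.2.2.2.1 t.2.2.2.2 = true := by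
  intro t ht
  simp only [edgeCert, List.mem_cons, List.not_mem_nil, or_false] at ht
  rcases ht with rfl | rfl | rfl | rfl | rfl | rfl | rfl | rfl
  · exact edge_0
  · exact edge_1
  · exact edge_2
  · exact edge_3
  · exact edge_4
  · exact edge_5
  · exact edge_6
  · exact edge_7

end CLBAlt

open CLBAlt in
/-- [CL-B] -/
theorem cert_main : ∃ (x y : P) (gw : Gen → P),
    x ∈ oddCent (PresentedGroup.of (rels := RP) .c) ∧
    x * y * x⁻¹ * y⁻¹ = PresentedGroup.of .c ∧ x * x = 1 ∧
    (∀ i, gw i * PresentedGroup.of .c * (gw i)⁻¹ = PresentedGroup.of i) ∧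
    (∀ p ∈ commPairs, (gw p.2)⁻¹ * PresentedGroup.of p.1 * gw p.2 ∈
      oddCent (PresentedGroup.of (rels := RP) .c)) ∧
    (∀ p ∈ edgePairs, (gw p.2)⁻¹ * PresentedGroup.of p.1 * PresentedGroup.of p.2 * gw p.1 ∈
      oddCent (PresentedGroup.of (rels := RP) .c)) := by
  refine ⟨pw xW, pw yW, fun i => pw (gwW i), mem_of_oddOK _ _ _ _ xOK, ?_, ?_, ?_, ?_, ?_⟩
  · have h := pw_eq_one _ xyOK
    rw [pw_hXY] at h
    exact (inv_mul_eq_one.mp h).symm
  · have h := pw_eq_one _ xxOK
    rw [pw_append] at h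
    exact h
  · intro i
    have hall := gwOK_true
    unfold gwOK at hall
    rw [List.all_eq_true] at hall
    have h := pw_eq_one _ (hall i (by cases i <;> simp))
    rw [pw_hGw] at h
    exact (inv_mul_eq_one.mp h).symm
  · intro p hp
    have hp' := commPairs_sub p hp
    rw [List.mem_map] at hp'
    obtain ⟨t, ht, rfl⟩ := hp'
    have h := mem_of_oddOK _ _ _ _ (comm_all t ht)
    rw [pw_hComm] at h
    exact h
  · intro p hp
    have hp' := edgePairs_sub p hp
    rw [List.mem_map] at hp'
    obtain ⟨t, ht, rfl⟩ := hp'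
    have h := mem_of_oddOK _ _ _ _ (edge_all t ht)
    rw [pw_hEdge] at h
    exact h

end Cfsg.Agent.Lib.Helper7.U62M
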