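import Cfsg.Agent.Lib.Helper7.U62M.Defs

/-!
# S2091 piece [CL-C] (helper9 for helper7), core: involutions satisfying the commutation and braid relations of the
diagram satisfy the 64 Coxeter relator words

The 64 words of `coxL` are `[a, a]`, `[y, x, y, x]` (commuting pair) and `[y, x, y, x, y, x]` (edge), for the
ordered pairs of generators; a code word `[l₁, …, lₙ]` evaluates to `gl lₙ * ⋯ * gl l₁`.
-/

set_option autoImplicit false
set_option maxRecDepth 100000
set_option linter.unusedVariables false
set_option linter.constructorNameAsVariable false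

namespace Cfsg.Agent.Lib.Helper7.U62M

open Cfsg Cfsg.Agent.Helper4.TC

namespace Helper9

/-- the pairs of commuting generators (copy of the list of the skeleton) -/
def cPairs : List (Gen × Gen) :=
  [(.c, .e), (.c, .f), (.c, .g), (.c, .h), (.c, .i), (.c, .x), (.d, .f), (.d, .g), (.d, .i), (.d, .x),
   (.e, .g), (.e, .h), (.e, .i), (.e, .x), (.f, .h), (.f, .i), (.g, .h), (.g, .i), (.g, .x), (.h, .x)]

/-- the edges of the diagram (copy of the list of the skeleton) -/
def ePairs : List (Gen × Gen) :=
  [(.c, .d), (.d, .e), (.d, .h), (.e, .f), (.f, .g), (.h, .i), (.f, .x), (.i, .x)]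

/-- the shape of a Coxeter relator word -/
def shapeOK (b : List ℕ) : Bool :=
  U62QCod.gens.any fun x => U62QCod.gens.any fun y =>
    (decide (b = [enc x, enc x])) ||
    (decide (b = [enc y, enc x, enc y, enc x]) &&
      (decide ((x, y) ∈ cPairs) || decide ((y, x) ∈ cPairs))) ||
    (decide (b = [enc y, enc x, enc y, enc x, enc y, enc x]) &&
      (decide ((x, y) ∈ ePairs) || decide ((y, x) ∈ ePairs)))

theorem shape_all : coxL.all shapeOK = true := by decide +kernel

variable {Γ : Type*} [Group Γ]

theorem gl_enc (g : Gen → Γ) (x : Gen) : gl g (dec (enc x)) = g x := by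
  have h : dec (enc x) = (x, true) := U62QCod.coding.dec_enc x
  rw [h]
  rfl

theorem evc_two (g : Gen → Γ) (a b : Gen) : evc g dec [enc a, enc b] = g b * g a := by
  unfold evc
  simp only [List.map_cons, List.map_nil, ev, gl_enc, one_mul]

theorem evc_four (g : Gen → Γ) (a b c d : Gen) :
    evc g dec [enc a, enc b, enc c, enc d] = g d * g c * g b * g a := by
  unfold evc
  simp only [List.map_cons, List.map_nil, ev, gl_enc, one_mul, mul_assoc]

theorem evc_six (g : Gen → Γ) (a b c d e f : Gen) :
    evc g dec [enc a, enc b, enc c, enc d, enc e, enc f] = g f * g e * g d * g c * g b * g a := by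
  unfold evc
  simp only [List.map_cons, List.map_nil, ev, gl_enc, one_mul, mul_assoc]

/-- commuting involutions -/
theorem four_eq_one {u v : Γ} (hu : u * u = 1) (hv : v * v = 1) (h : u * v = v * u) :
    u * v * u * v = 1 := by
  calc u * v * u * v = u * (v * u) * v := by group
    _ = u * (u * v) * v := by rw [h]
    _ = (u * u) * (v * v) := by group
    _ = 1 := by rw [hu, hv, one_mul]

/-- braiding involutions -/
theorem six_eq_one {u v : Γ} (hu : u * u = 1) (hv : v * v = 1) (h : u * v * u = v * u * v) :
    u * v * u * v * u * v = 1 := by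
  calc u * v * u * v * u * v = (u * v * u) * (v * u * v) := by group
    _ = (v * u * v) * (v * u * v) := by rw [h]
    _ = v * u * (v * v) * u * v := by group
    _ = v * (u * u) * v := by rw [hv]; group
    _ = 1 := by rw [hu, mul_one, hv]

/-- core of [CL-C] -/
theorem cox_of_relations (g : Gen → Γ) (hsq : ∀ i, g i * g i = 1)
    (hcomm : ∀ p ∈ cPairs, g p.1 * g p.2 = g p.2 * g p.1)
    (hbraid : ∀ p ∈ ePairs, g p.1 * g p.2 * g p.1 = g p.2 * g p.1 * g p.2) :
    ∀ b ∈ coxL, evc g dec b = 1 := by
  intro b hb
  have h := shape_all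
  rw [List.all_eq_true] at h
  have h1 := h b hb
  unfold shapeOK at h1
  rw [List.any_eq_true] at h1
  obtain ⟨x, -, h2⟩ := h1
  rw [List.any_eq_true] at h2
  obtain ⟨y, -, h3⟩ := h2
  simp only [Bool.or_eq_true, Bool.and_eq_true, decide_eq_true_eq] at h3
  rcases h3 with (h3 | ⟨h3, h4⟩) | ⟨h3, h4⟩
  · rw [h3, evc_two]
    exact hsq x
  · rw [h3, evc_four]
    rcases h4 with h4 | h4
    · exact four_eq_one (hsq x) (hsq y) (hcomm (x, y) h4)
    · exact four_eq_one (hsq x) (hsq y) (hcomm (y, x) h4).symm
  · rw [h3, evc_six]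
    rcases h4 with h4 | h4
    · exact six_eq_one (hsq x) (hsq y) (hbraid (x, y) h4)
    · exact six_eq_one (hsq x) (hsq y) (hbraid (y, x) h4).symm

end Helper9

end Cfsg.Agent.Lib.Helper7.U62M
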