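import Cfsg.Agent.Lib.Helper7.U62M.Defs
import Cfsg.Agent.Lib.Helper23.U62MCLA
import Cfsg.Agent.Lib.Helper9.U62MCLCCore

/-!
# S2091 piece [CL-C] (helper9 for helper7), with the statement of [CL-B] as a hypothesis

From the certificates of [CL-B] and the abstract lemma [CL-A]: every central extension of `P` has lifts of the
eight generators satisfying the 64 Coxeter relator words exactly.
-/

set_option autoImplicit false
set_option maxRecDepth 100000
set_option linter.unusedVariables false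
set_option linter.constructorNameAsVariable false

namespace Cfsg.Agent.Lib.Helper7.U62M

open Cfsg Cfsg.Agent.Helper4.TC

namespace Helper9

/-- the statement of [CL-B] (with the private copies of the two lists of pairs) -/
def CertMain : Prop :=
  ∃ (x y : P) (gw : Gen → P),
    x ∈ oddCent (PresentedGroup.of (rels := RP) .c) ∧
    x * y * x⁻¹ * y⁻¹ = PresentedGroup.of .c ∧ x * x = 1 ∧
    (∀ i, gw i * PresentedGroup.of .c * (gw i)⁻¹ = PresentedGroup.of i) ∧
    (∀ p ∈ cPairs, (gw p.2)⁻¹ * PresentedGroup.of p.1 * gw p.2 ∈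
      oddCent (PresentedGroup.of (rels := RP) .c)) ∧
    (∀ p ∈ ePairs, (gw p.2)⁻¹ * PresentedGroup.of p.1 * PresentedGroup.of p.2 * gw p.1 ∈
      oddCent (PresentedGroup.of (rels := RP) .c))

theorem c_sq : (PresentedGroup.of (rels := RP) Cfsg.Agent.Helper4.Pres.U62Q.Gen.c) * PresentedGroup.of Cfsg.Agent.Helper4.Pres.U62Q.Gen.c = 1 := by
  have hmem : [enc Cfsg.Agent.Helper4.Pres.U62Q.Gen.c, enc Cfsg.Agent.Helper4.Pres.U62Q.Gen.c] ∈ coxL ++ centL := by decide +kernel
  have h := evc_of_eq_one [enc Cfsg.Agent.Helper4.Pres.U62Q.Gen.c, enc Cfsg.Agent.Helper4.Pres.U62Q.Gen.c] hmem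
  rw [evc_two] at h
  exact h

theorem exists_lifts_of (hB : CertMain) {Γ : Type*} [Group Γ] (σ : Γ →* P)
    (hs : Function.Surjective σ) (hk : σ.ker ≤ Subgroup.center Γ) :
    ∃ g : Gen → Γ, (∀ x, σ (g x) = PresentedGroup.of x) ∧ ∀ b ∈ coxL, evc g dec b = 1 := by
  obtain ⟨x, y, gw, hx, hxy, hxx, hgw, hc, he⟩ := hB
  obtain ⟨g, hg1, hg2, hg3, hg4⟩ := exists_coxeter_lifts σ hs hk (PresentedGroup.of (rels := RP) Cfsg.Agent.Helper4.Pres.U62Q.Gen.c)
    c_sq x y hx hxy hxx (fun i : Gen => (PresentedGroup.of (rels := RP) i)) gw hgw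
  refine ⟨g, hg1, cox_of_relations g hg2 ?_ ?_⟩
  · intro p hp
    exact hg3 p.1 p.2 (hc p hp)
  · intro p hp
    exact hg4 p.1 p.2 (he p hp)

end Helper9

end Cfsg.Agent.Lib.Helper7.U62M
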