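import Cfsg.Agent.Lib.Helper8.S1572Defs
import Cfsg.Agent.Lib.Helper28.Octads
import Cfsg.Agent.Lib.Helper3.Steiner

/-!
# S1572 piece [E2] (helper9 for helper8): the orbits of the stabiliser of `v0` in the monomial group on the
vectors of shape `(±2^8, 0^16)` orthogonal to `v0` have at least 45 elements

If the octad `O` of `x` contains the two base points, the 77 octads through them are supports of images of `x`
under coordinate permutations fixing both points.  If it contains neither, every sign change on a 4-subset of `O`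
is induced by a code word avoiding both points: 70 images.
-/

set_option autoImplicit false
set_option linter.unusedVariables false
set_option linter.style.haveILetI false
set_option linter.unusedSimpArgs false

namespace Cfsg.Agent.Lib.Helper8.S1572

open Cfsg Cfsg.Agent.Lib.Helper4 Cfsg.Agent.Helper4.CO Cfsg.Agent.Helper4.LC Cfsg.Agent.S0398
open Cfsg.Agent.Lib.Helper28
open scoped Pointwise

namespace Helper9

/-- the sign change on a code word as an element of the automorphism group -/
def sgnEl (c : Finset GolayPt) (hc : c ∈ supports (golayCode : Set (GolayPt → ZMod 2))) : ↥Co0 :=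
  ⟨signPerm c hc, signPerm_mem c hc⟩

theorem sgnEl_smul_coe (c : Finset GolayPt)
    (hc : c ∈ supports (golayCode : Set (GolayPt → ZMod 2))) (v : ↥leechLattice) :
    ((sgnEl c hc • v : ↥leechLattice) : GolayPt → ℤ) = signFun c (v : GolayPt → ℤ) := rfl

/-- the coordinate permutation as an element of the automorphism group -/
def prmEl (σ : Equiv.Perm GolayPt) (hσ : σ ∈ M24) : ↥Co0 := ⟨permPerm σ hσ, permPerm_mem σ hσ⟩

theorem prmEl_smul_coe (σ : Equiv.Perm GolayPt) (hσ : σ ∈ M24) (v : ↥leechLattice) :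
    ((prmEl σ hσ • v : ↥leechLattice) : GolayPt → ℤ) = permFun σ (v : GolayPt → ℤ) := rfl

theorem signFun_single (c : Finset GolayPt) (i : GolayPt) (s : ℤ) :
    signFun c (Pi.single i s) = Pi.single i (if i ∈ c then -s else s) := by
  funext k
  unfold signFun
  by_cases hk : k = i
  · subst hk
    by_cases hc : k ∈ c
    · simp [hc]
    · simp [hc]
  · simp [Pi.single_apply, hk]

theorem permFun_single (σ : Equiv.Perm GolayPt) (i : GolayPt) (s : ℤ) :
    permFun σ (Pi.single i s) = Pi.single (σ⁻¹ i) s := by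
  funext k
  unfold permFun
  simp only [Pi.single_apply]
  by_cases hk : σ k = i
  · rw [if_pos hk, if_pos]
    rw [← hk]
    simp
  · rw [if_neg hk, if_neg]
    intro h
    apply hk
    rw [h]
    simp

theorem sgnEl_mem (c : Finset GolayPt)
    (hc : c ∈ supports (golayCode : Set (GolayPt → ZMod 2))) : sgnEl c hc ∈ Nstd := by
  intro v hv
  obtain ⟨i, s, hs, hvs⟩ := hv
  rw [sgnEl_smul_coe, hvs, signFun_single]
  refine ⟨i, _, ?_, rfl⟩
  by_cases hi : i ∈ c
  · rw [if_pos hi]
    rcases hs with rfl | rfl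
    · right; rfl
    · left; norm_num
  · rw [if_neg hi]
    exact hs

theorem prmEl_mem (σ : Equiv.Perm GolayPt) (hσ : σ ∈ M24) : prmEl σ hσ ∈ Nstd := by
  intro v hv
  obtain ⟨i, s, hs, hvs⟩ := hv
  rw [prmEl_smul_coe, hvs, permFun_single]
  exact ⟨_, s, hs, rfl⟩

theorem dot_v0 (x : GolayPt → ℤ) :
    dotInt ((v0 : ↥leechLattice) : GolayPt → ℤ) x = 4 * x pa + 4 * x pb := by
  rw [v0_coe]
  unfold dotInt E
  simp only [Pi.add_apply, add_mul, Finset.sum_add_distrib, Pi.single_apply, ite_mul, zero_mul,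
    Finset.sum_ite_eq', Finset.mem_univ, if_true]

/-- a code word inside the union of an octad and the two base points is empty or the octad -/
theorem code_sub (O : Finset GolayPt) (hO : O ∈ octads) (d : Finset GolayPt)
    (hd : d ∈ supports (golayCode : Set (GolayPt → ZMod 2)))
    (hsub : d ⊆ insert pa (insert pb O)) : d = ∅ ∨ d = O := by
  classical
  have hO8 : O.card = 8 := hO.2
  have h10 : (insert pa (insert pb O)).card ≤ 10 := by
    have h1 := Finset.card_insert_le pa (insert pb O)
    have h2 := Finset.card_insert_le pb O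
    omega
  have hdle : d.card ≤ 10 := (Finset.card_le_card hsub).trans h10
  rcases supports_card hd with h | h | h | h | h
  · left
    exact Finset.card_eq_zero.mp h
  · right
    by_contra hne
    have hd8 : d ∈ octads := ⟨hd, h⟩
    have hlt := Cfsg.Agent.Lib.Helper3.Steiner.inter_card_lt octads_isSteinerSystem hd8 hO hne
    have hsd : d \ O ⊆ {pa, pb} := by
      intro k hk
      rw [Finset.mem_sdiff] at hk
      have := hsub hk.1
      simp only [Finset.mem_insert] at this
      rcases this with rfl | rfl | h'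
      · simp
      · simp
      · exact absurd h' hk.2
    have hc2 : (d \ O).card ≤ 2 := (Finset.card_le_card hsd).trans Finset.card_le_two
    have := Finset.card_inter_add_card_sdiff d O
    omega
  all_goals omega

theorem mem_of_signFun_eq {E1 E2 : Finset GolayPt} {x : GolayPt → ℤ}
    (h : signFun E1 x = signFun E2 x) {k : GolayPt} (hk : k ∈ E1) (hx : x k ≠ 0) : k ∈ E2 := by
  by_contra hk2
  have := congrFun h k
  unfold signFun at this
  rw [if_pos hk, if_neg hk2] at this
  omega

theorem mem_H_of (H : Subgroup ↥Co0) (hH : (H : Set ↥Co0) = Nstd) (g : ↥Co0) (hg : g ∈ Nstd) :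
    g ∈ H := by
  have : g ∈ (H : Set ↥Co0) := by rw [hH]; exact hg
  exact this

/-- the octad avoids the two base points: sign changes on the 4-subsets of the octad -/
theorem case_out (H : Subgroup ↥Co0) (hH : (H : Set ↥Co0) = Nstd) (x : ↥leechLattice)
    (O : Finset GolayPt) (hO : O ∈ octads)
    (hon : ∀ i ∈ O, (x : GolayPt → ℤ) i = 2 ∨ (x : GolayPt → ℤ) i = -2)
    (hoff : ∀ i, i ∉ O → (x : GolayPt → ℤ) i = 0) (ha : pa ∉ O) (hb : pb ∉ O) :
    ∃ s : Finset ↥leechLattice, 45 ≤ s.card ∧ ∀ y ∈ s, ∃ g ∈ H, g • v0 = v0 ∧ g • x = y := by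
  classical
  have key : ∀ E ∈ Finset.powersetCard 4 O, ∃ y : ↥leechLattice,
      (y : GolayPt → ℤ) = signFun E (x : GolayPt → ℤ) ∧ ∃ g ∈ H, g • v0 = v0 ∧ g • x = y := by
    intro E hE
    rw [Finset.mem_powersetCard] at hE
    obtain ⟨hEO, hE4⟩ := hE
    have hES : E ⊆ insert pa (insert pb O) := fun k hk => by simp [hEO hk]
    obtain ⟨c, hc, hcE⟩ := exists_code_inter (insert pa (insert pb O)) E hES (by
      intro d hd hdS
      rcases code_sub O hO d hd hdS with rfl | rfl
      · simp
      · rw [Finset.inter_eq_left.mpr hEO, hE4]; exact ⟨2, rfl⟩)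
    have hac : pa ∉ c := by
      intro h
      have : pa ∈ c ∩ insert pa (insert pb O) := Finset.mem_inter.mpr ⟨h, by simp⟩
      rw [hcE] at this
      exact ha (hEO this)
    have hbc : pb ∉ c := by
      intro h
      have : pb ∈ c ∩ insert pa (insert pb O) := Finset.mem_inter.mpr ⟨h, by simp⟩
      rw [hcE] at this
      exact hb (hEO this)
    have hcO : ∀ k ∈ O, (k ∈ c ↔ k ∈ E) := by
      intro k hk
      constructor
      · intro h
        have : k ∈ c ∩ insert pa (insert pb O) := Finset.mem_inter.mpr ⟨h, by simp [hk]⟩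
        rwa [hcE] at this
      · intro h
        have : k ∈ c ∩ insert pa (insert pb O) := by rw [hcE]; exact h
        exact (Finset.mem_inter.mp this).1
    refine ⟨sgnEl c hc • x, ?_, sgnEl c hc, mem_H_of H hH _ (sgnEl_mem c hc), ?_, rfl⟩
    · rw [sgnEl_smul_coe]
      funext k
      unfold signFun
      by_cases hk : k ∈ O
      · by_cases hkE : k ∈ E
        · rw [if_pos ((hcO k hk).mpr hkE), if_pos hkE]
        · rw [if_neg (fun h => hkE ((hcO k hk).mp h)), if_neg hkE]
      · have hkE : k ∉ E := fun h => hk (hEO h)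
        rw [hoff k hk, if_neg hkE]
        split_ifs <;> simp
    · apply Subtype.ext
      rw [sgnEl_smul_coe, v0_coe]
      funext k
      unfold signFun
      by_cases hk : k ∈ c
      · have h1 : k ≠ pa := fun h => hac (h ▸ hk)
        have h2 : k ≠ pb := fun h => hbc (h ▸ hk)
        rw [if_pos hk]
        simp [Cfsg.Agent.Helper4.LC.E, Pi.single_apply, h1, h2]
      · rw [if_neg hk]
  choose! Y hY1 hY2 using key
  refine ⟨(Finset.powersetCard 4 O).image Y, ?_, ?_⟩
  · rw [Finset.card_image_of_injOn, Finset.card_powersetCard, hO.2]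
    · norm_num [Nat.choose]
    · intro E1 hE1 E2 hE2 h
      have hE1' := Finset.mem_powersetCard.mp (Finset.mem_coe.mp hE1)
      have hE2' := Finset.mem_powersetCard.mp (Finset.mem_coe.mp hE2)
      have hs : signFun E1 (x : GolayPt → ℤ) = signFun E2 (x : GolayPt → ℤ) := by
        rw [← hY1 E1 hE1, ← hY1 E2 hE2, h]
      have hne : ∀ k ∈ O, (x : GolayPt → ℤ) k ≠ 0 := by
        intro k hk
        rcases hon k hk with h | h <;> rw [h] <;> norm_num
      ext k
      constructor
      · intro hk
        exact mem_of_signFun_eq hs hk (hne k (hE1'.1 hk))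
      · intro hk
        exact mem_of_signFun_eq hs.symm hk (hne k (hE2'.1 hk))
  · intro y hy
    obtain ⟨E, hE, rfl⟩ := Finset.mem_image.mp hy
    exact hY2 E hE

/-- the octad contains the two base points: the 77 octads through them -/
theorem case_in (H : Subgroup ↥Co0) (hH : (H : Set ↥Co0) = Nstd) (x : ↥leechLattice)
    (O : Finset GolayPt) (hO : O ∈ octads)
    (hon : ∀ i ∈ O, (x : GolayPt → ℤ) i = 2 ∨ (x : GolayPt → ℤ) i = -2)
    (hoff : ∀ i, i ∉ O → (x : GolayPt → ℤ) i = 0) (ha : pa ∈ O) (hb : pb ∈ O) :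
    ∃ s : Finset ↥leechLattice, 45 ≤ s.card ∧ ∀ y ∈ s, ∃ g ∈ H, g • v0 = v0 ∧ g • x = y := by
  classical
  have hT77 : {y | y ∈ octads ∧ pa ∈ y ∧ pb ∈ y}.ncard = 77 := ncard_octads_through_two pa_ne_pb
  have key : ∀ O' ∈ {y | y ∈ octads ∧ pa ∈ y ∧ pb ∈ y}, ∃ y : ↥leechLattice,
      (∀ k, (y : GolayPt → ℤ) k ≠ 0 ↔ k ∈ O') ∧ ∃ g ∈ H, g • v0 = v0 ∧ g • x = y := by
    intro O' hO'
    obtain ⟨g, hg, hgO, hga, hgb⟩ := M24_flag_two_transitive hO hO'.1 ha hb pa_ne_pb hO'.2.1
      hO'.2.2 pa_ne_pb
    have hgi : g⁻¹ ∈ M24 := M24.inv_mem hg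
    refine ⟨prmEl g⁻¹ hgi • x, ?_, prmEl g⁻¹ hgi, mem_H_of H hH _ (prmEl_mem _ hgi), ?_, rfl⟩
    · intro k
      rw [prmEl_smul_coe]
      show (x : GolayPt → ℤ) (g⁻¹ k) ≠ 0 ↔ k ∈ O'
      have hmem : k ∈ O' ↔ g⁻¹ k ∈ O := by
        rw [← hgO, ← Finset.inv_smul_mem_iff]
        rfl
      rw [hmem]
      constructor
      · intro h
        by_contra hn
        exact h (hoff _ hn)
      · intro h
        rcases hon _ h with h' | h' <;> rw [h'] <;> norm_num
    · apply Subtype.ext
      rw [prmEl_smul_coe, v0_coe]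
      funext k
      show (Cfsg.Agent.Helper4.LC.E pa + Cfsg.Agent.Helper4.LC.E pb) (g⁻¹ k) =
        (Cfsg.Agent.Helper4.LC.E pa + Cfsg.Agent.Helper4.LC.E pb) k
      have e1 : g⁻¹ k = pa ↔ k = pa := by
        constructor
        · intro h
          have h' := congrArg g h
          rw [show g (g⁻¹ k) = k from by simp, hga] at h'
          exact h'
        · intro h
          rw [h, Equiv.Perm.inv_eq_iff_eq]
          exact hga.symm
      have e2 : g⁻¹ k = pb ↔ k = pb := by
        constructor
        · intro h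
          have h' := congrArg g h
          rw [show g (g⁻¹ k) = k from by simp, hgb] at h'
          exact h'
        · intro h
          rw [h, Equiv.Perm.inv_eq_iff_eq]
          exact hgb.symm
      simp only [Pi.add_apply, Cfsg.Agent.Helper4.LC.E, Pi.single_apply, e1, e2]
  choose! Y hY1 hY2 using key
  have hfin : {y | y ∈ octads ∧ pa ∈ y ∧ pb ∈ y}.Finite := Set.toFinite _
  refine ⟨hfin.toFinset.image Y, ?_, ?_⟩
  · rw [Finset.card_image_of_injOn, ← Set.ncard_eq_toFinset_card _ hfin, hT77]
    · norm_num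
    · intro O1 h1 O2 h2 h
      have h1' := (Set.Finite.mem_toFinset hfin).mp (Finset.mem_coe.mp h1)
      have h2' := (Set.Finite.mem_toFinset hfin).mp (Finset.mem_coe.mp h2)
      ext k
      rw [← hY1 O1 h1' k, ← hY1 O2 h2' k, h]
  · intro y hy
    obtain ⟨O', hO', rfl⟩ := Finset.mem_image.mp hy
    exact hY2 O' ((Set.Finite.mem_toFinset hfin).mp hO')

end Helper9

open Helper9

/-- [E2] -/
theorem orbit_ge_S2 (H : Subgroup ↥Co0) (hH : (H : Set ↥Co0) = Nstd) (x : ↥leechLattice)
    (hx : x ∈ S2set)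
    (hd : dotInt ((v0 : ↥leechLattice) : GolayPt → ℤ) (x : GolayPt → ℤ) = 0) :
    ∃ s : Finset ↥leechLattice, 45 ≤ s.card ∧ ∀ y ∈ s, ∃ g ∈ H, g • v0 = v0 ∧ g • x = y := by
  obtain ⟨O, hO, hon, hoff⟩ := hx
  rw [dot_v0] at hd
  by_cases ha : pa ∈ O
  · have hb : pb ∈ O := by
      by_contra hb
      have h0 := hoff pb hb
      rcases hon pa ha with h | h <;> omega
    exact case_in H hH x O hO hon hoff ha hb
  · have hb : pb ∉ O := by
      intro hb
      have h0 := hoff pa ha
      rcases hon pb hb with h | h <;> omega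
    exact case_out H hH x O hO hon hoff ha hb

end Cfsg.Agent.Lib.Helper8.S1572
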