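import Mathlib
import Cfsg.Prelude.Def_CaseTheorems
import Cfsg.Agent.Lib.Helper1.AbelianSylowTransfer
import Cfsg.Agent.Lib.Helper9.Rank

set_option autoImplicit false

namespace Cfsg.Agent.Lib.Helper9

open Cfsg
open scoped IsMulCommutative

section IndexTwo

variable {G : Type*} [Group G]

/-- A finite group with a nontrivial `2`-group quotient has a subgroup of index `2`. -/
theorem exists_index_two_of_quotient {A : Type*} [Group A] [Finite A] (f : G →* A)
    (hf : Function.Surjective f) (hA : IsPGroup 2 A) (hnt : Nontrivial A) :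
    ∃ H : Subgroup G, H.index = 2 := by
  have : Fact (Nat.Prime 2) := ⟨Nat.prime_two⟩
  obtain ⟨m, hm⟩ := IsPGroup.iff_card.mp hA
  have hm0 : m ≠ 0 := by
    intro h
    rw [h, pow_zero] at hm
    have := Finite.one_lt_card_iff_nontrivial.mpr hnt
    omega
  obtain ⟨m', rfl⟩ := Nat.exists_eq_succ_of_ne_zero hm0
  obtain ⟨K, hK⟩ := Sylow.exists_subgroup_card_pow_prime (G := A) 2 (n := m')
    (by rw [hm]; exact pow_dvd_pow 2 (Nat.le_succ m'))
  have hidx : K.index = 2 := by
    have h1 := K.card_mul_index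
    rw [hK, hm, pow_succ] at h1
    have hpos : 0 < 2 ^ m' := by positivity
    exact Nat.eq_of_mul_eq_mul_left hpos h1
  exact ⟨K.comap f, (Subgroup.index_comap_of_surjective K hf).trans hidx⟩

end IndexTwo

section AbSylow

variable {G : Type*} [Group G] [Finite G]

/-- If `G` has no subgroup of index `2` and `S` is an abelian Sylow `2`-subgroup, then
`S ∩ Z(N_G(S)) = 1`. -/
theorem sylow_inf_centralizer_normalizer_eq_bot (hG : ∀ H : Subgroup G, H.index ≠ 2)
    (S : Sylow 2 G) [IsMulCommutative (S : Subgroup G)] :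
    (S : Subgroup G) ⊓ Subgroup.centralizer
      (Subgroup.normalizer ((S : Subgroup G) : Set G) : Set G) = ⊥ := by
  have : Fact (Nat.Prime 2) := ⟨Nat.prime_two⟩
  by_contra hne
  obtain ⟨N, hN, ⟨e⟩⟩ := Cfsg.Agent.Lib.Helper1.exists_quotient_equiv_inf_centralizer_normalizer S
  have hA : IsPGroup 2 ↥((S : Subgroup G) ⊓ Subgroup.centralizer
      (Subgroup.normalizer ((S : Subgroup G) : Set G) : Set G)) := S.2.to_le inf_le_left
  have hnt : Nontrivial ↥((S : Subgroup G) ⊓ Subgroup.centralizer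
      (Subgroup.normalizer ((S : Subgroup G) : Set G) : Set G)) :=
    (Subgroup.nontrivial_iff_ne_bot _).mpr hne
  obtain ⟨H, hH⟩ := exists_index_two_of_quotient (e.toMonoidHom.comp (QuotientGroup.mk' N))
    (e.surjective.comp (QuotientGroup.mk'_surjective N)) hA hnt
  exact hG H hH

end AbSylow

section Parity

/-- In a commutative group, if `W` has index `2` in `V`, a product of elements of `V ∖ W` lies
in `W` iff the number of factors is even. -/
theorem prod_mem_iff_even_of_index_two {A : Type*} [CommGroup A] {V W : Subgroup A}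
    (hidx : (W.subgroupOf V).index = 2) {ι : Type*} (s : Finset ι) (f : ι → A)
    (hf : ∀ q ∈ s, f q ∈ V ∧ f q ∉ W) :
    (∏ q ∈ s, f q) ∈ V ∧ ((∏ q ∈ s, f q) ∈ W ↔ Even s.card) := by
  classical
  induction s using Finset.induction_on with
  | empty => simp
  | insert a s ha ih =>
    have hf' : ∀ q ∈ s, f q ∈ V ∧ f q ∉ W := fun q hq => hf q (Finset.mem_insert_of_mem hq)
    obtain ⟨hPV, hPW⟩ := ih hf'
    obtain ⟨haV, haW⟩ := hf a (Finset.mem_insert_self a s)
    rw [Finset.prod_insert ha, Finset.card_insert_of_notMem ha]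
    refine ⟨V.mul_mem haV hPV, ?_⟩
    have key := Subgroup.mul_mem_iff_of_index_two hidx (a := (⟨f a, haV⟩ : V))
      (b := ⟨∏ q ∈ s, f q, hPV⟩)
    simp only [Subgroup.mem_subgroupOf, Subgroup.coe_mul] at key
    rw [key, hPW, Nat.even_add_one]
    constructor
    · intro h he
      exact haW (h.mpr he)
    · intro h
      exact ⟨fun h1 => absurd h1 haW, fun h1 => absurd h1 h⟩

end Parity

section Main

variable {G : Type*} [Group G] [Finite G]

/-- **S1244**. -/
theorem exists_normalizer_conj_mem_of_rank (hG : ∀ H : Subgroup G, H.index ≠ 2) (S : Sylow 2 G)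
    (hS : IsMulCommutative (S : Subgroup G)) (r : ℕ) (hr1 : 1 ≤ r)
    (hSr : PRankLE 2 r (S : Subgroup G) ∧ ¬ PRankLE 2 (r - 1) (S : Subgroup G))
    (R : Subgroup G) (hRS : R ≤ S)
    (hRr : PRankLE 2 (r - 1) R ∧ (r = 1 ∨ ¬ PRankLE 2 (r - 2) R))
    (t : G) (ht : orderOf t = 2) (htS : t ∈ S) :
    ∃ n ∈ Subgroup.normalizer ((S : Subgroup G) : Set G), n * t * n⁻¹ ∈ R := by
  classical
  have : Fact (Nat.Prime 2) := ⟨Nat.prime_two⟩
  have := hS
  by_contra hcon
  push Not at hcon
  -- the subgroups V = Ω₁(S) and W = V ∩ R of ↥S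
  let V : Subgroup ↥(S : Subgroup G) := (powMonoidHom 2 : ↥(S : Subgroup G) →* ↥(S : Subgroup G)).ker
  have memV : ∀ a : ↥(S : Subgroup G), a ∈ V ↔ a ^ 2 = 1 := fun a => by
    show a ∈ (powMonoidHom 2 : ↥(S : Subgroup G) →* ↥(S : Subgroup G)).ker ↔ _
    rw [MonoidHom.mem_ker]; rfl
  let W : Subgroup ↥(S : Subgroup G) := V ⊓ R.subgroupOf (S : Subgroup G)
  have hWV : W ≤ V := inf_le_left
  have hVc : IsMulCommutative ↥V := ⟨⟨fun a b => Subtype.ext (mul_comm a.1 b.1)⟩⟩
  have hV2 : IsPGroup 2 ↥V := S.2.to_subgroup V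
  have hW2 : IsPGroup 2 ↥W := S.2.to_subgroup W
  -- |V| = 2 ^ r
  have hVle : Nat.card V ≤ 2 ^ r := hSr.1 V hVc (fun a ha => (memV a).mp ha)
  have hVgt : 2 ^ (r - 1) < Nat.card V := by
    have h := hSr.2
    unfold PRankLE at h
    push Not at h
    obtain ⟨A, -, hAp, hcard⟩ := h
    have hAV : A ≤ V := fun a ha => (memV a).mpr (hAp a ha)
    exact lt_of_lt_of_le hcard (Subgroup.card_le_of_le hAV)
  have hVcard : Nat.card V = 2 ^ r := by
    obtain ⟨k, hk⟩ := IsPGroup.iff_card.mp hV2
    rw [hk] at hVle hVgt ⊢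
    have h1 : k ≤ r := (Nat.pow_le_pow_iff_right (by norm_num)).mp hVle
    have h2 : r - 1 < k := (Nat.pow_lt_pow_iff_right (by norm_num)).mp hVgt
    have : k = r := by omega
    rw [this]
  -- |W| = 2 ^ (r - 1)
  have hWG_le : W.map (S : Subgroup G).subtype ≤ R := by
    rintro _ ⟨a, ha, rfl⟩
    exact Subgroup.mem_subgroupOf.mp ha.2
  have hWGc : IsMulCommutative ↥(W.map (S : Subgroup G).subtype) := by
    have : IsMulCommutative ↥W := ⟨⟨fun a b => Subtype.ext (mul_comm a.1 b.1)⟩⟩
    exact Subgroup.map_isMulCommutative W _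
  have hWGp : ∀ a ∈ W.map (S : Subgroup G).subtype, a ^ 2 = 1 := by
    rintro _ ⟨a, ha, rfl⟩
    rw [← map_pow, (memV a).mp ha.1, map_one]
  have hWGcard : Nat.card (W.map (S : Subgroup G).subtype) = Nat.card W :=
    (Nat.card_congr (W.equivMapOfInjective _ (S : Subgroup G).subtype_injective).toEquiv).symm
  have hWle : Nat.card W ≤ 2 ^ (r - 1) := by
    rw [← hWGcard]
    exact card_le_of_pRankLE hWG_le hWGc hWGp hRr.1
  have hWge : 2 ^ (r - 1) ≤ Nat.card W := by
    rcases hRr.2 with h1 | h2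
    · rw [h1]
      have h0 : 0 < Nat.card ↥W := Nat.card_pos
      show 2 ^ (1 - 1) ≤ Nat.card ↥W
      norm_num
      omega
    · obtain ⟨E, hER, -, hEp, hEcard⟩ := exists_elemAb_card_of_not_pRankLE h2
      have hEW : E ≤ W.map (S : Subgroup G).subtype := by
        intro a ha
        refine ⟨⟨a, hRS (hER ha)⟩, ⟨?_, ?_⟩, rfl⟩
        · apply (memV _).mpr
          exact Subtype.ext (by simpa using hEp a ha)
        · exact Subgroup.mem_subgroupOf.mpr (hER ha)
      have h3 : 2 ^ (r - 2) < Nat.card W := by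
        rw [← hWGcard]
        exact lt_of_lt_of_le hEcard (Subgroup.card_le_of_le hEW)
      obtain ⟨k, hk⟩ := IsPGroup.iff_card.mp hW2
      rw [hk] at h3 ⊢
      have h4 : r - 2 < k := (Nat.pow_lt_pow_iff_right (by norm_num)).mp h3
      exact Nat.pow_le_pow_right (by norm_num) (by omega)
  have hWcard : Nat.card W = 2 ^ (r - 1) := le_antisymm hWle hWge
  have hidx : (W.subgroupOf V).index = 2 := by
    have h1 := (W.subgroupOf V).index_mul_card
    rw [Nat.card_congr (Subgroup.subgroupOfEquivOfLe hWV).toEquiv, hWcard, hVcard] at h1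
    have h2 : 2 ^ r = 2 * 2 ^ (r - 1) := by
      rw [← pow_succ']; congr 1; omega
    rw [h2] at h1
    exact Nat.eq_of_mul_eq_mul_right (by positivity) h1
  -- the norm of t
  let x : ↥(S : Subgroup G) := ⟨t, htS⟩
  have hx2 : x * x = 1 := by
    apply Subtype.ext
    have := pow_orderOf_eq_one t
    rw [ht, pow_two] at this
    exact this
  let _ : Fintype (↥(Subgroup.normalizer ((S : Subgroup G) : Set G)) ⧸
      (S : Subgroup G).subgroupOf (Subgroup.normalizer ((S : Subgroup G) : Set G))) :=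
    Fintype.ofFinite _
  have hfq : ∀ q ∈ (Finset.univ : Finset (↥(Subgroup.normalizer ((S : Subgroup G) : Set G)) ⧸
      (S : Subgroup G).subgroupOf (Subgroup.normalizer ((S : Subgroup G) : Set G)))),
      Cfsg.Agent.Lib.Helper1.cosetConj S q x ∈ V ∧ Cfsg.Agent.Lib.Helper1.cosetConj S q x ∉ W := by
    intro q _
    constructor
    · rw [memV, pow_two, ← Cfsg.Agent.Lib.Helper1.cosetConj_mul, hx2,
        Cfsg.Agent.Lib.Helper1.cosetConj_one]
    · induction q using QuotientGroup.induction_on with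
      | H n =>
        intro hW
        have h1 := Subgroup.mem_subgroupOf.mp hW.2
        rw [Cfsg.Agent.Lib.Helper1.cosetConj_mk] at h1
        exact hcon n.1 n.2 h1
  obtain ⟨-, hprod⟩ := prod_mem_iff_even_of_index_two hidx Finset.univ
    (fun q => Cfsg.Agent.Lib.Helper1.cosetConj S q x) hfq
  -- the product is trivial
  have hbot := sylow_inf_centralizer_normalizer_eq_bot hG S
  have hone : (∏ q, Cfsg.Agent.Lib.Helper1.cosetConj S q x) = 1 := by
    have h1 : ((Cfsg.Agent.Lib.Helper1.sylowNorm S x : ↥((S : Subgroup G) ⊓ Subgroup.centralizer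
        (Subgroup.normalizer ((S : Subgroup G) : Set G) : Set G))) : G) = 1 := by
      have h0 : ∀ (B : Subgroup G) (b : ↥B), B = ⊥ → (b : G) = 1 := by
        intro B b hB; subst hB; exact Subgroup.mem_bot.mp b.2
      exact h0 _ _ hbot
    apply Subtype.ext
    exact h1
  rw [hone] at hprod
  have heven : Even (Finset.univ : Finset (↥(Subgroup.normalizer ((S : Subgroup G) : Set G)) ⧸
      (S : Subgroup G).subgroupOf (Subgroup.normalizer ((S : Subgroup G) : Set G)))).card :=
    hprod.mp W.one_mem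
  rw [Finset.card_univ, ← Nat.card_eq_fintype_card] at heven
  have hrel : (S : Subgroup G).relIndex (Subgroup.normalizer ((S : Subgroup G) : Set G)) ∣
      (S : Subgroup G).index := Subgroup.relIndex_dvd_index_of_le Subgroup.le_normalizer
  have h2 : 2 ∣ (S : Subgroup G).index := dvd_trans (even_iff_two_dvd.mp heven) hrel
  exact S.not_dvd_index h2

end Main

end Cfsg.Agent.Lib.Helper9
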