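import Mathlib
import Cfsg.Agent.Lib.Helper10.XRepChief
import Cfsg.Agent.Lib.Helper10.PGroup
import Cfsg.Agent.Lib.Helper1.Coprime
import Cfsg.Agent.Lib.Helper1.Fitting
import Cfsg.Agent.Lib.Helper1.Frattini
import Cfsg.Agent.Lib.Helper20.PLen

/-!
# B & G, Theorem 3.6: the "easy case" (Lemma L)

If `x` of prime order acts without fixed points on a minimal normal `p`-subgroup `N` of `G`
contained in `B = [B, R]`, with `C_B(x)` a `Z`-group, then every `p`-subgroup of `B` centralizes `N`.
-/

set_option autoImplicit false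
set_option linter.style.haveILetI false
set_option linter.unusedSectionVars false

open Cfsg
open scoped commutatorElement

namespace Cfsg.Agent.Lib.Helper9.BG36

variable {G : Type*} [Group G]

/-- `O_p(G / C_G(N)) = 1` for a minimal normal `p`-subgroup `N`: a normal subgroup `S` of `G` all of
whose elements have a `p`-power power in `C_G(N)` centralizes `N`. -/
theorem le_centralizer_of_isPGroup_mod_centralizer [Finite G] {p : ℕ} [hp : Fact p.Prime]
    (N : Subgroup G) [N.Normal] (hN1 : N ≠ ⊥)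
    (hNmin : ∀ K : Subgroup G, K.Normal → K ≤ N → K = ⊥ ∨ K = N) (hNp : IsPGroup p N)
    (S : Subgroup G) [S.Normal]
    (hS : ∀ s ∈ S, ∃ k : ℕ, s ^ (p ^ k) ∈ Subgroup.centralizer (N : Set G)) :
    S ≤ Subgroup.centralizer (N : Set G) := by
  classical
  set D := Subgroup.centralizer (N : Set G) with hD
  -- a Sylow `p`-subgroup of `S`
  obtain ⟨Y⟩ : Nonempty (Sylow p ↥S) := inferInstance
  let Y' : Subgroup G := (Y : Subgroup ↥S).map S.subtype
  have hY'S : Y' ≤ S := Subgroup.map_subtype_le _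
  have hY'p : IsPGroup p Y' := Y.isPGroup'.map S.subtype
  -- `S ≤ (S ⊓ D) ⊔ Y'`
  have hcover : S ≤ (S ⊓ D) ⊔ Y' := by
    rw [← Subgroup.relIndex_eq_one]
    have hdvd1 : ((S ⊓ D) ⊔ Y').relIndex S ∣ (S ⊓ D).relIndex S :=
      Subgroup.relIndex_dvd_of_le_left S le_sup_left
    have hdvd2 : ((S ⊓ D) ⊔ Y').relIndex S ∣ Y'.relIndex S :=
      Subgroup.relIndex_dvd_of_le_left S le_sup_right
    -- `(S ⊓ D).relIndex S` is a power of `p`
    have hpow : ∃ n : ℕ, (S ⊓ D).relIndex S = p ^ n := by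
      haveI : ((S ⊓ D).subgroupOf S).Normal := by
        rw [Subgroup.inf_subgroupOf_left]
        exact Subgroup.Normal.subgroupOf inferInstance S
      have hq : IsPGroup p (↥S ⧸ (S ⊓ D).subgroupOf S) := by
        intro g
        induction g using QuotientGroup.induction_on with
        | H s =>
          obtain ⟨k, hk⟩ := hS s s.2
          refine ⟨k, ?_⟩
          rw [← QuotientGroup.mk_pow, QuotientGroup.eq_one_iff, Subgroup.mem_subgroupOf]
          exact Subgroup.mem_inf.mpr ⟨Subgroup.pow_mem _ s.2 _, hk⟩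
      obtain ⟨n, hn⟩ := IsPGroup.iff_card.mp hq
      exact ⟨n, hn⟩
    -- `Y'.relIndex S` is prime to `p`
    have hcop : ¬ p ∣ Y'.relIndex S := by
      have h1 : Y'.relIndex S = (Y : Subgroup ↥S).index := by
        unfold Subgroup.relIndex
        congr 1
        ext s
        rw [Subgroup.mem_subgroupOf]
        constructor
        · rintro ⟨y, hy, hys⟩
          have : y = s := Subtype.ext hys
          rw [← this]
          exact hy
        · intro h
          exact ⟨s, h, rfl⟩
      rw [h1]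
      exact Y.not_dvd_index
    obtain ⟨n, hn⟩ := hpow
    rw [hn] at hdvd1
    obtain ⟨m, -, hm⟩ := (Nat.dvd_prime_pow hp.out).mp hdvd1
    rcases Nat.eq_zero_or_pos m with rfl | hmpos
    · rw [hm, pow_zero]
    · exfalso
      apply hcop
      have : p ∣ ((S ⊓ D) ⊔ Y').relIndex S := by
        rw [hm]
        exact dvd_pow_self p hmpos.ne'
      exact this.trans hdvd2
  -- an element of `N` centralized by `Y'`
  have hNY : IsPGroup p ↥(Y' ⊔ N) := IsPGroup.to_sup_of_normal_right hY'p hNp
  haveI : ((N.subgroupOf (Y' ⊔ N))).Normal := Subgroup.Normal.subgroupOf inferInstance _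
  have hNsub : N.subgroupOf (Y' ⊔ N) ≠ ⊥ := by
    intro h
    apply hN1
    rw [eq_bot_iff]
    intro n hn
    have : (⟨n, Subgroup.mem_sup_right hn⟩ : ↥(Y' ⊔ N)) ∈ N.subgroupOf (Y' ⊔ N) :=
      Subgroup.mem_subgroupOf.mpr hn
    rw [h, Subgroup.mem_bot] at this
    exact Subgroup.mem_bot.mpr (congrArg Subtype.val this)
  obtain ⟨⟨n, hn⟩, hn1⟩ := Subgroup.ne_bot_iff_exists_ne_one.mp
    (Cfsg.Agent.Lib.Helper10.normal_inf_center_ne_bot hNY (N.subgroupOf (Y' ⊔ N)) hNsub)
  obtain ⟨hnN, hnc⟩ := Subgroup.mem_inf.mp hn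
  have hnN' : (n : G) ∈ N := Subgroup.mem_subgroupOf.mp hnN
  have hn1' : (n : G) ≠ 1 := by
    intro h
    apply hn1
    exact Subtype.ext (Subtype.ext h)
  have hnY : ∀ y ∈ Y', y * (n : G) = (n : G) * y := by
    intro y hy
    have := Subgroup.mem_center_iff.mp hnc ⟨y, Subgroup.mem_sup_left hy⟩
    exact congrArg Subtype.val this
  -- `n` is centralized by `S`
  have hnS : (n : G) ∈ N ⊓ Subgroup.centralizer (S : Set G) := by
    refine Subgroup.mem_inf.mpr ⟨hnN', ?_⟩
    have hle : (S ⊓ D) ⊔ Y' ≤ Subgroup.centralizer {(n : G)} := by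
      apply sup_le
      · intro d hd
        rw [Subgroup.mem_centralizer_iff]
        intro z hz
        rw [Set.mem_singleton_iff] at hz
        rw [hz]
        exact ((Subgroup.mem_centralizer_iff.mp (Subgroup.mem_inf.mp hd).2) _ hnN')
      · intro y hy
        rw [Subgroup.mem_centralizer_iff]
        intro z hz
        rw [Set.mem_singleton_iff] at hz
        rw [hz]
        exact (hnY y hy).symm
    rw [Subgroup.mem_centralizer_iff]
    intro s hs
    have := hle (hcover hs)
    rw [Subgroup.mem_centralizer_iff] at this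
    exact (this _ rfl).symm
  have hKn : (N ⊓ Subgroup.centralizer (S : Set G)).Normal := Subgroup.normal_inf_normal _ _
  rcases hNmin _ hKn inf_le_left with h | h
  · exfalso
    rw [h, Subgroup.mem_bot] at hnS
    exact hn1' hnS
  · have h1 : N ≤ Subgroup.centralizer (S : Set G) := by
      rw [← h]
      exact inf_le_right
    exact Subgroup.le_centralizer_iff.mp h1


/-- automorphisms of a cyclic group commute -/
theorem mulAut_comm_of_isCyclic {C : Type*} [Group C] [IsCyclic C] (a b : MulAut C) :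
    a * b = b * a := by
  apply (IsCyclic.mulAutMulEquiv C).injective
  rw [map_mul, map_mul, mul_comm]

/-- If `C` is a cyclic normal subgroup of `X`, the derived subgroup of `X` centralizes `C`. -/
theorem commutator_le_centralizer_of_isCyclic {X : Type*} [Group X] (C : Subgroup X) [C.Normal]
    [IsCyclic C] : commutator X ≤ Subgroup.centralizer (C : Set X) := by
  rw [commutator_def, Subgroup.commutator_le]
  intro g _ h _
  have h1 : (MulAut.conjNormal ⁅g, h⁆ : MulAut C) = 1 := by
    rw [map_commutatorElement, commutatorElement_eq_one_iff_commute]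
    exact mulAut_comm_of_isCyclic _ _
  rw [Subgroup.mem_centralizer_iff]
  intro c hc
  have h2 := congrArg (fun z : C => (z : X)) (DFunLike.congr_fun h1 ⟨c, hc⟩)
  simp only [MulAut.conjNormal_apply, MulAut.one_apply] at h2
  calc c * ⁅g, h⁆ = (⁅g, h⁆ * c * ⁅g, h⁆⁻¹) * ⁅g, h⁆ := by rw [h2]
    _ = ⁅g, h⁆ * c := by group

/-- **Lemma L** (B & G, Theorem 3.6, the case `C_N(x) = 1`). -/
theorem lemma_L [Finite G] [Group.IsSolvable G] (hodd : Odd (Nat.card G)) {p r : ℕ}
    [hp : Fact p.Prime] (hr : r.Prime)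
    (N B R : Subgroup G) [N.Normal] [B.Normal] (x : G) (hN1 : N ≠ ⊥)
    (hNmin : ∀ K : Subgroup G, K.Normal → K ≤ N → K = ⊥ ∨ K = N) (hNp : IsPGroup p N)
    (hNB : N ≤ B) (hBR : ⁅B, R⁆ = B) (hx : orderOf x = r) (hrB : ¬ r ∣ Nat.card B)
    (hCNx : N ⊓ Subgroup.centralizer ({x} : Set G) = ⊥)
    (hZ : IsZGroup ↥(B ⊓ Subgroup.centralizer ({x} : Set G)))
    (P0 : Subgroup G) (hP0 : IsPGroup p P0) (hP0B : P0 ≤ B) :
    P0 ≤ Subgroup.centralizer (N : Set G) := by
  classical
  set D := Subgroup.centralizer (N : Set G) with hD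
  haveI hDn : D.Normal := Subgroup.normal_centralizer
  have hxr : x ^ r = 1 := by rw [← hx]; exact pow_orderOf_eq_one x
  have hNnil : Group.IsNilpotent N := hNp.isNilpotent
  have hVU : (⊥ : Subgroup G) < N := bot_lt_iff_ne_bot.mpr hN1
  -- Step 1: the commutators `[k, x]`, `k ∈ B`, centralize `N`
  have step1 : ∀ k ∈ B, k * x * k⁻¹ * x⁻¹ ∈ D := by
    intro k hk
    rw [hD, Subgroup.mem_centralizer_iff]
    intro u hu
    have h1 := Cfsg.Agent.Lib.Helper10.XRep.chief_centralize inferInstance hodd B hr hrB x hxr N ⊥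
      hVU hNB hNnil (fun W hW _ hWN => hNmin W hW hWN)
      (fun u hu h => by
        rw [Subgroup.mem_bot] at h ⊢
        have h2 : x * u * x⁻¹ = u := by
          calc x * u * x⁻¹ = u * (u⁻¹ * (x * u * x⁻¹)) := by group
            _ = u := by rw [h, mul_one]
        have h3 : u ∈ N ⊓ Subgroup.centralizer ({x} : Set G) := by
          refine Subgroup.mem_inf.mpr ⟨hu, ?_⟩
          rw [Subgroup.mem_centralizer_iff]
          intro z hz
          rw [Set.mem_singleton_iff] at hz
          rw [hz]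
          calc x * u = (x * u * x⁻¹) * x := by group
            _ = u * x := by rw [h2]
        rw [hCNx, Subgroup.mem_bot] at h3
        exact h3) k hk u hu
    rw [Subgroup.mem_bot] at h1
    calc u * (k * x * k⁻¹ * x⁻¹)
        = (u * (k * x * k⁻¹ * x⁻¹) * u⁻¹ * (k * x * k⁻¹ * x⁻¹)⁻¹) * (k * x * k⁻¹ * x⁻¹) * u := by
          group
      _ = (k * x * k⁻¹ * x⁻¹) * u := by rw [h1, one_mul]
  -- the quotient map
  let ρ : G →* G ⧸ D := QuotientGroup.mk' D
  have hρsurj : Function.Surjective ρ := QuotientGroup.mk'_surjective D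
  have hρker : ∀ g : G, ρ g = 1 ↔ g ∈ D := fun g => QuotientGroup.eq_one_iff g
  -- `zpowers x` centralizes `B` modulo `D`
  have hzp : Subgroup.zpowers x ≤ (Subgroup.centralizer ((B.map ρ : Subgroup (G ⧸ D)) : Set (G ⧸ D))).comap ρ := by
    rw [Subgroup.zpowers_le, Subgroup.mem_comap, Subgroup.mem_centralizer_iff]
    rintro _ ⟨k, hk, rfl⟩
    have h1 := (hρker _).mpr (step1 k hk)
    rw [map_mul, map_mul, map_mul, map_inv, map_inv] at h1
    calc ρ k * ρ x = (ρ k * ρ x * (ρ k)⁻¹ * (ρ x)⁻¹) * ρ x * ρ k := by group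
      _ = ρ x * ρ k := by rw [h1, one_mul]
  -- Step 2: `B` is covered by `C_B(x)` modulo `D`
  have hA : Cfsg.Agent.Lib.Helper1.CoprimeAct (Subgroup.zpowers x) B := by
    refine ⟨?_, ?_, Or.inl inferInstance⟩
    · rw [Subgroup.normalizer_eq_top]
      exact le_top
    · rw [Nat.card_zpowers, hx]
      exact (Nat.Prime.coprime_iff_not_dvd hr).mpr hrB
  have step2 : B.map ρ = (B ⊓ Subgroup.centralizer ({x} : Set G)).map ρ := by
    apply le_antisymm
    · rintro _ ⟨k, hk, rfl⟩
      have hBD : (B ⊓ D).Normal := Subgroup.normal_inf_normal _ _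
      obtain ⟨u, hu, hku⟩ := hA.exists_mul_mem_centralizer (N := B ⊓ D) inf_le_left
        (by rw [Subgroup.normalizer_eq_top]; exact le_top) k hk
        (by
          intro a ha
          refine Subgroup.mem_inf.mpr ⟨?_, ?_⟩
          · exact Subgroup.mul_mem _ (Subgroup.inv_mem _ hk)
              (Subgroup.Normal.conj_mem inferInstance k hk a)
          · rw [← hρker]
            have h1 := hzp ha
            rw [Subgroup.mem_comap, Subgroup.mem_centralizer_iff] at h1
            have h2 := h1 (ρ k) ⟨k, hk, rfl⟩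
            rw [map_mul, map_mul, map_mul, map_inv, map_inv]
            calc (ρ k)⁻¹ * (ρ a * ρ k * (ρ a)⁻¹) = (ρ k)⁻¹ * (ρ k * ρ a) * (ρ a)⁻¹ := by
                  rw [h2]; group
              _ = 1 := by group)
      refine ⟨k * u, ?_, ?_⟩
      · refine Subgroup.mem_inf.mpr ⟨(Subgroup.mem_inf.mp hku).1, ?_⟩
        have h1 := (Subgroup.mem_inf.mp hku).2
        rw [Subgroup.mem_centralizer_iff] at h1 ⊢
        intro z hz
        rw [Set.mem_singleton_iff] at hz
        rw [hz]
        exact h1 x (Subgroup.mem_zpowers x)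
      · rw [map_mul, (hρker u).mpr (Subgroup.mem_inf.mp hu).2, mul_one]
    · exact Subgroup.map_mono inf_le_left
  -- Step 3: the image of `B` is a `Z`-group
  have hZ' : IsZGroup ↥(B.map ρ) := by
    rw [step2]
    exact IsZGroup.of_surjective
      (f := ρ.subgroupMap (B ⊓ Subgroup.centralizer ({x} : Set G)))
      (ρ.subgroupMap_surjective _)
  -- Step 4: the image of `B` is nilpotent
  haveI hBn : (B.map ρ).Normal := Subgroup.Normal.map inferInstance ρ hρsurj
  have hBder : B.map ρ ≤ commutator (G ⧸ D) := by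
    have h1 : B.map ρ = ⁅B.map ρ, R.map ρ⁆ := by
      rw [← Subgroup.map_commutator, hBR]
    rw [h1, commutator_def]
    exact Subgroup.commutator_mono le_top le_top
  haveI hCcyc : IsCyclic ↥(⁅B.map ρ, B.map ρ⁆ : Subgroup (G ⧸ D)) := by
    haveI := hZ'
    have h1 : IsCyclic (commutator ↥(B.map ρ)) := IsZGroup.isCyclic_commutator _
    rw [← Subgroup.map_subtype_commutator]
    exact isCyclic_of_surjective _ ((B.map ρ).subtype.subgroupMap_surjective (commutator ↥(B.map ρ)))
  have hcent : B.map ρ ≤ Subgroup.centralizer ((⁅B.map ρ, B.map ρ⁆ : Subgroup (G ⧸ D)) : Set (G ⧸ D)) :=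
    hBder.trans (commutator_le_centralizer_of_isCyclic _)
  have hnil : Group.IsNilpotent ↥(B.map ρ) := by
    apply Cfsg.Agent.Lib.Helper1.isNilpotent_of_commutator_commutator_eq_bot
    rw [Subgroup.commutator_eq_bot_iff_le_centralizer]
    exact Subgroup.le_centralizer_iff.mp hcent
  -- Step 5: the Sylow `p`-subgroup of the image
  obtain ⟨P⟩ : Nonempty (Sylow p ↥(B.map ρ)) := inferInstance
  haveI hPn : (P : Subgroup ↥(B.map ρ)).Normal := inferInstance
  haveI hPchar : (P : Subgroup ↥(B.map ρ)).Characteristic := Sylow.characteristic_of_normal P hPn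
  let Ŝ : Subgroup (G ⧸ D) := (P : Subgroup ↥(B.map ρ)).map (B.map ρ).subtype
  haveI hŜn : Ŝ.Normal := by
    rw [← Subgroup.normalizer_eq_top_iff, eq_top_iff]
    have h1 := Cfsg.Agent.Lib.Helper1.normalizer_le_normalizer_map_of_characteristic (B.map ρ)
      (P : Subgroup ↥(B.map ρ))
    rw [Subgroup.normalizer_eq_top] at h1
    exact h1
  have hŜp : IsPGroup p Ŝ := P.isPGroup'.map _
  haveI hStn : (Ŝ.comap ρ).Normal := Subgroup.Normal.comap inferInstance ρ
  have hStD : Ŝ.comap ρ ≤ D := by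
    apply le_centralizer_of_isPGroup_mod_centralizer N hN1 hNmin hNp (Ŝ.comap ρ)
    intro s hs
    obtain ⟨k, hk⟩ := hŜp ⟨ρ s, hs⟩
    refine ⟨k, ?_⟩
    rw [← hD, ← hρker, map_pow]
    exact congrArg Subtype.val hk
  -- `P0` maps into the Sylow subgroup
  refine le_trans ?_ hStD
  intro g hg
  rw [Subgroup.mem_comap]
  have hgB : ρ g ∈ B.map ρ := ⟨g, hP0B hg, rfl⟩
  have hQp : IsPGroup p ((P0.map ρ).subgroupOf (B.map ρ)) :=
    (hP0.map ρ).comap_of_injective _ (Subgroup.subtype_injective _)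
  obtain ⟨Q, hQ⟩ := hQp.exists_le_sylow
  have hQP : Q = P := by
    obtain ⟨c, hc⟩ := MulAction.exists_smul_eq ↥(B.map ρ) Q P
    haveI : (Q : Subgroup ↥(B.map ρ)).Normal := inferInstance
    rw [Sylow.smul_eq_of_normal] at hc
    exact hc
  have h1 : (⟨ρ g, hgB⟩ : ↥(B.map ρ)) ∈ (P : Subgroup ↥(B.map ρ)) := by
    rw [← hQP]
    apply hQ
    rw [Subgroup.mem_subgroupOf]
    exact ⟨g, hg, rfl⟩
  exact ⟨⟨ρ g, hgB⟩, h1, rfl⟩

end Cfsg.Agent.Lib.Helper9.BG36
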