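import Mathlib
import Cfsg.Agent.Lib.Helper1.Coprime
import Cfsg.Agent.Lib.Helper1.Hall
import Cfsg.Agent.Lib.Helper20.PLen

/-!
# B & G, Theorem 3.6: quotient transfer

The hypotheses of B & G, Theorem 3.6 pass to `G ⧸ N` for a normal subgroup `N ≤ H` of `G`.
-/

set_option autoImplicit false
set_option linter.style.haveILetI false
set_option linter.unusedSectionVars false

open Cfsg
open scoped commutatorElement

namespace Cfsg.Agent.Lib.Helper9.BG36

variable {G : Type*} [Group G]

/-- **Quotient transfer** for B & G, Theorem 3.6. -/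
theorem quotient_transfer [Finite G] (H R R₀ N : Subgroup G) [H.Normal] [N.Normal]
    (hHall : (Nat.card H).Coprime H.index) (hR : Subgroup.IsComplement' H R) (hR₀ : R₀ ≤ R)
    (hR₀p : (Nat.card R₀).Prime)
    (hZ : IsZGroup ↥(H ⊓ Subgroup.centralizer (R₀ : Set G))) (hNH : N ≤ H) :
    (H.map (QuotientGroup.mk' N)).Normal ∧
    (Nat.card (H.map (QuotientGroup.mk' N))).Coprime (H.map (QuotientGroup.mk' N)).index ∧
    Subgroup.IsComplement' (H.map (QuotientGroup.mk' N)) (R.map (QuotientGroup.mk' N)) ∧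
    R₀.map (QuotientGroup.mk' N) ≤ R.map (QuotientGroup.mk' N) ∧
    (Nat.card (R₀.map (QuotientGroup.mk' N))).Prime ∧
    IsZGroup ↥(H.map (QuotientGroup.mk' N) ⊓
      Subgroup.centralizer ((R₀.map (QuotientGroup.mk' N) : Subgroup (G ⧸ N)) : Set (G ⧸ N))) ∧
    ⁅H.map (QuotientGroup.mk' N), R.map (QuotientGroup.mk' N)⁆ =
      (⁅H, R⁆ : Subgroup G).map (QuotientGroup.mk' N) := by
  classical
  set π : G →* G ⧸ N := QuotientGroup.mk' N with hπ
  have hπsurj : Function.Surjective π := QuotientGroup.mk'_surjective N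
  have hπker : ∀ g : G, π g = 1 ↔ g ∈ N := fun g => QuotientGroup.eq_one_iff g
  have hHR : H ⊓ R = ⊥ := disjoint_iff.mp hR.disjoint
  have hcardR : Nat.card R = H.index := (hR.symm.index_eq_card).symm
  have hcopHR : (Nat.card H).Coprime (Nat.card R) := by rw [hcardR]; exact hHall
  have hRN : R ⊓ N = ⊥ := by
    rw [eq_bot_iff, ← hHR]
    exact le_inf (inf_le_right.trans hNH) inf_le_left
  have hcardRbar : Nat.card (R.map π) = Nat.card R :=
    Cfsg.Agent.Lib.Helper1.card_map_mk_of_disjoint N hRN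
  have hcardHbar : Nat.card (H.map π) * Nat.card N = Nat.card H :=
    Cfsg.Agent.Lib.Helper1.card_map_mk_of_le N hNH
  have hdvdH : Nat.card (H.map π) ∣ Nat.card H := Subgroup.card_map_dvd H π
  refine ⟨Subgroup.Normal.map inferInstance π hπsurj, ?_, ?_, Subgroup.map_mono hR₀, ?_, ?_, ?_⟩
  · -- Hall
    exact Nat.Coprime.coprime_dvd_left hdvdH
      (Nat.Coprime.coprime_dvd_right (Subgroup.index_map_dvd H hπsurj) hHall)
  · -- complement
    apply Subgroup.isComplement'_of_coprime
    · have h1 : Nat.card H * Nat.card R = Nat.card G := hR.card_mul_card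
      have h2 : Nat.card (G ⧸ N) * Nat.card N = Nat.card G :=
        (Subgroup.card_eq_card_quotient_mul_card_subgroup N).symm
      have hNpos : 0 < Nat.card N := Nat.card_pos
      apply Nat.eq_of_mul_eq_mul_right hNpos
      rw [h2, ← h1, ← hcardHbar, hcardRbar]
      ring
    · rw [hcardRbar]
      exact Nat.Coprime.coprime_dvd_left hdvdH hcopHR
  · -- `R₀.map π` has prime order
    have hR₀N : R₀ ⊓ N = ⊥ := by
      rw [eq_bot_iff, ← hRN]
      exact inf_le_inf_right N hR₀
    rw [Cfsg.Agent.Lib.Helper1.card_map_mk_of_disjoint N hR₀N]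
    exact hR₀p
  · -- the `Z`-group condition
    haveI : IsCyclic ↥R₀ := isCyclic_of_prime_card (p := Nat.card R₀) (hp := ⟨hR₀p⟩) rfl
    have hA : Cfsg.Agent.Lib.Helper1.CoprimeAct R₀ H := by
      refine ⟨?_, ?_, Or.inl ?_⟩
      · rw [Subgroup.normalizer_eq_top]
        exact le_top
      · exact Nat.Coprime.coprime_dvd_left (Subgroup.card_dvd_of_le hR₀) hcopHR.symm
      · haveI : IsMulCommutative ↥R₀ := ⟨⟨fun a b => (IsCyclic.commGroup).mul_comm a b⟩⟩
        exact Group.isSolvable_of_comm (fun a b => (IsCyclic.commGroup).mul_comm a b)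
    have heq : H.map π ⊓ Subgroup.centralizer ((R₀.map π : Subgroup (G ⧸ N)) : Set (G ⧸ N)) =
        (H ⊓ Subgroup.centralizer (R₀ : Set G)).map π := by
      apply le_antisymm
      · intro y hy
        obtain ⟨hyH, hyC⟩ := Subgroup.mem_inf.mp hy
        obtain ⟨h, hh, rfl⟩ := hyH
        obtain ⟨u, hu, hhu⟩ := hA.exists_mul_mem_centralizer hNH
          (by rw [Subgroup.normalizer_eq_top]; exact le_top) h hh
          (by
            intro a ha
            rw [← hπker, map_mul, map_mul, map_mul, map_inv, map_inv]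
            have h1 := (Subgroup.mem_centralizer_iff.mp hyC) (π a) ⟨a, ha, rfl⟩
            calc (π h)⁻¹ * (π a * π h * (π a)⁻¹) = (π h)⁻¹ * (π h * π a) * (π a)⁻¹ := by rw [h1]; group
              _ = 1 := by group)
        refine ⟨h * u, hhu, ?_⟩
        rw [map_mul, (hπker u).mpr hu, mul_one]
      · rintro _ ⟨c, hc, rfl⟩
        obtain ⟨hcH, hcC⟩ := Subgroup.mem_inf.mp hc
        refine Subgroup.mem_inf.mpr ⟨⟨c, hcH, rfl⟩, ?_⟩
        rw [Subgroup.mem_centralizer_iff]
        rintro _ ⟨a, ha, rfl⟩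
        rw [← map_mul, ← map_mul, (Subgroup.mem_centralizer_iff.mp hcC) a ha]
    rw [heq]
    exact IsZGroup.of_surjective
      (f := π.subgroupMap (H ⊓ Subgroup.centralizer (R₀ : Set G)))
      (π.subgroupMap_surjective _)
  · rw [Subgroup.map_commutator]

/-- `B.map (mk' N)` is the quotient of `B` by `N ∩ B`. -/
theorem pLengthLE_quotient_subgroupOf_of_map [Finite G] {p k : ℕ} [Fact p.Prime] (B N : Subgroup G) [N.Normal]
    (_hNB : N ≤ B) (h : PLengthLE p k ↥(B.map (QuotientGroup.mk' N))) :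
    PLengthLE p k (↥B ⧸ N.subgroupOf B) := by
  set f : ↥B →* ↥(B.map (QuotientGroup.mk' N)) := (QuotientGroup.mk' N).subgroupMap B with hf
  have hfs : Function.Surjective f := (QuotientGroup.mk' N).subgroupMap_surjective B
  have hker : f.ker = N.subgroupOf B := by
    ext b
    rw [MonoidHom.mem_ker, Subgroup.mem_subgroupOf]
    constructor
    · intro hb
      have := congrArg Subtype.val hb
      exact (QuotientGroup.eq_one_iff (b : G)).mp this
    · intro hb
      apply Subtype.ext
      exact (QuotientGroup.eq_one_iff (b : G)).mpr hb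
  have e1 : ↥B ⧸ f.ker ≃* ↥(B.map (QuotientGroup.mk' N)) :=
    QuotientGroup.quotientKerEquivOfSurjective f hfs
  have e2 : ↥B ⧸ f.ker ≃* ↥B ⧸ N.subgroupOf B := QuotientGroup.quotientMulEquivOfEq hker
  exact Cfsg.Agent.Lib.Helper20.PLen.pLengthLE_of_mulEquiv (e1.symm.trans e2) h

end Cfsg.Agent.Lib.Helper9.BG36
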