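import Mathlib
import Cfsg.Agent.Lib.Helper9.BGPrime4
import Cfsg.Agent.S1420

/-!
# Helper9 library: B & G Section 13 (prime action), part 5

The hypothesis-propositions `H1420b`, `H1420c`, `H1424` from the landed results, `H1423` from
a statement of the type of S1423, and the prime action theorem in the form of S1427.
-/

set_option autoImplicit false
set_option linter.style.haveILetI false
set_option linter.unusedSectionVars false
set_option linter.unusedVariables false

open Cfsg
open scoped commutatorElement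
open Cfsg.Agent.Lib.Helper10.BG
open Cfsg.Agent.Lib.Helper9.BGExc

namespace Cfsg.Agent.Lib.Helper9.BGPrime

variable {G : Type*} [Group G] [Finite G]

theorem h1420b (hG : IsMinSimpleOddOrder G) : H1420b G := by
  intro M E hM hE u hu v hv
  have h1 : IsMulCommutative ↥(⁅E, E⁆ : Subgroup G) := (Cfsg.Agent.S1420.result hG M hM E hE).2.1
  exact congrArg Subtype.val (h1.is_comm.comm (⟨u, hu⟩ : ↥(⁅E, E⁆ : Subgroup G)) ⟨v, hv⟩)

theorem h1420c (hG : IsMinSimpleOddOrder G) : H1420c G := by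
  intro M hM p P hp hP hPM hnc
  obtain ⟨E, hE, -⟩ := exists_isComplIn_sigmaCore_ge hG hM (X := ⊥) bot_le (by
    rw [Subgroup.card_bot]; exact Nat.coprime_one_left _)
  exact (Cfsg.Agent.S1420.result hG M hM E hE).2.2.1 p P hp hP hPM hnc

theorem h1424 (hG : IsMinSimpleOddOrder G) : H1424 G := by
  intro M hM q hq X hXq hX1 hXM Mstar hMs hne hNX
  haveI : Fact q.Prime := ⟨hq.1⟩
  have hXMs : X ≤ Mstar := Subgroup.le_normalizer.trans hNX
  obtain ⟨S, hS, hXS⟩ := exists_isSylowIn_ge (le_inf hXM hXMs) hXq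
  obtain ⟨h1, h2⟩ := lemma_12_15 hG hM hq hXq hX1 hNX hS hXS
  exact ⟨S, hXS, hS.le.trans inf_le_left, h2, h1,
    fun g => ne_conj_of_normalizer_le hG hM hMs hq hXq hX1 hXM hNX hne g⟩

/-- the type of statement S1423. -/
def T1423 (G : Type*) [Group G] : Prop :=
  ∀ (M : Subgroup G) (_ : IsCoatom M) (p : ℕ) [Fact p.Prime] (_ : p ∈ Cfsg.sigma M) (X : Subgroup G)
    (_ : X ≤ M) (_ : Nat.card X = p)
    (P : Sylow p ↥(Cfsg.sigmaCore M))
    (_ : p ∈ Cfsg.beta M ∨ X ≤ ⁅Cfsg.sigmaCore M, Cfsg.sigmaCore M⁆),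
    (Subgroup.centralizer (X : Set G) ≤ M ∧ ∀ L : Subgroup G, IsCoatom L →
      Subgroup.centralizer (X : Set G) ≤ L → L = M) ∧
    Cfsg.InUniqueMaximal ((P : Subgroup ↥(Cfsg.sigmaCore M)).map (Cfsg.sigmaCore M).subtype) ∧
      (P : Subgroup ↥(Cfsg.sigmaCore M)).map (Cfsg.sigmaCore M).subtype ≤ M

theorem h1423_of (h : T1423 G) : H1423 G := by
  intro M hM q hq X hXM hXcard hXle
  haveI : Fact q.Prime := ⟨hq.1⟩
  refine ⟨?_, ?_⟩
  · exact (h M hM q hq X hXM hXcard default (Or.inr hXle)).1.2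
  · intro Q L hQ hL hQL
    obtain ⟨-, hU, hPM⟩ := h M hM q hq X hXM hXcard hQ.toSylow (Or.inr hXle)
    have h1 : ((hQ.toSylow : Sylow q ↥(sigmaCore M)) : Subgroup ↥(sigmaCore M)).map
        (sigmaCore M).subtype = Q := by
      rw [hQ.coe_toSylow, Subgroup.map_subgroupOf_eq_of_le hQ.le]
    rw [h1] at hU hPM
    exact hU.unique ⟨hL, hQL⟩ ⟨hM, hPM⟩

/-- the prime action theorem, in the form of S1427. -/
theorem prime_action (hG : IsMinSimpleOddOrder G) (h23 : T1423 G)
    (M : Subgroup G) (hM : IsCoatom M) (E : Subgroup G) (hE : IsComplIn E (sigmaCore M) M)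
    (p : ℕ) [Fact p.Prime] (S : Sylow p E) (hS1 : (S : Subgroup E) ≠ ⊥)
    (hSc : IsCyclic (S : Subgroup E)) :
    ∀ x ∈ (S : Subgroup E).map E.subtype, x ≠ 1 →
      sigmaCore M ⊓ Subgroup.centralizer ({x} : Set G) =
        sigmaCore M ⊓ Subgroup.centralizer
          (((S : Subgroup E).map E.subtype : Subgroup G) : Set G) := by
  intro x hx hx1
  have hp : p.Prime := Fact.out
  have hSs : IsSylowIn p ((S : Subgroup E).map E.subtype) E := isSylowIn_of_sylow S
  have hSc' : IsCyclic ↥((S : Subgroup E).map E.subtype) := by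
    haveI := hSc
    exact isCyclic_of_surjective
      ((S : Subgroup E).equivMapOfInjective E.subtype E.subtype_injective).toMonoidHom
      ((S : Subgroup E).equivMapOfInjective E.subtype E.subtype_injective).surjective
  -- the subgroup of order `p` of `⟨x⟩`
  have hxp : IsPGroup p (Subgroup.zpowers x) :=
    hSs.isPGroup.to_le (Subgroup.zpowers_le.mpr hx)
  have hx1' : Subgroup.zpowers x ≠ ⊥ := by
    rw [Ne, Subgroup.zpowers_eq_bot]
    exact hx1
  have hd : p ∣ Nat.card (Subgroup.zpowers x) := dvd_card_of_pgroup_ne_bot hxp hx1'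
  obtain ⟨y, hy⟩ := exists_prime_orderOf_dvd_card' (G := ↥(Subgroup.zpowers x)) p hd
  have hyo : orderOf (y : G) = p := by rw [Subgroup.orderOf_coe]; exact hy
  have hP₀x : Subgroup.zpowers (y : G) ≤ Subgroup.zpowers x := Subgroup.zpowers_le.mpr y.2
  have hcfg : PCfg p M E ((S : Subgroup E).map E.subtype) (Subgroup.zpowers (y : G)) :=
    ⟨hM, hE, hSs, hSc', hP₀x.trans (Subgroup.zpowers_le.mpr hx), by rw [Nat.card_zpowers, hyo]⟩
  have hmain := hcfg.cent_le_centralizer hG (h1420b hG) (h1420c hG) (h1423_of h23) (h1424 hG)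
  apply le_antisymm
  · refine le_inf inf_le_left (le_trans ?_ hmain)
    refine le_inf inf_le_left (inf_le_right.trans ?_)
    intro g hg
    have hg' : g ∈ Subgroup.centralizer ((Subgroup.zpowers x : Subgroup G) : Set G) :=
      Cfsg.Agent.Lib.Helper9.mem_centralizer_zpowers_iff.mpr hg
    exact Subgroup.centralizer_le (by exact_mod_cast hP₀x) hg'
  · refine le_inf inf_le_left (inf_le_right.trans ?_)
    apply Subgroup.centralizer_le
    intro z hz
    rw [Set.mem_singleton_iff] at hz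
    rw [hz]
    exact hx

end Cfsg.Agent.Lib.Helper9.BGPrime
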