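import Cfsg.Agent.Lib.Helper15.CTB.L10

/-!
# S4146 (β) farm (architect helper15), spare of leaf L11 by helper9.
-/

set_option autoImplicit false

open Cfsg.Agent.Lib.Helper24.CT Cfsg.Agent.Lib.Helper15.CTB

namespace Cfsg.Agent.Lib.Helper9.CTBL11

variable {G : Type*} [Group G]

theorem mem_zpowers_mul_left [Finite G] {x y : G} (hxy : Commute x y)
    (hcop : (orderOf x).Coprime (orderOf y)) : x ∈ Subgroup.zpowers (x * y) := by
  obtain ⟨k, hk⟩ : ∃ k : ℕ, (x ^ orderOf y) ^ k = x := exists_pow_eq_self_of_coprime hcop.symm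
  have h1 : (x * y) ^ orderOf y = x ^ orderOf y := by
    rw [hxy.mul_pow, pow_orderOf_eq_one, mul_one]
  have h2 : ((x * y) ^ orderOf y) ^ k ∈ Subgroup.zpowers (x * y) :=
    Subgroup.pow_mem _ (Subgroup.pow_mem _ (Subgroup.mem_zpowers (x * y)) _) _
  rwa [h1, hk] at h2

theorem centralizer_mul_of_coprime [Finite G] {x y : G} (hxy : Commute x y)
    (hcop : (orderOf x).Coprime (orderOf y)) : Cz (x * y) = Cz x ⊓ Cz y := by
  apply le_antisymm
  · apply le_inf
    · exact centralizer_le_of_mem_zpowers' (mem_zpowers_mul_left hxy hcop)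
    · have h2 : y ∈ Subgroup.zpowers (x * y) := by
        have := mem_zpowers_mul_left hxy.symm hcop.symm
        rwa [hxy.symm.eq] at this
      exact centralizer_le_of_mem_zpowers' h2
  · intro g hg
    obtain ⟨hgx, hgy⟩ := Subgroup.mem_inf.mp hg
    rw [mem_Cz] at hgx hgy ⊢
    calc g * (x * y) = (g * x) * y := by group
      _ = (x * g) * y := by rw [hgx]
      _ = x * (g * y) := by group
      _ = x * (y * g) := by rw [hgy]
      _ = x * y * g := by group

theorem cl_mul_of_coprime [Finite G] {x y : G} (hxy : Commute x y)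
    (hcop : (orderOf x).Coprime (orderOf y)) :
    cl (x * y) = cl x * (Cz x ⊓ Cz y).relIndex (Cz x) := by
  rw [cl_def, cl_def]
  have h1 : Subgroup.centralizer ({x * y} : Set G) = Cz x ⊓ Cz y := centralizer_mul_of_coprime hxy hcop
  rw [h1, mul_comm]
  exact (Subgroup.relIndex_mul_index (inf_le_left : Cz x ⊓ Cz y ≤ Cz x)).symm

end Cfsg.Agent.Lib.Helper9.CTBL11
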