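import Mathlib
import Cfsg.Agent.Lib.Helper9.ClassGraph6

/-!
Class-size prime graph: two primes `p`, `q` at distance at least `4`.
`P`, `Q` are (supersets of) the closed neighbourhoods of `p`, `q`; no class size is divisible by a
prime of `P` and a prime of `Q` simultaneously.  Part 1: the abelian normal subgroup `K`.
-/

set_option autoImplicit false
set_option linter.style.haveILetI false
set_option linter.unusedSectionVars false

namespace Cfsg.Agent.Lib.Helper9.ClassGraph

open Subgroup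
open scoped Pointwise

variable {G : Type*} [Group G]

/-- class product lemma for coprime class sizes without mixed prime divisors -/
theorem cs_mul_eq_of_lt [Finite G] {x y : G} (hcop : (cs x).Coprime (cs y)) (hlt : cs x < cs y)
    (hmix : ∀ u v : ℕ, u.Prime → v.Prime → u ∣ cs x → v ∣ cs y → u ∣ cs (x * y) →
      v ∣ cs (x * y) → False) : cs (x * y) = cs y := by
  have hdvd := cs_mul_dvd hcop
  have hle := cs_le_cs_mul_right hcop
  by_cases h1 : (cs (x * y)).Coprime (cs x)
  · have h2 : cs (x * y) ∣ cs y := h1.dvd_of_dvd_mul_left hdvd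
    exact le_antisymm (Nat.le_of_dvd (cs_pos y) h2) hle
  · exfalso
    obtain ⟨u, hu, hud⟩ := Nat.exists_prime_and_dvd h1
    have hu1 : u ∣ cs (x * y) := hud.trans (Nat.gcd_dvd_left _ _)
    have hu2 : u ∣ cs x := hud.trans (Nat.gcd_dvd_right _ _)
    have h3 : (cs (x * y)).Coprime (cs y) := by
      by_contra h3
      obtain ⟨v, hv, hvd⟩ := Nat.exists_prime_and_dvd h3
      exact hmix u v hu hv hu2 (hvd.trans (Nat.gcd_dvd_right _ _)) hu1
        (hvd.trans (Nat.gcd_dvd_left _ _))
    have h4 : cs (x * y) ∣ cs x := h3.dvd_of_dvd_mul_right hdvd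
    have h5 := Nat.le_of_dvd (cs_pos x) h4
    omega

/-- the data: `p`, `q` with closed neighbourhoods inside `P`, `Q`, no mixing of `P` and `Q`,
`a₀` of maximal class size among the elements with class size divisible by `p`, and `b₀` with
class size divisible by `q` and larger than that of `a₀` -/
structure Far (G : Type*) [Group G] where
  p : ℕ
  q : ℕ
  P : Set ℕ
  Q : Set ℕ
  hp : p.Prime
  hq : q.Prime
  hA : ∀ a : G, p ∣ cs a → IsS P (cs a)
  hB : ∀ b : G, q ∣ cs b → IsS Q (cs b)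
  hPQ : ∀ (g : G) (u v : ℕ), u.Prime → v.Prime → u ∈ P → v ∈ Q → u ∣ cs g → v ∣ cs g → False
  a₀ : G
  b₀ : G
  ha₀ : p ∣ cs a₀
  hb₀ : q ∣ cs b₀
  hamax : ∀ a : G, p ∣ cs a → cs a ≤ cs a₀
  hlt : cs a₀ < cs b₀

namespace Far

variable [Finite G] (h : Far G)

theorem p_mem_P : h.p ∈ h.P := h.hA h.a₀ h.ha₀ h.p h.hp h.ha₀

theorem q_mem_Q : h.q ∈ h.Q := h.hB h.b₀ h.hb₀ h.q h.hq h.hb₀

theorem coprime_PQ {m n : ℕ} {g : G} (hm : IsS h.P m) (hn : IsS h.Q n) (hg : m ∣ cs g) :
    m.Coprime n := by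
  apply Nat.coprime_of_dvd
  intro k hk hkm hkn
  exact h.hPQ g k k hk hk (hm k hk hkm) (hn k hk hkn) (hkm.trans hg) (hkm.trans hg)

theorem coprime_PQ' {m n : ℕ} {g : G} (hm : IsS h.P m) (hn : IsS h.Q n) (hg : n ∣ cs g) :
    m.Coprime n := by
  apply Nat.coprime_of_dvd
  intro k hk hkm hkn
  exact h.hPQ g k k hk hk (hm k hk hkm) (hn k hk hkn) (hkn.trans hg) (hkn.trans hg)

theorem coprime_AB {a b : G} (ha : h.p ∣ cs a) (hb : h.q ∣ cs b) : (cs a).Coprime (cs b) :=
  h.coprime_PQ (h.hA a ha) (h.hB b hb) (dvd_refl _)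

theorem a₀_not_mem_center : h.a₀ ∉ center G := by
  intro hz
  have h1 := (cs_eq_one_iff h.a₀).mpr hz
  have h2 := h.ha₀
  rw [h1] at h2
  exact h.hp.one_lt.ne' (Nat.dvd_one.mp h2)

theorem cs_mul_b₀ {a : G} (ha : h.p ∣ cs a) : cs (a * h.b₀) = cs h.b₀ := by
  apply cs_mul_eq_of_lt (h.coprime_AB ha h.hb₀) (lt_of_le_of_lt (h.hamax a ha) h.hlt)
  intro u v hu hv hua hvb hu' hv'
  exact h.hPQ (a * h.b₀) u v hu hv (h.hA a ha u hu hua) (h.hB h.b₀ h.hb₀ v hv hvb) hu' hv'

/-- the normal subgroup `M` of `Q`-order -/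
def M : Subgroup G := stabL h.b₀

instance M_normal : (h.M).Normal := stabL_normal h.b₀

theorem card_M_dvd : Nat.card h.M ∣ cs h.b₀ := card_stabL_dvd h.b₀

theorem isS_card_M : IsS h.Q (Nat.card h.M) := (h.hB h.b₀ h.hb₀).of_dvd h.card_M_dvd

/-- the generating set: central elements and elements with class size divisible by `p` -/
def T : Set G := {t | t ∈ center G ∨ h.p ∣ cs t}

/-- the abstract core -/
def core : Core G where
  T := h.T
  M := h.M
  hMn := h.M_normal
  conj_mem := by
    intro t ht g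
    rcases ht with ht | ht
    · left
      exact (inferInstance : (center G).Normal).conj_mem t ht g
    · right
      rw [cs_conj]; exact ht
  comm_mem := by
    intro t ht g
    rcases ht with ht | ht
    · have h1 : g * t = t * g := mem_center_iff.mp ht g
      have : t⁻¹ * (g * t * g⁻¹) = 1 := by rw [h1]; group
      rw [this]; exact one_mem _
    · exact mem_stabL_of_cs_mul_eq (h.coprime_AB ht h.hb₀) (h.cs_mul_b₀ ht) g
  cop := by
    intro t ht
    rcases ht with ht | ht
    · rw [(cs_eq_one_iff t).mpr ht]; exact Nat.coprime_one_right _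
    · exact ((h.coprime_AB ht h.hb₀).coprime_dvd_right h.card_M_dvd).symm

/-- the abelian normal subgroup -/
def K : Subgroup G := h.core.K

instance K_normal : (h.K).Normal := h.core.K_normal

theorem mem_K_of_dvd {a : G} (ha : h.p ∣ cs a) : a ∈ h.K := h.core.T_subset_K (Or.inr ha)

theorem center_le_K : center G ≤ h.K := fun _ hz => h.core.T_subset_K (Or.inl hz)

theorem a₀_mem_K : h.a₀ ∈ h.K := h.mem_K_of_dvd h.ha₀

theorem K_comm {x y : G} (hx : x ∈ h.K) (hy : y ∈ h.K) : x * y = y * x := h.core.K_comm hx hy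

theorem K_comm_mem {k : G} (hk : k ∈ h.K) (g : G) : k⁻¹ * (g * k * g⁻¹) ∈ h.M :=
  h.core.K_comm_mem hk g

theorem K_le_cent_M : h.K ≤ centralizer (h.M : Set G) := h.core.K_le_cent_M

theorem not_dvd_of_not_mem {g : G} (hg : g ∉ h.K) : ¬ h.p ∣ cs g := fun hd => hg (h.mem_K_of_dvd hd)

theorem p_not_dvd_card_M : ¬ h.p ∣ Nat.card h.M := by
  intro hd
  exact h.hPQ h.b₀ h.p h.p h.hp h.hp h.p_mem_P (h.isS_card_M h.p h.hp hd)
    (hd.trans h.card_M_dvd) (hd.trans h.card_M_dvd)

/-- `|K : C_K(g)|` divides `|M|` for every `g` -/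
theorem relIndex_cent_dvd (g : G) : (centralizer ({g} : Set G)).relIndex h.K ∣ Nat.card h.M := by
  let φ : h.K →* h.M :=
    { toFun := fun x => ⟨(x : G)⁻¹ * (g * (x : G) * g⁻¹), h.K_comm_mem x.2 g⟩
      map_one' := by
        apply Subtype.ext
        show ((1 : h.K) : G)⁻¹ * (g * ((1 : h.K) : G) * g⁻¹) = ((1 : h.M) : G)
        simp
      map_mul' := by
        intro x y
        apply Subtype.ext
        show ((x * y : h.K) : G)⁻¹ * (g * ((x * y : h.K) : G) * g⁻¹) =
          ((x : G)⁻¹ * (g * (x : G) * g⁻¹)) * ((y : G)⁻¹ * (g * (y : G) * g⁻¹))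
        have hm : (x : G)⁻¹ * (g * (x : G) * g⁻¹) ∈ h.M := h.K_comm_mem x.2 g
        have hc := h.K_le_cent_M y.2
        rw [mem_centralizer_iff] at hc
        have hc' := hc _ hm
        have e : ((x * y : h.K) : G) = (x : G) * (y : G) := rfl
        rw [e]
        calc ((x : G) * (y : G))⁻¹ * (g * ((x : G) * (y : G)) * g⁻¹)
            = (y : G)⁻¹ * (((x : G)⁻¹ * (g * (x : G) * g⁻¹)) * (y : G)) *
                ((y : G)⁻¹ * (g * (y : G) * g⁻¹)) := by group
          _ = (y : G)⁻¹ * ((y : G) * ((x : G)⁻¹ * (g * (x : G) * g⁻¹))) *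
                ((y : G)⁻¹ * (g * (y : G) * g⁻¹)) := by rw [hc']
          _ = _ := by group }
  have hker : φ.ker = (centralizer ({g} : Set G)).subgroupOf h.K := by
    ext x
    rw [MonoidHom.mem_ker, mem_subgroupOf, mem_cent]
    constructor
    · intro hx
      have h1 : (x : G)⁻¹ * (g * (x : G) * g⁻¹) = 1 := congrArg Subtype.val hx
      have h2 : g * (x : G) * g⁻¹ = x := by
        have := congrArg (fun z => (x : G) * z) h1
        simpa [mul_assoc] using this
      calc (x : G) * g = (g * (x : G) * g⁻¹) * g := by rw [h2]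
        _ = g * x := by group
    · intro hx
      apply Subtype.ext
      show (x : G)⁻¹ * (g * (x : G) * g⁻¹) = 1
      rw [← hx]; group
  unfold relIndex
  rw [← hker, index_ker]
  exact card_subgroup_dvd_card _

end Far

end Cfsg.Agent.Lib.Helper9.ClassGraph
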