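import Mathlib
import Cfsg.Agent.Lib.Helper9.ClassGraph10

/-!
Class-size prime graph, two primes at distance at least `4`, part 2: `G = C_G(U) K` for a Sylow
`p`-subgroup `U`, `C_G(K) = K`, and every element of `K` has a `P`-number as class size.
-/

set_option autoImplicit false
set_option linter.style.haveILetI false
set_option linter.unusedSectionVars false

namespace Cfsg.Agent.Lib.Helper9.ClassGraph

open Subgroup
open scoped Pointwise

variable {G : Type*} [Group G]

/-- if `x v x⁻¹ = v w`, `x` commutes with `w`, `x ^ e` commutes with `v`, `w ^ f = 1` and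
`e`, `f` are coprime, then `w = 1` -/
theorem eq_one_of_conj_eq_mul {x v w : G} {e f : ℕ} (hcop : e.Coprime f)
    (hconj : x * v * x⁻¹ = v * w) (hxw : x * w = w * x) (hxe : x ^ e * v = v * x ^ e)
    (hwf : w ^ f = 1) : w = 1 := by
  have hpow : ∀ n : ℕ, x ^ n * v * (x ^ n)⁻¹ = v * w ^ n := by
    intro n
    induction n with
    | zero => simp
    | succ n ih =>
      calc x ^ (n + 1) * v * (x ^ (n + 1))⁻¹ = x * (x ^ n * v * (x ^ n)⁻¹) * x⁻¹ := by
            rw [pow_succ']; group
        _ = x * (v * w ^ n) * x⁻¹ := by rw [ih]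
        _ = (x * v * x⁻¹) * (x * w ^ n * x⁻¹) := by group
        _ = (v * w) * w ^ n := by
            rw [hconj]
            have : x * w ^ n * x⁻¹ = w ^ n := by
              have hc : Commute x (w ^ n) := Commute.pow_right hxw n
              rw [hc.eq]; group
            rw [this]
        _ = v * w ^ (n + 1) := by rw [pow_succ']; group
  have h1 : w ^ e = 1 := by
    have h2 := hpow e
    rw [hxe] at h2
    have h4 : v * x ^ e * (x ^ e)⁻¹ = v := by group
    rw [h4] at h2
    exact (mul_eq_left.mp h2.symm)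
  have := mem_of_pow_mem_of_coprime (⊥ : Subgroup G) hcop
    (x := w) (by rw [h1]; exact one_mem _) (by rw [hwf]; exact one_mem _)
  exact Subgroup.mem_bot.mp this

namespace Far

variable [Finite G] (h : Far G)

instance fact_p : Fact h.p.Prime := ⟨h.hp⟩

/-- an element whose class size is not divisible by `p` is centralized by a Sylow `p`-subgroup -/
theorem exists_sylow_le_cent {g : G} (hg : ¬ h.p ∣ cs g) :
    ∃ U' : Sylow h.p G, (U' : Subgroup G) ≤ centralizer ({g} : Set G) := by
  obtain ⟨U', hU', _⟩ := Cfsg.Agent.Lib.Helper22.exists_sylow_le_mem_of_not_dvd_index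
    (centralizer ({g} : Set G)) hg 1 (one_mem _) 0 (by simp)
  exact ⟨U', hU'⟩

/-- `G = C_G(U) K` -/
theorem cent_sylow_sup_K (U : Sylow h.p G) :
    centralizer ((U : Subgroup G) : Set G) ⊔ h.K = ⊤ := by
  by_contra hne
  obtain ⟨g, hg⟩ := Cfsg.Agent.Lib.Helper22.exists_forall_conj_not_mem _ hne
  by_cases hgK : g ∈ h.K
  · apply hg 1
    have : (1 : G)⁻¹ * g * 1 = g := by group
    rw [this]
    exact mem_sup_right hgK
  · obtain ⟨U', hU'⟩ := h.exists_sylow_le_cent (h.not_dvd_of_not_mem hgK)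
    obtain ⟨y, hy⟩ := MulAction.exists_smul_eq G U U'
    apply hg y
    apply mem_sup_left
    rw [mem_centralizer_iff]
    intro s hs
    have h1 := hU' (conj_mem_of_smul_eq hy hs)
    rw [mem_cent] at h1
    calc s * (y⁻¹ * g * y) = y⁻¹ * ((y * s * y⁻¹) * g) * y := by group
      _ = y⁻¹ * (g * (y * s * y⁻¹)) * y := by rw [h1]
      _ = y⁻¹ * g * y * s := by group

/-- an element centralizing `K` whose class size is not divisible by `p` centralizes `U` -/
theorem mem_cent_sylow (U : Sylow h.p G) {g : G} (hgK : g ∈ centralizer (h.K : Set G))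
    (hg : ¬ h.p ∣ cs g) : g ∈ centralizer ((U : Subgroup G) : Set G) := by
  obtain ⟨U', hU'⟩ := h.exists_sylow_le_cent hg
  obtain ⟨y, hy⟩ := MulAction.exists_smul_eq G U U'
  have hy' : y ∈ h.K ⊔ centralizer ((U : Subgroup G) : Set G) := by
    rw [sup_comm, h.cent_sylow_sup_K U]; trivial
  obtain ⟨k, hk, a, ha, rfl⟩ := mem_sup_of_normal_left.mp hy'
  rw [mem_centralizer_iff]
  intro s hs
  have h1 := hU' (conj_mem_of_smul_eq hy hs)
  rw [mem_cent] at h1
  rw [mem_centralizer_iff] at ha hgK
  have has : s * a = a * s := ha s hs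
  have hkc : k * g = g * k := hgK k hk
  have e1 : k * a * s * (k * a)⁻¹ = k * s * k⁻¹ := by
    calc k * a * s * (k * a)⁻¹ = k * (a * s) * a⁻¹ * k⁻¹ := by group
      _ = k * (s * a) * a⁻¹ * k⁻¹ := by rw [has]
      _ = k * s * k⁻¹ := by group
  rw [e1] at h1
  have hkc' : k⁻¹ * g = g * k⁻¹ := by
    calc k⁻¹ * g = k⁻¹ * (g * k) * k⁻¹ := by group
      _ = k⁻¹ * (k * g) * k⁻¹ := by rw [hkc]
      _ = g * k⁻¹ := by group
  calc s * g = k⁻¹ * (k * s * k⁻¹) * (k * g) := by group
    _ = k⁻¹ * (k * s * k⁻¹) * (g * k) := by rw [hkc]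
    _ = k⁻¹ * ((k * s * k⁻¹) * g) * k := by group
    _ = k⁻¹ * (g * (k * s * k⁻¹)) * k := by rw [h1]
    _ = (k⁻¹ * g) * (k * s * k⁻¹) * k := by group
    _ = (g * k⁻¹) * (k * s * k⁻¹) * k := by rw [hkc']
    _ = g * s := by group

theorem K_le_cent_K : h.K ≤ centralizer (h.K : Set G) := by
  intro k hk
  rw [mem_centralizer_iff]
  intro k' hk'
  exact h.K_comm hk' hk

/-- a Sylow `p`-subgroup does not centralize `a₀` -/
theorem sylow_not_le_cent_a₀ (U : Sylow h.p G) :
    ¬ (U : Subgroup G) ≤ centralizer ({h.a₀} : Set G) := by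
  intro hle
  have hdvd : cs h.a₀ ∣ (U : Subgroup G).index := index_dvd_of_le hle
  exact U.not_dvd_index (h.ha₀.trans hdvd)

/-- `C_G(K) = K` -/
theorem cent_K_le : centralizer (h.K : Set G) ≤ h.K := by
  intro c hc
  by_contra hcK
  let U : Sylow h.p G := default
  have claim : ∀ c' : G, c' ∈ centralizer (h.K : Set G) → c' ∉ h.K →
      c' ∈ centralizer ((U : Subgroup G) : Set G) :=
    fun c' hc' hc'K => h.mem_cent_sylow U hc' (h.not_dvd_of_not_mem hc'K)
  have hKle : h.K ≤ centralizer ((U : Subgroup G) : Set G) := by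
    intro k hk
    have h1 : k * c⁻¹ ∈ centralizer (h.K : Set G) := mul_mem (h.K_le_cent_K hk) (inv_mem hc)
    have h2 : k * c⁻¹ ∉ h.K := by
      intro hmem
      apply hcK
      have : c = (k * c⁻¹)⁻¹ * k := by group
      rw [this]
      exact mul_mem (inv_mem hmem) hk
    have h3 := claim _ h1 h2
    have h4 := claim c hc hcK
    have : k = (k * c⁻¹) * c := by group
    rw [this]
    exact mul_mem h3 h4
  have hb := hKle h.a₀_mem_K
  apply h.sylow_not_le_cent_a₀ U
  intro s hs
  rw [mem_centralizer_iff] at hb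
  rw [mem_cent]
  exact hb s hs

theorem not_le_cent_of_not_mem {c : G} (hc : c ∉ h.K) : ¬ h.K ≤ centralizer ({c} : Set G) := by
  intro hle
  apply hc
  apply h.cent_K_le
  rw [mem_centralizer_iff]
  intro k hk
  have := hle hk
  rwa [mem_cent] at this

end Far

end Cfsg.Agent.Lib.Helper9.ClassGraph
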