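import Mathlib
import Cfsg.Agent.Lib.Helper9.ClassGraph11

/-!
Class-size prime graph, two primes at distance at least `4`, part 3: every element of `K` has a
`P`-number as class size.
-/

set_option autoImplicit false
set_option linter.style.haveILetI false
set_option linter.unusedSectionVars false

namespace Cfsg.Agent.Lib.Helper9.ClassGraph

open Subgroup
open scoped Pointwise

variable {G : Type*} [Group G]

namespace Far

variable [Finite G] (h : Far G)

theorem coprime_orderOf_card_M (U : Sylow h.p G) {x : G} (hx : x ∈ (U : Subgroup G)) :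
    (orderOf x).Coprime (Nat.card h.M) := by
  obtain ⟨j, hj⟩ := IsPGroup.iff_orderOf.mp U.2 ⟨x, hx⟩
  rw [Subgroup.orderOf_mk] at hj
  rw [hj]
  exact Nat.Coprime.pow_left j ((Nat.Prime.coprime_iff_not_dvd h.hp).mpr h.p_not_dvd_card_M)

theorem pow_card_M_eq_one {w : G} (hw : w ∈ h.M) : w ^ (Nat.card h.M) = 1 := by
  have := pow_card_eq_one' (G := h.M) (x := ⟨w, hw⟩)
  exact congrArg Subtype.val this

/-- every element of `K` has a `P`-number as class size -/
theorem isS_K {k : G} (hk : k ∈ h.K) : IsS h.P (cs k) := by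
  by_cases hpk : h.p ∣ cs k
  · exact h.hA k hpk
  let U : Sylow h.p G := default
  have hkU : k ∈ centralizer ((U : Subgroup G) : Set G) :=
    h.mem_cent_sylow U (h.K_le_cent_K hk) hpk
  -- an element `x ∈ U` not commuting with `a₀`
  obtain ⟨x, hxU, hxa⟩ : ∃ x ∈ (U : Subgroup G), x ∉ centralizer ({h.a₀} : Set G) := by
    by_contra hcon
    push Not at hcon
    exact h.sylow_not_le_cent_a₀ U hcon
  rw [mem_cent] at hxa
  set d := h.a₀⁻¹ * (x * h.a₀ * x⁻¹) with hd
  have hdM : d ∈ h.M := h.K_comm_mem h.a₀_mem_K x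
  have hdK : d ∈ h.K := mul_mem (inv_mem h.a₀_mem_K) (h.K_normal.conj_mem _ h.a₀_mem_K x)
  have hd1 : d ≠ 1 := by
    intro e
    apply hxa
    have h2 : x * h.a₀ * x⁻¹ = h.a₀ := by
      have := congrArg (fun z => h.a₀ * z) e
      simpa [hd, mul_assoc] using this
    calc x * h.a₀ = (x * h.a₀ * x⁻¹) * x := by group
      _ = h.a₀ * x := by rw [h2]
  have hcopx := h.coprime_orderOf_card_M U hxU
  have hxpow : ∀ v : G, x ^ (orderOf x) * v = v * x ^ (orderOf x) := by
    intro v; rw [pow_orderOf_eq_one]; simp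
  -- `x` does not commute with `d`
  have claim1 : ¬ (x * d = d * x) := by
    intro hxd
    apply hd1
    have e0 : x * h.a₀ * x⁻¹ = h.a₀ * d := by rw [hd]; group
    exact eq_one_of_conj_eq_mul hcopx e0 hxd (hxpow _) (h.pow_card_M_eq_one hdM)
  -- `k * d` has class size divisible by `p`
  have claim2 : h.p ∣ cs (k * d) := by
    by_contra hnd
    have h1 : k * d ∈ centralizer ((U : Subgroup G) : Set G) :=
      h.mem_cent_sylow U (h.K_le_cent_K (mul_mem hk hdK)) hnd
    have h2 : d ∈ centralizer ((U : Subgroup G) : Set G) := by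
      have : d = k⁻¹ * (k * d) := by group
      rw [this]
      exact mul_mem (inv_mem hkU) h1
    rw [mem_centralizer_iff] at h2
    exact claim1 (h2 x hxU)
  -- `C(k d) ≤ C(k)`
  have claim3 : centralizer ({k * d} : Set G) ≤ centralizer ({k} : Set G) := by
    intro g hg
    rw [mem_cent] at hg ⊢
    have hg' : g ∈ h.K ⊔ centralizer ((U : Subgroup G) : Set G) := by
      rw [sup_comm, h.cent_sylow_sup_K U]; trivial
    obtain ⟨k₁, hk₁, c, hc, rfl⟩ := mem_sup_of_normal_left.mp hg'
    rw [mem_centralizer_iff] at hc hkU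
    have hcx : x * c = c * x := hc x hxU
    have hkx : x * k = k * x := hkU x hxU
    have hk₁kd : k₁ * (k * d) = (k * d) * k₁ := h.K_comm hk₁ (mul_mem hk hdK)
    -- `c` commutes with `k * d`
    have hckd : c * (k * d) = (k * d) * c := by
      calc c * (k * d) = k₁⁻¹ * (k₁ * c * (k * d)) := by group
        _ = k₁⁻¹ * ((k * d) * (k₁ * c)) := by rw [hg]
        _ = k₁⁻¹ * ((k * d) * k₁) * c := by group
        _ = k₁⁻¹ * (k₁ * (k * d)) * c := by rw [hk₁kd]
        _ = (k * d) * c := by group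
    set k' := c * k * c⁻¹ with hk'
    set a' := c * h.a₀ * c⁻¹ with ha'
    set d' := c * d * c⁻¹ with hd'
    have hk'K : k' ∈ h.K := h.K_normal.conj_mem _ hk c
    have ha'K : a' ∈ h.K := h.K_normal.conj_mem _ h.a₀_mem_K c
    have hd'K : d' ∈ h.K := h.K_normal.conj_mem _ hdK c
    have hd'M : d' ∈ h.M := h.M_normal.conj_mem _ hdM c
    have hcx' : x * c⁻¹ = c⁻¹ * x := by
      calc x * c⁻¹ = c⁻¹ * (c * x) * c⁻¹ := by group
        _ = c⁻¹ * (x * c) * c⁻¹ := by rw [hcx]
        _ = c⁻¹ * x := by group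
    -- `d' = a'⁻¹ (x a' x⁻¹)`
    have e1 : x * a' * x⁻¹ = a' * d' := by
      calc x * a' * x⁻¹ = (x * c) * h.a₀ * (x * c)⁻¹ := by rw [ha']; group
        _ = (c * x) * h.a₀ * (c * x)⁻¹ := by rw [hcx]
        _ = a' * d' := by rw [ha', hd', hd]; group
    have e0 : x * h.a₀ * x⁻¹ = h.a₀ * d := by rw [hd]; group
    -- `k' d' = k d`
    have e2 : k' * d' = k * d := by
      calc k' * d' = c * (k * d) * c⁻¹ := by rw [hk', hd']; group
        _ = (k * d) * c * c⁻¹ := by rw [hckd]
        _ = k * d := by group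
    set w := k⁻¹ * k' with hw
    have hw' : w = d * d'⁻¹ := by
      calc w = k⁻¹ * (k' * d') * d'⁻¹ := by rw [hw]; group
        _ = k⁻¹ * (k * d) * d'⁻¹ := by rw [e2]
        _ = d * d'⁻¹ := by group
    have hwK : w ∈ h.K := mul_mem (inv_mem hk) hk'K
    have hwM : w ∈ h.M := by rw [hw']; exact mul_mem hdM (inv_mem hd'M)
    have hk'x : x * k' = k' * x := by
      calc x * k' = (x * c) * k * c⁻¹ := by rw [hk']; group
        _ = (c * x) * k * c⁻¹ := by rw [hcx]
        _ = c * (x * k) * c⁻¹ := by group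
        _ = c * (k * x) * c⁻¹ := by rw [hkx]
        _ = c * k * (x * c⁻¹) := by group
        _ = c * k * (c⁻¹ * x) := by rw [hcx']
        _ = k' * x := by rw [hk']; group
    have hkx' : x * k⁻¹ = k⁻¹ * x := by
      calc x * k⁻¹ = k⁻¹ * (k * x) * k⁻¹ := by group
        _ = k⁻¹ * (x * k) * k⁻¹ := by rw [hkx]
        _ = k⁻¹ * x := by group
    have hxw : x * w = w * x := by
      calc x * w = (x * k⁻¹) * k' := by rw [hw]; group
        _ = (k⁻¹ * x) * k' := by rw [hkx']
        _ = k⁻¹ * (x * k') := by group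
        _ = k⁻¹ * (k' * x) := by rw [hk'x]
        _ = w * x := by rw [hw]; group
    -- `v = a₀ a'⁻¹`
    have hwa' : w * a'⁻¹ = a'⁻¹ * w := h.K_comm hwK (inv_mem ha'K)
    have e3 : x * (h.a₀ * a'⁻¹) * x⁻¹ = (h.a₀ * a'⁻¹) * w := by
      calc x * (h.a₀ * a'⁻¹) * x⁻¹ = (x * h.a₀ * x⁻¹) * (x * a' * x⁻¹)⁻¹ := by group
        _ = (h.a₀ * d) * (a' * d')⁻¹ := by rw [e0, e1]
        _ = h.a₀ * (d * d'⁻¹) * a'⁻¹ := by group
        _ = h.a₀ * (w * a'⁻¹) := by rw [← hw']; group
        _ = h.a₀ * (a'⁻¹ * w) := by rw [hwa']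
        _ = (h.a₀ * a'⁻¹) * w := by group
    have hw1 : w = 1 :=
      eq_one_of_conj_eq_mul hcopx e3 hxw (hxpow _) (h.pow_card_M_eq_one hwM)
    have hck : c * k = k * c := by
      have : k' = k := by
        have := congrArg (fun z => k * z) hw1
        simpa [hw, mul_assoc] using this
      calc c * k = k' * c := by rw [hk']; group
        _ = k * c := by rw [this]
    have hk₁k : k₁ * k = k * k₁ := h.K_comm hk₁ hk
    calc k₁ * c * k = k₁ * (c * k) := by group
      _ = k₁ * (k * c) := by rw [hck]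
      _ = (k₁ * k) * c := by group
      _ = (k * k₁) * c := by rw [hk₁k]
      _ = k * (k₁ * c) := by group
  have hdvd : cs k ∣ cs (k * d) := index_dvd_of_le claim3
  exact (h.hA _ claim2).of_dvd hdvd

end Far

end Cfsg.Agent.Lib.Helper9.ClassGraph
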