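import Mathlib
import Cfsg.Agent.Lib.Helper9.ClassGraph12

/-!
Class-size prime graph, two primes at distance at least `4`, part 4: `G/K` is a `P`-group,
elements outside `K` have `Q`-numbers as class sizes; the dichotomy.
-/

set_option autoImplicit false
set_option linter.style.haveILetI false
set_option linter.unusedSectionVars false

namespace Cfsg.Agent.Lib.Helper9.ClassGraph

open Subgroup
open scoped Pointwise

variable {G : Type*} [Group G]

namespace Far

variable [Finite G] (h : Far G)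

/-- if `g` is not in `K`, some element with class size divisible by `p` does not commute
with it -/
theorem exists_not_comm {c : G} (hc : c ∉ h.K) : ∃ a : G, h.p ∣ cs a ∧ ¬ (a * c = c * a) := by
  by_contra hcon
  push Not at hcon
  apply h.not_le_cent_of_not_mem hc
  show h.core.K ≤ _
  unfold Core.K
  rw [closure_le]
  intro t ht
  rw [SetLike.mem_coe, mem_cent]
  rcases ht with ht | ht
  · exact (mem_center_iff.mp ht c).symm
  · exact hcon t ht

/-- elements of `r`-power order, `r ∣ |M|`, lie in `K` -/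
theorem mem_K_of_orderOf {r : ℕ} [hr : Fact r.Prime] (hrM : r ∣ Nat.card h.M) {c : G} {j : ℕ}
    (hcj : orderOf c = r ^ j) : c ∈ h.K := by
  by_contra hcK
  obtain ⟨a, hpa, hac⟩ := h.exists_not_comm hcK
  have hrQ : r ∈ h.Q := h.isS_card_M r hr.out hrM
  have hra : ¬ r ∣ (centralizer ({a} : Set G)).index := by
    intro hd
    exact h.hPQ a r r hr.out hr.out (h.hA a hpa r hr.out hd) hrQ hd hd
  have hncop : ¬ (cs a).Coprime (cs c) := by
    intro hcop
    apply hac
    obtain ⟨R', hR', _⟩ := Cfsg.Agent.Lib.Helper22.exists_sylow_le_mem_of_not_dvd_index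
      (centralizer ({a} : Set G)) hra 1 (one_mem _) 0 (by simp)
    obtain ⟨R, _, hcR⟩ := Cfsg.Agent.Lib.Helper22.exists_sylow_le_mem_of_not_dvd_index
      (⊤ : Subgroup G) (by rw [index_top]; exact hr.out.one_lt.ne' ∘ Nat.dvd_one.mp) c
      (mem_top c) j hcj
    obtain ⟨y, hy⟩ := MulAction.exists_smul_eq G R R'
    obtain ⟨v, hv, x, hx, rfl⟩ := exists_mul_of_coprime_cs hcop y
    have h1 := hR' (conj_mem_of_smul_eq hy hcR)
    rw [mem_cent] at h1 hv hx
    have e1 : v * x * c * (v * x)⁻¹ = v * c * v⁻¹ := by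
      calc v * x * c * (v * x)⁻¹ = v * (x * c) * x⁻¹ * v⁻¹ := by group
        _ = v * (c * x) * x⁻¹ * v⁻¹ := by rw [hx]
        _ = v * c * v⁻¹ := by group
    rw [e1] at h1
    have hv' : v⁻¹ * a = a * v⁻¹ := by
      calc v⁻¹ * a = v⁻¹ * (a * v) * v⁻¹ := by group
        _ = v⁻¹ * (v * a) * v⁻¹ := by rw [hv]
        _ = a * v⁻¹ := by group
    calc a * c = a * v⁻¹ * (v * c * v⁻¹) * v := by group
      _ = v⁻¹ * a * (v * c * v⁻¹) * v := by rw [← hv']
      _ = v⁻¹ * (a * (v * c * v⁻¹)) * v := by group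
      _ = v⁻¹ * ((v * c * v⁻¹) * a) * v := by rw [h1]
      _ = v⁻¹ * (v * c * v⁻¹) * (a * v) := by group
      _ = v⁻¹ * (v * c * v⁻¹) * (v * a) := by rw [hv]
      _ = c * a := by group
  obtain ⟨u, hu, hud⟩ := Nat.exists_prime_and_dvd hncop
  have hua : u ∣ cs a := hud.trans (Nat.gcd_dvd_left _ _)
  have huc : u ∣ cs c := hud.trans (Nat.gcd_dvd_right _ _)
  have huP : u ∈ h.P := h.hA a hpa u hu hua
  have hcopM : (cs c).Coprime (Nat.card h.M) := by
    apply Nat.coprime_of_dvd
    intro v hv hvc hvM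
    exact h.hPQ c u v hu hv huP (h.isS_card_M v hv hvM) huc hvc
  apply h.not_le_cent_of_not_mem hcK
  rw [← relIndex_eq_one]
  have h1 := h.relIndex_cent_dvd c
  have h2 : (centralizer ({c} : Set G)).relIndex h.K ∣ cs c :=
    relIndex_dvd_index_of_normal_right _ h.K
  exact Nat.eq_one_of_dvd_coprimes hcopM h2 h1

theorem sylow_le_K {r : ℕ} [hr : Fact r.Prime] (hrM : r ∣ Nat.card h.M) (R : Sylow r G) :
    (R : Subgroup G) ≤ h.K := by
  intro c hc
  obtain ⟨j, hj⟩ := IsPGroup.iff_orderOf.mp R.2 ⟨c, hc⟩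
  rw [Subgroup.orderOf_mk] at hj
  exact h.mem_K_of_orderOf hrM hj

theorem coprime_index_card : (h.K.index).Coprime (Nat.card h.M) := by
  apply Nat.coprime_of_dvd
  intro r hr hrK hrM
  haveI : Fact r.Prime := ⟨hr⟩
  let R : Sylow r G := default
  have h1 := index_dvd_of_le (h.sylow_le_K hrM R)
  exact R.not_dvd_index (hrK.trans h1)

/-- the class size of an element outside `K` is not divisible by any prime of `P` -/
theorem not_dvd_of_not_mem_K {c : G} (hc : c ∉ h.K) {u : ℕ} (hu : u.Prime) (huP : u ∈ h.P) :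
    ¬ u ∣ cs c := by
  intro huc
  have hne : (centralizer ({c} : Set G)).relIndex h.K ≠ 1 := by
    intro e
    exact h.not_le_cent_of_not_mem hc (relIndex_eq_one.mp e)
  obtain ⟨v, hv, hvd⟩ := Nat.exists_prime_and_dvd hne
  have hvM : v ∣ Nat.card h.M := hvd.trans (h.relIndex_cent_dvd c)
  have hvc : v ∣ cs c := hvd.trans (relIndex_dvd_index_of_normal_right _ h.K)
  exact h.hPQ c u v hu hv huP (h.isS_card_M v hv hvM) huc hvc

theorem pow_card_M_mem_center {k : G} (hk : k ∈ h.K) : k ^ (Nat.card h.M) ∈ center G :=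
  h.core.pow_card_mem_center hk

/-- `C_K(c) = Z(G)` for `c ∉ K` -/
theorem cent_inf_K_le_center {c : G} (hc : c ∉ h.K) :
    centralizer ({c} : Set G) ⊓ h.K ≤ center G := by
  intro b hb
  have hbc : b ∈ centralizer ({c} : Set G) := (Subgroup.mem_inf.mp hb).1
  have hbK : b ∈ h.K := (Subgroup.mem_inf.mp hb).2
  by_contra hbZ
  set e := (h.K).index with he
  set f := Nat.card h.M with hf
  have hcop : Nat.Coprime e f := h.coprime_index_card
  have hbf : b ^ f ∈ center G := h.pow_card_M_mem_center hbK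
  have hce : c ^ e ∈ h.K := pow_index_mem (h.K) c
  have hcef : (c ^ f) ^ e ∈ center G := by
    have := h.pow_card_M_mem_center hce
    rw [← pow_mul, mul_comm, pow_mul] at this
    exact this
  have hc' : c ^ f ∉ h.K := by
    intro hmem
    exact hc (mem_of_pow_mem_of_coprime (h.K) hcop hce hmem)
  have hcomm : Commute b (c ^ f) := by
    rw [mem_cent] at hbc
    exact (Commute.pow_right (show Commute b c from hbc) f)
  -- `C(b c') ≤ C(b)`
  have hle : centralizer ({b * c ^ f} : Set G) ≤ centralizer ({b} : Set G) := by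
    intro x hx
    rw [mem_cent] at hx ⊢
    have h1 : Commute x ((b * c ^ f) ^ e) := Commute.pow_right hx e
    rw [hcomm.mul_pow] at h1
    have h2 : Commute x (b ^ e) := by
      have hz := mem_center_iff.mp hcef
      have : Commute x ((c ^ f) ^ e) := hz x
      have h3 : Commute x (b ^ e * (c ^ f) ^ e * ((c ^ f) ^ e)⁻¹) := h1.mul_right this.inv_right
      simpa using h3
    have h3 : Commute x (b ^ f) := (mem_center_iff.mp hbf) x
    have h4 : b ∈ centralizer ({x} : Set G) := by
      apply mem_of_pow_mem_of_coprime _ hcop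
      · rw [mem_cent]; exact h2.symm
      · rw [mem_cent]; exact h3.symm
    rw [mem_cent] at h4
    exact h4.symm
  have hdvd : cs b ∣ cs (b * c ^ f) := index_dvd_of_le hle
  have hnot : b * c ^ f ∉ h.K := by
    intro hmem
    apply hc'
    have : c ^ f = b⁻¹ * (b * c ^ f) := by group
    rw [this]
    exact mul_mem (inv_mem hbK) hmem
  have hne : cs b ≠ 1 := fun e1 => hbZ ((cs_eq_one_iff b).mp e1)
  obtain ⟨u, hu, hud⟩ := Nat.exists_prime_and_dvd hne
  exact h.not_dvd_of_not_mem_K hnot hu (h.isS_K hbK u hu hud) (hud.trans hdvd)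

/-- `G/K` is a `P`-group -/
theorem isS_index_K : IsS h.P (h.K).index := by
  intro r hr hrd
  by_contra hrP
  haveI : Fact r.Prime := ⟨hr⟩
  let R : Sylow r G := default
  have hRK : (R : Subgroup G) ≤ h.K := by
    intro x hx
    by_contra hxK
    have hra : ¬ r ∣ (centralizer ({h.a₀} : Set G)).index := by
      intro hd
      exact hrP (h.hA h.a₀ h.ha₀ r hr hd)
    obtain ⟨R', hR', _⟩ := Cfsg.Agent.Lib.Helper22.exists_sylow_le_mem_of_not_dvd_index
      (centralizer ({h.a₀} : Set G)) hra 1 (one_mem _) 0 (by simp)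
    obtain ⟨y, hy⟩ := MulAction.exists_smul_eq G R R'
    have h1 := hR' (conj_mem_of_smul_eq hy hx)
    have h2 : y * x * y⁻¹ ∉ h.K := by
      intro hmem
      apply hxK
      have := h.K_normal.conj_mem _ hmem y⁻¹
      have e : y⁻¹ * (y * x * y⁻¹) * y⁻¹⁻¹ = x := by group
      rwa [e] at this
    have h3 : h.a₀ ∈ centralizer ({y * x * y⁻¹} : Set G) := by
      rw [mem_cent] at h1 ⊢
      exact h1.symm
    exact h.a₀_not_mem_center
      (h.cent_inf_K_le_center h2 (Subgroup.mem_inf.mpr ⟨h3, h.a₀_mem_K⟩))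
  have h1 := index_dvd_of_le hRK
  exact R.not_dvd_index (hrd.trans h1)

/-- the class size of an element outside `K` divides `|M|` -/
theorem cs_dvd_card_M {c : G} (hc : c ∉ h.K) : cs c ∣ Nat.card h.M := by
  have hcop : (centralizer ({c} : Set G)).index.Coprime (h.K).index := by
    apply Nat.coprime_of_dvd
    intro u hu huc huK
    exact h.not_dvd_of_not_mem_K hc hu (h.isS_index_K u hu huK) huc
  have := Cfsg.Agent.Lib.Helper1.relIndex_eq_index_of_coprime _ _ hcop
  have h2 := h.relIndex_cent_dvd c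
  rw [this] at h2
  exact h2

/-- the dichotomy: every class size is a `P`-number or a `Q`-number -/
theorem dich (g : G) : IsS h.P (cs g) ∨ IsS h.Q (cs g) := by
  by_cases hg : g ∈ h.K
  · exact Or.inl (h.isS_K hg)
  · exact Or.inr (h.isS_card_M.of_dvd (h.cs_dvd_card_M hg))

end Far

end Cfsg.Agent.Lib.Helper9.ClassGraph
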