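import Mathlib
import Cfsg.Agent.Lib.Helper9.ClassGraph13

/-!
Class-size prime graph: a connected graph has diameter at most `3`.
-/

set_option autoImplicit false
set_option linter.style.haveILetI false
set_option linter.unusedSectionVars false

namespace Cfsg.Agent.Lib.Helper9.ClassGraph

open Subgroup
open scoped Pointwise

variable {G : Type*} [Group G]

theorem mul_dvd_of_primes {a b n : ℕ} (ha : a.Prime) (hb : b.Prime) (hab : a ≠ b) (h1 : a ∣ n)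
    (h2 : b ∣ n) : a * b ∣ n :=
  Nat.Coprime.mul_dvd_of_dvd_of_dvd ((Nat.coprime_primes ha hb).mpr hab) h1 h2

/-- if `p ≠ q` are vertices of the class-size prime graph not joined by a path of length at most
`3`, then every class size is an `N[p]`-number or an `N[q]`-number -/
theorem dich_of_far [Finite G] (p q : ℕ) (hp : p.Prime ∧ ∃ g : G, p ∣ cs g)
    (hq : q.Prime ∧ ∃ g : G, q ∣ cs g) (hpq : p ≠ q)
    (h1 : ¬ ∃ g : G, p * q ∣ cs g)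
    (h2 : ¬ ∃ r : ℕ, (r.Prime ∧ ∃ g : G, r ∣ cs g) ∧ r ≠ p ∧ r ≠ q ∧ (∃ g : G, p * r ∣ cs g) ∧
      (∃ g : G, r * q ∣ cs g))
    (h3 : ¬ ∃ r s : ℕ, (r.Prime ∧ ∃ g : G, r ∣ cs g) ∧ (s.Prime ∧ ∃ g : G, s ∣ cs g) ∧ r ≠ p ∧
      s ≠ q ∧ r ≠ s ∧ r ≠ q ∧ s ≠ p ∧ (∃ g : G, p * r ∣ cs g) ∧ (∃ g : G, r * s ∣ cs g) ∧
      (∃ g : G, s * q ∣ cs g)) :
    (∀ (g : G) (u : ℕ), u.Prime → u ∣ cs g →
      (u.Prime ∧ ∃ g' : G, p ∣ cs g' ∧ u ∣ cs g') → (u.Prime ∧ ∃ g' : G, q ∣ cs g' ∧ u ∣ cs g') →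
        False) ∧
    ∀ g : G, IsS {u | u.Prime ∧ ∃ g' : G, p ∣ cs g' ∧ u ∣ cs g'} (cs g) ∨
      IsS {u | u.Prime ∧ ∃ g' : G, q ∣ cs g' ∧ u ∣ cs g'} (cs g) := by
  set P : Set ℕ := {u | u.Prime ∧ ∃ g' : G, p ∣ cs g' ∧ u ∣ cs g'} with hP
  set Q : Set ℕ := {u | u.Prime ∧ ∃ g' : G, q ∣ cs g' ∧ u ∣ cs g'} with hQ
  have hA : ∀ a : G, p ∣ cs a → IsS P (cs a) := fun a ha u hu hua => ⟨hu, a, ha, hua⟩
  have hB : ∀ b : G, q ∣ cs b → IsS Q (cs b) := fun b hb u hu hub => ⟨hu, b, hb, hub⟩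
  have hPQ : ∀ (g : G) (u v : ℕ), u.Prime → v.Prime → u ∈ P → v ∈ Q → u ∣ cs g → v ∣ cs g →
      False := by
    rintro g u v hu hv ⟨_, g₁, hpg₁, hug₁⟩ ⟨_, g₂, hqg₂, hvg₂⟩ hug hvg
    by_cases hup : u = p
    · subst hup
      by_cases hvq : v = q
      · subst hvq
        exact h1 ⟨g, mul_dvd_of_primes hu hv hpq hug hvg⟩
      · by_cases hvp : v = u
        · subst hvp
          exact h1 ⟨g₂, mul_dvd_of_primes hu hq.1 hpq hvg₂ hqg₂⟩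
        · exact h2 ⟨v, ⟨hv, g, hvg⟩, hvp, hvq,
            ⟨g, mul_dvd_of_primes hu hv (Ne.symm hvp) hug hvg⟩,
            ⟨g₂, mul_dvd_of_primes hv hq.1 hvq hvg₂ hqg₂⟩⟩
    · by_cases huq : u = q
      · subst huq
        exact h1 ⟨g₁, mul_dvd_of_primes hp.1 hu hpq hpg₁ hug₁⟩
      · by_cases hvq : v = q
        · subst hvq
          exact h2 ⟨u, ⟨hu, g, hug⟩, hup, huq,
            ⟨g₁, mul_dvd_of_primes hp.1 hu (Ne.symm hup) hpg₁ hug₁⟩,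
            ⟨g, mul_dvd_of_primes hu hv huq hug hvg⟩⟩
        · by_cases hvp : v = p
          · subst hvp
            exact h1 ⟨g₂, mul_dvd_of_primes hv hq.1 hpq hvg₂ hqg₂⟩
          · by_cases huv : u = v
            · subst huv
              exact h2 ⟨u, ⟨hu, g, hug⟩, hup, huq,
                ⟨g₁, mul_dvd_of_primes hp.1 hu (Ne.symm hup) hpg₁ hug₁⟩,
                ⟨g₂, mul_dvd_of_primes hu hq.1 huq hvg₂ hqg₂⟩⟩
            · exact h3 ⟨u, v, ⟨hu, g, hug⟩, ⟨hv, g, hvg⟩, hup, hvq, huv, huq, hvp,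
                ⟨g₁, mul_dvd_of_primes hp.1 hu (Ne.symm hup) hpg₁ hug₁⟩,
                ⟨g, mul_dvd_of_primes hu hv huv hug hvg⟩,
                ⟨g₂, mul_dvd_of_primes hv hq.1 hvq hvg₂ hqg₂⟩⟩
  refine ⟨fun g u hu hug huP huQ => hPQ g u u hu hu huP huQ hug hug, ?_⟩
  -- maximal elements
  obtain ⟨a₀, ha₀, hamax⟩ := Set.exists_max_image {a : G | p ∣ cs a} cs (Set.toFinite _) hp.2
  obtain ⟨b₀, hb₀, hbmax⟩ := Set.exists_max_image {b : G | q ∣ cs b} cs (Set.toFinite _) hq.2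
  have ha₀' : p ∣ cs a₀ := ha₀
  have hb₀' : q ∣ cs b₀ := hb₀
  have hne : cs a₀ ≠ cs b₀ := by
    intro e
    have hpb : p ∣ cs b₀ := e ▸ ha₀'
    exact hPQ b₀ p p hp.1 hp.1 (hA a₀ ha₀' p hp.1 ha₀') (hB b₀ hb₀' p hp.1 hpb) hpb hpb
  rcases lt_or_gt_of_ne hne with hlt | hgt
  · exact (Far.mk p q P Q hp.1 hq.1 hA hB hPQ a₀ b₀ ha₀' hb₀'
      (fun a ha => hamax a ha) hlt).dich
  · intro g
    have := (Far.mk q p Q P hq.1 hp.1 hB hA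
      (fun g u v hu hv huQ hvP hug hvg => hPQ g v u hv hu hvP huQ hvg hug) b₀ a₀ hb₀' ha₀'
      (fun b hb => hbmax b hb) hgt).dich g
    exact this.symm

/-- a connected class-size prime graph has diameter at most `3` -/
theorem diam_le_three [Finite G]
    (hconn : ∀ S : Set ℕ, (∃ p ∈ S, (p.Prime ∧ ∃ g : G, p ∣ (Subgroup.centralizer ({g} : Set G)).index)) → (∃ q ∉ S, (q.Prime ∧ ∃ g : G, q ∣ (Subgroup.centralizer ({g} : Set G)).index)) →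
      ∃ p q : ℕ, (p.Prime ∧ ∃ g : G, p ∣ (Subgroup.centralizer ({g} : Set G)).index) ∧ (q.Prime ∧ ∃ g : G, q ∣ (Subgroup.centralizer ({g} : Set G)).index) ∧ p ∈ S ∧ q ∉ S ∧ (∃ g : G, p * q ∣ (Subgroup.centralizer ({g} : Set G)).index))
    (p q : ℕ) (hp : (p.Prime ∧ ∃ g : G, p ∣ (Subgroup.centralizer ({g} : Set G)).index)) (hq : (q.Prime ∧ ∃ g : G, q ∣ (Subgroup.centralizer ({g} : Set G)).index)) (hpq : p ≠ q) :
    (∃ g : G, p * q ∣ (Subgroup.centralizer ({g} : Set G)).index) ∨ (∃ r : ℕ, (r.Prime ∧ ∃ g : G, r ∣ (Subgroup.centralizer ({g} : Set G)).index) ∧ r ≠ p ∧ r ≠ q ∧ (∃ g : G, p * r ∣ (Subgroup.centralizer ({g} : Set G)).index) ∧ (∃ g : G, r * q ∣ (Subgroup.centralizer ({g} : Set G)).index)) ∨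
      (∃ r s : ℕ, (r.Prime ∧ ∃ g : G, r ∣ (Subgroup.centralizer ({g} : Set G)).index) ∧ (s.Prime ∧ ∃ g : G, s ∣ (Subgroup.centralizer ({g} : Set G)).index) ∧ r ≠ p ∧ s ≠ q ∧ r ≠ s ∧ r ≠ q ∧ s ≠ p ∧
        (∃ g : G, p * r ∣ (Subgroup.centralizer ({g} : Set G)).index) ∧ (∃ g : G, r * s ∣ (Subgroup.centralizer ({g} : Set G)).index) ∧ (∃ g : G, s * q ∣ (Subgroup.centralizer ({g} : Set G)).index)) := by
  by_contra hne
  have h1 : ¬ ∃ g : G, p * q ∣ cs g := fun hh => hne (Or.inl hh)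
  have h2 : ¬ ∃ r : ℕ, (r.Prime ∧ ∃ g : G, r ∣ cs g) ∧ r ≠ p ∧ r ≠ q ∧ (∃ g : G, p * r ∣ cs g) ∧
      (∃ g : G, r * q ∣ cs g) := fun hh => hne (Or.inr (Or.inl hh))
  have h3 : ¬ ∃ r s : ℕ, (r.Prime ∧ ∃ g : G, r ∣ cs g) ∧ (s.Prime ∧ ∃ g : G, s ∣ cs g) ∧ r ≠ p ∧
      s ≠ q ∧ r ≠ s ∧ r ≠ q ∧ s ≠ p ∧ (∃ g : G, p * r ∣ cs g) ∧ (∃ g : G, r * s ∣ cs g) ∧
      (∃ g : G, s * q ∣ cs g) := fun hh => hne (Or.inr (Or.inr hh))
  obtain ⟨hmix, hdich⟩ := dich_of_far p q hp hq hpq h1 h2 h3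
  obtain ⟨a, ha⟩ := hp.2
  have hpP : p ∈ {u | u.Prime ∧ ∃ g' : G, p ∣ cs g' ∧ u ∣ cs g'} := ⟨hp.1, a, ha, ha⟩
  have hqP : q ∉ {u | u.Prime ∧ ∃ g' : G, p ∣ cs g' ∧ u ∣ cs g'} := by
    rintro ⟨_, g, hpg, hqg⟩
    exact h1 ⟨g, mul_dvd_of_primes hp.1 hq.1 hpq hpg hqg⟩
  obtain ⟨p', q', hp', hq', hp'P, hq'P, g, hg⟩ := hconn _ ⟨p, hpP, hp⟩ ⟨q, hqP, hq⟩
  have hp'g : p' ∣ cs g := (dvd_mul_right p' q').trans hg
  have hq'g : q' ∣ cs g := (dvd_mul_left q' p').trans hg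
  rcases hdich g with hP | hQ
  · exact hq'P (hP q' hq'.1 hq'g)
  · exact hmix g p' hp'.1 hp'g hp'P (hQ p' hp'.1 hp'g)

end Cfsg.Agent.Lib.Helper9.ClassGraph
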