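import Mathlib
import Cfsg.Agent.Lib.Helper9.ClassGraph5
import Cfsg.Agent.Lib.Helper9.ClassGraph8

/-!
Two largest class sizes coprime (Dolfi–Jabara / Bianchi et al.): assembling the result from the
two-type theory (`Setup`) of ClassGraph2–5 and the trichotomy `cs_cases` of ClassGraph8.
-/

set_option autoImplicit false
set_option linter.style.haveILetI false
set_option linter.unusedSectionVars false

namespace Cfsg.Agent.Lib.Helper9.ClassGraph

open Subgroup
open scoped Pointwise

variable {G : Type*} [Group G]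

namespace TwoLargest

variable [Finite G] (h : TwoLargest G)

theorem isS_piN_n : IsS h.piN h.n := fun _ _ hd => hd

theorem isS_piN_compl_m : IsS (h.piN)ᶜ h.m := by
  intro p hp hd hpn
  have h1 : p ∣ Nat.gcd h.m h.n := Nat.dvd_gcd hd hpn
  rw [h.hcop] at h1
  exact hp.one_lt.ne' (Nat.dvd_one.mp h1)

/-- the two-type setup attached to `TwoLargest` -/
noncomputable def setup : Setup G h.piN where
  c₀ := h.y
  b₀ := h.x
  dich := by
    intro g
    rcases h.cs_cases g with h1 | h1 | h1
    · left; rw [h1]; exact isS_one _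
    · left; rw [h1]; exact h.isS_piN_n
    · right; rw [h1]; exact h.isS_piN_compl_m
  hc₀ := by rw [h.hy]; exact h.isS_piN_compl_m
  hmax := by intro g; rw [h.hy]; exact h.htop g
  hb₀ := by
    intro hz
    have := (cs_eq_one_iff h.x).mpr hz
    rw [h.hx] at this
    have := h.hn
    omega
  hb₀S := by rw [h.hx]; exact h.isS_piN_n

theorem x_mem_KS : h.x ∈ KS G h.piN := h.setup.b₀_mem_KS

theorem y_not_mem_KS : h.y ∉ KS G h.piN := h.setup.c₀_not_mem_KS

theorem cent_x_eq_KS : centralizer ({h.x} : Set G) = KS G h.piN := by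
  apply le_antisymm
  · intro c hc
    by_contra hcK
    have hxc : h.x ∈ centralizer ({c} : Set G) := by
      rw [mem_cent] at hc ⊢
      exact hc.symm
    have := h.setup.cent_inf_KS_le_center hcK (Subgroup.mem_inf.mpr ⟨hxc, h.x_mem_KS⟩)
    exact h.setup.hb₀ this
  · intro k hk
    rw [mem_cent]
    exact h.setup.KS_comm hk h.x_mem_KS

theorem main :
    IsMulCommutative (centralizer ({h.x} : Set G)) ∧
    IsMulCommutative (centralizer ({h.y} : Set G)) ∧
    Cfsg.IsFrobeniusComplement ((centralizer ({h.y} : Set G)).map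
      (QuotientGroup.mk' (center G))) ∧
    Cfsg.frobeniusKernel ((centralizer ({h.y} : Set G)).map (QuotientGroup.mk' (center G))) =
      ((centralizer ({h.x} : Set G)).map (QuotientGroup.mk' (center G)) :
        Set (G ⧸ center G)) := by
  refine ⟨?_, ?_, ?_, ?_⟩
  · rw [h.cent_x_eq_KS]
    exact ⟨⟨fun a b => Subtype.ext (h.setup.KS_comm a.2 b.2)⟩⟩
  · exact ⟨⟨fun a b => Subtype.ext (h.setup.cent_comm h.y_not_mem_KS a.2 b.2)⟩⟩
  · exact (h.setup.frobenius h.y_not_mem_KS).1
  · rw [h.cent_x_eq_KS]
    exact (h.setup.frobenius h.y_not_mem_KS).2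

end TwoLargest

end Cfsg.Agent.Lib.Helper9.ClassGraph
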