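import Mathlib
import Cfsg.Prelude.Def_Spor_Conway
import Cfsg.Prelude.Def_KGroupFacts
import Cfsg.Agent.Lib.Helper11.SchurJA
import Cfsg.Agent.Lib.Helper1.WeakL4
import Cfsg.Agent.Lib.Helper23.L34T

/-!
# S2043 piece [ASM] (helper9 for helper22): the Schur multiplier of `Co₁` from the prime-by-prime blocks

`K` is any group isomorphic to `Co₁` of the known order (in the application: the group of the nine tables on 98280
points).  Hypotheses: for `p = 2, 3, 5, 7` the kernel of a finite stem extension of `K` which is a `p`-group has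
order at most `2, 1, 1, 1`; a stem extension of `Co₁` with kernel of order two.  The other primes divide `|Co₁|` at
most once.
-/

set_option autoImplicit false
set_option linter.unusedVariables false
set_option linter.style.haveILetI false

namespace Cfsg.Agent.Lib.Helper22.Co1M

open Cfsg

namespace Helper9

/-- the prime divisors of `|Co₁|` -/
theorem prime_cases (r : ℕ) (hr : r.Prime) (h : r ∣ 4157776806543360000) :
    r = 2 ∨ r = 3 ∨ r = 5 ∨ r = 7 ∨ r = 11 ∨ r = 13 ∨ r = 23 := by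
  have e : (4157776806543360000 : ℕ) = 2 ^ 21 * (3 ^ 9 * (5 ^ 4 * (7 ^ 2 * (11 * (13 * 23))))) := by
    norm_num
  rw [e] at h
  have key : ∀ {p : ℕ}, p.Prime → r ∣ p → r = p := fun hp hd =>
    (Nat.prime_dvd_prime_iff_eq hr hp).mp hd
  rcases (Nat.Prime.dvd_mul hr).mp h with h | h
  · exact Or.inl (key Nat.prime_two (hr.dvd_of_dvd_pow h))
  rcases (Nat.Prime.dvd_mul hr).mp h with h | h
  · exact Or.inr (Or.inl (key Nat.prime_three (hr.dvd_of_dvd_pow h)))
  rcases (Nat.Prime.dvd_mul hr).mp h with h | h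
  · exact Or.inr (Or.inr (Or.inl (key Nat.prime_five (hr.dvd_of_dvd_pow h))))
  rcases (Nat.Prime.dvd_mul hr).mp h with h | h
  · exact Or.inr (Or.inr (Or.inr (Or.inl (key (by norm_num) (hr.dvd_of_dvd_pow h)))))
  rcases (Nat.Prime.dvd_mul hr).mp h with h | h
  · exact Or.inr (Or.inr (Or.inr (Or.inr (Or.inl (key (by norm_num) h)))))
  rcases (Nat.Prime.dvd_mul hr).mp h with h | h
  · exact Or.inr (Or.inr (Or.inr (Or.inr (Or.inr (Or.inl (key (by norm_num) h))))))
  · exact Or.inr (Or.inr (Or.inr (Or.inr (Or.inr (Or.inr (key (by norm_num) h))))))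

/-- a prime other than `2, 3, 5, 7` divides `|Co₁|` at most once -/
theorem sq_not_dvd (r : ℕ) (hr : r.Prime) (h2 : r ≠ 2) (h3 : r ≠ 3) (h5 : r ≠ 5) (h7 : r ≠ 7) :
    ¬ r ^ 2 ∣ 4157776806543360000 := by
  intro hdvd
  have hd : r ∣ 4157776806543360000 := (dvd_pow_self r (by norm_num)).trans hdvd
  rcases prime_cases r hr hd with rfl | rfl | rfl | rfl | rfl | rfl | rfl
  · exact h2 rfl
  · exact h3 rfl
  · exact h5 rfl
  · exact h7 rfl
  all_goals (revert hdvd; norm_num)

/-- composing a stem extension with an isomorphism of the target -/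
theorem stem_comp {Γ G K : Type*} [Group Γ] [Group G] [Group K] (σ : Γ →* G)
    (hσ : IsStemExtension σ) (e : G ≃* K) :
    IsStemExtension (e.toMonoidHom.comp σ) ∧ (e.toMonoidHom.comp σ).ker = σ.ker := by
  have hk : (e.toMonoidHom.comp σ).ker = σ.ker := by
    ext x
    simp only [MonoidHom.mem_ker, MonoidHom.coe_comp, MulEquiv.coe_toMonoidHom, Function.comp_apply,
      EmbeddingLike.map_eq_one_iff]
  refine ⟨⟨e.surjective.comp hσ.1, ?_, ?_⟩, hk⟩
  · rw [hk]; exact hσ.2.1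
  · rw [hk]; exact hσ.2.2

/-- the kernel of a finite stem extension of `K` has order at most two -/
theorem card_ker_le_two_of {K : Type} [Group K] [Finite K] (hcard : Nat.card K = 4157776806543360000)
    (h2 : ∀ {Γ : Type} [Group Γ] [Finite Γ] (σ : Γ →* K), IsStemExtension σ → IsPGroup 2 σ.ker →
      Nat.card σ.ker ≤ 2)
    (h3 : ∀ {Γ : Type} [Group Γ] [Finite Γ] (σ : Γ →* K), IsStemExtension σ → IsPGroup 3 σ.ker →
      Nat.card σ.ker ≤ 1)
    (h5 : ∀ {Γ : Type} [Group Γ] [Finite Γ] (σ : Γ →* K), IsStemExtension σ → IsPGroup 5 σ.ker →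
      Nat.card σ.ker ≤ 1)
    (h7 : ∀ {Γ : Type} [Group Γ] [Finite Γ] (σ : Γ →* K), IsStemExtension σ → IsPGroup 7 σ.ker →
      Nat.card σ.ker ≤ 1)
    {Γ : Type} [Group Γ] [Finite Γ] (σ : Γ →* K) (hσ : IsStemExtension σ) : Nat.card σ.ker ≤ 2 := by
  have hn0 : Nat.card σ.ker ≠ 0 := Nat.card_pos.ne'
  -- every prime divisor of the order of the kernel is two
  have hprime : ∀ {r : ℕ}, r.Prime → r ∣ Nat.card σ.ker → r = 2 := by
    intro r hr hdvd
    haveI : Fact r.Prime := ⟨hr⟩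
    by_contra hr2
    have hpos : (Nat.card σ.ker).factorization r ≠ 0 :=
      (hr.factorization_pos_of_dvd hn0 hdvd).ne'
    have hlt : 1 < r ^ (Nat.card σ.ker).factorization r := Nat.one_lt_pow hpos hr.one_lt
    by_cases h357 : r = 3 ∨ r = 5 ∨ r = 7
    · obtain ⟨Δ, _, _, τ, hτ, hkτ, hc⟩ := Cfsg.Agent.Lib.Helper10.Weak.exists_pker σ hσ r
      have h1 : Nat.card τ.ker ≤ 1 := by
        rcases h357 with h | h | h
        · subst h; exact h3 τ hτ hkτ
        · subst h; exact h5 τ hτ hkτ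
        · subst h; exact h7 τ hτ hkτ
      rw [hc] at h1
      omega
    · push Not at h357
      refine Cfsg.Agent.Lib.Helper11.SchurJ.not_dvd_of_sq_not_dvd σ hσ r ?_ hdvd
      rw [hcard]
      exact sq_not_dvd r hr hr2 h357.1 h357.2.1 h357.2.2
  -- so the order is a power of two, and the block for the prime two bounds it
  have hpow := Nat.eq_prime_pow_of_unique_prime_dvd hn0 (fun {d} hd hdvd => hprime hd hdvd)
  haveI : Fact (Nat.Prime 2) := ⟨Nat.prime_two⟩
  obtain ⟨Δ, _, _, τ, hτ, hkτ, hc⟩ := Cfsg.Agent.Lib.Helper10.Weak.exists_pker σ hσ 2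
  have h1 : Nat.card τ.ker ≤ 2 := h2 τ hτ hkτ
  rw [hc] at h1
  have hfac : (Nat.card σ.ker).factorization 2 = (Nat.card σ.ker).primeFactorsList.length := by
    conv_lhs => rw [hpow]
    rw [Nat.Prime.factorization_pow Nat.prime_two]
    simp
  rw [hfac, ← hpow] at h1
  exact h1

end Helper9

/-- **[ASM]** the Schur multiplier of `Co₁` is cyclic of order two, from the four blocks and the cover -/
theorem main_of {K : Type} [Group K] (e : Cfsg.Spor.Co1 ≃* K)
    (hcard : Nat.card K = 4157776806543360000)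
    (h2 : ∀ {Γ : Type} [Group Γ] [Finite Γ] (σ : Γ →* K), Cfsg.IsStemExtension σ → IsPGroup 2 σ.ker →
      Nat.card σ.ker ≤ 2)
    (h3 : ∀ {Γ : Type} [Group Γ] [Finite Γ] (σ : Γ →* K), Cfsg.IsStemExtension σ → IsPGroup 3 σ.ker →
      Nat.card σ.ker ≤ 1)
    (h5 : ∀ {Γ : Type} [Group Γ] [Finite Γ] (σ : Γ →* K), Cfsg.IsStemExtension σ → IsPGroup 5 σ.ker →
      Nat.card σ.ker ≤ 1)
    (h7 : ∀ {Γ : Type} [Group Γ] [Finite Γ] (σ : Γ →* K), Cfsg.IsStemExtension σ → IsPGroup 7 σ.ker →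
      Nat.card σ.ker ≤ 1)
    (hcov : ∃ (Γ : Type) (_ : Group Γ) (_ : Finite Γ) (σ : Γ →* Cfsg.Spor.Co1),
      Cfsg.IsStemExtension σ ∧ Nonempty (σ.ker ≃* Multiplicative (ZMod 2))) :
    Cfsg.HasCyclicSchurMultiplier Cfsg.Spor.Co1 2 := by
  haveI : Finite K := Nat.finite_of_card_ne_zero (by rw [hcard]; norm_num)
  haveI : Finite Cfsg.Spor.Co1 := Finite.of_equiv K e.symm.toEquiv
  refine Cfsg.Agent.Lib.Helper7.L34.hasSchurMultiplier_of_card_le hcov ?_
  intro Γ _ _ σ hσ
  have hA : Nat.card (Multiplicative (ZMod 2)) = 2 := by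
    rw [Nat.card_eq_fintype_card]; rfl
  rw [hA]
  obtain ⟨hst, hk⟩ := Helper9.stem_comp σ hσ e
  have h := Helper9.card_ker_le_two_of hcard h2 h3 h5 h7 (e.toMonoidHom.comp σ) hst
  rw [hk] at h
  exact h

end Cfsg.Agent.Lib.Helper22.Co1M
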