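import Mathlib
import Cfsg.Agent.H5.TCkSound
import Cfsg.Agent.Lib.Helper28.BSGSPerm
import Cfsg.Agent.Lib.Helper15.WalkFast
import Cfsg.Agent.Lib.Helper9.Co2M3UB

/-!
# S2044, the prime 3, piece [P3-REL] (helper9 for helper10): the relators `rels0` for the permutations `gP`, definitions

A word in the six letters acts through the list of its tables (`ev_acts3`); the checks are in `Co2M3RELC1`, `Co2M3RELC2`.
-/

set_option autoImplicit false
set_option maxRecDepth 100000

namespace Cfsg.Agent.Lib.Helper10.Co2M3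

open Cfsg.Agent.Lib.Helper28.BSGS Cfsg.H5.TCk
open Cfsg.Agent.Lib.Helper15.Walk (pairOKf pairOK_of_fast wordIdF wordId_of_fast)

namespace Helper9

/-- the table of a letter -/
def ltb3 (l : ℕ) : ℕ :=
  if l % 2 = 0 then (gabc.getD (l / 2) (0, 0)).1 else (gabc.getD (l / 2) (0, 0)).2

theorem pair_ok3 : ∀ i < 3,
    pairOK 4600 13 (gabc.getD i (0, 0)).1 (gabc.getD i (0, 0)).2 = true := by
  have h : ∀ i < 3, pairOKf 4600 13 (gabc.getD i (0, 0)).1 (gabc.getD i (0, 0)).2 = true := by
    decide +kernel
  exact fun i hi => pairOK_of_fast (h i hi)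

theorem gl_acts3 (l : ℕ) (hl : l < 6) (a : Fin 4600) :
    (gl gP l a).val = look 13 (ltb3 l) a.val := by
  rcases Nat.even_or_odd' l with ⟨i, rfl | rfl⟩
  · rw [gl_even]
    have h1 : ltb3 (2 * i) = (gabc.getD i (0, 0)).1 := by
      unfold ltb3
      rw [if_pos (by omega)]
      congr 3
      omega
    rw [h1]
    exact permOf_apply (pair_ok3 i (by omega)) a
  · rw [gl_odd]
    have h1 : ltb3 (2 * i + 1) = (gabc.getD i (0, 0)).2 := by
      unfold ltb3
      rw [if_neg (by omega)]
      congr 3
      omega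
    rw [h1]
    exact permOf_inv_apply (pair_ok3 i (by omega)) a

theorem ev_acts3 (w : List ℕ) (hw : ∀ l ∈ w, l < 6) :
    ActsByW 4600 13 (ev gP w) (w.map ltb3) := by
  induction w with
  | nil => exact actsByW_one 4600 13
  | cons l w ih =>
    have h1 : ev gP (l :: w) = gl gP l * ev gP w := rfl
    rw [h1, List.map_cons]
    exact actsByW_cons (gl_acts3 l (hw l List.mem_cons_self))
      (ih fun l' hl' => hw l' (List.mem_cons_of_mem _ hl'))

/-- the check of relator `j` of `rels0` -/
noncomputable def ok3 (j : ℕ) : Bool := wordIdF 4600 13 ((rels0.getD j []).map ltb3)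

theorem length_rels0 : rels0.length = 43 := by decide +kernel

theorem letters_ok3 : ∀ r ∈ rels0, ∀ l ∈ r, l < 6 := by
  intro r hr l hl
  have h := rels0_letters r hr
  rw [List.all_eq_true] at h
  exact of_decide_eq_true (h l hl)

theorem rel_of_ok3 (j : ℕ) (hj : j < rels0.length) (h : ok3 j = true) :
    ev gP (rels0.getD j []) = 1 := by
  have hm : rels0.getD j [] ∈ rels0 := by
    rw [List.getD_eq_getElem _ _ hj]
    exact List.getElem_mem hj
  exact eq_one_of_wordId 4600 13 (ev_acts3 _ (letters_ok3 _ hm)) (wordId_of_fast h)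

theorem all_of_ok3 (h : ∀ j < 43, ok3 j = true) : ∀ r ∈ rels0, ev gP r = 1 := by
  intro r hr
  obtain ⟨j, hj, rfl⟩ := List.getElem_of_mem hr
  have h1 := rel_of_ok3 j hj (h j (by rw [← length_rels0]; exact hj))
  rwa [List.getD_eq_getElem _ _ hj] at h1

end Helper9

/-- the three pairs of tables are valid -/
theorem gensOK_gabc : gensOK 4600 13 gabc = true := by
  unfold gensOK
  rw [List.all_eq_true]
  intro g hg
  unfold gabc at hg
  simp only [List.mem_cons, List.not_mem_nil, or_false] at hg
  rcases hg with rfl | rfl | rfl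
  · exact Helper9.pair_ok3 0 (by norm_num)
  · exact Helper9.pair_ok3 1 (by norm_num)
  · exact Helper9.pair_ok3 2 (by norm_num)

end Cfsg.Agent.Lib.Helper10.Co2M3
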