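import Cfsg.Agent.Lib.Helper9.Co2MRELDefs

/-! S2044 piece [MOD-REL] (helper9 for helper1): the words 336, …, 357 of `wordsAll` are trivial on the 4600 points -/

set_option autoImplicit false
set_option maxRecDepth 100000
set_option Elab.async false

namespace Cfsg.Agent.Lib.Helper1.Co2M.Helper9

theorem okG_336 : okG 336 = true := by decide +kernel
theorem okG_337 : okG 337 = true := by decide +kernel
theorem okG_338 : okG 338 = true := by decide +kernel
theorem okG_339 : okG 339 = true := by decide +kernel
theorem okG_340 : okG 340 = true := by decide +kernel
theorem okG_341 : okG 341 = true := by decide +kernel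
theorem okG_342 : okG 342 = true := by decide +kernel
theorem okG_343 : okG 343 = true := by decide +kernel
theorem okG_344 : okG 344 = true := by decide +kernel
theorem okG_345 : okG 345 = true := by decide +kernel
theorem okG_346 : okG 346 = true := by decide +kernel
theorem okG_347 : okG 347 = true := by decide +kernel
theorem okG_348 : okG 348 = true := by decide +kernel
theorem okG_349 : okG 349 = true := by decide +kernel
theorem okG_350 : okG 350 = true := by decide +kernel
theorem okG_351 : okG 351 = true := by decide +kernel
theorem okG_352 : okG 352 = true := by decide +kernel
theorem okG_353 : okG 353 = true := by decide +kernel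
theorem okG_354 : okG 354 = true := by decide +kernel
theorem okG_355 : okG 355 = true := by decide +kernel
theorem okG_356 : okG 356 = true := by decide +kernel
theorem okG_357 : okG 357 = true := by decide +kernel

theorem okG_chunk10 (j : ℕ) (h1 : 336 ≤ j) (h2 : j < 358) : okG j = true := by
  interval_cases j
  · exact okG_336
  · exact okG_337
  · exact okG_338
  · exact okG_339
  · exact okG_340
  · exact okG_341
  · exact okG_342
  · exact okG_343
  · exact okG_344
  · exact okG_345
  · exact okG_346
  · exact okG_347
  · exact okG_348
  · exact okG_349
  · exact okG_350
  · exact okG_351
  · exact okG_352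
  · exact okG_353
  · exact okG_354
  · exact okG_355
  · exact okG_356
  · exact okG_357

end Cfsg.Agent.Lib.Helper1.Co2M.Helper9
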