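import Cfsg.Agent.Lib.Helper9.Co2MRELDefs

/-!
# S2044 (helper9): checking further words in the 4600-point model

`ev_gm_eq_one_of z (by decide) (by decide +kernel)` proves `ev gm z = 1` for a literal word `z` in the letters
`0, …, 11` (`2 i` / `2 i + 1` = `gm i` / its inverse); `ev_um_eq_one_of` is the same for `um` (letters `0, …, 3`),
`ev_gm_eq_of` compares two words.
-/

set_option autoImplicit false

namespace Cfsg.Agent.Lib.Helper1.Co2M

open Cfsg.Agent.Lib.Helper28.BSGS Cfsg.H5.TCk
open Cfsg.Agent.Lib.Helper15.Walk (wordIdF wordId_of_fast wordEqF wordEq_of_fast)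

theorem ev_gm_eq_one_of (w : List ℕ) (hw : w.all (fun l => decide (l < 12)) = true)
    (h : wordIdF 4600 13 (w.map Helper9.ltb) = true) : ev gm w = 1 := by
  have hl : ∀ l ∈ w, l < 12 := by
    intro l hl
    rw [List.all_eq_true] at hw
    exact of_decide_eq_true (hw l hl)
  exact eq_one_of_wordId 4600 13 (Helper9.ev_acts w hl) (wordId_of_fast h)

theorem ev_um_eq_one_of (w : List ℕ) (hw : w.all (fun l => decide (l < 4)) = true)
    (h : wordIdF 4600 13 (w.map Helper9.ltbU) = true) : ev um w = 1 := by
  have hl : ∀ l ∈ w, l < 4 := by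
    intro l hl
    rw [List.all_eq_true] at hw
    exact of_decide_eq_true (hw l hl)
  exact eq_one_of_wordId 4600 13 (Helper9.ev_actsU w hl) (wordId_of_fast h)

theorem ev_gm_eq_of (w w' : List ℕ) (hw : w.all (fun l => decide (l < 12)) = true)
    (hw' : w'.all (fun l => decide (l < 12)) = true)
    (h : wordEqF 4600 13 (w.map Helper9.ltb) (w'.map Helper9.ltb) = true) : ev gm w = ev gm w' := by
  have hl : ∀ l ∈ w, l < 12 := by
    intro l hl
    rw [List.all_eq_true] at hw
    exact of_decide_eq_true (hw l hl)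
  have hl' : ∀ l ∈ w', l < 12 := by
    intro l hl
    rw [List.all_eq_true] at hw'
    exact of_decide_eq_true (hw' l hl)
  exact eq_of_wordEq 4600 13 (Helper9.ev_acts w hl) (Helper9.ev_acts w' hl') (wordEq_of_fast h)

end Cfsg.Agent.Lib.Helper1.Co2M
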