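import Cfsg.Agent.Lib.Helper9.Co2MRELX

/-!
# S2044 (helper9): three more words of length 10 in `g₀, …, g₃` which are trivial in the 4600-point model

They are helper12's words for the central involution of `2.M₂₂ = ⟨a, b, c, d | relsG restricted⟩` (piece [MOD-ORD-TC]).
-/

set_option autoImplicit false
set_option maxRecDepth 100000

namespace Cfsg.Agent.Lib.Helper1.Co2M

open Cfsg.H5.TCk

theorem ev_gm_zw : ev gm [0, 0, 4, 6, 0, 5, 1, 6, 1, 6] = 1 :=
  ev_gm_eq_one_of _ (by decide) (by decide +kernel)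

theorem ev_gm_zw2 : ev gm [0, 3, 4, 4, 7, 0, 7, 0, 6, 5] = 1 :=
  ev_gm_eq_one_of _ (by decide) (by decide +kernel)

theorem ev_gm_zw3 : ev gm [0, 4, 1, 7, 5, 1, 1, 7, 0, 7] = 1 :=
  ev_gm_eq_one_of _ (by decide) (by decide +kernel)

end Cfsg.Agent.Lib.Helper1.Co2M
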