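import Mathlib
import Cfsg.Agent.Lib.Helper9.CompAct9
import Cfsg.Agent.Lib.Helper10.PComponent
import Cfsg.Agent.Lib.Helper10.Transport
import Cfsg.Agent.Lib.Helper12.Generation

/-!
# A lemma from the solvable signalizer functor theorem (S1288)
-/

set_option autoImplicit false
set_option linter.unusedSectionVars false
set_option linter.unusedVariables false

namespace Cfsg.Agent.Lib.Helper9.SigLemma

open Cfsg
open scoped commutatorElement

section Abstract

variable {X : Type*} [Group X] [Finite X] (q : ℕ) [Fact q.Prime]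

theorem pow_mem_pPrimeCore_of_mem_pPrimePCore {r : X} (hr : r ∈ pPrimePCore q X) :
    ∃ k : ℕ, r ^ (q ^ k) ∈ pPrimeCore q X := by
  have hn : (pPrimeCore q X).Normal := Cfsg.Agent.Lib.Helper1.pPrimeCore_normal q
  unfold pPrimePCore at hr
  rw [Subgroup.mem_comap] at hr
  have hQ : IsPGroup q (pCore q (X ⧸ pPrimeCore q X)) := Cfsg.Agent.Lib.Helper1.pCore_isPGroup q
  obtain ⟨k, hk⟩ := hQ ⟨_, hr⟩
  refine ⟨k, ?_⟩
  rw [← QuotientGroup.eq_one_iff]
  have h1 := congrArg Subtype.val hk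
  rw [Subgroup.coe_pow, Subgroup.coe_one] at h1
  rw [← h1]
  rfl

theorem layer_eq_bot_of_isSolvable {Y : Type*} [Group Y] [Group.IsSolvable Y] : layer Y = ⊥ := by
  rw [eq_bot_iff]
  apply sSup_le
  intro L hL
  exfalso
  exact qs_not_isSolvable (comp_qs hL) inferInstance

theorem mem_pPrimePCore_of_commutator_mem [Group.IsSolvable X] {u : X}
    (h : ∀ r ∈ pPrimePCore q X, ⁅u, r⁆ ∈ pPrimeCore q X) : u ∈ pPrimePCore q X := by
  have hn : (pPrimeCore q X).Normal := Cfsg.Agent.Lib.Helper1.pPrimeCore_normal q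
  have hpl : pLayer q X = ⊥ := by
    rw [Cfsg.Agent.Lib.Helper10.pLayer_eq_bot_iff]
    exact layer_eq_bot_of_isSolvable
  have hle := (Cfsg.Agent.Lib.Helper10.centralizer_pCore_quotient_le_iff (G := X) q).mpr hpl
  unfold pPrimePCore
  rw [Subgroup.mem_comap]
  apply hle
  rw [Subgroup.mem_centralizer_iff]
  intro c hc
  obtain ⟨r, rfl⟩ := QuotientGroup.mk'_surjective (pPrimeCore q X) c
  have hr : r ∈ pPrimePCore q X := by
    unfold pPrimePCore
    rw [Subgroup.mem_comap]; exact hc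
  have h1 := h r hr
  rw [← QuotientGroup.eq_one_iff] at h1
  have e : ((⁅u, r⁆ : X) : X ⧸ pPrimeCore q X) =
      ⁅QuotientGroup.mk' (pPrimeCore q X) u, QuotientGroup.mk' (pPrimeCore q X) r⁆ := by
    rw [commutatorElement_def, commutatorElement_def]
    simp
  rw [e, commutatorElement_eq_one_iff_mul_comm] at h1
  exact h1.symm

end Abstract

section Char

variable {H : Type*} [Group H]

theorem normalizer_le_normalizer_map_subtype_of_characteristic {K : Subgroup H} (C : Subgroup ↥K)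
    [hC : C.Characteristic] :
    Subgroup.normalizer (K : Set H) ≤
      Subgroup.normalizer ((C.map K.subtype : Subgroup H) : Set H) := by
  have key : ∀ n ∈ Subgroup.normalizer (K : Set H), ∀ c ∈ C.map K.subtype,
      n * c * n⁻¹ ∈ C.map K.subtype := by
    rintro n hn _ ⟨c, hc, rfl⟩
    set σ : MulAut ↥K := K.normalizerMonoidHom ⟨n, hn⟩ with hσ
    have h1 : C.map σ.toMonoidHom = C := Subgroup.characteristic_iff_map_eq.mp hC σ
    have h2 : σ c ∈ C := by
      rw [← h1]; exact ⟨c, hc, rfl⟩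
    exact ⟨σ c, h2, rfl⟩
  intro n hn
  rw [Subgroup.mem_normalizer_iff]
  intro c
  constructor
  · exact key n hn c
  · intro h
    have := key n⁻¹ (Subgroup.inv_mem _ hn) _ h
    simpa [mul_assoc] using this

end Char

section Main

variable {H : Type*} [Group H] [Finite H]

/-- a hyperplane in an elementary abelian group of order at least `p²` -/
theorem exists_hyperplane (p : ℕ) [Fact p.Prime] {A : Subgroup H}
    (hA : Cfsg.IsElementaryAbelian p A) (hA2 : p ^ 2 ≤ Nat.card ↥A) :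
    ∃ B : Subgroup H, B ≤ A ∧ B.relIndex A = p := by
  have hp : p.Prime := Fact.out
  have hAp : IsPGroup p A := Cfsg.Agent.Lib.Helper12.isPGroup_of_exponent hA.2
  obtain ⟨m, hm⟩ := IsPGroup.iff_card.mp hAp
  have hm1 : 1 ≤ m := by
    by_contra hcon
    have : m = 0 := by omega
    rw [this, pow_zero] at hm
    rw [hm] at hA2
    have : 2 ^ 2 ≤ p ^ 2 := Nat.pow_le_pow_left hp.two_le 2
    omega
  obtain ⟨B', hB'⟩ := Sylow.exists_subgroup_card_pow_prime (G := ↥A) p (n := m - 1)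
    (by rw [hm]; exact pow_dvd_pow p (by omega))
  refine ⟨B'.map A.subtype, Subgroup.map_subtype_le _, ?_⟩
  have h1 : Nat.card ↥(B'.map A.subtype) = p ^ (m - 1) := by
    rw [Subgroup.card_map_of_injective (Subgroup.subtype_injective _), hB']
  have h2 := Cfsg.Agent.Lib.Helper1.card_mul_relIndex_of_le (Subgroup.map_subtype_le B')
  rw [h1, hm] at h2
  have h3 : p ^ m = p ^ (m - 1) * p := by
    rw [← pow_succ]; congr 1; omega
  rw [h3] at h2
  exact Nat.eq_of_mul_eq_mul_left (pow_pos hp.pos _) h2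

/-- **S1288** -/
theorem le_pPrimeCore_of_hyperplane_commutators (p : ℕ) [Fact p.Prime] (A K : Subgroup H)
    (hA : Cfsg.IsElementaryAbelian p A) (hA2 : p ^ 2 ≤ Nat.card ↥A) (hK : ¬ p ∣ Nat.card ↥K)
    (hKs : Group.IsSolvable ↥K) (hAK : A ≤ Subgroup.normalizer (K : Set H)) (q : ℕ)
    [Fact q.Prime] (U : Subgroup H) (hU : U ≤ K) (hUq : ¬ q ∣ Nat.card ↥U)
    (hcomm : ∀ B : Subgroup H, B ≤ A → B.relIndex A = p →
      ¬ q ∣ Nat.card ↥⁅U, K ⊓ Subgroup.centralizer (B : Set H)⁆) :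
    U ≤ (Cfsg.pPrimeCore q ↥K).map K.subtype := by
  have hp : p.Prime := Fact.out
  have hq : q.Prime := Fact.out
  set M := (pPrimeCore q ↥K).map K.subtype with hM
  set R := (pPrimePCore q ↥K).map K.subtype with hR
  have hRK : R ≤ K := Subgroup.map_subtype_le _
  have hMK : M ≤ K := Subgroup.map_subtype_le _
  have hM'n : (pPrimeCore q ↥K).Normal := Cfsg.Agent.Lib.Helper1.pPrimeCore_normal q
  have hR'c : (pPrimePCore q ↥K).Characteristic :=
    Cfsg.Agent.Lib.Helper10.pPrimePCore_characteristic q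
  have hR'n : (pPrimePCore q ↥K).Normal := inferInstance
  have hRpow : ∀ r ∈ R, ∃ k : ℕ, r ^ (q ^ k) ∈ M := by
    rintro _ ⟨r, hr, rfl⟩
    obtain ⟨k, hk⟩ := pow_mem_pPrimeCore_of_mem_pPrimePCore q hr
    exact ⟨k, ⟨_, hk, by simp⟩⟩
  have hMn : ∀ k ∈ K, ∀ m ∈ M, k * m * k⁻¹ ∈ M := by
    rintro k hk _ ⟨m, hm, rfl⟩
    exact ⟨_, hM'n.conj_mem m hm ⟨k, hk⟩, by simp⟩
  have hRn : ∀ k ∈ K, ∀ r ∈ R, k * r * k⁻¹ ∈ R := by
    rintro k hk _ ⟨r, hr, rfl⟩
    exact ⟨_, hR'n.conj_mem r hr ⟨k, hk⟩, by simp⟩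
  have hAR : A ≤ Subgroup.normalizer (R : Set H) :=
    hAK.trans (normalizer_le_normalizer_map_subtype_of_characteristic _)
  have hpR : ¬ p ∣ Nat.card ↥R := fun h => hK (h.trans (Subgroup.card_dvd_of_le hRK))
  have hgen := Cfsg.Agent.Lib.Helper12.le_iSup_relIndex_le_of_isElementaryAbelian hA hAR hpR
  obtain ⟨B₀, hB₀A, hB₀⟩ := exists_hyperplane p hA hA2
  have hAp : IsPGroup p A := Cfsg.Agent.Lib.Helper12.isPGroup_of_exponent hA.2
  have hD : ∀ D : Subgroup H, D ≤ A → D.relIndex A ≤ p →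
      ∃ B : Subgroup H, B ≤ D ∧ B ≤ A ∧ B.relIndex A = p := by
    intro D hDA hDp
    by_cases h : D.relIndex A = p
    · exact ⟨D, le_rfl, hDA, h⟩
    · have hlt : D.relIndex A < p := lt_of_le_of_ne hDp h
      have hdvd : D.relIndex A ∣ Nat.card ↥A := Subgroup.relIndex_dvd_card D A
      obtain ⟨m, hm⟩ := IsPGroup.iff_card.mp hAp
      rw [hm] at hdvd
      obtain ⟨j, hj, hj'⟩ := (Nat.dvd_prime_pow hp).mp hdvd
      have hj0 : j = 0 := by
        by_contra hne
        have : p ^ 1 ≤ p ^ j := Nat.pow_le_pow_right hp.pos (by omega)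
        rw [pow_one, ← hj'] at this
        omega
      rw [hj0, pow_zero] at hj'
      have hAD : A ≤ D := Subgroup.relIndex_eq_one.mp hj'
      exact ⟨B₀, hB₀A.trans hAD, hB₀A, hB₀⟩
  have hcop_mem : ∀ y ∈ R, (orderOf y).Coprime q → y ∈ M := by
    intro y hy hyo
    obtain ⟨k, hk⟩ := hRpow y hy
    have h1 : (q ^ k).Coprime (orderOf y) := (Nat.Coprime.pow_right k hyo).symm
    obtain ⟨m, hm⟩ := exists_pow_eq_self_of_coprime h1
    rw [← hm]
    exact M.pow_mem hk m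
  have key : ∀ r ∈ R, r ∈ K ∧ ∀ u ∈ U, ⁅u, r⁆ ∈ M := by
    intro r hr
    refine Subgroup.iSup_induction _ (C := fun r => r ∈ K ∧ ∀ u ∈ U, ⁅u, r⁆ ∈ M) (hgen hr) ?_ ?_ ?_
    · rintro ⟨D, hDA, hDp⟩ x hx
      obtain ⟨hxR, hxD⟩ := Subgroup.mem_inf.mp hx
      refine ⟨hRK hxR, ?_⟩
      intro u hu
      obtain ⟨B, hBD, hBA, hBp⟩ := hD D hDA hDp
      have hxB : x ∈ K ⊓ Subgroup.centralizer (B : Set H) := by
        refine Subgroup.mem_inf.mpr ⟨hRK hxR, ?_⟩
        exact Subgroup.centralizer_le (by exact_mod_cast hBD) hxD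
      have h1 : ⁅u, x⁆ ∈ ⁅U, K ⊓ Subgroup.centralizer (B : Set H)⁆ :=
        Subgroup.commutator_mem_commutator hu hxB
      have h2 : orderOf ⁅u, x⁆ ∣ Nat.card ↥⁅U, K ⊓ Subgroup.centralizer (B : Set H)⁆ := by
        have := orderOf_dvd_natCard (⟨_, h1⟩ : ↥⁅U, K ⊓ Subgroup.centralizer (B : Set H)⁆)
        rwa [Subgroup.orderOf_mk] at this
      have h3 : (Nat.card ↥⁅U, K ⊓ Subgroup.centralizer (B : Set H)⁆).Coprime q :=
        ((Nat.Prime.coprime_iff_not_dvd hq).mpr (hcomm B hBA hBp)).symm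
      apply hcop_mem _ _ (Nat.Coprime.coprime_dvd_left h2 h3)
      rw [commutatorElement_def]
      exact R.mul_mem (hRn u (hU hu) x hxR) (R.inv_mem hxR)
    · refine ⟨K.one_mem, ?_⟩
      intro u hu
      rw [commutatorElement_def]
      simp
    · rintro x y ⟨hxK, hx⟩ ⟨hyK, hy⟩
      refine ⟨K.mul_mem hxK hyK, ?_⟩
      intro u hu
      have e : ⁅u, x * y⁆ = ⁅u, x⁆ * (x * ⁅u, y⁆ * x⁻¹) := by
        simp only [commutatorElement_def]; group
      rw [e]
      exact M.mul_mem (hx u hu) (hMn x hxK _ (hy u hu))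
  intro u hu
  have huK : u ∈ K := hU hu
  have huR : u ∈ R := by
    have h1 : (⟨u, huK⟩ : ↥K) ∈ pPrimePCore q ↥K := by
      apply mem_pPrimePCore_of_commutator_mem q
      intro r' hr'
      have hrR : (r' : H) ∈ R := ⟨r', hr', rfl⟩
      obtain ⟨m', hm', hm'e⟩ := (key _ hrR).2 u hu
      have : m' = ⁅(⟨u, huK⟩ : ↥K), r'⁆ := by
        apply Subtype.ext
        rw [← Subgroup.subtype_apply, hm'e]
        simp [commutatorElement_def]
      rw [← this]; exact hm'
    exact ⟨_, h1, rfl⟩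
  apply hcop_mem u huR
  have h2 : orderOf u ∣ Nat.card ↥U := by
    have := orderOf_dvd_natCard (⟨u, hu⟩ : ↥U)
    rwa [Subgroup.orderOf_mk] at this
  exact Nat.Coprime.coprime_dvd_left h2 ((Nat.Prime.coprime_iff_not_dvd hq).mpr hUq).symm

end Main

end Cfsg.Agent.Lib.Helper9.SigLemma
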