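import Mathlib
import Cfsg.Agent.Lib.Helper9.CompAct9
import Cfsg.Agent.Lib.Helper9.SigLemma

/-!
# Unbalanced components (S1328)
-/

set_option autoImplicit false
set_option linter.unusedSectionVars false
set_option linter.unusedVariables false

namespace Cfsg.Agent.Lib.Helper9.CompAct

open Cfsg
open scoped commutatorElement

variable {G : Type*} [Group G]

/-- conjugation commutes with `map subtype` -/
theorem map_subtype_cj {X₁ : Subgroup G} (g : ↥X₁) (E₁ : Subgroup ↥X₁) :
    (cj g E₁).map X₁.subtype = cj (g : G) (E₁.map X₁.subtype) := by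
  ext y
  constructor
  · rintro ⟨_, ⟨e, he, rfl⟩, rfl⟩
    exact ⟨(e : G), ⟨e, he, rfl⟩, by simp [MulAut.conj_apply]⟩
  · rintro ⟨_, ⟨e, he, rfl⟩, rfl⟩
    exact ⟨(MulAut.conj g).toMonoidHom e, ⟨e, he, rfl⟩, by simp [MulAut.conj_apply]⟩

theorem mem_centralizer_map_subtype_iff {X₁ : Subgroup G} (g : ↥X₁) (E₁ : Subgroup ↥X₁) :
    (g : G) ∈ Subgroup.centralizer ((E₁.map X₁.subtype : Subgroup G) : Set G) ↔
      g ∈ Subgroup.centralizer (E₁ : Set ↥X₁) := by
  rw [Subgroup.mem_centralizer_iff, Subgroup.mem_centralizer_iff]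
  constructor
  · intro h e he
    apply Subtype.ext
    exact h (e : G) ⟨e, he, rfl⟩
  · rintro h _ ⟨e, he, rfl⟩
    exact congrArg Subtype.val (h e he)

section Finite
variable [Finite G]

/-- `|H⟨t⟩ : H| ∣ 2`. -/
theorem index_subgroupOf_sup_zpowers_dvd {H : Subgroup G} {t : G}
    (ht : orderOf t = 2) (htH : t ∈ Subgroup.normalizer (H : Set G)) :
    (H.subgroupOf (H ⊔ Subgroup.zpowers t)).index ∣ 2 := by
  set H₁ := H ⊔ Subgroup.zpowers t with hH₁
  have hHH₁ : H ≤ H₁ := le_sup_left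
  have htH₁ : t ∈ H₁ := le_sup_right (a := H) (Subgroup.mem_zpowers t)
  set H' := H.subgroupOf H₁ with hH'
  set x : ↥H₁ := ⟨t, htH₁⟩ with hx
  have hH₁n : H₁ ≤ Subgroup.normalizer (H : Set G) :=
    sup_le Subgroup.le_normalizer (by rw [Subgroup.zpowers_le]; exact htH)
  have hH'n : H'.Normal := (Subgroup.normal_subgroupOf_iff_le_normalizer hHH₁).mpr hH₁n
  have hsup : H' ⊔ Subgroup.zpowers x = ⊤ := by
    rw [eq_top_iff]
    rintro ⟨g, hg⟩ _
    obtain ⟨h, hh, z, hz, rfl⟩ := (Cfsg.Agent.Lib.Helper9.mem_sup_of_le_normalizer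
      (by rw [Subgroup.zpowers_le]; exact htH : Subgroup.zpowers t ≤ _)).mp hg
    obtain ⟨k, rfl⟩ := hz
    have e : (⟨h * t ^ k, hg⟩ : ↥H₁) = ⟨h, hHH₁ hh⟩ * x ^ k := by
      apply Subtype.ext
      simp [hx]
    rw [e]
    exact Subgroup.mul_mem _ (Subgroup.mem_sup_left (by
      rw [hH', Subgroup.mem_subgroupOf]; exact hh))
      (Subgroup.mem_sup_right (Subgroup.zpow_mem _ (Subgroup.mem_zpowers x) k))
  have h1 : H'.relIndex (Subgroup.zpowers x ⊔ H') = H'.relIndex (Subgroup.zpowers x) :=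
    Subgroup.relIndex_sup_right _ _
  rw [sup_comm, hsup, Subgroup.relIndex_top_right] at h1
  rw [h1]
  have h2 : H'.relIndex (Subgroup.zpowers x) ∣ Nat.card (Subgroup.zpowers x) :=
    Subgroup.relIndex_dvd_card _ _
  rw [Nat.card_zpowers] at h2
  have h3 : orderOf x = 2 := by
    rw [hx, Subgroup.orderOf_mk]; exact ht
  rwa [h3] at h2

/-- a normal subgroup of index dividing `2` contains the commutator subgroup. -/
theorem commutator_le_of_index_dvd_two {X : Type*} [Group X] {N : Subgroup X} [N.Normal]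
    (h : N.index ∣ 2) : commutator X ≤ N := by
  have h1 : Nat.card (X ⧸ N) ∣ 2 := by rw [← Subgroup.index_eq_card]; exact h
  have : Fact (Nat.Prime 2) := ⟨Nat.prime_two⟩
  have : IsCyclic (X ⧸ N) := isCyclic_of_card_dvd_prime (p := 2) h1
  let _ : CommGroup (X ⧸ N) := IsCyclic.commGroup
  have h2 := Abelianization.commutator_subset_ker (QuotientGroup.mk' N)
  rwa [QuotientGroup.ker_mk'] at h2

/-- `O(H⟨t⟩) = 1` if `O(H) = 1` and the involution `t` normalizes `H`. -/
theorem oddCore_sup_zpowers_eq_bot {H : Subgroup G} (hO : Cfsg.oddCore ↥H = ⊥) {t : G}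
    (ht : orderOf t = 2) (htH : t ∈ Subgroup.normalizer (H : Set G)) :
    pPrimeCore 2 ↥(H ⊔ Subgroup.zpowers t) = ⊥ := by
  set H₁ := H ⊔ Subgroup.zpowers t with hH₁
  have hHH₁ : H ≤ H₁ := le_sup_left
  have htH₁ : t ∈ H₁ := le_sup_right (a := H) (Subgroup.mem_zpowers t)
  set H' := H.subgroupOf H₁ with hH'
  have hH₁n : H₁ ≤ Subgroup.normalizer (H : Set G) :=
    sup_le Subgroup.le_normalizer (by rw [Subgroup.zpowers_le]; exact htH)
  have hH'n : H'.Normal := (Subgroup.normal_subgroupOf_iff_le_normalizer hHH₁).mpr hH₁n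
  set W := pPrimeCore 2 ↥H₁ with hW
  have hWn : W.Normal := Cfsg.Agent.Lib.Helper1.pPrimeCore_normal 2
  have hWcop : (Nat.card W).Coprime 2 := Cfsg.Agent.Lib.Helper1.pPrimeCore_coprime 2
  -- W ∩ H' = 1
  have hWH : ∀ w ∈ W, w ∈ H' → w = 1 := by
    intro w hw hwH
    set V : Subgroup ↥H := ((W ⊓ H').map H₁.subtype).subgroupOf H with hV
    have hVmem : ∀ h : ↥H, h ∈ V ↔ ∃ hh : (h : G) ∈ H₁, (⟨(h : G), hh⟩ : ↥H₁) ∈ W := by
      intro h
      rw [hV, Subgroup.mem_subgroupOf]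
      constructor
      · rintro ⟨v, hv, hvh⟩
        have : v = ⟨(h : G), hHH₁ h.2⟩ := Subtype.ext hvh
        rw [this] at hv
        exact ⟨hHH₁ h.2, hv.1⟩
      · rintro ⟨hh, hhW⟩
        refine ⟨⟨(h : G), hh⟩, Subgroup.mem_inf.mpr ⟨hhW, ?_⟩, rfl⟩
        rw [hH', Subgroup.mem_subgroupOf]; exact h.2
    have hVn : V.Normal := by
      constructor
      intro v hv k
      rw [hVmem] at hv ⊢
      obtain ⟨hh, hhW⟩ := hv
      refine ⟨hHH₁ (k * v * k⁻¹).2, ?_⟩
      have := hWn.conj_mem _ hhW ⟨(k : G), hHH₁ k.2⟩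
      exact this
    have hVcop : (Nat.card V).Coprime 2 := by
      have h1 : Nat.card V ∣ Nat.card W := by
        have e1 : Nat.card V = Nat.card ↥((W ⊓ H').map H₁.subtype) := by
          apply Nat.card_congr
          exact (Subgroup.subgroupOfEquivOfLe (by
            rintro _ ⟨v, hv, rfl⟩
            have h9 : v ∈ H.subgroupOf H₁ := hv.2
            exact Subgroup.mem_subgroupOf.mp h9)).toEquiv
        rw [e1, Subgroup.card_map_of_injective (Subgroup.subtype_injective _)]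
        exact Subgroup.card_dvd_of_le inf_le_left
      exact Nat.Coprime.coprime_dvd_left h1 hWcop
    have hVle : V ≤ pPrimeCore 2 ↥H := Cfsg.Agent.Lib.Helper1.le_pPrimeCore hVn hVcop
    have hO' : pPrimeCore 2 ↥H = ⊥ := hO
    rw [hO', le_bot_iff] at hVle
    rw [hH', Subgroup.mem_subgroupOf] at hwH
    have h2 : (⟨(w : G), hwH⟩ : ↥H) ∈ V := (hVmem _).mpr ⟨w.2, hw⟩
    rw [hVle, Subgroup.mem_bot] at h2
    apply Subtype.ext
    have h3 : ((⟨(w : G), hwH⟩ : ↥H) : G) = ((1 : ↥H) : G) := congrArg Subtype.val h2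
    exact h3
  -- index
  set π := QuotientGroup.mk' H' with hπ
  have hcardW : Nat.card ↥(W.map π) = Nat.card ↥W := by
    apply card_map_of_inf_ker_eq_bot
    intro c hc hc1
    exact hWH c hc ((QuotientGroup.eq_one_iff c).mp hc1)
  have hidx : H'.index ∣ 2 := index_subgroupOf_sup_zpowers_dvd ht htH
  have h4 : Nat.card ↥W ∣ 2 := by
    rw [← hcardW]
    have : Nat.card ↥(W.map π) ∣ Nat.card (↥H₁ ⧸ H') := Subgroup.card_subgroup_dvd_card _
    exact this.trans (by rw [← Subgroup.index_eq_card]; exact hidx)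
  have h5 : Nat.card ↥W = 1 := Nat.Coprime.eq_one_of_dvd hWcop h4
  exact Subgroup.card_eq_one.mp h5

/-- transport of a component of `H₁` lying in `H ≤ H₁` to a component of `H`. -/
theorem exists_component_of_le_subgroupOf {H H₁ : Subgroup G} (hHH₁ : H ≤ H₁)
    {E₁ : Subgroup ↥H₁} (hE₁ : IsComponent E₁) (hle : E₁ ≤ H.subgroupOf H₁) :
    ∃ E : Subgroup ↥H, IsComponent E ∧ E.map H.subtype = E₁.map H₁.subtype := by
  set ι : ↥H →* ↥H₁ := Subgroup.inclusion hHH₁ with hι
  have hιinj : Function.Injective ι := Subgroup.inclusion_injective hHH₁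
  refine ⟨E₁.comap ι, ⟨hE₁.1.comap ι, ?_⟩, ?_⟩
  · have hrange : E₁ ≤ ι.range := by
      intro e he
      have h1 : (e : G) ∈ H := Subgroup.mem_subgroupOf.mp (hle he)
      exact ⟨⟨(e : G), h1⟩, Subtype.ext rfl⟩
    have hmap : (E₁.comap ι).map ι = E₁ := Subgroup.map_comap_eq_self hrange
    have e1 : ↥(E₁.comap ι) ≃* ↥((E₁.comap ι).map ι) :=
      Subgroup.equivMapOfInjective _ ι hιinj
    have e2 : ↥((E₁.comap ι).map ι) ≃* ↥E₁ := MulEquiv.subgroupCongr hmap
    exact Cfsg.Agent.Lib.Helper9.qs_of_mulEquiv (e1.trans e2).symm hE₁.2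
  · ext y
    constructor
    · rintro ⟨h, hh, rfl⟩
      exact ⟨ι h, hh, rfl⟩
    · rintro ⟨e, he, rfl⟩
      have h1 : (e : G) ∈ H := Subgroup.mem_subgroupOf.mp (hle he)
      refine ⟨⟨(e : G), h1⟩, ?_, rfl⟩
      have : ι ⟨(e : G), h1⟩ = e := Subtype.ext rfl
      rw [SetLike.mem_coe, Subgroup.mem_comap, this]
      exact he

/-- **S1328**: if `O(H) = 1`, the involution `t` normalizes `H` and `1 ≠ Y ≤ O(C_H(t))`, then
some component of `H` is normalized by `t` and `Y` and centralized by neither. -/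
theorem exists_unbalanced_component {H : Subgroup G} (hO : Cfsg.oddCore ↥H = ⊥) {t : G}
    (ht : orderOf t = 2) (htH : t ∈ Subgroup.normalizer (H : Set G)) {Y : Subgroup G}
    (hY1 : Y ≠ ⊥)
    (hY : Y ≤ (Cfsg.oddCore ↥(H ⊓ Subgroup.centralizer ({t} : Set G))).map
      (H ⊓ Subgroup.centralizer ({t} : Set G)).subtype) :
    ∃ E : Subgroup ↥H, Cfsg.IsComponent E ∧
      (E.map H.subtype).map (MulAut.conj t).toMonoidHom = E.map H.subtype ∧
      Y ≤ Subgroup.normalizer ((E.map H.subtype : Subgroup G) : Set G) ∧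
      ¬ (t ∈ Subgroup.centralizer ((E.map H.subtype : Subgroup G) : Set G)) ∧
      ¬ (Y ≤ Subgroup.centralizer ((E.map H.subtype : Subgroup G) : Set G)) := by
  have hOX : pPrimeCore 2 ↥(H ⊔ Subgroup.zpowers t) = ⊥ := oddCore_sup_zpowers_eq_bot hO ht htH
  have hidx := index_subgroupOf_sup_zpowers_dvd ht htH
  set H₁ := H ⊔ Subgroup.zpowers t with hH₁
  have hHH₁ : H ≤ H₁ := le_sup_left
  have htH₁ : t ∈ H₁ := le_sup_right (a := H) (Subgroup.mem_zpowers t)
  have hH₁n : H₁ ≤ Subgroup.normalizer (H : Set G) :=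
    sup_le Subgroup.le_normalizer (by rw [Subgroup.zpowers_le]; exact htH)
  have hH'n : (H.subgroupOf H₁).Normal :=
    (Subgroup.normal_subgroupOf_iff_le_normalizer hHH₁).mpr hH₁n
  set x : ↥H₁ := ⟨t, htH₁⟩ with hx
  have hxo : orderOf x = 2 := by rw [hx, Subgroup.orderOf_mk]; exact ht
  set Ct : Subgroup G := H ⊓ Subgroup.centralizer ({t} : Set G) with hCt
  set Ot : Subgroup G := (Cfsg.oddCore ↥Ct).map Ct.subtype with hOt
  have hOtCt : Ot ≤ Ct := Subgroup.map_subtype_le _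
  have hOtH : Ot ≤ H := hOtCt.trans inf_le_left
  have hOtH₁ : Ot ≤ H₁ := hOtH.trans hHH₁
  set D : Subgroup ↥H₁ := Ot.subgroupOf H₁ with hD
  -- `D ≤ O(C_X(x))`
  have hDcpc : D ≤ centralizerPPrimeCore 2 x := by
    apply le_cpc_of_conj_mem 2 x D D
    · intro d hd
      rw [hD, Subgroup.mem_subgroupOf] at hd
      have h1 : (d : G) ∈ Subgroup.centralizer ({t} : Set G) := (hOtCt hd).2
      rw [Subgroup.mem_centralizer_iff] at h1 ⊢
      intro y hy
      rw [Set.mem_singleton_iff] at hy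
      subst hy
      apply Subtype.ext
      exact h1 t rfl
    · have e1 : Nat.card D = Nat.card Ot :=
        Nat.card_congr (Subgroup.subgroupOfEquivOfLe hOtH₁).toEquiv
      rw [e1, hOt, Subgroup.card_map_of_injective (Subgroup.subtype_injective _)]
      exact Cfsg.Agent.Lib.Helper1.pPrimeCore_coprime 2
    · intro b hb d hd
      exact D.mul_mem (D.mul_mem hb hd) (D.inv_mem hb)
    · intro c hc d hd
      rw [hD, Subgroup.mem_subgroupOf] at hd ⊢
      have hc1 : (c : G) ∈ Subgroup.normalizer (H : Set G) := hH₁n c.2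
      have hc2 : (c : G) ∈ Subgroup.centralizer ({t} : Set G) := by
        rw [Subgroup.mem_centralizer_iff] at hc ⊢
        intro y hy
        rw [Set.mem_singleton_iff] at hy
        subst hy
        exact congrArg Subtype.val (hc x rfl)
      have hc3 : (c : G) ∈ Subgroup.normalizer (Ct : Set G) := by
        rw [Subgroup.mem_normalizer_iff]
        intro g
        rw [hCt, Subgroup.mem_inf, Subgroup.mem_inf,
          ← Subgroup.mem_normalizer_iff.mp hc1 g,
          ← Subgroup.mem_normalizer_iff.mp (Subgroup.le_normalizer hc2) g]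
      have : (Cfsg.oddCore ↥Ct).Characteristic :=
        Cfsg.Agent.Lib.Helper1.pPrimeCore_characteristic 2
      have hc4 : (c : G) ∈ Subgroup.normalizer (Ot : Set G) :=
        Cfsg.Agent.Lib.Helper9.SigLemma.normalizer_le_normalizer_map_subtype_of_characteristic
          (Cfsg.oddCore ↥Ct) hc3
      exact (Subgroup.mem_normalizer_iff.mp hc4 _).mp hd
  -- `Y' = Y` inside `H₁`
  set Y' : Subgroup ↥H₁ := Y.subgroupOf H₁ with hY'
  have hY'D : Y' ≤ D := by
    intro y hy
    rw [hY', Subgroup.mem_subgroupOf] at hy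
    rw [hD, Subgroup.mem_subgroupOf]
    exact hY hy
  have hY'ne : Y' ≠ ⊥ := by
    intro h
    apply hY1
    rw [eq_bot_iff]
    intro y hy
    have h1 : (⟨y, hOtH₁ (hY hy)⟩ : ↥H₁) ∈ Y' := by
      rw [hY', Subgroup.mem_subgroupOf]; exact hy
    rw [h, Subgroup.mem_bot] at h1
    rw [Subgroup.mem_bot]
    exact congrArg Subtype.val h1
  -- a component not centralized by `Y'`
  have hex : ∃ E₁ : Subgroup ↥H₁, IsComponent E₁ ∧
      ¬ E₁ ≤ Subgroup.centralizer (Y' : Set ↥H₁) := by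
    by_contra hcon
    push Not at hcon
    apply hY'ne
    apply eq_bot_of_le_cpc_of_layer_le_centralizer 2 hOX hxo (hY'D.trans hDcpc)
    unfold layer
    exact sSup_le (fun K hK => hcon K hK)
  obtain ⟨E₁, hE₁, hE₁Y⟩ := hex
  have hcomm : ⁅E₁, Subgroup.zpowers x⁆ = E₁ := by
    by_contra hne
    have h1 := commutator_comp_cpc_eq_bot 2 hOX hxo hE₁ hne
    apply hE₁Y
    have h2 : E₁ ≤ Subgroup.centralizer (centralizerPPrimeCore 2 x : Set ↥H₁) := by
      rw [Subgroup.commutator_comm] at h1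
      exact Subgroup.commutator_eq_bot_iff_le_centralizer.mp
        (by rw [Subgroup.commutator_comm]; exact h1)
    exact h2.trans (Subgroup.centralizer_le (hY'D.trans hDcpc))
  have hcjx : cj x E₁ = E₁ := cj_eq_of_commutator_zpowers_eq hcomm
  have hxnc : x ∉ Subgroup.centralizer (E₁ : Set ↥H₁) := by
    intro hxc
    apply hE₁Y
    have h1 : ⁅E₁, Subgroup.zpowers x⁆ = ⊥ := by
      rw [Subgroup.commutator_eq_bot_iff_le_centralizer]
      intro e he
      rw [Subgroup.mem_centralizer_iff]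
      rintro _ ⟨k, rfl⟩
      have h2 : Commute x e := (Subgroup.mem_centralizer_iff.mp hxc e he).symm
      exact (h2.zpow_left k).eq
    rw [hcomm] at h1
    rw [h1]
    exact bot_le
  -- transport to `H`
  have hE₁H : E₁ ≤ H.subgroupOf H₁ := by
    have h1 : commutator ↥H₁ ≤ H.subgroupOf H₁ := commutator_le_of_index_dvd_two hidx
    have h2 : ⁅E₁, E₁⁆ = E₁ := Cfsg.Agent.Lib.Helper9.comp_perfect hE₁
    rw [← h2]
    exact (Subgroup.commutator_mono le_top le_top).trans h1
  obtain ⟨E, hE, hEmap⟩ := exists_component_of_le_subgroupOf hHH₁ hE₁ hE₁H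
  refine ⟨E, hE, ?_, ?_, ?_, ?_⟩
  · rw [hEmap]
    have := map_subtype_cj x E₁
    rw [hcjx] at this
    exact this.symm
  · intro y hy
    rw [hEmap]
    have hy' : (⟨y, hOtH₁ (hY hy)⟩ : ↥H₁) ∈ centralizerPPrimeCore 2 x := by
      apply hDcpc
      apply hY'D
      rw [hY', Subgroup.mem_subgroupOf]; exact hy
    have h1 := cpc_normalizes_comp 2 hOX hxo hy' hE₁
    apply mem_normalizer_of_cj_eq
    have := map_subtype_cj (⟨y, hOtH₁ (hY hy)⟩ : ↥H₁) E₁
    rw [h1] at this
    exact this.symm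
  · rw [hEmap]
    intro h
    exact hxnc ((mem_centralizer_map_subtype_iff x E₁).mp h)
  · rw [hEmap]
    intro h
    apply hE₁Y
    intro e he
    rw [Subgroup.mem_centralizer_iff]
    intro y hy
    rw [SetLike.mem_coe, hY', Subgroup.mem_subgroupOf] at hy
    have h1 := (mem_centralizer_map_subtype_iff y E₁).mp (h hy)
    exact (Subgroup.mem_centralizer_iff.mp h1 e he).symm

end Finite

end Cfsg.Agent.Lib.Helper9.CompAct
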