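import Mathlib
import Cfsg.Agent.Lib.Helper9.CompAct11

/-!
# Weak k-balance with respect to `A`: the lift from `C_G(a) / O_{p'}(C_G(a))` to `G` (for S1864)

`commutator_le_cpc_of_delta_comm`: if in `X̄ = C_G(a)/O_{p'}(C_G(a))` the image of `A` centralizes
`Δ_X̄(B̄₀)`, then `[Δ_G(B₀) ∩ C_G(a), A] ≤ O_{p'}(C_G(a))`.
`isWeaklyKBalancedWrt_of_delta_comm`: the same for all `B ≤ A` of order at least `p ^ k`.
-/

set_option autoImplicit false
set_option linter.unusedSectionVars false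
set_option linter.unusedVariables false

namespace Cfsg.Agent.Lib.Helper9.CompAct

open Cfsg
open scoped commutatorElement

variable {G : Type*} [Group G]

section WeakLift
variable [Finite G] (p : ℕ) [Fact p.Prime]

/-- a subgroup of an elementary abelian group, pulled back to an overgroup `C`, is elementary abelian -/
theorem isElementaryAbelian_subgroupOf {A C : Subgroup G} (hA : IsElementaryAbelian p A) :
    IsElementaryAbelian p (A.subgroupOf C) := by
  obtain ⟨hc1, he1⟩ := hA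
  refine ⟨⟨⟨?_⟩⟩, ?_⟩
  · rintro ⟨a, ha⟩ ⟨b, hb⟩
    rw [Subgroup.mem_subgroupOf] at ha hb
    apply Subtype.ext
    apply Subtype.ext
    show (a : G) * (b : G) = (b : G) * (a : G)
    exact commute_of_mem_elemAb p ⟨hc1, he1⟩ ha hb
  · intro a ha
    rw [Subgroup.mem_subgroupOf] at ha
    apply Subtype.ext
    rw [Subgroup.coe_pow, he1 _ ha]; rfl

/-- a subgroup of an elementary abelian group is elementary abelian -/
theorem isElementaryAbelian_of_le {A B : Subgroup G} (hA : IsElementaryAbelian p A) (hBA : B ≤ A) :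
    IsElementaryAbelian p B := by
  obtain ⟨hc1, he1⟩ := hA
  refine ⟨⟨⟨?_⟩⟩, ?_⟩
  · rintro ⟨x, hx⟩ ⟨y, hy⟩
    apply Subtype.ext
    show x * y = y * x
    exact commute_of_mem_elemAb p ⟨hc1, he1⟩ (hBA hx) (hBA hy)
  · intro x hx
    exact he1 x (hBA hx)

/-- the image of `Δ_G(B₀) ∩ C_G(b)` in `C_G(b)/O_{p'}(C_G(b))` lies in `Δ` of the image of `B₀` -/
theorem map_delta_mem {B₀ : Subgroup G} (hB₀ : IsElementaryAbelian p B₀)
    {b : G} (hb : orderOf b = p) (hB₀b : ∀ x ∈ B₀, x * b = b * x) {d : G}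
    (hd1 : d ∈ signalizerDelta p B₀) (hdC : d ∈ Subgroup.centralizer ({b} : Set G)) :
    (QuotientGroup.mk' (pPrimeCore p ↥(Subgroup.centralizer ({b} : Set G)))) ⟨d, hdC⟩ ∈
      signalizerDelta p ((B₀.subgroupOf (Subgroup.centralizer ({b} : Set G))).map
        (QuotientGroup.mk' (pPrimeCore p ↥(Subgroup.centralizer ({b} : Set G))))) := by
  have hp : p.Prime := Fact.out
  set C := Subgroup.centralizer ({b} : Set G) with hC
  set N := pPrimeCore p ↥C with hN
  have hNn : N.Normal := Cfsg.Agent.Lib.Helper1.pPrimeCore_normal p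
  have hNcop : (Nat.card N).Coprime p := Cfsg.Agent.Lib.Helper1.pPrimeCore_coprime p
  set π := QuotientGroup.mk' N with hπ
  unfold signalizerDelta
  rw [Subgroup.mem_iInf]
  rintro ⟨α, hα, hαne⟩
  obtain ⟨a', ha', rfl⟩ := hα
  rw [SetLike.mem_coe, Subgroup.mem_subgroupOf] at ha'
  have hane : (a' : G) ≠ 1 := by
    intro h1
    apply hαne
    have : a' = 1 := Subtype.ext h1
    rw [this, map_one]
  have hax := orderOf_eq_of_mem_elemAb p hB₀ ha' hane
  have hax' : orderOf a' = p := by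
    rw [← hax]; exact (Subgroup.orderOf_coe a').symm
  have hda : d ∈ centralizerPPrimeCore p (a' : G) := by
    unfold signalizerDelta at hd1
    rw [Subgroup.mem_iInf] at hd1
    exact hd1 ⟨(a' : G), ha', hane⟩
  have h2 : (⟨d, hdC⟩ : ↥C) ∈ centralizerPPrimeCore p (⟨(a' : G), a'.2⟩ : ↥C) := by
    apply cpc_inf_subgroupOf_le p a'.2
    rw [Subgroup.mem_subgroupOf]
    exact Subgroup.mem_inf.mpr ⟨hda, hdC⟩
  have h3 : (centralizerPPrimeCore p a').map π ≤ centralizerPPrimeCore p (π a') := by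
    apply map_cpc_le p π a'
    intro c hc
    exact Cfsg.Agent.Lib.Helper9.Balance.exists_lift_commute p N hNcop hax' c hc
  exact h3 ⟨⟨d, hdC⟩, h2, rfl⟩

/-- the image of a subgroup of order `p ^ k` of exponent `p` in `C/O_{p'}(C)` has order `p ^ k` -/
theorem card_map_mk_subgroupOf {B₀ C : Subgroup G} (hB₀ : IsElementaryAbelian p B₀) (hB₀C : B₀ ≤ C) :
    Nat.card ↥((B₀.subgroupOf C).map (QuotientGroup.mk' (pPrimeCore p ↥C))) = Nat.card ↥B₀ := by
  set N := pPrimeCore p ↥C with hN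
  have hNn : N.Normal := Cfsg.Agent.Lib.Helper1.pPrimeCore_normal p
  have hNcop : (Nat.card N).Coprime p := Cfsg.Agent.Lib.Helper1.pPrimeCore_coprime p
  set π := QuotientGroup.mk' N with hπ
  rw [card_map_of_inf_ker_eq_bot π (B₀.subgroupOf C)]
  · exact Nat.card_congr (Subgroup.subgroupOfEquivOfLe hB₀C).toEquiv
  · intro c hc1 hc2
    rw [Subgroup.mem_subgroupOf] at hc1
    have h1 : c ∈ N := (QuotientGroup.eq_one_iff _).mp hc2
    have h2 : orderOf c ∣ Nat.card N := by
      have := orderOf_dvd_natCard (⟨c, h1⟩ : N)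
      rwa [Subgroup.orderOf_mk] at this
    have h3 : orderOf c ∣ p := by
      apply orderOf_dvd_of_pow_eq_one
      apply Subtype.ext
      rw [Subgroup.coe_pow, hB₀.2 _ hc1]; rfl
    have h4 : orderOf c = 1 := Nat.Coprime.eq_one_of_dvd (Nat.Coprime.coprime_dvd_left h2 hNcop) h3
    exact orderOf_eq_one_iff.mp h4

/-- the G-level lift for weak `k`-balance -/
theorem commutator_le_cpc_of_delta_comm {k : ℕ} {A B₀ : Subgroup G}
    (hA : IsElementaryAbelian p A) (hB₀A : B₀ ≤ A) (hB₀k : Nat.card B₀ = p ^ k)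
    {a : G} (ha : a ∈ A) (hane : a ≠ 1)
    (hdel : ∀ AA BB : Subgroup (↥(Subgroup.centralizer ({a} : Set G)) ⧸
        Cfsg.pPrimeCore p ↥(Subgroup.centralizer ({a} : Set G))),
      IsElementaryAbelian p AA → BB ≤ AA → Nat.card BB = p ^ k →
      (∀ x ∈ AA, ∃ b : ↥(Subgroup.centralizer ({a} : Set G)), (b : G) ∈ A ∧
        x = QuotientGroup.mk b) →
      ∀ d ∈ signalizerDelta p BB, ∀ x ∈ AA, d * x = x * d) :
    ⁅signalizerDelta p B₀ ⊓ Subgroup.centralizer {a}, A⁆ ≤ centralizerPPrimeCore p a := by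
  have hp : p.Prime := Fact.out
  have hao : orderOf a = p := orderOf_eq_of_mem_elemAb p hA ha hane
  set C := Subgroup.centralizer ({a} : Set G) with hC
  have hAC : A ≤ C := by
    intro x hx
    rw [hC, Subgroup.mem_centralizer_iff]
    intro w hw
    rw [Set.mem_singleton_iff] at hw
    rw [hw]; exact commute_of_mem_elemAb p hA ha hx
  set N := pPrimeCore p ↥C with hN
  have hNn : N.Normal := Cfsg.Agent.Lib.Helper1.pPrimeCore_normal p
  set π := QuotientGroup.mk' N with hπ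
  have hB₀el : IsElementaryAbelian p B₀ := isElementaryAbelian_of_le p hA hB₀A
  set AA := (A.subgroupOf C).map π with hAA
  set BB := (B₀.subgroupOf C).map π with hBB
  have hAAel : IsElementaryAbelian p AA :=
    isElementaryAbelian_map p π (isElementaryAbelian_subgroupOf p hA)
  have hBBAA : BB ≤ AA := by
    apply Subgroup.map_mono
    intro x hx
    rw [Subgroup.mem_subgroupOf] at hx ⊢
    exact hB₀A hx
  have hBBk : Nat.card BB = p ^ k := by
    rw [hBB, card_map_mk_subgroupOf p hB₀el (hB₀A.trans hAC), hB₀k]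
  have hAAlift : ∀ x ∈ AA, ∃ b : ↥C, (b : G) ∈ A ∧ x = QuotientGroup.mk b := by
    rintro _ ⟨b, hb, rfl⟩
    rw [SetLike.mem_coe, Subgroup.mem_subgroupOf] at hb
    exact ⟨b, hb, rfl⟩
  have hcomm := hdel AA BB hAAel hBBAA hBBk hAAlift
  rw [Subgroup.commutator_le]
  intro d hd x hx
  obtain ⟨hd1, hd2⟩ := Subgroup.mem_inf.mp hd
  have hdC : d ∈ C := hd2
  have hxC : x ∈ C := hAC hx
  have h1 : π ⟨d, hdC⟩ ∈ signalizerDelta p BB :=
    map_delta_mem p hB₀el hao
      (fun y hy => commute_of_mem_elemAb p hA (hB₀A hy) ha) hd1 hdC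
  have h2 : π ⟨x, hxC⟩ ∈ AA := by
    refine ⟨⟨x, hxC⟩, ?_, rfl⟩
    rw [SetLike.mem_coe, Subgroup.mem_subgroupOf]
    exact hx
  have h3 := hcomm _ h1 _ h2
  have hcC : ⁅d, x⁆ ∈ C := by
    rw [commutatorElement_def]
    exact C.mul_mem (C.mul_mem (C.mul_mem hdC hxC) (C.inv_mem hdC)) (C.inv_mem hxC)
  rw [mem_cpc_iff]
  refine ⟨hcC, ?_⟩
  have h4 : π ⟨⁅d, x⁆, hcC⟩ = 1 := by
    have e : (⟨⁅d, x⁆, hcC⟩ : ↥C) = ⁅(⟨d, hdC⟩ : ↥C), (⟨x, hxC⟩ : ↥C)⁆ := by
      apply Subtype.ext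
      simp [commutatorElement_def]
    rw [e, map_commutatorElement, commutatorElement_def, h3]
    group
  exact (QuotientGroup.eq_one_iff _).mp h4

/-- weak `k`-balance with respect to `A` from the commutation statement in every
`C_G(a)/O_{p'}(C_G(a))`, `a ∈ A^#` -/
theorem isWeaklyKBalancedWrt_of_delta_comm {k : ℕ} (A : Subgroup G)
    (hA : IsElementaryAbelian p A)
    (hdel : ∀ a : G, a ∈ A → a ≠ 1 →
      ∀ AA BB : Subgroup (↥(Subgroup.centralizer ({a} : Set G)) ⧸
        Cfsg.pPrimeCore p ↥(Subgroup.centralizer ({a} : Set G))),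
      IsElementaryAbelian p AA → BB ≤ AA → Nat.card BB = p ^ k →
      (∀ x ∈ AA, ∃ b : ↥(Subgroup.centralizer ({a} : Set G)), (b : G) ∈ A ∧
        x = QuotientGroup.mk b) →
      ∀ d ∈ signalizerDelta p BB, ∀ x ∈ AA, d * x = x * d) :
    Cfsg.IsWeaklyKBalancedWrt p k A := by
  have hp : p.Prime := Fact.out
  intro B hBA hB hBk a ha hane
  have hBp : IsPGroup p ↥B := by
    intro g
    refine ⟨1, ?_⟩
    apply Subtype.ext
    rw [pow_one, Subgroup.coe_pow, hB.2 _ g.2]; rfl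
  obtain ⟨n, hn⟩ := hBp.exists_card_eq
  have hkn : k ≤ n := by
    rw [hn] at hBk
    exact (Nat.pow_le_pow_iff_right hp.one_lt).mp hBk
  obtain ⟨B₁, hB₁⟩ := Sylow.exists_subgroup_card_pow_prime (G := ↥B) p
    (n := k) (by rw [hn]; exact pow_dvd_pow p hkn)
  set B₀ : Subgroup G := B₁.map B.subtype with hB₀
  have hB₀B : B₀ ≤ B := by
    rintro _ ⟨b, _, rfl⟩
    exact b.2
  have hB₀card : Nat.card ↥B₀ = p ^ k := by
    rw [hB₀, Subgroup.card_subtype, hB₁]
  have key := commutator_le_cpc_of_delta_comm p hA (hB₀B.trans hBA) hB₀card ha hane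
    (hdel a ha hane)
  refine le_trans ?_ key
  exact Subgroup.commutator_mono (inf_le_inf_right _ (signalizerDelta_anti p hB₀B)) le_rfl

end WeakLift

end Cfsg.Agent.Lib.Helper9.CompAct
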