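import Cfsg.Agent.Lib.Helper10.E8CC.Defs
import Cfsg.Agent.Lib.Helper22.StCCBBTSL

set_option autoImplicit false

/-! S2107 piece [E8-D]: a Bool checker for `Dec1` with its specification, for simply laced data
(every chain of the table has at most one term, helper22's `slB`): the commutator formulas are
read off the chain table directly (helper8's `commTerms_A`), and the table is accessed through
recursors (helper8's `nthF`, `lookF`), which the kernel evaluates quickly.  The certificates for
`chevE8` are in `E8CCDa..d.lean`. -/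

namespace Cfsg.Agent.Lib.Helper10.E8CC.Helper9

open Cfsg.Lie Cfsg.Agent.Lib.Helper8.Chev Cfsg.Agent.Lib.Helper14.StCC
open Cfsg.Agent.Lib.Helper14.StCC.B.Helper22 (slB chainEntry_length_le_one commTerms_eq_nil_of_sl)

variable {D : ChevalleyDatum}

/-- simply laced: a one-term chain gives a one-term commutator formula -/
theorem commTerms_eq_single_of_sl (hsl : slB D = true) {a b q : ℕ} {N : ℤ}
    (h : D.chainEntry a b = [(q, N)]) : D.commTerms a b = [(q, N, 1, 1)] := by
  rw [commTerms_A (by rw [h]; simp) (chainEntry_length_le_one hsl b a), h]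
  rfl

/-- simply laced: an empty commutator formula comes from an empty chain -/
theorem chainEntry_eq_nil_of_sl (hsl : slB D = true) {a b : ℕ} (h : D.commTerms a b = []) :
    D.chainEntry a b = [] := by
  have hlen := chainEntry_length_le_one hsl a b
  rw [commTerms_A (by omega) (chainEntry_length_le_one hsl b a)] at h
  match hL : D.chainEntry a b, hlen with
  | [], _ => rfl
  | [x], _ => rw [hL] at h; simp at h

/-- the chain entry of `(a, b)` through recursors -/
noncomputable def ceF (D : ChevalleyDatum) (a b : ℕ) : List (ℕ × ℤ) :=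
  lookF (nthF #[] D.chain.toList a).toList b

theorem ceF_eq (D : ChevalleyDatum) (a b : ℕ) : ceF D a b = D.chainEntry a b := by
  unfold ceF
  rw [nthF_eq_getD, ← lookF_eq]
  congr 1
  unfold row
  congr 1
  rw [List.getD_eq_getElem?_getD, Array.getD_eq_getD_getElem?, Array.getElem?_toList]

/-- the negative of a root through recursors -/
noncomputable def negF (D : ChevalleyDatum) (a : ℕ) : ℕ := nthF 0 D.negIdx.toList a

theorem negF_eq (D : ChevalleyDatum) (a : ℕ) : negF D a = D.neg a := by
  unfold negF ChevalleyDatum.neg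
  rw [nthF_eq_getD, List.getD_eq_getElem?_getD, Array.getD_eq_getD_getElem?,
    Array.getElem?_toList]

/-- admissibility of the ordered pair `(a, b)` as a Bool -/
noncomputable def admF (D : ChevalleyDatum) (a b : ℕ) : Bool :=
  Nat.blt a D.nroots && Nat.blt b D.nroots && !(Nat.beq b a) && !(Nat.beq b (negF D a))

theorem admF_spec {a b : ℕ} (h : admF D a b = true) :
    a < D.nroots ∧ b < D.nroots ∧ b ≠ a ∧ b ≠ D.neg a := by
  unfold admF at h
  rw [Bool.and_eq_true, Bool.and_eq_true, Bool.and_eq_true, Bool.not_eq_true',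
    Bool.not_eq_true', nat_beq_eq_false, nat_beq_eq_false, negF_eq] at h
  obtain ⟨⟨⟨h1, h2⟩, h3⟩, h4⟩ := h
  exact ⟨Nat.blt_eq.mp h1, Nat.blt_eq.mp h2, h3, h4⟩

/-- `NilP D a b` through the chain table -/
noncomputable def nilF (D : ChevalleyDatum) (a b : ℕ) : Bool := admF D a b && (ceF D a b).isEmpty

theorem nilF_spec (hsl : slB D = true) {a b : ℕ} (h : nilF D a b = true) : B.NilP D a b := by
  unfold nilF at h
  rw [Bool.and_eq_true, List.isEmpty_iff, ceF_eq] at h
  obtain ⟨h1, h2, h3, h4⟩ := admF_spec h.1
  exact ⟨h1, h2, h3, h4, commTerms_eq_nil_of_sl hsl h.2⟩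

/-- the chain is the single term `(s, ±1)` -/
def oneCk (l : List (ℕ × ℤ)) (s : ℕ) : Bool :=
  match l with
  | [e] => Nat.beq e.1 s && (decide (e.2 = 1) || decide (e.2 = -1))
  | _ => false

theorem oneCk_spec {l : List (ℕ × ℤ)} {s : ℕ} (h : oneCk l s = true) :
    ∃ N : ℤ, l = [(s, N)] ∧ (N = 1 ∨ N = -1) := by
  match l, h with
  | [e], h =>
    simp only [oneCk, Bool.and_eq_true, Nat.beq_eq, Bool.or_eq_true, decide_eq_true_eq] at h
    refine ⟨e.2, ?_, h.2⟩
    rw [← h.1]

/-- `Dec1 D r s` with the witnesses `a`, `b` as a Bool -/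
noncomputable def decOK (D : ChevalleyDatum) (r s a b : ℕ) : Bool :=
  admF D a b && oneCk (ceF D a b) s && nilF D r a && nilF D r b

theorem decOK_spec (hsl : slB D = true) {r s a b : ℕ} (h : decOK D r s a b = true) :
    Dec1 D r s := by
  unfold decOK at h
  rw [Bool.and_eq_true, Bool.and_eq_true, Bool.and_eq_true] at h
  obtain ⟨⟨⟨hadm, hce⟩, h2⟩, h3⟩ := h
  obtain ⟨ha, hb, hba, hbn⟩ := admF_spec hadm
  obtain ⟨N, hN, hN1⟩ := oneCk_spec hce
  rw [ceF_eq] at hN
  exact ⟨a, b, N, ⟨ha, hb, hba, hbn, commTerms_eq_single_of_sl hsl hN⟩, hN1,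
    nilF_spec hsl h2, nilF_spec hsl h3⟩

/-- the check of the row `r`: `cert` lists for every root `s` a pair `(a, b)` (used only when
`(r, s)` is an admissible commuting pair) -/
noncomputable def rowDB (D : ChevalleyDatum) (r : ℕ) (cert : List (ℕ × ℕ)) : Bool :=
  Nat.beq cert.length D.nroots &&
  allIdxF (fun s e => Nat.beq s r || Nat.beq s (negF D r) || !(ceF D r s).isEmpty ||
    decOK D r s e.1 e.2) cert 0

theorem rowDB_spec (hsl : slB D = true) {r : ℕ} {cert : List (ℕ × ℕ)}
    (h : rowDB D r cert = true) {s : ℕ} (hs : s < D.nroots) (h1 : s ≠ r) (h2 : s ≠ D.neg r)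
    (h0 : D.commTerms r s = []) : Dec1 D r s := by
  unfold rowDB at h
  rw [Bool.and_eq_true, Nat.beq_eq, allIdxF_eq_true] at h
  obtain ⟨hlen, hall⟩ := h
  have hs' : s < cert.length := by omega
  have hget : cert[s]? = some cert[s] := List.getElem?_eq_getElem hs'
  have := hall s _ hget
  rw [zero_add, Bool.or_eq_true, Bool.or_eq_true, Bool.or_eq_true, Nat.beq_eq, Nat.beq_eq,
    Bool.not_eq_true', List.isEmpty_eq_false_iff, negF_eq, ceF_eq] at this
  rcases this with ((hx | hx) | hx) | hx
  · exact absurd hx h1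
  · exact absurd hx h2
  · exact absurd (chainEntry_eq_nil_of_sl hsl h0) hx
  · exact decOK_spec hsl hx

/-- the check of the consecutive rows `k, k + 1, …` with their certificates -/
noncomputable def rowsDB (D : ChevalleyDatum) (certs : List (List (ℕ × ℕ))) (k : ℕ) : Bool :=
  allIdxF (fun r cert => rowDB D r cert) certs k

theorem rowsDB_spec (hsl : slB D = true) {certs : List (List (ℕ × ℕ))} {k : ℕ}
    (h : rowsDB D certs k = true) {r s : ℕ} (hr1 : k ≤ r) (hr2 : r < k + certs.length)
    (hs : s < D.nroots) (h1 : s ≠ r) (h2 : s ≠ D.neg r) (h0 : D.commTerms r s = []) :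
    Dec1 D r s := by
  unfold rowsDB at h
  rw [allIdxF_eq_true] at h
  have hi : r - k < certs.length := by omega
  have hget : certs[r - k]? = some certs[r - k] := List.getElem?_eq_getElem hi
  have := h (r - k) _ hget
  rw [show k + (r - k) = r by omega] at this
  exact rowDB_spec hsl this hs h1 h2 h0

/-- `chevE8` is simply laced (own copy of helper22's check, to keep the import closure light) -/
theorem slB_E8' : slB chevE8 = true := by decide +kernel

end Cfsg.Agent.Lib.Helper10.E8CC.Helper9
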