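import Cfsg.Agent.Lib.Helper9.E8CCDDefs

set_option autoImplicit false
set_option Elab.async false

/-! S2107 piece [E8-D]: certificates `(a, b)` and kernel checks of `Dec1 chevE8 r s` for the rows
`r = 0..59` (sliced to keep the memory of each declaration small). -/

namespace Cfsg.Agent.Lib.Helper10.E8CC.Helper9

open Cfsg.Lie Cfsg.Agent.Lib.Helper8.Chev

set_option maxHeartbeats 0 in
/-- certificates for the rows `0..9` -/
def certE8_0 : List (List (ℕ × ℕ)) :=
  [
    [(0, 0), (2, 118), (1, 121), (1, 124), (1, 128), (1, 133), (1, 139), (1, 145), (1, 150),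
     (1, 154), (1, 157), (1, 159), (2, 159), (20, 77), (1, 167), (1, 172), (1, 176), (1, 179),
     (1, 181), (2, 181), (13, 162), (1, 186), (1, 189), (1, 191), (2, 191), (13, 163), (1, 195),
     (1, 197), (2, 197), (13, 164), (1, 200), (2, 200), (13, 165), (3, 200), (13, 166), (13, 167),
     (1, 205), (1, 207), (2, 207), (13, 169), (1, 210), (2, 210), (13, 170), (3, 210), (13, 171),
     (13, 172), (1, 214), (2, 214), (13, 174), (3, 214), (13, 175), (13, 176), (4, 214), (13, 178),
     (13, 179), (13, 181), (1, 219), (2, 219), (13, 184), (3, 219), (13, 185), (13, 186), (4, 219),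
     (13, 188), (13, 189), (13, 191), (5, 219), (13, 194), (13, 195), (13, 197), (13, 200),
     (7, 219), (13, 204), (13, 205), (13, 207), (13, 210), (13, 214), (13, 219), (1, 226),
     (2, 226), (20, 184), (3, 226), (20, 185), (20, 186), (4, 226), (20, 188), (20, 189),
     (20, 191), (5, 226), (20, 194), (20, 195), (20, 197), (20, 200), (6, 226), (25, 194),
     (25, 195), (25, 197), (25, 200), (29, 200), (7, 226), (20, 204), (20, 205), (20, 207),
     (20, 210), (20, 214), (8, 226), (25, 204), (25, 205), (25, 207), (25, 210), (9, 226),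
     (29, 204), (29, 205), (29, 207), (10, 226), (32, 204), (32, 205), (11, 226), (34, 204),
     (12, 226), (0, 0), (35, 205), (0, 0), (34, 207), (35, 207), (0, 0), (32, 210), (34, 210),
     (35, 210), (0, 0), (29, 214), (32, 214), (34, 214), (35, 214), (0, 0), (25, 219), (29, 219),
     (32, 219), (34, 219), (35, 219), (0, 0), (39, 210), (39, 214), (42, 214), (44, 214),
     (45, 214), (0, 0), (39, 219), (42, 219), (44, 219), (45, 219), (0, 0), (48, 219), (50, 219),
     (51, 219), (0, 0), (53, 219), (54, 219), (0, 0), (55, 219), (0, 0), (0, 0), (20, 226),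
     (25, 226), (29, 226), (32, 226), (34, 226), (35, 226), (0, 0), (39, 226), (42, 226),
     (44, 226), (45, 226), (0, 0), (48, 226), (50, 226), (51, 226), (0, 0), (53, 226), (54, 226),
     (0, 0), (55, 226), (0, 0), (0, 0), (58, 226), (60, 226), (61, 226), (0, 0), (63, 226),
     (64, 226), (0, 0), (65, 226), (0, 0), (0, 0), (67, 226), (68, 226), (0, 0), (69, 226), (0, 0),
     (0, 0), (70, 226), (0, 0), (0, 0), (0, 0), (72, 226), (73, 226), (0, 0), (74, 226), (0, 0),
     (0, 0), (75, 226), (0, 0), (0, 0), (0, 0), (76, 226), (0, 0), (0, 0), (0, 0), (0, 0),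
     (77, 226), (0, 0), (0, 0), (0, 0), (0, 0), (0, 0), (0, 0), (162, 219), (0, 0), (0, 0), (0, 0),
     (0, 0), (0, 0), (0, 0), (0, 0), (0, 0), (0, 0), (0, 0), (0, 0), (0, 0), (0, 0)],
    [(2, 117), (0, 0), (0, 122), (0, 125), (0, 129), (0, 134), (0, 140), (0, 146), (0, 151),
     (0, 155), (0, 158), (0, 160), (19, 77), (2, 160), (0, 168), (0, 173), (0, 177), (0, 180),
     (0, 182), (12, 162), (2, 182), (0, 187), (0, 190), (0, 192), (12, 163), (2, 192), (0, 196),
     (0, 198), (12, 164), (2, 198), (0, 201), (12, 165), (2, 201), (12, 166), (3, 201), (12, 168),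
     (0, 206), (0, 208), (12, 169), (2, 208), (0, 211), (12, 170), (2, 211), (12, 171), (3, 211),
     (12, 173), (0, 215), (12, 174), (2, 215), (12, 175), (3, 215), (12, 177), (12, 178), (4, 215),
     (12, 180), (12, 182), (0, 220), (12, 184), (2, 220), (12, 185), (3, 220), (12, 187),
     (12, 188), (4, 220), (12, 190), (12, 192), (12, 194), (5, 220), (12, 196), (12, 198),
     (12, 201), (12, 204), (7, 220), (12, 206), (12, 208), (12, 211), (12, 215), (12, 220),
     (0, 227), (19, 184), (2, 227), (19, 185), (3, 227), (19, 187), (19, 188), (4, 227), (19, 190),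
     (19, 192), (19, 194), (5, 227), (19, 196), (19, 198), (19, 201), (24, 194), (6, 227),
     (24, 196), (24, 198), (24, 201), (28, 201), (19, 204), (7, 227), (19, 206), (19, 208),
     (19, 211), (19, 215), (24, 204), (8, 227), (24, 206), (24, 208), (24, 211), (28, 204),
     (9, 227), (28, 206), (28, 208), (31, 204), (10, 227), (31, 206), (33, 204), (11, 227), (0, 0),
     (13, 227), (0, 0), (35, 206), (33, 208), (0, 0), (35, 208), (31, 211), (33, 211), (0, 0),
     (35, 211), (28, 215), (31, 215), (33, 215), (0, 0), (35, 215), (24, 220), (28, 220),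
     (31, 220), (33, 220), (0, 0), (35, 220), (38, 211), (38, 215), (41, 215), (43, 215), (0, 0),
     (45, 215), (38, 220), (41, 220), (43, 220), (0, 0), (45, 220), (47, 220), (49, 220), (0, 0),
     (51, 220), (52, 220), (0, 0), (54, 220), (0, 0), (55, 220), (0, 0), (19, 227), (24, 227),
     (28, 227), (31, 227), (33, 227), (0, 0), (35, 227), (38, 227), (41, 227), (43, 227), (0, 0),
     (45, 227), (47, 227), (49, 227), (0, 0), (51, 227), (52, 227), (0, 0), (54, 227), (0, 0),
     (55, 227), (0, 0), (57, 227), (59, 227), (0, 0), (61, 227), (62, 227), (0, 0), (64, 227),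
     (0, 0), (65, 227), (0, 0), (66, 227), (0, 0), (68, 227), (0, 0), (69, 227), (0, 0), (0, 0),
     (70, 227), (0, 0), (0, 0), (71, 227), (0, 0), (73, 227), (0, 0), (74, 227), (0, 0), (0, 0),
     (75, 227), (0, 0), (0, 0), (0, 0), (76, 227), (0, 0), (0, 0), (0, 0), (0, 0), (77, 227),
     (0, 0), (0, 0), (0, 0), (0, 0), (0, 0), (0, 0), (162, 220), (0, 0), (0, 0), (0, 0), (0, 0),
     (0, 0), (0, 0), (0, 0), (0, 0), (0, 0), (0, 0), (0, 0), (0, 0)],
    [(1, 119), (0, 120), (0, 0), (0, 125), (0, 129), (0, 134), (0, 140), (0, 146), (0, 151),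
     (0, 155), (0, 158), (18, 77), (0, 161), (1, 161), (0, 168), (0, 173), (0, 177), (0, 180),
     (11, 162), (0, 183), (1, 183), (0, 187), (0, 190), (11, 163), (0, 193), (1, 193), (0, 196),
     (11, 164), (0, 199), (1, 199), (11, 165), (0, 202), (1, 202), (11, 167), (11, 168), (3, 202),
     (0, 206), (11, 169), (0, 209), (1, 209), (11, 170), (0, 212), (1, 212), (11, 172), (11, 173),
     (3, 212), (11, 174), (0, 216), (1, 216), (11, 176), (11, 177), (3, 216), (11, 179), (11, 180),
     (4, 216), (11, 183), (11, 184), (0, 221), (1, 221), (11, 186), (11, 187), (3, 221), (11, 189),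
     (11, 190), (4, 221), (11, 193), (11, 195), (11, 196), (5, 221), (11, 199), (11, 202),
     (11, 205), (11, 206), (7, 221), (11, 209), (11, 212), (11, 216), (11, 221), (18, 184),
     (0, 228), (1, 228), (18, 186), (18, 187), (3, 228), (18, 189), (18, 190), (4, 228), (18, 193),
     (18, 195), (18, 196), (5, 228), (18, 199), (18, 202), (23, 195), (23, 196), (6, 228),
     (23, 199), (23, 202), (27, 202), (18, 205), (18, 206), (7, 228), (18, 209), (18, 212),
     (18, 216), (23, 205), (23, 206), (8, 228), (23, 209), (23, 212), (27, 205), (27, 206),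
     (9, 228), (27, 209), (30, 205), (30, 206), (10, 228), (0, 0), (0, 0), (33, 205), (34, 206),
     (12, 228), (13, 228), (0, 0), (33, 209), (34, 209), (30, 212), (0, 0), (33, 212), (34, 212),
     (27, 216), (30, 216), (0, 0), (33, 216), (34, 216), (23, 221), (27, 221), (30, 221), (0, 0),
     (33, 221), (34, 221), (37, 212), (37, 216), (40, 216), (0, 0), (43, 216), (44, 216),
     (37, 221), (40, 221), (0, 0), (43, 221), (44, 221), (46, 221), (0, 0), (49, 221), (50, 221),
     (0, 0), (52, 221), (53, 221), (0, 0), (0, 0), (55, 221), (18, 228), (23, 228), (27, 228),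
     (30, 228), (0, 0), (33, 228), (34, 228), (37, 228), (40, 228), (0, 0), (43, 228), (44, 228),
     (46, 228), (0, 0), (49, 228), (50, 228), (0, 0), (52, 228), (53, 228), (0, 0), (0, 0),
     (55, 228), (56, 228), (0, 0), (59, 228), (60, 228), (0, 0), (62, 228), (63, 228), (0, 0),
     (0, 0), (65, 228), (0, 0), (66, 228), (67, 228), (0, 0), (0, 0), (69, 228), (0, 0), (0, 0),
     (70, 228), (0, 0), (0, 0), (71, 228), (72, 228), (0, 0), (0, 0), (74, 228), (0, 0), (0, 0),
     (75, 228), (0, 0), (0, 0), (0, 0), (76, 228), (0, 0), (0, 0), (0, 0), (0, 0), (77, 228),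
     (0, 0), (0, 0), (0, 0), (0, 0), (0, 0), (0, 0), (162, 221), (0, 0), (0, 0), (0, 0), (0, 0),
     (0, 0), (0, 0), (0, 0), (0, 0), (0, 0), (0, 0), (0, 0)],
    [(1, 119), (0, 120), (0, 122), (0, 0), (0, 129), (0, 134), (0, 140), (0, 146), (0, 151),
     (0, 155), (17, 77), (0, 160), (0, 161), (1, 161), (0, 168), (0, 173), (0, 177), (10, 162),
     (0, 182), (0, 183), (1, 183), (0, 187), (10, 163), (0, 192), (0, 193), (1, 193), (10, 164),
     (0, 198), (0, 199), (1, 199), (10, 166), (10, 167), (10, 168), (0, 203), (1, 203), (2, 203),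
     (10, 169), (0, 208), (0, 209), (1, 209), (10, 171), (10, 172), (10, 173), (0, 213), (1, 213),
     (2, 213), (10, 175), (10, 176), (10, 177), (0, 217), (1, 217), (2, 217), (10, 181), (10, 182),
     (10, 183), (4, 217), (10, 185), (10, 186), (10, 187), (0, 222), (1, 222), (2, 222), (10, 191),
     (10, 192), (10, 193), (4, 222), (10, 197), (10, 198), (10, 199), (5, 222), (10, 203),
     (10, 207), (10, 208), (10, 209), (7, 222), (10, 213), (10, 217), (10, 222), (17, 185),
     (17, 186), (17, 187), (0, 229), (1, 229), (2, 229), (17, 191), (17, 192), (17, 193), (4, 229),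
     (17, 197), (17, 198), (17, 199), (5, 229), (17, 203), (22, 197), (22, 198), (22, 199),
     (6, 229), (22, 203), (26, 203), (17, 207), (17, 208), (17, 209), (7, 229), (17, 213),
     (17, 217), (22, 207), (22, 208), (22, 209), (8, 229), (22, 213), (26, 207), (26, 208),
     (26, 209), (9, 229), (0, 0), (0, 0), (0, 0), (30, 207), (30, 208), (31, 207), (32, 208),
     (31, 209), (32, 209), (11, 229), (12, 229), (13, 229), (0, 0), (30, 213), (31, 213),
     (32, 213), (26, 217), (0, 0), (30, 217), (31, 217), (32, 217), (22, 222), (26, 222), (0, 0),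
     (30, 222), (31, 222), (32, 222), (36, 213), (36, 217), (0, 0), (40, 217), (41, 217),
     (42, 217), (36, 222), (0, 0), (40, 222), (41, 222), (42, 222), (0, 0), (46, 222), (47, 222),
     (48, 222), (0, 0), (0, 0), (0, 0), (52, 222), (53, 222), (54, 222), (17, 229), (22, 229),
     (26, 229), (0, 0), (30, 229), (31, 229), (32, 229), (36, 229), (0, 0), (40, 229), (41, 229),
     (42, 229), (0, 0), (46, 229), (47, 229), (48, 229), (0, 0), (0, 0), (0, 0), (52, 229),
     (53, 229), (54, 229), (0, 0), (56, 229), (57, 229), (58, 229), (0, 0), (0, 0), (0, 0),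
     (62, 229), (63, 229), (64, 229), (0, 0), (0, 0), (0, 0), (66, 229), (67, 229), (68, 229),
     (0, 0), (0, 0), (0, 0), (70, 229), (0, 0), (0, 0), (0, 0), (71, 229), (72, 229), (73, 229),
     (0, 0), (0, 0), (0, 0), (75, 229), (0, 0), (0, 0), (0, 0), (76, 229), (0, 0), (0, 0), (0, 0),
     (0, 0), (77, 229), (0, 0), (0, 0), (0, 0), (0, 0), (0, 0), (0, 0), (162, 222), (0, 0), (0, 0),
     (0, 0), (0, 0), (0, 0), (0, 0), (0, 0), (0, 0), (0, 0), (0, 0)],
    [(1, 119), (0, 120), (0, 122), (0, 125), (0, 0), (0, 134), (0, 140), (0, 146), (0, 151),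
     (16, 77), (0, 158), (0, 160), (0, 161), (1, 161), (0, 168), (0, 173), (9, 162), (0, 180),
     (0, 182), (0, 183), (1, 183), (9, 163), (0, 190), (0, 192), (0, 193), (1, 193), (9, 165),
     (9, 166), (9, 167), (9, 168), (0, 201), (0, 202), (1, 202), (0, 203), (1, 203), (2, 203),
     (9, 170), (9, 171), (9, 172), (9, 173), (0, 211), (0, 212), (1, 212), (0, 213), (1, 213),
     (2, 213), (9, 178), (9, 179), (9, 180), (9, 181), (9, 182), (9, 183), (0, 218), (1, 218),
     (2, 218), (3, 218), (9, 188), (9, 189), (9, 190), (9, 191), (9, 192), (9, 193), (0, 223),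
     (1, 223), (2, 223), (3, 223), (9, 200), (9, 201), (9, 202), (9, 203), (5, 223), (9, 210),
     (9, 211), (9, 212), (9, 213), (7, 223), (9, 218), (9, 223), (16, 188), (16, 189), (16, 190),
     (16, 191), (16, 192), (16, 193), (0, 230), (1, 230), (2, 230), (3, 230), (16, 200), (16, 201),
     (16, 202), (16, 203), (5, 230), (21, 200), (21, 201), (21, 202), (21, 203), (6, 230),
     (26, 203), (16, 210), (16, 211), (16, 212), (16, 213), (7, 230), (16, 218), (21, 210),
     (21, 211), (21, 212), (21, 213), (8, 230), (0, 0), (0, 0), (0, 0), (0, 0), (26, 210),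
     (26, 211), (26, 212), (27, 210), (27, 211), (28, 210), (29, 211), (28, 212), (29, 212),
     (27, 213), (28, 213), (29, 213), (10, 230), (11, 230), (12, 230), (13, 230), (0, 0),
     (26, 218), (27, 218), (28, 218), (29, 218), (21, 223), (0, 0), (26, 223), (27, 223),
     (28, 223), (29, 223), (36, 213), (0, 0), (36, 218), (37, 218), (38, 218), (39, 218), (0, 0),
     (36, 223), (37, 223), (38, 223), (39, 223), (0, 0), (0, 0), (0, 0), (0, 0), (46, 223),
     (47, 223), (48, 223), (49, 223), (50, 223), (51, 223), (16, 230), (21, 230), (0, 0),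
     (26, 230), (27, 230), (28, 230), (29, 230), (0, 0), (36, 230), (37, 230), (38, 230),
     (39, 230), (0, 0), (0, 0), (0, 0), (0, 0), (46, 230), (47, 230), (48, 230), (49, 230),
     (50, 230), (51, 230), (0, 0), (0, 0), (0, 0), (0, 0), (56, 230), (57, 230), (58, 230),
     (59, 230), (60, 230), (61, 230), (0, 0), (0, 0), (0, 0), (0, 0), (0, 0), (0, 0), (66, 230),
     (67, 230), (68, 230), (69, 230), (0, 0), (0, 0), (0, 0), (0, 0), (0, 0), (0, 0), (71, 230),
     (72, 230), (73, 230), (74, 230), (0, 0), (0, 0), (0, 0), (0, 0), (76, 230), (0, 0), (0, 0),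
     (0, 0), (0, 0), (77, 230), (0, 0), (0, 0), (0, 0), (0, 0), (0, 0), (0, 0), (162, 223), (0, 0),
     (0, 0), (0, 0), (0, 0), (0, 0), (0, 0), (0, 0), (0, 0), (0, 0)],
    [(1, 119), (0, 120), (0, 122), (0, 125), (0, 129), (0, 0), (0, 140), (0, 146), (15, 77),
     (0, 155), (0, 158), (0, 160), (0, 161), (1, 161), (0, 168), (8, 162), (0, 177), (0, 180),
     (0, 182), (0, 183), (1, 183), (8, 164), (8, 165), (8, 166), (8, 167), (8, 168), (0, 196),
     (0, 198), (0, 199), (1, 199), (0, 201), (0, 202), (1, 202), (0, 203), (1, 203), (2, 203),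
     (8, 174), (8, 175), (8, 176), (8, 177), (8, 178), (8, 179), (8, 180), (8, 181), (8, 182),
     (8, 183), (0, 215), (0, 216), (1, 216), (0, 217), (1, 217), (2, 217), (0, 218), (1, 218),
     (2, 218), (3, 218), (8, 194), (8, 195), (8, 196), (8, 197), (8, 198), (8, 199), (8, 200),
     (8, 201), (8, 202), (8, 203), (0, 224), (1, 224), (2, 224), (3, 224), (4, 224), (8, 214),
     (8, 215), (8, 216), (8, 217), (8, 218), (7, 224), (8, 224), (15, 194), (15, 195), (15, 196),
     (15, 197), (15, 198), (15, 199), (15, 200), (15, 201), (15, 202), (15, 203), (0, 231),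
     (1, 231), (2, 231), (3, 231), (4, 231), (21, 200), (21, 201), (21, 202), (21, 203), (22, 203),
     (6, 231), (15, 214), (15, 215), (15, 216), (15, 217), (15, 218), (7, 231), (0, 0), (0, 0),
     (0, 0), (0, 0), (0, 0), (21, 214), (21, 215), (21, 216), (21, 217), (22, 214), (22, 215),
     (22, 216), (23, 214), (23, 215), (24, 214), (25, 215), (24, 216), (25, 216), (23, 217),
     (24, 217), (25, 217), (22, 218), (23, 218), (24, 218), (25, 218), (9, 231), (10, 231),
     (11, 231), (12, 231), (13, 231), (0, 0), (21, 224), (22, 224), (23, 224), (24, 224),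
     (25, 224), (0, 0), (36, 217), (36, 218), (37, 218), (38, 218), (39, 218), (0, 0), (0, 0),
     (0, 0), (0, 0), (0, 0), (36, 224), (37, 224), (38, 224), (39, 224), (40, 224), (41, 224),
     (42, 224), (43, 224), (44, 224), (45, 224), (15, 231), (0, 0), (21, 231), (22, 231),
     (23, 231), (24, 231), (25, 231), (0, 0), (0, 0), (0, 0), (0, 0), (0, 0), (36, 231), (37, 231),
     (38, 231), (39, 231), (40, 231), (41, 231), (42, 231), (43, 231), (44, 231), (45, 231),
     (0, 0), (0, 0), (0, 0), (0, 0), (0, 0), (0, 0), (0, 0), (0, 0), (0, 0), (0, 0), (56, 231),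
     (57, 231), (58, 231), (59, 231), (60, 231), (61, 231), (62, 231), (63, 231), (64, 231),
     (65, 231), (0, 0), (0, 0), (0, 0), (0, 0), (0, 0), (0, 0), (0, 0), (0, 0), (0, 0), (0, 0),
     (71, 231), (72, 231), (73, 231), (74, 231), (75, 231), (0, 0), (0, 0), (0, 0), (0, 0), (0, 0),
     (77, 231), (0, 0), (0, 0), (0, 0), (0, 0), (0, 0), (0, 0), (162, 224), (0, 0), (0, 0), (0, 0),
     (0, 0), (0, 0), (0, 0), (0, 0), (0, 0)],
    [(1, 119), (0, 120), (0, 122), (0, 125), (0, 129), (0, 134), (0, 0), (15, 76), (0, 151),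
     (0, 155), (0, 158), (0, 160), (0, 161), (1, 161), (0, 168), (7, 163), (7, 164), (7, 165),
     (7, 166), (7, 167), (7, 168), (0, 187), (0, 190), (0, 192), (0, 193), (1, 193), (0, 196),
     (0, 198), (0, 199), (1, 199), (0, 201), (0, 202), (1, 202), (0, 203), (1, 203), (2, 203),
     (7, 184), (7, 185), (7, 186), (7, 187), (7, 188), (7, 189), (7, 190), (7, 191), (7, 192),
     (7, 193), (7, 194), (7, 195), (7, 196), (7, 197), (7, 198), (7, 199), (7, 200), (7, 201),
     (7, 202), (7, 203), (0, 220), (0, 221), (1, 221), (0, 222), (1, 222), (2, 222), (0, 223),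
     (1, 223), (2, 223), (3, 223), (0, 224), (1, 224), (2, 224), (3, 224), (4, 224), (7, 219),
     (7, 220), (7, 221), (7, 222), (7, 223), (7, 224), (8, 224), (15, 194), (15, 195), (15, 196),
     (15, 197), (15, 198), (15, 199), (15, 200), (15, 201), (15, 202), (15, 203), (16, 200),
     (16, 201), (16, 202), (16, 203), (17, 203), (0, 232), (1, 232), (2, 232), (3, 232), (4, 232),
     (5, 232), (0, 0), (0, 0), (0, 0), (0, 0), (0, 0), (0, 0), (15, 219), (15, 220), (15, 221),
     (15, 222), (15, 223), (16, 219), (16, 220), (16, 221), (16, 222), (17, 219), (17, 220),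
     (17, 221), (18, 219), (18, 220), (19, 219), (20, 220), (19, 221), (20, 221), (18, 222),
     (19, 222), (20, 222), (17, 223), (18, 223), (19, 223), (20, 223), (16, 224), (17, 224),
     (18, 224), (19, 224), (20, 224), (8, 232), (9, 232), (10, 232), (11, 232), (12, 232),
     (13, 232), (0, 0), (0, 0), (0, 0), (0, 0), (0, 0), (0, 0), (36, 222), (36, 223), (37, 223),
     (38, 223), (39, 223), (36, 224), (37, 224), (38, 224), (39, 224), (40, 224), (41, 224),
     (42, 224), (43, 224), (44, 224), (45, 224), (0, 0), (15, 232), (16, 232), (17, 232),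
     (18, 232), (19, 232), (20, 232), (0, 0), (0, 0), (0, 0), (0, 0), (0, 0), (0, 0), (0, 0),
     (0, 0), (0, 0), (0, 0), (0, 0), (0, 0), (0, 0), (0, 0), (0, 0), (36, 232), (37, 232),
     (38, 232), (39, 232), (40, 232), (41, 232), (42, 232), (43, 232), (44, 232), (45, 232),
     (46, 232), (47, 232), (48, 232), (49, 232), (50, 232), (51, 232), (52, 232), (53, 232),
     (54, 232), (55, 232), (0, 0), (0, 0), (0, 0), (0, 0), (0, 0), (0, 0), (0, 0), (0, 0), (0, 0),
     (0, 0), (0, 0), (0, 0), (0, 0), (0, 0), (0, 0), (71, 232), (72, 232), (73, 232), (74, 232),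
     (75, 232), (76, 232), (0, 0), (0, 0), (0, 0), (0, 0), (0, 0), (0, 0), (0, 0), (163, 224),
     (0, 0), (0, 0), (0, 0), (0, 0), (0, 0), (0, 0), (0, 0)],
    [(1, 119), (0, 120), (0, 122), (0, 125), (0, 129), (0, 134), (14, 77), (0, 0), (0, 151),
     (0, 155), (0, 158), (0, 160), (0, 161), (1, 161), (6, 162), (0, 173), (0, 177), (0, 180),
     (0, 182), (0, 183), (1, 183), (6, 169), (6, 170), (6, 171), (6, 172), (6, 173), (6, 174),
     (6, 175), (6, 176), (6, 177), (6, 178), (6, 179), (6, 180), (6, 181), (6, 182), (6, 183),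
     (0, 206), (0, 208), (0, 209), (1, 209), (0, 211), (0, 212), (1, 212), (0, 213), (1, 213),
     (2, 213), (0, 215), (0, 216), (1, 216), (0, 217), (1, 217), (2, 217), (0, 218), (1, 218),
     (2, 218), (3, 218), (6, 204), (6, 205), (6, 206), (6, 207), (6, 208), (6, 209), (6, 210),
     (6, 211), (6, 212), (6, 213), (6, 214), (6, 215), (6, 216), (6, 217), (6, 218), (0, 225),
     (1, 225), (2, 225), (3, 225), (4, 225), (5, 225), (6, 225), (14, 204), (14, 205), (14, 206),
     (14, 207), (14, 208), (14, 209), (14, 210), (14, 211), (14, 212), (14, 213), (14, 214),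
     (14, 215), (14, 216), (14, 217), (14, 218), (0, 0), (0, 0), (0, 0), (0, 0), (0, 0), (0, 0),
     (0, 233), (1, 233), (2, 233), (3, 233), (4, 233), (5, 233), (21, 210), (21, 211), (21, 212),
     (21, 213), (22, 213), (21, 214), (21, 215), (21, 216), (21, 217), (22, 214), (22, 215),
     (22, 216), (23, 214), (23, 215), (24, 214), (25, 215), (24, 216), (25, 216), (23, 217),
     (24, 217), (25, 217), (22, 218), (23, 218), (24, 218), (25, 218), (26, 217), (26, 218),
     (27, 218), (28, 218), (29, 218), (0, 0), (0, 0), (0, 0), (0, 0), (0, 0), (0, 0), (8, 233),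
     (9, 233), (10, 233), (11, 233), (12, 233), (13, 233), (21, 225), (22, 225), (23, 225),
     (24, 225), (25, 225), (26, 225), (27, 225), (28, 225), (29, 225), (30, 225), (31, 225),
     (32, 225), (33, 225), (34, 225), (35, 225), (14, 233), (0, 0), (0, 0), (0, 0), (0, 0), (0, 0),
     (0, 0), (21, 233), (22, 233), (23, 233), (24, 233), (25, 233), (26, 233), (27, 233),
     (28, 233), (29, 233), (30, 233), (31, 233), (32, 233), (33, 233), (34, 233), (35, 233),
     (0, 0), (0, 0), (0, 0), (0, 0), (0, 0), (0, 0), (0, 0), (0, 0), (0, 0), (0, 0), (0, 0),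
     (0, 0), (0, 0), (0, 0), (0, 0), (0, 0), (0, 0), (0, 0), (0, 0), (0, 0), (56, 233), (57, 233),
     (58, 233), (59, 233), (60, 233), (61, 233), (62, 233), (63, 233), (64, 233), (65, 233),
     (66, 233), (67, 233), (68, 233), (69, 233), (70, 233), (0, 0), (0, 0), (0, 0), (0, 0), (0, 0),
     (0, 0), (77, 233), (0, 0), (0, 0), (0, 0), (0, 0), (0, 0), (0, 0), (0, 0), (162, 225), (0, 0),
     (0, 0), (0, 0), (0, 0), (0, 0), (0, 0)],
    [(1, 119), (0, 120), (0, 122), (0, 125), (0, 129), (14, 76), (0, 140), (0, 146), (0, 0),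
     (0, 155), (0, 158), (0, 160), (0, 161), (1, 161), (5, 163), (0, 173), (5, 169), (5, 170),
     (5, 171), (5, 172), (5, 173), (0, 187), (0, 190), (0, 192), (0, 193), (1, 193), (5, 184),
     (5, 185), (5, 186), (5, 187), (5, 188), (5, 189), (5, 190), (5, 191), (5, 192), (5, 193),
     (0, 206), (0, 208), (0, 209), (1, 209), (0, 211), (0, 212), (1, 212), (0, 213), (1, 213),
     (2, 213), (5, 204), (5, 205), (5, 206), (5, 207), (5, 208), (5, 209), (5, 210), (5, 211),
     (5, 212), (5, 213), (0, 220), (0, 221), (1, 221), (0, 222), (1, 222), (2, 222), (0, 223),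
     (1, 223), (2, 223), (3, 223), (5, 219), (5, 220), (5, 221), (5, 222), (5, 223), (0, 225),
     (1, 225), (2, 225), (3, 225), (4, 225), (5, 225), (6, 225), (14, 204), (14, 205), (14, 206),
     (14, 207), (14, 208), (14, 209), (14, 210), (14, 211), (14, 212), (14, 213), (0, 0), (0, 0),
     (0, 0), (0, 0), (0, 0), (14, 219), (14, 220), (14, 221), (14, 222), (14, 223), (0, 0),
     (16, 210), (16, 211), (16, 212), (16, 213), (17, 213), (0, 0), (0, 234), (1, 234), (2, 234),
     (3, 234), (4, 234), (16, 219), (16, 220), (16, 221), (16, 222), (17, 219), (17, 220),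
     (17, 221), (18, 219), (18, 220), (19, 219), (20, 220), (19, 221), (20, 221), (18, 222),
     (19, 222), (20, 222), (17, 223), (18, 223), (19, 223), (20, 223), (0, 0), (0, 0), (0, 0),
     (0, 0), (0, 0), (6, 234), (26, 222), (26, 223), (27, 223), (28, 223), (29, 223), (7, 234),
     (16, 225), (17, 225), (18, 225), (19, 225), (20, 225), (9, 234), (10, 234), (11, 234),
     (12, 234), (13, 234), (26, 225), (27, 225), (28, 225), (29, 225), (30, 225), (31, 225),
     (32, 225), (33, 225), (34, 225), (35, 225), (0, 0), (14, 234), (0, 0), (0, 0), (0, 0), (0, 0),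
     (0, 0), (16, 234), (17, 234), (18, 234), (19, 234), (20, 234), (0, 0), (0, 0), (0, 0), (0, 0),
     (0, 0), (0, 0), (0, 0), (0, 0), (0, 0), (0, 0), (26, 234), (27, 234), (28, 234), (29, 234),
     (30, 234), (31, 234), (32, 234), (33, 234), (34, 234), (35, 234), (0, 0), (0, 0), (0, 0),
     (0, 0), (0, 0), (0, 0), (0, 0), (0, 0), (0, 0), (0, 0), (46, 234), (47, 234), (48, 234),
     (49, 234), (50, 234), (51, 234), (52, 234), (53, 234), (54, 234), (55, 234), (0, 0), (0, 0),
     (0, 0), (0, 0), (0, 0), (66, 234), (67, 234), (68, 234), (69, 234), (70, 234), (0, 0),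
     (76, 234), (0, 0), (0, 0), (0, 0), (0, 0), (0, 0), (0, 0), (0, 0), (0, 0), (163, 225), (0, 0),
     (0, 0), (0, 0), (0, 0), (0, 0)],
    [(1, 119), (0, 120), (0, 122), (0, 125), (14, 75), (0, 134), (0, 140), (0, 146), (0, 151),
     (0, 0), (0, 158), (0, 160), (0, 161), (1, 161), (4, 164), (4, 169), (0, 177), (4, 174),
     (4, 175), (4, 176), (4, 177), (0, 187), (4, 184), (4, 185), (4, 186), (4, 187), (0, 196),
     (0, 198), (0, 199), (1, 199), (4, 194), (4, 195), (4, 196), (4, 197), (4, 198), (4, 199),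
     (0, 206), (0, 208), (0, 209), (1, 209), (4, 204), (4, 205), (4, 206), (4, 207), (4, 208),
     (4, 209), (0, 215), (0, 216), (1, 216), (0, 217), (1, 217), (2, 217), (4, 214), (4, 215),
     (4, 216), (4, 217), (0, 220), (0, 221), (1, 221), (0, 222), (1, 222), (2, 222), (4, 219),
     (4, 220), (4, 221), (4, 222), (0, 224), (1, 224), (2, 224), (3, 224), (4, 224), (0, 225),
     (1, 225), (2, 225), (3, 225), (4, 225), (5, 225), (6, 225), (14, 204), (14, 205), (14, 206),
     (14, 207), (14, 208), (14, 209), (0, 0), (0, 0), (0, 0), (0, 0), (14, 214), (14, 215),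
     (14, 216), (14, 217), (0, 0), (14, 219), (14, 220), (14, 221), (14, 222), (0, 0), (14, 224),
     (15, 214), (15, 215), (15, 216), (15, 217), (0, 0), (17, 217), (15, 219), (15, 220),
     (15, 221), (15, 222), (0, 0), (0, 235), (1, 235), (2, 235), (3, 235), (17, 219), (17, 220),
     (17, 221), (18, 219), (18, 220), (19, 219), (20, 220), (19, 221), (20, 221), (18, 222),
     (19, 222), (20, 222), (0, 0), (0, 0), (0, 0), (0, 0), (5, 235), (17, 224), (18, 224),
     (19, 224), (20, 224), (22, 222), (6, 235), (22, 224), (23, 224), (24, 224), (25, 224),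
     (15, 225), (7, 235), (17, 225), (18, 225), (19, 225), (20, 225), (8, 235), (22, 225),
     (23, 225), (24, 225), (25, 225), (10, 235), (11, 235), (12, 235), (13, 235), (30, 225),
     (31, 225), (32, 225), (33, 225), (34, 225), (35, 225), (0, 0), (0, 0), (14, 235), (0, 0),
     (0, 0), (0, 0), (0, 0), (15, 235), (0, 0), (0, 0), (0, 0), (0, 0), (17, 235), (18, 235),
     (19, 235), (20, 235), (0, 0), (0, 0), (0, 0), (0, 0), (0, 0), (0, 0), (22, 235), (23, 235),
     (24, 235), (25, 235), (0, 0), (0, 0), (0, 0), (0, 0), (0, 0), (0, 0), (30, 235), (31, 235),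
     (32, 235), (33, 235), (34, 235), (35, 235), (0, 0), (0, 0), (0, 0), (0, 0), (40, 235),
     (41, 235), (42, 235), (43, 235), (44, 235), (45, 235), (0, 0), (0, 0), (0, 0), (0, 0),
     (52, 235), (53, 235), (54, 235), (55, 235), (0, 0), (62, 235), (63, 235), (64, 235),
     (65, 235), (0, 0), (70, 235), (75, 235), (0, 0), (0, 0), (0, 0), (0, 0), (0, 0), (0, 0),
     (0, 0), (0, 0), (0, 0), (164, 225), (0, 0), (0, 0), (0, 0), (0, 0)]
  ]

set_option maxRecDepth 1000000 in
theorem rowsD_E8_0 : rowsDB chevE8 certE8_0 0 = true := by decide +kernel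

set_option maxHeartbeats 0 in
/-- certificates for the rows `10..19` -/
def certE8_10 : List (List (ℕ × ℕ)) :=
  [
    [(1, 119), (0, 120), (0, 122), (14, 74), (0, 129), (0, 134), (0, 140), (0, 146), (0, 151),
     (0, 155), (0, 0), (0, 160), (0, 161), (1, 161), (3, 165), (3, 170), (3, 174), (0, 180),
     (3, 178), (3, 179), (3, 180), (3, 184), (0, 190), (3, 188), (3, 189), (3, 190), (0, 196),
     (3, 194), (3, 195), (3, 196), (0, 201), (0, 202), (1, 202), (3, 200), (3, 201), (3, 202),
     (0, 206), (3, 204), (3, 205), (3, 206), (0, 211), (0, 212), (1, 212), (3, 210), (3, 211),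
     (3, 212), (0, 215), (0, 216), (1, 216), (3, 214), (3, 215), (3, 216), (0, 218), (1, 218),
     (2, 218), (3, 218), (0, 220), (0, 221), (1, 221), (3, 219), (3, 220), (3, 221), (0, 223),
     (1, 223), (2, 223), (3, 223), (0, 224), (1, 224), (2, 224), (3, 224), (4, 224), (0, 225),
     (1, 225), (2, 225), (3, 225), (4, 225), (5, 225), (6, 225), (14, 204), (14, 205), (14, 206),
     (0, 0), (0, 0), (0, 0), (14, 210), (14, 211), (14, 212), (0, 0), (14, 214), (14, 215),
     (14, 216), (0, 0), (14, 218), (14, 219), (14, 220), (14, 221), (0, 0), (14, 223), (14, 224),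
     (15, 214), (15, 215), (15, 216), (0, 0), (15, 218), (16, 218), (15, 219), (15, 220),
     (15, 221), (0, 0), (15, 223), (16, 219), (16, 220), (16, 221), (0, 0), (0, 236), (1, 236),
     (2, 236), (18, 219), (18, 220), (19, 219), (20, 220), (19, 221), (20, 221), (0, 0), (0, 0),
     (0, 0), (4, 236), (18, 223), (19, 223), (20, 223), (16, 224), (5, 236), (18, 224), (19, 224),
     (20, 224), (21, 223), (21, 224), (6, 236), (23, 224), (24, 224), (25, 224), (15, 225),
     (16, 225), (7, 236), (18, 225), (19, 225), (20, 225), (21, 225), (8, 236), (23, 225),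
     (24, 225), (25, 225), (9, 236), (27, 225), (28, 225), (29, 225), (11, 236), (12, 236),
     (13, 236), (33, 225), (34, 225), (35, 225), (0, 0), (0, 0), (0, 0), (14, 236), (0, 0), (0, 0),
     (0, 0), (0, 0), (15, 236), (0, 0), (0, 0), (0, 0), (16, 236), (0, 0), (0, 0), (0, 0),
     (18, 236), (19, 236), (20, 236), (0, 0), (0, 0), (0, 0), (21, 236), (0, 0), (0, 0), (0, 0),
     (23, 236), (24, 236), (25, 236), (0, 0), (0, 0), (0, 0), (27, 236), (28, 236), (29, 236),
     (0, 0), (0, 0), (0, 0), (33, 236), (34, 236), (35, 236), (0, 0), (37, 236), (38, 236),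
     (39, 236), (0, 0), (0, 0), (0, 0), (43, 236), (44, 236), (45, 236), (0, 0), (49, 236),
     (50, 236), (51, 236), (0, 0), (55, 236), (59, 236), (60, 236), (61, 236), (0, 0), (65, 236),
     (69, 236), (74, 236), (0, 0), (0, 0), (0, 0), (0, 0), (0, 0), (0, 0), (0, 0), (0, 0), (0, 0),
     (0, 0), (165, 225), (0, 0), (0, 0), (0, 0)],
    [(1, 119), (0, 120), (14, 73), (0, 125), (0, 129), (0, 134), (0, 140), (0, 146), (0, 151),
     (0, 155), (0, 158), (0, 0), (0, 161), (1, 161), (2, 166), (2, 171), (2, 175), (2, 178),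
     (0, 182), (2, 181), (2, 182), (2, 185), (2, 188), (0, 192), (2, 191), (2, 192), (2, 194),
     (0, 198), (2, 197), (2, 198), (0, 201), (2, 200), (2, 201), (0, 203), (1, 203), (2, 203),
     (2, 204), (0, 208), (2, 207), (2, 208), (0, 211), (2, 210), (2, 211), (0, 213), (1, 213),
     (2, 213), (0, 215), (2, 214), (2, 215), (0, 217), (1, 217), (2, 217), (0, 218), (1, 218),
     (2, 218), (3, 218), (0, 220), (2, 219), (2, 220), (0, 222), (1, 222), (2, 222), (0, 223),
     (1, 223), (2, 223), (3, 223), (0, 224), (1, 224), (2, 224), (3, 224), (4, 224), (0, 225),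
     (1, 225), (2, 225), (3, 225), (4, 225), (5, 225), (6, 225), (14, 204), (0, 0), (0, 0),
     (14, 207), (14, 208), (0, 0), (14, 210), (14, 211), (0, 0), (14, 213), (14, 214), (14, 215),
     (0, 0), (14, 217), (14, 218), (14, 219), (14, 220), (0, 0), (14, 222), (14, 223), (14, 224),
     (15, 214), (15, 215), (0, 0), (15, 217), (15, 218), (16, 218), (15, 219), (15, 220), (0, 0),
     (15, 222), (15, 223), (16, 219), (16, 220), (0, 0), (16, 222), (17, 219), (17, 220), (0, 0),
     (0, 237), (1, 237), (19, 219), (20, 220), (0, 0), (0, 0), (3, 237), (19, 222), (20, 222),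
     (17, 223), (4, 237), (19, 223), (20, 223), (16, 224), (17, 224), (5, 237), (19, 224),
     (20, 224), (21, 223), (21, 224), (22, 224), (6, 237), (24, 224), (25, 224), (15, 225),
     (16, 225), (17, 225), (7, 237), (19, 225), (20, 225), (21, 225), (22, 225), (8, 237),
     (24, 225), (25, 225), (26, 225), (9, 237), (28, 225), (29, 225), (10, 237), (31, 225),
     (32, 225), (12, 237), (13, 237), (35, 225), (0, 0), (0, 0), (0, 0), (0, 0), (14, 237), (0, 0),
     (0, 0), (0, 0), (0, 0), (15, 237), (0, 0), (0, 0), (0, 0), (16, 237), (0, 0), (0, 0),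
     (17, 237), (0, 0), (0, 0), (19, 237), (20, 237), (0, 0), (0, 0), (21, 237), (0, 0), (0, 0),
     (22, 237), (0, 0), (0, 0), (24, 237), (25, 237), (0, 0), (26, 237), (0, 0), (0, 0), (28, 237),
     (29, 237), (0, 0), (31, 237), (32, 237), (0, 0), (35, 237), (36, 237), (0, 0), (0, 0),
     (38, 237), (39, 237), (0, 0), (41, 237), (42, 237), (0, 0), (45, 237), (47, 237), (48, 237),
     (0, 0), (51, 237), (54, 237), (57, 237), (58, 237), (0, 0), (61, 237), (64, 237), (68, 237),
     (73, 237), (0, 0), (0, 0), (0, 0), (0, 0), (0, 0), (0, 0), (0, 0), (0, 0), (0, 0), (0, 0),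
     (0, 0), (166, 225), (0, 0), (0, 0)],
    [(1, 119), (14, 72), (0, 122), (0, 125), (0, 129), (0, 134), (0, 140), (0, 146), (0, 151),
     (0, 155), (0, 158), (0, 160), (0, 0), (1, 161), (1, 167), (1, 172), (1, 176), (1, 179),
     (1, 181), (0, 183), (1, 183), (1, 186), (1, 189), (1, 191), (0, 193), (1, 193), (1, 195),
     (1, 197), (0, 199), (1, 199), (1, 200), (0, 202), (1, 202), (0, 203), (1, 203), (2, 203),
     (1, 205), (1, 207), (0, 209), (1, 209), (1, 210), (0, 212), (1, 212), (0, 213), (1, 213),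
     (2, 213), (1, 214), (0, 216), (1, 216), (0, 217), (1, 217), (2, 217), (0, 218), (1, 218),
     (2, 218), (3, 218), (1, 219), (0, 221), (1, 221), (0, 222), (1, 222), (2, 222), (0, 223),
     (1, 223), (2, 223), (3, 223), (0, 224), (1, 224), (2, 224), (3, 224), (4, 224), (0, 225),
     (1, 225), (2, 225), (3, 225), (4, 225), (5, 225), (6, 225), (0, 0), (14, 205), (0, 0),
     (14, 207), (0, 0), (14, 209), (14, 210), (0, 0), (14, 212), (14, 213), (14, 214), (0, 0),
     (14, 216), (14, 217), (14, 218), (14, 219), (0, 0), (14, 221), (14, 222), (14, 223),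
     (14, 224), (15, 214), (0, 0), (15, 216), (15, 217), (15, 218), (16, 218), (15, 219), (0, 0),
     (15, 221), (15, 222), (15, 223), (16, 219), (0, 0), (16, 221), (16, 222), (17, 219), (0, 0),
     (17, 221), (18, 219), (0, 0), (0, 238), (0, 0), (2, 238), (20, 221), (18, 222), (3, 238),
     (20, 222), (17, 223), (18, 223), (4, 238), (20, 223), (16, 224), (17, 224), (18, 224),
     (5, 238), (20, 224), (21, 223), (21, 224), (22, 224), (23, 224), (6, 238), (25, 224),
     (15, 225), (16, 225), (17, 225), (18, 225), (7, 238), (20, 225), (21, 225), (22, 225),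
     (23, 225), (8, 238), (25, 225), (26, 225), (27, 225), (9, 238), (29, 225), (30, 225),
     (10, 238), (32, 225), (11, 238), (34, 225), (13, 238), (0, 0), (0, 0), (0, 0), (0, 0), (0, 0),
     (14, 238), (0, 0), (0, 0), (0, 0), (0, 0), (15, 238), (0, 0), (0, 0), (0, 0), (16, 238),
     (0, 0), (0, 0), (17, 238), (0, 0), (18, 238), (0, 0), (20, 238), (0, 0), (0, 0), (21, 238),
     (0, 0), (0, 0), (22, 238), (0, 0), (23, 238), (0, 0), (25, 238), (0, 0), (26, 238), (0, 0),
     (27, 238), (0, 0), (29, 238), (30, 238), (0, 0), (32, 238), (34, 238), (0, 0), (36, 238),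
     (0, 0), (37, 238), (0, 0), (39, 238), (40, 238), (0, 0), (42, 238), (44, 238), (46, 238),
     (0, 0), (48, 238), (50, 238), (53, 238), (56, 238), (0, 0), (58, 238), (60, 238), (63, 238),
     (67, 238), (72, 238), (0, 0), (0, 0), (0, 0), (0, 0), (0, 0), (0, 0), (0, 0), (0, 0), (0, 0),
     (0, 0), (0, 0), (0, 0), (167, 225), (0, 0)],
    [(14, 71), (0, 120), (0, 122), (0, 125), (0, 129), (0, 134), (0, 140), (0, 146), (0, 151),
     (0, 155), (0, 158), (0, 160), (0, 161), (0, 0), (0, 168), (0, 173), (0, 177), (0, 180),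
     (0, 182), (0, 183), (1, 183), (0, 187), (0, 190), (0, 192), (0, 193), (1, 193), (0, 196),
     (0, 198), (0, 199), (1, 199), (0, 201), (0, 202), (1, 202), (0, 203), (1, 203), (2, 203),
     (0, 206), (0, 208), (0, 209), (1, 209), (0, 211), (0, 212), (1, 212), (0, 213), (1, 213),
     (2, 213), (0, 215), (0, 216), (1, 216), (0, 217), (1, 217), (2, 217), (0, 218), (1, 218),
     (2, 218), (3, 218), (0, 220), (0, 221), (1, 221), (0, 222), (1, 222), (2, 222), (0, 223),
     (1, 223), (2, 223), (3, 223), (0, 224), (1, 224), (2, 224), (3, 224), (4, 224), (0, 225),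
     (1, 225), (2, 225), (3, 225), (4, 225), (5, 225), (6, 225), (0, 0), (0, 0), (14, 206), (0, 0),
     (14, 208), (14, 209), (0, 0), (14, 211), (14, 212), (14, 213), (0, 0), (14, 215), (14, 216),
     (14, 217), (14, 218), (0, 0), (14, 220), (14, 221), (14, 222), (14, 223), (14, 224), (0, 0),
     (15, 215), (15, 216), (15, 217), (15, 218), (16, 218), (0, 0), (15, 220), (15, 221),
     (15, 222), (15, 223), (0, 0), (16, 220), (16, 221), (16, 222), (0, 0), (17, 220), (17, 221),
     (0, 0), (18, 220), (0, 0), (1, 239), (19, 221), (2, 239), (18, 222), (19, 222), (3, 239),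
     (17, 223), (18, 223), (19, 223), (4, 239), (16, 224), (17, 224), (18, 224), (19, 224),
     (5, 239), (21, 223), (21, 224), (22, 224), (23, 224), (24, 224), (6, 239), (15, 225),
     (16, 225), (17, 225), (18, 225), (19, 225), (7, 239), (21, 225), (22, 225), (23, 225),
     (24, 225), (8, 239), (26, 225), (27, 225), (28, 225), (9, 239), (30, 225), (31, 225),
     (10, 239), (33, 225), (11, 239), (12, 239), (0, 0), (0, 0), (0, 0), (0, 0), (0, 0), (0, 0),
     (14, 239), (0, 0), (0, 0), (0, 0), (0, 0), (15, 239), (0, 0), (0, 0), (0, 0), (16, 239),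
     (0, 0), (0, 0), (17, 239), (0, 0), (18, 239), (19, 239), (0, 0), (0, 0), (0, 0), (21, 239),
     (0, 0), (0, 0), (22, 239), (0, 0), (23, 239), (24, 239), (0, 0), (0, 0), (26, 239), (0, 0),
     (27, 239), (28, 239), (0, 0), (30, 239), (31, 239), (33, 239), (0, 0), (0, 0), (36, 239),
     (0, 0), (37, 239), (38, 239), (0, 0), (40, 239), (41, 239), (43, 239), (0, 0), (46, 239),
     (47, 239), (49, 239), (52, 239), (0, 0), (56, 239), (57, 239), (59, 239), (62, 239),
     (66, 239), (71, 239), (0, 0), (0, 0), (0, 0), (0, 0), (0, 0), (0, 0), (0, 0), (0, 0), (0, 0),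
     (0, 0), (0, 0), (0, 0), (0, 0), (168, 225)],
    [(1, 119), (0, 120), (0, 122), (0, 125), (0, 129), (0, 134), (0, 140), (8, 104), (7, 135),
     (7, 136), (7, 137), (7, 138), (7, 139), (7, 140), (0, 0), (0, 173), (0, 177), (0, 180),
     (0, 182), (0, 183), (1, 183), (0, 187), (0, 190), (0, 192), (0, 193), (1, 193), (0, 196),
     (0, 198), (0, 199), (1, 199), (0, 201), (0, 202), (1, 202), (0, 203), (1, 203), (2, 203),
     (7, 184), (7, 185), (7, 186), (7, 187), (7, 188), (7, 189), (7, 190), (7, 191), (7, 192),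
     (7, 193), (7, 194), (7, 195), (7, 196), (7, 197), (7, 198), (7, 199), (7, 200), (7, 201),
     (7, 202), (7, 203), (8, 194), (8, 195), (8, 196), (8, 197), (8, 198), (8, 199), (8, 200),
     (8, 201), (8, 202), (8, 203), (9, 200), (9, 201), (9, 202), (9, 203), (10, 203), (0, 0),
     (0, 0), (0, 0), (0, 0), (0, 0), (0, 0), (0, 0), (0, 227), (0, 228), (1, 228), (0, 229),
     (1, 229), (2, 229), (0, 230), (1, 230), (2, 230), (3, 230), (0, 231), (1, 231), (2, 231),
     (3, 231), (4, 231), (0, 232), (1, 232), (2, 232), (3, 232), (4, 232), (5, 232), (7, 226),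
     (7, 227), (7, 228), (7, 229), (7, 230), (7, 231), (8, 226), (8, 227), (8, 228), (8, 229),
     (8, 230), (9, 226), (9, 227), (9, 228), (9, 229), (10, 226), (10, 227), (10, 228), (11, 226),
     (11, 227), (12, 226), (13, 227), (12, 228), (13, 228), (11, 229), (12, 229), (13, 229),
     (10, 230), (11, 230), (12, 230), (13, 230), (9, 231), (10, 231), (11, 231), (12, 231),
     (13, 231), (8, 232), (9, 232), (10, 232), (11, 232), (12, 232), (13, 232), (0, 0), (0, 0),
     (0, 0), (0, 0), (0, 0), (0, 0), (0, 0), (0, 0), (0, 0), (0, 0), (0, 0), (0, 0), (0, 0),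
     (0, 0), (0, 0), (0, 0), (0, 0), (0, 0), (0, 0), (0, 0), (0, 0), (15, 231), (15, 232),
     (16, 232), (17, 232), (18, 232), (19, 232), (20, 232), (36, 229), (36, 230), (37, 230),
     (38, 230), (39, 230), (36, 231), (37, 231), (38, 231), (39, 231), (40, 231), (41, 231),
     (42, 231), (43, 231), (44, 231), (45, 231), (36, 232), (37, 232), (38, 232), (39, 232),
     (40, 232), (41, 232), (42, 232), (43, 232), (44, 232), (45, 232), (46, 232), (47, 232),
     (48, 232), (49, 232), (50, 232), (51, 232), (52, 232), (53, 232), (54, 232), (55, 232),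
     (0, 0), (0, 0), (0, 0), (0, 0), (0, 0), (0, 0), (0, 0), (0, 0), (0, 0), (0, 0), (0, 0),
     (0, 0), (0, 0), (0, 0), (0, 0), (0, 0), (0, 0), (0, 0), (0, 0), (0, 0), (0, 0), (0, 0),
     (99, 232), (100, 232), (101, 232), (102, 232), (103, 232), (104, 232), (135, 231), (0, 0),
     (0, 0), (0, 0), (0, 0), (0, 0), (0, 0), (0, 0)],
    [(1, 119), (0, 120), (0, 122), (0, 125), (0, 129), (6, 104), (5, 135), (0, 146), (0, 151),
     (5, 147), (5, 148), (5, 149), (5, 150), (5, 151), (0, 168), (0, 0), (0, 177), (0, 180),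
     (0, 182), (0, 183), (1, 183), (0, 187), (0, 190), (0, 192), (0, 193), (1, 193), (5, 184),
     (5, 185), (5, 186), (5, 187), (5, 188), (5, 189), (5, 190), (5, 191), (5, 192), (5, 193),
     (0, 206), (0, 208), (0, 209), (1, 209), (0, 211), (0, 212), (1, 212), (0, 213), (1, 213),
     (2, 213), (5, 204), (5, 205), (5, 206), (5, 207), (5, 208), (5, 209), (5, 210), (5, 211),
     (5, 212), (5, 213), (6, 204), (6, 205), (6, 206), (6, 207), (6, 208), (6, 209), (6, 210),
     (6, 211), (6, 212), (6, 213), (0, 0), (0, 0), (0, 0), (0, 0), (0, 0), (9, 210), (9, 211),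
     (9, 212), (9, 213), (10, 213), (0, 0), (0, 0), (0, 227), (0, 228), (1, 228), (0, 229),
     (1, 229), (2, 229), (0, 230), (1, 230), (2, 230), (3, 230), (5, 226), (5, 227), (5, 228),
     (5, 229), (5, 230), (6, 226), (6, 227), (6, 228), (6, 229), (6, 230), (0, 0), (0, 233),
     (1, 233), (2, 233), (3, 233), (4, 233), (5, 233), (0, 234), (1, 234), (2, 234), (3, 234),
     (4, 234), (9, 226), (9, 227), (9, 228), (9, 229), (10, 226), (10, 227), (10, 228), (11, 226),
     (11, 227), (12, 226), (13, 227), (12, 228), (13, 228), (11, 229), (12, 229), (13, 229),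
     (10, 230), (11, 230), (12, 230), (13, 230), (0, 0), (0, 0), (0, 0), (0, 0), (0, 0), (6, 234),
     (0, 0), (0, 0), (0, 0), (0, 0), (0, 0), (7, 234), (9, 233), (10, 233), (11, 233), (12, 233),
     (13, 233), (9, 234), (10, 234), (11, 234), (12, 234), (13, 234), (0, 0), (0, 0), (0, 0),
     (0, 0), (0, 0), (0, 0), (0, 0), (0, 0), (0, 0), (0, 0), (14, 233), (14, 234), (26, 229),
     (26, 230), (27, 230), (28, 230), (29, 230), (16, 234), (17, 234), (18, 234), (19, 234),
     (20, 234), (26, 233), (27, 233), (28, 233), (29, 233), (30, 233), (31, 233), (32, 233),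
     (33, 233), (34, 233), (35, 233), (26, 234), (27, 234), (28, 234), (29, 234), (30, 234),
     (31, 234), (32, 234), (33, 234), (34, 234), (35, 234), (0, 0), (0, 0), (0, 0), (0, 0), (0, 0),
     (0, 0), (0, 0), (0, 0), (0, 0), (0, 0), (46, 234), (47, 234), (48, 234), (49, 234), (50, 234),
     (51, 234), (52, 234), (53, 234), (54, 234), (55, 234), (0, 0), (0, 0), (0, 0), (0, 0), (0, 0),
     (0, 0), (0, 0), (0, 0), (0, 0), (0, 0), (0, 0), (0, 0), (88, 234), (89, 234), (90, 234),
     (91, 234), (92, 234), (0, 0), (0, 0), (104, 234), (135, 233), (0, 0), (0, 0), (0, 0), (0, 0),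
     (0, 0)],
    [(1, 119), (0, 120), (0, 122), (0, 125), (6, 103), (0, 134), (4, 136), (0, 146), (4, 147),
     (0, 155), (4, 152), (4, 153), (4, 154), (4, 155), (0, 168), (0, 173), (0, 0), (0, 180),
     (0, 182), (0, 183), (1, 183), (0, 187), (4, 184), (4, 185), (4, 186), (4, 187), (0, 196),
     (0, 198), (0, 199), (1, 199), (4, 194), (4, 195), (4, 196), (4, 197), (4, 198), (4, 199),
     (0, 206), (0, 208), (0, 209), (1, 209), (4, 204), (4, 205), (4, 206), (4, 207), (4, 208),
     (4, 209), (0, 215), (0, 216), (1, 216), (0, 217), (1, 217), (2, 217), (4, 214), (4, 215),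
     (4, 216), (4, 217), (6, 204), (6, 205), (6, 206), (6, 207), (6, 208), (6, 209), (0, 0),
     (0, 0), (0, 0), (0, 0), (6, 214), (6, 215), (6, 216), (6, 217), (0, 0), (8, 214), (8, 215),
     (8, 216), (8, 217), (0, 0), (10, 217), (0, 0), (0, 227), (0, 228), (1, 228), (0, 229),
     (1, 229), (2, 229), (4, 226), (4, 227), (4, 228), (4, 229), (0, 231), (1, 231), (2, 231),
     (3, 231), (4, 231), (6, 226), (6, 227), (6, 228), (6, 229), (0, 0), (6, 231), (0, 233),
     (1, 233), (2, 233), (3, 233), (4, 233), (5, 233), (8, 226), (8, 227), (8, 228), (8, 229),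
     (0, 0), (0, 235), (1, 235), (2, 235), (3, 235), (10, 226), (10, 227), (10, 228), (11, 226),
     (11, 227), (12, 226), (13, 227), (12, 228), (13, 228), (11, 229), (12, 229), (13, 229),
     (0, 0), (0, 0), (0, 0), (0, 0), (5, 235), (10, 231), (11, 231), (12, 231), (13, 231), (0, 0),
     (6, 235), (0, 0), (0, 0), (0, 0), (0, 0), (8, 233), (7, 235), (10, 233), (11, 233), (12, 233),
     (13, 233), (8, 235), (0, 0), (0, 0), (0, 0), (0, 0), (10, 235), (11, 235), (12, 235),
     (13, 235), (0, 0), (0, 0), (0, 0), (0, 0), (0, 0), (0, 0), (14, 233), (22, 229), (14, 235),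
     (22, 231), (23, 231), (24, 231), (25, 231), (15, 235), (22, 233), (23, 233), (24, 233),
     (25, 233), (17, 235), (18, 235), (19, 235), (20, 235), (30, 233), (31, 233), (32, 233),
     (33, 233), (34, 233), (35, 233), (22, 235), (23, 235), (24, 235), (25, 235), (0, 0), (0, 0),
     (0, 0), (0, 0), (0, 0), (0, 0), (30, 235), (31, 235), (32, 235), (33, 235), (34, 235),
     (35, 235), (0, 0), (0, 0), (0, 0), (0, 0), (40, 235), (41, 235), (42, 235), (43, 235),
     (44, 235), (45, 235), (0, 0), (0, 0), (0, 0), (0, 0), (52, 235), (53, 235), (54, 235),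
     (55, 235), (0, 0), (0, 0), (0, 0), (0, 0), (0, 0), (0, 0), (0, 0), (0, 0), (84, 235),
     (85, 235), (86, 235), (87, 235), (0, 0), (92, 235), (0, 0), (103, 235), (0, 0), (136, 233),
     (0, 0), (0, 0), (0, 0), (0, 0)],
    [(1, 119), (0, 120), (0, 122), (6, 102), (0, 129), (0, 134), (3, 137), (0, 146), (3, 148),
     (3, 152), (0, 158), (3, 156), (3, 157), (3, 158), (0, 168), (0, 173), (0, 177), (0, 0),
     (0, 182), (0, 183), (1, 183), (3, 184), (0, 190), (3, 188), (3, 189), (3, 190), (0, 196),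
     (3, 194), (3, 195), (3, 196), (0, 201), (0, 202), (1, 202), (3, 200), (3, 201), (3, 202),
     (0, 206), (3, 204), (3, 205), (3, 206), (0, 211), (0, 212), (1, 212), (3, 210), (3, 211),
     (3, 212), (0, 215), (0, 216), (1, 216), (3, 214), (3, 215), (3, 216), (0, 218), (1, 218),
     (2, 218), (3, 218), (6, 204), (6, 205), (6, 206), (0, 0), (0, 0), (0, 0), (6, 210), (6, 211),
     (6, 212), (0, 0), (6, 214), (6, 215), (6, 216), (0, 0), (6, 218), (8, 214), (8, 215),
     (8, 216), (0, 0), (8, 218), (9, 218), (0, 0), (0, 227), (0, 228), (1, 228), (3, 226),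
     (3, 227), (3, 228), (0, 230), (1, 230), (2, 230), (3, 230), (0, 231), (1, 231), (2, 231),
     (3, 231), (4, 231), (6, 226), (6, 227), (6, 228), (0, 0), (6, 230), (6, 231), (0, 233),
     (1, 233), (2, 233), (3, 233), (4, 233), (5, 233), (8, 226), (8, 227), (8, 228), (0, 0),
     (8, 230), (9, 226), (9, 227), (9, 228), (0, 0), (0, 236), (1, 236), (2, 236), (11, 226),
     (11, 227), (12, 226), (13, 227), (12, 228), (13, 228), (0, 0), (0, 0), (0, 0), (4, 236),
     (11, 230), (12, 230), (13, 230), (9, 231), (5, 236), (11, 231), (12, 231), (13, 231), (0, 0),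
     (0, 0), (6, 236), (0, 0), (0, 0), (0, 0), (8, 233), (9, 233), (7, 236), (11, 233), (12, 233),
     (13, 233), (0, 0), (8, 236), (0, 0), (0, 0), (0, 0), (9, 236), (0, 0), (0, 0), (0, 0),
     (11, 236), (12, 236), (13, 236), (0, 0), (0, 0), (0, 0), (14, 233), (21, 230), (21, 231),
     (14, 236), (23, 231), (24, 231), (25, 231), (21, 233), (15, 236), (23, 233), (24, 233),
     (25, 233), (16, 236), (27, 233), (28, 233), (29, 233), (18, 236), (19, 236), (20, 236),
     (33, 233), (34, 233), (35, 233), (21, 236), (0, 0), (0, 0), (0, 0), (23, 236), (24, 236),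
     (25, 236), (0, 0), (0, 0), (0, 0), (27, 236), (28, 236), (29, 236), (0, 0), (0, 0), (0, 0),
     (33, 236), (34, 236), (35, 236), (0, 0), (37, 236), (38, 236), (39, 236), (0, 0), (0, 0),
     (0, 0), (43, 236), (44, 236), (45, 236), (0, 0), (49, 236), (50, 236), (51, 236), (0, 0),
     (55, 236), (0, 0), (0, 0), (0, 0), (0, 0), (0, 0), (0, 0), (0, 0), (81, 236), (82, 236),
     (83, 236), (0, 0), (87, 236), (91, 236), (0, 0), (102, 236), (0, 0), (0, 0), (137, 233),
     (0, 0), (0, 0), (0, 0)],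
    [(1, 119), (0, 120), (6, 101), (0, 125), (0, 129), (0, 134), (2, 138), (0, 146), (2, 149),
     (2, 153), (2, 156), (0, 160), (2, 159), (2, 160), (0, 168), (0, 173), (0, 177), (0, 180),
     (0, 0), (0, 183), (1, 183), (2, 185), (2, 188), (0, 192), (2, 191), (2, 192), (2, 194),
     (0, 198), (2, 197), (2, 198), (0, 201), (2, 200), (2, 201), (0, 203), (1, 203), (2, 203),
     (2, 204), (0, 208), (2, 207), (2, 208), (0, 211), (2, 210), (2, 211), (0, 213), (1, 213),
     (2, 213), (0, 215), (2, 214), (2, 215), (0, 217), (1, 217), (2, 217), (0, 218), (1, 218),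
     (2, 218), (3, 218), (6, 204), (0, 0), (0, 0), (6, 207), (6, 208), (0, 0), (6, 210), (6, 211),
     (0, 0), (6, 213), (6, 214), (6, 215), (0, 0), (6, 217), (6, 218), (8, 214), (8, 215), (0, 0),
     (8, 217), (8, 218), (9, 218), (0, 0), (0, 227), (2, 226), (2, 227), (0, 229), (1, 229),
     (2, 229), (0, 230), (1, 230), (2, 230), (3, 230), (0, 231), (1, 231), (2, 231), (3, 231),
     (4, 231), (6, 226), (6, 227), (0, 0), (6, 229), (6, 230), (6, 231), (0, 233), (1, 233),
     (2, 233), (3, 233), (4, 233), (5, 233), (8, 226), (8, 227), (0, 0), (8, 229), (8, 230),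
     (9, 226), (9, 227), (0, 0), (9, 229), (10, 226), (10, 227), (0, 0), (0, 237), (1, 237),
     (12, 226), (13, 227), (0, 0), (0, 0), (3, 237), (12, 229), (13, 229), (10, 230), (4, 237),
     (12, 230), (13, 230), (9, 231), (10, 231), (5, 237), (12, 231), (13, 231), (0, 0), (0, 0),
     (0, 0), (6, 237), (0, 0), (0, 0), (8, 233), (9, 233), (10, 233), (7, 237), (12, 233),
     (13, 233), (0, 0), (0, 0), (8, 237), (0, 0), (0, 0), (0, 0), (9, 237), (0, 0), (0, 0),
     (10, 237), (0, 0), (0, 0), (12, 237), (13, 237), (0, 0), (14, 233), (21, 230), (21, 231),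
     (22, 231), (14, 237), (24, 231), (25, 231), (21, 233), (22, 233), (15, 237), (24, 233),
     (25, 233), (26, 233), (16, 237), (28, 233), (29, 233), (17, 237), (31, 233), (32, 233),
     (19, 237), (20, 237), (35, 233), (0, 0), (21, 237), (0, 0), (0, 0), (22, 237), (0, 0), (0, 0),
     (24, 237), (25, 237), (0, 0), (26, 237), (0, 0), (0, 0), (28, 237), (29, 237), (0, 0),
     (31, 237), (32, 237), (0, 0), (35, 237), (36, 237), (0, 0), (0, 0), (38, 237), (39, 237),
     (0, 0), (41, 237), (42, 237), (0, 0), (45, 237), (47, 237), (48, 237), (0, 0), (51, 237),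
     (54, 237), (0, 0), (0, 0), (0, 0), (0, 0), (0, 0), (0, 0), (0, 0), (79, 237), (80, 237),
     (0, 0), (83, 237), (86, 237), (90, 237), (0, 0), (101, 237), (0, 0), (0, 0), (0, 0),
     (138, 233), (0, 0), (0, 0)],
    [(1, 119), (6, 100), (0, 122), (0, 125), (0, 129), (0, 134), (1, 139), (0, 146), (1, 150),
     (1, 154), (1, 157), (1, 159), (0, 161), (1, 161), (0, 168), (0, 173), (0, 177), (0, 180),
     (0, 182), (0, 0), (1, 183), (1, 186), (1, 189), (1, 191), (0, 193), (1, 193), (1, 195),
     (1, 197), (0, 199), (1, 199), (1, 200), (0, 202), (1, 202), (0, 203), (1, 203), (2, 203),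
     (1, 205), (1, 207), (0, 209), (1, 209), (1, 210), (0, 212), (1, 212), (0, 213), (1, 213),
     (2, 213), (1, 214), (0, 216), (1, 216), (0, 217), (1, 217), (2, 217), (0, 218), (1, 218),
     (2, 218), (3, 218), (0, 0), (6, 205), (0, 0), (6, 207), (0, 0), (6, 209), (6, 210), (0, 0),
     (6, 212), (6, 213), (6, 214), (0, 0), (6, 216), (6, 217), (6, 218), (8, 214), (0, 0),
     (8, 216), (8, 217), (8, 218), (9, 218), (0, 0), (1, 226), (0, 228), (1, 228), (0, 229),
     (1, 229), (2, 229), (0, 230), (1, 230), (2, 230), (3, 230), (0, 231), (1, 231), (2, 231),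
     (3, 231), (4, 231), (6, 226), (0, 0), (6, 228), (6, 229), (6, 230), (6, 231), (0, 233),
     (1, 233), (2, 233), (3, 233), (4, 233), (5, 233), (8, 226), (0, 0), (8, 228), (8, 229),
     (8, 230), (9, 226), (0, 0), (9, 228), (9, 229), (10, 226), (0, 0), (10, 228), (11, 226),
     (0, 0), (0, 238), (0, 0), (2, 238), (13, 228), (11, 229), (3, 238), (13, 229), (10, 230),
     (11, 230), (4, 238), (13, 230), (9, 231), (10, 231), (11, 231), (5, 238), (13, 231), (0, 0),
     (0, 0), (0, 0), (0, 0), (6, 238), (0, 0), (8, 233), (9, 233), (10, 233), (11, 233), (7, 238),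
     (13, 233), (0, 0), (0, 0), (0, 0), (8, 238), (0, 0), (0, 0), (0, 0), (9, 238), (0, 0), (0, 0),
     (10, 238), (0, 0), (11, 238), (0, 0), (13, 238), (14, 233), (21, 230), (21, 231), (22, 231),
     (23, 231), (14, 238), (25, 231), (21, 233), (22, 233), (23, 233), (15, 238), (25, 233),
     (26, 233), (27, 233), (16, 238), (29, 233), (30, 233), (17, 238), (32, 233), (18, 238),
     (34, 233), (20, 238), (0, 0), (0, 0), (21, 238), (0, 0), (0, 0), (22, 238), (0, 0), (23, 238),
     (0, 0), (25, 238), (0, 0), (26, 238), (0, 0), (27, 238), (0, 0), (29, 238), (30, 238), (0, 0),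
     (32, 238), (34, 238), (0, 0), (36, 238), (0, 0), (37, 238), (0, 0), (39, 238), (40, 238),
     (0, 0), (42, 238), (44, 238), (46, 238), (0, 0), (48, 238), (50, 238), (53, 238), (0, 0),
     (0, 0), (0, 0), (0, 0), (0, 0), (0, 0), (0, 0), (78, 238), (0, 0), (80, 238), (82, 238),
     (85, 238), (89, 238), (0, 0), (100, 238), (0, 0), (0, 0), (0, 0), (0, 0), (139, 233), (0, 0)]
  ]

set_option maxRecDepth 1000000 in
theorem rowsD_E8_10 : rowsDB chevE8 certE8_10 10 = true := by decide +kernel

set_option maxHeartbeats 0 in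
/-- certificates for the rows `20..29` -/
def certE8_20 : List (List (ℕ × ℕ)) :=
  [
    [(6, 99), (0, 120), (0, 122), (0, 125), (0, 129), (0, 134), (0, 140), (0, 146), (0, 151),
     (0, 155), (0, 158), (0, 160), (0, 161), (1, 161), (0, 168), (0, 173), (0, 177), (0, 180),
     (0, 182), (0, 183), (0, 0), (0, 187), (0, 190), (0, 192), (0, 193), (1, 193), (0, 196),
     (0, 198), (0, 199), (1, 199), (0, 201), (0, 202), (1, 202), (0, 203), (1, 203), (2, 203),
     (0, 206), (0, 208), (0, 209), (1, 209), (0, 211), (0, 212), (1, 212), (0, 213), (1, 213),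
     (2, 213), (0, 215), (0, 216), (1, 216), (0, 217), (1, 217), (2, 217), (0, 218), (1, 218),
     (2, 218), (3, 218), (0, 0), (0, 0), (6, 206), (0, 0), (6, 208), (6, 209), (0, 0), (6, 211),
     (6, 212), (6, 213), (0, 0), (6, 215), (6, 216), (6, 217), (6, 218), (0, 0), (8, 215),
     (8, 216), (8, 217), (8, 218), (9, 218), (0, 0), (0, 227), (0, 228), (1, 228), (0, 229),
     (1, 229), (2, 229), (0, 230), (1, 230), (2, 230), (3, 230), (0, 231), (1, 231), (2, 231),
     (3, 231), (4, 231), (0, 0), (6, 227), (6, 228), (6, 229), (6, 230), (6, 231), (0, 233),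
     (1, 233), (2, 233), (3, 233), (4, 233), (5, 233), (0, 0), (8, 227), (8, 228), (8, 229),
     (8, 230), (0, 0), (9, 227), (9, 228), (9, 229), (0, 0), (10, 227), (10, 228), (0, 0),
     (11, 227), (0, 0), (1, 239), (12, 228), (2, 239), (11, 229), (12, 229), (3, 239), (10, 230),
     (11, 230), (12, 230), (4, 239), (9, 231), (10, 231), (11, 231), (12, 231), (5, 239), (0, 0),
     (0, 0), (0, 0), (0, 0), (0, 0), (6, 239), (8, 233), (9, 233), (10, 233), (11, 233), (12, 233),
     (7, 239), (0, 0), (0, 0), (0, 0), (0, 0), (8, 239), (0, 0), (0, 0), (0, 0), (9, 239), (0, 0),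
     (0, 0), (10, 239), (0, 0), (11, 239), (12, 239), (14, 233), (21, 230), (21, 231), (22, 231),
     (23, 231), (24, 231), (14, 239), (21, 233), (22, 233), (23, 233), (24, 233), (15, 239),
     (26, 233), (27, 233), (28, 233), (16, 239), (30, 233), (31, 233), (17, 239), (33, 233),
     (18, 239), (19, 239), (0, 0), (0, 0), (0, 0), (21, 239), (0, 0), (0, 0), (22, 239), (0, 0),
     (23, 239), (24, 239), (0, 0), (0, 0), (26, 239), (0, 0), (27, 239), (28, 239), (0, 0),
     (30, 239), (31, 239), (33, 239), (0, 0), (0, 0), (36, 239), (0, 0), (37, 239), (38, 239),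
     (0, 0), (40, 239), (41, 239), (43, 239), (0, 0), (46, 239), (47, 239), (49, 239), (52, 239),
     (0, 0), (0, 0), (0, 0), (0, 0), (0, 0), (0, 0), (0, 0), (0, 0), (78, 239), (79, 239),
     (81, 239), (84, 239), (88, 239), (0, 0), (99, 239), (0, 0), (0, 0), (0, 0), (0, 0), (0, 0),
     (140, 233)],
    [(1, 119), (0, 120), (0, 122), (0, 125), (5, 109), (4, 130), (0, 140), (4, 142), (0, 151),
     (0, 155), (4, 152), (4, 153), (4, 154), (4, 155), (0, 168), (0, 173), (0, 177), (4, 174),
     (4, 175), (4, 176), (4, 177), (0, 0), (0, 190), (0, 192), (0, 193), (1, 193), (0, 196),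
     (0, 198), (0, 199), (1, 199), (4, 194), (4, 195), (4, 196), (4, 197), (4, 198), (4, 199),
     (0, 206), (0, 208), (0, 209), (1, 209), (4, 204), (4, 205), (4, 206), (4, 207), (4, 208),
     (4, 209), (5, 204), (5, 205), (5, 206), (5, 207), (5, 208), (5, 209), (0, 0), (0, 0), (0, 0),
     (0, 0), (0, 220), (0, 221), (1, 221), (0, 222), (1, 222), (2, 222), (4, 219), (4, 220),
     (4, 221), (4, 222), (5, 219), (5, 220), (5, 221), (5, 222), (0, 0), (7, 219), (7, 220),
     (7, 221), (7, 222), (0, 0), (0, 0), (10, 222), (0, 227), (0, 228), (1, 228), (0, 229),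
     (1, 229), (2, 229), (4, 226), (4, 227), (4, 228), (4, 229), (5, 226), (5, 227), (5, 228),
     (5, 229), (0, 0), (0, 232), (1, 232), (2, 232), (3, 232), (4, 232), (5, 232), (7, 226),
     (7, 227), (7, 228), (7, 229), (0, 0), (0, 0), (0, 234), (1, 234), (2, 234), (3, 234),
     (4, 234), (0, 235), (1, 235), (2, 235), (3, 235), (10, 226), (10, 227), (10, 228), (11, 226),
     (11, 227), (12, 226), (13, 227), (12, 228), (13, 228), (11, 229), (12, 229), (13, 229),
     (0, 0), (0, 0), (0, 0), (0, 0), (5, 235), (0, 0), (0, 0), (0, 0), (0, 0), (6, 234), (6, 235),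
     (10, 232), (11, 232), (12, 232), (13, 232), (7, 234), (7, 235), (0, 0), (0, 0), (0, 0),
     (0, 0), (8, 235), (10, 234), (11, 234), (12, 234), (13, 234), (10, 235), (11, 235), (12, 235),
     (13, 235), (0, 0), (0, 0), (0, 0), (0, 0), (0, 0), (0, 0), (17, 229), (14, 234), (14, 235),
     (17, 232), (18, 232), (19, 232), (20, 232), (15, 235), (17, 234), (18, 234), (19, 234),
     (20, 234), (17, 235), (18, 235), (19, 235), (20, 235), (0, 0), (0, 0), (0, 0), (0, 0), (0, 0),
     (0, 0), (22, 235), (23, 235), (24, 235), (25, 235), (30, 234), (31, 234), (32, 234),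
     (33, 234), (34, 234), (35, 234), (30, 235), (31, 235), (32, 235), (33, 235), (34, 235),
     (35, 235), (0, 0), (0, 0), (0, 0), (0, 0), (40, 235), (41, 235), (42, 235), (43, 235),
     (44, 235), (45, 235), (0, 0), (0, 0), (0, 0), (0, 0), (0, 0), (0, 0), (0, 0), (0, 0), (0, 0),
     (62, 235), (63, 235), (64, 235), (65, 235), (0, 0), (0, 0), (0, 0), (84, 235), (85, 235),
     (86, 235), (87, 235), (0, 0), (0, 0), (97, 235), (0, 0), (109, 235), (130, 234), (0, 0),
     (0, 0), (0, 0), (0, 0)],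
    [(1, 119), (0, 120), (0, 122), (5, 108), (0, 129), (3, 131), (0, 140), (3, 143), (0, 151),
     (3, 152), (0, 158), (3, 156), (3, 157), (3, 158), (0, 168), (0, 173), (3, 174), (0, 180),
     (3, 178), (3, 179), (3, 180), (0, 187), (0, 0), (0, 192), (0, 193), (1, 193), (0, 196),
     (3, 194), (3, 195), (3, 196), (0, 201), (0, 202), (1, 202), (3, 200), (3, 201), (3, 202),
     (0, 206), (3, 204), (3, 205), (3, 206), (0, 211), (0, 212), (1, 212), (3, 210), (3, 211),
     (3, 212), (5, 204), (5, 205), (5, 206), (0, 0), (0, 0), (0, 0), (5, 210), (5, 211), (5, 212),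
     (0, 0), (0, 220), (0, 221), (1, 221), (3, 219), (3, 220), (3, 221), (0, 223), (1, 223),
     (2, 223), (3, 223), (5, 219), (5, 220), (5, 221), (0, 0), (5, 223), (7, 219), (7, 220),
     (7, 221), (0, 0), (7, 223), (0, 0), (9, 223), (0, 227), (0, 228), (1, 228), (3, 226),
     (3, 227), (3, 228), (0, 230), (1, 230), (2, 230), (3, 230), (5, 226), (5, 227), (5, 228),
     (0, 0), (5, 230), (0, 232), (1, 232), (2, 232), (3, 232), (4, 232), (5, 232), (7, 226),
     (7, 227), (7, 228), (0, 0), (7, 230), (0, 0), (0, 234), (1, 234), (2, 234), (3, 234),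
     (4, 234), (9, 226), (9, 227), (9, 228), (0, 0), (0, 236), (1, 236), (2, 236), (11, 226),
     (11, 227), (12, 226), (13, 227), (12, 228), (13, 228), (0, 0), (0, 0), (0, 0), (4, 236),
     (11, 230), (12, 230), (13, 230), (0, 0), (5, 236), (0, 0), (0, 0), (0, 0), (6, 234), (9, 232),
     (6, 236), (11, 232), (12, 232), (13, 232), (7, 234), (0, 0), (7, 236), (0, 0), (0, 0), (0, 0),
     (9, 234), (8, 236), (11, 234), (12, 234), (13, 234), (9, 236), (0, 0), (0, 0), (0, 0),
     (11, 236), (12, 236), (13, 236), (0, 0), (0, 0), (0, 0), (16, 230), (14, 234), (16, 232),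
     (14, 236), (18, 232), (19, 232), (20, 232), (16, 234), (15, 236), (18, 234), (19, 234),
     (20, 234), (16, 236), (0, 0), (0, 0), (0, 0), (18, 236), (19, 236), (20, 236), (0, 0), (0, 0),
     (0, 0), (21, 236), (27, 234), (28, 234), (29, 234), (23, 236), (24, 236), (25, 236),
     (33, 234), (34, 234), (35, 234), (27, 236), (28, 236), (29, 236), (0, 0), (0, 0), (0, 0),
     (33, 236), (34, 236), (35, 236), (0, 0), (37, 236), (38, 236), (39, 236), (0, 0), (0, 0),
     (0, 0), (43, 236), (44, 236), (45, 236), (0, 0), (0, 0), (0, 0), (0, 0), (0, 0), (0, 0),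
     (59, 236), (60, 236), (61, 236), (0, 0), (65, 236), (0, 0), (0, 0), (81, 236), (82, 236),
     (83, 236), (0, 0), (87, 236), (0, 0), (96, 236), (0, 0), (108, 236), (0, 0), (131, 234),
     (0, 0), (0, 0), (0, 0)],
    [(1, 119), (0, 120), (5, 107), (0, 125), (0, 129), (2, 132), (0, 140), (2, 144), (0, 151),
     (2, 153), (2, 156), (0, 160), (2, 159), (2, 160), (0, 168), (0, 173), (2, 175), (2, 178),
     (0, 182), (2, 181), (2, 182), (0, 187), (0, 190), (0, 0), (0, 193), (1, 193), (2, 194),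
     (0, 198), (2, 197), (2, 198), (0, 201), (2, 200), (2, 201), (0, 203), (1, 203), (2, 203),
     (2, 204), (0, 208), (2, 207), (2, 208), (0, 211), (2, 210), (2, 211), (0, 213), (1, 213),
     (2, 213), (5, 204), (0, 0), (0, 0), (5, 207), (5, 208), (0, 0), (5, 210), (5, 211), (0, 0),
     (5, 213), (0, 220), (2, 219), (2, 220), (0, 222), (1, 222), (2, 222), (0, 223), (1, 223),
     (2, 223), (3, 223), (5, 219), (5, 220), (0, 0), (5, 222), (5, 223), (7, 219), (7, 220),
     (0, 0), (7, 222), (7, 223), (0, 0), (9, 223), (0, 227), (2, 226), (2, 227), (0, 229),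
     (1, 229), (2, 229), (0, 230), (1, 230), (2, 230), (3, 230), (5, 226), (5, 227), (0, 0),
     (5, 229), (5, 230), (0, 232), (1, 232), (2, 232), (3, 232), (4, 232), (5, 232), (7, 226),
     (7, 227), (0, 0), (7, 229), (7, 230), (0, 0), (0, 234), (1, 234), (2, 234), (3, 234),
     (4, 234), (9, 226), (9, 227), (0, 0), (9, 229), (10, 226), (10, 227), (0, 0), (0, 237),
     (1, 237), (12, 226), (13, 227), (0, 0), (0, 0), (3, 237), (12, 229), (13, 229), (10, 230),
     (4, 237), (12, 230), (13, 230), (0, 0), (0, 0), (5, 237), (0, 0), (0, 0), (6, 234), (9, 232),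
     (10, 232), (6, 237), (12, 232), (13, 232), (7, 234), (0, 0), (0, 0), (7, 237), (0, 0), (0, 0),
     (9, 234), (10, 234), (8, 237), (12, 234), (13, 234), (0, 0), (9, 237), (0, 0), (0, 0),
     (10, 237), (0, 0), (0, 0), (12, 237), (13, 237), (0, 0), (16, 230), (14, 234), (16, 232),
     (17, 232), (14, 237), (19, 232), (20, 232), (16, 234), (17, 234), (15, 237), (19, 234),
     (20, 234), (0, 0), (16, 237), (0, 0), (0, 0), (17, 237), (0, 0), (0, 0), (19, 237), (20, 237),
     (0, 0), (26, 234), (21, 237), (28, 234), (29, 234), (22, 237), (31, 234), (32, 234),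
     (24, 237), (25, 237), (35, 234), (26, 237), (0, 0), (0, 0), (28, 237), (29, 237), (0, 0),
     (31, 237), (32, 237), (0, 0), (35, 237), (36, 237), (0, 0), (0, 0), (38, 237), (39, 237),
     (0, 0), (41, 237), (42, 237), (0, 0), (45, 237), (0, 0), (0, 0), (0, 0), (0, 0), (0, 0),
     (57, 237), (58, 237), (0, 0), (61, 237), (64, 237), (0, 0), (0, 0), (79, 237), (80, 237),
     (0, 0), (83, 237), (86, 237), (0, 0), (95, 237), (0, 0), (107, 237), (0, 0), (0, 0),
     (132, 234), (0, 0), (0, 0)],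
    [(1, 119), (5, 106), (0, 122), (0, 125), (0, 129), (1, 133), (0, 140), (1, 145), (0, 151),
     (1, 154), (1, 157), (1, 159), (0, 161), (1, 161), (0, 168), (0, 173), (1, 176), (1, 179),
     (1, 181), (0, 183), (1, 183), (0, 187), (0, 190), (0, 192), (0, 0), (1, 193), (1, 195),
     (1, 197), (0, 199), (1, 199), (1, 200), (0, 202), (1, 202), (0, 203), (1, 203), (2, 203),
     (1, 205), (1, 207), (0, 209), (1, 209), (1, 210), (0, 212), (1, 212), (0, 213), (1, 213),
     (2, 213), (0, 0), (5, 205), (0, 0), (5, 207), (0, 0), (5, 209), (5, 210), (0, 0), (5, 212),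
     (5, 213), (1, 219), (0, 221), (1, 221), (0, 222), (1, 222), (2, 222), (0, 223), (1, 223),
     (2, 223), (3, 223), (5, 219), (0, 0), (5, 221), (5, 222), (5, 223), (7, 219), (0, 0),
     (7, 221), (7, 222), (7, 223), (0, 0), (9, 223), (1, 226), (0, 228), (1, 228), (0, 229),
     (1, 229), (2, 229), (0, 230), (1, 230), (2, 230), (3, 230), (5, 226), (0, 0), (5, 228),
     (5, 229), (5, 230), (0, 232), (1, 232), (2, 232), (3, 232), (4, 232), (5, 232), (7, 226),
     (0, 0), (7, 228), (7, 229), (7, 230), (0, 0), (0, 234), (1, 234), (2, 234), (3, 234),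
     (4, 234), (9, 226), (0, 0), (9, 228), (9, 229), (10, 226), (0, 0), (10, 228), (11, 226),
     (0, 0), (0, 238), (0, 0), (2, 238), (13, 228), (11, 229), (3, 238), (13, 229), (10, 230),
     (11, 230), (4, 238), (13, 230), (0, 0), (0, 0), (0, 0), (5, 238), (0, 0), (6, 234), (9, 232),
     (10, 232), (11, 232), (6, 238), (13, 232), (7, 234), (0, 0), (0, 0), (0, 0), (7, 238), (0, 0),
     (9, 234), (10, 234), (11, 234), (8, 238), (13, 234), (0, 0), (0, 0), (9, 238), (0, 0), (0, 0),
     (10, 238), (0, 0), (11, 238), (0, 0), (13, 238), (16, 230), (14, 234), (16, 232), (17, 232),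
     (18, 232), (14, 238), (20, 232), (16, 234), (17, 234), (18, 234), (15, 238), (20, 234),
     (0, 0), (0, 0), (16, 238), (0, 0), (0, 0), (17, 238), (0, 0), (18, 238), (0, 0), (20, 238),
     (26, 234), (27, 234), (21, 238), (29, 234), (30, 234), (22, 238), (32, 234), (23, 238),
     (34, 234), (25, 238), (0, 0), (26, 238), (0, 0), (27, 238), (0, 0), (29, 238), (30, 238),
     (0, 0), (32, 238), (34, 238), (0, 0), (36, 238), (0, 0), (37, 238), (0, 0), (39, 238),
     (40, 238), (0, 0), (42, 238), (44, 238), (0, 0), (0, 0), (0, 0), (0, 0), (0, 0), (56, 238),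
     (0, 0), (58, 238), (60, 238), (63, 238), (0, 0), (0, 0), (78, 238), (0, 0), (80, 238),
     (82, 238), (85, 238), (0, 0), (94, 238), (0, 0), (106, 238), (0, 0), (0, 0), (0, 0),
     (133, 234), (0, 0)],
    [(5, 105), (0, 120), (0, 122), (0, 125), (0, 129), (0, 134), (0, 140), (0, 146), (0, 151),
     (0, 155), (0, 158), (0, 160), (0, 161), (1, 161), (0, 168), (0, 173), (0, 177), (0, 180),
     (0, 182), (0, 183), (1, 183), (0, 187), (0, 190), (0, 192), (0, 193), (0, 0), (0, 196),
     (0, 198), (0, 199), (1, 199), (0, 201), (0, 202), (1, 202), (0, 203), (1, 203), (2, 203),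
     (0, 206), (0, 208), (0, 209), (1, 209), (0, 211), (0, 212), (1, 212), (0, 213), (1, 213),
     (2, 213), (0, 0), (0, 0), (5, 206), (0, 0), (5, 208), (5, 209), (0, 0), (5, 211), (5, 212),
     (5, 213), (0, 220), (0, 221), (1, 221), (0, 222), (1, 222), (2, 222), (0, 223), (1, 223),
     (2, 223), (3, 223), (0, 0), (5, 220), (5, 221), (5, 222), (5, 223), (0, 0), (7, 220),
     (7, 221), (7, 222), (7, 223), (0, 0), (9, 223), (0, 227), (0, 228), (1, 228), (0, 229),
     (1, 229), (2, 229), (0, 230), (1, 230), (2, 230), (3, 230), (0, 0), (5, 227), (5, 228),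
     (5, 229), (5, 230), (0, 232), (1, 232), (2, 232), (3, 232), (4, 232), (5, 232), (0, 0),
     (7, 227), (7, 228), (7, 229), (7, 230), (0, 0), (0, 234), (1, 234), (2, 234), (3, 234),
     (4, 234), (0, 0), (9, 227), (9, 228), (9, 229), (0, 0), (10, 227), (10, 228), (0, 0),
     (11, 227), (0, 0), (1, 239), (12, 228), (2, 239), (11, 229), (12, 229), (3, 239), (10, 230),
     (11, 230), (12, 230), (4, 239), (0, 0), (0, 0), (0, 0), (0, 0), (5, 239), (6, 234), (9, 232),
     (10, 232), (11, 232), (12, 232), (6, 239), (7, 234), (0, 0), (0, 0), (0, 0), (0, 0), (7, 239),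
     (9, 234), (10, 234), (11, 234), (12, 234), (8, 239), (0, 0), (0, 0), (0, 0), (9, 239), (0, 0),
     (0, 0), (10, 239), (0, 0), (11, 239), (12, 239), (16, 230), (14, 234), (16, 232), (17, 232),
     (18, 232), (19, 232), (14, 239), (16, 234), (17, 234), (18, 234), (19, 234), (15, 239),
     (0, 0), (0, 0), (0, 0), (16, 239), (0, 0), (0, 0), (17, 239), (0, 0), (18, 239), (19, 239),
     (26, 234), (27, 234), (28, 234), (21, 239), (30, 234), (31, 234), (22, 239), (33, 234),
     (23, 239), (24, 239), (0, 0), (0, 0), (26, 239), (0, 0), (27, 239), (28, 239), (0, 0),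
     (30, 239), (31, 239), (33, 239), (0, 0), (0, 0), (36, 239), (0, 0), (37, 239), (38, 239),
     (0, 0), (40, 239), (41, 239), (43, 239), (0, 0), (0, 0), (0, 0), (0, 0), (0, 0), (0, 0),
     (56, 239), (57, 239), (59, 239), (62, 239), (0, 0), (0, 0), (0, 0), (78, 239), (79, 239),
     (81, 239), (84, 239), (0, 0), (93, 239), (0, 0), (105, 239), (0, 0), (0, 0), (0, 0), (0, 0),
     (134, 234)],
    [(1, 119), (0, 120), (0, 122), (4, 113), (3, 126), (0, 134), (0, 140), (3, 143), (3, 148),
     (0, 155), (0, 158), (3, 156), (3, 157), (3, 158), (0, 168), (3, 170), (0, 177), (0, 180),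
     (3, 178), (3, 179), (3, 180), (0, 187), (0, 190), (3, 188), (3, 189), (3, 190), (0, 0),
     (0, 198), (0, 199), (1, 199), (0, 201), (0, 202), (1, 202), (3, 200), (3, 201), (3, 202),
     (0, 206), (3, 204), (3, 205), (3, 206), (4, 204), (4, 205), (4, 206), (0, 0), (0, 0), (0, 0),
     (0, 215), (0, 216), (1, 216), (3, 214), (3, 215), (3, 216), (4, 214), (4, 215), (4, 216),
     (0, 0), (0, 220), (0, 221), (1, 221), (3, 219), (3, 220), (3, 221), (4, 219), (4, 220),
     (4, 221), (0, 0), (0, 224), (1, 224), (2, 224), (3, 224), (4, 224), (7, 219), (7, 220),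
     (7, 221), (0, 0), (0, 0), (7, 224), (8, 224), (0, 227), (0, 228), (1, 228), (3, 226),
     (3, 227), (3, 228), (4, 226), (4, 227), (4, 228), (0, 0), (0, 231), (1, 231), (2, 231),
     (3, 231), (4, 231), (0, 232), (1, 232), (2, 232), (3, 232), (4, 232), (5, 232), (7, 226),
     (7, 227), (7, 228), (0, 0), (0, 0), (7, 231), (8, 226), (8, 227), (8, 228), (0, 0), (0, 0),
     (0, 235), (1, 235), (2, 235), (3, 235), (0, 236), (1, 236), (2, 236), (11, 226), (11, 227),
     (12, 226), (13, 227), (12, 228), (13, 228), (0, 0), (0, 0), (0, 0), (4, 236), (0, 0), (0, 0),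
     (0, 0), (5, 235), (5, 236), (11, 231), (12, 231), (13, 231), (8, 232), (6, 235), (6, 236),
     (11, 232), (12, 232), (13, 232), (0, 0), (7, 235), (7, 236), (0, 0), (0, 0), (0, 0), (8, 235),
     (8, 236), (0, 0), (0, 0), (0, 0), (9, 236), (11, 235), (12, 235), (13, 235), (11, 236),
     (12, 236), (13, 236), (0, 0), (0, 0), (0, 0), (15, 231), (15, 232), (14, 235), (14, 236),
     (18, 232), (19, 232), (20, 232), (15, 235), (15, 236), (0, 0), (0, 0), (0, 0), (16, 236),
     (18, 235), (19, 235), (20, 235), (18, 236), (19, 236), (20, 236), (0, 0), (0, 0), (0, 0),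
     (21, 236), (23, 235), (24, 235), (25, 235), (23, 236), (24, 236), (25, 236), (0, 0), (0, 0),
     (0, 0), (27, 236), (28, 236), (29, 236), (33, 235), (34, 235), (35, 235), (33, 236),
     (34, 236), (35, 236), (0, 0), (37, 236), (38, 236), (39, 236), (0, 0), (0, 0), (0, 0), (0, 0),
     (0, 0), (0, 0), (0, 0), (49, 236), (50, 236), (51, 236), (0, 0), (0, 0), (59, 236), (60, 236),
     (61, 236), (0, 0), (0, 0), (69, 236), (0, 0), (81, 236), (82, 236), (83, 236), (0, 0), (0, 0),
     (91, 236), (96, 236), (0, 0), (0, 0), (113, 236), (126, 235), (0, 0), (0, 0), (0, 0)],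
    [(1, 119), (0, 120), (4, 112), (0, 125), (2, 127), (0, 134), (0, 140), (2, 144), (2, 149),
     (0, 155), (2, 156), (0, 160), (2, 159), (2, 160), (0, 168), (2, 171), (0, 177), (2, 178),
     (0, 182), (2, 181), (2, 182), (0, 187), (2, 188), (0, 192), (2, 191), (2, 192), (0, 196),
     (0, 0), (0, 199), (1, 199), (0, 201), (2, 200), (2, 201), (0, 203), (1, 203), (2, 203),
     (2, 204), (0, 208), (2, 207), (2, 208), (4, 204), (0, 0), (0, 0), (4, 207), (4, 208), (0, 0),
     (0, 215), (2, 214), (2, 215), (0, 217), (1, 217), (2, 217), (4, 214), (4, 215), (0, 0),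
     (4, 217), (0, 220), (2, 219), (2, 220), (0, 222), (1, 222), (2, 222), (4, 219), (4, 220),
     (0, 0), (4, 222), (0, 224), (1, 224), (2, 224), (3, 224), (4, 224), (7, 219), (7, 220),
     (0, 0), (7, 222), (0, 0), (7, 224), (8, 224), (0, 227), (2, 226), (2, 227), (0, 229),
     (1, 229), (2, 229), (4, 226), (4, 227), (0, 0), (4, 229), (0, 231), (1, 231), (2, 231),
     (3, 231), (4, 231), (0, 232), (1, 232), (2, 232), (3, 232), (4, 232), (5, 232), (7, 226),
     (7, 227), (0, 0), (7, 229), (0, 0), (7, 231), (8, 226), (8, 227), (0, 0), (8, 229), (0, 0),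
     (0, 235), (1, 235), (2, 235), (3, 235), (10, 226), (10, 227), (0, 0), (0, 237), (1, 237),
     (12, 226), (13, 227), (0, 0), (0, 0), (3, 237), (12, 229), (13, 229), (0, 0), (4, 237),
     (0, 0), (0, 0), (5, 235), (10, 231), (5, 237), (12, 231), (13, 231), (8, 232), (6, 235),
     (10, 232), (6, 237), (12, 232), (13, 232), (0, 0), (7, 235), (0, 0), (7, 237), (0, 0), (0, 0),
     (8, 235), (0, 0), (8, 237), (0, 0), (0, 0), (10, 235), (9, 237), (12, 235), (13, 235),
     (10, 237), (0, 0), (0, 0), (12, 237), (13, 237), (0, 0), (15, 231), (15, 232), (14, 235),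
     (17, 232), (14, 237), (19, 232), (20, 232), (15, 235), (0, 0), (15, 237), (0, 0), (0, 0),
     (17, 235), (16, 237), (19, 235), (20, 235), (17, 237), (0, 0), (0, 0), (19, 237), (20, 237),
     (0, 0), (22, 235), (21, 237), (24, 235), (25, 235), (22, 237), (0, 0), (0, 0), (24, 237),
     (25, 237), (0, 0), (26, 237), (31, 235), (32, 235), (28, 237), (29, 237), (35, 235),
     (31, 237), (32, 237), (0, 0), (35, 237), (36, 237), (0, 0), (0, 0), (38, 237), (39, 237),
     (0, 0), (0, 0), (0, 0), (0, 0), (0, 0), (47, 237), (48, 237), (0, 0), (51, 237), (0, 0),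
     (57, 237), (58, 237), (0, 0), (61, 237), (0, 0), (68, 237), (0, 0), (79, 237), (80, 237),
     (0, 0), (83, 237), (0, 0), (90, 237), (95, 237), (0, 0), (0, 0), (112, 237), (0, 0),
     (127, 235), (0, 0), (0, 0)],
    [(1, 119), (4, 111), (0, 122), (0, 125), (1, 128), (0, 134), (0, 140), (1, 145), (1, 150),
     (0, 155), (1, 157), (1, 159), (0, 161), (1, 161), (0, 168), (1, 172), (0, 177), (1, 179),
     (1, 181), (0, 183), (1, 183), (0, 187), (1, 189), (1, 191), (0, 193), (1, 193), (0, 196),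
     (0, 198), (0, 0), (1, 199), (1, 200), (0, 202), (1, 202), (0, 203), (1, 203), (2, 203),
     (1, 205), (1, 207), (0, 209), (1, 209), (0, 0), (4, 205), (0, 0), (4, 207), (0, 0), (4, 209),
     (1, 214), (0, 216), (1, 216), (0, 217), (1, 217), (2, 217), (4, 214), (0, 0), (4, 216),
     (4, 217), (1, 219), (0, 221), (1, 221), (0, 222), (1, 222), (2, 222), (4, 219), (0, 0),
     (4, 221), (4, 222), (0, 224), (1, 224), (2, 224), (3, 224), (4, 224), (7, 219), (0, 0),
     (7, 221), (7, 222), (0, 0), (7, 224), (8, 224), (1, 226), (0, 228), (1, 228), (0, 229),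
     (1, 229), (2, 229), (4, 226), (0, 0), (4, 228), (4, 229), (0, 231), (1, 231), (2, 231),
     (3, 231), (4, 231), (0, 232), (1, 232), (2, 232), (3, 232), (4, 232), (5, 232), (7, 226),
     (0, 0), (7, 228), (7, 229), (0, 0), (7, 231), (8, 226), (0, 0), (8, 228), (8, 229), (0, 0),
     (0, 235), (1, 235), (2, 235), (3, 235), (10, 226), (0, 0), (10, 228), (11, 226), (0, 0),
     (0, 238), (0, 0), (2, 238), (13, 228), (11, 229), (3, 238), (13, 229), (0, 0), (0, 0),
     (4, 238), (0, 0), (5, 235), (10, 231), (11, 231), (5, 238), (13, 231), (8, 232), (6, 235),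
     (10, 232), (11, 232), (6, 238), (13, 232), (0, 0), (7, 235), (0, 0), (0, 0), (7, 238), (0, 0),
     (8, 235), (0, 0), (0, 0), (8, 238), (0, 0), (10, 235), (11, 235), (9, 238), (13, 235), (0, 0),
     (10, 238), (0, 0), (11, 238), (0, 0), (13, 238), (15, 231), (15, 232), (14, 235), (17, 232),
     (18, 232), (14, 238), (20, 232), (15, 235), (0, 0), (0, 0), (15, 238), (0, 0), (17, 235),
     (18, 235), (16, 238), (20, 235), (0, 0), (17, 238), (0, 0), (18, 238), (0, 0), (20, 238),
     (22, 235), (23, 235), (21, 238), (25, 235), (0, 0), (22, 238), (0, 0), (23, 238), (0, 0),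
     (25, 238), (30, 235), (26, 238), (32, 235), (27, 238), (34, 235), (29, 238), (30, 238),
     (0, 0), (32, 238), (34, 238), (0, 0), (36, 238), (0, 0), (37, 238), (0, 0), (39, 238), (0, 0),
     (0, 0), (0, 0), (0, 0), (46, 238), (0, 0), (48, 238), (50, 238), (0, 0), (56, 238), (0, 0),
     (58, 238), (60, 238), (0, 0), (67, 238), (0, 0), (78, 238), (0, 0), (80, 238), (82, 238),
     (0, 0), (89, 238), (94, 238), (0, 0), (0, 0), (111, 238), (0, 0), (0, 0), (128, 235), (0, 0)],
    [(4, 110), (0, 120), (0, 122), (0, 125), (0, 129), (0, 134), (0, 140), (0, 146), (0, 151),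
     (0, 155), (0, 158), (0, 160), (0, 161), (1, 161), (0, 168), (0, 173), (0, 177), (0, 180),
     (0, 182), (0, 183), (1, 183), (0, 187), (0, 190), (0, 192), (0, 193), (1, 193), (0, 196),
     (0, 198), (0, 199), (0, 0), (0, 201), (0, 202), (1, 202), (0, 203), (1, 203), (2, 203),
     (0, 206), (0, 208), (0, 209), (1, 209), (0, 0), (0, 0), (4, 206), (0, 0), (4, 208), (4, 209),
     (0, 215), (0, 216), (1, 216), (0, 217), (1, 217), (2, 217), (0, 0), (4, 215), (4, 216),
     (4, 217), (0, 220), (0, 221), (1, 221), (0, 222), (1, 222), (2, 222), (0, 0), (4, 220),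
     (4, 221), (4, 222), (0, 224), (1, 224), (2, 224), (3, 224), (4, 224), (0, 0), (7, 220),
     (7, 221), (7, 222), (0, 0), (7, 224), (8, 224), (0, 227), (0, 228), (1, 228), (0, 229),
     (1, 229), (2, 229), (0, 0), (4, 227), (4, 228), (4, 229), (0, 231), (1, 231), (2, 231),
     (3, 231), (4, 231), (0, 232), (1, 232), (2, 232), (3, 232), (4, 232), (5, 232), (0, 0),
     (7, 227), (7, 228), (7, 229), (0, 0), (7, 231), (0, 0), (8, 227), (8, 228), (8, 229), (0, 0),
     (0, 235), (1, 235), (2, 235), (3, 235), (0, 0), (10, 227), (10, 228), (0, 0), (11, 227),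
     (0, 0), (1, 239), (12, 228), (2, 239), (11, 229), (12, 229), (3, 239), (0, 0), (0, 0), (0, 0),
     (4, 239), (5, 235), (10, 231), (11, 231), (12, 231), (5, 239), (8, 232), (6, 235), (10, 232),
     (11, 232), (12, 232), (6, 239), (0, 0), (7, 235), (0, 0), (0, 0), (0, 0), (7, 239), (8, 235),
     (0, 0), (0, 0), (0, 0), (8, 239), (10, 235), (11, 235), (12, 235), (9, 239), (0, 0), (0, 0),
     (10, 239), (0, 0), (11, 239), (12, 239), (15, 231), (15, 232), (14, 235), (17, 232),
     (18, 232), (19, 232), (14, 239), (15, 235), (0, 0), (0, 0), (0, 0), (15, 239), (17, 235),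
     (18, 235), (19, 235), (16, 239), (0, 0), (0, 0), (17, 239), (0, 0), (18, 239), (19, 239),
     (22, 235), (23, 235), (24, 235), (21, 239), (0, 0), (0, 0), (22, 239), (0, 0), (23, 239),
     (24, 239), (30, 235), (31, 235), (26, 239), (33, 235), (27, 239), (28, 239), (0, 0),
     (30, 239), (31, 239), (33, 239), (0, 0), (0, 0), (36, 239), (0, 0), (37, 239), (38, 239),
     (0, 0), (0, 0), (0, 0), (0, 0), (0, 0), (46, 239), (47, 239), (49, 239), (0, 0), (0, 0),
     (56, 239), (57, 239), (59, 239), (0, 0), (66, 239), (0, 0), (0, 0), (78, 239), (79, 239),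
     (81, 239), (0, 0), (88, 239), (93, 239), (0, 0), (0, 0), (110, 239), (0, 0), (0, 0), (0, 0),
     (129, 235)]
  ]

set_option maxRecDepth 1000000 in
theorem rowsD_E8_20 : rowsDB chevE8 certE8_20 20 = true := by decide +kernel

set_option maxHeartbeats 0 in
/-- certificates for the rows `30..39` -/
def certE8_30 : List (List (ℕ × ℕ)) :=
  [
    [(1, 119), (0, 120), (3, 116), (2, 123), (0, 129), (0, 134), (0, 140), (2, 144), (2, 149),
     (2, 153), (0, 158), (0, 160), (2, 159), (2, 160), (0, 168), (2, 171), (2, 175), (0, 180),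
     (0, 182), (2, 181), (2, 182), (2, 185), (0, 190), (0, 192), (2, 191), (2, 192), (0, 196),
     (0, 198), (2, 197), (2, 198), (0, 0), (0, 202), (1, 202), (0, 203), (1, 203), (2, 203),
     (2, 204), (3, 204), (0, 0), (0, 0), (0, 211), (2, 210), (2, 211), (3, 210), (3, 211), (0, 0),
     (0, 215), (2, 214), (2, 215), (3, 214), (3, 215), (0, 0), (0, 218), (1, 218), (2, 218),
     (3, 218), (0, 220), (2, 219), (2, 220), (3, 219), (3, 220), (0, 0), (0, 223), (1, 223),
     (2, 223), (3, 223), (0, 224), (1, 224), (2, 224), (3, 224), (4, 224), (7, 219), (7, 220),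
     (0, 0), (0, 0), (7, 223), (7, 224), (8, 224), (0, 227), (2, 226), (2, 227), (3, 226),
     (3, 227), (0, 0), (0, 230), (1, 230), (2, 230), (3, 230), (0, 231), (1, 231), (2, 231),
     (3, 231), (4, 231), (0, 232), (1, 232), (2, 232), (3, 232), (4, 232), (5, 232), (7, 226),
     (7, 227), (0, 0), (0, 0), (7, 230), (7, 231), (8, 226), (8, 227), (0, 0), (0, 0), (8, 230),
     (9, 226), (9, 227), (0, 0), (0, 0), (0, 236), (1, 236), (2, 236), (0, 237), (1, 237),
     (12, 226), (13, 227), (0, 0), (0, 0), (3, 237), (0, 0), (0, 0), (4, 236), (4, 237), (12, 230),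
     (13, 230), (9, 231), (5, 236), (5, 237), (12, 231), (13, 231), (8, 232), (9, 232), (6, 236),
     (6, 237), (12, 232), (13, 232), (0, 0), (0, 0), (7, 236), (7, 237), (0, 0), (0, 0), (0, 0),
     (8, 236), (8, 237), (0, 0), (0, 0), (9, 236), (9, 237), (0, 0), (0, 0), (10, 237), (12, 236),
     (13, 236), (12, 237), (13, 237), (0, 0), (15, 231), (15, 232), (16, 232), (14, 236),
     (14, 237), (19, 232), (20, 232), (0, 0), (15, 236), (15, 237), (0, 0), (0, 0), (16, 236),
     (16, 237), (0, 0), (0, 0), (17, 237), (19, 236), (20, 236), (19, 237), (20, 237), (0, 0),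
     (21, 236), (21, 237), (0, 0), (0, 0), (22, 237), (24, 236), (25, 236), (24, 237), (25, 237),
     (0, 0), (26, 237), (28, 236), (29, 236), (28, 237), (29, 237), (0, 0), (31, 237), (32, 237),
     (35, 236), (35, 237), (36, 237), (0, 0), (0, 0), (0, 0), (0, 0), (0, 0), (41, 237), (42, 237),
     (0, 0), (0, 0), (47, 237), (48, 237), (0, 0), (0, 0), (54, 237), (57, 237), (58, 237), (0, 0),
     (0, 0), (64, 237), (68, 237), (0, 0), (79, 237), (80, 237), (0, 0), (0, 0), (86, 237),
     (90, 237), (95, 237), (0, 0), (0, 0), (0, 0), (116, 237), (123, 236), (0, 0), (0, 0)],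
    [(1, 119), (3, 115), (0, 122), (1, 124), (0, 129), (0, 134), (0, 140), (1, 145), (1, 150),
     (1, 154), (0, 158), (1, 159), (0, 161), (1, 161), (0, 168), (1, 172), (1, 176), (0, 180),
     (1, 181), (0, 183), (1, 183), (1, 186), (0, 190), (1, 191), (0, 193), (1, 193), (0, 196),
     (1, 197), (0, 199), (1, 199), (0, 201), (0, 0), (1, 202), (0, 203), (1, 203), (2, 203),
     (1, 205), (0, 0), (3, 205), (0, 0), (1, 210), (0, 212), (1, 212), (3, 210), (0, 0), (3, 212),
     (1, 214), (0, 216), (1, 216), (3, 214), (0, 0), (3, 216), (0, 218), (1, 218), (2, 218),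
     (3, 218), (1, 219), (0, 221), (1, 221), (3, 219), (0, 0), (3, 221), (0, 223), (1, 223),
     (2, 223), (3, 223), (0, 224), (1, 224), (2, 224), (3, 224), (4, 224), (7, 219), (0, 0),
     (7, 221), (0, 0), (7, 223), (7, 224), (8, 224), (1, 226), (0, 228), (1, 228), (3, 226),
     (0, 0), (3, 228), (0, 230), (1, 230), (2, 230), (3, 230), (0, 231), (1, 231), (2, 231),
     (3, 231), (4, 231), (0, 232), (1, 232), (2, 232), (3, 232), (4, 232), (5, 232), (7, 226),
     (0, 0), (7, 228), (0, 0), (7, 230), (7, 231), (8, 226), (0, 0), (8, 228), (0, 0), (8, 230),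
     (9, 226), (0, 0), (9, 228), (0, 0), (0, 236), (1, 236), (2, 236), (11, 226), (0, 0), (0, 238),
     (0, 0), (2, 238), (13, 228), (0, 0), (3, 238), (0, 0), (4, 236), (11, 230), (4, 238),
     (13, 230), (9, 231), (5, 236), (11, 231), (5, 238), (13, 231), (8, 232), (9, 232), (6, 236),
     (11, 232), (6, 238), (13, 232), (0, 0), (0, 0), (7, 236), (0, 0), (7, 238), (0, 0), (0, 0),
     (8, 236), (0, 0), (8, 238), (0, 0), (9, 236), (0, 0), (9, 238), (0, 0), (11, 236), (10, 238),
     (13, 236), (11, 238), (0, 0), (13, 238), (15, 231), (15, 232), (16, 232), (14, 236),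
     (18, 232), (14, 238), (20, 232), (0, 0), (15, 236), (0, 0), (15, 238), (0, 0), (16, 236),
     (0, 0), (16, 238), (0, 0), (18, 236), (17, 238), (20, 236), (18, 238), (0, 0), (20, 238),
     (21, 236), (0, 0), (21, 238), (0, 0), (23, 236), (22, 238), (25, 236), (23, 238), (0, 0),
     (25, 238), (27, 236), (26, 238), (29, 236), (27, 238), (0, 0), (29, 238), (30, 238),
     (34, 236), (32, 238), (34, 238), (0, 0), (36, 238), (0, 0), (0, 0), (0, 0), (0, 0), (40, 238),
     (0, 0), (42, 238), (0, 0), (46, 238), (0, 0), (48, 238), (0, 0), (53, 238), (56, 238), (0, 0),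
     (58, 238), (0, 0), (63, 238), (67, 238), (0, 0), (78, 238), (0, 0), (80, 238), (0, 0),
     (85, 238), (89, 238), (94, 238), (0, 0), (0, 0), (0, 0), (115, 238), (0, 0), (124, 236),
     (0, 0)],
    [(3, 114), (0, 120), (0, 122), (0, 125), (0, 129), (0, 134), (0, 140), (0, 146), (0, 151),
     (0, 155), (0, 158), (0, 160), (0, 161), (1, 161), (0, 168), (0, 173), (0, 177), (0, 180),
     (0, 182), (0, 183), (1, 183), (0, 187), (0, 190), (0, 192), (0, 193), (1, 193), (0, 196),
     (0, 198), (0, 199), (1, 199), (0, 201), (0, 202), (0, 0), (0, 203), (1, 203), (2, 203),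
     (0, 206), (0, 0), (0, 0), (3, 206), (0, 211), (0, 212), (1, 212), (0, 0), (3, 211), (3, 212),
     (0, 215), (0, 216), (1, 216), (0, 0), (3, 215), (3, 216), (0, 218), (1, 218), (2, 218),
     (3, 218), (0, 220), (0, 221), (1, 221), (0, 0), (3, 220), (3, 221), (0, 223), (1, 223),
     (2, 223), (3, 223), (0, 224), (1, 224), (2, 224), (3, 224), (4, 224), (0, 0), (7, 220),
     (7, 221), (0, 0), (7, 223), (7, 224), (8, 224), (0, 227), (0, 228), (1, 228), (0, 0),
     (3, 227), (3, 228), (0, 230), (1, 230), (2, 230), (3, 230), (0, 231), (1, 231), (2, 231),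
     (3, 231), (4, 231), (0, 232), (1, 232), (2, 232), (3, 232), (4, 232), (5, 232), (0, 0),
     (7, 227), (7, 228), (0, 0), (7, 230), (7, 231), (0, 0), (8, 227), (8, 228), (0, 0), (8, 230),
     (0, 0), (9, 227), (9, 228), (0, 0), (0, 236), (1, 236), (2, 236), (0, 0), (11, 227), (0, 0),
     (1, 239), (12, 228), (2, 239), (0, 0), (0, 0), (3, 239), (4, 236), (11, 230), (12, 230),
     (4, 239), (9, 231), (5, 236), (11, 231), (12, 231), (5, 239), (8, 232), (9, 232), (6, 236),
     (11, 232), (12, 232), (6, 239), (0, 0), (0, 0), (7, 236), (0, 0), (0, 0), (7, 239), (0, 0),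
     (8, 236), (0, 0), (0, 0), (8, 239), (9, 236), (0, 0), (0, 0), (9, 239), (11, 236), (12, 236),
     (10, 239), (0, 0), (11, 239), (12, 239), (15, 231), (15, 232), (16, 232), (14, 236),
     (18, 232), (19, 232), (14, 239), (0, 0), (15, 236), (0, 0), (0, 0), (15, 239), (16, 236),
     (0, 0), (0, 0), (16, 239), (18, 236), (19, 236), (17, 239), (0, 0), (18, 239), (19, 239),
     (21, 236), (0, 0), (0, 0), (21, 239), (23, 236), (24, 236), (22, 239), (0, 0), (23, 239),
     (24, 239), (27, 236), (28, 236), (26, 239), (0, 0), (27, 239), (28, 239), (33, 236),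
     (30, 239), (31, 239), (33, 239), (0, 0), (0, 0), (36, 239), (0, 0), (0, 0), (0, 0), (0, 0),
     (40, 239), (41, 239), (0, 0), (0, 0), (46, 239), (47, 239), (0, 0), (52, 239), (0, 0),
     (56, 239), (57, 239), (0, 0), (62, 239), (66, 239), (0, 0), (0, 0), (78, 239), (79, 239),
     (0, 0), (84, 239), (88, 239), (93, 239), (0, 0), (0, 0), (0, 0), (114, 239), (0, 0), (0, 0),
     (125, 236)],
    [(1, 119), (2, 118), (1, 121), (0, 125), (0, 129), (0, 134), (0, 140), (1, 145), (1, 150),
     (1, 154), (1, 157), (0, 160), (0, 161), (1, 161), (0, 168), (1, 172), (1, 176), (1, 179),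
     (0, 182), (0, 183), (1, 183), (1, 186), (1, 189), (0, 192), (0, 193), (1, 193), (1, 195),
     (0, 198), (0, 199), (1, 199), (0, 201), (0, 202), (1, 202), (0, 0), (1, 203), (2, 203),
     (0, 0), (1, 207), (2, 207), (0, 0), (1, 210), (2, 210), (0, 0), (0, 213), (1, 213), (2, 213),
     (1, 214), (2, 214), (0, 0), (0, 217), (1, 217), (2, 217), (0, 218), (1, 218), (2, 218),
     (3, 218), (1, 219), (2, 219), (0, 0), (0, 222), (1, 222), (2, 222), (0, 223), (1, 223),
     (2, 223), (3, 223), (0, 224), (1, 224), (2, 224), (3, 224), (4, 224), (7, 219), (0, 0),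
     (0, 0), (7, 222), (7, 223), (7, 224), (8, 224), (1, 226), (2, 226), (0, 0), (0, 229),
     (1, 229), (2, 229), (0, 230), (1, 230), (2, 230), (3, 230), (0, 231), (1, 231), (2, 231),
     (3, 231), (4, 231), (0, 232), (1, 232), (2, 232), (3, 232), (4, 232), (5, 232), (7, 226),
     (0, 0), (0, 0), (7, 229), (7, 230), (7, 231), (8, 226), (0, 0), (0, 0), (8, 229), (8, 230),
     (9, 226), (0, 0), (0, 0), (9, 229), (10, 226), (0, 0), (0, 0), (0, 237), (1, 237), (0, 238),
     (0, 0), (2, 238), (0, 0), (3, 237), (3, 238), (13, 229), (10, 230), (4, 237), (4, 238),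
     (13, 230), (9, 231), (10, 231), (5, 237), (5, 238), (13, 231), (8, 232), (9, 232), (10, 232),
     (6, 237), (6, 238), (13, 232), (0, 0), (0, 0), (0, 0), (7, 237), (7, 238), (0, 0), (0, 0),
     (0, 0), (8, 237), (8, 238), (0, 0), (0, 0), (9, 237), (9, 238), (0, 0), (10, 237), (10, 238),
     (0, 0), (11, 238), (13, 237), (13, 238), (15, 231), (15, 232), (16, 232), (17, 232),
     (14, 237), (14, 238), (20, 232), (0, 0), (0, 0), (15, 237), (15, 238), (0, 0), (0, 0),
     (16, 237), (16, 238), (0, 0), (17, 237), (17, 238), (0, 0), (18, 238), (20, 237), (20, 238),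
     (0, 0), (21, 237), (21, 238), (0, 0), (22, 237), (22, 238), (0, 0), (23, 238), (25, 237),
     (25, 238), (26, 237), (26, 238), (0, 0), (27, 238), (29, 237), (29, 238), (30, 238),
     (32, 237), (32, 238), (34, 238), (0, 0), (0, 0), (0, 0), (37, 238), (0, 0), (0, 0), (40, 238),
     (0, 0), (0, 0), (44, 238), (46, 238), (0, 0), (0, 0), (50, 238), (53, 238), (56, 238), (0, 0),
     (0, 0), (60, 238), (63, 238), (67, 238), (0, 0), (78, 238), (0, 0), (0, 0), (82, 238),
     (85, 238), (89, 238), (94, 238), (0, 0), (0, 0), (0, 0), (0, 0), (118, 238), (121, 237),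
     (0, 0)],
    [(2, 117), (0, 120), (0, 122), (0, 125), (0, 129), (0, 134), (0, 140), (0, 146), (0, 151),
     (0, 155), (0, 158), (0, 160), (0, 161), (1, 161), (0, 168), (0, 173), (0, 177), (0, 180),
     (0, 182), (0, 183), (1, 183), (0, 187), (0, 190), (0, 192), (0, 193), (1, 193), (0, 196),
     (0, 198), (0, 199), (1, 199), (0, 201), (0, 202), (1, 202), (0, 203), (0, 0), (2, 203),
     (0, 0), (0, 208), (0, 0), (2, 208), (0, 211), (0, 0), (2, 211), (0, 213), (1, 213), (2, 213),
     (0, 215), (0, 0), (2, 215), (0, 217), (1, 217), (2, 217), (0, 218), (1, 218), (2, 218),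
     (3, 218), (0, 220), (0, 0), (2, 220), (0, 222), (1, 222), (2, 222), (0, 223), (1, 223),
     (2, 223), (3, 223), (0, 224), (1, 224), (2, 224), (3, 224), (4, 224), (0, 0), (7, 220),
     (0, 0), (7, 222), (7, 223), (7, 224), (8, 224), (0, 227), (0, 0), (2, 227), (0, 229),
     (1, 229), (2, 229), (0, 230), (1, 230), (2, 230), (3, 230), (0, 231), (1, 231), (2, 231),
     (3, 231), (4, 231), (0, 232), (1, 232), (2, 232), (3, 232), (4, 232), (5, 232), (0, 0),
     (7, 227), (0, 0), (7, 229), (7, 230), (7, 231), (0, 0), (8, 227), (0, 0), (8, 229), (8, 230),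
     (0, 0), (9, 227), (0, 0), (9, 229), (0, 0), (10, 227), (0, 0), (0, 237), (1, 237), (0, 0),
     (1, 239), (0, 0), (2, 239), (3, 237), (12, 229), (3, 239), (10, 230), (4, 237), (12, 230),
     (4, 239), (9, 231), (10, 231), (5, 237), (12, 231), (5, 239), (8, 232), (9, 232), (10, 232),
     (6, 237), (12, 232), (6, 239), (0, 0), (0, 0), (0, 0), (7, 237), (0, 0), (7, 239), (0, 0),
     (0, 0), (8, 237), (0, 0), (8, 239), (0, 0), (9, 237), (0, 0), (9, 239), (10, 237), (0, 0),
     (10, 239), (12, 237), (11, 239), (12, 239), (15, 231), (15, 232), (16, 232), (17, 232),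
     (14, 237), (19, 232), (14, 239), (0, 0), (0, 0), (15, 237), (0, 0), (15, 239), (0, 0),
     (16, 237), (0, 0), (16, 239), (17, 237), (0, 0), (17, 239), (19, 237), (18, 239), (19, 239),
     (0, 0), (21, 237), (0, 0), (21, 239), (22, 237), (0, 0), (22, 239), (24, 237), (23, 239),
     (24, 239), (26, 237), (0, 0), (26, 239), (28, 237), (27, 239), (28, 239), (31, 237),
     (30, 239), (31, 239), (33, 239), (0, 0), (0, 0), (0, 0), (0, 0), (37, 239), (0, 0), (0, 0),
     (40, 239), (0, 0), (43, 239), (0, 0), (46, 239), (0, 0), (49, 239), (52, 239), (0, 0),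
     (56, 239), (0, 0), (59, 239), (62, 239), (66, 239), (0, 0), (0, 0), (78, 239), (0, 0),
     (81, 239), (84, 239), (88, 239), (93, 239), (0, 0), (0, 0), (0, 0), (0, 0), (117, 239),
     (0, 0), (122, 237)],
    [(1, 119), (0, 120), (0, 122), (0, 125), (0, 129), (0, 134), (0, 140), (0, 146), (0, 151),
     (0, 155), (0, 158), (0, 160), (0, 161), (1, 161), (0, 168), (0, 173), (0, 177), (0, 180),
     (0, 182), (0, 183), (1, 183), (0, 187), (0, 190), (0, 192), (0, 193), (1, 193), (0, 196),
     (0, 198), (0, 199), (1, 199), (0, 201), (0, 202), (1, 202), (0, 203), (1, 203), (0, 0),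
     (0, 0), (0, 0), (0, 209), (1, 209), (0, 0), (0, 212), (1, 212), (0, 213), (1, 213), (2, 213),
     (0, 0), (0, 216), (1, 216), (0, 217), (1, 217), (2, 217), (0, 218), (1, 218), (2, 218),
     (3, 218), (0, 0), (0, 221), (1, 221), (0, 222), (1, 222), (2, 222), (0, 223), (1, 223),
     (2, 223), (3, 223), (0, 224), (1, 224), (2, 224), (3, 224), (4, 224), (0, 0), (0, 0),
     (7, 221), (7, 222), (7, 223), (7, 224), (8, 224), (0, 0), (0, 228), (1, 228), (0, 229),
     (1, 229), (2, 229), (0, 230), (1, 230), (2, 230), (3, 230), (0, 231), (1, 231), (2, 231),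
     (3, 231), (4, 231), (0, 232), (1, 232), (2, 232), (3, 232), (4, 232), (5, 232), (0, 0),
     (0, 0), (7, 228), (7, 229), (7, 230), (7, 231), (0, 0), (0, 0), (8, 228), (8, 229), (8, 230),
     (0, 0), (0, 0), (9, 228), (9, 229), (0, 0), (0, 0), (10, 228), (0, 0), (0, 0), (0, 238),
     (1, 239), (2, 238), (2, 239), (11, 229), (3, 238), (3, 239), (10, 230), (11, 230), (4, 238),
     (4, 239), (9, 231), (10, 231), (11, 231), (5, 238), (5, 239), (8, 232), (9, 232), (10, 232),
     (11, 232), (6, 238), (6, 239), (0, 0), (0, 0), (0, 0), (0, 0), (7, 238), (7, 239), (0, 0),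
     (0, 0), (0, 0), (8, 238), (8, 239), (0, 0), (0, 0), (9, 238), (9, 239), (0, 0), (10, 238),
     (10, 239), (11, 238), (11, 239), (12, 239), (15, 231), (15, 232), (16, 232), (17, 232),
     (18, 232), (14, 238), (14, 239), (0, 0), (0, 0), (0, 0), (15, 238), (15, 239), (0, 0), (0, 0),
     (16, 238), (16, 239), (0, 0), (17, 238), (17, 239), (18, 238), (18, 239), (19, 239), (0, 0),
     (0, 0), (21, 238), (21, 239), (0, 0), (22, 238), (22, 239), (23, 238), (23, 239), (24, 239),
     (0, 0), (26, 238), (26, 239), (27, 238), (27, 239), (28, 239), (30, 238), (30, 239),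
     (31, 239), (33, 239), (0, 0), (0, 0), (0, 0), (0, 0), (0, 0), (38, 239), (0, 0), (0, 0),
     (41, 239), (43, 239), (0, 0), (0, 0), (47, 239), (49, 239), (52, 239), (0, 0), (0, 0),
     (57, 239), (59, 239), (62, 239), (66, 239), (0, 0), (0, 0), (0, 0), (79, 239), (81, 239),
     (84, 239), (88, 239), (93, 239), (0, 0), (0, 0), (0, 0), (0, 0), (0, 0), (119, 239),
     (120, 238)],
    [(1, 119), (0, 120), (0, 122), (4, 113), (3, 126), (3, 131), (3, 137), (0, 146), (0, 151),
     (0, 155), (0, 158), (3, 156), (3, 157), (3, 158), (3, 165), (0, 173), (0, 177), (0, 180),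
     (3, 178), (3, 179), (3, 180), (0, 187), (0, 190), (3, 188), (3, 189), (3, 190), (0, 196),
     (3, 194), (3, 195), (3, 196), (4, 194), (4, 195), (4, 196), (0, 0), (0, 0), (0, 0), (0, 0),
     (0, 208), (0, 209), (1, 209), (0, 211), (0, 212), (1, 212), (3, 210), (3, 211), (3, 212),
     (0, 215), (0, 216), (1, 216), (3, 214), (3, 215), (3, 216), (4, 214), (4, 215), (4, 216),
     (0, 0), (0, 220), (0, 221), (1, 221), (3, 219), (3, 220), (3, 221), (4, 219), (4, 220),
     (4, 221), (0, 0), (5, 219), (5, 220), (5, 221), (0, 0), (0, 0), (0, 225), (1, 225), (2, 225),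
     (3, 225), (4, 225), (5, 225), (6, 225), (0, 227), (0, 228), (1, 228), (3, 226), (3, 227),
     (3, 228), (4, 226), (4, 227), (4, 228), (0, 0), (5, 226), (5, 227), (5, 228), (0, 0), (0, 0),
     (6, 226), (6, 227), (6, 228), (0, 0), (0, 0), (0, 0), (0, 233), (1, 233), (2, 233), (3, 233),
     (4, 233), (5, 233), (0, 234), (1, 234), (2, 234), (3, 234), (4, 234), (0, 235), (1, 235),
     (2, 235), (3, 235), (0, 236), (1, 236), (2, 236), (11, 226), (11, 227), (12, 226), (13, 227),
     (12, 228), (13, 228), (0, 0), (0, 0), (0, 0), (4, 236), (0, 0), (0, 0), (0, 0), (5, 235),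
     (5, 236), (0, 0), (0, 0), (0, 0), (6, 234), (6, 235), (6, 236), (0, 0), (0, 0), (0, 0),
     (7, 234), (7, 235), (7, 236), (11, 233), (12, 233), (13, 233), (8, 235), (8, 236), (11, 234),
     (12, 234), (13, 234), (9, 236), (11, 235), (12, 235), (13, 235), (11, 236), (12, 236),
     (13, 236), (0, 0), (0, 0), (0, 0), (14, 233), (14, 234), (14, 235), (14, 236), (0, 0), (0, 0),
     (0, 0), (15, 235), (15, 236), (18, 234), (19, 234), (20, 234), (16, 236), (18, 235),
     (19, 235), (20, 235), (18, 236), (19, 236), (20, 236), (0, 0), (0, 0), (0, 0), (21, 236),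
     (23, 235), (24, 235), (25, 235), (23, 236), (24, 236), (25, 236), (0, 0), (0, 0), (0, 0),
     (27, 236), (28, 236), (29, 236), (0, 0), (0, 0), (0, 0), (0, 0), (0, 0), (0, 0), (0, 0),
     (37, 236), (38, 236), (39, 236), (43, 235), (44, 235), (45, 235), (43, 236), (44, 236),
     (45, 236), (0, 0), (49, 236), (50, 236), (51, 236), (0, 0), (0, 0), (59, 236), (60, 236),
     (61, 236), (0, 0), (0, 0), (0, 0), (74, 236), (81, 236), (82, 236), (83, 236), (0, 0), (0, 0),
     (0, 0), (0, 0), (102, 236), (108, 236), (113, 236), (126, 235), (0, 0), (0, 0), (0, 0)],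
    [(1, 119), (0, 120), (4, 112), (0, 125), (2, 127), (2, 132), (2, 138), (0, 146), (0, 151),
     (0, 155), (2, 156), (0, 160), (2, 159), (2, 160), (2, 166), (0, 173), (0, 177), (2, 178),
     (0, 182), (2, 181), (2, 182), (0, 187), (2, 188), (0, 192), (2, 191), (2, 192), (2, 194),
     (0, 198), (2, 197), (2, 198), (4, 194), (0, 0), (0, 0), (4, 197), (4, 198), (0, 0), (0, 206),
     (0, 0), (0, 209), (1, 209), (0, 211), (2, 210), (2, 211), (0, 213), (1, 213), (2, 213),
     (0, 215), (2, 214), (2, 215), (0, 217), (1, 217), (2, 217), (4, 214), (4, 215), (0, 0),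
     (4, 217), (0, 220), (2, 219), (2, 220), (0, 222), (1, 222), (2, 222), (4, 219), (4, 220),
     (0, 0), (4, 222), (5, 219), (5, 220), (0, 0), (5, 222), (0, 0), (0, 225), (1, 225), (2, 225),
     (3, 225), (4, 225), (5, 225), (6, 225), (0, 227), (2, 226), (2, 227), (0, 229), (1, 229),
     (2, 229), (4, 226), (4, 227), (0, 0), (4, 229), (5, 226), (5, 227), (0, 0), (5, 229), (0, 0),
     (6, 226), (6, 227), (0, 0), (6, 229), (0, 0), (0, 0), (0, 233), (1, 233), (2, 233), (3, 233),
     (4, 233), (5, 233), (0, 234), (1, 234), (2, 234), (3, 234), (4, 234), (0, 235), (1, 235),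
     (2, 235), (3, 235), (10, 226), (10, 227), (0, 0), (0, 237), (1, 237), (12, 226), (13, 227),
     (0, 0), (0, 0), (3, 237), (12, 229), (13, 229), (0, 0), (4, 237), (0, 0), (0, 0), (5, 235),
     (0, 0), (5, 237), (0, 0), (0, 0), (6, 234), (6, 235), (0, 0), (6, 237), (0, 0), (0, 0),
     (7, 234), (7, 235), (10, 233), (7, 237), (12, 233), (13, 233), (8, 235), (10, 234), (8, 237),
     (12, 234), (13, 234), (10, 235), (9, 237), (12, 235), (13, 235), (10, 237), (0, 0), (0, 0),
     (12, 237), (13, 237), (0, 0), (14, 233), (14, 234), (14, 235), (0, 0), (14, 237), (0, 0),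
     (0, 0), (15, 235), (17, 234), (15, 237), (19, 234), (20, 234), (17, 235), (16, 237),
     (19, 235), (20, 235), (17, 237), (0, 0), (0, 0), (19, 237), (20, 237), (0, 0), (22, 235),
     (21, 237), (24, 235), (25, 235), (22, 237), (0, 0), (0, 0), (24, 237), (25, 237), (0, 0),
     (26, 237), (0, 0), (0, 0), (28, 237), (29, 237), (0, 0), (0, 0), (0, 0), (0, 0), (0, 0),
     (36, 237), (41, 235), (42, 235), (38, 237), (39, 237), (45, 235), (41, 237), (42, 237),
     (0, 0), (45, 237), (47, 237), (48, 237), (0, 0), (51, 237), (0, 0), (57, 237), (58, 237),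
     (0, 0), (61, 237), (0, 0), (0, 0), (73, 237), (79, 237), (80, 237), (0, 0), (83, 237), (0, 0),
     (0, 0), (0, 0), (101, 237), (107, 237), (112, 237), (0, 0), (127, 235), (0, 0), (0, 0)],
    [(1, 119), (4, 111), (0, 122), (0, 125), (1, 128), (1, 133), (1, 139), (0, 146), (0, 151),
     (0, 155), (1, 157), (1, 159), (0, 161), (1, 161), (1, 167), (0, 173), (0, 177), (1, 179),
     (1, 181), (0, 183), (1, 183), (0, 187), (1, 189), (1, 191), (0, 193), (1, 193), (1, 195),
     (1, 197), (0, 199), (1, 199), (0, 0), (4, 195), (0, 0), (4, 197), (0, 0), (4, 199), (0, 206),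
     (0, 208), (0, 0), (1, 209), (1, 210), (0, 212), (1, 212), (0, 213), (1, 213), (2, 213),
     (1, 214), (0, 216), (1, 216), (0, 217), (1, 217), (2, 217), (4, 214), (0, 0), (4, 216),
     (4, 217), (1, 219), (0, 221), (1, 221), (0, 222), (1, 222), (2, 222), (4, 219), (0, 0),
     (4, 221), (4, 222), (5, 219), (0, 0), (5, 221), (5, 222), (0, 0), (0, 225), (1, 225),
     (2, 225), (3, 225), (4, 225), (5, 225), (6, 225), (1, 226), (0, 228), (1, 228), (0, 229),
     (1, 229), (2, 229), (4, 226), (0, 0), (4, 228), (4, 229), (5, 226), (0, 0), (5, 228),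
     (5, 229), (0, 0), (6, 226), (0, 0), (6, 228), (6, 229), (0, 0), (0, 0), (0, 233), (1, 233),
     (2, 233), (3, 233), (4, 233), (5, 233), (0, 234), (1, 234), (2, 234), (3, 234), (4, 234),
     (0, 235), (1, 235), (2, 235), (3, 235), (10, 226), (0, 0), (10, 228), (11, 226), (0, 0),
     (0, 238), (0, 0), (2, 238), (13, 228), (11, 229), (3, 238), (13, 229), (0, 0), (0, 0),
     (4, 238), (0, 0), (5, 235), (0, 0), (0, 0), (5, 238), (0, 0), (6, 234), (6, 235), (0, 0),
     (0, 0), (6, 238), (0, 0), (7, 234), (7, 235), (10, 233), (11, 233), (7, 238), (13, 233),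
     (8, 235), (10, 234), (11, 234), (8, 238), (13, 234), (10, 235), (11, 235), (9, 238),
     (13, 235), (0, 0), (10, 238), (0, 0), (11, 238), (0, 0), (13, 238), (14, 233), (14, 234),
     (14, 235), (0, 0), (0, 0), (14, 238), (0, 0), (15, 235), (17, 234), (18, 234), (15, 238),
     (20, 234), (17, 235), (18, 235), (16, 238), (20, 235), (0, 0), (17, 238), (0, 0), (18, 238),
     (0, 0), (20, 238), (22, 235), (23, 235), (21, 238), (25, 235), (0, 0), (22, 238), (0, 0),
     (23, 238), (0, 0), (25, 238), (0, 0), (26, 238), (0, 0), (27, 238), (0, 0), (29, 238), (0, 0),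
     (0, 0), (0, 0), (0, 0), (40, 235), (36, 238), (42, 235), (37, 238), (44, 235), (39, 238),
     (40, 238), (0, 0), (42, 238), (44, 238), (46, 238), (0, 0), (48, 238), (50, 238), (0, 0),
     (56, 238), (0, 0), (58, 238), (60, 238), (0, 0), (0, 0), (72, 238), (78, 238), (0, 0),
     (80, 238), (82, 238), (0, 0), (0, 0), (0, 0), (100, 238), (106, 238), (111, 238), (0, 0),
     (0, 0), (128, 235), (0, 0)],
    [(4, 110), (0, 120), (0, 122), (0, 125), (0, 129), (0, 134), (0, 140), (0, 146), (0, 151),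
     (0, 155), (0, 158), (0, 160), (0, 161), (1, 161), (0, 168), (0, 173), (0, 177), (0, 180),
     (0, 182), (0, 183), (1, 183), (0, 187), (0, 190), (0, 192), (0, 193), (1, 193), (0, 196),
     (0, 198), (0, 199), (1, 199), (0, 0), (0, 0), (4, 196), (0, 0), (4, 198), (4, 199), (0, 206),
     (0, 208), (0, 209), (0, 0), (0, 211), (0, 212), (1, 212), (0, 213), (1, 213), (2, 213),
     (0, 215), (0, 216), (1, 216), (0, 217), (1, 217), (2, 217), (0, 0), (4, 215), (4, 216),
     (4, 217), (0, 220), (0, 221), (1, 221), (0, 222), (1, 222), (2, 222), (0, 0), (4, 220),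
     (4, 221), (4, 222), (0, 0), (5, 220), (5, 221), (5, 222), (0, 0), (0, 225), (1, 225),
     (2, 225), (3, 225), (4, 225), (5, 225), (6, 225), (0, 227), (0, 228), (1, 228), (0, 229),
     (1, 229), (2, 229), (0, 0), (4, 227), (4, 228), (4, 229), (0, 0), (5, 227), (5, 228),
     (5, 229), (0, 0), (0, 0), (6, 227), (6, 228), (6, 229), (0, 0), (0, 0), (0, 233), (1, 233),
     (2, 233), (3, 233), (4, 233), (5, 233), (0, 234), (1, 234), (2, 234), (3, 234), (4, 234),
     (0, 235), (1, 235), (2, 235), (3, 235), (0, 0), (10, 227), (10, 228), (0, 0), (11, 227),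
     (0, 0), (1, 239), (12, 228), (2, 239), (11, 229), (12, 229), (3, 239), (0, 0), (0, 0), (0, 0),
     (4, 239), (5, 235), (0, 0), (0, 0), (0, 0), (5, 239), (6, 234), (6, 235), (0, 0), (0, 0),
     (0, 0), (6, 239), (7, 234), (7, 235), (10, 233), (11, 233), (12, 233), (7, 239), (8, 235),
     (10, 234), (11, 234), (12, 234), (8, 239), (10, 235), (11, 235), (12, 235), (9, 239), (0, 0),
     (0, 0), (10, 239), (0, 0), (11, 239), (12, 239), (14, 233), (14, 234), (14, 235), (0, 0),
     (0, 0), (0, 0), (14, 239), (15, 235), (17, 234), (18, 234), (19, 234), (15, 239), (17, 235),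
     (18, 235), (19, 235), (16, 239), (0, 0), (0, 0), (17, 239), (0, 0), (18, 239), (19, 239),
     (22, 235), (23, 235), (24, 235), (21, 239), (0, 0), (0, 0), (22, 239), (0, 0), (23, 239),
     (24, 239), (0, 0), (0, 0), (26, 239), (0, 0), (27, 239), (28, 239), (0, 0), (0, 0), (0, 0),
     (0, 0), (40, 235), (41, 235), (36, 239), (43, 235), (37, 239), (38, 239), (0, 0), (40, 239),
     (41, 239), (43, 239), (0, 0), (46, 239), (47, 239), (49, 239), (0, 0), (0, 0), (56, 239),
     (57, 239), (59, 239), (0, 0), (0, 0), (71, 239), (0, 0), (78, 239), (79, 239), (81, 239),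
     (0, 0), (0, 0), (0, 0), (99, 239), (105, 239), (110, 239), (0, 0), (0, 0), (0, 0), (129, 235)]
  ]

set_option maxRecDepth 1000000 in
theorem rowsD_E8_30 : rowsDB chevE8 certE8_30 30 = true := by decide +kernel

set_option maxHeartbeats 0 in
/-- certificates for the rows `40..49` -/
def certE8_40 : List (List (ℕ × ℕ)) :=
  [
    [(1, 119), (0, 120), (3, 116), (2, 123), (0, 129), (2, 132), (2, 138), (0, 146), (0, 151),
     (2, 153), (0, 158), (0, 160), (2, 159), (2, 160), (2, 166), (0, 173), (2, 175), (0, 180),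
     (0, 182), (2, 181), (2, 182), (2, 185), (0, 190), (0, 192), (2, 191), (2, 192), (2, 194),
     (3, 194), (0, 0), (0, 0), (0, 201), (2, 200), (2, 201), (3, 200), (3, 201), (0, 0), (0, 206),
     (0, 208), (2, 207), (2, 208), (0, 0), (0, 212), (1, 212), (0, 213), (1, 213), (2, 213),
     (0, 215), (2, 214), (2, 215), (3, 214), (3, 215), (0, 0), (0, 218), (1, 218), (2, 218),
     (3, 218), (0, 220), (2, 219), (2, 220), (3, 219), (3, 220), (0, 0), (0, 223), (1, 223),
     (2, 223), (3, 223), (5, 219), (5, 220), (0, 0), (0, 0), (5, 223), (0, 225), (1, 225),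
     (2, 225), (3, 225), (4, 225), (5, 225), (6, 225), (0, 227), (2, 226), (2, 227), (3, 226),
     (3, 227), (0, 0), (0, 230), (1, 230), (2, 230), (3, 230), (5, 226), (5, 227), (0, 0), (0, 0),
     (5, 230), (6, 226), (6, 227), (0, 0), (0, 0), (6, 230), (0, 0), (0, 233), (1, 233), (2, 233),
     (3, 233), (4, 233), (5, 233), (0, 234), (1, 234), (2, 234), (3, 234), (4, 234), (9, 226),
     (9, 227), (0, 0), (0, 0), (0, 236), (1, 236), (2, 236), (0, 237), (1, 237), (12, 226),
     (13, 227), (0, 0), (0, 0), (3, 237), (0, 0), (0, 0), (4, 236), (4, 237), (12, 230), (13, 230),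
     (0, 0), (5, 236), (5, 237), (0, 0), (0, 0), (6, 234), (0, 0), (6, 236), (6, 237), (0, 0),
     (0, 0), (7, 234), (9, 233), (7, 236), (7, 237), (12, 233), (13, 233), (9, 234), (8, 236),
     (8, 237), (12, 234), (13, 234), (9, 236), (9, 237), (0, 0), (0, 0), (10, 237), (12, 236),
     (13, 236), (12, 237), (13, 237), (0, 0), (14, 233), (14, 234), (0, 0), (14, 236), (14, 237),
     (0, 0), (0, 0), (16, 234), (15, 236), (15, 237), (19, 234), (20, 234), (16, 236), (16, 237),
     (0, 0), (0, 0), (17, 237), (19, 236), (20, 236), (19, 237), (20, 237), (0, 0), (21, 236),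
     (21, 237), (0, 0), (0, 0), (22, 237), (24, 236), (25, 236), (24, 237), (25, 237), (0, 0),
     (26, 237), (0, 0), (0, 0), (0, 0), (0, 0), (0, 0), (31, 237), (32, 237), (0, 0), (0, 0),
     (36, 237), (38, 236), (39, 236), (38, 237), (39, 237), (0, 0), (41, 237), (42, 237),
     (45, 236), (45, 237), (47, 237), (48, 237), (0, 0), (0, 0), (54, 237), (57, 237), (58, 237),
     (0, 0), (0, 0), (64, 237), (0, 0), (73, 237), (79, 237), (80, 237), (0, 0), (0, 0), (86, 237),
     (0, 0), (0, 0), (101, 237), (107, 237), (0, 0), (116, 237), (123, 236), (0, 0), (0, 0)],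
    [(1, 119), (3, 115), (0, 122), (1, 124), (0, 129), (1, 133), (1, 139), (0, 146), (0, 151),
     (1, 154), (0, 158), (1, 159), (0, 161), (1, 161), (1, 167), (0, 173), (1, 176), (0, 180),
     (1, 181), (0, 183), (1, 183), (1, 186), (0, 190), (1, 191), (0, 193), (1, 193), (1, 195),
     (0, 0), (3, 195), (0, 0), (1, 200), (0, 202), (1, 202), (3, 200), (0, 0), (3, 202), (0, 206),
     (1, 207), (0, 209), (1, 209), (0, 211), (0, 0), (1, 212), (0, 213), (1, 213), (2, 213),
     (1, 214), (0, 216), (1, 216), (3, 214), (0, 0), (3, 216), (0, 218), (1, 218), (2, 218),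
     (3, 218), (1, 219), (0, 221), (1, 221), (3, 219), (0, 0), (3, 221), (0, 223), (1, 223),
     (2, 223), (3, 223), (5, 219), (0, 0), (5, 221), (0, 0), (5, 223), (0, 225), (1, 225),
     (2, 225), (3, 225), (4, 225), (5, 225), (6, 225), (1, 226), (0, 228), (1, 228), (3, 226),
     (0, 0), (3, 228), (0, 230), (1, 230), (2, 230), (3, 230), (5, 226), (0, 0), (5, 228), (0, 0),
     (5, 230), (6, 226), (0, 0), (6, 228), (0, 0), (6, 230), (0, 0), (0, 233), (1, 233), (2, 233),
     (3, 233), (4, 233), (5, 233), (0, 234), (1, 234), (2, 234), (3, 234), (4, 234), (9, 226),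
     (0, 0), (9, 228), (0, 0), (0, 236), (1, 236), (2, 236), (11, 226), (0, 0), (0, 238), (0, 0),
     (2, 238), (13, 228), (0, 0), (3, 238), (0, 0), (4, 236), (11, 230), (4, 238), (13, 230),
     (0, 0), (5, 236), (0, 0), (5, 238), (0, 0), (6, 234), (0, 0), (6, 236), (0, 0), (6, 238),
     (0, 0), (7, 234), (9, 233), (7, 236), (11, 233), (7, 238), (13, 233), (9, 234), (8, 236),
     (11, 234), (8, 238), (13, 234), (9, 236), (0, 0), (9, 238), (0, 0), (11, 236), (10, 238),
     (13, 236), (11, 238), (0, 0), (13, 238), (14, 233), (14, 234), (0, 0), (14, 236), (0, 0),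
     (14, 238), (0, 0), (16, 234), (15, 236), (18, 234), (15, 238), (20, 234), (16, 236), (0, 0),
     (16, 238), (0, 0), (18, 236), (17, 238), (20, 236), (18, 238), (0, 0), (20, 238), (21, 236),
     (0, 0), (21, 238), (0, 0), (23, 236), (22, 238), (25, 236), (23, 238), (0, 0), (25, 238),
     (0, 0), (26, 238), (0, 0), (0, 0), (0, 0), (0, 0), (30, 238), (0, 0), (32, 238), (0, 0),
     (37, 236), (36, 238), (39, 236), (37, 238), (0, 0), (39, 238), (40, 238), (44, 236),
     (42, 238), (44, 238), (46, 238), (0, 0), (48, 238), (0, 0), (53, 238), (56, 238), (0, 0),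
     (58, 238), (0, 0), (63, 238), (0, 0), (72, 238), (78, 238), (0, 0), (80, 238), (0, 0),
     (85, 238), (0, 0), (0, 0), (100, 238), (106, 238), (0, 0), (115, 238), (0, 0), (124, 236),
     (0, 0)],
    [(3, 114), (0, 120), (0, 122), (0, 125), (0, 129), (0, 134), (0, 140), (0, 146), (0, 151),
     (0, 155), (0, 158), (0, 160), (0, 161), (1, 161), (0, 168), (0, 173), (0, 177), (0, 180),
     (0, 182), (0, 183), (1, 183), (0, 187), (0, 190), (0, 192), (0, 193), (1, 193), (0, 196),
     (0, 0), (0, 0), (3, 196), (0, 201), (0, 202), (1, 202), (0, 0), (3, 201), (3, 202), (0, 206),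
     (0, 208), (0, 209), (1, 209), (0, 211), (0, 212), (0, 0), (0, 213), (1, 213), (2, 213),
     (0, 215), (0, 216), (1, 216), (0, 0), (3, 215), (3, 216), (0, 218), (1, 218), (2, 218),
     (3, 218), (0, 220), (0, 221), (1, 221), (0, 0), (3, 220), (3, 221), (0, 223), (1, 223),
     (2, 223), (3, 223), (0, 0), (5, 220), (5, 221), (0, 0), (5, 223), (0, 225), (1, 225),
     (2, 225), (3, 225), (4, 225), (5, 225), (6, 225), (0, 227), (0, 228), (1, 228), (0, 0),
     (3, 227), (3, 228), (0, 230), (1, 230), (2, 230), (3, 230), (0, 0), (5, 227), (5, 228),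
     (0, 0), (5, 230), (0, 0), (6, 227), (6, 228), (0, 0), (6, 230), (0, 0), (0, 233), (1, 233),
     (2, 233), (3, 233), (4, 233), (5, 233), (0, 234), (1, 234), (2, 234), (3, 234), (4, 234),
     (0, 0), (9, 227), (9, 228), (0, 0), (0, 236), (1, 236), (2, 236), (0, 0), (11, 227), (0, 0),
     (1, 239), (12, 228), (2, 239), (0, 0), (0, 0), (3, 239), (4, 236), (11, 230), (12, 230),
     (4, 239), (0, 0), (5, 236), (0, 0), (0, 0), (5, 239), (6, 234), (0, 0), (6, 236), (0, 0),
     (0, 0), (6, 239), (7, 234), (9, 233), (7, 236), (11, 233), (12, 233), (7, 239), (9, 234),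
     (8, 236), (11, 234), (12, 234), (8, 239), (9, 236), (0, 0), (0, 0), (9, 239), (11, 236),
     (12, 236), (10, 239), (0, 0), (11, 239), (12, 239), (14, 233), (14, 234), (0, 0), (14, 236),
     (0, 0), (0, 0), (14, 239), (16, 234), (15, 236), (18, 234), (19, 234), (15, 239), (16, 236),
     (0, 0), (0, 0), (16, 239), (18, 236), (19, 236), (17, 239), (0, 0), (18, 239), (19, 239),
     (21, 236), (0, 0), (0, 0), (21, 239), (23, 236), (24, 236), (22, 239), (0, 0), (23, 239),
     (24, 239), (0, 0), (0, 0), (26, 239), (0, 0), (0, 0), (0, 0), (0, 0), (30, 239), (31, 239),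
     (0, 0), (37, 236), (38, 236), (36, 239), (0, 0), (37, 239), (38, 239), (43, 236), (40, 239),
     (41, 239), (43, 239), (0, 0), (46, 239), (47, 239), (0, 0), (52, 239), (0, 0), (56, 239),
     (57, 239), (0, 0), (62, 239), (0, 0), (71, 239), (0, 0), (78, 239), (79, 239), (0, 0),
     (84, 239), (0, 0), (0, 0), (99, 239), (105, 239), (0, 0), (114, 239), (0, 0), (0, 0),
     (125, 236)],
    [(1, 119), (2, 118), (1, 121), (0, 125), (0, 129), (1, 133), (1, 139), (0, 146), (0, 151),
     (1, 154), (1, 157), (0, 160), (0, 161), (1, 161), (1, 167), (0, 173), (1, 176), (1, 179),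
     (0, 182), (0, 183), (1, 183), (1, 186), (1, 189), (0, 192), (0, 193), (1, 193), (0, 0),
     (1, 197), (2, 197), (0, 0), (1, 200), (2, 200), (0, 0), (0, 203), (1, 203), (2, 203),
     (1, 205), (0, 208), (0, 209), (1, 209), (0, 211), (0, 212), (1, 212), (0, 0), (1, 213),
     (2, 213), (1, 214), (2, 214), (0, 0), (0, 217), (1, 217), (2, 217), (0, 218), (1, 218),
     (2, 218), (3, 218), (1, 219), (2, 219), (0, 0), (0, 222), (1, 222), (2, 222), (0, 223),
     (1, 223), (2, 223), (3, 223), (5, 219), (0, 0), (0, 0), (5, 222), (5, 223), (0, 225),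
     (1, 225), (2, 225), (3, 225), (4, 225), (5, 225), (6, 225), (1, 226), (2, 226), (0, 0),
     (0, 229), (1, 229), (2, 229), (0, 230), (1, 230), (2, 230), (3, 230), (5, 226), (0, 0),
     (0, 0), (5, 229), (5, 230), (6, 226), (0, 0), (0, 0), (6, 229), (6, 230), (0, 0), (0, 233),
     (1, 233), (2, 233), (3, 233), (4, 233), (5, 233), (0, 234), (1, 234), (2, 234), (3, 234),
     (4, 234), (9, 226), (0, 0), (0, 0), (9, 229), (10, 226), (0, 0), (0, 0), (0, 237), (1, 237),
     (0, 238), (0, 0), (2, 238), (0, 0), (3, 237), (3, 238), (13, 229), (10, 230), (4, 237),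
     (4, 238), (13, 230), (0, 0), (0, 0), (5, 237), (5, 238), (0, 0), (6, 234), (0, 0), (0, 0),
     (6, 237), (6, 238), (0, 0), (7, 234), (9, 233), (10, 233), (7, 237), (7, 238), (13, 233),
     (9, 234), (10, 234), (8, 237), (8, 238), (13, 234), (0, 0), (9, 237), (9, 238), (0, 0),
     (10, 237), (10, 238), (0, 0), (11, 238), (13, 237), (13, 238), (14, 233), (14, 234), (0, 0),
     (0, 0), (14, 237), (14, 238), (0, 0), (16, 234), (17, 234), (15, 237), (15, 238), (20, 234),
     (0, 0), (16, 237), (16, 238), (0, 0), (17, 237), (17, 238), (0, 0), (18, 238), (20, 237),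
     (20, 238), (0, 0), (21, 237), (21, 238), (0, 0), (22, 237), (22, 238), (0, 0), (23, 238),
     (25, 237), (25, 238), (0, 0), (0, 0), (0, 0), (27, 238), (0, 0), (0, 0), (30, 238), (0, 0),
     (0, 0), (34, 238), (36, 237), (36, 238), (0, 0), (37, 238), (39, 237), (39, 238), (40, 238),
     (42, 237), (42, 238), (44, 238), (46, 238), (0, 0), (0, 0), (50, 238), (53, 238), (56, 238),
     (0, 0), (0, 0), (60, 238), (63, 238), (0, 0), (72, 238), (78, 238), (0, 0), (0, 0), (82, 238),
     (85, 238), (0, 0), (0, 0), (100, 238), (106, 238), (0, 0), (0, 0), (118, 238), (121, 237),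
     (0, 0)],
    [(2, 117), (0, 120), (0, 122), (0, 125), (0, 129), (0, 134), (0, 140), (0, 146), (0, 151),
     (0, 155), (0, 158), (0, 160), (0, 161), (1, 161), (0, 168), (0, 173), (0, 177), (0, 180),
     (0, 182), (0, 183), (1, 183), (0, 187), (0, 190), (0, 192), (0, 193), (1, 193), (0, 0),
     (0, 198), (0, 0), (2, 198), (0, 201), (0, 0), (2, 201), (0, 203), (1, 203), (2, 203),
     (0, 206), (0, 208), (0, 209), (1, 209), (0, 211), (0, 212), (1, 212), (0, 213), (0, 0),
     (2, 213), (0, 215), (0, 0), (2, 215), (0, 217), (1, 217), (2, 217), (0, 218), (1, 218),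
     (2, 218), (3, 218), (0, 220), (0, 0), (2, 220), (0, 222), (1, 222), (2, 222), (0, 223),
     (1, 223), (2, 223), (3, 223), (0, 0), (5, 220), (0, 0), (5, 222), (5, 223), (0, 225),
     (1, 225), (2, 225), (3, 225), (4, 225), (5, 225), (6, 225), (0, 227), (0, 0), (2, 227),
     (0, 229), (1, 229), (2, 229), (0, 230), (1, 230), (2, 230), (3, 230), (0, 0), (5, 227),
     (0, 0), (5, 229), (5, 230), (0, 0), (6, 227), (0, 0), (6, 229), (6, 230), (0, 0), (0, 233),
     (1, 233), (2, 233), (3, 233), (4, 233), (5, 233), (0, 234), (1, 234), (2, 234), (3, 234),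
     (4, 234), (0, 0), (9, 227), (0, 0), (9, 229), (0, 0), (10, 227), (0, 0), (0, 237), (1, 237),
     (0, 0), (1, 239), (0, 0), (2, 239), (3, 237), (12, 229), (3, 239), (10, 230), (4, 237),
     (12, 230), (4, 239), (0, 0), (0, 0), (5, 237), (0, 0), (5, 239), (6, 234), (0, 0), (0, 0),
     (6, 237), (0, 0), (6, 239), (7, 234), (9, 233), (10, 233), (7, 237), (12, 233), (7, 239),
     (9, 234), (10, 234), (8, 237), (12, 234), (8, 239), (0, 0), (9, 237), (0, 0), (9, 239),
     (10, 237), (0, 0), (10, 239), (12, 237), (11, 239), (12, 239), (14, 233), (14, 234), (0, 0),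
     (0, 0), (14, 237), (0, 0), (14, 239), (16, 234), (17, 234), (15, 237), (19, 234), (15, 239),
     (0, 0), (16, 237), (0, 0), (16, 239), (17, 237), (0, 0), (17, 239), (19, 237), (18, 239),
     (19, 239), (0, 0), (21, 237), (0, 0), (21, 239), (22, 237), (0, 0), (22, 239), (24, 237),
     (23, 239), (24, 239), (0, 0), (0, 0), (0, 0), (0, 0), (27, 239), (0, 0), (0, 0), (30, 239),
     (0, 0), (33, 239), (36, 237), (0, 0), (36, 239), (38, 237), (37, 239), (38, 239), (41, 237),
     (40, 239), (41, 239), (43, 239), (0, 0), (46, 239), (0, 0), (49, 239), (52, 239), (0, 0),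
     (56, 239), (0, 0), (59, 239), (62, 239), (0, 0), (71, 239), (0, 0), (78, 239), (0, 0),
     (81, 239), (84, 239), (0, 0), (0, 0), (99, 239), (105, 239), (0, 0), (0, 0), (117, 239),
     (0, 0), (122, 237)],
    [(1, 119), (0, 120), (0, 122), (0, 125), (0, 129), (0, 134), (0, 140), (0, 146), (0, 151),
     (0, 155), (0, 158), (0, 160), (0, 161), (1, 161), (0, 168), (0, 173), (0, 177), (0, 180),
     (0, 182), (0, 183), (1, 183), (0, 187), (0, 190), (0, 192), (0, 193), (1, 193), (0, 0),
     (0, 0), (0, 199), (1, 199), (0, 0), (0, 202), (1, 202), (0, 203), (1, 203), (2, 203),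
     (0, 206), (0, 208), (0, 209), (1, 209), (0, 211), (0, 212), (1, 212), (0, 213), (1, 213),
     (0, 0), (0, 0), (0, 216), (1, 216), (0, 217), (1, 217), (2, 217), (0, 218), (1, 218),
     (2, 218), (3, 218), (0, 0), (0, 221), (1, 221), (0, 222), (1, 222), (2, 222), (0, 223),
     (1, 223), (2, 223), (3, 223), (0, 0), (0, 0), (5, 221), (5, 222), (5, 223), (0, 225),
     (1, 225), (2, 225), (3, 225), (4, 225), (5, 225), (6, 225), (0, 0), (0, 228), (1, 228),
     (0, 229), (1, 229), (2, 229), (0, 230), (1, 230), (2, 230), (3, 230), (0, 0), (0, 0),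
     (5, 228), (5, 229), (5, 230), (0, 0), (0, 0), (6, 228), (6, 229), (6, 230), (0, 0), (0, 233),
     (1, 233), (2, 233), (3, 233), (4, 233), (5, 233), (0, 234), (1, 234), (2, 234), (3, 234),
     (4, 234), (0, 0), (0, 0), (9, 228), (9, 229), (0, 0), (0, 0), (10, 228), (0, 0), (0, 0),
     (0, 238), (1, 239), (2, 238), (2, 239), (11, 229), (3, 238), (3, 239), (10, 230), (11, 230),
     (4, 238), (4, 239), (0, 0), (0, 0), (0, 0), (5, 238), (5, 239), (6, 234), (0, 0), (0, 0),
     (0, 0), (6, 238), (6, 239), (7, 234), (9, 233), (10, 233), (11, 233), (7, 238), (7, 239),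
     (9, 234), (10, 234), (11, 234), (8, 238), (8, 239), (0, 0), (0, 0), (9, 238), (9, 239),
     (0, 0), (10, 238), (10, 239), (11, 238), (11, 239), (12, 239), (14, 233), (14, 234), (0, 0),
     (0, 0), (0, 0), (14, 238), (14, 239), (16, 234), (17, 234), (18, 234), (15, 238), (15, 239),
     (0, 0), (0, 0), (16, 238), (16, 239), (0, 0), (17, 238), (17, 239), (18, 238), (18, 239),
     (19, 239), (0, 0), (0, 0), (21, 238), (21, 239), (0, 0), (22, 238), (22, 239), (23, 238),
     (23, 239), (24, 239), (0, 0), (0, 0), (0, 0), (0, 0), (0, 0), (28, 239), (0, 0), (0, 0),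
     (31, 239), (33, 239), (0, 0), (36, 238), (36, 239), (37, 238), (37, 239), (38, 239),
     (40, 238), (40, 239), (41, 239), (43, 239), (0, 0), (0, 0), (47, 239), (49, 239), (52, 239),
     (0, 0), (0, 0), (57, 239), (59, 239), (62, 239), (0, 0), (71, 239), (0, 0), (0, 0), (79, 239),
     (81, 239), (84, 239), (0, 0), (0, 0), (99, 239), (105, 239), (0, 0), (0, 0), (0, 0),
     (119, 239), (120, 238)],
    [(1, 119), (0, 120), (3, 116), (2, 123), (2, 127), (0, 134), (2, 138), (0, 146), (2, 149),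
     (0, 155), (0, 158), (0, 160), (2, 159), (2, 160), (2, 166), (2, 171), (0, 177), (0, 180),
     (0, 182), (2, 181), (2, 182), (2, 185), (2, 188), (3, 188), (0, 0), (0, 0), (0, 196),
     (0, 198), (2, 197), (2, 198), (0, 201), (2, 200), (2, 201), (3, 200), (3, 201), (0, 0),
     (0, 206), (0, 208), (2, 207), (2, 208), (0, 211), (2, 210), (2, 211), (3, 210), (3, 211),
     (0, 0), (0, 0), (0, 216), (1, 216), (0, 217), (1, 217), (2, 217), (0, 218), (1, 218),
     (2, 218), (3, 218), (0, 220), (2, 219), (2, 220), (3, 219), (3, 220), (0, 0), (4, 219),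
     (4, 220), (0, 0), (0, 0), (0, 224), (1, 224), (2, 224), (3, 224), (4, 224), (0, 225),
     (1, 225), (2, 225), (3, 225), (4, 225), (5, 225), (6, 225), (0, 227), (2, 226), (2, 227),
     (3, 226), (3, 227), (0, 0), (4, 226), (4, 227), (0, 0), (0, 0), (0, 231), (1, 231), (2, 231),
     (3, 231), (4, 231), (6, 226), (6, 227), (0, 0), (0, 0), (0, 0), (6, 231), (0, 233), (1, 233),
     (2, 233), (3, 233), (4, 233), (5, 233), (8, 226), (8, 227), (0, 0), (0, 0), (0, 0), (0, 235),
     (1, 235), (2, 235), (3, 235), (0, 236), (1, 236), (2, 236), (0, 237), (1, 237), (12, 226),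
     (13, 227), (0, 0), (0, 0), (3, 237), (0, 0), (0, 0), (4, 236), (4, 237), (0, 0), (0, 0),
     (5, 235), (5, 236), (5, 237), (12, 231), (13, 231), (0, 0), (6, 235), (6, 236), (6, 237),
     (0, 0), (0, 0), (8, 233), (7, 235), (7, 236), (7, 237), (12, 233), (13, 233), (8, 235),
     (8, 236), (8, 237), (0, 0), (0, 0), (9, 236), (9, 237), (12, 235), (13, 235), (10, 237),
     (12, 236), (13, 236), (12, 237), (13, 237), (0, 0), (14, 233), (0, 0), (14, 235), (14, 236),
     (14, 237), (0, 0), (0, 0), (15, 235), (15, 236), (15, 237), (0, 0), (0, 0), (16, 236),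
     (16, 237), (19, 235), (20, 235), (17, 237), (19, 236), (20, 236), (19, 237), (20, 237),
     (0, 0), (21, 236), (21, 237), (0, 0), (0, 0), (22, 237), (0, 0), (0, 0), (0, 0), (0, 0),
     (0, 0), (26, 237), (28, 236), (29, 236), (28, 237), (29, 237), (0, 0), (31, 237), (32, 237),
     (0, 0), (0, 0), (36, 237), (38, 236), (39, 236), (38, 237), (39, 237), (0, 0), (41, 237),
     (42, 237), (0, 0), (0, 0), (47, 237), (48, 237), (51, 236), (51, 237), (54, 237), (57, 237),
     (58, 237), (0, 0), (0, 0), (0, 0), (68, 237), (73, 237), (79, 237), (80, 237), (0, 0), (0, 0),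
     (0, 0), (90, 237), (0, 0), (101, 237), (0, 0), (112, 237), (116, 237), (123, 236), (0, 0),
     (0, 0)],
    [(1, 119), (3, 115), (0, 122), (1, 124), (1, 128), (0, 134), (1, 139), (0, 146), (1, 150),
     (0, 155), (0, 158), (1, 159), (0, 161), (1, 161), (1, 167), (1, 172), (0, 177), (0, 180),
     (1, 181), (0, 183), (1, 183), (1, 186), (1, 189), (0, 0), (3, 189), (0, 0), (0, 196),
     (1, 197), (0, 199), (1, 199), (1, 200), (0, 202), (1, 202), (3, 200), (0, 0), (3, 202),
     (0, 206), (1, 207), (0, 209), (1, 209), (1, 210), (0, 212), (1, 212), (3, 210), (0, 0),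
     (3, 212), (0, 215), (0, 0), (1, 216), (0, 217), (1, 217), (2, 217), (0, 218), (1, 218),
     (2, 218), (3, 218), (1, 219), (0, 221), (1, 221), (3, 219), (0, 0), (3, 221), (4, 219),
     (0, 0), (4, 221), (0, 0), (0, 224), (1, 224), (2, 224), (3, 224), (4, 224), (0, 225),
     (1, 225), (2, 225), (3, 225), (4, 225), (5, 225), (6, 225), (1, 226), (0, 228), (1, 228),
     (3, 226), (0, 0), (3, 228), (4, 226), (0, 0), (4, 228), (0, 0), (0, 231), (1, 231), (2, 231),
     (3, 231), (4, 231), (6, 226), (0, 0), (6, 228), (0, 0), (0, 0), (6, 231), (0, 233), (1, 233),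
     (2, 233), (3, 233), (4, 233), (5, 233), (8, 226), (0, 0), (8, 228), (0, 0), (0, 0), (0, 235),
     (1, 235), (2, 235), (3, 235), (0, 236), (1, 236), (2, 236), (11, 226), (0, 0), (0, 238),
     (0, 0), (2, 238), (13, 228), (0, 0), (3, 238), (0, 0), (4, 236), (0, 0), (4, 238), (0, 0),
     (5, 235), (5, 236), (11, 231), (5, 238), (13, 231), (0, 0), (6, 235), (6, 236), (0, 0),
     (6, 238), (0, 0), (8, 233), (7, 235), (7, 236), (11, 233), (7, 238), (13, 233), (8, 235),
     (8, 236), (0, 0), (8, 238), (0, 0), (9, 236), (11, 235), (9, 238), (13, 235), (11, 236),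
     (10, 238), (13, 236), (11, 238), (0, 0), (13, 238), (14, 233), (0, 0), (14, 235), (14, 236),
     (0, 0), (14, 238), (0, 0), (15, 235), (15, 236), (0, 0), (15, 238), (0, 0), (16, 236),
     (18, 235), (16, 238), (20, 235), (18, 236), (17, 238), (20, 236), (18, 238), (0, 0),
     (20, 238), (21, 236), (0, 0), (21, 238), (0, 0), (0, 0), (22, 238), (0, 0), (0, 0), (0, 0),
     (0, 0), (27, 236), (26, 238), (29, 236), (27, 238), (0, 0), (29, 238), (30, 238), (0, 0),
     (32, 238), (0, 0), (37, 236), (36, 238), (39, 236), (37, 238), (0, 0), (39, 238), (40, 238),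
     (0, 0), (42, 238), (0, 0), (46, 238), (50, 236), (48, 238), (50, 238), (53, 238), (56, 238),
     (0, 0), (58, 238), (0, 0), (0, 0), (67, 238), (72, 238), (78, 238), (0, 0), (80, 238), (0, 0),
     (0, 0), (89, 238), (0, 0), (100, 238), (0, 0), (111, 238), (115, 238), (0, 0), (124, 236),
     (0, 0)],
    [(3, 114), (0, 120), (0, 122), (0, 125), (0, 129), (0, 134), (0, 140), (0, 146), (0, 151),
     (0, 155), (0, 158), (0, 160), (0, 161), (1, 161), (0, 168), (0, 173), (0, 177), (0, 180),
     (0, 182), (0, 183), (1, 183), (0, 187), (0, 190), (0, 0), (0, 0), (3, 190), (0, 196),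
     (0, 198), (0, 199), (1, 199), (0, 201), (0, 202), (1, 202), (0, 0), (3, 201), (3, 202),
     (0, 206), (0, 208), (0, 209), (1, 209), (0, 211), (0, 212), (1, 212), (0, 0), (3, 211),
     (3, 212), (0, 215), (0, 216), (0, 0), (0, 217), (1, 217), (2, 217), (0, 218), (1, 218),
     (2, 218), (3, 218), (0, 220), (0, 221), (1, 221), (0, 0), (3, 220), (3, 221), (0, 0),
     (4, 220), (4, 221), (0, 0), (0, 224), (1, 224), (2, 224), (3, 224), (4, 224), (0, 225),
     (1, 225), (2, 225), (3, 225), (4, 225), (5, 225), (6, 225), (0, 227), (0, 228), (1, 228),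
     (0, 0), (3, 227), (3, 228), (0, 0), (4, 227), (4, 228), (0, 0), (0, 231), (1, 231), (2, 231),
     (3, 231), (4, 231), (0, 0), (6, 227), (6, 228), (0, 0), (0, 0), (6, 231), (0, 233), (1, 233),
     (2, 233), (3, 233), (4, 233), (5, 233), (0, 0), (8, 227), (8, 228), (0, 0), (0, 0), (0, 235),
     (1, 235), (2, 235), (3, 235), (0, 236), (1, 236), (2, 236), (0, 0), (11, 227), (0, 0),
     (1, 239), (12, 228), (2, 239), (0, 0), (0, 0), (3, 239), (4, 236), (0, 0), (0, 0), (4, 239),
     (5, 235), (5, 236), (11, 231), (12, 231), (5, 239), (0, 0), (6, 235), (6, 236), (0, 0),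
     (0, 0), (6, 239), (8, 233), (7, 235), (7, 236), (11, 233), (12, 233), (7, 239), (8, 235),
     (8, 236), (0, 0), (0, 0), (8, 239), (9, 236), (11, 235), (12, 235), (9, 239), (11, 236),
     (12, 236), (10, 239), (0, 0), (11, 239), (12, 239), (14, 233), (0, 0), (14, 235), (14, 236),
     (0, 0), (0, 0), (14, 239), (15, 235), (15, 236), (0, 0), (0, 0), (15, 239), (16, 236),
     (18, 235), (19, 235), (16, 239), (18, 236), (19, 236), (17, 239), (0, 0), (18, 239),
     (19, 239), (21, 236), (0, 0), (0, 0), (21, 239), (0, 0), (0, 0), (22, 239), (0, 0), (0, 0),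
     (0, 0), (27, 236), (28, 236), (26, 239), (0, 0), (27, 239), (28, 239), (0, 0), (30, 239),
     (31, 239), (0, 0), (37, 236), (38, 236), (36, 239), (0, 0), (37, 239), (38, 239), (0, 0),
     (40, 239), (41, 239), (0, 0), (49, 236), (46, 239), (47, 239), (49, 239), (52, 239), (0, 0),
     (56, 239), (57, 239), (0, 0), (0, 0), (66, 239), (71, 239), (0, 0), (78, 239), (79, 239),
     (0, 0), (0, 0), (88, 239), (0, 0), (99, 239), (0, 0), (110, 239), (114, 239), (0, 0), (0, 0),
     (125, 236)],
    [(1, 119), (2, 118), (1, 121), (0, 125), (1, 128), (0, 134), (1, 139), (0, 146), (1, 150),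
     (0, 155), (1, 157), (0, 160), (0, 161), (1, 161), (1, 167), (1, 172), (0, 177), (1, 179),
     (0, 182), (0, 183), (1, 183), (1, 186), (0, 0), (1, 191), (2, 191), (0, 0), (1, 195),
     (0, 198), (0, 199), (1, 199), (1, 200), (2, 200), (0, 0), (0, 203), (1, 203), (2, 203),
     (1, 205), (0, 208), (0, 209), (1, 209), (1, 210), (2, 210), (0, 0), (0, 213), (1, 213),
     (2, 213), (0, 215), (0, 216), (1, 216), (0, 0), (1, 217), (2, 217), (0, 218), (1, 218),
     (2, 218), (3, 218), (1, 219), (2, 219), (0, 0), (0, 222), (1, 222), (2, 222), (4, 219),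
     (0, 0), (0, 0), (4, 222), (0, 224), (1, 224), (2, 224), (3, 224), (4, 224), (0, 225),
     (1, 225), (2, 225), (3, 225), (4, 225), (5, 225), (6, 225), (1, 226), (2, 226), (0, 0),
     (0, 229), (1, 229), (2, 229), (4, 226), (0, 0), (0, 0), (4, 229), (0, 231), (1, 231),
     (2, 231), (3, 231), (4, 231), (6, 226), (0, 0), (0, 0), (6, 229), (0, 0), (6, 231), (0, 233),
     (1, 233), (2, 233), (3, 233), (4, 233), (5, 233), (8, 226), (0, 0), (0, 0), (8, 229), (0, 0),
     (0, 235), (1, 235), (2, 235), (3, 235), (10, 226), (0, 0), (0, 0), (0, 237), (1, 237),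
     (0, 238), (0, 0), (2, 238), (0, 0), (3, 237), (3, 238), (13, 229), (0, 0), (4, 237), (4, 238),
     (0, 0), (5, 235), (10, 231), (5, 237), (5, 238), (13, 231), (0, 0), (6, 235), (0, 0),
     (6, 237), (6, 238), (0, 0), (8, 233), (7, 235), (10, 233), (7, 237), (7, 238), (13, 233),
     (8, 235), (0, 0), (8, 237), (8, 238), (0, 0), (10, 235), (9, 237), (9, 238), (13, 235),
     (10, 237), (10, 238), (0, 0), (11, 238), (13, 237), (13, 238), (14, 233), (0, 0), (14, 235),
     (0, 0), (14, 237), (14, 238), (0, 0), (15, 235), (0, 0), (15, 237), (15, 238), (0, 0),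
     (17, 235), (16, 237), (16, 238), (20, 235), (17, 237), (17, 238), (0, 0), (18, 238),
     (20, 237), (20, 238), (0, 0), (21, 237), (21, 238), (0, 0), (0, 0), (0, 0), (0, 0), (23, 238),
     (0, 0), (0, 0), (26, 237), (26, 238), (0, 0), (27, 238), (29, 237), (29, 238), (30, 238),
     (0, 0), (0, 0), (34, 238), (36, 237), (36, 238), (0, 0), (37, 238), (39, 237), (39, 238),
     (40, 238), (0, 0), (0, 0), (44, 238), (46, 238), (48, 237), (48, 238), (50, 238), (53, 238),
     (56, 238), (0, 0), (0, 0), (60, 238), (0, 0), (67, 238), (72, 238), (78, 238), (0, 0), (0, 0),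
     (82, 238), (0, 0), (89, 238), (0, 0), (100, 238), (0, 0), (111, 238), (0, 0), (118, 238),
     (121, 237), (0, 0)]
  ]

set_option maxRecDepth 1000000 in
theorem rowsD_E8_40 : rowsDB chevE8 certE8_40 40 = true := by decide +kernel

set_option maxHeartbeats 0 in
/-- certificates for the rows `50..59` -/
def certE8_50 : List (List (ℕ × ℕ)) :=
  [
    [(2, 117), (0, 120), (0, 122), (0, 125), (0, 129), (0, 134), (0, 140), (0, 146), (0, 151),
     (0, 155), (0, 158), (0, 160), (0, 161), (1, 161), (0, 168), (0, 173), (0, 177), (0, 180),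
     (0, 182), (0, 183), (1, 183), (0, 187), (0, 0), (0, 192), (0, 0), (2, 192), (0, 196),
     (0, 198), (0, 199), (1, 199), (0, 201), (0, 0), (2, 201), (0, 203), (1, 203), (2, 203),
     (0, 206), (0, 208), (0, 209), (1, 209), (0, 211), (0, 0), (2, 211), (0, 213), (1, 213),
     (2, 213), (0, 215), (0, 216), (1, 216), (0, 217), (0, 0), (2, 217), (0, 218), (1, 218),
     (2, 218), (3, 218), (0, 220), (0, 0), (2, 220), (0, 222), (1, 222), (2, 222), (0, 0),
     (4, 220), (0, 0), (4, 222), (0, 224), (1, 224), (2, 224), (3, 224), (4, 224), (0, 225),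
     (1, 225), (2, 225), (3, 225), (4, 225), (5, 225), (6, 225), (0, 227), (0, 0), (2, 227),
     (0, 229), (1, 229), (2, 229), (0, 0), (4, 227), (0, 0), (4, 229), (0, 231), (1, 231),
     (2, 231), (3, 231), (4, 231), (0, 0), (6, 227), (0, 0), (6, 229), (0, 0), (6, 231), (0, 233),
     (1, 233), (2, 233), (3, 233), (4, 233), (5, 233), (0, 0), (8, 227), (0, 0), (8, 229), (0, 0),
     (0, 235), (1, 235), (2, 235), (3, 235), (0, 0), (10, 227), (0, 0), (0, 237), (1, 237), (0, 0),
     (1, 239), (0, 0), (2, 239), (3, 237), (12, 229), (3, 239), (0, 0), (4, 237), (0, 0), (4, 239),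
     (5, 235), (10, 231), (5, 237), (12, 231), (5, 239), (0, 0), (6, 235), (0, 0), (6, 237),
     (0, 0), (6, 239), (8, 233), (7, 235), (10, 233), (7, 237), (12, 233), (7, 239), (8, 235),
     (0, 0), (8, 237), (0, 0), (8, 239), (10, 235), (9, 237), (12, 235), (9, 239), (10, 237),
     (0, 0), (10, 239), (12, 237), (11, 239), (12, 239), (14, 233), (0, 0), (14, 235), (0, 0),
     (14, 237), (0, 0), (14, 239), (15, 235), (0, 0), (15, 237), (0, 0), (15, 239), (17, 235),
     (16, 237), (19, 235), (16, 239), (17, 237), (0, 0), (17, 239), (19, 237), (18, 239),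
     (19, 239), (0, 0), (21, 237), (0, 0), (21, 239), (0, 0), (0, 0), (0, 0), (0, 0), (23, 239),
     (0, 0), (26, 237), (0, 0), (26, 239), (28, 237), (27, 239), (28, 239), (0, 0), (30, 239),
     (0, 0), (33, 239), (36, 237), (0, 0), (36, 239), (38, 237), (37, 239), (38, 239), (0, 0),
     (40, 239), (0, 0), (43, 239), (47, 237), (46, 239), (47, 239), (49, 239), (52, 239), (0, 0),
     (56, 239), (0, 0), (59, 239), (0, 0), (66, 239), (71, 239), (0, 0), (78, 239), (0, 0),
     (81, 239), (0, 0), (88, 239), (0, 0), (99, 239), (0, 0), (110, 239), (0, 0), (117, 239),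
     (0, 0), (122, 237)],
    [(1, 119), (0, 120), (0, 122), (0, 125), (0, 129), (0, 134), (0, 140), (0, 146), (0, 151),
     (0, 155), (0, 158), (0, 160), (0, 161), (1, 161), (0, 168), (0, 173), (0, 177), (0, 180),
     (0, 182), (0, 183), (1, 183), (0, 187), (0, 0), (0, 0), (0, 193), (1, 193), (0, 196),
     (0, 198), (0, 199), (1, 199), (0, 0), (0, 202), (1, 202), (0, 203), (1, 203), (2, 203),
     (0, 206), (0, 208), (0, 209), (1, 209), (0, 0), (0, 212), (1, 212), (0, 213), (1, 213),
     (2, 213), (0, 215), (0, 216), (1, 216), (0, 217), (1, 217), (0, 0), (0, 218), (1, 218),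
     (2, 218), (3, 218), (0, 0), (0, 221), (1, 221), (0, 222), (1, 222), (2, 222), (0, 0), (0, 0),
     (4, 221), (4, 222), (0, 224), (1, 224), (2, 224), (3, 224), (4, 224), (0, 225), (1, 225),
     (2, 225), (3, 225), (4, 225), (5, 225), (6, 225), (0, 0), (0, 228), (1, 228), (0, 229),
     (1, 229), (2, 229), (0, 0), (0, 0), (4, 228), (4, 229), (0, 231), (1, 231), (2, 231),
     (3, 231), (4, 231), (0, 0), (0, 0), (6, 228), (6, 229), (0, 0), (6, 231), (0, 233), (1, 233),
     (2, 233), (3, 233), (4, 233), (5, 233), (0, 0), (0, 0), (8, 228), (8, 229), (0, 0), (0, 235),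
     (1, 235), (2, 235), (3, 235), (0, 0), (0, 0), (10, 228), (0, 0), (0, 0), (0, 238), (1, 239),
     (2, 238), (2, 239), (11, 229), (3, 238), (3, 239), (0, 0), (0, 0), (4, 238), (4, 239),
     (5, 235), (10, 231), (11, 231), (5, 238), (5, 239), (0, 0), (6, 235), (0, 0), (0, 0),
     (6, 238), (6, 239), (8, 233), (7, 235), (10, 233), (11, 233), (7, 238), (7, 239), (8, 235),
     (0, 0), (0, 0), (8, 238), (8, 239), (10, 235), (11, 235), (9, 238), (9, 239), (0, 0),
     (10, 238), (10, 239), (11, 238), (11, 239), (12, 239), (14, 233), (0, 0), (14, 235), (0, 0),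
     (0, 0), (14, 238), (14, 239), (15, 235), (0, 0), (0, 0), (15, 238), (15, 239), (17, 235),
     (18, 235), (16, 238), (16, 239), (0, 0), (17, 238), (17, 239), (18, 238), (18, 239),
     (19, 239), (0, 0), (0, 0), (21, 238), (21, 239), (0, 0), (0, 0), (0, 0), (0, 0), (0, 0),
     (24, 239), (0, 0), (26, 238), (26, 239), (27, 238), (27, 239), (28, 239), (0, 0), (0, 0),
     (31, 239), (33, 239), (0, 0), (36, 238), (36, 239), (37, 238), (37, 239), (38, 239), (0, 0),
     (0, 0), (41, 239), (43, 239), (46, 238), (46, 239), (47, 239), (49, 239), (52, 239), (0, 0),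
     (0, 0), (57, 239), (59, 239), (0, 0), (66, 239), (71, 239), (0, 0), (0, 0), (79, 239),
     (81, 239), (0, 0), (88, 239), (0, 0), (99, 239), (0, 0), (110, 239), (0, 0), (0, 0),
     (119, 239), (120, 238)],
    [(1, 119), (2, 118), (1, 121), (1, 124), (0, 129), (0, 134), (1, 139), (0, 146), (1, 150),
     (1, 154), (0, 158), (0, 160), (0, 161), (1, 161), (1, 167), (1, 172), (1, 176), (0, 180),
     (0, 182), (0, 183), (1, 183), (0, 0), (1, 189), (1, 191), (2, 191), (0, 0), (1, 195),
     (1, 197), (2, 197), (0, 0), (0, 201), (0, 202), (1, 202), (0, 203), (1, 203), (2, 203),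
     (1, 205), (1, 207), (2, 207), (0, 0), (0, 211), (0, 212), (1, 212), (0, 213), (1, 213),
     (2, 213), (0, 215), (0, 216), (1, 216), (0, 217), (1, 217), (2, 217), (0, 0), (1, 218),
     (2, 218), (3, 218), (1, 219), (2, 219), (0, 0), (3, 219), (0, 0), (0, 0), (0, 223), (1, 223),
     (2, 223), (3, 223), (0, 224), (1, 224), (2, 224), (3, 224), (4, 224), (0, 225), (1, 225),
     (2, 225), (3, 225), (4, 225), (5, 225), (6, 225), (1, 226), (2, 226), (0, 0), (3, 226),
     (0, 0), (0, 0), (0, 230), (1, 230), (2, 230), (3, 230), (0, 231), (1, 231), (2, 231),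
     (3, 231), (4, 231), (6, 226), (0, 0), (0, 0), (0, 0), (6, 230), (6, 231), (0, 233), (1, 233),
     (2, 233), (3, 233), (4, 233), (5, 233), (8, 226), (0, 0), (0, 0), (0, 0), (8, 230), (9, 226),
     (0, 0), (0, 0), (0, 0), (0, 236), (1, 236), (2, 236), (0, 237), (1, 237), (0, 238), (0, 0),
     (2, 238), (0, 0), (3, 237), (3, 238), (0, 0), (4, 236), (4, 237), (4, 238), (13, 230),
     (9, 231), (5, 236), (5, 237), (5, 238), (13, 231), (0, 0), (0, 0), (6, 236), (6, 237),
     (6, 238), (0, 0), (8, 233), (9, 233), (7, 236), (7, 237), (7, 238), (13, 233), (0, 0),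
     (8, 236), (8, 237), (8, 238), (0, 0), (9, 236), (9, 237), (9, 238), (0, 0), (10, 237),
     (10, 238), (13, 236), (11, 238), (13, 237), (13, 238), (14, 233), (0, 0), (0, 0), (14, 236),
     (14, 237), (14, 238), (0, 0), (0, 0), (15, 236), (15, 237), (15, 238), (0, 0), (16, 236),
     (16, 237), (16, 238), (0, 0), (17, 237), (17, 238), (20, 236), (18, 238), (20, 237),
     (20, 238), (0, 0), (0, 0), (0, 0), (0, 0), (22, 237), (22, 238), (0, 0), (23, 238), (0, 0),
     (0, 0), (26, 237), (26, 238), (0, 0), (27, 238), (0, 0), (0, 0), (30, 238), (32, 237),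
     (32, 238), (34, 238), (36, 237), (36, 238), (0, 0), (37, 238), (0, 0), (0, 0), (40, 238),
     (42, 237), (42, 238), (44, 238), (46, 238), (48, 237), (48, 238), (50, 238), (53, 238),
     (56, 238), (0, 0), (0, 0), (0, 0), (63, 238), (67, 238), (72, 238), (78, 238), (0, 0), (0, 0),
     (0, 0), (85, 238), (89, 238), (0, 0), (100, 238), (0, 0), (0, 0), (115, 238), (118, 238),
     (121, 237), (0, 0)],
    [(2, 117), (0, 120), (0, 122), (0, 125), (0, 129), (0, 134), (0, 140), (0, 146), (0, 151),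
     (0, 155), (0, 158), (0, 160), (0, 161), (1, 161), (0, 168), (0, 173), (0, 177), (0, 180),
     (0, 182), (0, 183), (1, 183), (0, 0), (0, 190), (0, 192), (0, 0), (2, 192), (0, 196),
     (0, 198), (0, 0), (2, 198), (0, 201), (0, 202), (1, 202), (0, 203), (1, 203), (2, 203),
     (0, 206), (0, 208), (0, 0), (2, 208), (0, 211), (0, 212), (1, 212), (0, 213), (1, 213),
     (2, 213), (0, 215), (0, 216), (1, 216), (0, 217), (1, 217), (2, 217), (0, 218), (0, 0),
     (2, 218), (3, 218), (0, 220), (0, 0), (2, 220), (0, 0), (3, 220), (0, 0), (0, 223), (1, 223),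
     (2, 223), (3, 223), (0, 224), (1, 224), (2, 224), (3, 224), (4, 224), (0, 225), (1, 225),
     (2, 225), (3, 225), (4, 225), (5, 225), (6, 225), (0, 227), (0, 0), (2, 227), (0, 0),
     (3, 227), (0, 0), (0, 230), (1, 230), (2, 230), (3, 230), (0, 231), (1, 231), (2, 231),
     (3, 231), (4, 231), (0, 0), (6, 227), (0, 0), (0, 0), (6, 230), (6, 231), (0, 233), (1, 233),
     (2, 233), (3, 233), (4, 233), (5, 233), (0, 0), (8, 227), (0, 0), (0, 0), (8, 230), (0, 0),
     (9, 227), (0, 0), (0, 0), (0, 236), (1, 236), (2, 236), (0, 237), (1, 237), (0, 0), (1, 239),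
     (0, 0), (2, 239), (3, 237), (0, 0), (3, 239), (4, 236), (4, 237), (12, 230), (4, 239),
     (9, 231), (5, 236), (5, 237), (12, 231), (5, 239), (0, 0), (0, 0), (6, 236), (6, 237), (0, 0),
     (6, 239), (8, 233), (9, 233), (7, 236), (7, 237), (12, 233), (7, 239), (0, 0), (8, 236),
     (8, 237), (0, 0), (8, 239), (9, 236), (9, 237), (0, 0), (9, 239), (10, 237), (12, 236),
     (10, 239), (12, 237), (11, 239), (12, 239), (14, 233), (0, 0), (0, 0), (14, 236), (14, 237),
     (0, 0), (14, 239), (0, 0), (15, 236), (15, 237), (0, 0), (15, 239), (16, 236), (16, 237),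
     (0, 0), (16, 239), (17, 237), (19, 236), (17, 239), (19, 237), (18, 239), (19, 239), (0, 0),
     (0, 0), (0, 0), (0, 0), (22, 237), (0, 0), (22, 239), (0, 0), (23, 239), (0, 0), (26, 237),
     (0, 0), (26, 239), (0, 0), (27, 239), (0, 0), (31, 237), (30, 239), (31, 239), (33, 239),
     (36, 237), (0, 0), (36, 239), (0, 0), (37, 239), (0, 0), (41, 237), (40, 239), (41, 239),
     (43, 239), (47, 237), (46, 239), (47, 239), (49, 239), (52, 239), (0, 0), (56, 239), (0, 0),
     (0, 0), (62, 239), (66, 239), (71, 239), (0, 0), (78, 239), (0, 0), (0, 0), (84, 239),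
     (88, 239), (0, 0), (99, 239), (0, 0), (0, 0), (114, 239), (117, 239), (0, 0), (122, 237)],
    [(1, 119), (0, 120), (0, 122), (0, 125), (0, 129), (0, 134), (0, 140), (0, 146), (0, 151),
     (0, 155), (0, 158), (0, 160), (0, 161), (1, 161), (0, 168), (0, 173), (0, 177), (0, 180),
     (0, 182), (0, 183), (1, 183), (0, 0), (0, 190), (0, 0), (0, 193), (1, 193), (0, 196), (0, 0),
     (0, 199), (1, 199), (0, 201), (0, 202), (1, 202), (0, 203), (1, 203), (2, 203), (0, 206),
     (0, 0), (0, 209), (1, 209), (0, 211), (0, 212), (1, 212), (0, 213), (1, 213), (2, 213),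
     (0, 215), (0, 216), (1, 216), (0, 217), (1, 217), (2, 217), (0, 218), (1, 218), (0, 0),
     (3, 218), (0, 0), (0, 221), (1, 221), (0, 0), (0, 0), (3, 221), (0, 223), (1, 223), (2, 223),
     (3, 223), (0, 224), (1, 224), (2, 224), (3, 224), (4, 224), (0, 225), (1, 225), (2, 225),
     (3, 225), (4, 225), (5, 225), (6, 225), (0, 0), (0, 228), (1, 228), (0, 0), (0, 0), (3, 228),
     (0, 230), (1, 230), (2, 230), (3, 230), (0, 231), (1, 231), (2, 231), (3, 231), (4, 231),
     (0, 0), (0, 0), (6, 228), (0, 0), (6, 230), (6, 231), (0, 233), (1, 233), (2, 233), (3, 233),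
     (4, 233), (5, 233), (0, 0), (0, 0), (8, 228), (0, 0), (8, 230), (0, 0), (0, 0), (9, 228),
     (0, 0), (0, 236), (1, 236), (2, 236), (0, 0), (0, 0), (0, 238), (1, 239), (2, 238), (2, 239),
     (0, 0), (3, 238), (3, 239), (4, 236), (11, 230), (4, 238), (4, 239), (9, 231), (5, 236),
     (11, 231), (5, 238), (5, 239), (0, 0), (0, 0), (6, 236), (0, 0), (6, 238), (6, 239), (8, 233),
     (9, 233), (7, 236), (11, 233), (7, 238), (7, 239), (0, 0), (8, 236), (0, 0), (8, 238),
     (8, 239), (9, 236), (0, 0), (9, 238), (9, 239), (11, 236), (10, 238), (10, 239), (11, 238),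
     (11, 239), (12, 239), (14, 233), (0, 0), (0, 0), (14, 236), (0, 0), (14, 238), (14, 239),
     (0, 0), (15, 236), (0, 0), (15, 238), (15, 239), (16, 236), (0, 0), (16, 238), (16, 239),
     (18, 236), (17, 238), (17, 239), (18, 238), (18, 239), (19, 239), (0, 0), (0, 0), (0, 0),
     (0, 0), (0, 0), (22, 238), (22, 239), (0, 0), (0, 0), (24, 239), (0, 0), (26, 238), (26, 239),
     (0, 0), (0, 0), (28, 239), (30, 238), (30, 239), (31, 239), (33, 239), (0, 0), (36, 238),
     (36, 239), (0, 0), (0, 0), (38, 239), (40, 238), (40, 239), (41, 239), (43, 239), (46, 238),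
     (46, 239), (47, 239), (49, 239), (52, 239), (0, 0), (0, 0), (57, 239), (0, 0), (62, 239),
     (66, 239), (71, 239), (0, 0), (0, 0), (79, 239), (0, 0), (84, 239), (88, 239), (0, 0),
     (99, 239), (0, 0), (0, 0), (114, 239), (0, 0), (119, 239), (120, 238)],
    [(1, 119), (0, 120), (0, 122), (0, 125), (0, 129), (0, 134), (0, 140), (0, 146), (0, 151),
     (0, 155), (0, 158), (0, 160), (0, 161), (1, 161), (0, 168), (0, 173), (0, 177), (0, 180),
     (0, 182), (0, 183), (1, 183), (0, 0), (0, 0), (0, 192), (0, 193), (1, 193), (0, 0), (0, 198),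
     (0, 199), (1, 199), (0, 201), (0, 202), (1, 202), (0, 203), (1, 203), (2, 203), (0, 0),
     (0, 208), (0, 209), (1, 209), (0, 211), (0, 212), (1, 212), (0, 213), (1, 213), (2, 213),
     (0, 215), (0, 216), (1, 216), (0, 217), (1, 217), (2, 217), (0, 218), (1, 218), (2, 218),
     (0, 0), (0, 0), (0, 0), (0, 0), (0, 222), (1, 222), (2, 222), (0, 223), (1, 223), (2, 223),
     (3, 223), (0, 224), (1, 224), (2, 224), (3, 224), (4, 224), (0, 225), (1, 225), (2, 225),
     (3, 225), (4, 225), (5, 225), (6, 225), (0, 0), (0, 0), (0, 0), (0, 229), (1, 229), (2, 229),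
     (0, 230), (1, 230), (2, 230), (3, 230), (0, 231), (1, 231), (2, 231), (3, 231), (4, 231),
     (0, 0), (0, 0), (0, 0), (6, 229), (6, 230), (6, 231), (0, 233), (1, 233), (2, 233), (3, 233),
     (4, 233), (5, 233), (0, 0), (0, 0), (0, 0), (8, 229), (8, 230), (0, 0), (0, 0), (0, 0),
     (9, 229), (0, 0), (0, 0), (0, 0), (0, 237), (1, 237), (0, 238), (1, 239), (2, 238), (2, 239),
     (3, 237), (3, 238), (3, 239), (10, 230), (4, 237), (4, 238), (4, 239), (9, 231), (10, 231),
     (5, 237), (5, 238), (5, 239), (0, 0), (0, 0), (0, 0), (6, 237), (6, 238), (6, 239), (8, 233),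
     (9, 233), (10, 233), (7, 237), (7, 238), (7, 239), (0, 0), (0, 0), (8, 237), (8, 238),
     (8, 239), (0, 0), (9, 237), (9, 238), (9, 239), (10, 237), (10, 238), (10, 239), (11, 238),
     (11, 239), (12, 239), (14, 233), (0, 0), (0, 0), (0, 0), (14, 237), (14, 238), (14, 239),
     (0, 0), (0, 0), (15, 237), (15, 238), (15, 239), (0, 0), (16, 237), (16, 238), (16, 239),
     (17, 237), (17, 238), (17, 239), (18, 238), (18, 239), (19, 239), (0, 0), (0, 0), (0, 0),
     (0, 0), (0, 0), (0, 0), (0, 0), (23, 238), (23, 239), (24, 239), (0, 0), (0, 0), (0, 0),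
     (27, 238), (27, 239), (28, 239), (30, 238), (30, 239), (31, 239), (33, 239), (0, 0), (0, 0),
     (0, 0), (37, 238), (37, 239), (38, 239), (40, 238), (40, 239), (41, 239), (43, 239),
     (46, 238), (46, 239), (47, 239), (49, 239), (52, 239), (0, 0), (0, 0), (0, 0), (59, 239),
     (62, 239), (66, 239), (71, 239), (0, 0), (0, 0), (0, 0), (81, 239), (84, 239), (88, 239),
     (0, 0), (99, 239), (0, 0), (0, 0), (0, 0), (117, 239), (119, 239), (120, 238)],
    [(1, 119), (0, 120), (3, 116), (2, 123), (2, 127), (2, 132), (0, 140), (2, 144), (0, 151),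
     (0, 155), (0, 158), (0, 160), (2, 159), (2, 160), (2, 166), (2, 171), (2, 175), (2, 178),
     (3, 178), (0, 0), (0, 0), (0, 187), (0, 190), (0, 192), (2, 191), (2, 192), (0, 196),
     (0, 198), (2, 197), (2, 198), (0, 201), (2, 200), (2, 201), (3, 200), (3, 201), (0, 0),
     (0, 206), (0, 208), (2, 207), (2, 208), (0, 211), (2, 210), (2, 211), (3, 210), (3, 211),
     (0, 0), (0, 215), (2, 214), (2, 215), (3, 214), (3, 215), (0, 0), (4, 214), (4, 215), (0, 0),
     (0, 0), (0, 0), (0, 221), (1, 221), (0, 222), (1, 222), (2, 222), (0, 223), (1, 223),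
     (2, 223), (3, 223), (0, 224), (1, 224), (2, 224), (3, 224), (4, 224), (0, 225), (1, 225),
     (2, 225), (3, 225), (4, 225), (5, 225), (6, 225), (0, 227), (2, 226), (2, 227), (3, 226),
     (3, 227), (0, 0), (4, 226), (4, 227), (0, 0), (0, 0), (5, 226), (5, 227), (0, 0), (0, 0),
     (0, 0), (0, 232), (1, 232), (2, 232), (3, 232), (4, 232), (5, 232), (7, 226), (7, 227),
     (0, 0), (0, 0), (0, 0), (0, 0), (0, 234), (1, 234), (2, 234), (3, 234), (4, 234), (0, 235),
     (1, 235), (2, 235), (3, 235), (0, 236), (1, 236), (2, 236), (0, 237), (1, 237), (12, 226),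
     (13, 227), (0, 0), (0, 0), (3, 237), (0, 0), (0, 0), (4, 236), (4, 237), (0, 0), (0, 0),
     (5, 235), (5, 236), (5, 237), (0, 0), (0, 0), (6, 234), (6, 235), (6, 236), (6, 237),
     (12, 232), (13, 232), (7, 234), (7, 235), (7, 236), (7, 237), (0, 0), (0, 0), (8, 235),
     (8, 236), (8, 237), (12, 234), (13, 234), (9, 236), (9, 237), (12, 235), (13, 235), (10, 237),
     (12, 236), (13, 236), (12, 237), (13, 237), (0, 0), (0, 0), (14, 234), (14, 235), (14, 236),
     (14, 237), (0, 0), (0, 0), (15, 235), (15, 236), (15, 237), (0, 0), (0, 0), (16, 236),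
     (16, 237), (0, 0), (0, 0), (17, 237), (0, 0), (0, 0), (0, 0), (0, 0), (0, 0), (21, 236),
     (21, 237), (24, 235), (25, 235), (22, 237), (24, 236), (25, 236), (24, 237), (25, 237),
     (0, 0), (26, 237), (28, 236), (29, 236), (28, 237), (29, 237), (0, 0), (31, 237), (32, 237),
     (0, 0), (0, 0), (36, 237), (38, 236), (39, 236), (38, 237), (39, 237), (0, 0), (41, 237),
     (42, 237), (0, 0), (0, 0), (47, 237), (48, 237), (0, 0), (0, 0), (0, 0), (57, 237), (58, 237),
     (61, 236), (61, 237), (64, 237), (68, 237), (73, 237), (79, 237), (80, 237), (0, 0), (0, 0),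
     (0, 0), (0, 0), (95, 237), (0, 0), (107, 237), (112, 237), (116, 237), (123, 236), (0, 0),
     (0, 0)],
    [(1, 119), (3, 115), (0, 122), (1, 124), (1, 128), (1, 133), (0, 140), (1, 145), (0, 151),
     (0, 155), (0, 158), (1, 159), (0, 161), (1, 161), (1, 167), (1, 172), (1, 176), (1, 179),
     (0, 0), (3, 179), (0, 0), (0, 187), (0, 190), (1, 191), (0, 193), (1, 193), (0, 196),
     (1, 197), (0, 199), (1, 199), (1, 200), (0, 202), (1, 202), (3, 200), (0, 0), (3, 202),
     (0, 206), (1, 207), (0, 209), (1, 209), (1, 210), (0, 212), (1, 212), (3, 210), (0, 0),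
     (3, 212), (1, 214), (0, 216), (1, 216), (3, 214), (0, 0), (3, 216), (4, 214), (0, 0),
     (4, 216), (0, 0), (0, 220), (0, 0), (1, 221), (0, 222), (1, 222), (2, 222), (0, 223),
     (1, 223), (2, 223), (3, 223), (0, 224), (1, 224), (2, 224), (3, 224), (4, 224), (0, 225),
     (1, 225), (2, 225), (3, 225), (4, 225), (5, 225), (6, 225), (1, 226), (0, 228), (1, 228),
     (3, 226), (0, 0), (3, 228), (4, 226), (0, 0), (4, 228), (0, 0), (5, 226), (0, 0), (5, 228),
     (0, 0), (0, 0), (0, 232), (1, 232), (2, 232), (3, 232), (4, 232), (5, 232), (7, 226), (0, 0),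
     (7, 228), (0, 0), (0, 0), (0, 0), (0, 234), (1, 234), (2, 234), (3, 234), (4, 234), (0, 235),
     (1, 235), (2, 235), (3, 235), (0, 236), (1, 236), (2, 236), (11, 226), (0, 0), (0, 238),
     (0, 0), (2, 238), (13, 228), (0, 0), (3, 238), (0, 0), (4, 236), (0, 0), (4, 238), (0, 0),
     (5, 235), (5, 236), (0, 0), (5, 238), (0, 0), (6, 234), (6, 235), (6, 236), (11, 232),
     (6, 238), (13, 232), (7, 234), (7, 235), (7, 236), (0, 0), (7, 238), (0, 0), (8, 235),
     (8, 236), (11, 234), (8, 238), (13, 234), (9, 236), (11, 235), (9, 238), (13, 235), (11, 236),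
     (10, 238), (13, 236), (11, 238), (0, 0), (13, 238), (0, 0), (14, 234), (14, 235), (14, 236),
     (0, 0), (14, 238), (0, 0), (15, 235), (15, 236), (0, 0), (15, 238), (0, 0), (16, 236), (0, 0),
     (16, 238), (0, 0), (0, 0), (17, 238), (0, 0), (0, 0), (0, 0), (0, 0), (21, 236), (23, 235),
     (21, 238), (25, 235), (23, 236), (22, 238), (25, 236), (23, 238), (0, 0), (25, 238),
     (27, 236), (26, 238), (29, 236), (27, 238), (0, 0), (29, 238), (30, 238), (0, 0), (32, 238),
     (0, 0), (37, 236), (36, 238), (39, 236), (37, 238), (0, 0), (39, 238), (40, 238), (0, 0),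
     (42, 238), (0, 0), (46, 238), (0, 0), (48, 238), (0, 0), (0, 0), (56, 238), (60, 236),
     (58, 238), (60, 238), (63, 238), (67, 238), (72, 238), (78, 238), (0, 0), (80, 238), (0, 0),
     (0, 0), (0, 0), (94, 238), (0, 0), (106, 238), (111, 238), (115, 238), (0, 0), (124, 236),
     (0, 0)],
    [(3, 114), (0, 120), (0, 122), (0, 125), (0, 129), (0, 134), (0, 140), (0, 146), (0, 151),
     (0, 155), (0, 158), (0, 160), (0, 161), (1, 161), (0, 168), (0, 173), (0, 177), (0, 180),
     (0, 0), (0, 0), (3, 180), (0, 187), (0, 190), (0, 192), (0, 193), (1, 193), (0, 196),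
     (0, 198), (0, 199), (1, 199), (0, 201), (0, 202), (1, 202), (0, 0), (3, 201), (3, 202),
     (0, 206), (0, 208), (0, 209), (1, 209), (0, 211), (0, 212), (1, 212), (0, 0), (3, 211),
     (3, 212), (0, 215), (0, 216), (1, 216), (0, 0), (3, 215), (3, 216), (0, 0), (4, 215),
     (4, 216), (0, 0), (0, 220), (0, 221), (0, 0), (0, 222), (1, 222), (2, 222), (0, 223),
     (1, 223), (2, 223), (3, 223), (0, 224), (1, 224), (2, 224), (3, 224), (4, 224), (0, 225),
     (1, 225), (2, 225), (3, 225), (4, 225), (5, 225), (6, 225), (0, 227), (0, 228), (1, 228),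
     (0, 0), (3, 227), (3, 228), (0, 0), (4, 227), (4, 228), (0, 0), (0, 0), (5, 227), (5, 228),
     (0, 0), (0, 0), (0, 232), (1, 232), (2, 232), (3, 232), (4, 232), (5, 232), (0, 0), (7, 227),
     (7, 228), (0, 0), (0, 0), (0, 0), (0, 234), (1, 234), (2, 234), (3, 234), (4, 234), (0, 235),
     (1, 235), (2, 235), (3, 235), (0, 236), (1, 236), (2, 236), (0, 0), (11, 227), (0, 0),
     (1, 239), (12, 228), (2, 239), (0, 0), (0, 0), (3, 239), (4, 236), (0, 0), (0, 0), (4, 239),
     (5, 235), (5, 236), (0, 0), (0, 0), (5, 239), (6, 234), (6, 235), (6, 236), (11, 232),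
     (12, 232), (6, 239), (7, 234), (7, 235), (7, 236), (0, 0), (0, 0), (7, 239), (8, 235),
     (8, 236), (11, 234), (12, 234), (8, 239), (9, 236), (11, 235), (12, 235), (9, 239), (11, 236),
     (12, 236), (10, 239), (0, 0), (11, 239), (12, 239), (0, 0), (14, 234), (14, 235), (14, 236),
     (0, 0), (0, 0), (14, 239), (15, 235), (15, 236), (0, 0), (0, 0), (15, 239), (16, 236), (0, 0),
     (0, 0), (16, 239), (0, 0), (0, 0), (17, 239), (0, 0), (0, 0), (0, 0), (21, 236), (23, 235),
     (24, 235), (21, 239), (23, 236), (24, 236), (22, 239), (0, 0), (23, 239), (24, 239),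
     (27, 236), (28, 236), (26, 239), (0, 0), (27, 239), (28, 239), (0, 0), (30, 239), (31, 239),
     (0, 0), (37, 236), (38, 236), (36, 239), (0, 0), (37, 239), (38, 239), (0, 0), (40, 239),
     (41, 239), (0, 0), (0, 0), (46, 239), (47, 239), (0, 0), (0, 0), (59, 236), (56, 239),
     (57, 239), (59, 239), (62, 239), (66, 239), (71, 239), (0, 0), (78, 239), (79, 239), (0, 0),
     (0, 0), (0, 0), (93, 239), (0, 0), (105, 239), (110, 239), (114, 239), (0, 0), (0, 0),
     (125, 236)],
    [(1, 119), (2, 118), (1, 121), (0, 125), (1, 128), (1, 133), (0, 140), (1, 145), (0, 151),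
     (0, 155), (1, 157), (0, 160), (0, 161), (1, 161), (1, 167), (1, 172), (1, 176), (0, 0),
     (1, 181), (2, 181), (0, 0), (0, 187), (1, 189), (0, 192), (0, 193), (1, 193), (1, 195),
     (0, 198), (0, 199), (1, 199), (1, 200), (2, 200), (0, 0), (0, 203), (1, 203), (2, 203),
     (1, 205), (0, 208), (0, 209), (1, 209), (1, 210), (2, 210), (0, 0), (0, 213), (1, 213),
     (2, 213), (1, 214), (2, 214), (0, 0), (0, 217), (1, 217), (2, 217), (4, 214), (0, 0), (0, 0),
     (4, 217), (0, 220), (0, 221), (1, 221), (0, 0), (1, 222), (2, 222), (0, 223), (1, 223),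
     (2, 223), (3, 223), (0, 224), (1, 224), (2, 224), (3, 224), (4, 224), (0, 225), (1, 225),
     (2, 225), (3, 225), (4, 225), (5, 225), (6, 225), (1, 226), (2, 226), (0, 0), (0, 229),
     (1, 229), (2, 229), (4, 226), (0, 0), (0, 0), (4, 229), (5, 226), (0, 0), (0, 0), (5, 229),
     (0, 0), (0, 232), (1, 232), (2, 232), (3, 232), (4, 232), (5, 232), (7, 226), (0, 0), (0, 0),
     (7, 229), (0, 0), (0, 0), (0, 234), (1, 234), (2, 234), (3, 234), (4, 234), (0, 235),
     (1, 235), (2, 235), (3, 235), (10, 226), (0, 0), (0, 0), (0, 237), (1, 237), (0, 238), (0, 0),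
     (2, 238), (0, 0), (3, 237), (3, 238), (13, 229), (0, 0), (4, 237), (4, 238), (0, 0), (5, 235),
     (0, 0), (5, 237), (5, 238), (0, 0), (6, 234), (6, 235), (10, 232), (6, 237), (6, 238),
     (13, 232), (7, 234), (7, 235), (0, 0), (7, 237), (7, 238), (0, 0), (8, 235), (10, 234),
     (8, 237), (8, 238), (13, 234), (10, 235), (9, 237), (9, 238), (13, 235), (10, 237), (10, 238),
     (0, 0), (11, 238), (13, 237), (13, 238), (0, 0), (14, 234), (14, 235), (0, 0), (14, 237),
     (14, 238), (0, 0), (15, 235), (0, 0), (15, 237), (15, 238), (0, 0), (0, 0), (16, 237),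
     (16, 238), (0, 0), (0, 0), (0, 0), (0, 0), (18, 238), (0, 0), (0, 0), (22, 235), (21, 237),
     (21, 238), (25, 235), (22, 237), (22, 238), (0, 0), (23, 238), (25, 237), (25, 238),
     (26, 237), (26, 238), (0, 0), (27, 238), (29, 237), (29, 238), (30, 238), (0, 0), (0, 0),
     (34, 238), (36, 237), (36, 238), (0, 0), (37, 238), (39, 237), (39, 238), (40, 238), (0, 0),
     (0, 0), (44, 238), (46, 238), (0, 0), (0, 0), (50, 238), (0, 0), (56, 238), (58, 237),
     (58, 238), (60, 238), (63, 238), (67, 238), (72, 238), (78, 238), (0, 0), (0, 0), (82, 238),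
     (0, 0), (0, 0), (94, 238), (0, 0), (106, 238), (111, 238), (0, 0), (118, 238), (121, 237),
     (0, 0)]
  ]

set_option maxRecDepth 1000000 in
theorem rowsD_E8_50 : rowsDB chevE8 certE8_50 50 = true := by decide +kernel

end Cfsg.Agent.Lib.Helper10.E8CC.Helper9
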