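import Mathlib
import Cfsg.Agent.S3762
import Cfsg.Agent.Lib.Helper1.Frattini

/-!
# 2-groups of symplectic type, exponent 4 and centre of order 2 are extraspecial (element form)
-/

set_option autoImplicit false

namespace Cfsg.Agent.Lib.Helper9.Ex24

open Subgroup
open scoped commutatorElement

section abstract
variable {G : Type*} [Group G] [Finite G]

/-- A group having an element of order at least 8 (in the form `g ^ 4 ≠ 1`) in each of the three
"maximal class" alternatives of order at least 16. -/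
theorem exists_pow_four_ne_one_of_big {R : Type*} [Group R] [Finite R] (h16 : 16 ≤ Nat.card R)
    (h : (∃ m : ℕ, Nonempty (R ≃* DihedralGroup m)) ∨ (∃ m : ℕ, Nonempty (R ≃* QuaternionGroup m)) ∨
      Cfsg.IsQuasiDihedral R) : ∃ g : R, g ^ 4 ≠ 1 := by
  rcases h with ⟨m, ⟨e⟩⟩ | ⟨m, ⟨e⟩⟩ | ⟨n, hn, hcard, x, y, hx, hy, hxy⟩
  · -- dihedral
    have hm0 : m ≠ 0 := by
      rintro rfl
      have : Infinite (DihedralGroup 0) := by
        have : Infinite (ZMod 0) := inferInstanceAs (Infinite ℤ)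
        exact Infinite.of_injective (fun i : ZMod 0 => DihedralGroup.r i) (fun a b hab => by
          injection hab)
      have hfin : Finite (DihedralGroup 0) := Finite.of_equiv R e.toEquiv
      exact not_finite (DihedralGroup 0)
    have : NeZero m := ⟨hm0⟩
    have hcard : Nat.card R = 2 * m := by
      rw [Nat.card_congr e.toEquiv, DihedralGroup.nat_card]
    have hm8 : 8 ≤ m := by omega
    refine ⟨e.symm (DihedralGroup.r 1), ?_⟩
    intro h4
    have h4' : (DihedralGroup.r (1 : ZMod m)) ^ 4 = 1 := by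
      have := congrArg e h4
      simpa using this
    have := orderOf_dvd_of_pow_eq_one h4'
    rw [DihedralGroup.orderOf_r_one] at this
    have := Nat.le_of_dvd (by norm_num) this
    omega
  · -- quaternion
    have hm0 : m ≠ 0 := by
      rintro rfl
      have : Infinite (QuaternionGroup 0) := by
        have : Infinite (ZMod (2 * 0)) := inferInstanceAs (Infinite ℤ)
        exact Infinite.of_injective (fun i : ZMod (2 * 0) => QuaternionGroup.a i) (fun a b hab => by
          injection hab)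
      have hfin : Finite (QuaternionGroup 0) := Finite.of_equiv R e.toEquiv
      exact not_finite (QuaternionGroup 0)
    have : NeZero m := ⟨hm0⟩
    have hcard : Nat.card R = 4 * m := by
      rw [Nat.card_congr e.toEquiv, Nat.card_eq_fintype_card, QuaternionGroup.card]
    have hm4 : 4 ≤ m := by omega
    refine ⟨e.symm (QuaternionGroup.a 1), ?_⟩
    intro h4
    have h4' : (QuaternionGroup.a (1 : ZMod (2 * m))) ^ 4 = 1 := by
      have := congrArg e h4
      simpa using this
    have := orderOf_dvd_of_pow_eq_one h4'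
    rw [QuaternionGroup.orderOf_a_one] at this
    have := Nat.le_of_dvd (by norm_num) this
    omega
  · refine ⟨x, ?_⟩
    intro h4
    have := orderOf_dvd_of_pow_eq_one h4
    rw [hx] at this
    have h8 : 2 ^ 3 ≤ 2 ^ n := Nat.pow_le_pow_right (by norm_num) hn
    have := Nat.le_of_dvd (by norm_num) this
    omega

/-- Element form of "extraspecial": for a 2-group of symplectic type with `g ^ 4 = 1` for all `g` and centre of
order 2, commutators and squares are central. -/
theorem comm_sq_central (hG : IsPGroup 2 G)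
    (hsymp : ∀ A : Subgroup G, A.Characteristic → IsMulCommutative A → IsCyclic A)
    (hexp : ∀ g : G, g ^ 4 = 1) (hZ : Nat.card (center G) = 2) (hbig : 2 < Nat.card G) :
    ∀ g h : G, ⁅g, h⁆ ∈ center G ∧ g ^ 2 ∈ center G := by
  have : Fact (Nat.Prime 2) := ⟨Nat.prime_two⟩
  obtain ⟨E, R, hcomm, hsup, hE, hR⟩ := Cfsg.Agent.S3762.result hG hsymp
  -- R is cyclic
  have hRc : IsCyclic R := by
    rcases hR with h | ⟨-, h16, h⟩
    · exact h
    · exfalso
      obtain ⟨g, hg⟩ := exists_pow_four_ne_one_of_big h16 h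
      apply hg
      apply Subtype.ext
      rw [SubgroupClass.coe_pow]
      exact hexp g
  -- every element is a product
  have hprod : ∀ g : G, ∃ e ∈ E, ∃ r ∈ R, g = e * r := by
    intro g
    have hg : g ∈ E ⊔ R := by rw [hsup]; exact mem_top g
    exact Cfsg.Agent.Lib.Helper16.SympType.exists_mul_of_mem_sup' hcomm hg
  -- R is central
  have hRcomm : ∀ a ∈ R, ∀ b ∈ R, a * b = b * a := by
    intro a ha b hb
    have hcm : IsMulCommutative ↥R := IsCyclic.isMulCommutative
    have h1 : (⟨a, ha⟩ : ↥R) * ⟨b, hb⟩ = ⟨b, hb⟩ * ⟨a, ha⟩ := hcm.is_comm.comm _ _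
    exact congrArg Subtype.val h1
  have hRcen : ∀ r ∈ R, r ∈ center G := by
    intro r hr
    rw [mem_center_iff]
    intro g
    obtain ⟨e, he, r', hr', rfl⟩ := hprod g
    rw [mul_assoc, hRcomm r' hr' r hr, ← mul_assoc, hcomm e he r hr, mul_assoc]
  -- E is not trivial
  have hEne : E ≠ ⊥ := by
    rintro rfl
    have hall : ∀ g : G, g ∈ center G := by
      intro g
      obtain ⟨e, he, r, hr, rfl⟩ := hprod g
      rw [mem_bot] at he
      subst he
      rw [one_mul]
      exact hRcen r hr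
    have : center G = ⊤ := by
      rw [eq_top_iff]; intro g _; exact hall g
    rw [this, card_top] at hZ
    omega
  have hEx : Cfsg.IsExtraspecial 2 ↥E := hE.resolve_left hEne
  obtain ⟨⟨hEp, hfr, hco⟩, hcen⟩ := hEx
  -- centre of E maps into centre of G
  have hZE : ∀ c : ↥E, c ∈ center ↥E → (c : G) ∈ center G := by
    intro c hc
    rw [mem_center_iff]
    intro g
    obtain ⟨e, he, r, hr, rfl⟩ := hprod g
    have h1 : (⟨e, he⟩ : ↥E) * c = c * ⟨e, he⟩ := (mem_center_iff.mp hc) ⟨e, he⟩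
    have h1' : e * (c : G) = (c : G) * e := congrArg Subtype.val h1
    have h2 : (c : G) * r = r * (c : G) := hcomm c c.2 r hr
    rw [mul_assoc, ← h2, ← mul_assoc, h1', mul_assoc]
  have hcard2 : ∀ z ∈ center G, z ^ 2 = 1 := by
    intro z hz
    have := pow_card_eq_one' (G := ↥(center G)) (x := ⟨z, hz⟩)
    rw [hZ] at this
    exact congrArg Subtype.val this
  intro g h
  obtain ⟨e₁, he₁, r₁, hr₁, rfl⟩ := hprod g
  obtain ⟨e₂, he₂, r₂, hr₂, rfl⟩ := hprod h
  constructor
  · -- commutator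
    have hr₁c := mem_center_iff.mp (hRcen r₁ hr₁)
    have hr₂c := mem_center_iff.mp (hRcen r₂ hr₂)
    have hEq : ⁅e₁ * r₁, e₂ * r₂⁆ = ⁅e₁, e₂⁆ := by
      rw [commutatorElement_def, commutatorElement_def]
      have h1 : e₁ * r₁ * (e₂ * r₂) = e₁ * e₂ * (r₁ * r₂) := by
        calc e₁ * r₁ * (e₂ * r₂) = e₁ * (r₁ * e₂) * r₂ := by group
          _ = e₁ * (e₂ * r₁) * r₂ := by rw [hr₁c e₂]
          _ = e₁ * e₂ * (r₁ * r₂) := by group
      have h2 : e₂ * r₂ * (e₁ * r₁) = e₂ * e₁ * (r₁ * r₂) := by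
        calc e₂ * r₂ * (e₁ * r₁) = e₂ * (r₂ * e₁) * r₁ := by group
          _ = e₂ * (e₁ * r₂) * r₁ := by rw [hr₂c e₁]
          _ = e₂ * e₁ * (r₂ * r₁) := by group
          _ = e₂ * e₁ * (r₁ * r₂) := by rw [hr₁c r₂]
      calc e₁ * r₁ * (e₂ * r₂) * (e₁ * r₁)⁻¹ * (e₂ * r₂)⁻¹
          = (e₁ * r₁ * (e₂ * r₂)) * (e₂ * r₂ * (e₁ * r₁))⁻¹ := by group
        _ = e₁ * e₂ * (r₁ * r₂) * (e₂ * e₁ * (r₁ * r₂))⁻¹ := by rw [h1, h2]
        _ = e₁ * e₂ * e₁⁻¹ * e₂⁻¹ := by group
    rw [hEq]
    have : (⁅(⟨e₁, he₁⟩ : ↥E), ⟨e₂, he₂⟩⁆ : ↥E) ∈ center ↥E := by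
      rw [← hco]
      exact commutator_mem_commutator (mem_top _) (mem_top _)
    exact hZE _ this
  · -- square
    have hr₁c := mem_center_iff.mp (hRcen r₁ hr₁)
    have hsq : (e₁ * r₁) ^ 2 = e₁ ^ 2 * r₁ ^ 2 := by
      rw [pow_two, pow_two, pow_two]
      calc e₁ * r₁ * (e₁ * r₁) = e₁ * (r₁ * e₁) * r₁ := by group
        _ = e₁ * (e₁ * r₁) * r₁ := by rw [hr₁c e₁]
        _ = e₁ * e₁ * (r₁ * r₁) := by group
    rw [hsq, hcard2 r₁ (hRcen r₁ hr₁), mul_one]
    have : (⟨e₁, he₁⟩ : ↥E) ^ 2 ∈ center ↥E := by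
      rw [← hfr]
      exact Cfsg.Agent.Lib.Helper1.IsPGroup.pow_mem_frattini hEp _
    have := hZE _ this
    simpa using this

end abstract

end Cfsg.Agent.Lib.Helper9.Ex24
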