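import Mathlib
import Cfsg.Prelude.Def_GeometricClasses
import Cfsg.Agent.Lib.Helper9.Ex24A
import Cfsg.Agent.Lib.Helper6.Symp

/-!
# The extraspecial group `2^{1+4}_-` inside `Sp_4(F)`: matrix form of the structure
-/

set_option autoImplicit false

namespace Cfsg.Agent.Lib.Helper9.Ex24

open Matrix Cfsg.Agent.Lib.Helper6
open scoped commutatorElement

variable {F : Type*} [Field F]

local notation "II" => (Fin 2 ⊕ Fin 2)
local notation "MM" => Matrix (Fin 2 ⊕ Fin 2) (Fin 2 ⊕ Fin 2) F
local notation "GG" => GL (Fin 2 ⊕ Fin 2) F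

/-- The hypotheses of the statement on `R`. -/
structure Hyp (R : Subgroup GG) : Prop where
  two_ne : (2 : F) ≠ 0
  symp : Cfsg.Geo.IsSymplecticTypeGroup 2 R
  irr : Cfsg.Geo.ActsAbsolutelyIrreducibly (Cfsg.Geo.matrixSet R)
  le_sp : R ≤ Cfsg.spGL 2 F
  card : Nat.card R = 2 ^ 5
  cardZ : Nat.card (Subgroup.center R) = 2
  minus : Cfsg.Geo.IsOfMinusType 2 R

theorem exists_sympForm_one : ∃ u v : II → F, Cfsg.sympForm 2 F u v = 1 := by
  refine ⟨Pi.single (Sum.inr 0) 1, Pi.single (Sum.inl 0) 1, ?_⟩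
  rw [sympForm_eq_sum]
  simp [Fin.sum_univ_two]

/-- A scalar matrix in the symplectic group is `±1`. -/
theorem scalar_sp {g : GG} (hg : g ∈ Cfsg.spGL 2 F) {c : F} (hc : (g : MM) = c • (1 : MM)) :
    c = 1 ∨ c = -1 := by
  obtain ⟨u, v, huv⟩ := exists_sympForm_one (F := F)
  have h := hg u v
  change Cfsg.sympForm 2 F ((g : MM) *ᵥ u) ((g : MM) *ᵥ v) = _ at h
  rw [hc, smul_mulVec, smul_mulVec, one_mulVec, one_mulVec, sympForm_smul_left, sympForm_smul_right,
    huv] at h
  have : (c - 1) * (c + 1) = 0 := by linear_combination h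
  rcases mul_eq_zero.mp this with h1 | h1
  · left; linear_combination h1
  · right; linear_combination h1

variable {R : Subgroup (GL (Fin 2 ⊕ Fin 2) F)}

theorem Hyp.finite (h : Hyp R) : Finite R := by
  apply Nat.finite_of_card_ne_zero
  rw [h.card]; norm_num

/-- An element of `R` commuting with all of `R` is `±1`. -/
theorem Hyp.central (h : Hyp R) {z : GG} (hz : z ∈ R) (hc : ∀ g ∈ R, z * g = g * z) :
    (z : MM) = 1 ∨ (z : MM) = -1 := by
  obtain ⟨c, hc'⟩ := h.irr.2 (z : MM) (by
    rintro s ⟨g, hg, rfl⟩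
    have := hc g hg
    have h2 := congrArg (fun x : GG => (x : MM)) this
    simpa using h2)
  rcases scalar_sp (h.le_sp hz) hc' with rfl | rfl
  · left; rw [hc', one_smul]
  · right; rw [hc', neg_smul, one_smul]

/-- `-1` as an element of `GL`. -/
theorem neg_one_val : ((-1 : GG) : MM) = -1 := by
  rw [Units.val_neg, Units.val_one]

theorem Hyp.neg_one_mem (h : Hyp R) : (-1 : GG) ∈ R := by
  have hfin := h.finite
  -- the centre has order 2, so it has a nontrivial element
  have : ∃ z : ↥(Subgroup.center R), z ≠ 1 := by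
    by_contra hcon
    push Not at hcon
    have : Subsingleton ↥(Subgroup.center R) := ⟨fun a b => by rw [hcon a, hcon b]⟩
    have := Nat.card_unique (α := ↥(Subgroup.center R))
    rw [h.cardZ] at this
    omega
  obtain ⟨⟨z, hz⟩, hz1⟩ := this
  have hzc : ∀ g ∈ R, (z : GG) * g = g * z := by
    intro g hg
    have := (Subgroup.mem_center_iff.mp hz) ⟨g, hg⟩
    have h2 := congrArg Subtype.val this
    exact h2.symm
  rcases h.central z.2 hzc with h1 | h1
  · exfalso
    apply hz1
    apply Subtype.ext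
    apply Subtype.ext
    apply Units.ext
    simpa using h1
  · have : (z : GG) = -1 := by
      apply Units.ext
      rw [h1, neg_one_val]
    rw [← this]
    exact z.2

theorem Hyp.pow_four (h : Hyp R) (g : ↥R) : g ^ 4 = 1 := by
  have := Monoid.pow_exponent_eq_one g
  rw [h.symp.exponent_eq] at this
  simpa using this

/-- commutators and squares of elements of `R` are `±1`. -/
theorem Hyp.comm_sq (h : Hyp R) {g k : GG} (hg : g ∈ R) (hk : k ∈ R) :
    ((g : MM) * k = k * g ∨ (g : MM) * k = -((k : MM) * g)) ∧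
      ((g : MM) * g = 1 ∨ (g : MM) * g = -1) := by
  have hfin := h.finite
  have key := comm_sq_central (G := ↥R) h.symp.pGroup h.symp.cyclic_of_characteristic h.pow_four
    h.cardZ (by rw [h.card]; norm_num) ⟨g, hg⟩ ⟨k, hk⟩
  obtain ⟨k1, k2⟩ := key
  have cen : ∀ z : ↥R, z ∈ Subgroup.center ↥R → ((z : GG) : MM) = 1 ∨ ((z : GG) : MM) = -1 := by
    intro z hz
    apply h.central z.2
    intro a ha
    have := (Subgroup.mem_center_iff.mp hz) ⟨a, ha⟩
    exact (congrArg Subtype.val this).symm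
  constructor
  · have h1 := cen _ k1
    have e : ((⁅(⟨g, hg⟩ : ↥R), ⟨k, hk⟩⁆ : ↥R) : GG) = g * k * g⁻¹ * k⁻¹ := by
      rw [commutatorElement_def]; rfl
    rw [e] at h1
    have e2 : (g : MM) * k = ((g * k * g⁻¹ * k⁻¹ : GG) : MM) * ((k : MM) * g) := by
      have : g * k = (g * k * g⁻¹ * k⁻¹) * (k * g) := by group
      have h2 := congrArg (fun x : GG => (x : MM)) this
      simp only [Units.val_mul] at h2 ⊢
      exact h2
    rcases h1 with h1 | h1
    · left; rw [e2, h1, one_mul]
    · right; rw [e2, h1, neg_one_mul]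
  · have h1 := cen _ k2
    have e : (((⟨g, hg⟩ : ↥R) ^ 2 : ↥R) : GG) = g * g := by
      rw [pow_two]; rfl
    rw [e] at h1
    simpa using h1

theorem Hyp.comm_or (h : Hyp R) {g k : GG} (hg : g ∈ R) (hk : k ∈ R) :
    (g : MM) * k = k * g ∨ (g : MM) * k = -((k : MM) * g) := (h.comm_sq hg hk).1

theorem Hyp.sq_or (h : Hyp R) {g : GG} (hg : g ∈ R) :
    (g : MM) * g = 1 ∨ (g : MM) * g = -1 := (h.comm_sq hg hg).2

/-- A noncentral element of `R` anticommutes with some element of `R`. -/
theorem Hyp.exists_anti (h : Hyp R) {g : GG} (hg : g ∈ R) (h1 : (g : MM) ≠ 1) (h2 : (g : MM) ≠ -1) :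
    ∃ k ∈ R, (g : MM) * k = -((k : MM) * g) := by
  by_contra hcon
  push Not at hcon
  have : ∀ k ∈ R, g * k = k * g := by
    intro k hk
    rcases h.comm_or hg hk with h3 | h3
    · apply Units.ext
      simpa using h3
    · exact absurd h3 (hcon k hk)
  rcases h.central hg this with h3 | h3
  · exact h1 h3
  · exact h2 h3

/-- Noncentral elements of `R` have trace zero. -/
theorem Hyp.trace_zero (h : Hyp R) {g : GG} (hg : g ∈ R) (h1 : (g : MM) ≠ 1) (h2 : (g : MM) ≠ -1) :
    trace (g : MM) = 0 := by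
  obtain ⟨k, hk, hgk⟩ := h.exists_anti hg h1 h2
  -- g = - k g k⁻¹
  have e : (g : MM) = -((k : MM) * g * ((k⁻¹ : GG) : MM)) := by
    have : (g : MM) * k * ((k⁻¹ : GG) : MM) = -((k : MM) * g) * ((k⁻¹ : GG) : MM) := by rw [hgk]
    rw [Matrix.mul_assoc, ← Units.val_mul, mul_inv_cancel, Units.val_one, Matrix.mul_one] at this
    rw [Matrix.neg_mul] at this
    exact this
  have ht : trace (g : MM) = - trace (g : MM) := by
    conv_lhs => rw [e]
    rw [trace_neg, Matrix.trace_mul_cycle, ← Units.val_mul, inv_mul_cancel, Units.val_one,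
      Matrix.one_mul]
  have : (2 : F) * trace (g : MM) = 0 := by linear_combination ht
  rcases mul_eq_zero.mp this with h3 | h3
  · exact absurd h3 h.two_ne
  · exact h3

end Cfsg.Agent.Lib.Helper9.Ex24
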