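import Mathlib
import Cfsg.Agent.Lib.Helper9.Ex24B

/-!
# Averaging over `R` and the trace identity `|C_R(y)| = 2 tr(y) tr(y⁻¹)`
-/

set_option autoImplicit false

namespace Cfsg.Agent.Lib.Helper9.Ex24

open Matrix Cfsg.Agent.Lib.Helper6

variable {F : Type*} [Field F]

local notation "MM" => Matrix (Fin 2 ⊕ Fin 2) (Fin 2 ⊕ Fin 2) F
local notation "GG" => GL (Fin 2 ⊕ Fin 2) F

variable {R : Subgroup (GL (Fin 2 ⊕ Fin 2) F)}

theorem Hyp.fcard (h : Hyp R) [Fintype ↥R] : Fintype.card ↥R = 32 := by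
  rw [← Nat.card_eq_fintype_card, h.card]; norm_num

theorem four_ne (h2 : (2 : F) ≠ 0) : (4 : F) ≠ 0 := by
  have : (4 : F) = 2 * 2 := by norm_num
  rw [this]; exact mul_ne_zero h2 h2

/-- Averaging over `R`. -/
theorem Hyp.avg (h : Hyp R) [Fintype ↥R] (A : MM) :
    ∑ g : ↥R, ((g : GG) : MM) * A * (((g : GG)⁻¹ : GG) : MM) = (8 * trace A) • (1 : MM) := by
  set T : MM := ∑ g : ↥R, ((g : GG) : MM) * A * (((g : GG)⁻¹ : GG) : MM) with hT
  have hcomm : ∀ s ∈ Cfsg.Geo.matrixSet R, T * s = s * T := by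
    rintro s ⟨k, hk, rfl⟩
    -- k T k⁻¹ = T
    have h1 : (k : MM) * T * ((k⁻¹ : GG) : MM) = T := by
      rw [hT, Finset.mul_sum, Finset.sum_mul]
      refine Fintype.sum_equiv (Equiv.mulLeft (⟨k, hk⟩ : ↥R)) _ _ ?_
      intro g
      simp only [Equiv.coe_mulLeft, Subgroup.coe_mul, Units.val_mul, _root_.mul_inv_rev]
      simp only [Matrix.mul_assoc]
    have h2 : (k : MM) * T = T * (k : MM) := by
      calc (k : MM) * T = (k : MM) * T * (((k⁻¹ : GG) : MM) * (k : MM)) := by
            rw [← Units.val_mul, inv_mul_cancel, Units.val_one, Matrix.mul_one]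
        _ = ((k : MM) * T * ((k⁻¹ : GG) : MM)) * (k : MM) := by simp only [Matrix.mul_assoc]
        _ = T * (k : MM) := by rw [h1]
    exact h2.symm
  obtain ⟨c, hc⟩ := h.irr.2 T hcomm
  have htr : trace T = 32 * trace A := by
    rw [hT, trace_sum]
    have : ∀ g : ↥R, trace (((g : GG) : MM) * A * (((g : GG)⁻¹ : GG) : MM)) = trace A := by
      intro g
      rw [Matrix.trace_mul_cycle, ← Units.val_mul, inv_mul_cancel, Units.val_one, Matrix.one_mul]
    rw [Finset.sum_congr rfl (fun g _ => this g), Finset.sum_const, Finset.card_univ, h.fcard]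
    simp
  rw [hc] at htr
  rw [trace_smul, trace_one, Fintype.card_sum, Fintype.card_fin, smul_eq_mul] at htr
  have h4 := four_ne h.two_ne
  have hc8 : c = 8 * trace A := by
    have : (4 : F) * c = 4 * (8 * trace A) := by
      push_cast at htr
      linear_combination htr
    exact mul_left_cancel₀ h4 this
  rw [hc, hc8]

/-- The trace identity. -/
theorem Hyp.trace_identity (h : Hyp R) [Fintype ↥R] [DecidableEq GG] (y : GG)
    (hn : ∀ g ∈ R, y⁻¹ * g * y ∈ R)
    (hno : ∀ g ∈ R, ((y⁻¹ * g * y : GG) : MM) ≠ -(g : MM)) :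
    (((Finset.univ.filter (fun g : ↥R => y⁻¹ * (g : GG) * y = g)).card : ℕ) : F)
      = 2 * trace (y : MM) * trace ((y⁻¹ : GG) : MM) := by
  have h1 := h.avg (y : MM)
  have h2 : ∑ g : ↥R, ((y⁻¹ * (g : GG) * y * (g : GG)⁻¹ : GG) : MM)
      = (8 * trace (y : MM)) • ((y⁻¹ : GG) : MM) := by
    have := congrArg (fun X : MM => ((y⁻¹ : GG) : MM) * X) h1
    simp only [Finset.mul_sum, Matrix.mul_smul, Matrix.mul_one] at this
    rw [← this]
    apply Finset.sum_congr rfl
    intro g _
    simp only [Units.val_mul, Matrix.mul_assoc]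
  have h3 := congrArg trace h2
  rw [trace_sum, trace_smul, smul_eq_mul] at h3
  have h4 : ∀ g : ↥R, trace ((y⁻¹ * (g : GG) * y * (g : GG)⁻¹ : GG) : MM)
      = if y⁻¹ * (g : GG) * y = g then (4 : F) else 0 := by
    intro g
    have hmem : y⁻¹ * (g : GG) * y * (g : GG)⁻¹ ∈ R := R.mul_mem (hn g g.2) (R.inv_mem g.2)
    split_ifs with hfix
    · rw [hfix, mul_inv_cancel, Units.val_one, trace_one, Fintype.card_sum, Fintype.card_fin]
      norm_num
    · apply h.trace_zero hmem
      · intro h5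
        apply hfix
        have : y⁻¹ * (g : GG) * y * (g : GG)⁻¹ = 1 := Units.ext (by simpa using h5)
        calc y⁻¹ * (g : GG) * y = (y⁻¹ * (g : GG) * y * (g : GG)⁻¹) * g := by group
          _ = g := by rw [this, one_mul]
      · intro h5
        apply hno g g.2
        have e : ((y⁻¹ * (g : GG) * y : GG) : MM)
            = ((y⁻¹ * (g : GG) * y * (g : GG)⁻¹ : GG) : MM) * ((g : GG) : MM) := by
          rw [← Units.val_mul]
          congr 1
          group
        rw [e, h5, neg_one_mul]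
  rw [Finset.sum_congr rfl (fun g _ => h4 g), Finset.sum_ite, Finset.sum_const, Finset.sum_const_zero,
    add_zero, nsmul_eq_mul] at h3
  have h4' := four_ne h.two_ne
  have : (4 : F) * ((Finset.univ.filter (fun g : ↥R => y⁻¹ * (g : GG) * y = g)).card : F)
      = 4 * (2 * trace (y : MM) * trace ((y⁻¹ : GG) : MM)) := by
    linear_combination h3
  exact mul_left_cancel₀ h4' this

end Cfsg.Agent.Lib.Helper9.Ex24
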