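import Mathlib

/-!
# Abstract extraspecial group of order 32 of minus type: counting involutions
-/

set_option autoImplicit false

namespace Cfsg.Agent.Lib.Helper9.Ex24

/-- Element-level description of an extraspecial group of order 32 and minus type, with central involution `z`. -/
structure ES (E : Type*) [Group E] (z : E) : Prop where
  z_ne : z ≠ 1
  z_sq : z * z = 1
  z_cen : ∀ g : E, z * g = g * z
  comm : ∀ g k : E, g * k = k * g ∨ g * k = z * (k * g)
  sq : ∀ g : E, g * g = 1 ∨ g * g = z
  cen : ∀ g : E, (∀ k : E, g * k = k * g) → g = 1 ∨ g = z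
  card : Nat.card E = 32
  minus : ∀ A : Subgroup E, IsMulCommutative A → (∀ x ∈ A, x * x = 1) → Nat.card A < 8

variable {E : Type*} [Group E] {z : E}

namespace ES

theorem finite (h : ES E z) : Finite E := by
  apply Nat.finite_of_card_ne_zero
  rw [h.card]; norm_num

theorem z_inv (h : ES E z) : z⁻¹ = z := by
  rw [inv_eq_iff_mul_eq_one]; exact h.z_sq

theorem zmul_ne (h : ES E z) (g : E) : z * g ≠ g := by
  intro hh
  apply h.z_ne
  calc z = z * g * g⁻¹ := by group
    _ = 1 := by rw [hh, mul_inv_cancel]

theorem z_mul_z_mul (h : ES E z) (g : E) : z * (z * g) = g := by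
  rw [← mul_assoc, h.z_sq, one_mul]

/-- If `g` and `k` do not commute they anticommute. -/
theorem anti_of_not (h : ES E z) {g k : E} (hgk : g * k ≠ k * g) : g * k = z * (k * g) :=
  (h.comm g k).resolve_left hgk

theorem not_of_anti (h : ES E z) {g k : E} (hgk : g * k = z * (k * g)) : g * k ≠ k * g := by
  rw [hgk]; exact h.zmul_ne _

theorem anti_symm (h : ES E z) {g k : E} (hgk : g * k = z * (k * g)) : k * g = z * (g * k) := by
  rw [hgk, h.z_mul_z_mul]

/-- A noncentral element fails to commute with some element. -/
theorem exists_not_comm (h : ES E z) {g : E} (h1 : g ≠ 1) (hz : g ≠ z) : ∃ k, g * k ≠ k * g := by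
  by_contra hcon
  push Not at hcon
  rcases h.cen g hcon with h2 | h2
  · exact h1 h2
  · exact hz h2

/-- commuting with `g` is switched by right multiplication with a non-commuting element. -/
theorem comm_mul_right_iff (h : ES E z) {g h₀ : E} (h0 : g * h₀ ≠ h₀ * g) (k : E) :
    g * k = k * g ↔ ¬ (g * (k * h₀) = (k * h₀) * g) := by
  have ha := h.anti_of_not h0
  constructor
  · intro hk hcon
    have : g * (k * h₀) = z * (k * h₀ * g) := by
      calc g * (k * h₀) = (g * k) * h₀ := by group
        _ = k * (g * h₀) := by rw [hk]; group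
        _ = k * (z * (h₀ * g)) := by rw [ha]
        _ = k * z * (h₀ * g) := by group
        _ = z * k * (h₀ * g) := by rw [← h.z_cen k]
        _ = z * (k * h₀ * g) := by group
    rw [hcon] at this
    exact h.zmul_ne _ this.symm
  · intro hk
    by_contra hcon
    apply hk
    have hb := h.anti_of_not hcon
    calc g * (k * h₀) = (g * k) * h₀ := by group
      _ = z * (k * g) * h₀ := by rw [hb]
      _ = z * k * (g * h₀) := by group
      _ = z * k * (z * (h₀ * g)) := by rw [ha]
      _ = z * (k * z) * (h₀ * g) := by group
      _ = z * (z * k) * (h₀ * g) := by rw [h.z_cen k]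
      _ = (z * z) * (k * h₀ * g) := by group
      _ = k * h₀ * g := by rw [h.z_sq, one_mul]

section counting
variable [Fintype E] [DecidableEq E]

omit [DecidableEq E] in
theorem fcard (h : ES E z) : Fintype.card E = 32 := by
  rw [← Nat.card_eq_fintype_card, h.card]

/-- The centralizer of a noncentral element has 16 elements. -/
theorem card_comm (h : ES E z) {g : E} (h1 : g ≠ 1) (hz : g ≠ z) :
    (Finset.univ.filter (fun k : E => g * k = k * g)).card = 16 := by
  obtain ⟨h₀, h0⟩ := h.exists_not_comm h1 hz
  have e : (Finset.univ.filter (fun k : E => g * k = k * g)).card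
      = (Finset.univ.filter (fun k : E => ¬ (g * k = k * g))).card := by
    apply Finset.card_bij' (fun k _ => k * h₀) (fun k _ => k * h₀⁻¹)
    · intro k hk
      rw [Finset.mem_filter] at hk ⊢
      exact ⟨Finset.mem_univ _, (h.comm_mul_right_iff h0 k).mp hk.2⟩
    · intro k hk
      rw [Finset.mem_filter] at hk ⊢
      refine ⟨Finset.mem_univ _, ?_⟩
      rw [h.comm_mul_right_iff h0]
      have : k * h₀⁻¹ * h₀ = k := by group
      rw [this]; exact hk.2
    · intro k _; group
    · intro k _; group
  have := Finset.card_filter_add_card_filter_not (s := (Finset.univ : Finset E))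
    (fun k : E => g * k = k * g)
  rw [Finset.card_univ, h.fcard] at this
  omega

end counting

end ES

end Cfsg.Agent.Lib.Helper9.Ex24
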