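import Mathlib
import Cfsg.Agent.Lib.Helper9.Ex24D

/-!
# Involutions of the abstract extraspecial group of order 32 and minus type
-/

set_option autoImplicit false

namespace Cfsg.Agent.Lib.Helper9.Ex24

variable {E : Type*} [Group E] {z : E}

namespace ES

theorem inv_of_sq_z (h : ES E z) {g : E} (hg : g * g = z) : g⁻¹ = z * g := by
  rw [inv_eq_iff_mul_eq_one]
  calc g * (z * g) = (g * z) * g := by group
    _ = z * (g * g) := by rw [← h.z_cen g]; group
    _ = 1 := by rw [hg, h.z_sq]

/-- There is a noncentral involution. -/
theorem exists_invol (h : ES E z) : ∃ t : E, t * t = 1 ∧ t ≠ 1 ∧ t ≠ z := by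
  classical
  have hfin := h.finite
  have : Fintype E := Fintype.ofFinite E
  by_contra hcon
  push Not at hcon
  -- every element outside {1,z} has square z
  have hsq : ∀ g : E, g ≠ 1 → g ≠ z → g * g = z := by
    intro g h1 hz
    rcases h.sq g with h2 | h2
    · exact absurd (hcon g h2 h1) hz
    · exact h2
  -- pick g outside {1,z}
  have : ∃ g : E, g ≠ 1 ∧ g ≠ z := by
    by_contra hc
    push Not at hc
    have hsub : (Finset.univ : Finset E) ⊆ {1, z} := by
      intro g _
      by_cases h1 : g = 1
      · simp [h1]
      · simp [hc g h1]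
    have := Finset.card_le_card hsub
    rw [Finset.card_univ, h.fcard] at this
    have h2 : ({1, z} : Finset E).card ≤ 2 := Finset.card_le_two
    omega
  obtain ⟨g, h1, hz⟩ := this
  have h16 := h.card_comm h1 hz
  have hsub : (Finset.univ.filter (fun k : E => g * k = k * g)) ⊆ {1, z, g, z * g} := by
    intro k hk
    rw [Finset.mem_filter] at hk
    by_cases k1 : k = 1
    · simp [k1]
    by_cases kz : k = z
    · simp [kz]
    have hk2 := hsq k k1 kz
    have hg2 := hsq g h1 hz
    have hgk : (g * k) * (g * k) = 1 := by
      calc (g * k) * (g * k) = g * (k * g) * k := by group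
        _ = g * (g * k) * k := by rw [hk.2]
        _ = (g * g) * (k * k) := by group
        _ = 1 := by rw [hk2, hg2, h.z_sq]
    by_cases e1 : g * k = 1
    · have : k = g⁻¹ := by rw [eq_comm, inv_eq_iff_mul_eq_one]; exact e1
      rw [this, h.inv_of_sq_z hg2]; simp
    · have e2 : g * k = z := by
        by_contra e2
        exact e2 (hcon _ hgk e1)
      have h3 : k = g⁻¹ * z := by rw [← e2]; group
      have h4 : k = g := by
        calc k = z * g * z := by rw [h3, h.inv_of_sq_z hg2]
          _ = g * z * z := by rw [h.z_cen g]
          _ = g * (z * z) := by group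
          _ = g := by rw [h.z_sq, mul_one]
      rw [h4]; simp
  have := Finset.card_le_card hsub
  rw [h16] at this
  have h4 : ({1, z, g, z * g} : Finset E).card ≤ 4 := Finset.card_le_four
  omega

/-- Minus type: two commuting noncentral involutions are equal up to `z`. -/
theorem eq_of_comm_invol (h : ES E z) {t g : E} (ht : t * t = 1) (ht1 : t ≠ 1) (htz : t ≠ z)
    (hg : g * g = 1) (hg1 : g ≠ 1) (hgz : g ≠ z) (hc : t * g = g * t) : g = t ∨ g = z * t := by
  classical
  have hfin := h.finite
  by_contra hcon
  push Not at hcon
  obtain ⟨hgt, hgzt⟩ := hcon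
  let k : Set E := {z, t, g}
  have hkcomm : ∀ x ∈ k, ∀ y ∈ k, x * y = y * x := by
    intro x hx y hy
    simp only [k, Set.mem_insert_iff, Set.mem_singleton_iff] at hx hy
    rcases hx with rfl | rfl | rfl <;> rcases hy with rfl | rfl | rfl <;>
      first | rfl | exact h.z_cen _ | exact (h.z_cen _).symm | exact hc | exact hc.symm
  have hksq : ∀ x ∈ k, x * x = 1 := by
    intro x hx
    simp only [k, Set.mem_insert_iff, Set.mem_singleton_iff] at hx
    rcases hx with rfl | rfl | rfl
    · exact h.z_sq
    · exact ht
    · exact hg
  let A : Subgroup E := Subgroup.closure k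
  have hAcomm : ∀ x ∈ A, ∀ y ∈ A, x * y = y * x := by
    have h1 : A ≤ Subgroup.centralizer k := by
      apply (Subgroup.closure_le _).mpr
      intro x hx
      rw [SetLike.mem_coe, Subgroup.mem_centralizer_iff]
      intro y hy
      exact hkcomm y hy x hx
    intro x hx y hy
    have h2 : y ∈ Subgroup.centralizer (A : Set E) := by
      rw [show (A : Set E) = (Subgroup.closure k : Set E) from rfl, Subgroup.centralizer_closure]
      exact h1 hy
    exact (Subgroup.mem_centralizer_iff.mp h2 x hx)
  have hAsq : ∀ x ∈ A, x * x = 1 := by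
    intro x hx
    induction hx using Subgroup.closure_induction with
    | mem x hx => exact hksq x hx
    | one => simp
    | mul x y hx hy ihx ihy =>
      calc x * y * (x * y) = x * (y * x) * y := by group
        _ = x * (x * y) * y := by rw [hAcomm y hy x hx]
        _ = (x * x) * (y * y) := by group
        _ = 1 := by rw [ihx, ihy, one_mul]
    | inv x hx ihx =>
      calc x⁻¹ * x⁻¹ = (x * x)⁻¹ := by group
        _ = 1 := by rw [ihx, inv_one]
  have hAc : IsMulCommutative A := ⟨⟨fun a b => Subtype.ext (hAcomm a a.2 b b.2)⟩⟩
  have hlt := h.minus A hAc hAsq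
  -- at least five elements
  have hz : z ∈ A := Subgroup.subset_closure (by simp [k])
  have htA : t ∈ A := Subgroup.subset_closure (by simp [k])
  have hgA : g ∈ A := Subgroup.subset_closure (by simp [k])
  have : Fintype A := Fintype.ofFinite A
  have h5 : 5 ≤ Nat.card A := by
    rw [Nat.card_eq_fintype_card]
    let S : Finset A := {⟨1, A.one_mem⟩, ⟨z, hz⟩, ⟨t, htA⟩, ⟨z * t, A.mul_mem hz htA⟩, ⟨g, hgA⟩}
    have hS : S.card = 5 := by
      have hzt1 : z * t ≠ 1 := by
        intro e
        apply htz
        calc t = z * (z * t) := (h.z_mul_z_mul t).symm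
          _ = z := by rw [e, mul_one]
      have hztz : z * t ≠ z := by
        intro e
        apply ht1
        exact mul_left_cancel (e.trans (mul_one z).symm)
      simp only [S]
      rw [Finset.card_insert_of_notMem, Finset.card_insert_of_notMem, Finset.card_insert_of_notMem,
        Finset.card_insert_of_notMem, Finset.card_singleton]
      · simp only [Finset.mem_singleton, Subtype.mk.injEq]
        exact fun e => hgzt e.symm
      · simp only [Finset.mem_insert, Finset.mem_singleton, Subtype.mk.injEq, not_or]
        exact ⟨fun e => h.zmul_ne t e.symm, fun e => hgt e.symm⟩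
      · simp only [Finset.mem_insert, Finset.mem_singleton, Subtype.mk.injEq, not_or]
        exact ⟨fun e => htz e.symm, fun e => hztz e.symm, fun e => hgz e.symm⟩
      · simp only [Finset.mem_insert, Finset.mem_singleton, Subtype.mk.injEq, not_or]
        exact ⟨fun e => h.z_ne e.symm, fun e => ht1 e.symm, fun e => hzt1 e.symm, fun e => hg1 e.symm⟩
    rw [← hS]
    exact Finset.card_le_univ S
  have hdvd : Nat.card A ∣ 32 := by
    rw [← h.card]; exact Subgroup.card_subgroup_dvd_card A
  have hle : Nat.card A ≤ 7 := by omega
  have : Nat.card A ∈ Nat.divisors 32 := by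
    rw [Nat.mem_divisors]; exact ⟨hdvd, by norm_num⟩
  have hdiv : Nat.divisors 32 = {1, 2, 4, 8, 16, 32} := by decide
  rw [hdiv] at this
  simp only [Finset.mem_insert, Finset.mem_singleton] at this
  omega

end ES

end Cfsg.Agent.Lib.Helper9.Ex24
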