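import Mathlib
import Cfsg.Agent.Lib.Helper9.Ex24E

/-!
# Counting the involutions of the abstract extraspecial group of order 32 and minus type
-/

set_option autoImplicit false

namespace Cfsg.Agent.Lib.Helper9.Ex24

variable {E : Type*} [Group E] {z : E}

namespace ES

theorem sq_mul_anti (h : ES E z) {t g : E} (ht : t * t = 1) (ha : t * g = z * (g * t)) :
    (g * t) * (g * t) = z * (g * g) := by
  calc (g * t) * (g * t) = g * (t * g) * t := by group
    _ = g * (z * (g * t)) * t := by rw [ha]
    _ = (g * z) * (g * (t * t)) := by group
    _ = z * (g * g) := by rw [← h.z_cen g, ht]; group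

theorem anti_mul_self (h : ES E z) {t g : E} (ht : t * t = 1) (ha : t * g = z * (g * t)) :
    t * (g * t) = z * ((g * t) * t) := by
  calc t * (g * t) = (t * g) * t := by group
    _ = z * (g * t) * t := by rw [ha]
    _ = z * ((g * t) * t) := by group

section counting
variable [Fintype E] [DecidableEq E]

/-- There are exactly 12 elements with square one. -/
theorem card_sq_one (h : ES E z) : (Finset.univ.filter (fun g : E => g * g = 1)).card = 12 := by
  obtain ⟨t, ht, ht1, htz⟩ := h.exists_invol
  have hC := h.card_comm ht1 htz
  have hN : (Finset.univ.filter (fun k : E => ¬ (t * k = k * t))).card = 16 := by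
    have := Finset.card_filter_add_card_filter_not (s := (Finset.univ : Finset E))
      (fun k : E => t * k = k * t)
    rw [Finset.card_univ, h.fcard] at this
    omega
  -- commuting part
  have h1 : (Finset.univ.filter (fun g : E => g * g = 1 ∧ t * g = g * t)) = {1, z, t, z * t} := by
    ext g
    simp only [Finset.mem_filter, Finset.mem_univ, true_and, Finset.mem_insert, Finset.mem_singleton]
    constructor
    · rintro ⟨hg, hc⟩
      by_cases g1 : g = 1
      · left; exact g1
      by_cases gz : g = z
      · right; left; exact gz
      right; right
      exact h.eq_of_comm_invol ht ht1 htz hg g1 gz hc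
    · rintro (rfl | rfl | rfl | rfl)
      · simp
      · exact ⟨h.z_sq, (h.z_cen t).symm⟩
      · exact ⟨ht, rfl⟩
      · constructor
        · calc z * t * (z * t) = z * (t * z) * t := by group
            _ = z * (z * t) * t := by rw [h.z_cen t]
            _ = (z * z) * (t * t) := by group
            _ = 1 := by rw [h.z_sq, ht, one_mul]
        · calc t * (z * t) = (t * z) * t := by group
            _ = z * t * t := by rw [h.z_cen t]
  have hzt1 : z * t ≠ 1 := by
    intro e
    apply htz
    calc t = z * (z * t) := (h.z_mul_z_mul t).symm
      _ = z := by rw [e, mul_one]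
  have hztz : z * t ≠ z := by
    intro e
    apply ht1
    exact mul_left_cancel (e.trans (mul_one z).symm)
  have h1c : (Finset.univ.filter (fun g : E => g * g = 1 ∧ t * g = g * t)).card = 4 := by
    rw [h1, Finset.card_insert_of_notMem, Finset.card_insert_of_notMem, Finset.card_insert_of_notMem,
      Finset.card_singleton]
    · simp only [Finset.mem_singleton]
      exact fun e => h.zmul_ne t e.symm
    · simp only [Finset.mem_insert, Finset.mem_singleton, not_or]
      exact ⟨fun e => htz e.symm, fun e => hztz e.symm⟩
    · simp only [Finset.mem_insert, Finset.mem_singleton, not_or]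
      exact ⟨fun e => h.z_ne e.symm, fun e => ht1 e.symm, fun e => hzt1 e.symm⟩
  -- non-commuting part
  have h2 : (Finset.univ.filter (fun g : E => g * g = 1 ∧ ¬ (t * g = g * t))).card
      = (Finset.univ.filter (fun g : E => ¬ (g * g = 1) ∧ ¬ (t * g = g * t))).card := by
    apply Finset.card_bij' (fun g _ => g * t) (fun g _ => g * t)
    · intro g hg
      simp only [Finset.mem_filter, Finset.mem_univ, true_and] at hg ⊢
      have ha := h.anti_of_not hg.2
      refine ⟨?_, h.not_of_anti (h.anti_mul_self ht ha)⟩
      rw [h.sq_mul_anti ht ha, hg.1, mul_one]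
      exact h.z_ne
    · intro g hg
      simp only [Finset.mem_filter, Finset.mem_univ, true_and] at hg ⊢
      have ha := h.anti_of_not hg.2
      refine ⟨?_, h.not_of_anti (h.anti_mul_self ht ha)⟩
      have : g * g = z := (h.sq g).resolve_left hg.1
      rw [h.sq_mul_anti ht ha, this, h.z_sq]
    · intro g _
      calc g * t * t = g * (t * t) := by group
        _ = g := by rw [ht, mul_one]
    · intro g _
      calc g * t * t = g * (t * t) := by group
        _ = g := by rw [ht, mul_one]
  have h3 : (Finset.univ.filter (fun g : E => g * g = 1 ∧ ¬ (t * g = g * t))).card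
      + (Finset.univ.filter (fun g : E => ¬ (g * g = 1) ∧ ¬ (t * g = g * t))).card = 16 := by
    have := Finset.card_filter_add_card_filter_not
      (s := (Finset.univ.filter (fun k : E => ¬ (t * k = k * t)))) (fun g : E => g * g = 1)
    rw [Finset.filter_filter, Finset.filter_filter, hN] at this
    rw [← this]
    congr 2
    · ext g; simp [and_comm]
    · ext g; simp [and_comm]
  have h4 : (Finset.univ.filter (fun g : E => g * g = 1)).card
      = (Finset.univ.filter (fun g : E => g * g = 1 ∧ t * g = g * t)).card
        + (Finset.univ.filter (fun g : E => g * g = 1 ∧ ¬ (t * g = g * t))).card := by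
    have := Finset.card_filter_add_card_filter_not
      (s := (Finset.univ.filter (fun g : E => g * g = 1))) (fun g : E => t * g = g * t)
    rw [Finset.filter_filter, Finset.filter_filter] at this
    exact this.symm
  omega

/-- There are exactly 10 noncentral involutions. -/
theorem card_invol (h : ES E z) :
    (Finset.univ.filter (fun g : E => g * g = 1 ∧ g ≠ 1 ∧ g ≠ z)).card = 10 := by
  have h12 := h.card_sq_one
  have hsplit : (Finset.univ.filter (fun g : E => g * g = 1))
      = (Finset.univ.filter (fun g : E => g * g = 1 ∧ g ≠ 1 ∧ g ≠ z)) ∪ {1, z} := by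
    ext g
    simp only [Finset.mem_filter, Finset.mem_univ, true_and, Finset.mem_union, Finset.mem_insert,
      Finset.mem_singleton]
    constructor
    · intro hg
      by_cases g1 : g = 1
      · right; left; exact g1
      by_cases gz : g = z
      · right; right; exact gz
      · left; exact ⟨hg, g1, gz⟩
    · rintro (⟨hg, -, -⟩ | rfl | rfl)
      · exact hg
      · simp
      · exact h.z_sq
  have hdisj : Disjoint (Finset.univ.filter (fun g : E => g * g = 1 ∧ g ≠ 1 ∧ g ≠ z)) {1, z} := by
    rw [Finset.disjoint_right]
    intro g hg
    simp only [Finset.mem_insert, Finset.mem_singleton] at hg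
    simp only [Finset.mem_filter, Finset.mem_univ, true_and, not_and, not_not]
    rcases hg with rfl | rfl
    · intro _ h1; exact absurd rfl h1
    · intro _ _; rfl
  rw [hsplit, Finset.card_union_of_disjoint hdisj] at h12
  have : ({1, z} : Finset E).card = 2 := by
    rw [Finset.card_insert_of_notMem, Finset.card_singleton]
    simp only [Finset.mem_singleton]
    exact fun e => h.z_ne e.symm
  omega

end counting

end ES

end Cfsg.Agent.Lib.Helper9.Ex24
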