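import Mathlib
import Cfsg.Agent.Lib.Helper9.Ex24F

/-!
# Five anticommuting involutions, and fixed points of automorphisms of odd prime order
-/

set_option autoImplicit false

namespace Cfsg.Agent.Lib.Helper9.Ex24

/-- Counting fixed points modulo `r` on an invariant subset. -/
theorem card_filter_modEq {α : Type*} [Fintype α] [DecidableEq α] (f : α → α) (r : ℕ) [Fact r.Prime]
    (hf : ∀ x, f^[r] x = x) (P : α → Prop) [DecidablePred P] (hP : ∀ x, P x → P (f x)) :
    (Finset.univ.filter P).card ≡ (Finset.univ.filter (fun x => P x ∧ f x = x)).card [MOD r] := by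
  let f' : Function.End {x // P x} := fun x => ⟨f x.1, hP x.1 x.2⟩
  have hsemi : ∀ n : ℕ, ∀ x : {x // P x}, ((f'^[n]) x).1 = f^[n] x.1 := by
    intro n
    induction n with
    | zero => intro x; rfl
    | succ n ih =>
      intro x
      rw [Function.iterate_succ_apply', Function.iterate_succ_apply', ← ih x]
  have hf' : f' ^ r ^ 1 = 1 := by
    rw [pow_one]
    have h1 : ((f' ^ r : Function.End {x // P x}) : {x // P x} → {x // P x}) = f'^[r] :=
      hom_coe_pow (fun g : Function.End {x // P x} => g) rfl (fun _ _ => rfl) f' r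
    funext x
    apply Subtype.ext
    rw [h1, hsemi r x, hf]
    rfl
  have key := Equiv.Perm.card_fixedPoints_modEq (p := r) (n := 1) hf'
  rw [Fintype.card_subtype] at key
  have e : Fintype.card (Function.fixedPoints f')
      = (Finset.univ.filter (fun x => P x ∧ f x = x)).card := by
    rw [← Fintype.card_subtype, ← Nat.card_eq_fintype_card, ← Nat.card_eq_fintype_card]
    apply Nat.card_congr
    exact
      { toFun := fun x => ⟨x.1.1, x.1.2, congrArg Subtype.val x.2⟩
        invFun := fun x => ⟨⟨x.1, x.2.1⟩, Subtype.ext x.2.2⟩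
        left_inv := fun x => rfl
        right_inv := fun x => rfl }
  rw [e] at key
  exact key

variable {E : Type*} [Group E] {z : E}

namespace ES

theorem anti_of_ne (h : ES E z) {t g : E} (ht : t * t = 1) (ht1 : t ≠ 1) (htz : t ≠ z)
    (hg : g * g = 1) (hg1 : g ≠ 1) (hgz : g ≠ z) (hne : g ≠ t) (hne2 : g ≠ z * t) :
    t * g = z * (g * t) := by
  apply h.anti_of_not
  intro hc
  rcases h.eq_of_comm_invol ht ht1 htz hg hg1 hgz hc with e | e
  · exact hne e
  · exact hne2 e

section counting
variable [Fintype E] [DecidableEq E]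

theorem exists_invol_avoiding (h : ES E z) (S : Finset E) (hS : S.card < 10) :
    ∃ t : E, t * t = 1 ∧ t ≠ 1 ∧ t ≠ z ∧ t ∉ S := by
  have h10 := h.card_invol
  have : S.card < (Finset.univ.filter (fun g : E => g * g = 1 ∧ g ≠ 1 ∧ g ≠ z)).card := by
    rw [h10]; exact hS
  obtain ⟨t, ht, htS⟩ := Finset.exists_mem_notMem_of_card_lt_card this
  rw [Finset.mem_filter] at ht
  exact ⟨t, ht.2.1, ht.2.2.1, ht.2.2.2, htS⟩

theorem exists_family (h : ES E z) : ∀ n : ℕ, n ≤ 5 → ∃ t : Fin n → E,
    (∀ a, t a * t a = 1 ∧ t a ≠ 1 ∧ t a ≠ z) ∧ (∀ a b, a ≠ b → t a ≠ t b ∧ t a ≠ z * t b) := by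
  intro n
  induction n with
  | zero =>
    intro _
    exact ⟨Fin.elim0, fun a => a.elim0, fun a => a.elim0⟩
  | succ n ih =>
    intro hn
    obtain ⟨t, ht1, ht2⟩ := ih (by omega)
    let S : Finset E := Finset.univ.image t ∪ Finset.univ.image (fun a => z * t a)
    have hS : S.card < 10 := by
      have h1 : (Finset.univ.image t).card ≤ n := by
        have := Finset.card_image_le (s := (Finset.univ : Finset (Fin n))) (f := t)
        simpa using this
      have h2 : (Finset.univ.image (fun a => z * t a)).card ≤ n := by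
        have := Finset.card_image_le (s := (Finset.univ : Finset (Fin n))) (f := fun a => z * t a)
        simpa using this
      have := Finset.card_union_le (Finset.univ.image t) (Finset.univ.image (fun a => z * t a))
      change (Finset.univ.image t ∪ Finset.univ.image (fun a => z * t a)).card < 10
      omega
    obtain ⟨x, hx, hx1, hxz, hxS⟩ := h.exists_invol_avoiding S hS
    have hxt : ∀ a, x ≠ t a ∧ x ≠ z * t a := by
      intro a
      constructor
      · intro e
        apply hxS
        rw [Finset.mem_union]; left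
        rw [Finset.mem_image]; exact ⟨a, Finset.mem_univ _, e.symm⟩
      · intro e
        apply hxS
        rw [Finset.mem_union]; right
        rw [Finset.mem_image]; exact ⟨a, Finset.mem_univ _, e.symm⟩
    refine ⟨Fin.snoc t x, ?_, ?_⟩
    · intro a
      refine Fin.lastCases ?_ (fun a => ?_) a
      · rw [Fin.snoc_last]; exact ⟨hx, hx1, hxz⟩
      · rw [Fin.snoc_castSucc]; exact ht1 a
    · intro a b
      refine Fin.lastCases ?_ (fun a => ?_) a
      · refine Fin.lastCases ?_ (fun b => ?_) b
        · intro hab; exact absurd rfl hab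
        · intro _
          rw [Fin.snoc_last, Fin.snoc_castSucc]
          exact hxt b
      · refine Fin.lastCases ?_ (fun b => ?_) b
        · intro _
          rw [Fin.snoc_last, Fin.snoc_castSucc]
          constructor
          · exact fun e => (hxt a).1 e.symm
          · intro e
            apply (hxt a).2
            rw [e, h.z_mul_z_mul]
        · intro hab
          rw [Fin.snoc_castSucc, Fin.snoc_castSucc]
          apply ht2
          intro e
          apply hab
          rw [e]

/-- Five pairwise anticommuting involutions. -/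
theorem exists_five (h : ES E z) : ∃ t : Fin 5 → E,
    (∀ a, t a * t a = 1) ∧ (∀ a b, a ≠ b → t a * t b = z * (t b * t a)) ∧
    (∀ a b, a ≠ b → t a ≠ t b ∧ t a ≠ z * t b) := by
  obtain ⟨t, ht1, ht2⟩ := h.exists_family 5 le_rfl
  refine ⟨t, fun a => (ht1 a).1, ?_, ht2⟩
  intro a b hab
  have hba := ht2 b a (Ne.symm hab)
  exact h.anti_of_ne (ht1 a).1 (ht1 a).2.1 (ht1 a).2.2 (ht1 b).1 (ht1 b).2.1 (ht1 b).2.2 hba.1 hba.2

end counting

end ES

end Cfsg.Agent.Lib.Helper9.Ex24
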