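import Mathlib
import Cfsg.Agent.Lib.Helper9.Ex24G

/-!
# Automorphisms of odd prime order of the abstract extraspecial group of order 32 and minus type
-/

set_option autoImplicit false

namespace Cfsg.Agent.Lib.Helper9.Ex24

variable {E : Type*} [Group E] {z : E}

namespace ES

/-- An automorphism fixes `z`. -/
theorem aut_z (h : ES E z) (φ : E ≃* E) : φ z = z := by
  have hc : ∀ k : E, φ z * k = k * φ z := by
    intro k
    have : φ z * k = φ (z * φ.symm k) := by rw [map_mul, MulEquiv.apply_symm_apply]
    rw [this, h.z_cen, map_mul, MulEquiv.apply_symm_apply]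
  rcases h.cen (φ z) hc with e | e
  · exfalso
    apply h.z_ne
    have : φ z = φ 1 := by rw [e, map_one]
    exact φ.injective this
  · exact e

theorem prime_eq_of_dvd {r a : ℕ} (hr : r.Prime) (ha : a.Prime) (h : r ∣ a) : r = a :=
  (Nat.prime_dvd_prime_iff_eq hr ha).mp h

section counting
variable [Fintype E] [DecidableEq E]

/-- The fixed points of an automorphism `φ ≠ 1` with `φ^r = 1`, `r` an odd prime. -/
theorem aut_fixed (h : ES E z) (φ : E ≃* E) (r : ℕ) [hr : Fact r.Prime] (hr2 : r ≠ 2)
    (hφ : ∀ g, (⇑φ)^[r] g = g) (hne : ∃ g, φ g ≠ g) :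
    (r = 3 ∧ (Finset.univ.filter (fun g : E => φ g = g)).card = 8) ∨
      (r = 5 ∧ (Finset.univ.filter (fun g : E => φ g = g)).card = 2) := by
  set c := (Finset.univ.filter (fun g : E => φ g = g)).card with hc
  -- (1) congruence
  have h1 : 32 ≡ c [MOD r] := by
    have := card_filter_modEq (⇑φ) r hφ (fun _ => True) (fun _ _ => trivial)
    simp only [Finset.filter_true_of_mem (fun x _ => trivial), true_and, Finset.card_univ,
      h.fcard] at this
    exact this
  -- (2) c divides 32
  have h2 : c ∣ 32 := by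
    let C : Subgroup E := MonoidHom.eqLocus φ.toMonoidHom (MonoidHom.id E)
    have hC : Nat.card C = c := by
      rw [hc, ← Fintype.card_subtype, ← Nat.card_eq_fintype_card]
      apply Nat.card_congr
      exact Equiv.subtypeEquivRight (fun g => by
        change (φ.toMonoidHom g = MonoidHom.id E g) ↔ φ g = g
        rfl)
    rw [← hC, ← h.card]
    exact Subgroup.card_subgroup_dvd_card C
  -- (3) bounds
  have hz := h.aut_z φ
  have h3 : c ≠ 32 := by
    intro e
    obtain ⟨g, hg⟩ := hne
    have : (Finset.univ.filter (fun g : E => φ g = g)) = Finset.univ := by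
      apply Finset.eq_univ_of_card
      rw [← hc, e, h.fcard]
    have hg' : g ∈ (Finset.univ.filter (fun g : E => φ g = g)) := by rw [this]; exact Finset.mem_univ _
    rw [Finset.mem_filter] at hg'
    exact hg hg'.2
  -- invariant set of noncentral involutions
  have hP : ∀ x : E, (x * x = 1 ∧ x ≠ 1 ∧ x ≠ z) → (φ x * φ x = 1 ∧ φ x ≠ 1 ∧ φ x ≠ z) := by
    rintro x ⟨hx, hx1, hxz⟩
    refine ⟨by rw [← map_mul, hx, map_one], ?_, ?_⟩
    · intro e
      apply hx1
      apply φ.injective
      rw [e, map_one]
    · intro e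
      apply hxz
      apply φ.injective
      rw [e, hz]
  have h4 := card_filter_modEq (⇑φ) r hφ (fun x : E => x * x = 1 ∧ x ≠ 1 ∧ x ≠ z) hP
  rw [h.card_invol] at h4
  set cI := (Finset.univ.filter (fun x : E => (x * x = 1 ∧ x ≠ 1 ∧ x ≠ z) ∧ φ x = x)).card with hcI
  -- cI + 2 ≤ c
  have h5 : cI + 2 ≤ c := by
    have hsub : (Finset.univ.filter (fun x : E => (x * x = 1 ∧ x ≠ 1 ∧ x ≠ z) ∧ φ x = x)) ∪ {1, z}
        ⊆ (Finset.univ.filter (fun g : E => φ g = g)) := by
      intro g hg
      rw [Finset.mem_union] at hg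
      rw [Finset.mem_filter]
      refine ⟨Finset.mem_univ _, ?_⟩
      rcases hg with hg | hg
      · rw [Finset.mem_filter] at hg; exact hg.2.2
      · simp only [Finset.mem_insert, Finset.mem_singleton] at hg
        rcases hg with rfl | rfl
        · exact map_one φ
        · exact hz
    have hdisj : Disjoint (Finset.univ.filter (fun x : E => (x * x = 1 ∧ x ≠ 1 ∧ x ≠ z) ∧ φ x = x))
        {1, z} := by
      rw [Finset.disjoint_right]
      intro g hg
      simp only [Finset.mem_insert, Finset.mem_singleton] at hg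
      simp only [Finset.mem_filter, Finset.mem_univ, true_and, not_and]
      rcases hg with rfl | rfl
      · rintro ⟨-, h1, -⟩; exact absurd rfl h1
      · rintro ⟨-, -, h1⟩; exact absurd rfl h1
    have := Finset.card_le_card hsub
    rw [Finset.card_union_of_disjoint hdisj] at this
    have h2' : ({1, z} : Finset E).card = 2 := by
      rw [Finset.card_insert_of_notMem, Finset.card_singleton]
      simp only [Finset.mem_singleton]
      exact fun e => h.z_ne e.symm
    omega
  -- divisors
  have hcd : c ∈ Nat.divisors 32 := by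
    rw [Nat.mem_divisors]; exact ⟨h2, by norm_num⟩
  have hdiv : Nat.divisors 32 = {1, 2, 4, 8, 16, 32} := by decide
  rw [hdiv] at hcd
  simp only [Finset.mem_insert, Finset.mem_singleton] at hcd
  have hle : c ≤ 32 := Nat.le_of_dvd (by norm_num) h2
  have hdvd : r ∣ 32 - c := (Nat.modEq_iff_dvd' hle).mp h1.symm
  have hrp := hr.out
  rcases hcd with e | e | e | e | e | e
  · omega
  · -- c = 2
    rw [e] at hdvd
    have : r ∣ 2 * (3 * 5) := by norm_num at hdvd ⊢; exact hdvd
    rcases (Nat.Prime.dvd_mul hrp).mp this with h6 | h6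
    · exact absurd (prime_eq_of_dvd hrp Nat.prime_two h6) hr2
    rcases (Nat.Prime.dvd_mul hrp).mp h6 with h7 | h7
    · have r3 := prime_eq_of_dvd hrp Nat.prime_three h7
      exfalso
      rw [r3] at h4
      have : cI = 0 := by omega
      rw [this] at h4
      exact absurd h4 (by decide)
    · have r5 := prime_eq_of_dvd hrp Nat.prime_five h7
      right; exact ⟨r5, e⟩
  · -- c = 4
    exfalso
    rw [e] at hdvd
    have : r ∣ 2 * (2 * 7) := by norm_num at hdvd ⊢; exact hdvd
    rcases (Nat.Prime.dvd_mul hrp).mp this with h6 | h6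
    · exact absurd (prime_eq_of_dvd hrp Nat.prime_two h6) hr2
    rcases (Nat.Prime.dvd_mul hrp).mp h6 with h7 | h7
    · exact absurd (prime_eq_of_dvd hrp Nat.prime_two h7) hr2
    · have r7 := prime_eq_of_dvd hrp (by norm_num) h7
      rw [r7] at h4
      have hcI2 : cI ≤ 2 := by omega
      unfold Nat.ModEq at h4
      interval_cases cI <;> omega
  · -- c = 8
    rw [e] at hdvd
    have : r ∣ 2 * (2 * (2 * 3)) := by norm_num at hdvd ⊢; exact hdvd
    rcases (Nat.Prime.dvd_mul hrp).mp this with h6 | h6
    · exact absurd (prime_eq_of_dvd hrp Nat.prime_two h6) hr2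
    rcases (Nat.Prime.dvd_mul hrp).mp h6 with h7 | h7
    · exact absurd (prime_eq_of_dvd hrp Nat.prime_two h7) hr2
    rcases (Nat.Prime.dvd_mul hrp).mp h7 with h8 | h8
    · exact absurd (prime_eq_of_dvd hrp Nat.prime_two h8) hr2
    · left; exact ⟨prime_eq_of_dvd hrp Nat.prime_three h8, e⟩
  · -- c = 16
    exfalso
    rw [e] at hdvd
    have : r ∣ 2 ^ 4 := by norm_num at hdvd ⊢; exact hdvd
    exact hr2 (prime_eq_of_dvd hrp Nat.prime_two (Nat.Prime.dvd_of_dvd_pow hrp this))
  · exact absurd e h3

end counting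

end ES

end Cfsg.Agent.Lib.Helper9.Ex24
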