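import Mathlib
import Cfsg.Agent.Lib.Helper9.Ex24C
import Cfsg.Agent.Lib.Helper9.Ex24H

/-!
# Elements of odd prime order normalizing `R = 2^{1+4}_-` in `GL_4(F)`: the trace criterion
-/

set_option autoImplicit false

namespace Cfsg.Agent.Lib.Helper9.Ex24

open Matrix Cfsg.Agent.Lib.Helper6

variable {F : Type*} [Field F]

local notation "MM" => Matrix (Fin 2 ⊕ Fin 2) (Fin 2 ⊕ Fin 2) F
local notation "GG" => GL (Fin 2 ⊕ Fin 2) F

variable {R : Subgroup (GL (Fin 2 ⊕ Fin 2) F)}

theorem one_ne_neg_one (h2 : (2 : F) ≠ 0) : (1 : MM) ≠ -1 := by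
  intro e
  have := congrFun (congrFun e (Sum.inl 0)) (Sum.inl 0)
  simp only [Matrix.one_apply_eq, Matrix.neg_apply] at this
  apply h2
  linear_combination this

/-- the central involution of `R` as an element of `↥R`. -/
def Hyp.zz (h : Hyp R) : ↥R := ⟨-1, h.neg_one_mem⟩

theorem val_inj {a b : GG} (h : (a : MM) = (b : MM)) : a = b := Units.ext h

/-- `R` is an abstract extraspecial group of order 32 of minus type. -/
theorem Hyp.es (h : Hyp R) : ES ↥R h.zz where
  z_ne := by
    intro e
    have := congrArg (fun g : ↥R => ((g : GG) : MM)) e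
    simp only [Hyp.zz, neg_one_val, OneMemClass.coe_one, Units.val_one] at this
    exact one_ne_neg_one h.two_ne this.symm
  z_sq := by
    apply Subtype.ext
    apply val_inj
    simp [Hyp.zz, neg_one_val]
  z_cen := by
    intro g
    apply Subtype.ext
    apply val_inj
    simp [Hyp.zz, neg_one_val]
  comm := by
    intro g k
    rcases h.comm_or g.2 k.2 with e | e
    · left
      apply Subtype.ext
      apply val_inj
      simpa using e
    · right
      apply Subtype.ext
      apply val_inj
      simp only [Subgroup.coe_mul, Units.val_mul, Hyp.zz, neg_one_val]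
      rw [e, neg_one_mul]
  sq := by
    intro g
    rcases h.sq_or g.2 with e | e
    · left
      apply Subtype.ext
      apply val_inj
      simpa using e
    · right
      apply Subtype.ext
      apply val_inj
      simp only [Subgroup.coe_mul, Units.val_mul, Hyp.zz, neg_one_val]
      exact e
  cen := by
    intro g hg
    have : ∀ k ∈ R, (g : GG) * k = k * g := by
      intro k hk
      exact congrArg Subtype.val (hg ⟨k, hk⟩)
    rcases h.central g.2 this with e | e
    · left
      apply Subtype.ext
      apply val_inj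
      simpa using e
    · right
      apply Subtype.ext
      apply val_inj
      simp only [Hyp.zz, neg_one_val]
      exact e
  card := by rw [h.card]; norm_num
  minus := by
    intro A hA hA2
    have := h.minus A hA hA2
    norm_num at this
    exact this

/-- The key lemma: a non-centralizing element of odd prime order `r` normalizing `R` has `r = 3` and
`tr(y) tr(y⁻¹) = 4`, or `r = 5` and `tr(y) tr(y⁻¹) = 1`. -/
theorem Hyp.key (h : Hyp R) (y : GG) (hn : ∀ g ∈ R, y⁻¹ * g * y ∈ R) (r : ℕ) [hr : Fact r.Prime]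
    (hr2 : r ≠ 2) (hyr : y ^ r = 1) (hnc : ∃ g ∈ R, y⁻¹ * g * y ≠ g) :
    (r = 3 ∧ trace (y : MM) * trace ((y⁻¹ : GG) : MM) = 4) ∨
      (r = 5 ∧ trace (y : MM) * trace ((y⁻¹ : GG) : MM) = 1) := by
  classical
  have hfin := h.finite
  have : Fintype ↥R := Fintype.ofFinite _
  have hes := h.es
  -- the automorphism
  let φ₀ : ↥R →* ↥R :=
    { toFun := fun g => ⟨y⁻¹ * g * y, hn g g.2⟩
      map_one' := by apply Subtype.ext; simp
      map_mul' := by
        intro a b
        apply Subtype.ext
        simp only [Subgroup.coe_mul]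
        group }
  have hinj : Function.Injective φ₀ := by
    intro a b hab
    have := congrArg Subtype.val hab
    simp only [φ₀, MonoidHom.coe_mk, OneHom.coe_mk] at this
    apply Subtype.ext
    have h2 : y * (y⁻¹ * (a : GG) * y) * y⁻¹ = y * (y⁻¹ * (b : GG) * y) * y⁻¹ := by rw [this]
    simpa [mul_assoc] using h2
  have hbij : Function.Bijective φ₀ := Finite.injective_iff_bijective.mp hinj
  let φ : ↥R ≃* ↥R := MulEquiv.ofBijective φ₀ hbij
  have hφ_apply : ∀ g : ↥R, ((φ g : ↥R) : GG) = y⁻¹ * g * y := fun g => rfl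
  have hiter : ∀ n : ℕ, ∀ g : ↥R, (((⇑φ)^[n] g : ↥R) : GG) = (y ^ n)⁻¹ * g * y ^ n := by
    intro n
    induction n with
    | zero => intro g; simp
    | succ n ih =>
      intro g
      rw [Function.iterate_succ_apply', hφ_apply, ih g, pow_succ]
      group
  have hφr : ∀ g, (⇑φ)^[r] g = g := by
    intro g
    apply Subtype.ext
    rw [hiter, hyr]
    simp
  have hne : ∃ g, φ g ≠ g := by
    obtain ⟨g, hg, hgy⟩ := hnc
    refine ⟨⟨g, hg⟩, ?_⟩
    intro e
    apply hgy
    exact congrArg Subtype.val e
  have hfix := hes.aut_fixed φ r hr2 hφr hne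
  -- no element is negated
  have hno : ∀ g ∈ R, ((y⁻¹ * g * y : GG) : MM) ≠ -(g : MM) := by
    intro g hg e
    have e1 : φ ⟨g, hg⟩ = h.zz * ⟨g, hg⟩ := by
      apply Subtype.ext
      apply val_inj
      rw [hφ_apply]
      simp only [Subgroup.coe_mul, Units.val_mul, Hyp.zz, neg_one_val, neg_one_mul]
      exact e
    have hz := hes.aut_z φ
    have hiter2 : ∀ n : ℕ, (⇑φ)^[n] ⟨g, hg⟩ = h.zz ^ n * ⟨g, hg⟩ := by
      intro n
      induction n with
      | zero => simp
      | succ n ih =>
        rw [Function.iterate_succ_apply', ih, map_mul, map_pow, hz, e1, pow_succ]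
        group
    have h3 := hiter2 r
    rw [hφr] at h3
    have hodd : Odd r := hr.out.odd_of_ne_two hr2
    obtain ⟨k, hk⟩ := hodd
    have hzr : h.zz ^ r = h.zz := by
      rw [hk, pow_succ, pow_mul, pow_two, hes.z_sq, one_pow, one_mul]
    rw [hzr] at h3
    exact hes.zmul_ne _ h3.symm
  have hid := h.trace_identity y hn hno
  have hcard : (Finset.univ.filter (fun g : ↥R => y⁻¹ * (g : GG) * y = g)).card
      = (Finset.univ.filter (fun g : ↥R => φ g = g)).card := by
    congr 1
    ext g
    simp only [Finset.mem_filter, Finset.mem_univ, true_and]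
    constructor
    · intro e; apply Subtype.ext; exact e
    · intro e; exact congrArg Subtype.val e
  rw [hcard] at hid
  have h2 := h.two_ne
  rcases hfix with ⟨r3, c8⟩ | ⟨r5, c2⟩
  · left
    refine ⟨r3, ?_⟩
    rw [c8] at hid
    have e8 : ((8 : ℕ) : F) = 8 := by norm_num
    rw [e8] at hid
    have : (2 : F) * (trace (y : MM) * trace ((y⁻¹ : GG) : MM)) = 2 * 4 := by
      linear_combination -hid
    exact mul_left_cancel₀ h2 this
  · right
    refine ⟨r5, ?_⟩
    rw [c2] at hid
    have e2 : ((2 : ℕ) : F) = 2 := by norm_num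
    rw [e2] at hid
    have : (2 : F) * (trace (y : MM) * trace ((y⁻¹ : GG) : MM)) = 2 * 1 := by
      linear_combination -hid
    exact mul_left_cancel₀ h2 this

end Cfsg.Agent.Lib.Helper9.Ex24
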