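import Mathlib
import Cfsg.Agent.Lib.Helper9.Ex24I

/-!
# Derangement criteria for the normalizer of `R = 2^{1+4}_-`
-/

set_option autoImplicit false

namespace Cfsg.Agent.Lib.Helper9.Ex24

open Matrix Cfsg.Agent.Lib.Helper6

variable {F : Type*} [Field F]

local notation "MM" => Matrix (Fin 2 ⊕ Fin 2) (Fin 2 ⊕ Fin 2) F
local notation "GG" => GL (Fin 2 ⊕ Fin 2) F

variable {R : Subgroup (GL (Fin 2 ⊕ Fin 2) F)}

theorem normalizer_conj {y : GG} (hy : y ∈ Cfsg.Geo.subgroupNormalizer R) :
    ∀ k ∈ R, y⁻¹ * k * y ∈ R := by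
  intro k hk
  have hy' : y⁻¹ ∈ Subgroup.normalizer (R : Set GG) := Subgroup.inv_mem _ hy
  have := (Subgroup.mem_normalizer_iff.mp hy' k).mp hk
  simpa using this

theorem Hyp.scalar_of_centralizes (h : Hyp R) {y : GG} (hc : ∀ k ∈ R, y⁻¹ * k * y = k) :
    ∃ c : F, (y : MM) = c • (1 : MM) := by
  apply h.irr.2
  rintro s ⟨k, hk, rfl⟩
  have := hc k hk
  have h2 : k * y = y * k := by
    calc k * y = y * (y⁻¹ * k * y) := by group
      _ = y * k := by rw [this]
  have h3 := congrArg (fun g : GG => (g : MM)) h2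
  simpa using h3.symm

/-- Elements of odd prime order whose trace invariant is wrong have no conjugate in the normalizer. -/
theorem Hyp.no_fix_odd (h : Hyp R) (x : GG) (r : ℕ) [hr : Fact r.Prime] (hr2 : r ≠ 2)
    (hxr : x ^ r = 1) (hns : ∀ c : F, (x : MM) ≠ c • (1 : MM))
    (hT : ¬ ((r = 3 ∧ trace (x : MM) * trace ((x⁻¹ : GG) : MM) = 4) ∨
      (r = 5 ∧ trace (x : MM) * trace ((x⁻¹ : GG) : MM) = 1)))
    (g : GG) : g⁻¹ * x * g ∉ Cfsg.Geo.subgroupNormalizer R := by
  intro hy
  set y := g⁻¹ * x * g with hydef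
  have hn := normalizer_conj hy
  have hyr : y ^ r = 1 := by
    have : y ^ r = g⁻¹ * x ^ r * g := by
      rw [hydef]
      have := conj_pow (a := g⁻¹) (b := x) (i := r)
      simpa using this
    rw [this, hxr]; group
  have hnc : ∃ k ∈ R, y⁻¹ * k * y ≠ k := by
    by_contra hcon
    push Not at hcon
    obtain ⟨c, hc⟩ := h.scalar_of_centralizes hcon
    apply hns c
    have hx : x = g * y * g⁻¹ := by rw [hydef]; group
    rw [hx, Units.val_mul, Units.val_mul, hc, Matrix.mul_smul, Matrix.mul_one, Matrix.smul_mul,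
      ← Units.val_mul, mul_inv_cancel, Units.val_one]
  have key := h.key y hn r hr2 hyr hnc
  have t1 : trace (y : MM) = trace (x : MM) := by
    rw [hydef, Units.val_mul, Units.val_mul, Matrix.trace_mul_cycle, ← Units.val_mul, mul_inv_cancel,
      Units.val_one, Matrix.one_mul]
  have t2 : trace ((y⁻¹ : GG) : MM) = trace ((x⁻¹ : GG) : MM) := by
    have : y⁻¹ = g⁻¹ * x⁻¹ * g := by rw [hydef]; group
    rw [this, Units.val_mul, Units.val_mul, Matrix.trace_mul_cycle, ← Units.val_mul, mul_inv_cancel,
      Units.val_one, Matrix.one_mul]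
  rw [t1, t2] at key
  exact hT key

/-- A "transvection-like" element normalizing `R` centralizes it. -/
theorem Hyp.transvection_like (h : Hyp R) (N : MM) (htr : trace N = 0)
    (hP : ∀ A : MM, N * A * N = trace (N * A) • N) (y : GG) (hy : (y : MM) = 1 + N)
    (hn : ∀ k ∈ R, y⁻¹ * k * y ∈ R) : ∀ k ∈ R, y⁻¹ * k * y = k := by
  intro k hk
  by_contra hne
  -- c = y⁻¹ k⁻¹ y k
  set c : GG := y⁻¹ * k⁻¹ * y * k with hc
  have hcR : c ∈ R := R.mul_mem (hn _ (R.inv_mem hk)) hk
  have hc1 : c ≠ 1 := by
    intro e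
    apply hne
    have : y⁻¹ * k * y = k * c⁻¹ := by rw [hc]; group
    rw [this, e]; group
  have hyc : y * c = k⁻¹ * y * k := by rw [hc]; group
  have hNN : N * N = 0 := by
    have := hP 1
    simp only [Matrix.mul_one] at this
    rw [htr, zero_smul] at this
    exact this
  set C : MM := (c : MM) with hC
  -- X = y c - 1 squares to zero
  have hX : ((1 + N) * C - 1) * ((1 + N) * C - 1) = 0 := by
    have e1 : (1 + N) * C = ((k⁻¹ : GG) : MM) * (1 + N) * (k : MM) := by
      rw [← hy, hC, ← Units.val_mul, hyc, Units.val_mul, Units.val_mul]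
    have e2 : (1 + N) * C - 1 = ((k⁻¹ : GG) : MM) * N * (k : MM) := by
      rw [e1, Matrix.mul_add, Matrix.add_mul, Matrix.mul_one, ← Units.val_mul, inv_mul_cancel,
        Units.val_one]
      abel
    rw [e2]
    calc ((k⁻¹ : GG) : MM) * N * (k : MM) * (((k⁻¹ : GG) : MM) * N * (k : MM))
        = ((k⁻¹ : GG) : MM) * N * ((k : MM) * ((k⁻¹ : GG) : MM)) * N * (k : MM) := by
          simp only [Matrix.mul_assoc]
      _ = 0 := by
          rw [← Units.val_mul, mul_inv_cancel, Units.val_one, Matrix.mul_one, Matrix.mul_assoc _ N N,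
            hNN, Matrix.mul_zero, Matrix.zero_mul]
  -- trace of y c
  have hE1 : trace C + trace (N * C) = 4 := by
    have e1 : (1 + N) * C = ((k⁻¹ : GG) : MM) * (1 + N) * (k : MM) := by
      rw [← hy, hC, ← Units.val_mul, hyc, Units.val_mul, Units.val_mul]
    have := congrArg trace e1
    rw [Matrix.trace_mul_cycle, ← Units.val_mul, mul_inv_cancel, Units.val_one, Matrix.one_mul,
      Matrix.add_mul, Matrix.one_mul, trace_add, trace_add, htr, trace_one, Fintype.card_sum,
      Fintype.card_fin] at this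
    rw [this]; norm_num
  -- expand the square
  have hexp : ((1 + N) * C - 1) * ((1 + N) * C - 1)
      = C * C + C * (N * C) + N * (C * C) + (N * C * N) * C - (2 : F) • C - (2 : F) • (N * C) + 1 := by
    rw [two_smul, two_smul]
    noncomm_ring
  rw [hexp, hP C] at hX
  have htrX := congrArg trace hX
  simp only [trace_add, trace_sub, trace_smul, trace_one, Fintype.card_sum,
    Fintype.card_fin, smul_eq_mul, Matrix.smul_mul] at htrX
  rw [Matrix.trace_zero] at htrX
  have hcyc : trace (C * (N * C)) = trace (N * (C * C)) := by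
    rw [Matrix.trace_mul_comm, Matrix.mul_assoc]
  rw [hcyc] at htrX
  set τ := trace (N * C) with hτ
  have h2 := h.two_ne
  have h4 := four_ne h2
  have h8 : (8 : F) ≠ 0 := by
    have : (8 : F) = 2 * 4 := by norm_num
    rw [this]; exact mul_ne_zero h2 h4
  have hCC := h.sq_or hcR
  rw [← hC] at hCC
  by_cases hcen : C = 1 ∨ C = -1
  · rcases hcen with e | e
    · apply hc1
      apply val_inj
      rw [← hC, e, Units.val_one]
    · -- C = -1
      have hτ0 : τ = 0 := by
        rw [hτ, e, Matrix.mul_neg, Matrix.mul_one, trace_neg, htr, neg_zero]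
      rw [e, hτ0, trace_neg, trace_one, Fintype.card_sum, Fintype.card_fin] at hE1
      apply h8
      push_cast at hE1
      linear_combination -hE1
  · push Not at hcen
    have htC : trace C = 0 := h.trace_zero hcR hcen.1 hcen.2
    have hτ4 : τ = 4 := by rw [htC] at hE1; linear_combination hE1
    rcases hCC with e | e
    · rw [e] at htrX
      simp only [Matrix.mul_one, trace_one, Fintype.card_sum, Fintype.card_fin, htr, htC, hτ4] at htrX
      apply h8
      push_cast at htrX
      have : (16 : F) = 0 := by linear_combination htrX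
      have h16 : (16 : F) = 2 * 8 := by norm_num
      rw [h16] at this
      rcases mul_eq_zero.mp this with h' | h'
      · exact absurd h' h2
      · exact h'
    · rw [e] at htrX
      simp only [Matrix.mul_neg, Matrix.mul_one, trace_neg, trace_one, Fintype.card_sum,
        Fintype.card_fin, htr, htC, hτ4] at htrX
      apply h8
      push_cast at htrX
      linear_combination htrX

end Cfsg.Agent.Lib.Helper9.Ex24
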