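import Mathlib
import Cfsg.Agent.Lib.Helper9.Ex24J

/-!
# Explicit elements of `Sp_4(F)`: embedding of `SL_2(F)` on a hyperbolic plane
-/

set_option autoImplicit false

namespace Cfsg.Agent.Lib.Helper9.Ex24

open Matrix Cfsg.Agent.Lib.Helper6

variable {F : Type*} [Field F]

local notation "MM" => Matrix (Fin 2 ⊕ Fin 2) (Fin 2 ⊕ Fin 2) F
local notation "GG" => GL (Fin 2 ⊕ Fin 2) F

/-- A `2 × 2` matrix acting on the plane spanned by `e_(inl 0), e_(inr 0)`, identity on the other plane. -/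
def emb (m : Matrix (Fin 2) (Fin 2) F) : MM :=
  Matrix.fromBlocks !![m 0 0, 0; 0, 1] !![m 0 1, 0; 0, 0] !![m 1 0, 0; 0, 0] !![m 1 1, 0; 0, 1]

theorem emb_one : emb (1 : Matrix (Fin 2) (Fin 2) F) = 1 := by
  ext i j
  rcases i with i | i <;> rcases j with j | j <;> fin_cases i <;> fin_cases j <;> simp [emb]

theorem emb_mul (m n : Matrix (Fin 2) (Fin 2) F) : emb (m * n) = emb m * emb n := by
  ext i j
  rcases i with i | i <;> rcases j with j | j <;> fin_cases i <;> fin_cases j <;>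
    simp [emb, Matrix.mul_apply, Fin.sum_univ_two]

theorem emb_trace (m : Matrix (Fin 2) (Fin 2) F) : trace (emb m) = trace m + 2 := by
  simp [emb, Matrix.trace, Fin.sum_univ_two]
  ring

theorem emb_mem {m : Matrix (Fin 2) (Fin 2) F} (hm : m 0 0 * m 1 1 - m 0 1 * m 1 0 = 1) :
    emb m ∈ Matrix.symplecticGroup (Fin 2) F := by
  rw [SymplecticGroup.mem_iff]
  ext i j
  rcases i with i | i <;> rcases j with j | j <;> fin_cases i <;> fin_cases j <;>
    simp [emb, Matrix.J, Matrix.mul_apply, Fin.sum_univ_two] <;>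
    first | ring1 | linear_combination hm | linear_combination -hm | linear_combination (2 : F) * hm |
      linear_combination (-2 : F) * hm

end Cfsg.Agent.Lib.Helper9.Ex24

namespace Cfsg.Agent.Lib.Helper9.Ex24

open Matrix Cfsg.Agent.Lib.Helper6

variable {F : Type*} [Field F]

local notation "MM" => Matrix (Fin 2 ⊕ Fin 2) (Fin 2 ⊕ Fin 2) F
local notation "GG" => GL (Fin 2 ⊕ Fin 2) F

/-- The `GL` element attached to an invertible `2 × 2` matrix. -/
def embGL (m m' : Matrix (Fin 2) (Fin 2) F) (h1 : m * m' = 1) (h2 : m' * m = 1) : GG :=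
  ⟨emb m, emb m', by rw [← emb_mul, h1, emb_one], by rw [← emb_mul, h2, emb_one]⟩

theorem embGL_val (m m' : Matrix (Fin 2) (Fin 2) F) (h1 : m * m' = 1) (h2 : m' * m = 1) :
    ((embGL m m' h1 h2 : GG) : MM) = emb m := rfl

theorem embGL_inv_val (m m' : Matrix (Fin 2) (Fin 2) F) (h1 : m * m' = 1) (h2 : m' * m = 1) :
    (((embGL m m' h1 h2)⁻¹ : GG) : MM) = emb m' := rfl

theorem embGL_pow (m m' : Matrix (Fin 2) (Fin 2) F) (h1 : m * m' = 1) (h2 : m' * m = 1) (n : ℕ) :
    (((embGL m m' h1 h2) ^ n : GG) : MM) = emb (m ^ n) := by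
  induction n with
  | zero => simp [emb_one]
  | succ n ih => rw [pow_succ, Units.val_mul, ih, embGL_val, ← emb_mul, pow_succ]

theorem embGL_mem_sp (m m' : Matrix (Fin 2) (Fin 2) F) (h1 : m * m' = 1) (h2 : m' * m = 1)
    (hm : m 0 0 * m 1 1 - m 0 1 * m 1 0 = 1) : embGL m m' h1 h2 ∈ Cfsg.spGL 2 F := by
  have := (mem_symplecticGroup_iff_preserves (emb m)).mp (emb_mem hm)
  exact this

theorem emb_nonscalar {m : Matrix (Fin 2) (Fin 2) F} (hm : m 0 1 ≠ 0) (c : F) :
    emb m ≠ c • (1 : MM) := by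
  intro e
  have := congrFun (congrFun e (Sum.inl 0)) (Sum.inr 0)
  simp [emb] at this
  exact hm this

/-! ### the element of order 3 -/

def m3 : Matrix (Fin 2) (Fin 2) F := !![0, -1; 1, -1]
def m3' : Matrix (Fin 2) (Fin 2) F := !![-1, 1; -1, 0]

theorem m3_mul : (m3 : Matrix (Fin 2) (Fin 2) F) * m3' = 1 := by
  ext i j; fin_cases i <;> fin_cases j <;> simp [m3, m3', Matrix.mul_apply, Fin.sum_univ_two]

theorem m3'_mul : (m3' : Matrix (Fin 2) (Fin 2) F) * m3 = 1 := by
  ext i j; fin_cases i <;> fin_cases j <;> simp [m3, m3', Matrix.mul_apply, Fin.sum_univ_two]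

theorem m3_pow : (m3 : Matrix (Fin 2) (Fin 2) F) ^ 3 = 1 := by
  ext i j; fin_cases i <;> fin_cases j <;>
    simp [m3, pow_succ, Matrix.mul_apply, Fin.sum_univ_two]

/-- The element of order 3 with a 2-dimensional fixed space. -/
def x3 : GG := embGL m3 m3' m3_mul m3'_mul

theorem x3_pow : (x3 : GG) ^ 3 = 1 := by
  apply val_inj
  rw [x3, embGL_pow, m3_pow, emb_one, Units.val_one]

theorem x3_mem : (x3 : GG) ∈ Cfsg.spGL 2 F := by
  apply embGL_mem_sp
  simp [m3]

theorem x3_nonscalar (c : F) : ((x3 : GG) : MM) ≠ c • (1 : MM) := by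
  apply emb_nonscalar
  simp [m3]

theorem x3_trace : trace ((x3 : GG) : MM) = 1 := by
  rw [x3, embGL_val, emb_trace]
  simp [m3, Matrix.trace, Fin.sum_univ_two]
  norm_num

theorem x3_inv_trace : trace (((x3 : GG)⁻¹ : GG) : MM) = 1 := by
  rw [x3, embGL_inv_val, emb_trace]
  simp [m3', Matrix.trace, Fin.sum_univ_two]
  norm_num

/-! ### the element of order 5 -/

def m5 (a : F) : Matrix (Fin 2) (Fin 2) F := !![0, -1; 1, a]
def m5' (a : F) : Matrix (Fin 2) (Fin 2) F := !![a, 1; -1, 0]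

theorem m5_mul (a : F) : m5 a * m5' a = 1 := by
  ext i j; fin_cases i <;> fin_cases j <;> simp [m5, m5', Matrix.mul_apply, Fin.sum_univ_two]

theorem m5'_mul (a : F) : m5' a * m5 a = 1 := by
  ext i j; fin_cases i <;> fin_cases j <;> simp [m5, m5', Matrix.mul_apply, Fin.sum_univ_two]

theorem m5_pow {a : F} (ha : a ^ 2 + a - 1 = 0) : m5 a ^ 5 = 1 := by
  ext i j; fin_cases i <;> fin_cases j <;>
    simp [m5, pow_succ, Matrix.mul_apply, Fin.sum_univ_two] <;>
    first
      | linear_combination (1 - a) * ha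
      | linear_combination (-a ^ 2 + a + 1) * ha
      | linear_combination (a ^ 2 - a - 1) * ha
      | linear_combination (a ^ 3 - a ^ 2 - 2 * a + 1) * ha

/-- The element of order 5 with a 2-dimensional fixed space (`a² + a = 1`). -/
def x5 (a : F) : GG := embGL (m5 a) (m5' a) (m5_mul a) (m5'_mul a)

theorem x5_pow {a : F} (ha : a ^ 2 + a - 1 = 0) : (x5 a : GG) ^ 5 = 1 := by
  apply val_inj
  rw [x5, embGL_pow, m5_pow ha, emb_one, Units.val_one]

theorem x5_mem (a : F) : (x5 a : GG) ∈ Cfsg.spGL 2 F := by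
  apply embGL_mem_sp
  simp [m5]

theorem x5_nonscalar (a c : F) : ((x5 a : GG) : MM) ≠ c • (1 : MM) := by
  apply emb_nonscalar
  simp [m5]

theorem x5_trace (a : F) : trace ((x5 a : GG) : MM) = a + 2 := by
  rw [x5, embGL_val, emb_trace]
  simp [m5, Matrix.trace, Fin.sum_univ_two]

theorem x5_inv_trace (a : F) : trace (((x5 a : GG)⁻¹ : GG) : MM) = a + 2 := by
  rw [x5, embGL_inv_val, emb_trace]
  simp [m5', Matrix.trace, Fin.sum_univ_two]

end Cfsg.Agent.Lib.Helper9.Ex24
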