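import Mathlib
import Cfsg.Agent.Lib.Helper9.Ex24K

/-!
# The derangements: transvections, and elements of order 3 and 5 with a fixed plane
-/

set_option autoImplicit false

namespace Cfsg.Agent.Lib.Helper9.Ex24

open Matrix Cfsg.Agent.Lib.Helper6

variable {F : Type*} [Field F]

local notation "MM" => Matrix (Fin 2 ⊕ Fin 2) (Fin 2 ⊕ Fin 2) F
local notation "GG" => GL (Fin 2 ⊕ Fin 2) F
local notation "VV" => (Fin 2 ⊕ Fin 2 → F)

/-- the vector `e_(inl 0)` -/
def v0 : Fin 2 ⊕ Fin 2 → F := Pi.single (Sum.inl 0) 1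

theorem sympTransvection_zero (v : Fin 2 ⊕ Fin 2 → F) : Cfsg.sympTransvection 2 v (0 : F) = 1 := by
  unfold Cfsg.sympTransvection
  rw [zero_smul, add_zero]

/-- The transvection as an element of `GL`. -/
def xp : GG :=
  ⟨Cfsg.sympTransvection 2 v0 1, Cfsg.sympTransvection 2 v0 (-1),
    by rw [sympTransvection_mul, add_neg_cancel, sympTransvection_zero],
    by rw [sympTransvection_mul, neg_add_cancel, sympTransvection_zero]⟩

theorem xp_val : ((xp : GG) : MM) = Cfsg.sympTransvection 2 v0 1 := rfl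

theorem xp_pow (n : ℕ) : (((xp : GG) ^ n : GG) : MM) = Cfsg.sympTransvection 2 v0 (n : F) := by
  induction n with
  | zero => simp [sympTransvection_zero]
  | succ n ih =>
    rw [pow_succ, Units.val_mul, ih, xp_val, sympTransvection_mul]
    push_cast
    rfl

theorem xp_pow_char (p : ℕ) [CharP F p] : (xp : GG) ^ p = 1 := by
  apply val_inj
  rw [xp_pow, CharP.cast_eq_zero, sympTransvection_zero, Units.val_one]

theorem xp_mem : (xp : GG) ∈ Cfsg.spGL 2 F := by
  have := (mem_symplecticGroup_iff_preserves _).mp (sympTransvection_mem (m := 2) (v0 : VV) (1 : F))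
  exact this

/-- the nilpotent part of the transvection -/
def N0 : MM := Matrix.vecMulVec (v0 : VV) (Matrix.J (Fin 2) F *ᵥ v0)

theorem xp_eq : ((xp : GG) : MM) = 1 + N0 := by
  rw [xp_val]
  unfold Cfsg.sympTransvection N0
  rw [one_smul]

theorem N0_trace : trace (N0 : MM) = 0 := by
  unfold N0
  rw [Matrix.trace_vecMulVec]
  have := sympForm_self (m := 2) (v0 : VV)
  rw [sympForm_def] at this
  exact this

theorem N0_P (A : MM) : N0 * A * N0 = trace (N0 * A) • (N0 : MM) := by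
  unfold N0
  rw [Matrix.vecMulVec_mul, Matrix.vecMulVec_mul_vecMulVec, Matrix.trace_vecMulVec, dotProduct_comm,
    Matrix.vecMulVec_smul]

theorem N0_apply : (N0 : MM) (Sum.inl 0) (Sum.inr 0) = 1 := by
  unfold N0 v0
  simp [Matrix.vecMulVec_apply, Matrix.J]

theorem xp_nonscalar (c : F) : ((xp : GG) : MM) ≠ c • (1 : MM) := by
  intro e
  have := congrFun (congrFun e (Sum.inl 0)) (Sum.inr 0)
  rw [xp_eq, Matrix.add_apply, N0_apply] at this
  simp at this

variable {R : Subgroup (GL (Fin 2 ⊕ Fin 2) F)}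

/-- No conjugate of the transvection normalizes `R`. -/
theorem Hyp.xp_derangement (h : Hyp R) (g : GG) : g⁻¹ * xp * g ∉ Cfsg.Geo.subgroupNormalizer R := by
  intro hy
  set y := g⁻¹ * (xp : GG) * g with hydef
  have hn := normalizer_conj hy
  set N : MM := ((g⁻¹ : GG) : MM) * N0 * (g : MM) with hN
  have hyN : (y : MM) = 1 + N := by
    rw [hydef, Units.val_mul, Units.val_mul, xp_eq, Matrix.mul_add, Matrix.add_mul, Matrix.mul_one,
      ← Units.val_mul, inv_mul_cancel, Units.val_one]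
  have htr : trace N = 0 := by
    rw [hN, Matrix.trace_mul_cycle, ← Units.val_mul, mul_inv_cancel, Units.val_one, Matrix.one_mul,
      N0_trace]
  have hP : ∀ A : MM, N * A * N = trace (N * A) • N := by
    intro A
    have h1 := N0_P ((g : MM) * A * ((g⁻¹ : GG) : MM))
    have e1 : N * A * N = ((g⁻¹ : GG) : MM) * (N0 * ((g : MM) * A * ((g⁻¹ : GG) : MM)) * N0) * (g : MM) := by
      rw [hN]; simp only [Matrix.mul_assoc]
    have e2 : trace (N * A) = trace (N0 * ((g : MM) * A * ((g⁻¹ : GG) : MM))) := by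
      rw [hN]
      have : ((g⁻¹ : GG) : MM) * N0 * (g : MM) * A
          = ((g⁻¹ : GG) : MM) * (N0 * ((g : MM) * A)) := by simp only [Matrix.mul_assoc]
      rw [this, Matrix.trace_mul_comm]
      simp only [Matrix.mul_assoc]
    rw [e1, h1, e2, Matrix.mul_smul, Matrix.smul_mul, hN]
  have hcen := h.transvection_like N htr hP y hyN hn
  obtain ⟨c, hc⟩ := h.scalar_of_centralizes hcen
  apply xp_nonscalar (F := F) c
  have hx : (xp : GG) = g * y * g⁻¹ := by rw [hydef]; group
  rw [hx, Units.val_mul, Units.val_mul, hc, Matrix.mul_smul, Matrix.mul_one, Matrix.smul_mul,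
    ← Units.val_mul, mul_inv_cancel, Units.val_one]

/-- No conjugate of `x3` normalizes `R` (characteristic not 3). -/
theorem Hyp.x3_derangement (h : Hyp R) (h3 : (3 : F) ≠ 0) (g : GG) :
    g⁻¹ * x3 * g ∉ Cfsg.Geo.subgroupNormalizer R := by
  have : Fact (Nat.Prime 3) := ⟨Nat.prime_three⟩
  apply h.no_fix_odd x3 3 (by norm_num) x3_pow x3_nonscalar
  rw [x3_trace, x3_inv_trace]
  rintro (⟨-, e⟩ | ⟨e, -⟩)
  · apply h3
    linear_combination -e
  · norm_num at e

/-- No conjugate of `x5 a` normalizes `R` (characteristic not 5). -/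
theorem Hyp.x5_derangement (h : Hyp R) (h5 : (5 : F) ≠ 0) {a : F} (ha : a ^ 2 + a - 1 = 0) (g : GG) :
    g⁻¹ * x5 a * g ∉ Cfsg.Geo.subgroupNormalizer R := by
  have : Fact (Nat.Prime 5) := ⟨Nat.prime_five⟩
  apply h.no_fix_odd (x5 a) 5 (by norm_num) (x5_pow ha) (x5_nonscalar a)
  rw [x5_trace, x5_inv_trace]
  rintro (⟨e, -⟩ | ⟨-, e⟩)
  · norm_num at e
  · apply h5
    -- (a+2)^2 = 1 and a^2 + a = 1 give 5 = 0
    have e1 : 3 * a = -4 := by linear_combination e - ha
    linear_combination (-9 : F) * ha + (3 * a - 1) * e1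

/-- Elements of prime order `r ≥ 7` are derangements. -/
theorem Hyp.big_derangement (h : Hyp R) (x : GG) (r : ℕ) [hr : Fact r.Prime] (hr2 : r ≠ 2)
    (hr3 : r ≠ 3) (hr5 : r ≠ 5) (hxr : x ^ r = 1) (hns : ∀ c : F, (x : MM) ≠ c • (1 : MM)) (g : GG) :
    g⁻¹ * x * g ∉ Cfsg.Geo.subgroupNormalizer R := by
  apply h.no_fix_odd x r hr2 hxr hns
  rintro (⟨e, -⟩ | ⟨e, -⟩)
  · exact hr3 e
  · exact hr5 e

end Cfsg.Agent.Lib.Helper9.Ex24
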