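import Mathlib
import Cfsg.Agent.Lib.Helper9.Ex24B

/-!
# Symplectic bases and the conjugacy class of noncentral involutions of `Sp_4(F)`
-/

set_option autoImplicit false

namespace Cfsg.Agent.Lib.Helper9.Ex24

open Matrix Cfsg.Agent.Lib.Helper6

variable {F : Type*} [Field F]

local notation "II" => (Fin 2 ⊕ Fin 2)
local notation "MM" => Matrix (Fin 2 ⊕ Fin 2) (Fin 2 ⊕ Fin 2) F
local notation "GG" => GL (Fin 2 ⊕ Fin 2) F
local notation "VV" => (Fin 2 ⊕ Fin 2 → F)
local notation "ff" => Cfsg.sympForm 2 F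

/-- the standard basis vector -/
def ee (i : Fin 2 ⊕ Fin 2) : Fin 2 ⊕ Fin 2 → F := Pi.single i 1

theorem ff_ee (i j : II) : ff (ee i) (ee j) = (Matrix.J (Fin 2) F) i j := by
  rw [sympForm_def]
  unfold ee
  simp

/-- Nondegeneracy of the standard alternating form. -/
theorem ff_nondeg {v : VV} (hv : v ≠ 0) : ∃ w : VV, ff w v ≠ 0 := by
  by_contra hcon
  push Not at hcon
  apply hv
  funext i
  rcases i with k | k
  · have := hcon (ee (Sum.inr k))
    rw [sympForm_eq_sum] at this
    unfold ee at this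
    simpa [Finset.sum_ite_eq', Pi.single_apply] using this
  · have := hcon (ee (Sum.inl k))
    rw [sympForm_eq_sum] at this
    unfold ee at this
    simpa [Finset.sum_ite_eq', Pi.single_apply] using this

/-- A family of vectors with the standard Gram matrix gives an element of the symplectic group. -/
theorem exists_sp_of_basis (b : II → VV) (hb : ∀ i j, ff (b i) (b j) = ff (ee i) (ee j)) :
    ∃ g : GG, g ∈ Cfsg.spGL 2 F ∧ ∀ i, (g : MM) *ᵥ ee i = b i := by
  let M : MM := Matrix.of (fun r c => b c r)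
  have hMe : ∀ i, M *ᵥ ee i = b i := by
    intro i
    unfold ee
    rw [Matrix.mulVec_single_one]
    funext r
    rfl
  have hmem : M ∈ Matrix.symplecticGroup (Fin 2) F := by
    rw [SymplecticGroup.mem_iff']
    ext i j
    have key : ff (M *ᵥ ee i) (M *ᵥ ee j) = (ee i : VV) ⬝ᵥ ((Mᵀ * Matrix.J (Fin 2) F * M) *ᵥ ee j) := by
      rw [sympForm_def]
      symm
      rw [← mulVec_mulVec, ← mulVec_mulVec, dotProduct_mulVec, vecMul_transpose]
    have h1 := hb i j
    rw [← hMe i, ← hMe j, key, ff_ee] at h1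
    unfold ee at h1
    simpa using h1
  have hdet : IsUnit M.det := SymplecticGroup.symplectic_det hmem
  refine ⟨Matrix.nonsingInvUnit M hdet, ?_, ?_⟩
  · exact (mem_symplecticGroup_iff_preserves M).mp hmem
  · intro i
    exact hMe i

/-- If `x` maps a symplectic basis (given by `g`) like the matrix `S` maps the standard basis, then
`g⁻¹ x g = S`. -/
theorem conj_eq_of_basis (x g : GG) (S : MM)
    (h : ∀ i, (x : MM) *ᵥ ((g : MM) *ᵥ ee i) = (g : MM) *ᵥ (S *ᵥ ee i)) :
    ((g⁻¹ * x * g : GG) : MM) = S := by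
  have h1 : (x : MM) * (g : MM) = (g : MM) * S := by
    apply matrix_ext_mulVec
    intro v
    have hv : v = ∑ i, v i • (ee i : VV) := by
      funext j
      unfold ee
      simp [Finset.sum_apply, Pi.single_apply]
    rw [hv, Matrix.mulVec_sum, Matrix.mulVec_sum]
    apply Finset.sum_congr rfl
    intro i _
    rw [Matrix.mulVec_smul, Matrix.mulVec_smul, ← mulVec_mulVec, ← mulVec_mulVec, h i]
  rw [Units.val_mul, Units.val_mul, Matrix.mul_assoc, h1, ← Matrix.mul_assoc, ← Units.val_mul,
    inv_mul_cancel, Units.val_one, Matrix.one_mul]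

end Cfsg.Agent.Lib.Helper9.Ex24
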