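import Mathlib
import Cfsg.Agent.Lib.Helper9.Ex24M

/-!
# Normal form of noncentral involutions of `Sp_4(F)`
-/

set_option autoImplicit false

namespace Cfsg.Agent.Lib.Helper9.Ex24

open Matrix Cfsg.Agent.Lib.Helper6

variable {F : Type*} [Field F]

local notation "II" => (Fin 2 ⊕ Fin 2)
local notation "MM" => Matrix (Fin 2 ⊕ Fin 2) (Fin 2 ⊕ Fin 2) F
local notation "GG" => GL (Fin 2 ⊕ Fin 2) F
local notation "VV" => (Fin 2 ⊕ Fin 2 → F)
local notation "ff" => Cfsg.sympForm 2 F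

/-- signs of the normal form -/
def eps : Fin 2 ⊕ Fin 2 → F := Sum.elim ![1, -1] ![1, -1]

/-- the normal form of a noncentral involution -/
def D1 : MM := Matrix.diagonal eps

theorem D1_ee (i : II) : (D1 : MM) *ᵥ ee i = (eps i : F) • (ee i : VV) := by
  unfold D1 ee
  rw [Matrix.mulVec_single_one]
  funext r
  simp only [Matrix.col_apply, Matrix.diagonal_apply, Pi.smul_apply, Pi.single_apply, smul_eq_mul]
  by_cases hri : r = i
  · subst hri; simp
  · simp [hri]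

theorem orth_of_eigen (h2 : (2 : F) ≠ 0) {X : MM}
    (hX : ∀ u v : VV, ff (X *ᵥ u) (X *ᵥ v) = ff u v) {a b : VV} (ha : X *ᵥ a = a) (hb : X *ᵥ b = -b) :
    ff a b = 0 ∧ ff b a = 0 := by
  have h1 := hX a b
  rw [ha, hb, sympForm_neg_right] at h1
  have h3 : (2 : F) * ff a b = 0 := by linear_combination -h1
  have h4 : ff a b = 0 := by
    rcases mul_eq_zero.mp h3 with h5 | h5
    · exact absurd h5 h2
    · exact h5
  refine ⟨h4, ?_⟩
  rw [sympForm_swap, h4, neg_zero]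

theorem invol_normal_form (h2 : (2 : F) ≠ 0) (x : GG) (hx : x ∈ Cfsg.spGL 2 F)
    (hxx : (x : MM) * (x : MM) = 1) (hx1 : (x : MM) ≠ 1) (hxm : (x : MM) ≠ -1) :
    ∃ g ∈ Cfsg.spGL 2 F, ((g⁻¹ * x * g : GG) : MM) = D1 := by
  set X : MM := (x : MM) with hXdef
  have hX : ∀ u v : VV, ff (X *ᵥ u) (X *ᵥ v) = ff u v := hx
  have hXX : ∀ u : VV, X *ᵥ (X *ᵥ u) = u := by
    intro u; rw [mulVec_mulVec, hxx, one_mulVec]
  -- plus part
  obtain ⟨u, hu⟩ : ∃ u : VV, X *ᵥ u + u ≠ 0 := by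
    by_contra hcon
    push Not at hcon
    apply hxm
    apply matrix_ext_mulVec
    intro v
    rw [Matrix.neg_mulVec, one_mulVec]
    exact eq_neg_of_add_eq_zero_left (hcon v)
  set vp : VV := X *ᵥ u + u with hvp
  have hXvp : X *ᵥ vp = vp := by rw [hvp, mulVec_add, hXX, add_comm]
  obtain ⟨w, hw⟩ := ff_nondeg hu
  set wp' : VV := X *ᵥ w + w with hwp'
  have hXwp' : X *ᵥ wp' = wp' := by rw [hwp', mulVec_add, hXX, add_comm]
  have hcp : ff wp' vp = 2 * ff w vp := by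
    rw [hwp', sympForm_add_left]
    have : ff (X *ᵥ w) vp = ff w vp := by
      conv_lhs => rw [← hXvp]
      exact hX w vp
    rw [this]; ring
  have hcp0 : ff wp' vp ≠ 0 := by rw [hcp]; exact mul_ne_zero h2 hw
  set wp : VV := (ff wp' vp)⁻¹ • wp' with hwp
  have hXwp : X *ᵥ wp = wp := by rw [hwp, mulVec_smul, hXwp']
  have hwv : ff wp vp = 1 := by rw [hwp, sympForm_smul_left, inv_mul_cancel₀ hcp0]
  -- minus part
  obtain ⟨u', hu'⟩ : ∃ u : VV, X *ᵥ u - u ≠ 0 := by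
    by_contra hcon
    push Not at hcon
    apply hx1
    apply matrix_ext_mulVec
    intro v
    rw [one_mulVec]
    exact sub_eq_zero.mp (hcon v)
  set vm : VV := X *ᵥ u' - u' with hvm
  have hXvm : X *ᵥ vm = -vm := by rw [hvm, mulVec_sub, hXX]; abel
  obtain ⟨w', hw'⟩ := ff_nondeg hu'
  set wm' : VV := X *ᵥ w' - w' with hwm'
  have hXwm' : X *ᵥ wm' = -wm' := by rw [hwm', mulVec_sub, hXX]; abel
  have hcm : ff wm' vm = -(2 * ff w' vm) := by
    rw [hwm', sympForm_sub_left]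
    have : ff (X *ᵥ w') vm = -ff w' vm := by
      have h1 := hX w' vm
      rw [hXvm, sympForm_neg_right] at h1
      linear_combination -h1
    rw [this]; ring
  have hcm0 : ff wm' vm ≠ 0 := by rw [hcm]; exact neg_ne_zero.mpr (mul_ne_zero h2 hw')
  set wm : VV := (ff wm' vm)⁻¹ • wm' with hwm
  have hXwm : X *ᵥ wm = -wm := by rw [hwm, mulVec_smul, hXwm', smul_neg]
  have hwvm : ff wm vm = 1 := by rw [hwm, sympForm_smul_left, inv_mul_cancel₀ hcm0]
  -- the basis
  let b : II → VV := Sum.elim ![vp, vm] ![wp, wm]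
  have o1 := orth_of_eigen h2 hX hXvp hXvm
  have o2 := orth_of_eigen h2 hX hXvp hXwm
  have o3 := orth_of_eigen h2 hX hXwp hXvm
  have o4 := orth_of_eigen h2 hX hXwp hXwm
  have s1 : ff vp wp = -1 := by rw [sympForm_swap, hwv]
  have s2 : ff vm wm = -1 := by rw [sympForm_swap, hwvm]
  have hb : ∀ i j, ff (b i) (b j) = ff (ee i) (ee j) := by
    intro i j
    rw [ff_ee]
    rcases i with i | i <;> rcases j with j | j <;> fin_cases i <;> fin_cases j <;>
      simp [b, Matrix.J, sympForm_self, o1.1, o1.2, o2.1, o2.2, o3.1, o3.2, o4.1, o4.2, s1, s2, hwv, hwvm]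
  obtain ⟨g, hg, hge⟩ := exists_sp_of_basis b hb
  refine ⟨g, hg, ?_⟩
  apply conj_eq_of_basis
  intro i
  rw [hge, D1_ee, mulVec_smul, hge]
  change X *ᵥ b i = eps i • b i
  rcases i with i | i <;> fin_cases i <;> simp [b, eps, hXvp, hXvm, hXwp, hXwm]

end Cfsg.Agent.Lib.Helper9.Ex24
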