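import Mathlib
import Cfsg.Agent.Lib.Helper9.Ex24M

/-!
# Normal form of the elements of `Sp_4(F)` with square `-1`
-/

set_option autoImplicit false

namespace Cfsg.Agent.Lib.Helper9.Ex24

open Matrix Cfsg.Agent.Lib.Helper6

variable {F : Type*} [Field F]

local notation "II" => (Fin 2 ⊕ Fin 2)
local notation "MM" => Matrix (Fin 2 ⊕ Fin 2) (Fin 2 ⊕ Fin 2) F
local notation "GG" => GL (Fin 2 ⊕ Fin 2) F
local notation "VV" => (Fin 2 ⊕ Fin 2 → F)
local notation "ff" => Cfsg.sympForm 2 F

/-- the normal form of an element with square `-1` -/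
def S2 : MM := Matrix.fromBlocks 0 1 (-1) 0

theorem S2_ee_inr (k : Fin 2) : (S2 : MM) *ᵥ ee (Sum.inr k) = ee (Sum.inl k) := by
  unfold S2 ee
  rw [Matrix.mulVec_single_one]
  funext r
  rcases r with r | r
  · simp [Matrix.one_apply, Pi.single_apply, eq_comm]
  · simp [Pi.single_apply]

theorem S2_ee_inl (k : Fin 2) : (S2 : MM) *ᵥ ee (Sum.inl k) = -(ee (Sum.inr k) : VV) := by
  unfold S2 ee
  rw [Matrix.mulVec_single_one]
  funext r
  rcases r with r | r
  · simp [Pi.single_apply]
  · simp [Matrix.one_apply, Pi.single_apply, eq_comm]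

theorem exists_sq_add_sq [Fintype F] (hodd : Fintype.card F % 2 = 1) (c : F) :
    ∃ a b : F, a ^ 2 + b ^ 2 = c := by
  open Polynomial in
  obtain ⟨a, b, hab⟩ := FiniteField.exists_root_sum_quadratic (R := F) (f := X ^ 2) (g := X ^ 2 - C c)
    (degree_X_pow 2) (by rw [degree_X_pow_sub_C (by norm_num) c]; rfl) hodd
  refine ⟨a, b, ?_⟩
  simp only [Polynomial.eval_pow, Polynomial.eval_X, Polynomial.eval_sub, Polynomial.eval_C] at hab
  linear_combination hab

/-- normalising a vector `v` with `f(v, Xv) ≠ 0` to `f(v', Xv') = 1` inside the `X`-invariant plane. -/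
theorem normalize_plane [Fintype F] (hodd : Fintype.card F % 2 = 1) {X : MM}
    (hX : ∀ u v : VV, ff (X *ᵥ u) (X *ᵥ v) = ff u v) (hXX : ∀ u : VV, X *ᵥ (X *ᵥ u) = -u)
    {v : VV} (hv : ff v (X *ᵥ v) ≠ 0) :
    ∃ α β : F, ff (α • v + β • (X *ᵥ v)) (X *ᵥ (α • v + β • (X *ᵥ v))) = 1 := by
  obtain ⟨α, β, hαβ⟩ := exists_sq_add_sq hodd (ff v (X *ᵥ v))⁻¹
  refine ⟨α, β, ?_⟩
  have h1 : ff (X *ᵥ v) v = -ff v (X *ᵥ v) := sympForm_swap _ _
  have h2 : ff (X *ᵥ v) (X *ᵥ v) = 0 := sympForm_self _
  rw [mulVec_add, mulVec_smul, mulVec_smul, hXX]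
  simp only [sympForm_add_left, sympForm_add_right, sympForm_smul_left, sympForm_smul_right,
    sympForm_neg_right, sympForm_self, h1, h2]
  have : (α ^ 2 + β ^ 2) * ff v (X *ᵥ v) = 1 := by rw [hαβ, inv_mul_cancel₀ hv]
  linear_combination this

theorem sq_neg_normal_form [Fintype F] (hodd : Fintype.card F % 2 = 1) (h2 : (2 : F) ≠ 0) (x : GG)
    (hx : x ∈ Cfsg.spGL 2 F) (hxx : (x : MM) * (x : MM) = -1) :
    ∃ g ∈ Cfsg.spGL 2 F, ((g⁻¹ * x * g : GG) : MM) = S2 := by
  classical
  set X : MM := (x : MM) with hXdef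
  have hX : ∀ u v : VV, ff (X *ᵥ u) (X *ᵥ v) = ff u v := hx
  have hXX : ∀ u : VV, X *ᵥ (X *ᵥ u) = -u := by
    intro u; rw [mulVec_mulVec, hxx, Matrix.neg_mulVec, one_mulVec]
  have hXl : ∀ u w : VV, ff (X *ᵥ u) w = -ff u (X *ᵥ w) := by
    intro u w
    have := hX (X *ᵥ u) w
    rw [hXX, sympForm_neg_left] at this
    linear_combination -this
  have hBsym : ∀ u w : VV, ff u (X *ᵥ w) = ff w (X *ᵥ u) := by
    intro u w
    rw [sympForm_swap w, hXl]; ring
  -- Step 1
  obtain ⟨v, hv⟩ : ∃ v : VV, ff v (X *ᵥ v) ≠ 0 := by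
    by_contra hcon
    push Not at hcon
    have hall : ∀ u w : VV, ff u (X *ᵥ w) = 0 := by
      intro u w
      have h1 := hcon (u + w)
      rw [mulVec_add] at h1
      simp only [sympForm_add_left, sympForm_add_right, hcon u, hcon w] at h1
      rw [hBsym w u] at h1
      have : (2 : F) * ff u (X *ᵥ w) = 0 := by linear_combination h1
      rcases mul_eq_zero.mp this with h3 | h3
      · exact absurd h3 h2
      · exact h3
    have hXz : ∀ w : VV, X *ᵥ w = 0 := by
      intro w
      by_contra hne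
      obtain ⟨u, hu⟩ := ff_nondeg hne
      exact hu (hall u w)
    have : (ee (Sum.inl 0) : VV) = 0 := by
      have := hXX (ee (Sum.inl 0))
      rw [hXz (ee (Sum.inl 0)), Matrix.mulVec_zero] at this
      exact neg_eq_zero.mp this.symm
    have h1 := congrFun this (Sum.inl 0)
    unfold ee at h1
    simp at h1
  -- Step 2
  obtain ⟨α, β, hA⟩ := normalize_plane hodd hX hXX hv
  set A : VV := α • v + β • (X *ᵥ v) with hAdef
  set A' : VV := X *ᵥ A with hA'def
  have hA'A : ff A' A = -1 := by rw [sympForm_swap, hA]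
  have hA'A' : ff A' A' = 0 := sympForm_self _
  -- Step 3 : projection
  let π : VV → VV := fun u => u - ff u A' • A + ff u A • A'
  have hπA : ∀ u, ff (π u) A = 0 := by
    intro u
    simp only [π, sympForm_add_left, sympForm_sub_left, sympForm_smul_left, sympForm_self, hA'A]
    ring
  have hπA' : ∀ u, ff (π u) A' = 0 := by
    intro u
    simp only [π, sympForm_add_left, sympForm_sub_left, sympForm_smul_left, hA, hA'A']
    ring
  have hπadd : ∀ u w, π (u + w) = π u + π w := by
    intro u w
    simp only [π, sympForm_add_left, add_smul]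
    abel
  have hπX : ∀ u, π (X *ᵥ u) = X *ᵥ (π u) := by
    intro u
    simp only [π]
    rw [mulVec_add, mulVec_sub, mulVec_smul, mulVec_smul, hXX A, hXl u A, hX u A]
    simp only [hA'def, smul_neg, neg_smul]
    abel
  obtain ⟨u0, hu0⟩ : ∃ u : VV, ff (π u) (X *ᵥ (π u)) ≠ 0 := by
    by_contra hcon
    push Not at hcon
    have hall : ∀ u w : VV, ff (π u) (X *ᵥ (π w)) = 0 := by
      intro u w
      have h1 := hcon (u + w)
      rw [hπadd, mulVec_add] at h1
      simp only [sympForm_add_left, sympForm_add_right, hcon u, hcon w] at h1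
      rw [hBsym (π w) (π u)] at h1
      have : (2 : F) * ff (π u) (X *ᵥ (π w)) = 0 := by linear_combination h1
      rcases mul_eq_zero.mp this with h3 | h3
      · exact absurd h3 h2
      · exact h3
    have hππ : ∀ u w : VV, ff (π u) (π w) = 0 := by
      intro u w
      have h1 := hall u (-(X *ᵥ w))
      have h3 : X *ᵥ π (-(X *ᵥ w)) = π w := by
        rw [← hπX, Matrix.mulVec_neg, hXX, neg_neg]
      rw [h3] at h1
      exact h1
    have hπ0 : ∀ u : VV, π u = 0 := by
      intro u
      by_contra hne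
      obtain ⟨w, hw⟩ := ff_nondeg hne
      apply hw
      have hw' : w = π w + (ff w A' • A - ff w A • A') := by
        simp only [π]; abel
      rw [sympForm_swap]
      rw [hw']
      simp only [sympForm_add_right, sympForm_sub_right, sympForm_smul_right, hππ, hπA, hπA']
      ring
    have hspan : ∀ u : VV, u ∈ Submodule.span F ({A, A'} : Set VV) := by
      intro u
      have h1 := hπ0 u
      have h3 : u = ff u A' • A + (-ff u A) • A' := by
        have : u = π u + (ff u A' • A - ff u A • A') := by simp only [π]; abel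
        rw [h1, zero_add] at this
        rw [neg_smul, ← sub_eq_add_neg]
        exact this
      rw [h3]
      apply Submodule.add_mem
      · exact Submodule.smul_mem _ _ (Submodule.subset_span (by simp))
      · exact Submodule.smul_mem _ _ (Submodule.subset_span (by simp))
    have htop : (⊤ : Submodule F VV) ≤ Submodule.span F ({A, A'} : Set VV) := fun u _ => hspan u
    have hfr : Module.finrank F VV = 4 := by
      rw [Module.finrank_fintype_fun_eq_card]; simp
    have h1 := Submodule.finrank_mono htop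
    rw [finrank_top, hfr] at h1
    have h3 : Module.finrank F (Submodule.span F ({A, A'} : Set VV)) ≤ 2 := by
      have := finrank_span_finset_le_card (R := F) ({A, A'} : Finset VV)
      have hc : ({A, A'} : Finset VV).card ≤ 2 := Finset.card_le_two
      have hcoe : ((({A, A'} : Finset VV) : Set VV)) = ({A, A'} : Set VV) := by simp
      rw [hcoe] at this
      have this' : Module.finrank F (Submodule.span F ({A, A'} : Set VV)) ≤
          ({A, A'} : Finset VV).card := this
      omega
    omega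
  -- Step 4
  obtain ⟨α', β', hW⟩ := normalize_plane hodd hX hXX hu0
  set W₀ : VV := π u0 with hW₀
  set W : VV := α' • W₀ + β' • (X *ᵥ W₀) with hWdef
  set W' : VV := X *ᵥ W with hW'def
  have hW'W : ff W' W = -1 := by rw [sympForm_swap, hW]
  have e1 : ff W₀ A = 0 := hπA u0
  have e2 : ff W₀ A' = 0 := hπA' u0
  have e3 : ff (X *ᵥ W₀) A = 0 := by rw [hXl, ← hA'def, e2, neg_zero]
  have e4 : ff (X *ᵥ W₀) A' = 0 := by rw [hA'def, hX, e1]
  have hWA : ff W A = 0 := by
    rw [hWdef]
    simp only [sympForm_add_left, sympForm_smul_left, e1, e3]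
    ring
  have hWA' : ff W A' = 0 := by
    rw [hWdef]
    simp only [sympForm_add_left, sympForm_smul_left, e2, e4]
    ring
  have hAW : ff A W = 0 := by rw [sympForm_swap, hWA, neg_zero]
  have hA'W : ff A' W = 0 := by rw [sympForm_swap, hWA', neg_zero]
  have hW'A : ff W' A = 0 := by rw [hW'def, hXl, ← hA'def, hWA', neg_zero]
  have hW'A' : ff W' A' = 0 := by rw [hW'def, hA'def, hX, hWA]
  have hAW' : ff A W' = 0 := by rw [sympForm_swap, hW'A, neg_zero]
  have hA'W' : ff A' W' = 0 := by rw [sympForm_swap, hW'A', neg_zero]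
  let b : II → VV := Sum.elim ![A', W'] ![A, W]
  have hb : ∀ i j, ff (b i) (b j) = ff (ee i) (ee j) := by
    intro i j
    rw [ff_ee]
    rcases i with i | i <;> rcases j with j | j <;> fin_cases i <;> fin_cases j <;>
      simp [b, Matrix.J, sympForm_self, hA, hW, hA'A, hW'W, hWA, hWA', hAW, hA'W, hW'A, hW'A', hAW',
        hA'W']
  obtain ⟨g, hg, hge⟩ := exists_sp_of_basis b hb
  refine ⟨g, hg, ?_⟩
  apply conj_eq_of_basis
  intro i
  rw [hge]
  change X *ᵥ b i = _
  rcases i with i | i
  · rw [S2_ee_inl, Matrix.mulVec_neg, hge]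
    fin_cases i
    · simp [b, hA'def, hXX]
    · simp [b, hW'def, hXX]
  · rw [S2_ee_inr, hge]
    fin_cases i
    · simp [b, hA'def]
    · simp [b, hW'def]

end Cfsg.Agent.Lib.Helper9.Ex24
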