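import Mathlib
import Cfsg.Agent.Lib.Helper9.Ex24J
import Cfsg.Agent.Lib.Helper9.Ex24N
import Cfsg.Agent.Lib.Helper9.Ex24O

/-!
# Elements of order 2 of `PSp_4(F)` are conjugate into `R`
-/

set_option autoImplicit false

namespace Cfsg.Agent.Lib.Helper9.Ex24

open Matrix Cfsg.Agent.Lib.Helper6

variable {F : Type*} [Field F]

local notation "MM" => Matrix (Fin 2 ⊕ Fin 2) (Fin 2 ⊕ Fin 2) F
local notation "GG" => GL (Fin 2 ⊕ Fin 2) F

variable {R : Subgroup (GL (Fin 2 ⊕ Fin 2) F)}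

theorem le_subgroupNormalizer : R ≤ Cfsg.Geo.subgroupNormalizer R := by
  intro g hg
  unfold Cfsg.Geo.subgroupNormalizer
  exact Subgroup.le_normalizer hg

/-- two elements of `Sp` with the same normal form are conjugate in `Sp`. -/
theorem conj_of_same_normal_form {x t : GG} {S : MM} {g k : GG} (hg : g ∈ Cfsg.spGL 2 F)
    (hk : k ∈ Cfsg.spGL 2 F) (hx : ((g⁻¹ * x * g : GG) : MM) = S)
    (ht : ((k⁻¹ * t * k : GG) : MM) = S) :
    ∃ a ∈ Cfsg.spGL 2 F, a⁻¹ * x * a = t := by
  refine ⟨g * k⁻¹, Subgroup.mul_mem _ hg (Subgroup.inv_mem _ hk), ?_⟩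
  have e : g⁻¹ * x * g = k⁻¹ * t * k := Units.ext (by rw [hx, ht])
  calc (g * k⁻¹)⁻¹ * x * (g * k⁻¹) = k * (g⁻¹ * x * g) * k⁻¹ := by group
    _ = k * (k⁻¹ * t * k) * k⁻¹ := by rw [e]
    _ = t := by group

/-- `R` contains a noncentral involution. -/
theorem Hyp.exists_invol_mat (h : Hyp R) :
    ∃ t ∈ R, (t : MM) * (t : MM) = 1 ∧ (t : MM) ≠ 1 ∧ (t : MM) ≠ -1 := by
  obtain ⟨t, ht, ht1, htz⟩ := h.es.exists_invol
  refine ⟨t, t.2, ?_, ?_, ?_⟩
  · have := congrArg (fun g : ↥R => ((g : GG) : MM)) ht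
    simpa using this
  · intro e
    apply ht1
    apply Subtype.ext
    apply val_inj
    simpa using e
  · intro e
    apply htz
    apply Subtype.ext
    apply val_inj
    simp only [Hyp.zz, neg_one_val]
    exact e

/-- `R` contains an element of square `-1`. -/
theorem Hyp.exists_sq_neg_mat (h : Hyp R) :
    ∃ s ∈ R, (s : MM) * (s : MM) = -1 := by
  classical
  have hfin := h.es.finite
  haveI : Fintype ↥R := Fintype.ofFinite _
  by_contra hcon
  push Not at hcon
  have hall : ∀ g : ↥R, g * g = 1 := by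
    intro g
    rcases h.es.sq g with e | e
    · exact e
    · exfalso
      apply hcon g g.2
      have := congrArg (fun g : ↥R => ((g : GG) : MM)) e
      simpa [Hyp.zz, neg_one_val] using this
  have h12 := h.es.card_sq_one
  have : (Finset.univ.filter (fun g : ↥R => g * g = 1)) = Finset.univ := by
    apply Finset.filter_true_of_mem
    intro g _
    exact hall g
  rw [this, Finset.card_univ, h.es.fcard] at h12
  omega

/-- The case `r = 2`: every nonscalar element of `Sp_4(F)` with scalar square is conjugate into `R`. -/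
theorem Hyp.two_fixes (h : Hyp R) [Fintype F] (hodd : Fintype.card F % 2 = 1) (x : GG)
    (hx : x ∈ Cfsg.spGL 2 F) (c : F) (hc : ((x ^ 2 : GG) : MM) = c • (1 : MM))
    (hns : ∀ z : F, (x : MM) ≠ z • (1 : MM)) :
    ∃ g ∈ Cfsg.spGL 2 F, g⁻¹ * x * g ∈ Cfsg.Geo.subgroupNormalizer R := by
  have hc' := scalar_sp (Subgroup.pow_mem _ hx 2) hc
  have hxx : (x : MM) * (x : MM) = c • (1 : MM) := by
    rw [← hc, pow_two, Units.val_mul]
  rcases hc' with rfl | rfl
  · rw [one_smul] at hxx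
    have hx1 : (x : MM) ≠ 1 := by
      intro e; exact hns 1 (by rw [e, one_smul])
    have hxm : (x : MM) ≠ -1 := by
      intro e; exact hns (-1) (by rw [e, neg_smul, one_smul])
    obtain ⟨g, hg, hgx⟩ := invol_normal_form h.two_ne x hx hxx hx1 hxm
    obtain ⟨t, ht, htt, ht1, htm⟩ := h.exists_invol_mat
    obtain ⟨k, hk, hkt⟩ := invol_normal_form h.two_ne t (h.le_sp ht) htt ht1 htm
    obtain ⟨a, ha, hax⟩ := conj_of_same_normal_form hg hk hgx hkt
    exact ⟨a, ha, by rw [hax]; exact le_subgroupNormalizer ht⟩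
  · rw [neg_smul, one_smul] at hxx
    obtain ⟨g, hg, hgx⟩ := sq_neg_normal_form hodd h.two_ne x hx hxx
    obtain ⟨s, hs, hss⟩ := h.exists_sq_neg_mat
    obtain ⟨k, hk, hks⟩ := sq_neg_normal_form hodd h.two_ne s (h.le_sp hs) hss
    obtain ⟨a, ha, hax⟩ := conj_of_same_normal_form hg hk hgx hks
    exact ⟨a, ha, by rw [hax]; exact le_subgroupNormalizer hs⟩

end Cfsg.Agent.Lib.Helper9.Ex24
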