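import Mathlib
import Cfsg.Agent.Lib.Helper9.Ex24P

/-!
# An element of order `5` in the normalizer of `R` inside `Sp_4(F)`
-/

set_option autoImplicit false

namespace Cfsg.Agent.Lib.Helper9.Ex24

open Matrix Cfsg.Agent.Lib.Helper6

section ring

variable {A : Type*} [Ring A]

theorem semi_one_add_1 {a b : A} (ha : a * a = 1) (_hb : b * b = 1) (_hab : a * b = -(b * a)) :
    SemiconjBy (1 + b * a) a b := by
  unfold SemiconjBy
  rw [add_mul, one_mul, mul_assoc, ha, mul_one, mul_add, mul_one, ← mul_assoc, _hb, one_mul, add_comm]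

theorem semi_one_add_2 {a b : A} (ha : a * a = 1) (hb : b * b = 1) (hab : a * b = -(b * a)) :
    SemiconjBy (1 + b * a) b (-a) := by
  unfold SemiconjBy
  rw [add_mul, one_mul, mul_assoc, hab, mul_neg, ← mul_assoc, hb, one_mul, mul_add, mul_one,
    neg_mul, ← mul_assoc, hab, neg_mul, neg_neg, mul_assoc, ha, mul_one]
  abel

theorem semi_one_add_3 {a b c : A} (hca : c * a = -(a * c)) (hcb : c * b = -(b * c)) :
    SemiconjBy (1 + b * a) c c := by
  unfold SemiconjBy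
  rw [add_mul, one_mul, mul_add, mul_one, mul_assoc, ← mul_assoc c b a, hcb, neg_mul, mul_assoc,
    hca, mul_neg, neg_neg]

theorem sq_neg_of_anti {a b : A} (ha : a * a = 1) (hb : b * b = 1) (hab : a * b = -(b * a)) :
    (b * a) * (b * a) = -1 := by
  rw [mul_assoc, ← mul_assoc a b a, hab, neg_mul, mul_neg, mul_assoc, ha, mul_one, hb]

theorem one_add_mul_one_sub {w : A} (hw : w * w = -1) : (1 + w) * (1 - w) = 2 := by
  rw [add_mul, one_mul, mul_sub, mul_one, hw, ← one_add_one_eq_two]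
  abel

theorem one_sub_mul_one_add {w : A} (hw : w * w = -1) : (1 - w) * (1 + w) = 2 := by
  rw [sub_mul, one_mul, mul_add, mul_one, hw, ← one_add_one_eq_two]
  abel

end ring

variable {F : Type*} [Field F]

local notation "II" => (Fin 2 ⊕ Fin 2)
local notation "MM" => Matrix (Fin 2 ⊕ Fin 2) (Fin 2 ⊕ Fin 2) F
local notation "GG" => GL (Fin 2 ⊕ Fin 2) F
local notation "VV" => (Fin 2 ⊕ Fin 2 → F)
local notation "ff" => Cfsg.sympForm 2 F

/-- `(1/2)(1+w)(1+w')` as an invertible matrix -/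
def vv (h2 : (2 : F) ≠ 0) (w w' : MM) (hw : w * w = -1) (hw' : w' * w' = -1) : GG where
  val := (2 : F)⁻¹ • ((1 + w) * (1 + w'))
  inv := (2 : F)⁻¹ • ((1 - w') * (1 - w))
  val_inv := by
    rw [smul_mul_smul_comm, Matrix.mul_assoc, ← Matrix.mul_assoc (1 + w') _ _,
      one_add_mul_one_sub hw']
    have e : (1 + w) * ((2 : MM) * (1 - w)) = (2 : MM) * ((1 + w) * (1 - w)) := by
      rw [← Matrix.mul_assoc, ← Matrix.mul_assoc]
      congr 1
      rw [mul_two, two_mul]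
    rw [e, one_add_mul_one_sub hw]
    have e2 : (2 : MM) * 2 = ((2 : F) * 2) • (1 : MM) := by
      rw [mul_smul, two_smul, two_smul, show (2 : MM) = 1 + 1 from one_add_one_eq_two.symm]
      simp only [Matrix.mul_add, Matrix.add_mul, Matrix.one_mul]
    rw [e2, smul_smul]
    have : (2 : F)⁻¹ * 2⁻¹ * (2 * 2) = 1 := by field_simp
    rw [this, one_smul]
  inv_val := by
    rw [smul_mul_smul_comm, Matrix.mul_assoc, ← Matrix.mul_assoc (1 - w) _ _,
      one_sub_mul_one_add hw]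
    have e : (1 - w') * ((2 : MM) * (1 + w')) = (2 : MM) * ((1 - w') * (1 + w')) := by
      rw [← Matrix.mul_assoc, ← Matrix.mul_assoc]
      congr 1
      rw [mul_two, two_mul]
    rw [e, one_sub_mul_one_add hw']
    have e2 : (2 : MM) * 2 = ((2 : F) * 2) • (1 : MM) := by
      rw [mul_smul, two_smul, two_smul, show (2 : MM) = 1 + 1 from one_add_one_eq_two.symm]
      simp only [Matrix.mul_add, Matrix.add_mul, Matrix.one_mul]
    rw [e2, smul_smul]
    have : (2 : F)⁻¹ * 2⁻¹ * (2 * 2) = 1 := by field_simp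
    rw [this, one_smul]

theorem vv_val (h2 : (2 : F) ≠ 0) (w w' : MM) (hw : w * w = -1) (hw' : w' * w' = -1) :
    ((vv h2 w w' hw hw' : GG) : MM) = (2 : F)⁻¹ • ((1 + w) * (1 + w')) := rfl

theorem vv_inv_val (h2 : (2 : F) ≠ 0) (w w' : MM) (hw : w * w = -1) (hw' : w' * w' = -1) :
    (((vv h2 w w' hw hw')⁻¹ : GG) : MM) = (2 : F)⁻¹ • ((1 - w') * (1 - w)) := rfl

/-- `1 + w` multiplies the form by `2`. -/
theorem form_one_add {w : MM} (hws : ∀ u v : VV, ff (w *ᵥ u) (w *ᵥ v) = ff u v) (hw : w * w = -1)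
    (u v : VV) : ff ((1 + w) *ᵥ u) ((1 + w) *ᵥ v) = 2 * ff u v := by
  rw [Matrix.add_mulVec, Matrix.add_mulVec, one_mulVec, one_mulVec]
  simp only [sympForm_add_left, sympForm_add_right, hws]
  have : ff (w *ᵥ u) v = -ff u (w *ᵥ v) := by
    have h1 := hws (w *ᵥ u) v
    rw [mulVec_mulVec, hw, Matrix.neg_mulVec, one_mulVec, sympForm_neg_left] at h1
    linear_combination -h1
  rw [this]; ring

theorem vv_mem (h2 : (2 : F) ≠ 0) (w w' : MM) (hw : w * w = -1) (hw' : w' * w' = -1)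
    (hws : ∀ u v : VV, ff (w *ᵥ u) (w *ᵥ v) = ff u v)
    (hws' : ∀ u v : VV, ff (w' *ᵥ u) (w' *ᵥ v) = ff u v) :
    vv h2 w w' hw hw' ∈ Cfsg.spGL 2 F := by
  intro u v
  change ff (((vv h2 w w' hw hw' : GG) : MM) *ᵥ u) (((vv h2 w w' hw hw' : GG) : MM) *ᵥ v) = ff u v
  rw [vv_val, Matrix.smul_mulVec, Matrix.smul_mulVec, sympForm_smul_left, sympForm_smul_right,
    ← mulVec_mulVec, ← mulVec_mulVec, form_one_add hws hw, form_one_add hws' hw']
  field_simp

variable {R : Subgroup (GL (Fin 2 ⊕ Fin 2) F)}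

theorem Hyp.one_add_conj (h : Hyp R) {w : GG} (hw : w ∈ R) (hww : (w : MM) * (w : MM) = -1) {g : GG}
    (hg : g ∈ R) : ∃ g' ∈ R, (1 + (w : MM)) * (g : MM) = (g' : MM) * (1 + (w : MM)) := by
  rcases h.comm_or hg hw with e | e
  · refine ⟨g, hg, ?_⟩
    rw [add_mul, one_mul, mul_add, mul_one, e]
  · refine ⟨w * g, R.mul_mem hw hg, ?_⟩
    rw [Units.val_mul, add_mul, one_mul, mul_add, mul_one, Matrix.mul_assoc, e, Matrix.mul_neg,
      ← Matrix.mul_assoc, hww, neg_mul, one_mul, neg_neg, add_comm]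

theorem Hyp.one_sub_conj (h : Hyp R) {w : GG} (hw : w ∈ R) (hww : (w : MM) * (w : MM) = -1) {g : GG}
    (hg : g ∈ R) : ∃ g' ∈ R, (1 - (w : MM)) * (g : MM) = (g' : MM) * (1 - (w : MM)) := by
  rcases h.comm_or hg hw with e | e
  · refine ⟨g, hg, ?_⟩
    rw [sub_mul, one_mul, mul_sub, mul_one, e]
  · refine ⟨-1 * (w * g), R.mul_mem h.neg_one_mem (R.mul_mem hw hg), ?_⟩
    have e3 : (w : MM) * (g : MM) * (w : MM) = (g : MM) := by
      rw [Matrix.mul_assoc, e, Matrix.mul_neg, ← Matrix.mul_assoc, hww, neg_mul, one_mul, neg_neg]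
    rw [Units.val_mul, Units.val_mul, neg_one_val, sub_mul, one_mul, mul_sub, mul_one, neg_one_mul,
      neg_mul, e3]
    abel

theorem Hyp.vv_conj (h : Hyp R) {w w' : GG} (hw : w ∈ R) (hw' : w' ∈ R)
    (hww : (w : MM) * (w : MM) = -1) (hww' : (w' : MM) * (w' : MM) = -1) {g : GG} (hg : g ∈ R) :
    ∃ g' ∈ R, vv h.two_ne (w : MM) (w' : MM) hww hww' * g = g' * vv h.two_ne (w : MM) (w' : MM) hww hww' := by
  obtain ⟨g1, hg1, e1⟩ := h.one_add_conj hw' hww' hg
  obtain ⟨g2, hg2, e2⟩ := h.one_add_conj hw hww hg1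
  refine ⟨g2, hg2, ?_⟩
  apply Units.ext
  rw [Units.val_mul, Units.val_mul, vv_val, smul_mul_assoc, mul_smul_comm, Matrix.mul_assoc, e1,
    ← Matrix.mul_assoc, e2, Matrix.mul_assoc]

theorem Hyp.vv_inv_conj (h : Hyp R) {w w' : GG} (hw : w ∈ R) (hw' : w' ∈ R)
    (hww : (w : MM) * (w : MM) = -1) (hww' : (w' : MM) * (w' : MM) = -1) {g : GG} (hg : g ∈ R) :
    ∃ g' ∈ R, (vv h.two_ne (w : MM) (w' : MM) hww hww')⁻¹ * g
      = g' * (vv h.two_ne (w : MM) (w' : MM) hww hww')⁻¹ := by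
  obtain ⟨g1, hg1, e1⟩ := h.one_sub_conj hw hww hg
  obtain ⟨g2, hg2, e2⟩ := h.one_sub_conj hw' hww' hg1
  refine ⟨g2, hg2, ?_⟩
  apply Units.ext
  rw [Units.val_mul, Units.val_mul, vv_inv_val, smul_mul_assoc, mul_smul_comm, Matrix.mul_assoc, e1,
    ← Matrix.mul_assoc, e2, Matrix.mul_assoc]

theorem Hyp.vv_normalizes (h : Hyp R) {w w' : GG} (hw : w ∈ R) (hw' : w' ∈ R)
    (hww : (w : MM) * (w : MM) = -1) (hww' : (w' : MM) * (w' : MM) = -1) :
    vv h.two_ne (w : MM) (w' : MM) hww hww' ∈ Cfsg.Geo.subgroupNormalizer R := by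
  unfold Cfsg.Geo.subgroupNormalizer
  rw [Subgroup.mem_normalizer_iff]
  intro k
  constructor
  · intro hk
    obtain ⟨g', hg', e⟩ := h.vv_conj hw hw' hww hww' hk
    rw [e, mul_inv_cancel_right]
    exact hg'
  · intro hk
    obtain ⟨g', hg', e⟩ := h.vv_inv_conj hw hw' hww hww' hk
    have : k = g' := by
      set v := vv h.two_ne (w : MM) (w' : MM) hww hww' with hv
      calc k = v⁻¹ * (v * k * v⁻¹) * v := by group
        _ = g' * v⁻¹ * v := by rw [e]
        _ = g' := by group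
    rw [this]; exact hg'

end Cfsg.Agent.Lib.Helper9.Ex24
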