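import Mathlib
import Cfsg.Agent.Lib.Helper9.Ex24Q

/-!
# An element of order `5` in the normalizer of `R` inside `Sp_4(F)`, part 2
-/

set_option autoImplicit false

namespace Cfsg.Agent.Lib.Helper9.Ex24

open Matrix Cfsg.Agent.Lib.Helper6

section ring

variable {A : Type*} [Ring A] {K : Type*} [Semiring K] [Module K A] [IsScalarTower K A A]
  [SMulCommClass K A A]

theorem semi_smul {M x y : A} (c : K) (h : SemiconjBy M x y) : SemiconjBy (c • M) x y := by
  unfold SemiconjBy at h ⊢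
  rw [smul_mul_assoc, mul_smul_comm, h]

/-- the product of the four "rotations" permutes the five anticommuting involutions cyclically up to sign -/
theorem five_cycle (T : Fin 5 → A) (hsq : ∀ a, T a * T a = 1)
    (hanti : ∀ a b, a ≠ b → T a * T b = -(T b * T a)) (c d : K) (Y : A)
    (hY : Y = (c • ((1 + T 4 * T 3) * (1 + T 3 * T 2))) * (d • ((1 + T 2 * T 1) * (1 + T 1 * T 0)))) :
    SemiconjBy Y (T 0) (T 4) ∧ SemiconjBy Y (T 1) (-T 0) ∧ SemiconjBy Y (T 2) (-T 1) ∧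
      SemiconjBy Y (T 3) (-T 2) ∧ SemiconjBy Y (T 4) (-T 3) := by
  have s1 : ∀ a b, a ≠ b → SemiconjBy (1 + T b * T a) (T a) (T b) := fun a b hab =>
    semi_one_add_1 (hsq a) (hsq b) (hanti a b hab)
  have s2 : ∀ a b, a ≠ b → SemiconjBy (1 + T b * T a) (T b) (-T a) := fun a b hab =>
    semi_one_add_2 (hsq a) (hsq b) (hanti a b hab)
  have s3 : ∀ a b c, c ≠ a → c ≠ b → SemiconjBy (1 + T b * T a) (T c) (T c) := fun a b c hca hcb =>
    semi_one_add_3 (hanti c a hca) (hanti c b hcb)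
  have s3' : ∀ a b c, c ≠ a → c ≠ b → SemiconjBy (1 + T b * T a) (-T c) (-T c) := fun a b c hca hcb =>
    (s3 a b c hca hcb).neg_right
  subst hY
  refine ⟨?_, ?_, ?_, ?_, ?_⟩
  · -- T0 → T1 → T2 → T3 → T4
    exact (semi_smul c ((s1 3 4 (by decide)).mul_left (s1 2 3 (by decide)))).mul_left
      (semi_smul d ((s1 1 2 (by decide)).mul_left (s1 0 1 (by decide))))
  · -- T1 → -T0
    exact (semi_smul c ((s3' 3 4 0 (by decide) (by decide)).mul_left
      (s3' 2 3 0 (by decide) (by decide)))).mul_left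
      (semi_smul d ((s3' 1 2 0 (by decide) (by decide)).mul_left (s2 0 1 (by decide))))
  · -- T2 → T2 → -T1
    exact (semi_smul c ((s3' 3 4 1 (by decide) (by decide)).mul_left
      (s3' 2 3 1 (by decide) (by decide)))).mul_left
      (semi_smul d ((s2 1 2 (by decide)).mul_left (s3 0 1 2 (by decide) (by decide))))
  · -- T3 → T3 → T3 → -T2
    exact (semi_smul c ((s3' 3 4 2 (by decide) (by decide)).mul_left
      (s2 2 3 (by decide)))).mul_left
      (semi_smul d ((s3 1 2 3 (by decide) (by decide)).mul_left (s3 0 1 3 (by decide) (by decide))))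
  · -- T4 → -T3
    exact (semi_smul c ((s2 3 4 (by decide)).mul_left
      (s3 2 3 4 (by decide) (by decide)))).mul_left
      (semi_smul d ((s3 1 2 4 (by decide) (by decide)).mul_left (s3 0 1 4 (by decide) (by decide))))

theorem five_dvd_of_pow_eq_one (T : Fin 5 → A) (Y : A)
    (h0 : SemiconjBy Y (T 0) (T 4)) (h1 : SemiconjBy Y (T 1) (-T 0)) (h2 : SemiconjBy Y (T 2) (-T 1))
    (h3 : SemiconjBy Y (T 3) (-T 2)) (h4 : SemiconjBy Y (T 4) (-T 3))
    (hne : ∀ a b, a ≠ b → T a ≠ T b ∧ T a ≠ -T b) (n : ℕ) (hn : Y ^ n = 1) : 5 ∣ n := by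
  have p1 : SemiconjBy (Y ^ 1) (T 4) (-T 3) := by rw [pow_one]; exact h4
  have p2 : SemiconjBy (Y ^ 2) (T 4) (T 2) := by
    rw [pow_succ']
    have := h3.neg_right
    rw [neg_neg] at this
    exact this.mul_left p1
  have p3 : SemiconjBy (Y ^ 3) (T 4) (-T 1) := by
    rw [pow_succ']
    exact h2.mul_left p2
  have p4 : SemiconjBy (Y ^ 4) (T 4) (T 0) := by
    rw [pow_succ']
    have := h1.neg_right
    rw [neg_neg] at this
    exact this.mul_left p3
  have p5 : SemiconjBy (Y ^ 5) (T 4) (T 4) := by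
    rw [pow_succ']
    exact h0.mul_left p4
  have p5q : ∀ q : ℕ, SemiconjBy ((Y ^ 5) ^ q) (T 4) (T 4) := fun q => Commute.pow_left p5 q
  have hdecomp : Y ^ n = Y ^ (n % 5) * (Y ^ 5) ^ (n / 5) := by
    rw [← pow_mul, ← pow_add, Nat.mod_add_div]
  have key : ∀ S : A, SemiconjBy (Y ^ (n % 5)) (T 4) S → T 4 = S := by
    intro S hS
    have := hS.mul_left (p5q (n / 5))
    rw [← hdecomp, hn] at this
    unfold SemiconjBy at this
    rw [one_mul, mul_one] at this
    exact this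
  have hlt : n % 5 < 5 := Nat.mod_lt _ (by norm_num)
  by_contra hdvd
  have hne0 : n % 5 ≠ 0 := fun h => hdvd (Nat.dvd_of_mod_eq_zero h)
  have hcases : n % 5 = 1 ∨ n % 5 = 2 ∨ n % 5 = 3 ∨ n % 5 = 4 := by omega
  rcases hcases with hk | hk | hk | hk <;> rw [hk] at key
  · exact (hne 4 3 (by decide)).2 (key _ p1)
  · exact (hne 4 2 (by decide)).1 (key _ p2)
  · exact (hne 4 1 (by decide)).2 (key _ p3)
  · exact (hne 4 0 (by decide)).1 (key _ p4)

end ring

variable {F : Type*} [Field F]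

local notation "II" => (Fin 2 ⊕ Fin 2)
local notation "MM" => Matrix (Fin 2 ⊕ Fin 2) (Fin 2 ⊕ Fin 2) F
local notation "GG" => GL (Fin 2 ⊕ Fin 2) F
local notation "VV" => (Fin 2 ⊕ Fin 2 → F)
local notation "ff" => Cfsg.sympForm 2 F

variable {R : Subgroup (GL (Fin 2 ⊕ Fin 2) F)}

/-- five pairwise anticommuting involutions of `R` as matrices -/
theorem Hyp.exists_five_mat (h : Hyp R) : ∃ T : Fin 5 → GG, (∀ a, T a ∈ R) ∧
    (∀ a, (T a : MM) * (T a : MM) = 1) ∧
    (∀ a b, a ≠ b → (T a : MM) * (T b : MM) = -((T b : MM) * (T a : MM))) ∧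
    (∀ a b, a ≠ b → (T a : MM) ≠ (T b : MM) ∧ (T a : MM) ≠ -(T b : MM)) := by
  classical
  have hfin := h.es.finite
  haveI : Fintype ↥R := Fintype.ofFinite _
  obtain ⟨t, ht1, ht2, ht3⟩ := h.es.exists_five
  refine ⟨fun a => (t a : GG), fun a => (t a).2, ?_, ?_, ?_⟩
  · intro a
    have := congrArg (fun g : ↥R => ((g : GG) : MM)) (ht1 a)
    simpa using this
  · intro a b hab
    have := congrArg (fun g : ↥R => ((g : GG) : MM)) (ht2 a b hab)
    simpa [Hyp.zz, neg_one_val] using this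
  · intro a b hab
    obtain ⟨h1, h2⟩ := ht3 a b hab
    constructor
    · intro e
      apply h1
      apply Subtype.ext
      exact val_inj e
    · intro e
      apply h2
      apply Subtype.ext
      apply val_inj
      simp only [Subgroup.coe_mul, Units.val_mul, Hyp.zz, neg_one_val, neg_one_mul]
      exact e

/-- the basic normalizing elements of `Sp_4(F)` -/
theorem Hyp.exists_vv (h : Hyp R) {a b c d : GG} (ha : a ∈ R) (hb : b ∈ R) (hc : c ∈ R) (hd : d ∈ R)
    (hab : ((b : MM) * (a : MM)) * ((b : MM) * (a : MM)) = -1)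
    (hcd : ((d : MM) * (c : MM)) * ((d : MM) * (c : MM)) = -1) :
    ∃ y : GG, y ∈ Cfsg.Geo.subgroupNormalizer R ∧ y ∈ Cfsg.spGL 2 F ∧
      (y : MM) = (2 : F)⁻¹ • ((1 + (b : MM) * (a : MM)) * (1 + (d : MM) * (c : MM))) := by
  have hab' : ((b * a : GG) : MM) * ((b * a : GG) : MM) = -1 := by rw [Units.val_mul]; exact hab
  have hcd' : ((d * c : GG) : MM) * ((d * c : GG) : MM) = -1 := by rw [Units.val_mul]; exact hcd
  have h1 : b * a ∈ R := R.mul_mem hb ha
  have h2 : d * c ∈ R := R.mul_mem hd hc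
  have k1 := h.vv_normalizes h1 h2 hab' hcd'
  have key : ∀ g : GG, g ∈ Cfsg.spGL 2 F → ∀ u v : VV, ff ((g : MM) *ᵥ u) ((g : MM) *ᵥ v) = ff u v :=
    fun g hg => hg
  have k2 : vv h.two_ne ((b * a : GG) : MM) ((d * c : GG) : MM) hab' hcd' ∈ Cfsg.spGL 2 F :=
    vv_mem _ _ _ _ _ (key _ (h.le_sp h1)) (key _ (h.le_sp h2))
  have k3 : ((vv h.two_ne ((b * a : GG) : MM) ((d * c : GG) : MM) hab' hcd' : GG) : MM)
      = (2 : F)⁻¹ • ((1 + (b : MM) * (a : MM)) * (1 + (d : MM) * (c : MM))) := by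
    rw [vv_val, Units.val_mul, Units.val_mul]
  exact ⟨_, k1, k2, k3⟩

/-- The normalizer of `R` in `Sp_4(F)` contains an element of order `5`. -/
theorem Hyp.exists_order_five (h : Hyp R) [Finite F] :
    ∃ y : GG, y ∈ Cfsg.Geo.subgroupNormalizer R ∧ y ∈ Cfsg.spGL 2 F ∧ orderOf y = 5 := by
  obtain ⟨T, hT, hsq, hanti, hne⟩ := h.exists_five_mat
  have hw : ∀ a b, a ≠ b → ((T b : MM) * (T a : MM)) * ((T b : MM) * (T a : MM)) = -1 := by
    intro a b hab
    exact sq_neg_of_anti (hsq a) (hsq b) (hanti a b hab)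
  obtain ⟨y1, hy1N, hy1S, hy1⟩ := h.exists_vv (hT 3) (hT 4) (hT 2) (hT 3) (hw 3 4 (by decide))
    (hw 2 3 (by decide))
  obtain ⟨y2, hy2N, hy2S, hy2⟩ := h.exists_vv (hT 1) (hT 2) (hT 0) (hT 1) (hw 1 2 (by decide))
    (hw 0 1 (by decide))
  have hyN : y1 * y2 ∈ Cfsg.Geo.subgroupNormalizer R := Subgroup.mul_mem _ hy1N hy2N
  have hyS : y1 * y2 ∈ Cfsg.spGL 2 F := Subgroup.mul_mem _ hy1S hy2S
  have hY : ((y1 * y2 : GG) : MM) =
      ((2 : F)⁻¹ • ((1 + (T 4 : MM) * (T 3 : MM)) * (1 + (T 3 : MM) * (T 2 : MM)))) *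
      ((2 : F)⁻¹ • ((1 + (T 2 : MM) * (T 1 : MM)) * (1 + (T 1 : MM) * (T 0 : MM)))) := by
    rw [Units.val_mul, hy1, hy2]
  generalize y1 * y2 = y at hyN hyS hY
  obtain ⟨c0, c1, c2, c3, c4⟩ := five_cycle (fun a => (T a : MM)) hsq hanti (2 : F)⁻¹ (2 : F)⁻¹
    (y : MM) hY
  have hdvd : 5 ∣ orderOf y := by
    apply five_dvd_of_pow_eq_one (fun a => (T a : MM)) (y : MM) c0 c1 c2 c3 c4 hne
    rw [← Units.val_pow_eq_pow_val, pow_orderOf_eq_one, Units.val_one]
  have hfin : orderOf y ≠ 0 := by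
    have : IsOfFinOrder y := isOfFinOrder_of_finite y
    exact this.orderOf_pos.ne'
  refine ⟨y ^ (orderOf y / 5), Subgroup.pow_mem _ hyN _, Subgroup.pow_mem _ hyS _, ?_⟩
  exact orderOf_pow_orderOf_div hfin hdvd

end Cfsg.Agent.Lib.Helper9.Ex24
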