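import Mathlib
import Cfsg.Agent.Lib.Helper9.Ex24G

/-!
# Matrices of order `5` over `F_p` with `p` of order `4` modulo `5`: the centralizer is a field
-/

set_option autoImplicit false

namespace Cfsg.Agent.Lib.Helper9.Ex24

open Matrix

/-- arithmetic: `p^k ≡ p^j mod 5` with `j ≤ k ≤ 4` forces `j = k` or `(j, k) = (0, 4)`. -/
theorem pow_modEq_five {p : ℕ} (hp : orderOf (p : ZMod 5) = 4) {j k : ℕ} (hjk : j ≤ k) (hk : k ≤ 4)
    (h : p ^ k ≡ p ^ j [MOD 5]) : j = k ∨ (j = 0 ∧ k = 4) := by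
  haveI : Fact (Nat.Prime 5) := ⟨by norm_num⟩
  have h1 : ((p : ZMod 5)) ^ k = (p : ZMod 5) ^ j := by
    have := (ZMod.natCast_eq_natCast_iff _ _ 5).mpr h
    push_cast at this
    exact this
  have hp4 : (p : ZMod 5) ^ 4 = 1 := by rw [← hp]; exact pow_orderOf_eq_one _
  have hp0 : (p : ZMod 5) ≠ 0 := by
    intro e
    rw [e] at hp4
    norm_num at hp4
  have h2 : (p : ZMod 5) ^ (k - j) = 1 := by
    have : (p : ZMod 5) ^ (k - j) * (p : ZMod 5) ^ j = 1 * (p : ZMod 5) ^ j := by
      rw [← pow_add, Nat.sub_add_cancel hjk, h1, one_mul]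
    exact mul_right_cancel₀ (pow_ne_zero _ hp0) this
  have h3 : 4 ∣ k - j := by
    rw [← hp]; exact orderOf_dvd_of_pow_eq_one h2
  omega

variable {F : Type*} [Field F]

local notation "MM" => Matrix (Fin 2 ⊕ Fin 2) (Fin 2 ⊕ Fin 2) F
local notation "VV" => (Fin 2 ⊕ Fin 2 → F)

/-- the fixed space of a matrix -/
def fixSp (Z : MM) : Submodule F VV := LinearMap.ker (Matrix.toLin' Z - 1)

theorem mem_fixSp {Z : MM} {v : VV} : v ∈ fixSp Z ↔ Z *ᵥ v = v := by
  unfold fixSp
  rw [LinearMap.mem_ker, LinearMap.sub_apply, Matrix.toLin'_apply, Module.End.one_apply, sub_eq_zero]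

theorem finrank_VV : Module.finrank F VV = 4 := by
  rw [Module.finrank_fintype_fun_eq_card]; simp

/-- counting fixed points in an invariant subspace -/
theorem card_inv_subspace [Fintype F] {p : ℕ} (hF : Fintype.card F = p) (hp : orderOf (p : ZMod 5) = 4)
    {Z : MM} (hZ : Z ^ 5 = 1) (W : Submodule F VV) (hW : ∀ v ∈ W, Z *ᵥ v ∈ W) :
    Module.finrank F ↥(W ⊓ fixSp Z) = Module.finrank F ↥W ∨
      (Module.finrank F ↥(W ⊓ fixSp Z) = 0 ∧ Module.finrank F ↥W = 4) := by
  classical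
  haveI : Fact (Nat.Prime 5) := ⟨by norm_num⟩
  have hiter : ∀ n : ℕ, ∀ v : VV, (fun v => Z *ᵥ v)^[n] v = (Z ^ n) *ᵥ v := by
    intro n
    induction n with
    | zero => intro v; simp
    | succ n ih =>
      intro v
      rw [Function.iterate_succ_apply', ih, pow_succ', ← mulVec_mulVec]
  have key := card_filter_modEq (fun v : VV => Z *ᵥ v) 5 (by
    intro v; rw [hiter, hZ, one_mulVec]) (fun v => v ∈ W) hW
  have e1 : (Finset.univ.filter (fun v : VV => v ∈ W)).card = p ^ Module.finrank F ↥W := by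
    rw [← Fintype.card_subtype, ← Nat.card_eq_fintype_card]
    have := Module.natCard_eq_pow_finrank (K := F) (V := ↥W)
    rw [Nat.card_eq_fintype_card (α := F), hF] at this
    exact this
  have e2 : (Finset.univ.filter (fun v : VV => v ∈ W ∧ Z *ᵥ v = v)).card
      = p ^ Module.finrank F ↥(W ⊓ fixSp Z) := by
    have : (Finset.univ.filter (fun v : VV => v ∈ W ∧ Z *ᵥ v = v))
        = (Finset.univ.filter (fun v : VV => v ∈ W ⊓ fixSp Z)) := by
      apply Finset.filter_congr
      intro v _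
      rw [Submodule.mem_inf, mem_fixSp]
    rw [this, ← Fintype.card_subtype, ← Nat.card_eq_fintype_card]
    have := Module.natCard_eq_pow_finrank (K := F) (V := ↥(W ⊓ fixSp Z))
    rw [Nat.card_eq_fintype_card (α := F), hF] at this
    exact this
  rw [e1, e2] at key
  have hle : Module.finrank F ↥(W ⊓ fixSp Z) ≤ Module.finrank F ↥W :=
    Submodule.finrank_mono inf_le_left
  have hle4 : Module.finrank F ↥W ≤ 4 := by
    have := Submodule.finrank_le W
    rw [finrank_VV] at this
    exact this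
  exact pow_modEq_five hp hle hle4 key

theorem mat_ext_mulVec {A B : MM} (h : ∀ x : VV, A *ᵥ x = B *ᵥ x) : A = B :=
  Matrix.mulVec_injective (funext h)

/-- a nontrivial matrix of order `5` has no nonzero fixed vector -/
theorem fixSp_eq_bot [Fintype F] {p : ℕ} (hF : Fintype.card F = p) (hp : orderOf (p : ZMod 5) = 4)
    {Z : MM} (hZ : Z ^ 5 = 1) (hZ1 : Z ≠ 1) : fixSp Z = ⊥ := by
  rcases card_inv_subspace hF hp hZ ⊤ (fun v _ => Submodule.mem_top) with h | ⟨h, _⟩
  · exfalso
    apply hZ1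
    rw [top_inf_eq, finrank_top, finrank_VV] at h
    have htop : fixSp Z = ⊤ := Submodule.eq_top_of_finrank_eq (by rw [h, finrank_VV])
    apply mat_ext_mulVec
    intro v
    rw [one_mulVec]
    have : v ∈ fixSp Z := by rw [htop]; exact Submodule.mem_top
    exact mem_fixSp.mp this
  · rw [top_inf_eq] at h
    exact Submodule.finrank_eq_zero.mp h

/-- a nonzero matrix commuting with a nontrivial matrix of order `5` is invertible -/
theorem isUnit_of_commute [Fintype F] {p : ℕ} (hF : Fintype.card F = p)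
    (hp : orderOf (p : ZMod 5) = 4) {Z : MM} (hZ : Z ^ 5 = 1) (hZ1 : Z ≠ 1) {a : MM}
    (ha : a * Z = Z * a) (ha0 : a ≠ 0) : IsUnit a := by
  have hW : ∀ v ∈ LinearMap.ker (Matrix.toLin' a), Z *ᵥ v ∈ LinearMap.ker (Matrix.toLin' a) := by
    intro v hv
    rw [LinearMap.mem_ker, toLin'_apply] at hv ⊢
    rw [mulVec_mulVec, ha, ← mulVec_mulVec, hv, mulVec_zero]
  have hfix := fixSp_eq_bot hF hp hZ hZ1
  rcases card_inv_subspace hF hp hZ _ hW with h | ⟨_, h⟩
  · rw [hfix, inf_bot_eq, finrank_bot] at h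
    have hW0 : LinearMap.ker (Matrix.toLin' a) = ⊥ := Submodule.finrank_eq_zero.mp h.symm
    rw [← Matrix.isUnit_toLin'_iff, LinearMap.isUnit_iff_ker_eq_bot]
    exact hW0
  · exfalso
    apply ha0
    have htop : LinearMap.ker (Matrix.toLin' a) = ⊤ :=
      Submodule.eq_top_of_finrank_eq (by rw [h, finrank_VV])
    apply mat_ext_mulVec
    intro v
    have : v ∈ LinearMap.ker (Matrix.toLin' a) := by rw [htop]; exact Submodule.mem_top
    rw [LinearMap.mem_ker, toLin'_apply] at this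
    rw [this, zero_mulVec]

/-- every nonzero element of the centralizer is a unit of the centralizer -/
theorem centralizer_unit_or_zero [Fintype F] {p : ℕ} (hF : Fintype.card F = p)
    (hp : orderOf (p : ZMod 5) = 4) {Z : MM} (hZ : Z ^ 5 = 1) (hZ1 : Z ≠ 1)
    (a : ↥(Subring.centralizer ({Z} : Set MM))) : IsUnit a ∨ a = 0 := by
  by_cases ha0 : a = 0
  · right; exact ha0
  left
  have ha : (a : MM) * Z = Z * (a : MM) :=
    (Subring.mem_centralizer_iff.mp a.2 Z (Set.mem_singleton _)).symm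
  obtain ⟨u, hu⟩ := isUnit_of_commute hF hp hZ hZ1 ha (fun e => ha0 (Subtype.ext e))
  have h1 : (a : MM) * (u⁻¹ : MMˣ).val = 1 := by rw [← hu]; exact u.mul_inv
  have h2 : (u⁻¹ : MMˣ).val * (a : MM) = 1 := by rw [← hu]; exact u.inv_mul
  have hinv : (u⁻¹ : MMˣ).val ∈ Subring.centralizer ({Z} : Set MM) := by
    rw [Subring.mem_centralizer_iff]
    intro g hg
    rw [Set.mem_singleton_iff] at hg
    subst hg
    calc g * (u⁻¹ : MMˣ).val = ((u⁻¹ : MMˣ).val * (a : MM)) * (g * (u⁻¹ : MMˣ).val) := by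
          rw [h2, one_mul]
      _ = (u⁻¹ : MMˣ).val * ((a : MM) * g) * (u⁻¹ : MMˣ).val := by
          simp only [mul_assoc]
      _ = (u⁻¹ : MMˣ).val * (g * (a : MM)) * (u⁻¹ : MMˣ).val := by rw [ha]
      _ = (u⁻¹ : MMˣ).val * g * ((a : MM) * (u⁻¹ : MMˣ).val) := by simp only [mul_assoc]
      _ = (u⁻¹ : MMˣ).val * g := by rw [h1, mul_one]
  exact ⟨⟨a, ⟨_, hinv⟩, Subtype.ext h1, Subtype.ext h2⟩, rfl⟩

/-- in a finite ring all of whose nonzero elements are units, the solutions of `x^5 = 1` are the powers of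
any nontrivial one. -/
theorem eq_pow_of_division {K : Type*} [Ring K] [Nontrivial K] [Finite K]
    (h : ∀ a : K, IsUnit a ∨ a = 0) {x y : K} (hy5 : y ^ 5 = 1) (hy1 : y ≠ 1) (hx : x ^ 5 = 1) :
    ∃ i < 5, y ^ i = x := by
  letI : DivisionRing K := DivisionRing.ofIsUnitOrEqZero h
  letI : Field K := littleWedderburn K
  haveI : Fact (Nat.Prime 5) := ⟨by norm_num⟩
  have hprim : IsPrimitiveRoot y 5 := by
    have : orderOf y = 5 := orderOf_eq_prime hy5 hy1
    rw [← this]
    exact IsPrimitiveRoot.orderOf y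
  exact hprim.eq_pow_of_pow_eq_one hx

/-- two matrices with fifth power one commuting with a nontrivial matrix of order `5`: one is a power of the
other. -/
theorem eq_pow_of_commute [Fintype F] {p : ℕ} (hF : Fintype.card F = p)
    (hp : orderOf (p : ZMod 5) = 4) {Z : MM} (hZ : Z ^ 5 = 1) (hZ1 : Z ≠ 1) {x y : MM}
    (hxZ : Z * x = x * Z) (hyZ : Z * y = y * Z) (hy5 : y ^ 5 = 1) (hy1 : y ≠ 1) (hx : x ^ 5 = 1) :
    ∃ i < 5, y ^ i = x := by
  have hxm : x ∈ Subring.centralizer ({Z} : Set MM) := by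
    rw [Subring.mem_centralizer_iff]
    intro g hg
    rw [Set.mem_singleton_iff] at hg
    subst hg
    exact hxZ
  have hym : y ∈ Subring.centralizer ({Z} : Set MM) := by
    rw [Subring.mem_centralizer_iff]
    intro g hg
    rw [Set.mem_singleton_iff] at hg
    subst hg
    exact hyZ
  haveI : Finite ↥(Subring.centralizer ({Z} : Set MM)) := Subtype.finite
  obtain ⟨i, hi, e⟩ := eq_pow_of_division (K := ↥(Subring.centralizer ({Z} : Set MM)))
    (centralizer_unit_or_zero hF hp hZ hZ1) (x := ⟨x, hxm⟩) (y := ⟨y, hym⟩)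
    (Subtype.ext (by simpa using hy5))
    (fun e => hy1 (by simpa using congrArg Subtype.val e))
    (Subtype.ext (by simpa using hx))
  refine ⟨i, hi, ?_⟩
  simpa using congrArg Subtype.val e

end Cfsg.Agent.Lib.Helper9.Ex24
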