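import Mathlib
import Cfsg.Agent.Lib.Helper9.Ex24R
import Cfsg.Agent.Lib.Helper9.Ex24S
import Cfsg.Agent.Lib.Helper9.Ex24T

/-!
# The case `r = 5`, `p` of order `4` modulo `5`: every element of order `5` fixes a point
-/

set_option autoImplicit false

namespace Cfsg.Agent.Lib.Helper9.Ex24

open Matrix Cfsg.Agent.Lib.Helper6

variable {F : Type*} [Field F]

local notation "MM" => Matrix (Fin 2 ⊕ Fin 2) (Fin 2 ⊕ Fin 2) F
local notation "GG" => GL (Fin 2 ⊕ Fin 2) F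

variable {R : Subgroup (GL (Fin 2 ⊕ Fin 2) F)}

theorem Hyp.five_fixes_aux (h : Hyp R) [Fintype F] {p : ℕ} (hF : Fintype.card F = p)
    (hp : orderOf (p : ZMod 5) = 4) (x : GG) (hx : x ∈ Cfsg.spGL 2 F) (hx5 : x ^ 5 = 1) :
    ∃ g ∈ Cfsg.spGL 2 F, g⁻¹ * x * g ∈ Cfsg.Geo.subgroupNormalizer R := by
  classical
  haveI : Fact (Nat.Prime 5) := ⟨by norm_num⟩
  obtain ⟨y, hyN, hyS, hy5⟩ := h.exists_order_five
  have hy51 : y ^ 5 = 1 := by rw [← hy5]; exact pow_orderOf_eq_one y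
  have hy1 : y ≠ 1 := by
    intro e
    rw [e, orderOf_one] at hy5
    norm_num at hy5
  have hpg : IsPGroup 5 (Subgroup.zpowers (⟨y, hyS⟩ : ↥(Cfsg.spGL 2 F))) := by
    apply IsPGroup.of_card_dvd_pow (n := 1)
    rw [Nat.card_zpowers, pow_one]
    apply orderOf_dvd_of_pow_eq_one
    exact Subtype.ext (by simpa using hy51)
  obtain ⟨P, hP⟩ := hpg.exists_le_sylow
  have hyP : (⟨y, hyS⟩ : ↥(Cfsg.spGL 2 F)) ∈ P := hP (Subgroup.mem_zpowers _)
  obtain ⟨g, hg⟩ := exists_conj_mem_sylow P (x := (⟨x, hx⟩ : ↥(Cfsg.spGL 2 F))) (n := 1) (by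
    rw [pow_one]; exact Subtype.ext (by simpa using hx5))
  haveI : Nontrivial ↥P := ⟨⟨⟨⟨y, hyS⟩, hyP⟩, 1, fun e => hy1 (by
    have := congrArg (fun q : ↥P => ((q : ↥(Cfsg.spGL 2 F)) : GG)) e
    simpa using this)⟩⟩
  obtain ⟨z, hz5, hzc⟩ := exists_central_of_order (P := ↥P) P.isPGroup'
  have hz51 : z ^ 5 = 1 := by
    have := pow_orderOf_eq_one z
    rw [hz5] at this
    exact this
  have hz1 : z ≠ 1 := by
    intro e
    rw [e, orderOf_one] at hz5
    norm_num at hz5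
  have hZ5 : ((((z : ↥P) : ↥(Cfsg.spGL 2 F)) : GG) : MM) ^ 5 = 1 := by
    have := congrArg (fun q : ↥P => ((((q : ↥P) : ↥(Cfsg.spGL 2 F)) : GG) : MM)) hz51
    simpa using this
  have hZ1 : ((((z : ↥P) : ↥(Cfsg.spGL 2 F)) : GG) : MM) ≠ 1 := by
    intro e
    apply hz1
    apply Subtype.ext
    apply Subtype.ext
    apply Units.ext
    simpa using e
  have hxZ : ((((z : ↥P) : ↥(Cfsg.spGL 2 F)) : GG) : MM) * (((g : GG)⁻¹ * x * (g : GG) : GG) : MM)
      = (((g : GG)⁻¹ * x * (g : GG) : GG) : MM) * ((((z : ↥P) : ↥(Cfsg.spGL 2 F)) : GG) : MM) := by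
    have := hzc ⟨_, hg⟩
    have := congrArg (fun q : ↥P => ((((q : ↥P) : ↥(Cfsg.spGL 2 F)) : GG) : MM)) this
    simpa using this.symm
  have hyZ : ((((z : ↥P) : ↥(Cfsg.spGL 2 F)) : GG) : MM) * (y : MM)
      = (y : MM) * ((((z : ↥P) : ↥(Cfsg.spGL 2 F)) : GG) : MM) := by
    have := hzc ⟨_, hyP⟩
    have := congrArg (fun q : ↥P => ((((q : ↥P) : ↥(Cfsg.spGL 2 F)) : GG) : MM)) this
    simpa using this.symm
  have hY5 : (y : MM) ^ 5 = 1 := by
    rw [← Units.val_pow_eq_pow_val, hy51, Units.val_one]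
  have hY1 : (y : MM) ≠ 1 := fun e => hy1 (Units.ext (by simpa using e))
  have hX5 : (((g : GG)⁻¹ * x * (g : GG) : GG) : MM) ^ 5 = 1 := by
    rw [← Units.val_pow_eq_pow_val]
    have : ((g : GG)⁻¹ * x * (g : GG) : GG) ^ 5 = 1 := by
      have e : ∀ (a b : GG), (a⁻¹ * b * a) ^ 5 = a⁻¹ * b ^ 5 * a := by
        intro a b
        have := conj_pow (a := a⁻¹) (b := b) (i := 5)
        rw [inv_inv] at this
        exact this
      rw [e, hx5, mul_one, inv_mul_cancel]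
    rw [this, Units.val_one]
  obtain ⟨i, hi, e⟩ := eq_pow_of_commute hF hp hZ5 hZ1 hxZ hyZ hY5 hY1 hX5
  refine ⟨g, g.2, ?_⟩
  have : ((g : GG)⁻¹ * x * (g : GG) : GG) = y ^ i := Units.ext (by
    rw [Units.val_pow_eq_pow_val]; exact e.symm)
  rw [this]
  exact Subgroup.pow_mem _ hyN i

/-- The case `r = 5`: if `p` has order `4` modulo `5`, every element of `Sp_4(F)` whose fifth power is
scalar is conjugate into the normalizer of `R`. -/
theorem Hyp.five_fixes (h : Hyp R) [Fintype F] {p : ℕ} (hF : Fintype.card F = p)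
    (hp : orderOf (p : ZMod 5) = 4) (x : GG) (hx : x ∈ Cfsg.spGL 2 F) (c : F)
    (hc : ((x ^ 5 : GG) : MM) = c • (1 : MM)) :
    ∃ g ∈ Cfsg.spGL 2 F, g⁻¹ * x * g ∈ Cfsg.Geo.subgroupNormalizer R := by
  rcases scalar_sp (Subgroup.pow_mem _ hx 5) hc with rfl | rfl
  · have hx5 : x ^ 5 = 1 := Units.ext (by rw [hc, one_smul, Units.val_one])
    exact h.five_fixes_aux hF hp x hx hx5
  · have hm : (-1 : GG) ∈ Cfsg.spGL 2 F := h.le_sp h.neg_one_mem
    have hx5 : (-1 * x : GG) ^ 5 = 1 := by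
      apply Units.ext
      rw [Units.val_pow_eq_pow_val, Units.val_mul, neg_one_val, neg_one_mul, Units.val_one,
        Odd.neg_pow (by decide), ← Units.val_pow_eq_pow_val, hc, neg_smul, one_smul, neg_neg]
    obtain ⟨g, hg, hgx⟩ := h.five_fixes_aux hF hp (-1 * x) (Subgroup.mul_mem _ hm hx) hx5
    refine ⟨g, hg, ?_⟩
    have : g⁻¹ * x * g = -1 * (g⁻¹ * (-1 * x) * g) := by
      apply Units.ext
      simp [Units.val_mul, neg_one_val]
    rw [this]
    exact Subgroup.mul_mem _ (le_subgroupNormalizer h.neg_one_mem) hgx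

end Cfsg.Agent.Lib.Helper9.Ex24
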