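import Mathlib
import Cfsg.Agent.Lib.Helper9.Ex24L
import Cfsg.Agent.Lib.Helper9.Ex24U

/-!
# Assembly of the statement on `2^{1+4}_-` in `Sp_4(p)`
-/

set_option autoImplicit false

namespace Cfsg.Agent.Lib.Helper9.Ex24

open Matrix Cfsg.Agent.Lib.Helper6

theorem natCast_ne_zero_of_char {F : Type*} [Field F] {p : ℕ} [hp : Fact p.Prime] [CharP F p] {q : ℕ}
    (hq : q.Prime) (hpq : p ≠ q) : ((q : ℕ) : F) ≠ 0 := by
  intro e
  rw [CharP.cast_eq_zero_iff F p] at e
  exact hpq ((Nat.prime_dvd_prime_iff_eq hp.out hq).mp e)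

theorem isSquare_zmod_five (x : ZMod 5) (h : x ^ 2 = 1) : IsSquare x := by
  have key : ∀ x : ZMod 5, x ^ 2 = 1 → x = 1 ∨ x = 4 := by decide
  rcases key _ h with e | e
  · rw [e]; exact ⟨1, by decide⟩
  · rw [e]; exact ⟨2, by decide⟩

/-- if `p ≠ 5` does not have order `4` modulo `5`, the golden ratio lies in `F_p`. -/
theorem exists_golden_root {F : Type*} [Field F] {p : ℕ} [hp : Fact p.Prime] [CharP F p]
    (hodd : Odd p) (hp5 : p ≠ 5) (hord : orderOf (p : ZMod 5) ≠ 4) : ∃ a : F, a ^ 2 + a - 1 = 0 := by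
  haveI : Fact (Nat.Prime 5) := ⟨by norm_num⟩
  have hp0 : (p : ZMod 5) ≠ 0 := by
    intro e
    rw [ZMod.natCast_eq_zero_iff] at e
    exact hp5 ((Nat.prime_dvd_prime_iff_eq (by norm_num) hp.out).mp e).symm
  have h4 : (p : ZMod 5) ^ 4 = 1 := ZMod.pow_card_sub_one_eq_one hp0
  have hdvd : orderOf (p : ZMod 5) ∣ 4 := orderOf_dvd_of_pow_eq_one h4
  have hdvd2 : orderOf (p : ZMod 5) ∣ 2 := by
    have hle : orderOf (p : ZMod 5) ≤ 4 := Nat.le_of_dvd (by norm_num) hdvd
    have hpos : 0 < orderOf (p : ZMod 5) := Nat.pos_of_dvd_of_pos hdvd (by norm_num)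
    interval_cases hk : orderOf (p : ZMod 5)
    · norm_num
    · norm_num
    · norm_num at hdvd
    · exact absurd rfl hord
  have h2 : (p : ZMod 5) ^ 2 = 1 := orderOf_dvd_iff_pow_eq_one.mp hdvd2
  have hsq : IsSquare (p : ZMod 5) := isSquare_zmod_five _ h2
  have hp2 : p ≠ 2 := by
    rintro rfl
    exact absurd hodd (by decide)
  have h5sq : IsSquare ((5 : ℕ) : ZMod p) :=
    (ZMod.exists_sq_eq_prime_iff_of_mod_four_eq_one (p := 5) (q := p) (by norm_num) hp2).mp hsq
  obtain ⟨s, hs⟩ := h5sq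
  have h2F : (2 : F) ≠ 0 := by
    have := natCast_ne_zero_of_char (F := F) (p := p) Nat.prime_two hp2
    simpa using this
  have hsF : (5 : F) = (ZMod.castHom (dvd_refl p) F s) * (ZMod.castHom (dvd_refl p) F s) := by
    rw [← map_mul, ← hs, map_natCast]
    norm_num
  refine ⟨((ZMod.castHom (dvd_refl p) F s) - 1) / 2, ?_⟩
  field_simp
  linear_combination -hsF

variable {F : Type*} [Field F]

local notation "MM" => Matrix (Fin 2 ⊕ Fin 2) (Fin 2 ⊕ Fin 2) F
local notation "GG" => GL (Fin 2 ⊕ Fin 2) F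

theorem two_ne_zero_of_odd_char {p : ℕ} [hp : Fact p.Prime] [CharP F p] (hodd : Odd p) : (2 : F) ≠ 0 := by
  have hp2 : p ≠ 2 := by
    rintro rfl
    exact absurd hodd (by decide)
  have := natCast_ne_zero_of_char (F := F) (p := p) Nat.prime_two hp2
  simpa using this

/-- The statement, from the packaged hypotheses. -/
theorem main_iff [Fintype F] {p : ℕ} [hp : Fact p.Prime] [CharP F p] (hF : Fintype.card F = p)
    (hodd : Odd p) (R : Subgroup (GL (Fin 2 ⊕ Fin 2) F)) (h : Hyp R) (r : ℕ) [hr : Fact r.Prime]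
    (hΩ : r ∣ (Cfsg.Geo.subgroupNormalizer R).relIndex (Cfsg.spGL 2 F)) :
    (∀ x ∈ Cfsg.spGL 2 F, (∃ z : F, ((x ^ r : GG) : MM) = z • (1 : MM)) →
      (∀ z : F, (x : MM) ≠ z • (1 : MM)) →
      ∃ g ∈ Cfsg.spGL 2 F, g⁻¹ * x * g ∈ Cfsg.Geo.subgroupNormalizer R) ↔
      (r = 2 ∨ (r = 5 ∧ orderOf (p : ZMod 5) = 4)) := by
  constructor
  · intro hall
    by_contra hcon
    push Not at hcon
    obtain ⟨hr2, hr5⟩ := hcon
    have contra : ∀ x : GG, x ∈ Cfsg.spGL 2 F → x ^ r = 1 → (∀ z : F, (x : MM) ≠ z • (1 : MM)) →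
        (∀ g : GG, g⁻¹ * x * g ∉ Cfsg.Geo.subgroupNormalizer R) → False := by
      intro x hx hxr hns hder
      obtain ⟨g, _, hgx⟩ := hall x hx ⟨1, by rw [hxr, Units.val_one, one_smul]⟩ hns
      exact hder g hgx
    by_cases h3 : r = 3
    · subst h3
      by_cases hp3 : p = 3
      · subst hp3
        exact contra xp xp_mem (xp_pow_char 3) xp_nonscalar h.xp_derangement
      · have h3F : (3 : F) ≠ 0 := by
          have := natCast_ne_zero_of_char (F := F) (p := p) Nat.prime_three hp3
          simpa using this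
        exact contra x3 x3_mem x3_pow x3_nonscalar (h.x3_derangement h3F)
    by_cases h5 : r = 5
    · subst h5
      by_cases hp5 : p = 5
      · subst hp5
        exact contra xp xp_mem (xp_pow_char 5) xp_nonscalar h.xp_derangement
      · have h5F : (5 : F) ≠ 0 := by
          have := natCast_ne_zero_of_char (F := F) (p := p) Nat.prime_five hp5
          simpa using this
        obtain ⟨a, ha⟩ := exists_golden_root (F := F) hodd hp5 (hr5 rfl)
        exact contra (x5 a) (x5_mem a) (x5_pow ha) (x5_nonscalar a) (h.x5_derangement h5F ha)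
    · have hdvd : r ∣ Nat.card ↥(Cfsg.spGL 2 F) := dvd_trans hΩ (Subgroup.index_dvd_card _)
      obtain ⟨x, hx⟩ := exists_prime_orderOf_dvd_card' r hdvd
      have hxr : (x : GG) ^ r = 1 := by
        have := pow_orderOf_eq_one x
        rw [hx] at this
        have := congrArg Subtype.val this
        simpa using this
      have hx1 : (x : GG) ≠ 1 := by
        intro e
        have : x = 1 := Subtype.ext e
        rw [this, orderOf_one] at hx
        exact hr.out.one_lt.ne hx
      have hns : ∀ z : F, ((x : GG) : MM) ≠ z • (1 : MM) := by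
        intro z e
        rcases scalar_sp x.2 e with rfl | rfl
        · apply hx1
          apply Units.ext
          rw [e, one_smul, Units.val_one]
        · have hx2 : (x : GG) ^ 2 = 1 := by
            apply Units.ext
            rw [Units.val_pow_eq_pow_val, e, neg_smul, one_smul, Units.val_one]
            simp
          have hx2' : x ^ 2 = 1 := Subtype.ext (by simpa using hx2)
          have := orderOf_dvd_of_pow_eq_one hx2'
          rw [hx] at this
          exact hr2 ((Nat.prime_dvd_prime_iff_eq hr.out Nat.prime_two).mp this)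
      exact contra x x.2 hxr hns (h.big_derangement x r hr2 h3 h5 hxr hns)
  · rintro (rfl | ⟨rfl, hord⟩)
    · rintro x hx ⟨c, hc⟩ hns
      have hodd' : Fintype.card F % 2 = 1 := by rw [hF]; exact Nat.odd_iff.mp hodd
      exact h.two_fixes hodd' x hx c hc hns
    · rintro x hx ⟨c, hc⟩ _
      exact h.five_fixes hF hord x hx c hc

end Cfsg.Agent.Lib.Helper9.Ex24
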