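import Cfsg.Agent.Lib.Helper9.Fi22MM2Data

/-!
# S2053 piece [EX-2] (helper9 for helper6): the three long words as lists of tables (the last table acts first)
-/

set_option autoImplicit false

namespace Cfsg.Agent.Lib.Helper6.Fi22M

namespace Helper9M2

def rho1T : List Nat := [TD, TC, TB, TD, TE, TF, TD, TH, TI, TD, TC, TB, TD, TE, TF, TD, TH, TI, TD, TC, TB, TD, TE, TF, TD, TH, TI, TD, TC, TB, TD, TE, TF, TD, TH, TI, TD, TC, TB, TD, TE, TF, TD, TH, TI, TD, TC, TB, TD, TE, TF, TD, TH, TI, TD, TC, TB, TD, TE, TF, TD, TH, TI, TD, TC, TB, TD, TE, TF, TD, TH, TI, TD, TC, TB, TD, TE, TF, TD, TH, TI, TD, TC, TB, TD, TE, TF, TD, TH, TI]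

def rho2T : List Nat := [TA, TB, TC, TD, TE, TF, TH, TA, TB, TC, TD, TE, TF, TH, TA, TB, TC, TD, TE, TF, TH, TA, TB, TC, TD, TE, TF, TH, TA, TB, TC, TD, TE, TF, TH, TA, TB, TC, TD, TE, TF, TH, TA, TB, TC, TD, TE, TF, TH, TA, TB, TC, TD, TE, TF, TH, TA, TB, TC, TD, TE, TF, TH]

def rho3T : List Nat := [TB, TC, TD, TE, TF, TG, TH, TB, TC, TD, TE, TF, TG, TH, TB, TC, TD, TE, TF, TG, TH, TB, TC, TD, TE, TF, TG, TH, TB, TC, TD, TE, TF, TG, TH, TB, TC, TD, TE, TF, TG, TH, TB, TC, TD, TE, TF, TG, TH, TB, TC, TD, TE, TF, TG, TH, TB, TC, TD, TE, TF, TG, TH]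

end Helper9M2

end Cfsg.Agent.Lib.Helper6.Fi22M
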