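import Cfsg.Agent.Lib.Helper15.WalkPieces
import Cfsg.Agent.Lib.Helper9.Fi22MM2Words

/-!
# S2053 piece [EX-2] (helper9 for helper6): the 28160-point model, table checks (braid relations)

Each check runs over all points; it is cut into ranges of points (the kernel keeps the intermediate big numbers of an
evaluation until the end of the declaration) and glued by `allBelow_append`.
-/

set_option autoImplicit false
set_option maxRecDepth 100000
set_option Elab.async false

namespace Cfsg.Agent.Lib.Helper6.Fi22M

namespace Helper9M2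

open Cfsg.Agent.Lib.Helper28.BSGS Cfsg.Agent.Lib.Helper15.Walk Cfsg.Agent.Lib.Helper22.SuzOut

theorem braid_a_b_p0 : allRange (wordEqPt 15 [TA, TB, TA] [TB, TA, TB]) 0 3333 = true := by decide +kernel
theorem braid_a_b_p1 : allRange (wordEqPt 15 [TA, TB, TA] [TB, TA, TB]) 3333 3333 = true := by decide +kernel
theorem braid_a_b_p2 : allRange (wordEqPt 15 [TA, TB, TA] [TB, TA, TB]) 6666 3333 = true := by decide +kernel
theorem braid_a_b_p3 : allRange (wordEqPt 15 [TA, TB, TA] [TB, TA, TB]) 9999 3333 = true := by decide +kernel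
theorem braid_a_b_p4 : allRange (wordEqPt 15 [TA, TB, TA] [TB, TA, TB]) 13332 3333 = true := by decide +kernel
theorem braid_a_b_p5 : allRange (wordEqPt 15 [TA, TB, TA] [TB, TA, TB]) 16665 3333 = true := by decide +kernel
theorem braid_a_b_p6 : allRange (wordEqPt 15 [TA, TB, TA] [TB, TA, TB]) 19998 3333 = true := by decide +kernel
theorem braid_a_b_p7 : allRange (wordEqPt 15 [TA, TB, TA] [TB, TA, TB]) 23331 3333 = true := by decide +kernel
theorem braid_a_b_p8 : allRange (wordEqPt 15 [TA, TB, TA] [TB, TA, TB]) 26664 1496 = true := by decide +kernel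

theorem braid_a_b : allBelow (wordEqPt 15 [TA, TB, TA] [TB, TA, TB]) 28160 = true :=
  allBelow_append (m := 26664) (len := 1496) (m' := 28160) rfl
    (allBelow_append (m := 23331) (len := 3333) (m' := 26664) rfl
    (allBelow_append (m := 19998) (len := 3333) (m' := 23331) rfl
    (allBelow_append (m := 16665) (len := 3333) (m' := 19998) rfl
    (allBelow_append (m := 13332) (len := 3333) (m' := 16665) rfl
    (allBelow_append (m := 9999) (len := 3333) (m' := 13332) rfl
    (allBelow_append (m := 6666) (len := 3333) (m' := 9999) rfl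
    (allBelow_append (m := 3333) (len := 3333) (m' := 6666) rfl
    (allBelow_append (m := 0) (len := 3333) (m' := 3333) rfl
    (allBelow_nil (wordEqPt 15 [TA, TB, TA] [TB, TA, TB])) braid_a_b_p0) braid_a_b_p1) braid_a_b_p2) braid_a_b_p3) braid_a_b_p4) braid_a_b_p5) braid_a_b_p6) braid_a_b_p7) braid_a_b_p8

theorem braid_b_c_p0 : allRange (wordEqPt 15 [TB, TC, TB] [TC, TB, TC]) 0 3333 = true := by decide +kernel
theorem braid_b_c_p1 : allRange (wordEqPt 15 [TB, TC, TB] [TC, TB, TC]) 3333 3333 = true := by decide +kernel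
theorem braid_b_c_p2 : allRange (wordEqPt 15 [TB, TC, TB] [TC, TB, TC]) 6666 3333 = true := by decide +kernel
theorem braid_b_c_p3 : allRange (wordEqPt 15 [TB, TC, TB] [TC, TB, TC]) 9999 3333 = true := by decide +kernel
theorem braid_b_c_p4 : allRange (wordEqPt 15 [TB, TC, TB] [TC, TB, TC]) 13332 3333 = true := by decide +kernel
theorem braid_b_c_p5 : allRange (wordEqPt 15 [TB, TC, TB] [TC, TB, TC]) 16665 3333 = true := by decide +kernel
theorem braid_b_c_p6 : allRange (wordEqPt 15 [TB, TC, TB] [TC, TB, TC]) 19998 3333 = true := by decide +kernel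
theorem braid_b_c_p7 : allRange (wordEqPt 15 [TB, TC, TB] [TC, TB, TC]) 23331 3333 = true := by decide +kernel
theorem braid_b_c_p8 : allRange (wordEqPt 15 [TB, TC, TB] [TC, TB, TC]) 26664 1496 = true := by decide +kernel

theorem braid_b_c : allBelow (wordEqPt 15 [TB, TC, TB] [TC, TB, TC]) 28160 = true :=
  allBelow_append (m := 26664) (len := 1496) (m' := 28160) rfl
    (allBelow_append (m := 23331) (len := 3333) (m' := 26664) rfl
    (allBelow_append (m := 19998) (len := 3333) (m' := 23331) rfl
    (allBelow_append (m := 16665) (len := 3333) (m' := 19998) rfl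
    (allBelow_append (m := 13332) (len := 3333) (m' := 16665) rfl
    (allBelow_append (m := 9999) (len := 3333) (m' := 13332) rfl
    (allBelow_append (m := 6666) (len := 3333) (m' := 9999) rfl
    (allBelow_append (m := 3333) (len := 3333) (m' := 6666) rfl
    (allBelow_append (m := 0) (len := 3333) (m' := 3333) rfl
    (allBelow_nil (wordEqPt 15 [TB, TC, TB] [TC, TB, TC])) braid_b_c_p0) braid_b_c_p1) braid_b_c_p2) braid_b_c_p3) braid_b_c_p4) braid_b_c_p5) braid_b_c_p6) braid_b_c_p7) braid_b_c_p8

theorem braid_c_d_p0 : allRange (wordEqPt 15 [TC, TD, TC] [TD, TC, TD]) 0 3333 = true := by decide +kernel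
theorem braid_c_d_p1 : allRange (wordEqPt 15 [TC, TD, TC] [TD, TC, TD]) 3333 3333 = true := by decide +kernel
theorem braid_c_d_p2 : allRange (wordEqPt 15 [TC, TD, TC] [TD, TC, TD]) 6666 3333 = true := by decide +kernel
theorem braid_c_d_p3 : allRange (wordEqPt 15 [TC, TD, TC] [TD, TC, TD]) 9999 3333 = true := by decide +kernel
theorem braid_c_d_p4 : allRange (wordEqPt 15 [TC, TD, TC] [TD, TC, TD]) 13332 3333 = true := by decide +kernel
theorem braid_c_d_p5 : allRange (wordEqPt 15 [TC, TD, TC] [TD, TC, TD]) 16665 3333 = true := by decide +kernel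
theorem braid_c_d_p6 : allRange (wordEqPt 15 [TC, TD, TC] [TD, TC, TD]) 19998 3333 = true := by decide +kernel
theorem braid_c_d_p7 : allRange (wordEqPt 15 [TC, TD, TC] [TD, TC, TD]) 23331 3333 = true := by decide +kernel
theorem braid_c_d_p8 : allRange (wordEqPt 15 [TC, TD, TC] [TD, TC, TD]) 26664 1496 = true := by decide +kernel

theorem braid_c_d : allBelow (wordEqPt 15 [TC, TD, TC] [TD, TC, TD]) 28160 = true :=
  allBelow_append (m := 26664) (len := 1496) (m' := 28160) rfl
    (allBelow_append (m := 23331) (len := 3333) (m' := 26664) rfl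
    (allBelow_append (m := 19998) (len := 3333) (m' := 23331) rfl
    (allBelow_append (m := 16665) (len := 3333) (m' := 19998) rfl
    (allBelow_append (m := 13332) (len := 3333) (m' := 16665) rfl
    (allBelow_append (m := 9999) (len := 3333) (m' := 13332) rfl
    (allBelow_append (m := 6666) (len := 3333) (m' := 9999) rfl
    (allBelow_append (m := 3333) (len := 3333) (m' := 6666) rfl
    (allBelow_append (m := 0) (len := 3333) (m' := 3333) rfl
    (allBelow_nil (wordEqPt 15 [TC, TD, TC] [TD, TC, TD])) braid_c_d_p0) braid_c_d_p1) braid_c_d_p2) braid_c_d_p3) braid_c_d_p4) braid_c_d_p5) braid_c_d_p6) braid_c_d_p7) braid_c_d_p8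

theorem braid_d_e_p0 : allRange (wordEqPt 15 [TD, TE, TD] [TE, TD, TE]) 0 3333 = true := by decide +kernel
theorem braid_d_e_p1 : allRange (wordEqPt 15 [TD, TE, TD] [TE, TD, TE]) 3333 3333 = true := by decide +kernel
theorem braid_d_e_p2 : allRange (wordEqPt 15 [TD, TE, TD] [TE, TD, TE]) 6666 3333 = true := by decide +kernel
theorem braid_d_e_p3 : allRange (wordEqPt 15 [TD, TE, TD] [TE, TD, TE]) 9999 3333 = true := by decide +kernel
theorem braid_d_e_p4 : allRange (wordEqPt 15 [TD, TE, TD] [TE, TD, TE]) 13332 3333 = true := by decide +kernel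
theorem braid_d_e_p5 : allRange (wordEqPt 15 [TD, TE, TD] [TE, TD, TE]) 16665 3333 = true := by decide +kernel
theorem braid_d_e_p6 : allRange (wordEqPt 15 [TD, TE, TD] [TE, TD, TE]) 19998 3333 = true := by decide +kernel
theorem braid_d_e_p7 : allRange (wordEqPt 15 [TD, TE, TD] [TE, TD, TE]) 23331 3333 = true := by decide +kernel
theorem braid_d_e_p8 : allRange (wordEqPt 15 [TD, TE, TD] [TE, TD, TE]) 26664 1496 = true := by decide +kernel

theorem braid_d_e : allBelow (wordEqPt 15 [TD, TE, TD] [TE, TD, TE]) 28160 = true :=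
  allBelow_append (m := 26664) (len := 1496) (m' := 28160) rfl
    (allBelow_append (m := 23331) (len := 3333) (m' := 26664) rfl
    (allBelow_append (m := 19998) (len := 3333) (m' := 23331) rfl
    (allBelow_append (m := 16665) (len := 3333) (m' := 19998) rfl
    (allBelow_append (m := 13332) (len := 3333) (m' := 16665) rfl
    (allBelow_append (m := 9999) (len := 3333) (m' := 13332) rfl
    (allBelow_append (m := 6666) (len := 3333) (m' := 9999) rfl
    (allBelow_append (m := 3333) (len := 3333) (m' := 6666) rfl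
    (allBelow_append (m := 0) (len := 3333) (m' := 3333) rfl
    (allBelow_nil (wordEqPt 15 [TD, TE, TD] [TE, TD, TE])) braid_d_e_p0) braid_d_e_p1) braid_d_e_p2) braid_d_e_p3) braid_d_e_p4) braid_d_e_p5) braid_d_e_p6) braid_d_e_p7) braid_d_e_p8

end Helper9M2

end Cfsg.Agent.Lib.Helper6.Fi22M
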