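import Cfsg.Agent.Lib.Helper15.WalkPieces
import Cfsg.Agent.Lib.Helper9.Fi22MM2Words

/-!
# S2053 piece [EX-2] (helper9 for helper6): the 28160-point model, table checks (braid relations)

Each check runs over all points; it is cut into ranges of points (the kernel keeps the intermediate big numbers of an
evaluation until the end of the declaration) and glued by `allBelow_append`.
-/

set_option autoImplicit false
set_option maxRecDepth 100000
set_option Elab.async false

namespace Cfsg.Agent.Lib.Helper6.Fi22M

namespace Helper9M2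

open Cfsg.Agent.Lib.Helper28.BSGS Cfsg.Agent.Lib.Helper15.Walk Cfsg.Agent.Lib.Helper22.SuzOut

theorem braid_d_h_p0 : allRange (wordEqPt 15 [TD, TH, TD] [TH, TD, TH]) 0 3333 = true := by decide +kernel
theorem braid_d_h_p1 : allRange (wordEqPt 15 [TD, TH, TD] [TH, TD, TH]) 3333 3333 = true := by decide +kernel
theorem braid_d_h_p2 : allRange (wordEqPt 15 [TD, TH, TD] [TH, TD, TH]) 6666 3333 = true := by decide +kernel
theorem braid_d_h_p3 : allRange (wordEqPt 15 [TD, TH, TD] [TH, TD, TH]) 9999 3333 = true := by decide +kernel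
theorem braid_d_h_p4 : allRange (wordEqPt 15 [TD, TH, TD] [TH, TD, TH]) 13332 3333 = true := by decide +kernel
theorem braid_d_h_p5 : allRange (wordEqPt 15 [TD, TH, TD] [TH, TD, TH]) 16665 3333 = true := by decide +kernel
theorem braid_d_h_p6 : allRange (wordEqPt 15 [TD, TH, TD] [TH, TD, TH]) 19998 3333 = true := by decide +kernel
theorem braid_d_h_p7 : allRange (wordEqPt 15 [TD, TH, TD] [TH, TD, TH]) 23331 3333 = true := by decide +kernel
theorem braid_d_h_p8 : allRange (wordEqPt 15 [TD, TH, TD] [TH, TD, TH]) 26664 1496 = true := by decide +kernel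

theorem braid_d_h : allBelow (wordEqPt 15 [TD, TH, TD] [TH, TD, TH]) 28160 = true :=
  allBelow_append (m := 26664) (len := 1496) (m' := 28160) rfl
    (allBelow_append (m := 23331) (len := 3333) (m' := 26664) rfl
    (allBelow_append (m := 19998) (len := 3333) (m' := 23331) rfl
    (allBelow_append (m := 16665) (len := 3333) (m' := 19998) rfl
    (allBelow_append (m := 13332) (len := 3333) (m' := 16665) rfl
    (allBelow_append (m := 9999) (len := 3333) (m' := 13332) rfl
    (allBelow_append (m := 6666) (len := 3333) (m' := 9999) rfl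
    (allBelow_append (m := 3333) (len := 3333) (m' := 6666) rfl
    (allBelow_append (m := 0) (len := 3333) (m' := 3333) rfl
    (allBelow_nil (wordEqPt 15 [TD, TH, TD] [TH, TD, TH])) braid_d_h_p0) braid_d_h_p1) braid_d_h_p2) braid_d_h_p3) braid_d_h_p4) braid_d_h_p5) braid_d_h_p6) braid_d_h_p7) braid_d_h_p8

theorem braid_e_f_p0 : allRange (wordEqPt 15 [TE, TF, TE] [TF, TE, TF]) 0 3333 = true := by decide +kernel
theorem braid_e_f_p1 : allRange (wordEqPt 15 [TE, TF, TE] [TF, TE, TF]) 3333 3333 = true := by decide +kernel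
theorem braid_e_f_p2 : allRange (wordEqPt 15 [TE, TF, TE] [TF, TE, TF]) 6666 3333 = true := by decide +kernel
theorem braid_e_f_p3 : allRange (wordEqPt 15 [TE, TF, TE] [TF, TE, TF]) 9999 3333 = true := by decide +kernel
theorem braid_e_f_p4 : allRange (wordEqPt 15 [TE, TF, TE] [TF, TE, TF]) 13332 3333 = true := by decide +kernel
theorem braid_e_f_p5 : allRange (wordEqPt 15 [TE, TF, TE] [TF, TE, TF]) 16665 3333 = true := by decide +kernel
theorem braid_e_f_p6 : allRange (wordEqPt 15 [TE, TF, TE] [TF, TE, TF]) 19998 3333 = true := by decide +kernel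
theorem braid_e_f_p7 : allRange (wordEqPt 15 [TE, TF, TE] [TF, TE, TF]) 23331 3333 = true := by decide +kernel
theorem braid_e_f_p8 : allRange (wordEqPt 15 [TE, TF, TE] [TF, TE, TF]) 26664 1496 = true := by decide +kernel

theorem braid_e_f : allBelow (wordEqPt 15 [TE, TF, TE] [TF, TE, TF]) 28160 = true :=
  allBelow_append (m := 26664) (len := 1496) (m' := 28160) rfl
    (allBelow_append (m := 23331) (len := 3333) (m' := 26664) rfl
    (allBelow_append (m := 19998) (len := 3333) (m' := 23331) rfl
    (allBelow_append (m := 16665) (len := 3333) (m' := 19998) rfl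
    (allBelow_append (m := 13332) (len := 3333) (m' := 16665) rfl
    (allBelow_append (m := 9999) (len := 3333) (m' := 13332) rfl
    (allBelow_append (m := 6666) (len := 3333) (m' := 9999) rfl
    (allBelow_append (m := 3333) (len := 3333) (m' := 6666) rfl
    (allBelow_append (m := 0) (len := 3333) (m' := 3333) rfl
    (allBelow_nil (wordEqPt 15 [TE, TF, TE] [TF, TE, TF])) braid_e_f_p0) braid_e_f_p1) braid_e_f_p2) braid_e_f_p3) braid_e_f_p4) braid_e_f_p5) braid_e_f_p6) braid_e_f_p7) braid_e_f_p8

theorem braid_f_g_p0 : allRange (wordEqPt 15 [TF, TG, TF] [TG, TF, TG]) 0 3333 = true := by decide +kernel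
theorem braid_f_g_p1 : allRange (wordEqPt 15 [TF, TG, TF] [TG, TF, TG]) 3333 3333 = true := by decide +kernel
theorem braid_f_g_p2 : allRange (wordEqPt 15 [TF, TG, TF] [TG, TF, TG]) 6666 3333 = true := by decide +kernel
theorem braid_f_g_p3 : allRange (wordEqPt 15 [TF, TG, TF] [TG, TF, TG]) 9999 3333 = true := by decide +kernel
theorem braid_f_g_p4 : allRange (wordEqPt 15 [TF, TG, TF] [TG, TF, TG]) 13332 3333 = true := by decide +kernel
theorem braid_f_g_p5 : allRange (wordEqPt 15 [TF, TG, TF] [TG, TF, TG]) 16665 3333 = true := by decide +kernel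
theorem braid_f_g_p6 : allRange (wordEqPt 15 [TF, TG, TF] [TG, TF, TG]) 19998 3333 = true := by decide +kernel
theorem braid_f_g_p7 : allRange (wordEqPt 15 [TF, TG, TF] [TG, TF, TG]) 23331 3333 = true := by decide +kernel
theorem braid_f_g_p8 : allRange (wordEqPt 15 [TF, TG, TF] [TG, TF, TG]) 26664 1496 = true := by decide +kernel

theorem braid_f_g : allBelow (wordEqPt 15 [TF, TG, TF] [TG, TF, TG]) 28160 = true :=
  allBelow_append (m := 26664) (len := 1496) (m' := 28160) rfl
    (allBelow_append (m := 23331) (len := 3333) (m' := 26664) rfl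
    (allBelow_append (m := 19998) (len := 3333) (m' := 23331) rfl
    (allBelow_append (m := 16665) (len := 3333) (m' := 19998) rfl
    (allBelow_append (m := 13332) (len := 3333) (m' := 16665) rfl
    (allBelow_append (m := 9999) (len := 3333) (m' := 13332) rfl
    (allBelow_append (m := 6666) (len := 3333) (m' := 9999) rfl
    (allBelow_append (m := 3333) (len := 3333) (m' := 6666) rfl
    (allBelow_append (m := 0) (len := 3333) (m' := 3333) rfl
    (allBelow_nil (wordEqPt 15 [TF, TG, TF] [TG, TF, TG])) braid_f_g_p0) braid_f_g_p1) braid_f_g_p2) braid_f_g_p3) braid_f_g_p4) braid_f_g_p5) braid_f_g_p6) braid_f_g_p7) braid_f_g_p8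

theorem braid_h_i_p0 : allRange (wordEqPt 15 [TH, TI, TH] [TI, TH, TI]) 0 3333 = true := by decide +kernel
theorem braid_h_i_p1 : allRange (wordEqPt 15 [TH, TI, TH] [TI, TH, TI]) 3333 3333 = true := by decide +kernel
theorem braid_h_i_p2 : allRange (wordEqPt 15 [TH, TI, TH] [TI, TH, TI]) 6666 3333 = true := by decide +kernel
theorem braid_h_i_p3 : allRange (wordEqPt 15 [TH, TI, TH] [TI, TH, TI]) 9999 3333 = true := by decide +kernel
theorem braid_h_i_p4 : allRange (wordEqPt 15 [TH, TI, TH] [TI, TH, TI]) 13332 3333 = true := by decide +kernel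
theorem braid_h_i_p5 : allRange (wordEqPt 15 [TH, TI, TH] [TI, TH, TI]) 16665 3333 = true := by decide +kernel
theorem braid_h_i_p6 : allRange (wordEqPt 15 [TH, TI, TH] [TI, TH, TI]) 19998 3333 = true := by decide +kernel
theorem braid_h_i_p7 : allRange (wordEqPt 15 [TH, TI, TH] [TI, TH, TI]) 23331 3333 = true := by decide +kernel
theorem braid_h_i_p8 : allRange (wordEqPt 15 [TH, TI, TH] [TI, TH, TI]) 26664 1496 = true := by decide +kernel

theorem braid_h_i : allBelow (wordEqPt 15 [TH, TI, TH] [TI, TH, TI]) 28160 = true :=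
  allBelow_append (m := 26664) (len := 1496) (m' := 28160) rfl
    (allBelow_append (m := 23331) (len := 3333) (m' := 26664) rfl
    (allBelow_append (m := 19998) (len := 3333) (m' := 23331) rfl
    (allBelow_append (m := 16665) (len := 3333) (m' := 19998) rfl
    (allBelow_append (m := 13332) (len := 3333) (m' := 16665) rfl
    (allBelow_append (m := 9999) (len := 3333) (m' := 13332) rfl
    (allBelow_append (m := 6666) (len := 3333) (m' := 9999) rfl
    (allBelow_append (m := 3333) (len := 3333) (m' := 6666) rfl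
    (allBelow_append (m := 0) (len := 3333) (m' := 3333) rfl
    (allBelow_nil (wordEqPt 15 [TH, TI, TH] [TI, TH, TI])) braid_h_i_p0) braid_h_i_p1) braid_h_i_p2) braid_h_i_p3) braid_h_i_p4) braid_h_i_p5) braid_h_i_p6) braid_h_i_p7) braid_h_i_p8

end Helper9M2

end Cfsg.Agent.Lib.Helper6.Fi22M
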