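import Cfsg.Agent.Lib.Helper15.WalkPieces
import Cfsg.Agent.Lib.Helper9.Fi22MM2Words

/-!
# S2053 piece [EX-2] (helper9 for helper6): the 28160-point model, table checks (commuting pairs)

Each check runs over all points; it is cut into ranges of points (the kernel keeps the intermediate big numbers of an
evaluation until the end of the declaration) and glued by `allBelow_append`.
-/

set_option autoImplicit false
set_option maxRecDepth 100000
set_option Elab.async false

namespace Cfsg.Agent.Lib.Helper6.Fi22M

namespace Helper9M2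

open Cfsg.Agent.Lib.Helper28.BSGS Cfsg.Agent.Lib.Helper15.Walk Cfsg.Agent.Lib.Helper22.SuzOut

theorem comm_b_d_p0 : allRange (wordEqPt 15 [TB, TD] [TD, TB]) 0 5000 = true := by decide +kernel
theorem comm_b_d_p1 : allRange (wordEqPt 15 [TB, TD] [TD, TB]) 5000 5000 = true := by decide +kernel
theorem comm_b_d_p2 : allRange (wordEqPt 15 [TB, TD] [TD, TB]) 10000 5000 = true := by decide +kernel
theorem comm_b_d_p3 : allRange (wordEqPt 15 [TB, TD] [TD, TB]) 15000 5000 = true := by decide +kernel
theorem comm_b_d_p4 : allRange (wordEqPt 15 [TB, TD] [TD, TB]) 20000 5000 = true := by decide +kernel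
theorem comm_b_d_p5 : allRange (wordEqPt 15 [TB, TD] [TD, TB]) 25000 3160 = true := by decide +kernel

theorem comm_b_d : allBelow (wordEqPt 15 [TB, TD] [TD, TB]) 28160 = true :=
  allBelow_append (m := 25000) (len := 3160) (m' := 28160) rfl
    (allBelow_append (m := 20000) (len := 5000) (m' := 25000) rfl
    (allBelow_append (m := 15000) (len := 5000) (m' := 20000) rfl
    (allBelow_append (m := 10000) (len := 5000) (m' := 15000) rfl
    (allBelow_append (m := 5000) (len := 5000) (m' := 10000) rfl
    (allBelow_append (m := 0) (len := 5000) (m' := 5000) rfl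
    (allBelow_nil (wordEqPt 15 [TB, TD] [TD, TB])) comm_b_d_p0) comm_b_d_p1) comm_b_d_p2) comm_b_d_p3) comm_b_d_p4) comm_b_d_p5

theorem comm_b_e_p0 : allRange (wordEqPt 15 [TB, TE] [TE, TB]) 0 5000 = true := by decide +kernel
theorem comm_b_e_p1 : allRange (wordEqPt 15 [TB, TE] [TE, TB]) 5000 5000 = true := by decide +kernel
theorem comm_b_e_p2 : allRange (wordEqPt 15 [TB, TE] [TE, TB]) 10000 5000 = true := by decide +kernel
theorem comm_b_e_p3 : allRange (wordEqPt 15 [TB, TE] [TE, TB]) 15000 5000 = true := by decide +kernel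
theorem comm_b_e_p4 : allRange (wordEqPt 15 [TB, TE] [TE, TB]) 20000 5000 = true := by decide +kernel
theorem comm_b_e_p5 : allRange (wordEqPt 15 [TB, TE] [TE, TB]) 25000 3160 = true := by decide +kernel

theorem comm_b_e : allBelow (wordEqPt 15 [TB, TE] [TE, TB]) 28160 = true :=
  allBelow_append (m := 25000) (len := 3160) (m' := 28160) rfl
    (allBelow_append (m := 20000) (len := 5000) (m' := 25000) rfl
    (allBelow_append (m := 15000) (len := 5000) (m' := 20000) rfl
    (allBelow_append (m := 10000) (len := 5000) (m' := 15000) rfl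
    (allBelow_append (m := 5000) (len := 5000) (m' := 10000) rfl
    (allBelow_append (m := 0) (len := 5000) (m' := 5000) rfl
    (allBelow_nil (wordEqPt 15 [TB, TE] [TE, TB])) comm_b_e_p0) comm_b_e_p1) comm_b_e_p2) comm_b_e_p3) comm_b_e_p4) comm_b_e_p5

theorem comm_b_f_p0 : allRange (wordEqPt 15 [TB, TF] [TF, TB]) 0 5000 = true := by decide +kernel
theorem comm_b_f_p1 : allRange (wordEqPt 15 [TB, TF] [TF, TB]) 5000 5000 = true := by decide +kernel
theorem comm_b_f_p2 : allRange (wordEqPt 15 [TB, TF] [TF, TB]) 10000 5000 = true := by decide +kernel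
theorem comm_b_f_p3 : allRange (wordEqPt 15 [TB, TF] [TF, TB]) 15000 5000 = true := by decide +kernel
theorem comm_b_f_p4 : allRange (wordEqPt 15 [TB, TF] [TF, TB]) 20000 5000 = true := by decide +kernel
theorem comm_b_f_p5 : allRange (wordEqPt 15 [TB, TF] [TF, TB]) 25000 3160 = true := by decide +kernel

theorem comm_b_f : allBelow (wordEqPt 15 [TB, TF] [TF, TB]) 28160 = true :=
  allBelow_append (m := 25000) (len := 3160) (m' := 28160) rfl
    (allBelow_append (m := 20000) (len := 5000) (m' := 25000) rfl
    (allBelow_append (m := 15000) (len := 5000) (m' := 20000) rfl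
    (allBelow_append (m := 10000) (len := 5000) (m' := 15000) rfl
    (allBelow_append (m := 5000) (len := 5000) (m' := 10000) rfl
    (allBelow_append (m := 0) (len := 5000) (m' := 5000) rfl
    (allBelow_nil (wordEqPt 15 [TB, TF] [TF, TB])) comm_b_f_p0) comm_b_f_p1) comm_b_f_p2) comm_b_f_p3) comm_b_f_p4) comm_b_f_p5

theorem comm_b_g_p0 : allRange (wordEqPt 15 [TB, TG] [TG, TB]) 0 5000 = true := by decide +kernel
theorem comm_b_g_p1 : allRange (wordEqPt 15 [TB, TG] [TG, TB]) 5000 5000 = true := by decide +kernel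
theorem comm_b_g_p2 : allRange (wordEqPt 15 [TB, TG] [TG, TB]) 10000 5000 = true := by decide +kernel
theorem comm_b_g_p3 : allRange (wordEqPt 15 [TB, TG] [TG, TB]) 15000 5000 = true := by decide +kernel
theorem comm_b_g_p4 : allRange (wordEqPt 15 [TB, TG] [TG, TB]) 20000 5000 = true := by decide +kernel
theorem comm_b_g_p5 : allRange (wordEqPt 15 [TB, TG] [TG, TB]) 25000 3160 = true := by decide +kernel

theorem comm_b_g : allBelow (wordEqPt 15 [TB, TG] [TG, TB]) 28160 = true :=
  allBelow_append (m := 25000) (len := 3160) (m' := 28160) rfl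
    (allBelow_append (m := 20000) (len := 5000) (m' := 25000) rfl
    (allBelow_append (m := 15000) (len := 5000) (m' := 20000) rfl
    (allBelow_append (m := 10000) (len := 5000) (m' := 15000) rfl
    (allBelow_append (m := 5000) (len := 5000) (m' := 10000) rfl
    (allBelow_append (m := 0) (len := 5000) (m' := 5000) rfl
    (allBelow_nil (wordEqPt 15 [TB, TG] [TG, TB])) comm_b_g_p0) comm_b_g_p1) comm_b_g_p2) comm_b_g_p3) comm_b_g_p4) comm_b_g_p5

theorem comm_b_h_p0 : allRange (wordEqPt 15 [TB, TH] [TH, TB]) 0 5000 = true := by decide +kernel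
theorem comm_b_h_p1 : allRange (wordEqPt 15 [TB, TH] [TH, TB]) 5000 5000 = true := by decide +kernel
theorem comm_b_h_p2 : allRange (wordEqPt 15 [TB, TH] [TH, TB]) 10000 5000 = true := by decide +kernel
theorem comm_b_h_p3 : allRange (wordEqPt 15 [TB, TH] [TH, TB]) 15000 5000 = true := by decide +kernel
theorem comm_b_h_p4 : allRange (wordEqPt 15 [TB, TH] [TH, TB]) 20000 5000 = true := by decide +kernel
theorem comm_b_h_p5 : allRange (wordEqPt 15 [TB, TH] [TH, TB]) 25000 3160 = true := by decide +kernel

theorem comm_b_h : allBelow (wordEqPt 15 [TB, TH] [TH, TB]) 28160 = true :=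
  allBelow_append (m := 25000) (len := 3160) (m' := 28160) rfl
    (allBelow_append (m := 20000) (len := 5000) (m' := 25000) rfl
    (allBelow_append (m := 15000) (len := 5000) (m' := 20000) rfl
    (allBelow_append (m := 10000) (len := 5000) (m' := 15000) rfl
    (allBelow_append (m := 5000) (len := 5000) (m' := 10000) rfl
    (allBelow_append (m := 0) (len := 5000) (m' := 5000) rfl
    (allBelow_nil (wordEqPt 15 [TB, TH] [TH, TB])) comm_b_h_p0) comm_b_h_p1) comm_b_h_p2) comm_b_h_p3) comm_b_h_p4) comm_b_h_p5

theorem comm_b_i_p0 : allRange (wordEqPt 15 [TB, TI] [TI, TB]) 0 5000 = true := by decide +kernel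
theorem comm_b_i_p1 : allRange (wordEqPt 15 [TB, TI] [TI, TB]) 5000 5000 = true := by decide +kernel
theorem comm_b_i_p2 : allRange (wordEqPt 15 [TB, TI] [TI, TB]) 10000 5000 = true := by decide +kernel
theorem comm_b_i_p3 : allRange (wordEqPt 15 [TB, TI] [TI, TB]) 15000 5000 = true := by decide +kernel
theorem comm_b_i_p4 : allRange (wordEqPt 15 [TB, TI] [TI, TB]) 20000 5000 = true := by decide +kernel
theorem comm_b_i_p5 : allRange (wordEqPt 15 [TB, TI] [TI, TB]) 25000 3160 = true := by decide +kernel

theorem comm_b_i : allBelow (wordEqPt 15 [TB, TI] [TI, TB]) 28160 = true :=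
  allBelow_append (m := 25000) (len := 3160) (m' := 28160) rfl
    (allBelow_append (m := 20000) (len := 5000) (m' := 25000) rfl
    (allBelow_append (m := 15000) (len := 5000) (m' := 20000) rfl
    (allBelow_append (m := 10000) (len := 5000) (m' := 15000) rfl
    (allBelow_append (m := 5000) (len := 5000) (m' := 10000) rfl
    (allBelow_append (m := 0) (len := 5000) (m' := 5000) rfl
    (allBelow_nil (wordEqPt 15 [TB, TI] [TI, TB])) comm_b_i_p0) comm_b_i_p1) comm_b_i_p2) comm_b_i_p3) comm_b_i_p4) comm_b_i_p5

theorem comm_c_e_p0 : allRange (wordEqPt 15 [TC, TE] [TE, TC]) 0 5000 = true := by decide +kernel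
theorem comm_c_e_p1 : allRange (wordEqPt 15 [TC, TE] [TE, TC]) 5000 5000 = true := by decide +kernel
theorem comm_c_e_p2 : allRange (wordEqPt 15 [TC, TE] [TE, TC]) 10000 5000 = true := by decide +kernel
theorem comm_c_e_p3 : allRange (wordEqPt 15 [TC, TE] [TE, TC]) 15000 5000 = true := by decide +kernel
theorem comm_c_e_p4 : allRange (wordEqPt 15 [TC, TE] [TE, TC]) 20000 5000 = true := by decide +kernel
theorem comm_c_e_p5 : allRange (wordEqPt 15 [TC, TE] [TE, TC]) 25000 3160 = true := by decide +kernel

theorem comm_c_e : allBelow (wordEqPt 15 [TC, TE] [TE, TC]) 28160 = true :=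
  allBelow_append (m := 25000) (len := 3160) (m' := 28160) rfl
    (allBelow_append (m := 20000) (len := 5000) (m' := 25000) rfl
    (allBelow_append (m := 15000) (len := 5000) (m' := 20000) rfl
    (allBelow_append (m := 10000) (len := 5000) (m' := 15000) rfl
    (allBelow_append (m := 5000) (len := 5000) (m' := 10000) rfl
    (allBelow_append (m := 0) (len := 5000) (m' := 5000) rfl
    (allBelow_nil (wordEqPt 15 [TC, TE] [TE, TC])) comm_c_e_p0) comm_c_e_p1) comm_c_e_p2) comm_c_e_p3) comm_c_e_p4) comm_c_e_p5

end Helper9M2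

end Cfsg.Agent.Lib.Helper6.Fi22M
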