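import Cfsg.Agent.Lib.Helper15.WalkPieces
import Cfsg.Agent.Lib.Helper9.Fi22MM2Words

/-!
# S2053 piece [EX-2] (helper9 for helper6): the 28160-point model, table checks (commuting pairs)

Each check runs over all points; it is cut into ranges of points (the kernel keeps the intermediate big numbers of an
evaluation until the end of the declaration) and glued by `allBelow_append`.
-/

set_option autoImplicit false
set_option maxRecDepth 100000
set_option Elab.async false

namespace Cfsg.Agent.Lib.Helper6.Fi22M

namespace Helper9M2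

open Cfsg.Agent.Lib.Helper28.BSGS Cfsg.Agent.Lib.Helper15.Walk Cfsg.Agent.Lib.Helper22.SuzOut

theorem comm_e_g_p0 : allRange (wordEqPt 15 [TE, TG] [TG, TE]) 0 5000 = true := by decide +kernel
theorem comm_e_g_p1 : allRange (wordEqPt 15 [TE, TG] [TG, TE]) 5000 5000 = true := by decide +kernel
theorem comm_e_g_p2 : allRange (wordEqPt 15 [TE, TG] [TG, TE]) 10000 5000 = true := by decide +kernel
theorem comm_e_g_p3 : allRange (wordEqPt 15 [TE, TG] [TG, TE]) 15000 5000 = true := by decide +kernel
theorem comm_e_g_p4 : allRange (wordEqPt 15 [TE, TG] [TG, TE]) 20000 5000 = true := by decide +kernel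
theorem comm_e_g_p5 : allRange (wordEqPt 15 [TE, TG] [TG, TE]) 25000 3160 = true := by decide +kernel

theorem comm_e_g : allBelow (wordEqPt 15 [TE, TG] [TG, TE]) 28160 = true :=
  allBelow_append (m := 25000) (len := 3160) (m' := 28160) rfl
    (allBelow_append (m := 20000) (len := 5000) (m' := 25000) rfl
    (allBelow_append (m := 15000) (len := 5000) (m' := 20000) rfl
    (allBelow_append (m := 10000) (len := 5000) (m' := 15000) rfl
    (allBelow_append (m := 5000) (len := 5000) (m' := 10000) rfl
    (allBelow_append (m := 0) (len := 5000) (m' := 5000) rfl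
    (allBelow_nil (wordEqPt 15 [TE, TG] [TG, TE])) comm_e_g_p0) comm_e_g_p1) comm_e_g_p2) comm_e_g_p3) comm_e_g_p4) comm_e_g_p5

theorem comm_e_h_p0 : allRange (wordEqPt 15 [TE, TH] [TH, TE]) 0 5000 = true := by decide +kernel
theorem comm_e_h_p1 : allRange (wordEqPt 15 [TE, TH] [TH, TE]) 5000 5000 = true := by decide +kernel
theorem comm_e_h_p2 : allRange (wordEqPt 15 [TE, TH] [TH, TE]) 10000 5000 = true := by decide +kernel
theorem comm_e_h_p3 : allRange (wordEqPt 15 [TE, TH] [TH, TE]) 15000 5000 = true := by decide +kernel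
theorem comm_e_h_p4 : allRange (wordEqPt 15 [TE, TH] [TH, TE]) 20000 5000 = true := by decide +kernel
theorem comm_e_h_p5 : allRange (wordEqPt 15 [TE, TH] [TH, TE]) 25000 3160 = true := by decide +kernel

theorem comm_e_h : allBelow (wordEqPt 15 [TE, TH] [TH, TE]) 28160 = true :=
  allBelow_append (m := 25000) (len := 3160) (m' := 28160) rfl
    (allBelow_append (m := 20000) (len := 5000) (m' := 25000) rfl
    (allBelow_append (m := 15000) (len := 5000) (m' := 20000) rfl
    (allBelow_append (m := 10000) (len := 5000) (m' := 15000) rfl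
    (allBelow_append (m := 5000) (len := 5000) (m' := 10000) rfl
    (allBelow_append (m := 0) (len := 5000) (m' := 5000) rfl
    (allBelow_nil (wordEqPt 15 [TE, TH] [TH, TE])) comm_e_h_p0) comm_e_h_p1) comm_e_h_p2) comm_e_h_p3) comm_e_h_p4) comm_e_h_p5

theorem comm_e_i_p0 : allRange (wordEqPt 15 [TE, TI] [TI, TE]) 0 5000 = true := by decide +kernel
theorem comm_e_i_p1 : allRange (wordEqPt 15 [TE, TI] [TI, TE]) 5000 5000 = true := by decide +kernel
theorem comm_e_i_p2 : allRange (wordEqPt 15 [TE, TI] [TI, TE]) 10000 5000 = true := by decide +kernel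
theorem comm_e_i_p3 : allRange (wordEqPt 15 [TE, TI] [TI, TE]) 15000 5000 = true := by decide +kernel
theorem comm_e_i_p4 : allRange (wordEqPt 15 [TE, TI] [TI, TE]) 20000 5000 = true := by decide +kernel
theorem comm_e_i_p5 : allRange (wordEqPt 15 [TE, TI] [TI, TE]) 25000 3160 = true := by decide +kernel

theorem comm_e_i : allBelow (wordEqPt 15 [TE, TI] [TI, TE]) 28160 = true :=
  allBelow_append (m := 25000) (len := 3160) (m' := 28160) rfl
    (allBelow_append (m := 20000) (len := 5000) (m' := 25000) rfl
    (allBelow_append (m := 15000) (len := 5000) (m' := 20000) rfl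
    (allBelow_append (m := 10000) (len := 5000) (m' := 15000) rfl
    (allBelow_append (m := 5000) (len := 5000) (m' := 10000) rfl
    (allBelow_append (m := 0) (len := 5000) (m' := 5000) rfl
    (allBelow_nil (wordEqPt 15 [TE, TI] [TI, TE])) comm_e_i_p0) comm_e_i_p1) comm_e_i_p2) comm_e_i_p3) comm_e_i_p4) comm_e_i_p5

theorem comm_f_h_p0 : allRange (wordEqPt 15 [TF, TH] [TH, TF]) 0 5000 = true := by decide +kernel
theorem comm_f_h_p1 : allRange (wordEqPt 15 [TF, TH] [TH, TF]) 5000 5000 = true := by decide +kernel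
theorem comm_f_h_p2 : allRange (wordEqPt 15 [TF, TH] [TH, TF]) 10000 5000 = true := by decide +kernel
theorem comm_f_h_p3 : allRange (wordEqPt 15 [TF, TH] [TH, TF]) 15000 5000 = true := by decide +kernel
theorem comm_f_h_p4 : allRange (wordEqPt 15 [TF, TH] [TH, TF]) 20000 5000 = true := by decide +kernel
theorem comm_f_h_p5 : allRange (wordEqPt 15 [TF, TH] [TH, TF]) 25000 3160 = true := by decide +kernel

theorem comm_f_h : allBelow (wordEqPt 15 [TF, TH] [TH, TF]) 28160 = true :=
  allBelow_append (m := 25000) (len := 3160) (m' := 28160) rfl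
    (allBelow_append (m := 20000) (len := 5000) (m' := 25000) rfl
    (allBelow_append (m := 15000) (len := 5000) (m' := 20000) rfl
    (allBelow_append (m := 10000) (len := 5000) (m' := 15000) rfl
    (allBelow_append (m := 5000) (len := 5000) (m' := 10000) rfl
    (allBelow_append (m := 0) (len := 5000) (m' := 5000) rfl
    (allBelow_nil (wordEqPt 15 [TF, TH] [TH, TF])) comm_f_h_p0) comm_f_h_p1) comm_f_h_p2) comm_f_h_p3) comm_f_h_p4) comm_f_h_p5

theorem comm_f_i_p0 : allRange (wordEqPt 15 [TF, TI] [TI, TF]) 0 5000 = true := by decide +kernel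
theorem comm_f_i_p1 : allRange (wordEqPt 15 [TF, TI] [TI, TF]) 5000 5000 = true := by decide +kernel
theorem comm_f_i_p2 : allRange (wordEqPt 15 [TF, TI] [TI, TF]) 10000 5000 = true := by decide +kernel
theorem comm_f_i_p3 : allRange (wordEqPt 15 [TF, TI] [TI, TF]) 15000 5000 = true := by decide +kernel
theorem comm_f_i_p4 : allRange (wordEqPt 15 [TF, TI] [TI, TF]) 20000 5000 = true := by decide +kernel
theorem comm_f_i_p5 : allRange (wordEqPt 15 [TF, TI] [TI, TF]) 25000 3160 = true := by decide +kernel

theorem comm_f_i : allBelow (wordEqPt 15 [TF, TI] [TI, TF]) 28160 = true :=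
  allBelow_append (m := 25000) (len := 3160) (m' := 28160) rfl
    (allBelow_append (m := 20000) (len := 5000) (m' := 25000) rfl
    (allBelow_append (m := 15000) (len := 5000) (m' := 20000) rfl
    (allBelow_append (m := 10000) (len := 5000) (m' := 15000) rfl
    (allBelow_append (m := 5000) (len := 5000) (m' := 10000) rfl
    (allBelow_append (m := 0) (len := 5000) (m' := 5000) rfl
    (allBelow_nil (wordEqPt 15 [TF, TI] [TI, TF])) comm_f_i_p0) comm_f_i_p1) comm_f_i_p2) comm_f_i_p3) comm_f_i_p4) comm_f_i_p5

theorem comm_g_h_p0 : allRange (wordEqPt 15 [TG, TH] [TH, TG]) 0 5000 = true := by decide +kernel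
theorem comm_g_h_p1 : allRange (wordEqPt 15 [TG, TH] [TH, TG]) 5000 5000 = true := by decide +kernel
theorem comm_g_h_p2 : allRange (wordEqPt 15 [TG, TH] [TH, TG]) 10000 5000 = true := by decide +kernel
theorem comm_g_h_p3 : allRange (wordEqPt 15 [TG, TH] [TH, TG]) 15000 5000 = true := by decide +kernel
theorem comm_g_h_p4 : allRange (wordEqPt 15 [TG, TH] [TH, TG]) 20000 5000 = true := by decide +kernel
theorem comm_g_h_p5 : allRange (wordEqPt 15 [TG, TH] [TH, TG]) 25000 3160 = true := by decide +kernel

theorem comm_g_h : allBelow (wordEqPt 15 [TG, TH] [TH, TG]) 28160 = true :=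
  allBelow_append (m := 25000) (len := 3160) (m' := 28160) rfl
    (allBelow_append (m := 20000) (len := 5000) (m' := 25000) rfl
    (allBelow_append (m := 15000) (len := 5000) (m' := 20000) rfl
    (allBelow_append (m := 10000) (len := 5000) (m' := 15000) rfl
    (allBelow_append (m := 5000) (len := 5000) (m' := 10000) rfl
    (allBelow_append (m := 0) (len := 5000) (m' := 5000) rfl
    (allBelow_nil (wordEqPt 15 [TG, TH] [TH, TG])) comm_g_h_p0) comm_g_h_p1) comm_g_h_p2) comm_g_h_p3) comm_g_h_p4) comm_g_h_p5

theorem comm_g_i_p0 : allRange (wordEqPt 15 [TG, TI] [TI, TG]) 0 5000 = true := by decide +kernel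
theorem comm_g_i_p1 : allRange (wordEqPt 15 [TG, TI] [TI, TG]) 5000 5000 = true := by decide +kernel
theorem comm_g_i_p2 : allRange (wordEqPt 15 [TG, TI] [TI, TG]) 10000 5000 = true := by decide +kernel
theorem comm_g_i_p3 : allRange (wordEqPt 15 [TG, TI] [TI, TG]) 15000 5000 = true := by decide +kernel
theorem comm_g_i_p4 : allRange (wordEqPt 15 [TG, TI] [TI, TG]) 20000 5000 = true := by decide +kernel
theorem comm_g_i_p5 : allRange (wordEqPt 15 [TG, TI] [TI, TG]) 25000 3160 = true := by decide +kernel

theorem comm_g_i : allBelow (wordEqPt 15 [TG, TI] [TI, TG]) 28160 = true :=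
  allBelow_append (m := 25000) (len := 3160) (m' := 28160) rfl
    (allBelow_append (m := 20000) (len := 5000) (m' := 25000) rfl
    (allBelow_append (m := 15000) (len := 5000) (m' := 20000) rfl
    (allBelow_append (m := 10000) (len := 5000) (m' := 15000) rfl
    (allBelow_append (m := 5000) (len := 5000) (m' := 10000) rfl
    (allBelow_append (m := 0) (len := 5000) (m' := 5000) rfl
    (allBelow_nil (wordEqPt 15 [TG, TI] [TI, TG])) comm_g_i_p0) comm_g_i_p1) comm_g_i_p2) comm_g_i_p3) comm_g_i_p4) comm_g_i_p5

end Helper9M2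

end Cfsg.Agent.Lib.Helper6.Fi22M
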