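import Cfsg.Agent.Lib.Helper15.WalkPieces
import Cfsg.Agent.Lib.Helper9.Fi22MM2Words

/-!
# S2053 piece [EX-2] (helper9 for helper6): the 28160-point model, table checks (the ten tables are involutions)

Each check runs over all points; it is cut into ranges of points (the kernel keeps the intermediate big numbers of an
evaluation until the end of the declaration) and glued by `allBelow_append`.
-/

set_option autoImplicit false
set_option maxRecDepth 100000
set_option Elab.async false

namespace Cfsg.Agent.Lib.Helper6.Fi22M

namespace Helper9M2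

open Cfsg.Agent.Lib.Helper28.BSGS Cfsg.Agent.Lib.Helper15.Walk Cfsg.Agent.Lib.Helper22.SuzOut

theorem pair_a_p0 : allRange (pairPt 28160 15 TA TA) 0 5000 = true := by decide +kernel
theorem pair_a_p1 : allRange (pairPt 28160 15 TA TA) 5000 5000 = true := by decide +kernel
theorem pair_a_p2 : allRange (pairPt 28160 15 TA TA) 10000 5000 = true := by decide +kernel
theorem pair_a_p3 : allRange (pairPt 28160 15 TA TA) 15000 5000 = true := by decide +kernel
theorem pair_a_p4 : allRange (pairPt 28160 15 TA TA) 20000 5000 = true := by decide +kernel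
theorem pair_a_p5 : allRange (pairPt 28160 15 TA TA) 25000 3160 = true := by decide +kernel

theorem pair_a : allBelow (pairPt 28160 15 TA TA) 28160 = true :=
  allBelow_append (m := 25000) (len := 3160) (m' := 28160) rfl
    (allBelow_append (m := 20000) (len := 5000) (m' := 25000) rfl
    (allBelow_append (m := 15000) (len := 5000) (m' := 20000) rfl
    (allBelow_append (m := 10000) (len := 5000) (m' := 15000) rfl
    (allBelow_append (m := 5000) (len := 5000) (m' := 10000) rfl
    (allBelow_append (m := 0) (len := 5000) (m' := 5000) rfl
    (allBelow_nil (pairPt 28160 15 TA TA)) pair_a_p0) pair_a_p1) pair_a_p2) pair_a_p3) pair_a_p4) pair_a_p5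

theorem pair_b_p0 : allRange (pairPt 28160 15 TB TB) 0 5000 = true := by decide +kernel
theorem pair_b_p1 : allRange (pairPt 28160 15 TB TB) 5000 5000 = true := by decide +kernel
theorem pair_b_p2 : allRange (pairPt 28160 15 TB TB) 10000 5000 = true := by decide +kernel
theorem pair_b_p3 : allRange (pairPt 28160 15 TB TB) 15000 5000 = true := by decide +kernel
theorem pair_b_p4 : allRange (pairPt 28160 15 TB TB) 20000 5000 = true := by decide +kernel
theorem pair_b_p5 : allRange (pairPt 28160 15 TB TB) 25000 3160 = true := by decide +kernel

theorem pair_b : allBelow (pairPt 28160 15 TB TB) 28160 = true :=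
  allBelow_append (m := 25000) (len := 3160) (m' := 28160) rfl
    (allBelow_append (m := 20000) (len := 5000) (m' := 25000) rfl
    (allBelow_append (m := 15000) (len := 5000) (m' := 20000) rfl
    (allBelow_append (m := 10000) (len := 5000) (m' := 15000) rfl
    (allBelow_append (m := 5000) (len := 5000) (m' := 10000) rfl
    (allBelow_append (m := 0) (len := 5000) (m' := 5000) rfl
    (allBelow_nil (pairPt 28160 15 TB TB)) pair_b_p0) pair_b_p1) pair_b_p2) pair_b_p3) pair_b_p4) pair_b_p5

theorem pair_c_p0 : allRange (pairPt 28160 15 TC TC) 0 5000 = true := by decide +kernel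
theorem pair_c_p1 : allRange (pairPt 28160 15 TC TC) 5000 5000 = true := by decide +kernel
theorem pair_c_p2 : allRange (pairPt 28160 15 TC TC) 10000 5000 = true := by decide +kernel
theorem pair_c_p3 : allRange (pairPt 28160 15 TC TC) 15000 5000 = true := by decide +kernel
theorem pair_c_p4 : allRange (pairPt 28160 15 TC TC) 20000 5000 = true := by decide +kernel
theorem pair_c_p5 : allRange (pairPt 28160 15 TC TC) 25000 3160 = true := by decide +kernel

theorem pair_c : allBelow (pairPt 28160 15 TC TC) 28160 = true :=
  allBelow_append (m := 25000) (len := 3160) (m' := 28160) rfl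
    (allBelow_append (m := 20000) (len := 5000) (m' := 25000) rfl
    (allBelow_append (m := 15000) (len := 5000) (m' := 20000) rfl
    (allBelow_append (m := 10000) (len := 5000) (m' := 15000) rfl
    (allBelow_append (m := 5000) (len := 5000) (m' := 10000) rfl
    (allBelow_append (m := 0) (len := 5000) (m' := 5000) rfl
    (allBelow_nil (pairPt 28160 15 TC TC)) pair_c_p0) pair_c_p1) pair_c_p2) pair_c_p3) pair_c_p4) pair_c_p5

theorem pair_d_p0 : allRange (pairPt 28160 15 TD TD) 0 5000 = true := by decide +kernel
theorem pair_d_p1 : allRange (pairPt 28160 15 TD TD) 5000 5000 = true := by decide +kernel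
theorem pair_d_p2 : allRange (pairPt 28160 15 TD TD) 10000 5000 = true := by decide +kernel
theorem pair_d_p3 : allRange (pairPt 28160 15 TD TD) 15000 5000 = true := by decide +kernel
theorem pair_d_p4 : allRange (pairPt 28160 15 TD TD) 20000 5000 = true := by decide +kernel
theorem pair_d_p5 : allRange (pairPt 28160 15 TD TD) 25000 3160 = true := by decide +kernel

theorem pair_d : allBelow (pairPt 28160 15 TD TD) 28160 = true :=
  allBelow_append (m := 25000) (len := 3160) (m' := 28160) rfl
    (allBelow_append (m := 20000) (len := 5000) (m' := 25000) rfl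
    (allBelow_append (m := 15000) (len := 5000) (m' := 20000) rfl
    (allBelow_append (m := 10000) (len := 5000) (m' := 15000) rfl
    (allBelow_append (m := 5000) (len := 5000) (m' := 10000) rfl
    (allBelow_append (m := 0) (len := 5000) (m' := 5000) rfl
    (allBelow_nil (pairPt 28160 15 TD TD)) pair_d_p0) pair_d_p1) pair_d_p2) pair_d_p3) pair_d_p4) pair_d_p5

theorem pair_e_p0 : allRange (pairPt 28160 15 TE TE) 0 5000 = true := by decide +kernel
theorem pair_e_p1 : allRange (pairPt 28160 15 TE TE) 5000 5000 = true := by decide +kernel
theorem pair_e_p2 : allRange (pairPt 28160 15 TE TE) 10000 5000 = true := by decide +kernel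
theorem pair_e_p3 : allRange (pairPt 28160 15 TE TE) 15000 5000 = true := by decide +kernel
theorem pair_e_p4 : allRange (pairPt 28160 15 TE TE) 20000 5000 = true := by decide +kernel
theorem pair_e_p5 : allRange (pairPt 28160 15 TE TE) 25000 3160 = true := by decide +kernel

theorem pair_e : allBelow (pairPt 28160 15 TE TE) 28160 = true :=
  allBelow_append (m := 25000) (len := 3160) (m' := 28160) rfl
    (allBelow_append (m := 20000) (len := 5000) (m' := 25000) rfl
    (allBelow_append (m := 15000) (len := 5000) (m' := 20000) rfl
    (allBelow_append (m := 10000) (len := 5000) (m' := 15000) rfl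
    (allBelow_append (m := 5000) (len := 5000) (m' := 10000) rfl
    (allBelow_append (m := 0) (len := 5000) (m' := 5000) rfl
    (allBelow_nil (pairPt 28160 15 TE TE)) pair_e_p0) pair_e_p1) pair_e_p2) pair_e_p3) pair_e_p4) pair_e_p5

theorem pair_f_p0 : allRange (pairPt 28160 15 TF TF) 0 5000 = true := by decide +kernel
theorem pair_f_p1 : allRange (pairPt 28160 15 TF TF) 5000 5000 = true := by decide +kernel
theorem pair_f_p2 : allRange (pairPt 28160 15 TF TF) 10000 5000 = true := by decide +kernel
theorem pair_f_p3 : allRange (pairPt 28160 15 TF TF) 15000 5000 = true := by decide +kernel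
theorem pair_f_p4 : allRange (pairPt 28160 15 TF TF) 20000 5000 = true := by decide +kernel
theorem pair_f_p5 : allRange (pairPt 28160 15 TF TF) 25000 3160 = true := by decide +kernel

theorem pair_f : allBelow (pairPt 28160 15 TF TF) 28160 = true :=
  allBelow_append (m := 25000) (len := 3160) (m' := 28160) rfl
    (allBelow_append (m := 20000) (len := 5000) (m' := 25000) rfl
    (allBelow_append (m := 15000) (len := 5000) (m' := 20000) rfl
    (allBelow_append (m := 10000) (len := 5000) (m' := 15000) rfl
    (allBelow_append (m := 5000) (len := 5000) (m' := 10000) rfl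
    (allBelow_append (m := 0) (len := 5000) (m' := 5000) rfl
    (allBelow_nil (pairPt 28160 15 TF TF)) pair_f_p0) pair_f_p1) pair_f_p2) pair_f_p3) pair_f_p4) pair_f_p5

theorem pair_g_p0 : allRange (pairPt 28160 15 TG TG) 0 5000 = true := by decide +kernel
theorem pair_g_p1 : allRange (pairPt 28160 15 TG TG) 5000 5000 = true := by decide +kernel
theorem pair_g_p2 : allRange (pairPt 28160 15 TG TG) 10000 5000 = true := by decide +kernel
theorem pair_g_p3 : allRange (pairPt 28160 15 TG TG) 15000 5000 = true := by decide +kernel
theorem pair_g_p4 : allRange (pairPt 28160 15 TG TG) 20000 5000 = true := by decide +kernel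
theorem pair_g_p5 : allRange (pairPt 28160 15 TG TG) 25000 3160 = true := by decide +kernel

theorem pair_g : allBelow (pairPt 28160 15 TG TG) 28160 = true :=
  allBelow_append (m := 25000) (len := 3160) (m' := 28160) rfl
    (allBelow_append (m := 20000) (len := 5000) (m' := 25000) rfl
    (allBelow_append (m := 15000) (len := 5000) (m' := 20000) rfl
    (allBelow_append (m := 10000) (len := 5000) (m' := 15000) rfl
    (allBelow_append (m := 5000) (len := 5000) (m' := 10000) rfl
    (allBelow_append (m := 0) (len := 5000) (m' := 5000) rfl
    (allBelow_nil (pairPt 28160 15 TG TG)) pair_g_p0) pair_g_p1) pair_g_p2) pair_g_p3) pair_g_p4) pair_g_p5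

theorem pair_h_p0 : allRange (pairPt 28160 15 TH TH) 0 5000 = true := by decide +kernel
theorem pair_h_p1 : allRange (pairPt 28160 15 TH TH) 5000 5000 = true := by decide +kernel
theorem pair_h_p2 : allRange (pairPt 28160 15 TH TH) 10000 5000 = true := by decide +kernel
theorem pair_h_p3 : allRange (pairPt 28160 15 TH TH) 15000 5000 = true := by decide +kernel
theorem pair_h_p4 : allRange (pairPt 28160 15 TH TH) 20000 5000 = true := by decide +kernel
theorem pair_h_p5 : allRange (pairPt 28160 15 TH TH) 25000 3160 = true := by decide +kernel

theorem pair_h : allBelow (pairPt 28160 15 TH TH) 28160 = true :=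
  allBelow_append (m := 25000) (len := 3160) (m' := 28160) rfl
    (allBelow_append (m := 20000) (len := 5000) (m' := 25000) rfl
    (allBelow_append (m := 15000) (len := 5000) (m' := 20000) rfl
    (allBelow_append (m := 10000) (len := 5000) (m' := 15000) rfl
    (allBelow_append (m := 5000) (len := 5000) (m' := 10000) rfl
    (allBelow_append (m := 0) (len := 5000) (m' := 5000) rfl
    (allBelow_nil (pairPt 28160 15 TH TH)) pair_h_p0) pair_h_p1) pair_h_p2) pair_h_p3) pair_h_p4) pair_h_p5

theorem pair_i_p0 : allRange (pairPt 28160 15 TI TI) 0 5000 = true := by decide +kernel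
theorem pair_i_p1 : allRange (pairPt 28160 15 TI TI) 5000 5000 = true := by decide +kernel
theorem pair_i_p2 : allRange (pairPt 28160 15 TI TI) 10000 5000 = true := by decide +kernel
theorem pair_i_p3 : allRange (pairPt 28160 15 TI TI) 15000 5000 = true := by decide +kernel
theorem pair_i_p4 : allRange (pairPt 28160 15 TI TI) 20000 5000 = true := by decide +kernel
theorem pair_i_p5 : allRange (pairPt 28160 15 TI TI) 25000 3160 = true := by decide +kernel

theorem pair_i : allBelow (pairPt 28160 15 TI TI) 28160 = true :=
  allBelow_append (m := 25000) (len := 3160) (m' := 28160) rfl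
    (allBelow_append (m := 20000) (len := 5000) (m' := 25000) rfl
    (allBelow_append (m := 15000) (len := 5000) (m' := 20000) rfl
    (allBelow_append (m := 10000) (len := 5000) (m' := 15000) rfl
    (allBelow_append (m := 5000) (len := 5000) (m' := 10000) rfl
    (allBelow_append (m := 0) (len := 5000) (m' := 5000) rfl
    (allBelow_nil (pairPt 28160 15 TI TI)) pair_i_p0) pair_i_p1) pair_i_p2) pair_i_p3) pair_i_p4) pair_i_p5

theorem pair_z_p0 : allRange (pairPt 28160 15 TZ TZ) 0 5000 = true := by decide +kernel
theorem pair_z_p1 : allRange (pairPt 28160 15 TZ TZ) 5000 5000 = true := by decide +kernel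
theorem pair_z_p2 : allRange (pairPt 28160 15 TZ TZ) 10000 5000 = true := by decide +kernel
theorem pair_z_p3 : allRange (pairPt 28160 15 TZ TZ) 15000 5000 = true := by decide +kernel
theorem pair_z_p4 : allRange (pairPt 28160 15 TZ TZ) 20000 5000 = true := by decide +kernel
theorem pair_z_p5 : allRange (pairPt 28160 15 TZ TZ) 25000 3160 = true := by decide +kernel

theorem pair_z : allBelow (pairPt 28160 15 TZ TZ) 28160 = true :=
  allBelow_append (m := 25000) (len := 3160) (m' := 28160) rfl
    (allBelow_append (m := 20000) (len := 5000) (m' := 25000) rfl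
    (allBelow_append (m := 15000) (len := 5000) (m' := 20000) rfl
    (allBelow_append (m := 10000) (len := 5000) (m' := 15000) rfl
    (allBelow_append (m := 5000) (len := 5000) (m' := 10000) rfl
    (allBelow_append (m := 0) (len := 5000) (m' := 5000) rfl
    (allBelow_nil (pairPt 28160 15 TZ TZ)) pair_z_p0) pair_z_p1) pair_z_p2) pair_z_p3) pair_z_p4) pair_z_p5

end Helper9M2

end Cfsg.Agent.Lib.Helper6.Fi22M
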