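import Cfsg.Agent.Lib.Helper15.WalkPieces
import Cfsg.Agent.Lib.Helper9.Fi22MM2Words

/-!
# S2053 piece [EX-2] (helper9 for helper6): the 28160-point model, table checks (the word rho1 acts trivially)

Each check runs over all points; it is cut into ranges of points (the kernel keeps the intermediate big numbers of an
evaluation until the end of the declaration) and glued by `allBelow_append`.
-/

set_option autoImplicit false
set_option maxRecDepth 100000
set_option Elab.async false

namespace Cfsg.Agent.Lib.Helper6.Fi22M

namespace Helper9M2

open Cfsg.Agent.Lib.Helper28.BSGS Cfsg.Agent.Lib.Helper15.Walk Cfsg.Agent.Lib.Helper22.SuzOut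

theorem rho1_id_p0 : allRange (wordIdPt 15 rho1T) 0 222 = true := by decide +kernel
theorem rho1_id_p1 : allRange (wordIdPt 15 rho1T) 222 222 = true := by decide +kernel
theorem rho1_id_p2 : allRange (wordIdPt 15 rho1T) 444 222 = true := by decide +kernel
theorem rho1_id_p3 : allRange (wordIdPt 15 rho1T) 666 222 = true := by decide +kernel
theorem rho1_id_p4 : allRange (wordIdPt 15 rho1T) 888 222 = true := by decide +kernel
theorem rho1_id_p5 : allRange (wordIdPt 15 rho1T) 1110 222 = true := by decide +kernel
theorem rho1_id_p6 : allRange (wordIdPt 15 rho1T) 1332 222 = true := by decide +kernel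
theorem rho1_id_p7 : allRange (wordIdPt 15 rho1T) 1554 222 = true := by decide +kernel
theorem rho1_id_p8 : allRange (wordIdPt 15 rho1T) 1776 222 = true := by decide +kernel
theorem rho1_id_p9 : allRange (wordIdPt 15 rho1T) 1998 222 = true := by decide +kernel
theorem rho1_id_p10 : allRange (wordIdPt 15 rho1T) 2220 222 = true := by decide +kernel
theorem rho1_id_p11 : allRange (wordIdPt 15 rho1T) 2442 222 = true := by decide +kernel
theorem rho1_id_p12 : allRange (wordIdPt 15 rho1T) 2664 222 = true := by decide +kernel
theorem rho1_id_p13 : allRange (wordIdPt 15 rho1T) 2886 222 = true := by decide +kernel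
theorem rho1_id_p14 : allRange (wordIdPt 15 rho1T) 3108 222 = true := by decide +kernel
theorem rho1_id_p15 : allRange (wordIdPt 15 rho1T) 3330 222 = true := by decide +kernel
theorem rho1_id_p16 : allRange (wordIdPt 15 rho1T) 3552 222 = true := by decide +kernel
theorem rho1_id_p17 : allRange (wordIdPt 15 rho1T) 3774 222 = true := by decide +kernel
theorem rho1_id_p18 : allRange (wordIdPt 15 rho1T) 3996 222 = true := by decide +kernel
theorem rho1_id_p19 : allRange (wordIdPt 15 rho1T) 4218 222 = true := by decide +kernel
theorem rho1_id_p20 : allRange (wordIdPt 15 rho1T) 4440 222 = true := by decide +kernel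
theorem rho1_id_p21 : allRange (wordIdPt 15 rho1T) 4662 222 = true := by decide +kernel
theorem rho1_id_p22 : allRange (wordIdPt 15 rho1T) 4884 222 = true := by decide +kernel
theorem rho1_id_p23 : allRange (wordIdPt 15 rho1T) 5106 222 = true := by decide +kernel
theorem rho1_id_p24 : allRange (wordIdPt 15 rho1T) 5328 222 = true := by decide +kernel
theorem rho1_id_p25 : allRange (wordIdPt 15 rho1T) 5550 222 = true := by decide +kernel
theorem rho1_id_p26 : allRange (wordIdPt 15 rho1T) 5772 222 = true := by decide +kernel
theorem rho1_id_p27 : allRange (wordIdPt 15 rho1T) 5994 222 = true := by decide +kernel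
theorem rho1_id_p28 : allRange (wordIdPt 15 rho1T) 6216 222 = true := by decide +kernel
theorem rho1_id_p29 : allRange (wordIdPt 15 rho1T) 6438 222 = true := by decide +kernel
theorem rho1_id_p30 : allRange (wordIdPt 15 rho1T) 6660 222 = true := by decide +kernel
theorem rho1_id_p31 : allRange (wordIdPt 15 rho1T) 6882 222 = true := by decide +kernel
theorem rho1_id_p32 : allRange (wordIdPt 15 rho1T) 7104 222 = true := by decide +kernel
theorem rho1_id_p33 : allRange (wordIdPt 15 rho1T) 7326 222 = true := by decide +kernel
theorem rho1_id_p34 : allRange (wordIdPt 15 rho1T) 7548 222 = true := by decide +kernel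
theorem rho1_id_p35 : allRange (wordIdPt 15 rho1T) 7770 222 = true := by decide +kernel
theorem rho1_id_p36 : allRange (wordIdPt 15 rho1T) 7992 222 = true := by decide +kernel
theorem rho1_id_p37 : allRange (wordIdPt 15 rho1T) 8214 222 = true := by decide +kernel
theorem rho1_id_p38 : allRange (wordIdPt 15 rho1T) 8436 222 = true := by decide +kernel
theorem rho1_id_p39 : allRange (wordIdPt 15 rho1T) 8658 222 = true := by decide +kernel
theorem rho1_id_p40 : allRange (wordIdPt 15 rho1T) 8880 222 = true := by decide +kernel
theorem rho1_id_p41 : allRange (wordIdPt 15 rho1T) 9102 222 = true := by decide +kernel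
theorem rho1_id_p42 : allRange (wordIdPt 15 rho1T) 9324 222 = true := by decide +kernel
theorem rho1_id_p43 : allRange (wordIdPt 15 rho1T) 9546 222 = true := by decide +kernel
theorem rho1_id_p44 : allRange (wordIdPt 15 rho1T) 9768 222 = true := by decide +kernel
theorem rho1_id_p45 : allRange (wordIdPt 15 rho1T) 9990 222 = true := by decide +kernel
theorem rho1_id_p46 : allRange (wordIdPt 15 rho1T) 10212 222 = true := by decide +kernel
theorem rho1_id_p47 : allRange (wordIdPt 15 rho1T) 10434 222 = true := by decide +kernel
theorem rho1_id_p48 : allRange (wordIdPt 15 rho1T) 10656 222 = true := by decide +kernel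
theorem rho1_id_p49 : allRange (wordIdPt 15 rho1T) 10878 222 = true := by decide +kernel
theorem rho1_id_p50 : allRange (wordIdPt 15 rho1T) 11100 222 = true := by decide +kernel
theorem rho1_id_p51 : allRange (wordIdPt 15 rho1T) 11322 222 = true := by decide +kernel
theorem rho1_id_p52 : allRange (wordIdPt 15 rho1T) 11544 222 = true := by decide +kernel
theorem rho1_id_p53 : allRange (wordIdPt 15 rho1T) 11766 222 = true := by decide +kernel
theorem rho1_id_p54 : allRange (wordIdPt 15 rho1T) 11988 222 = true := by decide +kernel
theorem rho1_id_p55 : allRange (wordIdPt 15 rho1T) 12210 222 = true := by decide +kernel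
theorem rho1_id_p56 : allRange (wordIdPt 15 rho1T) 12432 222 = true := by decide +kernel
theorem rho1_id_p57 : allRange (wordIdPt 15 rho1T) 12654 222 = true := by decide +kernel
theorem rho1_id_p58 : allRange (wordIdPt 15 rho1T) 12876 222 = true := by decide +kernel
theorem rho1_id_p59 : allRange (wordIdPt 15 rho1T) 13098 222 = true := by decide +kernel
theorem rho1_id_p60 : allRange (wordIdPt 15 rho1T) 13320 222 = true := by decide +kernel
theorem rho1_id_p61 : allRange (wordIdPt 15 rho1T) 13542 222 = true := by decide +kernel
theorem rho1_id_p62 : allRange (wordIdPt 15 rho1T) 13764 222 = true := by decide +kernel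
theorem rho1_id_p63 : allRange (wordIdPt 15 rho1T) 13986 222 = true := by decide +kernel
theorem rho1_id_p64 : allRange (wordIdPt 15 rho1T) 14208 222 = true := by decide +kernel
theorem rho1_id_p65 : allRange (wordIdPt 15 rho1T) 14430 222 = true := by decide +kernel
theorem rho1_id_p66 : allRange (wordIdPt 15 rho1T) 14652 222 = true := by decide +kernel
theorem rho1_id_p67 : allRange (wordIdPt 15 rho1T) 14874 222 = true := by decide +kernel
theorem rho1_id_p68 : allRange (wordIdPt 15 rho1T) 15096 222 = true := by decide +kernel
theorem rho1_id_p69 : allRange (wordIdPt 15 rho1T) 15318 222 = true := by decide +kernel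
theorem rho1_id_p70 : allRange (wordIdPt 15 rho1T) 15540 222 = true := by decide +kernel
theorem rho1_id_p71 : allRange (wordIdPt 15 rho1T) 15762 222 = true := by decide +kernel
theorem rho1_id_p72 : allRange (wordIdPt 15 rho1T) 15984 222 = true := by decide +kernel
theorem rho1_id_p73 : allRange (wordIdPt 15 rho1T) 16206 222 = true := by decide +kernel
theorem rho1_id_p74 : allRange (wordIdPt 15 rho1T) 16428 222 = true := by decide +kernel
theorem rho1_id_p75 : allRange (wordIdPt 15 rho1T) 16650 222 = true := by decide +kernel
theorem rho1_id_p76 : allRange (wordIdPt 15 rho1T) 16872 222 = true := by decide +kernel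
theorem rho1_id_p77 : allRange (wordIdPt 15 rho1T) 17094 222 = true := by decide +kernel
theorem rho1_id_p78 : allRange (wordIdPt 15 rho1T) 17316 222 = true := by decide +kernel
theorem rho1_id_p79 : allRange (wordIdPt 15 rho1T) 17538 222 = true := by decide +kernel
theorem rho1_id_p80 : allRange (wordIdPt 15 rho1T) 17760 222 = true := by decide +kernel
theorem rho1_id_p81 : allRange (wordIdPt 15 rho1T) 17982 222 = true := by decide +kernel
theorem rho1_id_p82 : allRange (wordIdPt 15 rho1T) 18204 222 = true := by decide +kernel
theorem rho1_id_p83 : allRange (wordIdPt 15 rho1T) 18426 222 = true := by decide +kernel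
theorem rho1_id_p84 : allRange (wordIdPt 15 rho1T) 18648 222 = true := by decide +kernel
theorem rho1_id_p85 : allRange (wordIdPt 15 rho1T) 18870 222 = true := by decide +kernel
theorem rho1_id_p86 : allRange (wordIdPt 15 rho1T) 19092 222 = true := by decide +kernel
theorem rho1_id_p87 : allRange (wordIdPt 15 rho1T) 19314 222 = true := by decide +kernel
theorem rho1_id_p88 : allRange (wordIdPt 15 rho1T) 19536 222 = true := by decide +kernel
theorem rho1_id_p89 : allRange (wordIdPt 15 rho1T) 19758 222 = true := by decide +kernel
theorem rho1_id_p90 : allRange (wordIdPt 15 rho1T) 19980 222 = true := by decide +kernel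
theorem rho1_id_p91 : allRange (wordIdPt 15 rho1T) 20202 222 = true := by decide +kernel
theorem rho1_id_p92 : allRange (wordIdPt 15 rho1T) 20424 222 = true := by decide +kernel
theorem rho1_id_p93 : allRange (wordIdPt 15 rho1T) 20646 222 = true := by decide +kernel
theorem rho1_id_p94 : allRange (wordIdPt 15 rho1T) 20868 222 = true := by decide +kernel
theorem rho1_id_p95 : allRange (wordIdPt 15 rho1T) 21090 222 = true := by decide +kernel
theorem rho1_id_p96 : allRange (wordIdPt 15 rho1T) 21312 222 = true := by decide +kernel
theorem rho1_id_p97 : allRange (wordIdPt 15 rho1T) 21534 222 = true := by decide +kernel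
theorem rho1_id_p98 : allRange (wordIdPt 15 rho1T) 21756 222 = true := by decide +kernel
theorem rho1_id_p99 : allRange (wordIdPt 15 rho1T) 21978 222 = true := by decide +kernel
theorem rho1_id_p100 : allRange (wordIdPt 15 rho1T) 22200 222 = true := by decide +kernel
theorem rho1_id_p101 : allRange (wordIdPt 15 rho1T) 22422 222 = true := by decide +kernel
theorem rho1_id_p102 : allRange (wordIdPt 15 rho1T) 22644 222 = true := by decide +kernel
theorem rho1_id_p103 : allRange (wordIdPt 15 rho1T) 22866 222 = true := by decide +kernel
theorem rho1_id_p104 : allRange (wordIdPt 15 rho1T) 23088 222 = true := by decide +kernel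
theorem rho1_id_p105 : allRange (wordIdPt 15 rho1T) 23310 222 = true := by decide +kernel
theorem rho1_id_p106 : allRange (wordIdPt 15 rho1T) 23532 222 = true := by decide +kernel
theorem rho1_id_p107 : allRange (wordIdPt 15 rho1T) 23754 222 = true := by decide +kernel
theorem rho1_id_p108 : allRange (wordIdPt 15 rho1T) 23976 222 = true := by decide +kernel
theorem rho1_id_p109 : allRange (wordIdPt 15 rho1T) 24198 222 = true := by decide +kernel
theorem rho1_id_p110 : allRange (wordIdPt 15 rho1T) 24420 222 = true := by decide +kernel
theorem rho1_id_p111 : allRange (wordIdPt 15 rho1T) 24642 222 = true := by decide +kernel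
theorem rho1_id_p112 : allRange (wordIdPt 15 rho1T) 24864 222 = true := by decide +kernel
theorem rho1_id_p113 : allRange (wordIdPt 15 rho1T) 25086 222 = true := by decide +kernel
theorem rho1_id_p114 : allRange (wordIdPt 15 rho1T) 25308 222 = true := by decide +kernel
theorem rho1_id_p115 : allRange (wordIdPt 15 rho1T) 25530 222 = true := by decide +kernel
theorem rho1_id_p116 : allRange (wordIdPt 15 rho1T) 25752 222 = true := by decide +kernel
theorem rho1_id_p117 : allRange (wordIdPt 15 rho1T) 25974 222 = true := by decide +kernel
theorem rho1_id_p118 : allRange (wordIdPt 15 rho1T) 26196 222 = true := by decide +kernel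
theorem rho1_id_p119 : allRange (wordIdPt 15 rho1T) 26418 222 = true := by decide +kernel
theorem rho1_id_p120 : allRange (wordIdPt 15 rho1T) 26640 222 = true := by decide +kernel
theorem rho1_id_p121 : allRange (wordIdPt 15 rho1T) 26862 222 = true := by decide +kernel
theorem rho1_id_p122 : allRange (wordIdPt 15 rho1T) 27084 222 = true := by decide +kernel
theorem rho1_id_p123 : allRange (wordIdPt 15 rho1T) 27306 222 = true := by decide +kernel
theorem rho1_id_p124 : allRange (wordIdPt 15 rho1T) 27528 222 = true := by decide +kernel
theorem rho1_id_p125 : allRange (wordIdPt 15 rho1T) 27750 222 = true := by decide +kernel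
theorem rho1_id_p126 : allRange (wordIdPt 15 rho1T) 27972 188 = true := by decide +kernel

theorem rho1_id : allBelow (wordIdPt 15 rho1T) 28160 = true :=
  allBelow_append (m := 27972) (len := 188) (m' := 28160) rfl
    (allBelow_append (m := 27750) (len := 222) (m' := 27972) rfl
    (allBelow_append (m := 27528) (len := 222) (m' := 27750) rfl
    (allBelow_append (m := 27306) (len := 222) (m' := 27528) rfl
    (allBelow_append (m := 27084) (len := 222) (m' := 27306) rfl
    (allBelow_append (m := 26862) (len := 222) (m' := 27084) rfl
    (allBelow_append (m := 26640) (len := 222) (m' := 26862) rfl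
    (allBelow_append (m := 26418) (len := 222) (m' := 26640) rfl
    (allBelow_append (m := 26196) (len := 222) (m' := 26418) rfl
    (allBelow_append (m := 25974) (len := 222) (m' := 26196) rfl
    (allBelow_append (m := 25752) (len := 222) (m' := 25974) rfl
    (allBelow_append (m := 25530) (len := 222) (m' := 25752) rfl
    (allBelow_append (m := 25308) (len := 222) (m' := 25530) rfl
    (allBelow_append (m := 25086) (len := 222) (m' := 25308) rfl
    (allBelow_append (m := 24864) (len := 222) (m' := 25086) rfl
    (allBelow_append (m := 24642) (len := 222) (m' := 24864) rfl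
    (allBelow_append (m := 24420) (len := 222) (m' := 24642) rfl
    (allBelow_append (m := 24198) (len := 222) (m' := 24420) rfl
    (allBelow_append (m := 23976) (len := 222) (m' := 24198) rfl
    (allBelow_append (m := 23754) (len := 222) (m' := 23976) rfl
    (allBelow_append (m := 23532) (len := 222) (m' := 23754) rfl
    (allBelow_append (m := 23310) (len := 222) (m' := 23532) rfl
    (allBelow_append (m := 23088) (len := 222) (m' := 23310) rfl
    (allBelow_append (m := 22866) (len := 222) (m' := 23088) rfl
    (allBelow_append (m := 22644) (len := 222) (m' := 22866) rfl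
    (allBelow_append (m := 22422) (len := 222) (m' := 22644) rfl
    (allBelow_append (m := 22200) (len := 222) (m' := 22422) rfl
    (allBelow_append (m := 21978) (len := 222) (m' := 22200) rfl
    (allBelow_append (m := 21756) (len := 222) (m' := 21978) rfl
    (allBelow_append (m := 21534) (len := 222) (m' := 21756) rfl
    (allBelow_append (m := 21312) (len := 222) (m' := 21534) rfl
    (allBelow_append (m := 21090) (len := 222) (m' := 21312) rfl
    (allBelow_append (m := 20868) (len := 222) (m' := 21090) rfl
    (allBelow_append (m := 20646) (len := 222) (m' := 20868) rfl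
    (allBelow_append (m := 20424) (len := 222) (m' := 20646) rfl
    (allBelow_append (m := 20202) (len := 222) (m' := 20424) rfl
    (allBelow_append (m := 19980) (len := 222) (m' := 20202) rfl
    (allBelow_append (m := 19758) (len := 222) (m' := 19980) rfl
    (allBelow_append (m := 19536) (len := 222) (m' := 19758) rfl
    (allBelow_append (m := 19314) (len := 222) (m' := 19536) rfl
    (allBelow_append (m := 19092) (len := 222) (m' := 19314) rfl
    (allBelow_append (m := 18870) (len := 222) (m' := 19092) rfl
    (allBelow_append (m := 18648) (len := 222) (m' := 18870) rfl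
    (allBelow_append (m := 18426) (len := 222) (m' := 18648) rfl
    (allBelow_append (m := 18204) (len := 222) (m' := 18426) rfl
    (allBelow_append (m := 17982) (len := 222) (m' := 18204) rfl
    (allBelow_append (m := 17760) (len := 222) (m' := 17982) rfl
    (allBelow_append (m := 17538) (len := 222) (m' := 17760) rfl
    (allBelow_append (m := 17316) (len := 222) (m' := 17538) rfl
    (allBelow_append (m := 17094) (len := 222) (m' := 17316) rfl
    (allBelow_append (m := 16872) (len := 222) (m' := 17094) rfl
    (allBelow_append (m := 16650) (len := 222) (m' := 16872) rfl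
    (allBelow_append (m := 16428) (len := 222) (m' := 16650) rfl
    (allBelow_append (m := 16206) (len := 222) (m' := 16428) rfl
    (allBelow_append (m := 15984) (len := 222) (m' := 16206) rfl
    (allBelow_append (m := 15762) (len := 222) (m' := 15984) rfl
    (allBelow_append (m := 15540) (len := 222) (m' := 15762) rfl
    (allBelow_append (m := 15318) (len := 222) (m' := 15540) rfl
    (allBelow_append (m := 15096) (len := 222) (m' := 15318) rfl
    (allBelow_append (m := 14874) (len := 222) (m' := 15096) rfl
    (allBelow_append (m := 14652) (len := 222) (m' := 14874) rfl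
    (allBelow_append (m := 14430) (len := 222) (m' := 14652) rfl
    (allBelow_append (m := 14208) (len := 222) (m' := 14430) rfl
    (allBelow_append (m := 13986) (len := 222) (m' := 14208) rfl
    (allBelow_append (m := 13764) (len := 222) (m' := 13986) rfl
    (allBelow_append (m := 13542) (len := 222) (m' := 13764) rfl
    (allBelow_append (m := 13320) (len := 222) (m' := 13542) rfl
    (allBelow_append (m := 13098) (len := 222) (m' := 13320) rfl
    (allBelow_append (m := 12876) (len := 222) (m' := 13098) rfl
    (allBelow_append (m := 12654) (len := 222) (m' := 12876) rfl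
    (allBelow_append (m := 12432) (len := 222) (m' := 12654) rfl
    (allBelow_append (m := 12210) (len := 222) (m' := 12432) rfl
    (allBelow_append (m := 11988) (len := 222) (m' := 12210) rfl
    (allBelow_append (m := 11766) (len := 222) (m' := 11988) rfl
    (allBelow_append (m := 11544) (len := 222) (m' := 11766) rfl
    (allBelow_append (m := 11322) (len := 222) (m' := 11544) rfl
    (allBelow_append (m := 11100) (len := 222) (m' := 11322) rfl
    (allBelow_append (m := 10878) (len := 222) (m' := 11100) rfl
    (allBelow_append (m := 10656) (len := 222) (m' := 10878) rfl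
    (allBelow_append (m := 10434) (len := 222) (m' := 10656) rfl
    (allBelow_append (m := 10212) (len := 222) (m' := 10434) rfl
    (allBelow_append (m := 9990) (len := 222) (m' := 10212) rfl
    (allBelow_append (m := 9768) (len := 222) (m' := 9990) rfl
    (allBelow_append (m := 9546) (len := 222) (m' := 9768) rfl
    (allBelow_append (m := 9324) (len := 222) (m' := 9546) rfl
    (allBelow_append (m := 9102) (len := 222) (m' := 9324) rfl
    (allBelow_append (m := 8880) (len := 222) (m' := 9102) rfl
    (allBelow_append (m := 8658) (len := 222) (m' := 8880) rfl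
    (allBelow_append (m := 8436) (len := 222) (m' := 8658) rfl
    (allBelow_append (m := 8214) (len := 222) (m' := 8436) rfl
    (allBelow_append (m := 7992) (len := 222) (m' := 8214) rfl
    (allBelow_append (m := 7770) (len := 222) (m' := 7992) rfl
    (allBelow_append (m := 7548) (len := 222) (m' := 7770) rfl
    (allBelow_append (m := 7326) (len := 222) (m' := 7548) rfl
    (allBelow_append (m := 7104) (len := 222) (m' := 7326) rfl
    (allBelow_append (m := 6882) (len := 222) (m' := 7104) rfl
    (allBelow_append (m := 6660) (len := 222) (m' := 6882) rfl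
    (allBelow_append (m := 6438) (len := 222) (m' := 6660) rfl
    (allBelow_append (m := 6216) (len := 222) (m' := 6438) rfl
    (allBelow_append (m := 5994) (len := 222) (m' := 6216) rfl
    (allBelow_append (m := 5772) (len := 222) (m' := 5994) rfl
    (allBelow_append (m := 5550) (len := 222) (m' := 5772) rfl
    (allBelow_append (m := 5328) (len := 222) (m' := 5550) rfl
    (allBelow_append (m := 5106) (len := 222) (m' := 5328) rfl
    (allBelow_append (m := 4884) (len := 222) (m' := 5106) rfl
    (allBelow_append (m := 4662) (len := 222) (m' := 4884) rfl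
    (allBelow_append (m := 4440) (len := 222) (m' := 4662) rfl
    (allBelow_append (m := 4218) (len := 222) (m' := 4440) rfl
    (allBelow_append (m := 3996) (len := 222) (m' := 4218) rfl
    (allBelow_append (m := 3774) (len := 222) (m' := 3996) rfl
    (allBelow_append (m := 3552) (len := 222) (m' := 3774) rfl
    (allBelow_append (m := 3330) (len := 222) (m' := 3552) rfl
    (allBelow_append (m := 3108) (len := 222) (m' := 3330) rfl
    (allBelow_append (m := 2886) (len := 222) (m' := 3108) rfl
    (allBelow_append (m := 2664) (len := 222) (m' := 2886) rfl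
    (allBelow_append (m := 2442) (len := 222) (m' := 2664) rfl
    (allBelow_append (m := 2220) (len := 222) (m' := 2442) rfl
    (allBelow_append (m := 1998) (len := 222) (m' := 2220) rfl
    (allBelow_append (m := 1776) (len := 222) (m' := 1998) rfl
    (allBelow_append (m := 1554) (len := 222) (m' := 1776) rfl
    (allBelow_append (m := 1332) (len := 222) (m' := 1554) rfl
    (allBelow_append (m := 1110) (len := 222) (m' := 1332) rfl
    (allBelow_append (m := 888) (len := 222) (m' := 1110) rfl
    (allBelow_append (m := 666) (len := 222) (m' := 888) rfl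
    (allBelow_append (m := 444) (len := 222) (m' := 666) rfl
    (allBelow_append (m := 222) (len := 222) (m' := 444) rfl
    (allBelow_append (m := 0) (len := 222) (m' := 222) rfl
    (allBelow_nil (wordIdPt 15 rho1T)) rho1_id_p0) rho1_id_p1) rho1_id_p2) rho1_id_p3) rho1_id_p4) rho1_id_p5) rho1_id_p6) rho1_id_p7) rho1_id_p8) rho1_id_p9) rho1_id_p10) rho1_id_p11) rho1_id_p12) rho1_id_p13) rho1_id_p14) rho1_id_p15) rho1_id_p16) rho1_id_p17) rho1_id_p18) rho1_id_p19) rho1_id_p20) rho1_id_p21) rho1_id_p22) rho1_id_p23) rho1_id_p24) rho1_id_p25) rho1_id_p26) rho1_id_p27) rho1_id_p28) rho1_id_p29) rho1_id_p30) rho1_id_p31) rho1_id_p32) rho1_id_p33) rho1_id_p34) rho1_id_p35) rho1_id_p36) rho1_id_p37) rho1_id_p38) rho1_id_p39) rho1_id_p40) rho1_id_p41) rho1_id_p42) rho1_id_p43) rho1_id_p44) rho1_id_p45) rho1_id_p46) rho1_id_p47) rho1_id_p48) rho1_id_p49) rho1_id_p50) rho1_id_p51) rho1_id_p52) rho1_id_p53) rho1_id_p54) rho1_id_p55) rho1_id_p56) rho1_id_p57) rho1_id_p58) rho1_id_p59) rho1_id_p60) rho1_id_p61) rho1_id_p62) rho1_id_p63) rho1_id_p64) rho1_id_p65) rho1_id_p66) rho1_id_p67) rho1_id_p68) rho1_id_p69)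 rho1_id_p70) rho1_id_p71) rho1_id_p72) rho1_id_p73) rho1_id_p74) rho1_id_p75) rho1_id_p76) rho1_id_p77) rho1_id_p78) rho1_id_p79) rho1_id_p80) rho1_id_p81) rho1_id_p82) rho1_id_p83) rho1_id_p84) rho1_id_p85) rho1_id_p86) rho1_id_p87) rho1_id_p88) rho1_id_p89) rho1_id_p90) rho1_id_p91) rho1_id_p92) rho1_id_p93) rho1_id_p94) rho1_id_p95) rho1_id_p96) rho1_id_p97) rho1_id_p98) rho1_id_p99) rho1_id_p100) rho1_id_p101) rho1_id_p102) rho1_id_p103) rho1_id_p104) rho1_id_p105) rho1_id_p106) rho1_id_p107) rho1_id_p108) rho1_id_p109) rho1_id_p110) rho1_id_p111) rho1_id_p112) rho1_id_p113) rho1_id_p114) rho1_id_p115) rho1_id_p116) rho1_id_p117) rho1_id_p118) rho1_id_p119) rho1_id_p120) rho1_id_p121) rho1_id_p122) rho1_id_p123) rho1_id_p124) rho1_id_p125) rho1_id_p126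

end Helper9M2

end Cfsg.Agent.Lib.Helper6.Fi22M
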