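import Cfsg.Agent.Lib.Helper15.WalkPieces
import Cfsg.Agent.Lib.Helper9.Fi22MM2Words

/-!
# S2053 piece [EX-2] (helper9 for helper6): the 28160-point model, table checks (the word rho2 acts trivially)

Each check runs over all points; it is cut into ranges of points (the kernel keeps the intermediate big numbers of an
evaluation until the end of the declaration) and glued by `allBelow_append`.
-/

set_option autoImplicit false
set_option maxRecDepth 100000
set_option Elab.async false

namespace Cfsg.Agent.Lib.Helper6.Fi22M

namespace Helper9M2

open Cfsg.Agent.Lib.Helper28.BSGS Cfsg.Agent.Lib.Helper15.Walk Cfsg.Agent.Lib.Helper22.SuzOut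

theorem rho2_id_p0 : allRange (wordIdPt 15 rho2T) 0 317 = true := by decide +kernel
theorem rho2_id_p1 : allRange (wordIdPt 15 rho2T) 317 317 = true := by decide +kernel
theorem rho2_id_p2 : allRange (wordIdPt 15 rho2T) 634 317 = true := by decide +kernel
theorem rho2_id_p3 : allRange (wordIdPt 15 rho2T) 951 317 = true := by decide +kernel
theorem rho2_id_p4 : allRange (wordIdPt 15 rho2T) 1268 317 = true := by decide +kernel
theorem rho2_id_p5 : allRange (wordIdPt 15 rho2T) 1585 317 = true := by decide +kernel
theorem rho2_id_p6 : allRange (wordIdPt 15 rho2T) 1902 317 = true := by decide +kernel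
theorem rho2_id_p7 : allRange (wordIdPt 15 rho2T) 2219 317 = true := by decide +kernel
theorem rho2_id_p8 : allRange (wordIdPt 15 rho2T) 2536 317 = true := by decide +kernel
theorem rho2_id_p9 : allRange (wordIdPt 15 rho2T) 2853 317 = true := by decide +kernel
theorem rho2_id_p10 : allRange (wordIdPt 15 rho2T) 3170 317 = true := by decide +kernel
theorem rho2_id_p11 : allRange (wordIdPt 15 rho2T) 3487 317 = true := by decide +kernel
theorem rho2_id_p12 : allRange (wordIdPt 15 rho2T) 3804 317 = true := by decide +kernel
theorem rho2_id_p13 : allRange (wordIdPt 15 rho2T) 4121 317 = true := by decide +kernel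
theorem rho2_id_p14 : allRange (wordIdPt 15 rho2T) 4438 317 = true := by decide +kernel
theorem rho2_id_p15 : allRange (wordIdPt 15 rho2T) 4755 317 = true := by decide +kernel
theorem rho2_id_p16 : allRange (wordIdPt 15 rho2T) 5072 317 = true := by decide +kernel
theorem rho2_id_p17 : allRange (wordIdPt 15 rho2T) 5389 317 = true := by decide +kernel
theorem rho2_id_p18 : allRange (wordIdPt 15 rho2T) 5706 317 = true := by decide +kernel
theorem rho2_id_p19 : allRange (wordIdPt 15 rho2T) 6023 317 = true := by decide +kernel
theorem rho2_id_p20 : allRange (wordIdPt 15 rho2T) 6340 317 = true := by decide +kernel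
theorem rho2_id_p21 : allRange (wordIdPt 15 rho2T) 6657 317 = true := by decide +kernel
theorem rho2_id_p22 : allRange (wordIdPt 15 rho2T) 6974 317 = true := by decide +kernel
theorem rho2_id_p23 : allRange (wordIdPt 15 rho2T) 7291 317 = true := by decide +kernel
theorem rho2_id_p24 : allRange (wordIdPt 15 rho2T) 7608 317 = true := by decide +kernel
theorem rho2_id_p25 : allRange (wordIdPt 15 rho2T) 7925 317 = true := by decide +kernel
theorem rho2_id_p26 : allRange (wordIdPt 15 rho2T) 8242 317 = true := by decide +kernel
theorem rho2_id_p27 : allRange (wordIdPt 15 rho2T) 8559 317 = true := by decide +kernel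
theorem rho2_id_p28 : allRange (wordIdPt 15 rho2T) 8876 317 = true := by decide +kernel
theorem rho2_id_p29 : allRange (wordIdPt 15 rho2T) 9193 317 = true := by decide +kernel
theorem rho2_id_p30 : allRange (wordIdPt 15 rho2T) 9510 317 = true := by decide +kernel
theorem rho2_id_p31 : allRange (wordIdPt 15 rho2T) 9827 317 = true := by decide +kernel
theorem rho2_id_p32 : allRange (wordIdPt 15 rho2T) 10144 317 = true := by decide +kernel
theorem rho2_id_p33 : allRange (wordIdPt 15 rho2T) 10461 317 = true := by decide +kernel
theorem rho2_id_p34 : allRange (wordIdPt 15 rho2T) 10778 317 = true := by decide +kernel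
theorem rho2_id_p35 : allRange (wordIdPt 15 rho2T) 11095 317 = true := by decide +kernel
theorem rho2_id_p36 : allRange (wordIdPt 15 rho2T) 11412 317 = true := by decide +kernel
theorem rho2_id_p37 : allRange (wordIdPt 15 rho2T) 11729 317 = true := by decide +kernel
theorem rho2_id_p38 : allRange (wordIdPt 15 rho2T) 12046 317 = true := by decide +kernel
theorem rho2_id_p39 : allRange (wordIdPt 15 rho2T) 12363 317 = true := by decide +kernel
theorem rho2_id_p40 : allRange (wordIdPt 15 rho2T) 12680 317 = true := by decide +kernel
theorem rho2_id_p41 : allRange (wordIdPt 15 rho2T) 12997 317 = true := by decide +kernel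
theorem rho2_id_p42 : allRange (wordIdPt 15 rho2T) 13314 317 = true := by decide +kernel
theorem rho2_id_p43 : allRange (wordIdPt 15 rho2T) 13631 317 = true := by decide +kernel
theorem rho2_id_p44 : allRange (wordIdPt 15 rho2T) 13948 317 = true := by decide +kernel
theorem rho2_id_p45 : allRange (wordIdPt 15 rho2T) 14265 317 = true := by decide +kernel
theorem rho2_id_p46 : allRange (wordIdPt 15 rho2T) 14582 317 = true := by decide +kernel
theorem rho2_id_p47 : allRange (wordIdPt 15 rho2T) 14899 317 = true := by decide +kernel
theorem rho2_id_p48 : allRange (wordIdPt 15 rho2T) 15216 317 = true := by decide +kernel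
theorem rho2_id_p49 : allRange (wordIdPt 15 rho2T) 15533 317 = true := by decide +kernel
theorem rho2_id_p50 : allRange (wordIdPt 15 rho2T) 15850 317 = true := by decide +kernel
theorem rho2_id_p51 : allRange (wordIdPt 15 rho2T) 16167 317 = true := by decide +kernel
theorem rho2_id_p52 : allRange (wordIdPt 15 rho2T) 16484 317 = true := by decide +kernel
theorem rho2_id_p53 : allRange (wordIdPt 15 rho2T) 16801 317 = true := by decide +kernel
theorem rho2_id_p54 : allRange (wordIdPt 15 rho2T) 17118 317 = true := by decide +kernel
theorem rho2_id_p55 : allRange (wordIdPt 15 rho2T) 17435 317 = true := by decide +kernel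
theorem rho2_id_p56 : allRange (wordIdPt 15 rho2T) 17752 317 = true := by decide +kernel
theorem rho2_id_p57 : allRange (wordIdPt 15 rho2T) 18069 317 = true := by decide +kernel
theorem rho2_id_p58 : allRange (wordIdPt 15 rho2T) 18386 317 = true := by decide +kernel
theorem rho2_id_p59 : allRange (wordIdPt 15 rho2T) 18703 317 = true := by decide +kernel
theorem rho2_id_p60 : allRange (wordIdPt 15 rho2T) 19020 317 = true := by decide +kernel
theorem rho2_id_p61 : allRange (wordIdPt 15 rho2T) 19337 317 = true := by decide +kernel
theorem rho2_id_p62 : allRange (wordIdPt 15 rho2T) 19654 317 = true := by decide +kernel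
theorem rho2_id_p63 : allRange (wordIdPt 15 rho2T) 19971 317 = true := by decide +kernel
theorem rho2_id_p64 : allRange (wordIdPt 15 rho2T) 20288 317 = true := by decide +kernel
theorem rho2_id_p65 : allRange (wordIdPt 15 rho2T) 20605 317 = true := by decide +kernel
theorem rho2_id_p66 : allRange (wordIdPt 15 rho2T) 20922 317 = true := by decide +kernel
theorem rho2_id_p67 : allRange (wordIdPt 15 rho2T) 21239 317 = true := by decide +kernel
theorem rho2_id_p68 : allRange (wordIdPt 15 rho2T) 21556 317 = true := by decide +kernel
theorem rho2_id_p69 : allRange (wordIdPt 15 rho2T) 21873 317 = true := by decide +kernel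
theorem rho2_id_p70 : allRange (wordIdPt 15 rho2T) 22190 317 = true := by decide +kernel
theorem rho2_id_p71 : allRange (wordIdPt 15 rho2T) 22507 317 = true := by decide +kernel
theorem rho2_id_p72 : allRange (wordIdPt 15 rho2T) 22824 317 = true := by decide +kernel
theorem rho2_id_p73 : allRange (wordIdPt 15 rho2T) 23141 317 = true := by decide +kernel
theorem rho2_id_p74 : allRange (wordIdPt 15 rho2T) 23458 317 = true := by decide +kernel
theorem rho2_id_p75 : allRange (wordIdPt 15 rho2T) 23775 317 = true := by decide +kernel
theorem rho2_id_p76 : allRange (wordIdPt 15 rho2T) 24092 317 = true := by decide +kernel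
theorem rho2_id_p77 : allRange (wordIdPt 15 rho2T) 24409 317 = true := by decide +kernel
theorem rho2_id_p78 : allRange (wordIdPt 15 rho2T) 24726 317 = true := by decide +kernel
theorem rho2_id_p79 : allRange (wordIdPt 15 rho2T) 25043 317 = true := by decide +kernel
theorem rho2_id_p80 : allRange (wordIdPt 15 rho2T) 25360 317 = true := by decide +kernel
theorem rho2_id_p81 : allRange (wordIdPt 15 rho2T) 25677 317 = true := by decide +kernel
theorem rho2_id_p82 : allRange (wordIdPt 15 rho2T) 25994 317 = true := by decide +kernel
theorem rho2_id_p83 : allRange (wordIdPt 15 rho2T) 26311 317 = true := by decide +kernel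
theorem rho2_id_p84 : allRange (wordIdPt 15 rho2T) 26628 317 = true := by decide +kernel
theorem rho2_id_p85 : allRange (wordIdPt 15 rho2T) 26945 317 = true := by decide +kernel
theorem rho2_id_p86 : allRange (wordIdPt 15 rho2T) 27262 317 = true := by decide +kernel
theorem rho2_id_p87 : allRange (wordIdPt 15 rho2T) 27579 317 = true := by decide +kernel
theorem rho2_id_p88 : allRange (wordIdPt 15 rho2T) 27896 264 = true := by decide +kernel

theorem rho2_id : allBelow (wordIdPt 15 rho2T) 28160 = true :=
  allBelow_append (m := 27896) (len := 264) (m' := 28160) rfl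
    (allBelow_append (m := 27579) (len := 317) (m' := 27896) rfl
    (allBelow_append (m := 27262) (len := 317) (m' := 27579) rfl
    (allBelow_append (m := 26945) (len := 317) (m' := 27262) rfl
    (allBelow_append (m := 26628) (len := 317) (m' := 26945) rfl
    (allBelow_append (m := 26311) (len := 317) (m' := 26628) rfl
    (allBelow_append (m := 25994) (len := 317) (m' := 26311) rfl
    (allBelow_append (m := 25677) (len := 317) (m' := 25994) rfl
    (allBelow_append (m := 25360) (len := 317) (m' := 25677) rfl
    (allBelow_append (m := 25043) (len := 317) (m' := 25360) rfl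
    (allBelow_append (m := 24726) (len := 317) (m' := 25043) rfl
    (allBelow_append (m := 24409) (len := 317) (m' := 24726) rfl
    (allBelow_append (m := 24092) (len := 317) (m' := 24409) rfl
    (allBelow_append (m := 23775) (len := 317) (m' := 24092) rfl
    (allBelow_append (m := 23458) (len := 317) (m' := 23775) rfl
    (allBelow_append (m := 23141) (len := 317) (m' := 23458) rfl
    (allBelow_append (m := 22824) (len := 317) (m' := 23141) rfl
    (allBelow_append (m := 22507) (len := 317) (m' := 22824) rfl
    (allBelow_append (m := 22190) (len := 317) (m' := 22507) rfl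
    (allBelow_append (m := 21873) (len := 317) (m' := 22190) rfl
    (allBelow_append (m := 21556) (len := 317) (m' := 21873) rfl
    (allBelow_append (m := 21239) (len := 317) (m' := 21556) rfl
    (allBelow_append (m := 20922) (len := 317) (m' := 21239) rfl
    (allBelow_append (m := 20605) (len := 317) (m' := 20922) rfl
    (allBelow_append (m := 20288) (len := 317) (m' := 20605) rfl
    (allBelow_append (m := 19971) (len := 317) (m' := 20288) rfl
    (allBelow_append (m := 19654) (len := 317) (m' := 19971) rfl
    (allBelow_append (m := 19337) (len := 317) (m' := 19654) rfl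
    (allBelow_append (m := 19020) (len := 317) (m' := 19337) rfl
    (allBelow_append (m := 18703) (len := 317) (m' := 19020) rfl
    (allBelow_append (m := 18386) (len := 317) (m' := 18703) rfl
    (allBelow_append (m := 18069) (len := 317) (m' := 18386) rfl
    (allBelow_append (m := 17752) (len := 317) (m' := 18069) rfl
    (allBelow_append (m := 17435) (len := 317) (m' := 17752) rfl
    (allBelow_append (m := 17118) (len := 317) (m' := 17435) rfl
    (allBelow_append (m := 16801) (len := 317) (m' := 17118) rfl
    (allBelow_append (m := 16484) (len := 317) (m' := 16801) rfl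
    (allBelow_append (m := 16167) (len := 317) (m' := 16484) rfl
    (allBelow_append (m := 15850) (len := 317) (m' := 16167) rfl
    (allBelow_append (m := 15533) (len := 317) (m' := 15850) rfl
    (allBelow_append (m := 15216) (len := 317) (m' := 15533) rfl
    (allBelow_append (m := 14899) (len := 317) (m' := 15216) rfl
    (allBelow_append (m := 14582) (len := 317) (m' := 14899) rfl
    (allBelow_append (m := 14265) (len := 317) (m' := 14582) rfl
    (allBelow_append (m := 13948) (len := 317) (m' := 14265) rfl
    (allBelow_append (m := 13631) (len := 317) (m' := 13948) rfl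
    (allBelow_append (m := 13314) (len := 317) (m' := 13631) rfl
    (allBelow_append (m := 12997) (len := 317) (m' := 13314) rfl
    (allBelow_append (m := 12680) (len := 317) (m' := 12997) rfl
    (allBelow_append (m := 12363) (len := 317) (m' := 12680) rfl
    (allBelow_append (m := 12046) (len := 317) (m' := 12363) rfl
    (allBelow_append (m := 11729) (len := 317) (m' := 12046) rfl
    (allBelow_append (m := 11412) (len := 317) (m' := 11729) rfl
    (allBelow_append (m := 11095) (len := 317) (m' := 11412) rfl
    (allBelow_append (m := 10778) (len := 317) (m' := 11095) rfl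
    (allBelow_append (m := 10461) (len := 317) (m' := 10778) rfl
    (allBelow_append (m := 10144) (len := 317) (m' := 10461) rfl
    (allBelow_append (m := 9827) (len := 317) (m' := 10144) rfl
    (allBelow_append (m := 9510) (len := 317) (m' := 9827) rfl
    (allBelow_append (m := 9193) (len := 317) (m' := 9510) rfl
    (allBelow_append (m := 8876) (len := 317) (m' := 9193) rfl
    (allBelow_append (m := 8559) (len := 317) (m' := 8876) rfl
    (allBelow_append (m := 8242) (len := 317) (m' := 8559) rfl
    (allBelow_append (m := 7925) (len := 317) (m' := 8242) rfl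
    (allBelow_append (m := 7608) (len := 317) (m' := 7925) rfl
    (allBelow_append (m := 7291) (len := 317) (m' := 7608) rfl
    (allBelow_append (m := 6974) (len := 317) (m' := 7291) rfl
    (allBelow_append (m := 6657) (len := 317) (m' := 6974) rfl
    (allBelow_append (m := 6340) (len := 317) (m' := 6657) rfl
    (allBelow_append (m := 6023) (len := 317) (m' := 6340) rfl
    (allBelow_append (m := 5706) (len := 317) (m' := 6023) rfl
    (allBelow_append (m := 5389) (len := 317) (m' := 5706) rfl
    (allBelow_append (m := 5072) (len := 317) (m' := 5389) rfl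
    (allBelow_append (m := 4755) (len := 317) (m' := 5072) rfl
    (allBelow_append (m := 4438) (len := 317) (m' := 4755) rfl
    (allBelow_append (m := 4121) (len := 317) (m' := 4438) rfl
    (allBelow_append (m := 3804) (len := 317) (m' := 4121) rfl
    (allBelow_append (m := 3487) (len := 317) (m' := 3804) rfl
    (allBelow_append (m := 3170) (len := 317) (m' := 3487) rfl
    (allBelow_append (m := 2853) (len := 317) (m' := 3170) rfl
    (allBelow_append (m := 2536) (len := 317) (m' := 2853) rfl
    (allBelow_append (m := 2219) (len := 317) (m' := 2536) rfl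
    (allBelow_append (m := 1902) (len := 317) (m' := 2219) rfl
    (allBelow_append (m := 1585) (len := 317) (m' := 1902) rfl
    (allBelow_append (m := 1268) (len := 317) (m' := 1585) rfl
    (allBelow_append (m := 951) (len := 317) (m' := 1268) rfl
    (allBelow_append (m := 634) (len := 317) (m' := 951) rfl
    (allBelow_append (m := 317) (len := 317) (m' := 634) rfl
    (allBelow_append (m := 0) (len := 317) (m' := 317) rfl
    (allBelow_nil (wordIdPt 15 rho2T)) rho2_id_p0) rho2_id_p1) rho2_id_p2) rho2_id_p3) rho2_id_p4) rho2_id_p5) rho2_id_p6) rho2_id_p7) rho2_id_p8) rho2_id_p9) rho2_id_p10) rho2_id_p11) rho2_id_p12) rho2_id_p13) rho2_id_p14) rho2_id_p15) rho2_id_p16) rho2_id_p17) rho2_id_p18) rho2_id_p19) rho2_id_p20) rho2_id_p21) rho2_id_p22) rho2_id_p23) rho2_id_p24) rho2_id_p25) rho2_id_p26) rho2_id_p27) rho2_id_p28) rho2_id_p29) rho2_id_p30) rho2_id_p31) rho2_id_p32) rho2_id_p33) rho2_id_p34) rho2_id_p35) rho2_id_p36) rho2_id_p37) rho2_id_p38) rho2_id_p39) rho2_id_p40) rho2_id_p41) rho2_id_p42) rho2_id_p43) rho2_id_p44) rho2_id_p45) rho2_id_p46) rho2_id_p47) rho2_id_p48) rho2_id_p49)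 rho2_id_p50) rho2_id_p51) rho2_id_p52) rho2_id_p53) rho2_id_p54) rho2_id_p55) rho2_id_p56) rho2_id_p57) rho2_id_p58) rho2_id_p59) rho2_id_p60) rho2_id_p61) rho2_id_p62) rho2_id_p63) rho2_id_p64) rho2_id_p65) rho2_id_p66) rho2_id_p67) rho2_id_p68) rho2_id_p69) rho2_id_p70) rho2_id_p71) rho2_id_p72) rho2_id_p73) rho2_id_p74) rho2_id_p75) rho2_id_p76) rho2_id_p77) rho2_id_p78) rho2_id_p79) rho2_id_p80) rho2_id_p81) rho2_id_p82) rho2_id_p83) rho2_id_p84) rho2_id_p85) rho2_id_p86) rho2_id_p87) rho2_id_p88

end Helper9M2

end Cfsg.Agent.Lib.Helper6.Fi22M
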