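import Cfsg.Agent.Lib.Helper15.WalkPieces
import Cfsg.Agent.Lib.Helper9.Fi22MM2Words

/-!
# S2053 piece [EX-2] (helper9 for helper6): the 28160-point model, table checks (the word rho3 acts as the central involution)

Each check runs over all points; it is cut into ranges of points (the kernel keeps the intermediate big numbers of an
evaluation until the end of the declaration) and glued by `allBelow_append`.
-/

set_option autoImplicit false
set_option maxRecDepth 100000
set_option Elab.async false

namespace Cfsg.Agent.Lib.Helper6.Fi22M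

namespace Helper9M2

open Cfsg.Agent.Lib.Helper28.BSGS Cfsg.Agent.Lib.Helper15.Walk Cfsg.Agent.Lib.Helper22.SuzOut

theorem rho3_z_p0 : allRange (wordEqPt 15 rho3T [TZ]) 0 312 = true := by decide +kernel
theorem rho3_z_p1 : allRange (wordEqPt 15 rho3T [TZ]) 312 312 = true := by decide +kernel
theorem rho3_z_p2 : allRange (wordEqPt 15 rho3T [TZ]) 624 312 = true := by decide +kernel
theorem rho3_z_p3 : allRange (wordEqPt 15 rho3T [TZ]) 936 312 = true := by decide +kernel
theorem rho3_z_p4 : allRange (wordEqPt 15 rho3T [TZ]) 1248 312 = true := by decide +kernel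
theorem rho3_z_p5 : allRange (wordEqPt 15 rho3T [TZ]) 1560 312 = true := by decide +kernel
theorem rho3_z_p6 : allRange (wordEqPt 15 rho3T [TZ]) 1872 312 = true := by decide +kernel
theorem rho3_z_p7 : allRange (wordEqPt 15 rho3T [TZ]) 2184 312 = true := by decide +kernel
theorem rho3_z_p8 : allRange (wordEqPt 15 rho3T [TZ]) 2496 312 = true := by decide +kernel
theorem rho3_z_p9 : allRange (wordEqPt 15 rho3T [TZ]) 2808 312 = true := by decide +kernel
theorem rho3_z_p10 : allRange (wordEqPt 15 rho3T [TZ]) 3120 312 = true := by decide +kernel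
theorem rho3_z_p11 : allRange (wordEqPt 15 rho3T [TZ]) 3432 312 = true := by decide +kernel
theorem rho3_z_p12 : allRange (wordEqPt 15 rho3T [TZ]) 3744 312 = true := by decide +kernel
theorem rho3_z_p13 : allRange (wordEqPt 15 rho3T [TZ]) 4056 312 = true := by decide +kernel
theorem rho3_z_p14 : allRange (wordEqPt 15 rho3T [TZ]) 4368 312 = true := by decide +kernel
theorem rho3_z_p15 : allRange (wordEqPt 15 rho3T [TZ]) 4680 312 = true := by decide +kernel
theorem rho3_z_p16 : allRange (wordEqPt 15 rho3T [TZ]) 4992 312 = true := by decide +kernel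
theorem rho3_z_p17 : allRange (wordEqPt 15 rho3T [TZ]) 5304 312 = true := by decide +kernel
theorem rho3_z_p18 : allRange (wordEqPt 15 rho3T [TZ]) 5616 312 = true := by decide +kernel
theorem rho3_z_p19 : allRange (wordEqPt 15 rho3T [TZ]) 5928 312 = true := by decide +kernel
theorem rho3_z_p20 : allRange (wordEqPt 15 rho3T [TZ]) 6240 312 = true := by decide +kernel
theorem rho3_z_p21 : allRange (wordEqPt 15 rho3T [TZ]) 6552 312 = true := by decide +kernel
theorem rho3_z_p22 : allRange (wordEqPt 15 rho3T [TZ]) 6864 312 = true := by decide +kernel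
theorem rho3_z_p23 : allRange (wordEqPt 15 rho3T [TZ]) 7176 312 = true := by decide +kernel
theorem rho3_z_p24 : allRange (wordEqPt 15 rho3T [TZ]) 7488 312 = true := by decide +kernel
theorem rho3_z_p25 : allRange (wordEqPt 15 rho3T [TZ]) 7800 312 = true := by decide +kernel
theorem rho3_z_p26 : allRange (wordEqPt 15 rho3T [TZ]) 8112 312 = true := by decide +kernel
theorem rho3_z_p27 : allRange (wordEqPt 15 rho3T [TZ]) 8424 312 = true := by decide +kernel
theorem rho3_z_p28 : allRange (wordEqPt 15 rho3T [TZ]) 8736 312 = true := by decide +kernel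
theorem rho3_z_p29 : allRange (wordEqPt 15 rho3T [TZ]) 9048 312 = true := by decide +kernel
theorem rho3_z_p30 : allRange (wordEqPt 15 rho3T [TZ]) 9360 312 = true := by decide +kernel
theorem rho3_z_p31 : allRange (wordEqPt 15 rho3T [TZ]) 9672 312 = true := by decide +kernel
theorem rho3_z_p32 : allRange (wordEqPt 15 rho3T [TZ]) 9984 312 = true := by decide +kernel
theorem rho3_z_p33 : allRange (wordEqPt 15 rho3T [TZ]) 10296 312 = true := by decide +kernel
theorem rho3_z_p34 : allRange (wordEqPt 15 rho3T [TZ]) 10608 312 = true := by decide +kernel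
theorem rho3_z_p35 : allRange (wordEqPt 15 rho3T [TZ]) 10920 312 = true := by decide +kernel
theorem rho3_z_p36 : allRange (wordEqPt 15 rho3T [TZ]) 11232 312 = true := by decide +kernel
theorem rho3_z_p37 : allRange (wordEqPt 15 rho3T [TZ]) 11544 312 = true := by decide +kernel
theorem rho3_z_p38 : allRange (wordEqPt 15 rho3T [TZ]) 11856 312 = true := by decide +kernel
theorem rho3_z_p39 : allRange (wordEqPt 15 rho3T [TZ]) 12168 312 = true := by decide +kernel
theorem rho3_z_p40 : allRange (wordEqPt 15 rho3T [TZ]) 12480 312 = true := by decide +kernel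
theorem rho3_z_p41 : allRange (wordEqPt 15 rho3T [TZ]) 12792 312 = true := by decide +kernel
theorem rho3_z_p42 : allRange (wordEqPt 15 rho3T [TZ]) 13104 312 = true := by decide +kernel
theorem rho3_z_p43 : allRange (wordEqPt 15 rho3T [TZ]) 13416 312 = true := by decide +kernel
theorem rho3_z_p44 : allRange (wordEqPt 15 rho3T [TZ]) 13728 312 = true := by decide +kernel
theorem rho3_z_p45 : allRange (wordEqPt 15 rho3T [TZ]) 14040 312 = true := by decide +kernel
theorem rho3_z_p46 : allRange (wordEqPt 15 rho3T [TZ]) 14352 312 = true := by decide +kernel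
theorem rho3_z_p47 : allRange (wordEqPt 15 rho3T [TZ]) 14664 312 = true := by decide +kernel
theorem rho3_z_p48 : allRange (wordEqPt 15 rho3T [TZ]) 14976 312 = true := by decide +kernel
theorem rho3_z_p49 : allRange (wordEqPt 15 rho3T [TZ]) 15288 312 = true := by decide +kernel
theorem rho3_z_p50 : allRange (wordEqPt 15 rho3T [TZ]) 15600 312 = true := by decide +kernel
theorem rho3_z_p51 : allRange (wordEqPt 15 rho3T [TZ]) 15912 312 = true := by decide +kernel
theorem rho3_z_p52 : allRange (wordEqPt 15 rho3T [TZ]) 16224 312 = true := by decide +kernel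
theorem rho3_z_p53 : allRange (wordEqPt 15 rho3T [TZ]) 16536 312 = true := by decide +kernel
theorem rho3_z_p54 : allRange (wordEqPt 15 rho3T [TZ]) 16848 312 = true := by decide +kernel
theorem rho3_z_p55 : allRange (wordEqPt 15 rho3T [TZ]) 17160 312 = true := by decide +kernel
theorem rho3_z_p56 : allRange (wordEqPt 15 rho3T [TZ]) 17472 312 = true := by decide +kernel
theorem rho3_z_p57 : allRange (wordEqPt 15 rho3T [TZ]) 17784 312 = true := by decide +kernel
theorem rho3_z_p58 : allRange (wordEqPt 15 rho3T [TZ]) 18096 312 = true := by decide +kernel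
theorem rho3_z_p59 : allRange (wordEqPt 15 rho3T [TZ]) 18408 312 = true := by decide +kernel
theorem rho3_z_p60 : allRange (wordEqPt 15 rho3T [TZ]) 18720 312 = true := by decide +kernel
theorem rho3_z_p61 : allRange (wordEqPt 15 rho3T [TZ]) 19032 312 = true := by decide +kernel
theorem rho3_z_p62 : allRange (wordEqPt 15 rho3T [TZ]) 19344 312 = true := by decide +kernel
theorem rho3_z_p63 : allRange (wordEqPt 15 rho3T [TZ]) 19656 312 = true := by decide +kernel
theorem rho3_z_p64 : allRange (wordEqPt 15 rho3T [TZ]) 19968 312 = true := by decide +kernel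
theorem rho3_z_p65 : allRange (wordEqPt 15 rho3T [TZ]) 20280 312 = true := by decide +kernel
theorem rho3_z_p66 : allRange (wordEqPt 15 rho3T [TZ]) 20592 312 = true := by decide +kernel
theorem rho3_z_p67 : allRange (wordEqPt 15 rho3T [TZ]) 20904 312 = true := by decide +kernel
theorem rho3_z_p68 : allRange (wordEqPt 15 rho3T [TZ]) 21216 312 = true := by decide +kernel
theorem rho3_z_p69 : allRange (wordEqPt 15 rho3T [TZ]) 21528 312 = true := by decide +kernel
theorem rho3_z_p70 : allRange (wordEqPt 15 rho3T [TZ]) 21840 312 = true := by decide +kernel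
theorem rho3_z_p71 : allRange (wordEqPt 15 rho3T [TZ]) 22152 312 = true := by decide +kernel
theorem rho3_z_p72 : allRange (wordEqPt 15 rho3T [TZ]) 22464 312 = true := by decide +kernel
theorem rho3_z_p73 : allRange (wordEqPt 15 rho3T [TZ]) 22776 312 = true := by decide +kernel
theorem rho3_z_p74 : allRange (wordEqPt 15 rho3T [TZ]) 23088 312 = true := by decide +kernel
theorem rho3_z_p75 : allRange (wordEqPt 15 rho3T [TZ]) 23400 312 = true := by decide +kernel
theorem rho3_z_p76 : allRange (wordEqPt 15 rho3T [TZ]) 23712 312 = true := by decide +kernel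
theorem rho3_z_p77 : allRange (wordEqPt 15 rho3T [TZ]) 24024 312 = true := by decide +kernel
theorem rho3_z_p78 : allRange (wordEqPt 15 rho3T [TZ]) 24336 312 = true := by decide +kernel
theorem rho3_z_p79 : allRange (wordEqPt 15 rho3T [TZ]) 24648 312 = true := by decide +kernel
theorem rho3_z_p80 : allRange (wordEqPt 15 rho3T [TZ]) 24960 312 = true := by decide +kernel
theorem rho3_z_p81 : allRange (wordEqPt 15 rho3T [TZ]) 25272 312 = true := by decide +kernel
theorem rho3_z_p82 : allRange (wordEqPt 15 rho3T [TZ]) 25584 312 = true := by decide +kernel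
theorem rho3_z_p83 : allRange (wordEqPt 15 rho3T [TZ]) 25896 312 = true := by decide +kernel
theorem rho3_z_p84 : allRange (wordEqPt 15 rho3T [TZ]) 26208 312 = true := by decide +kernel
theorem rho3_z_p85 : allRange (wordEqPt 15 rho3T [TZ]) 26520 312 = true := by decide +kernel
theorem rho3_z_p86 : allRange (wordEqPt 15 rho3T [TZ]) 26832 312 = true := by decide +kernel
theorem rho3_z_p87 : allRange (wordEqPt 15 rho3T [TZ]) 27144 312 = true := by decide +kernel
theorem rho3_z_p88 : allRange (wordEqPt 15 rho3T [TZ]) 27456 312 = true := by decide +kernel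
theorem rho3_z_p89 : allRange (wordEqPt 15 rho3T [TZ]) 27768 312 = true := by decide +kernel
theorem rho3_z_p90 : allRange (wordEqPt 15 rho3T [TZ]) 28080 80 = true := by decide +kernel

theorem rho3_z : allBelow (wordEqPt 15 rho3T [TZ]) 28160 = true :=
  allBelow_append (m := 28080) (len := 80) (m' := 28160) rfl
    (allBelow_append (m := 27768) (len := 312) (m' := 28080) rfl
    (allBelow_append (m := 27456) (len := 312) (m' := 27768) rfl
    (allBelow_append (m := 27144) (len := 312) (m' := 27456) rfl
    (allBelow_append (m := 26832) (len := 312) (m' := 27144) rfl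
    (allBelow_append (m := 26520) (len := 312) (m' := 26832) rfl
    (allBelow_append (m := 26208) (len := 312) (m' := 26520) rfl
    (allBelow_append (m := 25896) (len := 312) (m' := 26208) rfl
    (allBelow_append (m := 25584) (len := 312) (m' := 25896) rfl
    (allBelow_append (m := 25272) (len := 312) (m' := 25584) rfl
    (allBelow_append (m := 24960) (len := 312) (m' := 25272) rfl
    (allBelow_append (m := 24648) (len := 312) (m' := 24960) rfl
    (allBelow_append (m := 24336) (len := 312) (m' := 24648) rfl
    (allBelow_append (m := 24024) (len := 312) (m' := 24336) rfl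
    (allBelow_append (m := 23712) (len := 312) (m' := 24024) rfl
    (allBelow_append (m := 23400) (len := 312) (m' := 23712) rfl
    (allBelow_append (m := 23088) (len := 312) (m' := 23400) rfl
    (allBelow_append (m := 22776) (len := 312) (m' := 23088) rfl
    (allBelow_append (m := 22464) (len := 312) (m' := 22776) rfl
    (allBelow_append (m := 22152) (len := 312) (m' := 22464) rfl
    (allBelow_append (m := 21840) (len := 312) (m' := 22152) rfl
    (allBelow_append (m := 21528) (len := 312) (m' := 21840) rfl
    (allBelow_append (m := 21216) (len := 312) (m' := 21528) rfl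
    (allBelow_append (m := 20904) (len := 312) (m' := 21216) rfl
    (allBelow_append (m := 20592) (len := 312) (m' := 20904) rfl
    (allBelow_append (m := 20280) (len := 312) (m' := 20592) rfl
    (allBelow_append (m := 19968) (len := 312) (m' := 20280) rfl
    (allBelow_append (m := 19656) (len := 312) (m' := 19968) rfl
    (allBelow_append (m := 19344) (len := 312) (m' := 19656) rfl
    (allBelow_append (m := 19032) (len := 312) (m' := 19344) rfl
    (allBelow_append (m := 18720) (len := 312) (m' := 19032) rfl
    (allBelow_append (m := 18408) (len := 312) (m' := 18720) rfl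
    (allBelow_append (m := 18096) (len := 312) (m' := 18408) rfl
    (allBelow_append (m := 17784) (len := 312) (m' := 18096) rfl
    (allBelow_append (m := 17472) (len := 312) (m' := 17784) rfl
    (allBelow_append (m := 17160) (len := 312) (m' := 17472) rfl
    (allBelow_append (m := 16848) (len := 312) (m' := 17160) rfl
    (allBelow_append (m := 16536) (len := 312) (m' := 16848) rfl
    (allBelow_append (m := 16224) (len := 312) (m' := 16536) rfl
    (allBelow_append (m := 15912) (len := 312) (m' := 16224) rfl
    (allBelow_append (m := 15600) (len := 312) (m' := 15912) rfl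
    (allBelow_append (m := 15288) (len := 312) (m' := 15600) rfl
    (allBelow_append (m := 14976) (len := 312) (m' := 15288) rfl
    (allBelow_append (m := 14664) (len := 312) (m' := 14976) rfl
    (allBelow_append (m := 14352) (len := 312) (m' := 14664) rfl
    (allBelow_append (m := 14040) (len := 312) (m' := 14352) rfl
    (allBelow_append (m := 13728) (len := 312) (m' := 14040) rfl
    (allBelow_append (m := 13416) (len := 312) (m' := 13728) rfl
    (allBelow_append (m := 13104) (len := 312) (m' := 13416) rfl
    (allBelow_append (m := 12792) (len := 312) (m' := 13104) rfl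
    (allBelow_append (m := 12480) (len := 312) (m' := 12792) rfl
    (allBelow_append (m := 12168) (len := 312) (m' := 12480) rfl
    (allBelow_append (m := 11856) (len := 312) (m' := 12168) rfl
    (allBelow_append (m := 11544) (len := 312) (m' := 11856) rfl
    (allBelow_append (m := 11232) (len := 312) (m' := 11544) rfl
    (allBelow_append (m := 10920) (len := 312) (m' := 11232) rfl
    (allBelow_append (m := 10608) (len := 312) (m' := 10920) rfl
    (allBelow_append (m := 10296) (len := 312) (m' := 10608) rfl
    (allBelow_append (m := 9984) (len := 312) (m' := 10296) rfl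
    (allBelow_append (m := 9672) (len := 312) (m' := 9984) rfl
    (allBelow_append (m := 9360) (len := 312) (m' := 9672) rfl
    (allBelow_append (m := 9048) (len := 312) (m' := 9360) rfl
    (allBelow_append (m := 8736) (len := 312) (m' := 9048) rfl
    (allBelow_append (m := 8424) (len := 312) (m' := 8736) rfl
    (allBelow_append (m := 8112) (len := 312) (m' := 8424) rfl
    (allBelow_append (m := 7800) (len := 312) (m' := 8112) rfl
    (allBelow_append (m := 7488) (len := 312) (m' := 7800) rfl
    (allBelow_append (m := 7176) (len := 312) (m' := 7488) rfl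
    (allBelow_append (m := 6864) (len := 312) (m' := 7176) rfl
    (allBelow_append (m := 6552) (len := 312) (m' := 6864) rfl
    (allBelow_append (m := 6240) (len := 312) (m' := 6552) rfl
    (allBelow_append (m := 5928) (len := 312) (m' := 6240) rfl
    (allBelow_append (m := 5616) (len := 312) (m' := 5928) rfl
    (allBelow_append (m := 5304) (len := 312) (m' := 5616) rfl
    (allBelow_append (m := 4992) (len := 312) (m' := 5304) rfl
    (allBelow_append (m := 4680) (len := 312) (m' := 4992) rfl
    (allBelow_append (m := 4368) (len := 312) (m' := 4680) rfl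
    (allBelow_append (m := 4056) (len := 312) (m' := 4368) rfl
    (allBelow_append (m := 3744) (len := 312) (m' := 4056) rfl
    (allBelow_append (m := 3432) (len := 312) (m' := 3744) rfl
    (allBelow_append (m := 3120) (len := 312) (m' := 3432) rfl
    (allBelow_append (m := 2808) (len := 312) (m' := 3120) rfl
    (allBelow_append (m := 2496) (len := 312) (m' := 2808) rfl
    (allBelow_append (m := 2184) (len := 312) (m' := 2496) rfl
    (allBelow_append (m := 1872) (len := 312) (m' := 2184) rfl
    (allBelow_append (m := 1560) (len := 312) (m' := 1872) rfl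
    (allBelow_append (m := 1248) (len := 312) (m' := 1560) rfl
    (allBelow_append (m := 936) (len := 312) (m' := 1248) rfl
    (allBelow_append (m := 624) (len := 312) (m' := 936) rfl
    (allBelow_append (m := 312) (len := 312) (m' := 624) rfl
    (allBelow_append (m := 0) (len := 312) (m' := 312) rfl
    (allBelow_nil (wordEqPt 15 rho3T [TZ])) rho3_z_p0) rho3_z_p1) rho3_z_p2) rho3_z_p3) rho3_z_p4) rho3_z_p5) rho3_z_p6) rho3_z_p7) rho3_z_p8) rho3_z_p9) rho3_z_p10) rho3_z_p11) rho3_z_p12) rho3_z_p13) rho3_z_p14) rho3_z_p15) rho3_z_p16) rho3_z_p17) rho3_z_p18) rho3_z_p19) rho3_z_p20) rho3_z_p21) rho3_z_p22) rho3_z_p23) rho3_z_p24) rho3_z_p25) rho3_z_p26) rho3_z_p27) rho3_z_p28) rho3_z_p29) rho3_z_p30) rho3_z_p31) rho3_z_p32) rho3_z_p33) rho3_z_p34) rho3_z_p35) rho3_z_p36) rho3_z_p37) rho3_z_p38) rho3_z_p39) rho3_z_p40) rho3_z_p41) rho3_z_p42) rho3_z_p43) rho3_z_p44) rho3_z_p45) rho3_z_p46) rho3_z_p47) rho3_z_p48) rho3_z_p49) rho3_z_p50) rho3_z_p51) rho3_z_p52) rho3_z_p53) rho3_z_p54) rho3_z_p55) rho3_z_p56) rho3_z_p57) rho3_z_p58) rho3_z_p59) rho3_z_p60)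 rho3_z_p61) rho3_z_p62) rho3_z_p63) rho3_z_p64) rho3_z_p65) rho3_z_p66) rho3_z_p67) rho3_z_p68) rho3_z_p69) rho3_z_p70) rho3_z_p71) rho3_z_p72) rho3_z_p73) rho3_z_p74) rho3_z_p75) rho3_z_p76) rho3_z_p77) rho3_z_p78) rho3_z_p79) rho3_z_p80) rho3_z_p81) rho3_z_p82) rho3_z_p83) rho3_z_p84) rho3_z_p85) rho3_z_p86) rho3_z_p87) rho3_z_p88) rho3_z_p89) rho3_z_p90

end Helper9M2

end Cfsg.Agent.Lib.Helper6.Fi22M
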