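import Cfsg.Agent.Lib.Helper6.Fi22M.Defs
import Cfsg.Agent.Lib.Helper9.Fi22MCLCCore
import Cfsg.Agent.Lib.Helper9.Fi22MM2P
import Cfsg.Agent.Lib.Helper9.Fi22MM2C1
import Cfsg.Agent.Lib.Helper9.Fi22MM2C2
import Cfsg.Agent.Lib.Helper9.Fi22MM2C3
import Cfsg.Agent.Lib.Helper9.Fi22MM2C4
import Cfsg.Agent.Lib.Helper9.Fi22MM2B1
import Cfsg.Agent.Lib.Helper9.Fi22MM2B2
import Cfsg.Agent.Lib.Helper9.Fi22MM2R1
import Cfsg.Agent.Lib.Helper9.Fi22MM2R2
import Cfsg.Agent.Lib.Helper9.Fi22MM2R3
import Cfsg.Agent.Lib.Helper9.Fi22MM2Z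

/-!
# S2053 piece [EX-2] (helper9 for helper6): the covering group `PW1` acts on 28160 points with `rho3` acting as a
fixed-point-free involution and `rho1` acting trivially

The nine generators act through the tables `TA … TI` of `Fi22MM2Data` (tables of helper19: the cosets of the rotation
subgroup of `PW1`).  The table checks (involutions, 28 commuting pairs, 8 braid relations, the words `rho1`, `rho2`,
`rho3`, centrality of `k ↦ k xor 1`) are in the chunk files `Fi22MM2P`, `Fi22MM2C*`, `Fi22MM2B*`, `Fi22MM2R*`,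
`Fi22MM2Z`; the 81 Coxeter words follow from the commutation and braid relations (`Helper9.cox_of_relations`).
-/

set_option autoImplicit false
set_option maxRecDepth 100000
set_option linter.unusedVariables false
set_option linter.constructorNameAsVariable false

namespace Cfsg.Agent.Lib.Helper6.Fi22M

open Cfsg Cfsg.Agent.Helper4.TC

namespace Helper9M2

open Cfsg.Agent.Lib.Helper28.BSGS Cfsg.Agent.Lib.Helper15.Walk Cfsg.Agent.Lib.Helper22.SuzOut

/-- the table of a generator -/
def tabOf : Gen → ℕ
  | .a => TA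
  | .b => TB
  | .c => TC
  | .d => TD
  | .e => TE
  | .f => TF
  | .g => TG
  | .h => TH
  | .i => TI

theorem pair_ok (x : Gen) : pairOK 28160 15 (tabOf x) (tabOf x) = true := by
  cases x
  · exact pairOK_of_fast (pairOKf_of_pts pair_a)
  · exact pairOK_of_fast (pairOKf_of_pts pair_b)
  · exact pairOK_of_fast (pairOKf_of_pts pair_c)
  · exact pairOK_of_fast (pairOKf_of_pts pair_d)
  · exact pairOK_of_fast (pairOKf_of_pts pair_e)
  · exact pairOK_of_fast (pairOKf_of_pts pair_f)
  · exact pairOK_of_fast (pairOKf_of_pts pair_g)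
  · exact pairOK_of_fast (pairOKf_of_pts pair_h)
  · exact pairOK_of_fast (pairOKf_of_pts pair_i)

theorem zpair_ok : pairOK 28160 15 TZ TZ = true := pairOK_of_fast (pairOKf_of_pts pair_z)

/-- the permutation of a generator -/
def gperm (x : Gen) : Equiv.Perm (Fin 28160) := permOf 28160 15 (tabOf x) (tabOf x)

/-- the central involution `k ↦ k xor 1` -/
def zperm : Equiv.Perm (Fin 28160) := permOf 28160 15 TZ TZ

theorem gperm_apply (x : Gen) (a : Fin 28160) : (gperm x a).val = look 15 (tabOf x) a.val :=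
  permOf_apply (pair_ok x) a

theorem zperm_apply (a : Fin 28160) : (zperm a).val = look 15 TZ a.val :=
  permOf_apply zpair_ok a

theorem gperm_sq (x : Gen) : gperm x * gperm x = 1 := by
  apply Equiv.ext
  intro a
  apply Fin.ext
  rw [Equiv.Perm.mul_apply, Equiv.Perm.one_apply, gperm_apply, gperm_apply]
  exact (pairOK_spec (pair_ok x) a.isLt).2.1

theorem zperm_sq : zperm * zperm = 1 := by
  apply Equiv.ext
  intro a
  apply Fin.ext
  rw [Equiv.Perm.mul_apply, Equiv.Perm.one_apply, zperm_apply, zperm_apply]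
  exact (pairOK_spec zpair_ok a.isLt).2.1

theorem gperm_inv (x : Gen) : (gperm x)⁻¹ = gperm x := inv_eq_of_mul_eq_one_left (gperm_sq x)

theorem gl_apply (l : Letter Gen) (a : Fin 28160) :
    (gl gperm l a).val = look 15 (tabOf l.1) a.val := by
  unfold gl
  split
  · exact gperm_apply l.1 a
  · rw [gperm_inv]
    exact gperm_apply l.1 a

theorem actsByW_snoc {n w : ℕ} {g h : Equiv.Perm (Fin n)} {t : ℕ} {ws : List ℕ}
    (hg : ActsByW n w g ws) (hh : ∀ a : Fin n, (h a).val = look w t a.val) :
    ActsByW n w (g * h) (ws ++ [t]) := by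
  intro a
  show (g (h a)).val = evalW w (ws ++ [t]) a.val
  rw [hg (h a), hh a]
  unfold evalW
  rw [List.foldr_append]
  rfl

/-- a word acts through the reversed list of its tables -/
theorem ev_acts (ls : List (Letter Gen)) :
    ActsByW 28160 15 (ev gperm ls) ((ls.map fun l => tabOf l.1).reverse) := by
  induction ls with
  | nil => exact actsByW_one 28160 15
  | cons l ls ih =>
    have h1 : ev gperm (l :: ls) = ev gperm ls * gl gperm l := rfl
    rw [h1, List.map_cons, List.reverse_cons]
    exact actsByW_snoc ih (gl_apply l)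

theorem comm_of (x y : Gen)
    (h : allBelow (wordEqPt 15 [tabOf x, tabOf y] [tabOf y, tabOf x]) 28160 = true) :
    gperm x * gperm y = gperm y * gperm x := by
  have h1 : ActsByW 28160 15 (gperm x * gperm y) [tabOf x, tabOf y] :=
    actsByW_cons (gperm_apply x) (actsByW_single (gperm_apply y))
  have h2 : ActsByW 28160 15 (gperm y * gperm x) [tabOf y, tabOf x] :=
    actsByW_cons (gperm_apply y) (actsByW_single (gperm_apply x))
  exact eq_of_wordEq 28160 15 h1 h2 (wordEq_of_fast (wordEqF_of_pts h))

theorem braid_of (x y : Gen)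
    (h : allBelow (wordEqPt 15 [tabOf x, tabOf y, tabOf x] [tabOf y, tabOf x, tabOf y]) 28160 = true) :
    gperm x * gperm y * gperm x = gperm y * gperm x * gperm y := by
  have h1 : ActsByW 28160 15 (gperm x * (gperm y * gperm x)) [tabOf x, tabOf y, tabOf x] :=
    actsByW_cons (gperm_apply x) (actsByW_cons (gperm_apply y) (actsByW_single (gperm_apply x)))
  have h2 : ActsByW 28160 15 (gperm y * (gperm x * gperm y)) [tabOf y, tabOf x, tabOf y] :=
    actsByW_cons (gperm_apply y) (actsByW_cons (gperm_apply x) (actsByW_single (gperm_apply y)))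
  rw [mul_assoc, mul_assoc]
  exact eq_of_wordEq 28160 15 h1 h2 (wordEq_of_fast (wordEqF_of_pts h))

theorem zcomm_of (x : Gen)
    (h : allBelow (wordEqPt 15 [TZ, tabOf x] [tabOf x, TZ]) 28160 = true) :
    zperm * gperm x = gperm x * zperm := by
  have h1 : ActsByW 28160 15 (zperm * gperm x) [TZ, tabOf x] :=
    actsByW_cons zperm_apply (actsByW_single (gperm_apply x))
  have h2 : ActsByW 28160 15 (gperm x * zperm) [tabOf x, TZ] :=
    actsByW_cons (gperm_apply x) (actsByW_single zperm_apply)
  exact eq_of_wordEq 28160 15 h1 h2 (wordEq_of_fast (wordEqF_of_pts h))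

theorem gperm_comm : ∀ p ∈ Helper9.cPairs, gperm p.1 * gperm p.2 = gperm p.2 * gperm p.1 := by
  intro p hp
  simp only [Helper9.cPairs, List.mem_cons, List.not_mem_nil, or_false] at hp
  rcases hp with rfl | rfl | rfl | rfl | rfl | rfl | rfl | rfl | rfl | rfl | rfl | rfl | rfl | rfl | rfl | rfl | rfl | rfl | rfl | rfl | rfl | rfl | rfl | rfl | rfl | rfl | rfl | rfl
  · exact comm_of .a .c comm_a_c
  · exact comm_of .a .d comm_a_d
  · exact comm_of .a .e comm_a_e
  · exact comm_of .a .f comm_a_f
  · exact comm_of .a .g comm_a_g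
  · exact comm_of .a .h comm_a_h
  · exact comm_of .a .i comm_a_i
  · exact comm_of .b .d comm_b_d
  · exact comm_of .b .e comm_b_e
  · exact comm_of .b .f comm_b_f
  · exact comm_of .b .g comm_b_g
  · exact comm_of .b .h comm_b_h
  · exact comm_of .b .i comm_b_i
  · exact comm_of .c .e comm_c_e
  · exact comm_of .c .f comm_c_f
  · exact comm_of .c .g comm_c_g
  · exact comm_of .c .h comm_c_h
  · exact comm_of .c .i comm_c_i
  · exact comm_of .d .f comm_d_f
  · exact comm_of .d .g comm_d_g
  · exact comm_of .d .i comm_d_i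
  · exact comm_of .e .g comm_e_g
  · exact comm_of .e .h comm_e_h
  · exact comm_of .e .i comm_e_i
  · exact comm_of .f .h comm_f_h
  · exact comm_of .f .i comm_f_i
  · exact comm_of .g .h comm_g_h
  · exact comm_of .g .i comm_g_i

theorem gperm_braid : ∀ p ∈ Helper9.ePairs,
    gperm p.1 * gperm p.2 * gperm p.1 = gperm p.2 * gperm p.1 * gperm p.2 := by
  intro p hp
  simp only [Helper9.ePairs, List.mem_cons, List.not_mem_nil, or_false] at hp
  rcases hp with rfl | rfl | rfl | rfl | rfl | rfl | rfl | rfl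
  · exact braid_of .a .b braid_a_b
  · exact braid_of .b .c braid_b_c
  · exact braid_of .c .d braid_c_d
  · exact braid_of .d .e braid_d_e
  · exact braid_of .d .h braid_d_h
  · exact braid_of .e .f braid_e_f
  · exact braid_of .f .g braid_f_g
  · exact braid_of .h .i braid_h_i

theorem z_comm (x : Gen) : zperm * gperm x = gperm x * zperm := by
  cases x
  · exact zcomm_of .a zcomm_a
  · exact zcomm_of .b zcomm_b
  · exact zcomm_of .c zcomm_c
  · exact zcomm_of .d zcomm_d
  · exact zcomm_of .e zcomm_e
  · exact zcomm_of .f zcomm_f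
  · exact zcomm_of .g zcomm_g
  · exact zcomm_of .h zcomm_h
  · exact zcomm_of .i zcomm_i

/-- the 81 Coxeter words -/
theorem evc_cox : ∀ b ∈ coxL, evc gperm dec b = 1 :=
  Helper9.cox_of_relations gperm gperm_sq gperm_comm gperm_braid

theorem rho1_list : ((rho1.map dec).map fun l => tabOf l.1).reverse = rho1T := by decide +kernel

theorem rho2_list : ((rho2.map dec).map fun l => tabOf l.1).reverse = rho2T := by decide +kernel

theorem rho3_list : ((rho3.map dec).map fun l => tabOf l.1).reverse = rho3T := by decide +kernel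

theorem evc_rho1 : evc gperm dec rho1 = 1 := by
  have h := ev_acts (rho1.map dec)
  rw [rho1_list] at h
  exact eq_one_of_wordId 28160 15 h (wordId_of_fast (wordIdF_of_pts rho1_id))

theorem evc_rho2 : evc gperm dec rho2 = 1 := by
  have h := ev_acts (rho2.map dec)
  rw [rho2_list] at h
  exact eq_one_of_wordId 28160 15 h (wordId_of_fast (wordIdF_of_pts rho2_id))

theorem evc_rho3 : evc gperm dec rho3 = zperm := by
  have h := ev_acts (rho3.map dec)
  rw [rho3_list] at h
  exact eq_of_wordEq 28160 15 h (actsByW_single zperm_apply) (wordEq_of_fast (wordEqF_of_pts rho3_z))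

theorem z_ne : zperm ≠ 1 := by
  intro h
  have h1 := zperm_apply ⟨0, by norm_num⟩
  rw [h] at h1
  have h2 : look 15 TZ 0 = 1 := by decide +kernel
  rw [h2] at h1
  exact absurd h1 (by decide)

theorem z_commute_gl (l : Letter Gen) : Commute zperm (gl gperm l) := by
  unfold gl
  split
  · exact z_comm l.1
  · exact Commute.inv_right (z_comm l.1)

theorem z_commute_ev (ls : List (Letter Gen)) : Commute zperm (ev gperm ls) := by
  induction ls with
  | nil => exact Commute.one_right _
  | cons l ls ih => exact Commute.mul_right ih (z_commute_gl l)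

/-- a variant of helper4's `Schur.exists_hom_weak0`: the words `centL` need only commute with the words `gensL` -/
theorem exists_hom_weak_comm {Δ : Type*} [Group Δ] (f : Gen → Δ) (exactL centL gensL : List (List ℕ))
    (hex : ∀ b ∈ exactL, evc f dec b = 1)
    (hce : ∀ ρ ∈ centL, ∀ x ∈ gensL, evc f dec ρ * evc f dec x = evc f dec x * evc f dec ρ) :
    ∃ φ : PresentedGroup (relSet dec (exactL ++ Schur.weakify0 gensL centL)) →* Δ,
      ∀ x, φ (PresentedGroup.of x) = f x := by
  have hf : ∀ r ∈ relSet dec (exactL ++ Schur.weakify0 gensL centL), FreeGroup.lift f r = 1 := by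
    rintro r ⟨b, hb, rfl⟩
    rw [lift_wordF]
    rcases List.mem_append.mp hb with h | h
    · exact hex b h
    · unfold Schur.weakify0 at h
      obtain ⟨ρ, hρ, hbρ⟩ := List.mem_flatMap.mp h
      obtain ⟨x, hx, rfl⟩ := List.mem_map.mp hbρ
      rw [evc_append, evc_append, evc_append, evc_invW f Fi22U62.coding, evc_invW f Fi22U62.coding]
      have hc := hce ρ hρ x hx
      calc evc f dec ρ * (evc f dec x * ((evc f dec ρ)⁻¹ * (evc f dec x)⁻¹))
          = (evc f dec ρ * evc f dec x) * (evc f dec ρ)⁻¹ * (evc f dec x)⁻¹ := by group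
        _ = (evc f dec x * evc f dec ρ) * (evc f dec ρ)⁻¹ * (evc f dec x)⁻¹ := by rw [hc]
        _ = 1 := by group
  exact ⟨PresentedGroup.toGroup hf, fun x => PresentedGroup.toGroup.of hf⟩

end Helper9M2

open Helper9M2 in
/-- **[EX-2]** -/
theorem exists_hom_A : ∃ (Δ : Type) (_ : Group Δ) (φ : PW1 →* Δ),
    φ r3 ≠ 1 ∧ φ r3 ^ 2 = 1 ∧ φ r1 = 1 := by
  have hex : ∀ b ∈ coxL ++ [rho2], evc gperm dec b = 1 := by
    intro b hb
    rcases List.mem_append.mp hb with h | h
    · exact evc_cox b h
    · rw [List.mem_singleton.mp h]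
      exact evc_rho2
  have hce : ∀ ρ ∈ [rho1, rho3], ∀ x ∈ gensL,
      evc gperm dec ρ * evc gperm dec x = evc gperm dec x * evc gperm dec ρ := by
    intro ρ hρ x _
    simp only [List.mem_cons, List.not_mem_nil, or_false] at hρ
    rcases hρ with rfl | rfl
    · rw [evc_rho1, one_mul, mul_one]
    · rw [evc_rho3]
      exact z_commute_ev (x.map dec)
  have key := exists_hom_weak_comm gperm (coxL ++ [rho2]) [rho1, rho3] gensL hex hce
  obtain ⟨φ, hφ⟩ : ∃ φ : PW1 →* Equiv.Perm (Fin 28160), ∀ x, φ (PresentedGroup.of x) = gperm x := key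
  have hmap : ∀ w, φ (evc (PresentedGroup.of (rels := RW1)) dec w) = evc gperm dec w := by
    intro w
    rw [Schur.map_evc]
    have hfun : (fun x => φ (PresentedGroup.of (rels := RW1) x)) = gperm := funext hφ
    rw [hfun]
  refine ⟨Equiv.Perm (Fin 28160), inferInstance, φ, ?_, ?_, ?_⟩
  · show φ (evc (PresentedGroup.of (rels := RW1)) dec rho3) ≠ 1
    rw [hmap, evc_rho3]
    exact z_ne
  · show φ (evc (PresentedGroup.of (rels := RW1)) dec rho3) ^ 2 = 1
    rw [hmap, evc_rho3, pow_two]
    exact zperm_sq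
  · show φ (evc (PresentedGroup.of (rels := RW1)) dec rho1) = 1
    rw [hmap, evc_rho1]

end Cfsg.Agent.Lib.Helper6.Fi22M
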