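import Cfsg.Agent.Lib.Helper15.WalkPieces
import Cfsg.Agent.Lib.Helper9.Fi22MM2Words

/-!
# S2053 piece [EX-2] (helper9 for helper6): the 28160-point model, table checks (the central involution commutes with the generators)

Each check runs over all points; it is cut into ranges of points (the kernel keeps the intermediate big numbers of an
evaluation until the end of the declaration) and glued by `allBelow_append`.
-/

set_option autoImplicit false
set_option maxRecDepth 100000
set_option Elab.async false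

namespace Cfsg.Agent.Lib.Helper6.Fi22M

namespace Helper9M2

open Cfsg.Agent.Lib.Helper28.BSGS Cfsg.Agent.Lib.Helper15.Walk Cfsg.Agent.Lib.Helper22.SuzOut

theorem zcomm_a_p0 : allRange (wordEqPt 15 [TZ, TA] [TA, TZ]) 0 5000 = true := by decide +kernel
theorem zcomm_a_p1 : allRange (wordEqPt 15 [TZ, TA] [TA, TZ]) 5000 5000 = true := by decide +kernel
theorem zcomm_a_p2 : allRange (wordEqPt 15 [TZ, TA] [TA, TZ]) 10000 5000 = true := by decide +kernel
theorem zcomm_a_p3 : allRange (wordEqPt 15 [TZ, TA] [TA, TZ]) 15000 5000 = true := by decide +kernel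
theorem zcomm_a_p4 : allRange (wordEqPt 15 [TZ, TA] [TA, TZ]) 20000 5000 = true := by decide +kernel
theorem zcomm_a_p5 : allRange (wordEqPt 15 [TZ, TA] [TA, TZ]) 25000 3160 = true := by decide +kernel

theorem zcomm_a : allBelow (wordEqPt 15 [TZ, TA] [TA, TZ]) 28160 = true :=
  allBelow_append (m := 25000) (len := 3160) (m' := 28160) rfl
    (allBelow_append (m := 20000) (len := 5000) (m' := 25000) rfl
    (allBelow_append (m := 15000) (len := 5000) (m' := 20000) rfl
    (allBelow_append (m := 10000) (len := 5000) (m' := 15000) rfl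
    (allBelow_append (m := 5000) (len := 5000) (m' := 10000) rfl
    (allBelow_append (m := 0) (len := 5000) (m' := 5000) rfl
    (allBelow_nil (wordEqPt 15 [TZ, TA] [TA, TZ])) zcomm_a_p0) zcomm_a_p1) zcomm_a_p2) zcomm_a_p3) zcomm_a_p4) zcomm_a_p5

theorem zcomm_b_p0 : allRange (wordEqPt 15 [TZ, TB] [TB, TZ]) 0 5000 = true := by decide +kernel
theorem zcomm_b_p1 : allRange (wordEqPt 15 [TZ, TB] [TB, TZ]) 5000 5000 = true := by decide +kernel
theorem zcomm_b_p2 : allRange (wordEqPt 15 [TZ, TB] [TB, TZ]) 10000 5000 = true := by decide +kernel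
theorem zcomm_b_p3 : allRange (wordEqPt 15 [TZ, TB] [TB, TZ]) 15000 5000 = true := by decide +kernel
theorem zcomm_b_p4 : allRange (wordEqPt 15 [TZ, TB] [TB, TZ]) 20000 5000 = true := by decide +kernel
theorem zcomm_b_p5 : allRange (wordEqPt 15 [TZ, TB] [TB, TZ]) 25000 3160 = true := by decide +kernel

theorem zcomm_b : allBelow (wordEqPt 15 [TZ, TB] [TB, TZ]) 28160 = true :=
  allBelow_append (m := 25000) (len := 3160) (m' := 28160) rfl
    (allBelow_append (m := 20000) (len := 5000) (m' := 25000) rfl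
    (allBelow_append (m := 15000) (len := 5000) (m' := 20000) rfl
    (allBelow_append (m := 10000) (len := 5000) (m' := 15000) rfl
    (allBelow_append (m := 5000) (len := 5000) (m' := 10000) rfl
    (allBelow_append (m := 0) (len := 5000) (m' := 5000) rfl
    (allBelow_nil (wordEqPt 15 [TZ, TB] [TB, TZ])) zcomm_b_p0) zcomm_b_p1) zcomm_b_p2) zcomm_b_p3) zcomm_b_p4) zcomm_b_p5

theorem zcomm_c_p0 : allRange (wordEqPt 15 [TZ, TC] [TC, TZ]) 0 5000 = true := by decide +kernel
theorem zcomm_c_p1 : allRange (wordEqPt 15 [TZ, TC] [TC, TZ]) 5000 5000 = true := by decide +kernel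
theorem zcomm_c_p2 : allRange (wordEqPt 15 [TZ, TC] [TC, TZ]) 10000 5000 = true := by decide +kernel
theorem zcomm_c_p3 : allRange (wordEqPt 15 [TZ, TC] [TC, TZ]) 15000 5000 = true := by decide +kernel
theorem zcomm_c_p4 : allRange (wordEqPt 15 [TZ, TC] [TC, TZ]) 20000 5000 = true := by decide +kernel
theorem zcomm_c_p5 : allRange (wordEqPt 15 [TZ, TC] [TC, TZ]) 25000 3160 = true := by decide +kernel

theorem zcomm_c : allBelow (wordEqPt 15 [TZ, TC] [TC, TZ]) 28160 = true :=
  allBelow_append (m := 25000) (len := 3160) (m' := 28160) rfl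
    (allBelow_append (m := 20000) (len := 5000) (m' := 25000) rfl
    (allBelow_append (m := 15000) (len := 5000) (m' := 20000) rfl
    (allBelow_append (m := 10000) (len := 5000) (m' := 15000) rfl
    (allBelow_append (m := 5000) (len := 5000) (m' := 10000) rfl
    (allBelow_append (m := 0) (len := 5000) (m' := 5000) rfl
    (allBelow_nil (wordEqPt 15 [TZ, TC] [TC, TZ])) zcomm_c_p0) zcomm_c_p1) zcomm_c_p2) zcomm_c_p3) zcomm_c_p4) zcomm_c_p5

theorem zcomm_d_p0 : allRange (wordEqPt 15 [TZ, TD] [TD, TZ]) 0 5000 = true := by decide +kernel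
theorem zcomm_d_p1 : allRange (wordEqPt 15 [TZ, TD] [TD, TZ]) 5000 5000 = true := by decide +kernel
theorem zcomm_d_p2 : allRange (wordEqPt 15 [TZ, TD] [TD, TZ]) 10000 5000 = true := by decide +kernel
theorem zcomm_d_p3 : allRange (wordEqPt 15 [TZ, TD] [TD, TZ]) 15000 5000 = true := by decide +kernel
theorem zcomm_d_p4 : allRange (wordEqPt 15 [TZ, TD] [TD, TZ]) 20000 5000 = true := by decide +kernel
theorem zcomm_d_p5 : allRange (wordEqPt 15 [TZ, TD] [TD, TZ]) 25000 3160 = true := by decide +kernel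

theorem zcomm_d : allBelow (wordEqPt 15 [TZ, TD] [TD, TZ]) 28160 = true :=
  allBelow_append (m := 25000) (len := 3160) (m' := 28160) rfl
    (allBelow_append (m := 20000) (len := 5000) (m' := 25000) rfl
    (allBelow_append (m := 15000) (len := 5000) (m' := 20000) rfl
    (allBelow_append (m := 10000) (len := 5000) (m' := 15000) rfl
    (allBelow_append (m := 5000) (len := 5000) (m' := 10000) rfl
    (allBelow_append (m := 0) (len := 5000) (m' := 5000) rfl
    (allBelow_nil (wordEqPt 15 [TZ, TD] [TD, TZ])) zcomm_d_p0) zcomm_d_p1) zcomm_d_p2) zcomm_d_p3) zcomm_d_p4) zcomm_d_p5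

theorem zcomm_e_p0 : allRange (wordEqPt 15 [TZ, TE] [TE, TZ]) 0 5000 = true := by decide +kernel
theorem zcomm_e_p1 : allRange (wordEqPt 15 [TZ, TE] [TE, TZ]) 5000 5000 = true := by decide +kernel
theorem zcomm_e_p2 : allRange (wordEqPt 15 [TZ, TE] [TE, TZ]) 10000 5000 = true := by decide +kernel
theorem zcomm_e_p3 : allRange (wordEqPt 15 [TZ, TE] [TE, TZ]) 15000 5000 = true := by decide +kernel
theorem zcomm_e_p4 : allRange (wordEqPt 15 [TZ, TE] [TE, TZ]) 20000 5000 = true := by decide +kernel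
theorem zcomm_e_p5 : allRange (wordEqPt 15 [TZ, TE] [TE, TZ]) 25000 3160 = true := by decide +kernel

theorem zcomm_e : allBelow (wordEqPt 15 [TZ, TE] [TE, TZ]) 28160 = true :=
  allBelow_append (m := 25000) (len := 3160) (m' := 28160) rfl
    (allBelow_append (m := 20000) (len := 5000) (m' := 25000) rfl
    (allBelow_append (m := 15000) (len := 5000) (m' := 20000) rfl
    (allBelow_append (m := 10000) (len := 5000) (m' := 15000) rfl
    (allBelow_append (m := 5000) (len := 5000) (m' := 10000) rfl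
    (allBelow_append (m := 0) (len := 5000) (m' := 5000) rfl
    (allBelow_nil (wordEqPt 15 [TZ, TE] [TE, TZ])) zcomm_e_p0) zcomm_e_p1) zcomm_e_p2) zcomm_e_p3) zcomm_e_p4) zcomm_e_p5

theorem zcomm_f_p0 : allRange (wordEqPt 15 [TZ, TF] [TF, TZ]) 0 5000 = true := by decide +kernel
theorem zcomm_f_p1 : allRange (wordEqPt 15 [TZ, TF] [TF, TZ]) 5000 5000 = true := by decide +kernel
theorem zcomm_f_p2 : allRange (wordEqPt 15 [TZ, TF] [TF, TZ]) 10000 5000 = true := by decide +kernel
theorem zcomm_f_p3 : allRange (wordEqPt 15 [TZ, TF] [TF, TZ]) 15000 5000 = true := by decide +kernel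
theorem zcomm_f_p4 : allRange (wordEqPt 15 [TZ, TF] [TF, TZ]) 20000 5000 = true := by decide +kernel
theorem zcomm_f_p5 : allRange (wordEqPt 15 [TZ, TF] [TF, TZ]) 25000 3160 = true := by decide +kernel

theorem zcomm_f : allBelow (wordEqPt 15 [TZ, TF] [TF, TZ]) 28160 = true :=
  allBelow_append (m := 25000) (len := 3160) (m' := 28160) rfl
    (allBelow_append (m := 20000) (len := 5000) (m' := 25000) rfl
    (allBelow_append (m := 15000) (len := 5000) (m' := 20000) rfl
    (allBelow_append (m := 10000) (len := 5000) (m' := 15000) rfl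
    (allBelow_append (m := 5000) (len := 5000) (m' := 10000) rfl
    (allBelow_append (m := 0) (len := 5000) (m' := 5000) rfl
    (allBelow_nil (wordEqPt 15 [TZ, TF] [TF, TZ])) zcomm_f_p0) zcomm_f_p1) zcomm_f_p2) zcomm_f_p3) zcomm_f_p4) zcomm_f_p5

theorem zcomm_g_p0 : allRange (wordEqPt 15 [TZ, TG] [TG, TZ]) 0 5000 = true := by decide +kernel
theorem zcomm_g_p1 : allRange (wordEqPt 15 [TZ, TG] [TG, TZ]) 5000 5000 = true := by decide +kernel
theorem zcomm_g_p2 : allRange (wordEqPt 15 [TZ, TG] [TG, TZ]) 10000 5000 = true := by decide +kernel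
theorem zcomm_g_p3 : allRange (wordEqPt 15 [TZ, TG] [TG, TZ]) 15000 5000 = true := by decide +kernel
theorem zcomm_g_p4 : allRange (wordEqPt 15 [TZ, TG] [TG, TZ]) 20000 5000 = true := by decide +kernel
theorem zcomm_g_p5 : allRange (wordEqPt 15 [TZ, TG] [TG, TZ]) 25000 3160 = true := by decide +kernel

theorem zcomm_g : allBelow (wordEqPt 15 [TZ, TG] [TG, TZ]) 28160 = true :=
  allBelow_append (m := 25000) (len := 3160) (m' := 28160) rfl
    (allBelow_append (m := 20000) (len := 5000) (m' := 25000) rfl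
    (allBelow_append (m := 15000) (len := 5000) (m' := 20000) rfl
    (allBelow_append (m := 10000) (len := 5000) (m' := 15000) rfl
    (allBelow_append (m := 5000) (len := 5000) (m' := 10000) rfl
    (allBelow_append (m := 0) (len := 5000) (m' := 5000) rfl
    (allBelow_nil (wordEqPt 15 [TZ, TG] [TG, TZ])) zcomm_g_p0) zcomm_g_p1) zcomm_g_p2) zcomm_g_p3) zcomm_g_p4) zcomm_g_p5

theorem zcomm_h_p0 : allRange (wordEqPt 15 [TZ, TH] [TH, TZ]) 0 5000 = true := by decide +kernel
theorem zcomm_h_p1 : allRange (wordEqPt 15 [TZ, TH] [TH, TZ]) 5000 5000 = true := by decide +kernel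
theorem zcomm_h_p2 : allRange (wordEqPt 15 [TZ, TH] [TH, TZ]) 10000 5000 = true := by decide +kernel
theorem zcomm_h_p3 : allRange (wordEqPt 15 [TZ, TH] [TH, TZ]) 15000 5000 = true := by decide +kernel
theorem zcomm_h_p4 : allRange (wordEqPt 15 [TZ, TH] [TH, TZ]) 20000 5000 = true := by decide +kernel
theorem zcomm_h_p5 : allRange (wordEqPt 15 [TZ, TH] [TH, TZ]) 25000 3160 = true := by decide +kernel

theorem zcomm_h : allBelow (wordEqPt 15 [TZ, TH] [TH, TZ]) 28160 = true :=
  allBelow_append (m := 25000) (len := 3160) (m' := 28160) rfl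
    (allBelow_append (m := 20000) (len := 5000) (m' := 25000) rfl
    (allBelow_append (m := 15000) (len := 5000) (m' := 20000) rfl
    (allBelow_append (m := 10000) (len := 5000) (m' := 15000) rfl
    (allBelow_append (m := 5000) (len := 5000) (m' := 10000) rfl
    (allBelow_append (m := 0) (len := 5000) (m' := 5000) rfl
    (allBelow_nil (wordEqPt 15 [TZ, TH] [TH, TZ])) zcomm_h_p0) zcomm_h_p1) zcomm_h_p2) zcomm_h_p3) zcomm_h_p4) zcomm_h_p5

theorem zcomm_i_p0 : allRange (wordEqPt 15 [TZ, TI] [TI, TZ]) 0 5000 = true := by decide +kernel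
theorem zcomm_i_p1 : allRange (wordEqPt 15 [TZ, TI] [TI, TZ]) 5000 5000 = true := by decide +kernel
theorem zcomm_i_p2 : allRange (wordEqPt 15 [TZ, TI] [TI, TZ]) 10000 5000 = true := by decide +kernel
theorem zcomm_i_p3 : allRange (wordEqPt 15 [TZ, TI] [TI, TZ]) 15000 5000 = true := by decide +kernel
theorem zcomm_i_p4 : allRange (wordEqPt 15 [TZ, TI] [TI, TZ]) 20000 5000 = true := by decide +kernel
theorem zcomm_i_p5 : allRange (wordEqPt 15 [TZ, TI] [TI, TZ]) 25000 3160 = true := by decide +kernel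

theorem zcomm_i : allBelow (wordEqPt 15 [TZ, TI] [TI, TZ]) 28160 = true :=
  allBelow_append (m := 25000) (len := 3160) (m' := 28160) rfl
    (allBelow_append (m := 20000) (len := 5000) (m' := 25000) rfl
    (allBelow_append (m := 15000) (len := 5000) (m' := 20000) rfl
    (allBelow_append (m := 10000) (len := 5000) (m' := 15000) rfl
    (allBelow_append (m := 5000) (len := 5000) (m' := 10000) rfl
    (allBelow_append (m := 0) (len := 5000) (m' := 5000) rfl
    (allBelow_nil (wordEqPt 15 [TZ, TI] [TI, TZ])) zcomm_i_p0) zcomm_i_p1) zcomm_i_p2) zcomm_i_p3) zcomm_i_p4) zcomm_i_p5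

end Helper9M2

end Cfsg.Agent.Lib.Helper6.Fi22M
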