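import Cfsg.Agent.Lib.Helper9.G23MMDefs

/-!
# S2101 piece [M] (helper9): relator checks of the 2268-point model, chunk 11 (relators 286 to 311)

One small theorem per relator, checked one after the other, so that the kernel's memory is released in between.
-/

set_option autoImplicit false
set_option maxRecDepth 100000
set_option Elab.async false

namespace Cfsg.Agent.Lib.Helper16.G23M.Helper9

theorem chk11_00 : relOK 286 = true := by decide +kernel

theorem chk11_01 : relOK 287 = true := by decide +kernel

theorem chk11_02 : relOK 288 = true := by decide +kernel

theorem chk11_03 : relOK 289 = true := by decide +kernel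

theorem chk11_04 : relOK 290 = true := by decide +kernel

theorem chk11_05 : relOK 291 = true := by decide +kernel

theorem chk11_06 : relOK 292 = true := by decide +kernel

theorem chk11_07 : relOK 293 = true := by decide +kernel

theorem chk11_08 : relOK 294 = true := by decide +kernel

theorem chk11_09 : relOK 295 = true := by decide +kernel

theorem chk11_10 : relOK 296 = true := by decide +kernel

theorem chk11_11 : relOK 297 = true := by decide +kernel

theorem chk11_12 : relOK 298 = true := by decide +kernel

theorem chk11_13 : relOK 299 = true := by decide +kernel

theorem chk11_14 : relOK 300 = true := by decide +kernel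

theorem chk11_15 : relOK 301 = true := by decide +kernel

theorem chk11_16 : relOK 302 = true := by decide +kernel

theorem chk11_17 : relOK 303 = true := by decide +kernel

theorem chk11_18 : relOK 304 = true := by decide +kernel

theorem chk11_19 : relOK 305 = true := by decide +kernel

theorem chk11_20 : relOK 306 = true := by decide +kernel

theorem chk11_21 : relOK 307 = true := by decide +kernel

theorem chk11_22 : relOK 308 = true := by decide +kernel

theorem chk11_23 : relOK 309 = true := by decide +kernel

theorem chk11_24 : relOK 310 = true := by decide +kernel

theorem chk11_25 : relOK 311 = true := by decide +kernel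

theorem chk11 (j : ℕ) (h1 : 286 ≤ j) (h2 : j < 312) : relOK j = true := by
  interval_cases j
  · exact chk11_00
  · exact chk11_01
  · exact chk11_02
  · exact chk11_03
  · exact chk11_04
  · exact chk11_05
  · exact chk11_06
  · exact chk11_07
  · exact chk11_08
  · exact chk11_09
  · exact chk11_10
  · exact chk11_11
  · exact chk11_12
  · exact chk11_13
  · exact chk11_14
  · exact chk11_15
  · exact chk11_16
  · exact chk11_17
  · exact chk11_18
  · exact chk11_19
  · exact chk11_20
  · exact chk11_21
  · exact chk11_22
  · exact chk11_23
  · exact chk11_24
  · exact chk11_25

end Cfsg.Agent.Lib.Helper16.G23M.Helper9
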