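import Mathlib
import Cfsg.Agent.H5.TCkSound
import Cfsg.Agent.Lib.Helper28.BSGSPerm
import Cfsg.Agent.Lib.Helper16.G23MData
import Cfsg.Agent.Lib.Helper16.G23MModelData

/-!
# S2101 piece [M] (helper9 for helper16): the 2268-point model of `3.G₂(3)`, definitions and small checks

The eight letters act through the tables `MTAB`, the central element through `ZTAB`; a word in the letters acts
through the list of its tables (`ev_acts`).  The relator checks are in the chunk files `G23MMChk*`.
-/

set_option autoImplicit false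
set_option maxRecDepth 100000

namespace Cfsg.Agent.Lib.Helper16.G23M

namespace Helper9

open Cfsg.Agent.Lib.Helper28.BSGS Cfsg.H5.TCk

/-- the table of a letter -/
def ltb (l : ℕ) : ℕ := MTAB.getD l 0

/-- the permutation of a generator -/
noncomputable def dperm (i : ℕ) : Equiv.Perm (Fin 2268) :=
  permOf 2268 12 (ltb (2 * i)) (ltb (2 * i + 1))

/-- the central element -/
noncomputable def zperm : Equiv.Perm (Fin 2268) := permOf 2268 12 ZTAB ZITAB

theorem pair_ok : ∀ i < 4, pairOK 2268 12 (ltb (2 * i)) (ltb (2 * i + 1)) = true := by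
  decide +kernel

theorem zpair_ok : pairOK 2268 12 ZTAB ZITAB = true := by
  decide +kernel

theorem gl_acts (l : ℕ) (hl : l < 8) (a : Fin 2268) :
    (gl dperm l a).val = look 12 (ltb l) a.val := by
  rcases Nat.even_or_odd' l with ⟨i, rfl | rfl⟩
  · rw [gl_even]
    exact permOf_apply (pair_ok i (by omega)) a
  · rw [gl_odd]
    exact permOf_inv_apply (pair_ok i (by omega)) a

theorem ev_acts (w : List ℕ) (hw : ∀ l ∈ w, l < 8) :
    ActsByW 2268 12 (ev dperm w) (w.map ltb) := by
  induction w with
  | nil => exact actsByW_one 2268 12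
  | cons l w ih =>
    have h1 : ev dperm (l :: w) = gl dperm l * ev dperm w := rfl
    rw [h1, List.map_cons]
    exact actsByW_cons (gl_acts l (hw l List.mem_cons_self))
      (ih fun l' hl' => hw l' (List.mem_cons_of_mem _ hl'))

theorem zpow_acts (k : ℕ) : ActsByW 2268 12 (zperm ^ k) (List.replicate k ZTAB) :=
  actsByW_pow 2268 12 (permOf_apply zpair_ok) k

/-- the check of relator `j` -/
def relOK (j : ℕ) : Bool :=
  wordEq 2268 12 ((relsG.getD j []).map ltb) (List.replicate (expG.getD j 0) ZTAB)

theorem letters_ok : ∀ j < relsG.length, ∀ l ∈ relsG.getD j [], l < 8 := by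
  have h : (relsG.all fun r => r.all fun l => decide (l < 8)) = true := by decide +kernel
  intro j hj l hl
  rw [List.all_eq_true] at h
  have h1 := h (relsG.getD j []) (by
    rw [List.getD_eq_getElem _ _ hj]
    exact List.getElem_mem hj)
  rw [List.all_eq_true] at h1
  exact of_decide_eq_true (h1 l hl)

theorem rel_of_ok (j : ℕ) (hj : j < relsG.length) (h : relOK j = true) :
    ev dperm (relsG.getD j []) = zperm ^ (expG.getD j 0) :=
  eq_of_wordEq 2268 12 (ev_acts _ (letters_ok j hj)) (zpow_acts _) h

theorem comm_ok : ∀ i < 4, wordEq 2268 12 [ZTAB, ltb (2 * i)] [ltb (2 * i), ZTAB] = true := by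
  decide +kernel

theorem z_comm (i : ℕ) (hi : i < 4) : zperm * dperm i = dperm i * zperm := by
  have h1 : ActsByW 2268 12 (zperm * dperm i) [ZTAB, ltb (2 * i)] :=
    actsByW_cons (permOf_apply zpair_ok) (actsByW_single (permOf_apply (pair_ok i hi)))
  have h2 : ActsByW 2268 12 (dperm i * zperm) [ltb (2 * i), ZTAB] :=
    actsByW_cons (permOf_apply (pair_ok i hi)) (actsByW_single (permOf_apply zpair_ok))
  exact eq_of_wordEq 2268 12 h1 h2 (comm_ok i hi)

theorem z_cube : zperm ^ 3 = 1 :=
  eq_one_of_wordId 2268 12 (zpow_acts 3) (by decide +kernel)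

theorem z_pow_ne (m : ℕ) (hm0 : 0 < m) (hm : m < 3) : zperm ^ m ≠ 1 := by
  intro h
  have h1 := zpow_acts m ⟨0, by norm_num⟩
  rw [h] at h1
  have h2 : ∀ m < 3, 0 < m → evalW 12 (List.replicate m ZTAB) 0 ≠ 0 := by decide +kernel
  exact h2 m hm hm0 h1.symm

theorem length_relsG : relsG.length = 338 := by decide +kernel

end Helper9

end Cfsg.Agent.Lib.Helper16.G23M
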