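import Mathlib

/-!
# Helper9 library G3A: elementary facts on `2 × 2` matrices over a field

* the commutant of a non-scalar matrix is `F[b]`, hence commutative;
* an involution of determinant one is `± 1` (characteristic `≠ 2`);
* involutions commuting with a non-scalar involution `d` are `± 1, ± d`.
-/

set_option autoImplicit false

namespace Cfsg.Agent.Lib.Helper9.G3

open Matrix

variable {F : Type*} [Field F]

theorem not_scalar_cases (b : Matrix (Fin 2) (Fin 2) F)
    (hb : ¬ ∃ c : F, b = c • (1 : Matrix (Fin 2) (Fin 2) F)) :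
    b 0 1 ≠ 0 ∨ b 1 0 ≠ 0 ∨ b 0 0 ≠ b 1 1 := by
  by_contra h
  push Not at h
  obtain ⟨h1, h2, h3⟩ := h
  apply hb
  refine ⟨b 0 0, ?_⟩
  ext i j
  fin_cases i <;> fin_cases j <;> simp [h1, h2, h3]

theorem commute_entries {b m : Matrix (Fin 2) (Fin 2) F} (hm : m * b = b * m) :
    m 0 1 * b 1 0 = b 0 1 * m 1 0 ∧
    m 0 0 * b 0 1 + m 0 1 * b 1 1 = b 0 0 * m 0 1 + b 0 1 * m 1 1 ∧
    m 1 0 * b 0 0 + m 1 1 * b 1 0 = b 1 0 * m 0 0 + b 1 1 * m 1 0 := by
  have h00 := congrFun (congrFun hm 0) 0
  have h01 := congrFun (congrFun hm 0) 1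
  have h10 := congrFun (congrFun hm 1) 0
  simp only [Matrix.mul_apply, Fin.sum_univ_two] at h00 h01 h10
  refine ⟨?_, h01, h10⟩
  linear_combination h00

/-- the commutant of a non-scalar `2 × 2` matrix is spanned by `1` and the matrix -/
theorem exists_eq_add_of_commute (b m : Matrix (Fin 2) (Fin 2) F)
    (hb : ¬ ∃ c : F, b = c • (1 : Matrix (Fin 2) (Fin 2) F)) (hm : m * b = b * m) :
    ∃ α β : F, m = α • (1 : Matrix (Fin 2) (Fin 2) F) + β • b := by
  obtain ⟨e1, e2, e3⟩ := commute_entries hm
  rcases not_scalar_cases b hb with h | h | h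
  · refine ⟨m 0 0 - m 0 1 / b 0 1 * b 0 0, m 0 1 / b 0 1, ?_⟩
    ext i j
    fin_cases i <;> fin_cases j <;> simp
    · field_simp
    · field_simp
      linear_combination -e1
    · field_simp
      linear_combination -e2
  · refine ⟨m 0 0 - m 1 0 / b 1 0 * b 0 0, m 1 0 / b 1 0, ?_⟩
    ext i j
    fin_cases i <;> fin_cases j <;> simp
    · field_simp
      linear_combination e1
    · field_simp
    · field_simp
      linear_combination e3
  · have h' : b 0 0 - b 1 1 ≠ 0 := sub_ne_zero.mpr h
    have hn := not_scalar_cases b hb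
    by_cases h01 : b 0 1 = 0
    · by_cases h10 : b 1 0 = 0
      · have m01 : m 0 1 = 0 := by
          have : m 0 1 * (b 0 0 - b 1 1) = 0 := by
            rw [h01] at e2; linear_combination -e2
          rcases mul_eq_zero.mp this with h0 | h0
          · exact h0
          · exact absurd h0 h'
        have m10 : m 1 0 = 0 := by
          have : m 1 0 * (b 0 0 - b 1 1) = 0 := by
            rw [h10] at e3; linear_combination e3
          rcases mul_eq_zero.mp this with h0 | h0
          · exact h0
          · exact absurd h0 h'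
        refine ⟨m 0 0 - (m 0 0 - m 1 1) / (b 0 0 - b 1 1) * b 0 0,
          (m 0 0 - m 1 1) / (b 0 0 - b 1 1), ?_⟩
        ext i j
        fin_cases i <;> fin_cases j <;> simp [h01, h10, m01, m10]
        field_simp
        ring
      · refine ⟨m 0 0 - m 1 0 / b 1 0 * b 0 0, m 1 0 / b 1 0, ?_⟩
        ext i j
        fin_cases i <;> fin_cases j <;> simp
        · field_simp
          linear_combination e1
        · field_simp
        · field_simp
          linear_combination e3
    · refine ⟨m 0 0 - m 0 1 / b 0 1 * b 0 0, m 0 1 / b 0 1, ?_⟩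
      ext i j
      fin_cases i <;> fin_cases j <;> simp
      · field_simp
      · field_simp
        linear_combination -e1
      · field_simp
        linear_combination -e2

/-- two matrices commuting with a non-scalar `2 × 2` matrix commute -/
theorem commute_of_commute_nonscalar (b m m' : Matrix (Fin 2) (Fin 2) F)
    (hb : ¬ ∃ c : F, b = c • (1 : Matrix (Fin 2) (Fin 2) F))
    (hm : m * b = b * m) (hm' : m' * b = b * m') : m * m' = m' * m := by
  obtain ⟨α, β, rfl⟩ := exists_eq_add_of_commute b m hb hm
  obtain ⟨α', β', rfl⟩ := exists_eq_add_of_commute b m' hb hm'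
  simp only [add_mul, mul_add, smul_mul_assoc, mul_smul_comm, one_mul, mul_one]
  module


/-- an involution of determinant one is `± 1` -/
theorem eq_one_or_neg_one_of_sq_of_det (h2 : (2 : F) ≠ 0) (g : Matrix (Fin 2) (Fin 2) F)
    (hg : g * g = 1) (hd : g.det = 1) : g = 1 ∨ g = -1 := by
  have h00 := congrFun (congrFun hg 0) 0
  have h01 := congrFun (congrFun hg 0) 1
  have h10 := congrFun (congrFun hg 1) 0
  have h11 := congrFun (congrFun hg 1) 1
  simp only [Matrix.mul_apply, Fin.sum_univ_two, Matrix.one_apply_eq, Matrix.one_apply_ne,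
    ne_eq, zero_ne_one, one_ne_zero, not_false_eq_true, Fin.isValue] at h00 h01 h10 h11
  rw [Matrix.det_fin_two] at hd
  by_cases hs : g 0 0 + g 1 1 = 0
  · exfalso
    have e : g 1 1 = - g 0 0 := by linear_combination hs
    rw [e] at hd h11
    apply h2
    have : (2 : F) = 0 := by linear_combination -hd - h00
    exact this
  · have b0 : g 0 1 = 0 := by
      have : g 0 1 * (g 0 0 + g 1 1) = 0 := by linear_combination h01
      rcases mul_eq_zero.mp this with h | h
      · exact h
      · exact absurd h hs
    have c0 : g 1 0 = 0 := by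
      have : g 1 0 * (g 0 0 + g 1 1) = 0 := by linear_combination h10
      rcases mul_eq_zero.mp this with h | h
      · exact h
      · exact absurd h hs
    rw [b0, c0] at hd h00 h11
    have ha : g 0 0 = 1 ∨ g 0 0 = -1 := by
      have : (g 0 0 - 1) * (g 0 0 + 1) = 0 := by linear_combination h00
      rcases mul_eq_zero.mp this with h | h
      · left; linear_combination h
      · right; linear_combination h
    rcases ha with ha | ha
    · left
      have hd1 : g 1 1 = 1 := by rw [ha] at hd; linear_combination hd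
      ext i j
      fin_cases i <;> fin_cases j <;> simp [ha, hd1, b0, c0]
    · right
      have hd1 : g 1 1 = -1 := by rw [ha] at hd; linear_combination -hd
      ext i j
      fin_cases i <;> fin_cases j <;> simp [ha, hd1, b0, c0]

theorem smul_one_add_smul_eq_zero {b : Matrix (Fin 2) (Fin 2) F}
    (hb : ¬ ∃ c : F, b = c • (1 : Matrix (Fin 2) (Fin 2) F)) {x y : F}
    (h : x • (1 : Matrix (Fin 2) (Fin 2) F) + y • b = 0) : x = 0 ∧ y = 0 := by
  have hy : y = 0 := by
    by_contra hy
    apply hb
    refine ⟨-x / y, ?_⟩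
    have h1 : y • b = -(x • (1 : Matrix (Fin 2) (Fin 2) F)) := by
      rw [← sub_eq_zero, sub_neg_eq_add, add_comm]; exact h
    have h2 : b = y⁻¹ • (y • b) := by rw [smul_smul, inv_mul_cancel₀ hy, one_smul]
    rw [h2, h1, smul_neg, smul_smul, ← neg_smul]
    congr 1
    field_simp
  refine ⟨?_, hy⟩
  rw [hy, zero_smul, add_zero] at h
  have := congrFun (congrFun h 0) 0
  simpa using this

/-- involutions commuting with a non-scalar involution `d` are `± 1, ± d` -/
theorem involution_commuting (h2 : (2 : F) ≠ 0) (d g : Matrix (Fin 2) (Fin 2) F)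
    (hd : ¬ ∃ c : F, d = c • (1 : Matrix (Fin 2) (Fin 2) F)) (hdd : d * d = 1)
    (hg : g * g = 1) (hgd : g * d = d * g) : g = 1 ∨ g = -1 ∨ g = d ∨ g = -d := by
  obtain ⟨α, β, rfl⟩ := exists_eq_add_of_commute d g hd hgd
  have e : (α • (1 : Matrix (Fin 2) (Fin 2) F) + β • d) * (α • (1 : Matrix (Fin 2) (Fin 2) F) + β • d)
      = (α * α + β * β) • (1 : Matrix (Fin 2) (Fin 2) F) + (2 * α * β) • d := by
    simp only [add_mul, mul_add, smul_mul_assoc, mul_smul_comm, one_mul, mul_one, hdd]
    module
  rw [e] at hg
  have h0 : (α * α + β * β - 1) • (1 : Matrix (Fin 2) (Fin 2) F) + (2 * α * β) • d = 0 := by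
    rw [sub_smul, one_smul, sub_add_eq_add_sub, hg, sub_self]
  obtain ⟨h3, h4⟩ := smul_one_add_smul_eq_zero hd h0
  have h5 : α * β = 0 := by
    have : 2 * (α * β) = 0 := by linear_combination h4
    rcases mul_eq_zero.mp this with h | h
    · exact absurd h h2
    · exact h
  rcases mul_eq_zero.mp h5 with h | h
  · have hb : β = 1 ∨ β = -1 := by
      have : (β - 1) * (β + 1) = 0 := by rw [h] at h3; linear_combination h3
      rcases mul_eq_zero.mp this with h' | h'
      · left; linear_combination h'
      · right; linear_combination h'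
    rcases hb with hb | hb
    · right; right; left; rw [h, hb]; simp
    · right; right; right; rw [h, hb]; simp
  · have ha : α = 1 ∨ α = -1 := by
      have : (α - 1) * (α + 1) = 0 := by rw [h] at h3; linear_combination h3
      rcases mul_eq_zero.mp this with h' | h'
      · left; linear_combination h'
      · right; linear_combination h'
    rcases ha with ha | ha
    · left; rw [h, ha]; simp
    · right; left; rw [h, ha]; simp

/-- a scalar involution is `± 1` -/
theorem scalar_involution (c : F) (h : (c • (1 : Matrix (Fin 2) (Fin 2) F)) * (c • 1) = 1) :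
    c = 1 ∨ c = -1 := by
  have := congrFun (congrFun h 0) 0
  simp only [smul_mul_assoc, mul_smul_comm, one_mul, smul_smul, Matrix.smul_apply,
    Matrix.one_apply_eq, smul_eq_mul, mul_one] at this
  have : (c - 1) * (c + 1) = 0 := by linear_combination this
  rcases mul_eq_zero.mp this with h' | h'
  · left; linear_combination h'
  · right; linear_combination h'

/-- a set of pairwise commuting involutions of `M₂(F)` lies in some `{± 1, ± d}` -/
theorem exists_subset_of_commuting_involutions (h2 : (2 : F) ≠ 0)
    (S : Set (Matrix (Fin 2) (Fin 2) F)) (h1 : ∀ s ∈ S, s * s = 1)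
    (hc : ∀ s ∈ S, ∀ t ∈ S, s * t = t * s) :
    ∃ d : Matrix (Fin 2) (Fin 2) F, S ⊆ {1, -1, d, -d} := by
  by_cases hs : ∀ s ∈ S, ∃ c : F, s = c • (1 : Matrix (Fin 2) (Fin 2) F)
  · refine ⟨1, ?_⟩
    intro s hsS
    obtain ⟨c, rfl⟩ := hs s hsS
    rcases scalar_involution c (h1 _ hsS) with h | h
    · left; rw [h, one_smul]
    · right; left; rw [h, neg_smul, one_smul]
  · push Not at hs
    obtain ⟨d, hdS, hd⟩ := hs
    refine ⟨d, ?_⟩
    intro s hsS
    have hd' : ¬ ∃ c : F, d = c • (1 : Matrix (Fin 2) (Fin 2) F) := by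
      rintro ⟨c, hc'⟩; exact hd c hc'
    rcases involution_commuting h2 d s hd' (h1 d hdS) (h1 s hsS) (hc s hsS d hdS) with h | h | h | h
    · left; exact h
    · right; left; exact h
    · right; right; left; exact h
    · right; right; right; exact h

theorem ncard_le_four_of_commuting_involutions (h2 : (2 : F) ≠ 0)
    (S : Set (Matrix (Fin 2) (Fin 2) F)) (h1 : ∀ s ∈ S, s * s = 1)
    (hc : ∀ s ∈ S, ∀ t ∈ S, s * t = t * s) : S.ncard ≤ 4 := by
  obtain ⟨d, hd⟩ := exists_subset_of_commuting_involutions h2 S h1 hc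
  have hfin : ({1, -1, d, -d} : Set (Matrix (Fin 2) (Fin 2) F)).Finite := by
    simp only [Set.finite_insert, Set.finite_singleton]
  calc S.ncard ≤ ({1, -1, d, -d} : Set (Matrix (Fin 2) (Fin 2) F)).ncard :=
        Set.ncard_le_ncard hd hfin
    _ ≤ 4 := by
        classical
        have e : ({1, -1, d, -d} : Set (Matrix (Fin 2) (Fin 2) F))
            = ((({1, -1, d, -d} : Finset (Matrix (Fin 2) (Fin 2) F))) : Set _) := by
          simp
        rw [e, Set.ncard_coe_finset]
        exact Finset.card_le_four

end Cfsg.Agent.Lib.Helper9.G3
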