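import Mathlib

/-!
# Helper9 library G3B: a `2`-subgroup of `GL₃(F)`, `|F|` odd, embeds into `F^× × GL₂(F)`

A `2`-group acting on `F³` fixes a line; after a change of basis it consists of matrices with
first column `(c, 0, 0)`; the maps `g ↦ c` and `g ↦` lower right `2 × 2` block are
homomorphisms with trivial joint kernel on the group.
-/

set_option autoImplicit false

namespace Cfsg.Agent.Lib.Helper9.G3

open Matrix
open scoped LinearAlgebra.Projectivization

variable {F : Type*} [Field F]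

/-- the matrices with first column `(c, 0, 0)` -/
def Par (F : Type*) [Field F] : Submonoid (Matrix (Fin 3) (Fin 3) F) where
  carrier := {m | m 1 0 = 0 ∧ m 2 0 = 0}
  mul_mem' := by
    rintro a b ⟨ha1, ha2⟩ ⟨hb1, hb2⟩
    constructor
    · simp [Matrix.mul_apply, Fin.sum_univ_three, ha1, hb1, hb2]
    · simp [Matrix.mul_apply, Fin.sum_univ_three, ha2, hb1, hb2]
  one_mem' := by
    constructor <;> simp

theorem mem_Par {m : Matrix (Fin 3) (Fin 3) F} : m ∈ Par F ↔ m 1 0 = 0 ∧ m 2 0 = 0 := Iff.rfl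

/-- the corner entry, as a monoid homomorphism -/
def cornerHom (F : Type*) [Field F] : Par F →* F where
  toFun m := (m : Matrix (Fin 3) (Fin 3) F) 0 0
  map_one' := by simp
  map_mul' := by
    rintro ⟨a, ha1, ha2⟩ ⟨b, hb1, hb2⟩
    simp [Matrix.mul_apply, Fin.sum_univ_three, hb1, hb2]

/-- the lower right block of a `3 × 3` matrix -/
def block (m : Matrix (Fin 3) (Fin 3) F) : Matrix (Fin 2) (Fin 2) F :=
  !![m 1 1, m 1 2; m 2 1, m 2 2]

/-- the lower right block, as a monoid homomorphism -/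
def blockHom (F : Type*) [Field F] : Par F →* Matrix (Fin 2) (Fin 2) F where
  toFun m := block (m : Matrix (Fin 3) (Fin 3) F)
  map_one' := by
    ext i j
    fin_cases i <;> fin_cases j <;> simp [block]
  map_mul' := by
    rintro ⟨a, ha1, ha2⟩ ⟨b, hb1, hb2⟩
    ext i j
    fin_cases i <;> fin_cases j <;>
      simp [block, Matrix.mul_apply, Fin.sum_univ_three, Fin.sum_univ_two, ha1, ha2]

theorem cornerHom_apply (m : Par F) : cornerHom F m = (m : Matrix (Fin 3) (Fin 3) F) 0 0 := rfl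

theorem blockHom_apply (m : Par F) : blockHom F m = block (m : Matrix (Fin 3) (Fin 3) F) := rfl

/-- powers of a matrix in the joint kernel -/
theorem pow_of_kernel (m : Matrix (Fin 3) (Fin 3) F) (h10 : m 1 0 = 0) (h20 : m 2 0 = 0)
    (h00 : m 0 0 = 1) (hb : block m = 1) (n : ℕ) :
    (m ^ n) 0 1 = n * m 0 1 ∧ (m ^ n) 0 2 = n * m 0 2 ∧ (m ^ n) 0 0 = 1 := by
  have h11 : m 1 1 = 1 := by
    have := congrFun (congrFun hb 0) 0; simpa [block] using this
  have h12 : m 1 2 = 0 := by
    have := congrFun (congrFun hb 0) 1; simpa [block] using this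
  have h21 : m 2 1 = 0 := by
    have := congrFun (congrFun hb 1) 0; simpa [block] using this
  have h22 : m 2 2 = 1 := by
    have := congrFun (congrFun hb 1) 1; simpa [block] using this
  induction n with
  | zero => simp
  | succ n ih =>
    obtain ⟨i1, i2, i0⟩ := ih
    rw [pow_succ]
    refine ⟨?_, ?_, ?_⟩
    · simp only [Matrix.mul_apply, Fin.sum_univ_three, i1, i2, i0, h11, h21]
      push_cast; ring
    · simp only [Matrix.mul_apply, Fin.sum_univ_three, i1, i2, i0, h12, h22]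
      push_cast; ring
    · simp only [Matrix.mul_apply, Fin.sum_univ_three, i1, i2, i0, h10, h20, h00]
      ring

/-- an element of `2`-power order in the joint kernel is trivial -/
theorem eq_one_of_kernel (h2 : (2 : F) ≠ 0) (m : Matrix (Fin 3) (Fin 3) F) (h10 : m 1 0 = 0)
    (h20 : m 2 0 = 0) (h00 : m 0 0 = 1) (hb : block m = 1) (k : ℕ) (hk : m ^ (2 ^ k) = 1) :
    m = 1 := by
  obtain ⟨e1, e2, -⟩ := pow_of_kernel m h10 h20 h00 hb (2 ^ k)
  rw [hk] at e1 e2
  have hne : ((2 ^ k : ℕ) : F) ≠ 0 := by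
    push_cast
    exact pow_ne_zero _ h2
  have h01 : m 0 1 = 0 := by
    have : ((2 ^ k : ℕ) : F) * m 0 1 = 0 := by rw [← e1]; simp
    rcases mul_eq_zero.mp this with h | h
    · exact absurd h hne
    · exact h
  have h02 : m 0 2 = 0 := by
    have : ((2 ^ k : ℕ) : F) * m 0 2 = 0 := by rw [← e2]; simp
    rcases mul_eq_zero.mp this with h | h
    · exact absurd h hne
    · exact h
  have h11 : m 1 1 = 1 := by
    have := congrFun (congrFun hb 0) 0; simpa [block] using this
  have h12 : m 1 2 = 0 := by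
    have := congrFun (congrFun hb 0) 1; simpa [block] using this
  have h21 : m 2 1 = 0 := by
    have := congrFun (congrFun hb 1) 0; simpa [block] using this
  have h22 : m 2 2 = 1 := by
    have := congrFun (congrFun hb 1) 1; simpa [block] using this
  ext i j
  fin_cases i <;> fin_cases j <;> simp [h00, h01, h02, h10, h11, h12, h20, h21, h22]

theorem exists_conj_mem_Par {X : Type*} [Group X] [Finite X] (hX : IsPGroup 2 X) [Fintype F]
    (hF : Odd (Fintype.card F)) (f : X →* GL (Fin 3) F) :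
    ∃ P : GL (Fin 3) F, ∀ x : X,
      ((P⁻¹ * f x * P : GL (Fin 3) F) : Matrix (Fin 3) (Fin 3) F) ∈ Par F := by
  classical
  let φ : X →* LinearMap.GeneralLinearGroup F (Fin 3 → F) :=
    (Matrix.GeneralLinearGroup.toLin : GL (Fin 3) F ≃* _).toMonoidHom.comp f
  let _ : MulAction X (ℙ F (Fin 3 → F)) := MulAction.compHom _ φ
  have hcard : ¬ 2 ∣ Nat.card (ℙ F (Fin 3 → F)) := by
    rw [Projectivization.card_of_finrank F (Fin 3 → F) (n := 3) (by simp)]
    rw [Finset.sum_range_succ, Finset.sum_range_succ, Finset.sum_range_one, Nat.card_eq_fintype_card]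
    obtain ⟨k, hk⟩ := hF
    rw [hk]
    intro h
    have : (2 * k + 1) ^ 0 + (2 * k + 1) ^ 1 + (2 * k + 1) ^ 2 = 2 * (2 * k * k + 3 * k + 1) + 1 := by
      ring
    rw [this] at h
    omega
  obtain ⟨D, hD⟩ := hX.nonempty_fixed_point_of_prime_not_dvd_card (ℙ F (Fin 3 → F)) hcard
  have he0 : (Pi.single 0 1 : Fin 3 → F) ≠ 0 := by
    intro h
    have := congrFun h 0
    simp at this
  have : MulAction.IsPretransitive (LinearMap.GeneralLinearGroup F (Fin 3 → F))
      (ℙ F (Fin 3 → F)) := MulAction.isPretransitive_of_is_two_pretransitive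
  obtain ⟨g0, hg0⟩ := MulAction.exists_smul_eq (LinearMap.GeneralLinearGroup F (Fin 3 → F))
    (Projectivization.mk F (Pi.single 0 1 : Fin 3 → F) he0) D
  refine ⟨Matrix.GeneralLinearGroup.toLin.symm g0, ?_⟩
  intro x
  set P : GL (Fin 3) F := Matrix.GeneralLinearGroup.toLin.symm g0 with hP
  have hg0P : ∀ v : Fin 3 → F, g0 • v = (P : Matrix (Fin 3) (Fin 3) F) *ᵥ v := by
    intro v
    have h1 : g0 = Matrix.GeneralLinearGroup.toLin P := by
      rw [hP, MulEquiv.apply_symm_apply]
    rw [h1]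
    change ((Matrix.GeneralLinearGroup.toLin P : (Fin 3 → F) →ₗ[F] Fin 3 → F)) v = _
    rw [Matrix.GeneralLinearGroup.coe_toLin]
    rfl
  have hφ : ∀ v : Fin 3 → F, φ x • v = ((f x : GL (Fin 3) F) : Matrix (Fin 3) (Fin 3) F) *ᵥ v := by
    intro v
    change ((Matrix.GeneralLinearGroup.toLin (f x) : (Fin 3 → F) →ₗ[F] Fin 3 → F)) v = _
    rw [Matrix.GeneralLinearGroup.coe_toLin]
    rfl
  have hx : φ x • D = D := hD x
  rw [← hg0, Projectivization.smul_mk, Projectivization.smul_mk,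
    Projectivization.mk_eq_mk_iff] at hx
  obtain ⟨a, ha⟩ := hx
  rw [hφ, hg0P] at ha
  set e0 : Fin 3 → F := Pi.single 0 1 with he0'
  set M : Matrix (Fin 3) (Fin 3) F := ((P⁻¹ * f x * P : GL (Fin 3) F) : Matrix (Fin 3) (Fin 3) F)
    with hM
  have hMe : M *ᵥ e0 = (a : F) • e0 := by
    have e1 : M = ((P⁻¹ : GL (Fin 3) F) : Matrix (Fin 3) (Fin 3) F) *
        ((f x : GL (Fin 3) F) : Matrix (Fin 3) (Fin 3) F) * (P : Matrix (Fin 3) (Fin 3) F) := by
      rw [hM]; simp
    rw [e1, ← Matrix.mulVec_mulVec, ← Matrix.mulVec_mulVec, ← ha]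
    have e2 : (a • ((P : Matrix (Fin 3) (Fin 3) F) *ᵥ e0) : Fin 3 → F)
        = (a : F) • ((P : Matrix (Fin 3) (Fin 3) F) *ᵥ e0) := rfl
    rw [e2, Matrix.mulVec_smul, Matrix.mulVec_mulVec]
    have e3 : ((P⁻¹ : GL (Fin 3) F) : Matrix (Fin 3) (Fin 3) F) * (P : Matrix (Fin 3) (Fin 3) F)
        = 1 := by
      rw [← Matrix.GeneralLinearGroup.coe_mul, inv_mul_cancel]; rfl
    rw [e3, Matrix.one_mulVec]
  have hcol : ∀ i, M i 0 = (a : F) * e0 i := by
    intro i
    have := congrFun hMe i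
    rw [he0', Matrix.mulVec_single_one] at this
    simpa using this
  refine ⟨?_, ?_⟩
  · rw [hcol 1, he0']; simp
  · rw [hcol 2, he0']; simp


theorem two_ne_zero_of_odd_card [Fintype F] (hF : Odd (Fintype.card F)) : (2 : F) ≠ 0 := by
  intro h
  have hc : ringChar F = 2 := by
    have h1 : ringChar F ∣ 2 := ringChar.dvd (R := F) (by exact_mod_cast h)
    have : Fact (ringChar F).Prime := ⟨CharP.char_is_prime F (ringChar F)⟩
    exact (Nat.prime_dvd_prime_iff_eq (Fact.out) Nat.prime_two).mp h1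
  have h3 := FiniteField.even_card_of_char_two hc
  rw [Nat.odd_iff] at hF
  omega

/-- a finite `2`-group of matrices in `GL₃(F)`, `|F|` odd, maps to `F^× × GL₂(F)` with trivial
joint kernel -/
theorem exists_homs {X : Type*} [Group X] [Finite X] (hX : IsPGroup 2 X) [Fintype F]
    (hF : Odd (Fintype.card F)) (f : X →* GL (Fin 3) F) (hf : Function.Injective f) :
    ∃ (χ : X →* Fˣ) (π : X →* GL (Fin 2) F), ∀ x, χ x = 1 → π x = 1 → x = 1 := by
  obtain ⟨P, hP⟩ := exists_conj_mem_Par hX hF f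
  have h2 := two_ne_zero_of_odd_card hF
  let ψ : X →* Par F :=
    { toFun := fun x => ⟨((P⁻¹ * f x * P : GL (Fin 3) F) : Matrix (Fin 3) (Fin 3) F), hP x⟩
      map_one' := by
        apply Subtype.ext
        simp
      map_mul' := by
        intro x y
        apply Subtype.ext
        have : P⁻¹ * f (x * y) * P = (P⁻¹ * f x * P) * (P⁻¹ * f y * P) := by
          rw [map_mul]; group
        simp only [this, Submonoid.coe_mul, Matrix.GeneralLinearGroup.coe_mul] }
  refine ⟨((cornerHom F).comp ψ).toHomUnits, ((blockHom F).comp ψ).toHomUnits, ?_⟩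
  intro x h1 h3
  have h1' : ((P⁻¹ * f x * P : GL (Fin 3) F) : Matrix (Fin 3) (Fin 3) F) 0 0 = 1 := by
    have := congrArg (fun u : Fˣ => (u : F)) h1
    simpa [MonoidHom.coe_toHomUnits, cornerHom_apply, ψ] using this
  have h3' : block ((P⁻¹ * f x * P : GL (Fin 3) F) : Matrix (Fin 3) (Fin 3) F) = 1 := by
    have := congrArg (fun u : GL (Fin 2) F => (u : Matrix (Fin 2) (Fin 2) F)) h3
    simpa [MonoidHom.coe_toHomUnits, blockHom_apply, ψ] using this
  obtain ⟨k, hk⟩ := hX x
  have hpow : (((P⁻¹ * f x * P : GL (Fin 3) F) : Matrix (Fin 3) (Fin 3) F)) ^ (2 ^ k) = 1 := by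
    rw [← Units.val_pow_eq_pow_val]
    have : (P⁻¹ * f x * P) ^ (2 ^ k) = 1 := by
      have e : P⁻¹ * f x * P = P⁻¹ * f x * P⁻¹⁻¹ := by rw [inv_inv]
      rw [e, conj_pow, ← map_pow, hk, map_one]; group
    rw [this]; rfl
  have hM := eq_one_of_kernel h2 _ (hP x).1 (hP x).2 h1' h3' k hpow
  have hM' : P⁻¹ * f x * P = 1 := by
    apply Units.ext
    rw [hM]; rfl
  have hfx : f x = 1 := by
    have : f x = P * (P⁻¹ * f x * P) * P⁻¹ := by group
    rw [this, hM']; group
  exact hf (by rw [hfx, map_one])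

end Cfsg.Agent.Lib.Helper9.G3
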