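import Cfsg.Agent.Lib.Helper9.G3A

/-!
# Helper9 library G3C: groups embedded in `F^× × GL₂(F)`

`LinDat X F`: homomorphisms `χ : X →* Fˣ`, `π : X →* GL₂(F)` with trivial joint kernel,
`2 ≠ 0` in `F`. Structure of a non-abelian finite `2`-group `X` with such data.
-/

set_option autoImplicit false

namespace Cfsg.Agent.Lib.Helper9.G3

open Matrix
open scoped commutatorElement

/-- a group embedded in `F^× × GL₂(F)` -/
structure LinDat (X : Type*) [Group X] (F : Type*) [Field F] where
  χ : X →* Fˣ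
  π : X →* GL (Fin 2) F
  hinj : ∀ x, χ x = 1 → π x = 1 → x = 1
  h2 : (2 : F) ≠ 0

namespace LinDat

variable {X : Type*} [Group X] {F : Type*} [Field F] (D : LinDat X F)

/-- the matrix of `π x` -/
def m (x : X) : Matrix (Fin 2) (Fin 2) F := ((D.π x : GL (Fin 2) F) : Matrix (Fin 2) (Fin 2) F)

theorem m_mul (x y : X) : D.m (x * y) = D.m x * D.m y := by
  unfold m; rw [map_mul]; rfl

theorem m_one : D.m 1 = 1 := by
  unfold m; rw [map_one]; rfl

theorem m_inv_mul (x : X) : D.m x⁻¹ * D.m x = 1 := by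
  rw [← m_mul, inv_mul_cancel, m_one]

theorem m_mul_inv (x : X) : D.m x * D.m x⁻¹ = 1 := by
  rw [← m_mul, mul_inv_cancel, m_one]

theorem pi_eq_of_m_eq {x y : X} (h : D.m x = D.m y) : D.π x = D.π y := Units.ext h

theorem eq_of {x y : X} (h1 : D.χ x = D.χ y) (h2 : D.m x = D.m y) : x = y := by
  have h3 := D.pi_eq_of_m_eq h2
  have : x * y⁻¹ = 1 := by
    apply D.hinj
    · rw [map_mul, map_inv, h1, mul_inv_cancel]
    · rw [map_mul, map_inv, h3, mul_inv_cancel]
  exact mul_inv_eq_one.mp this

theorem comm_of_m_comm {x y : X} (h : D.m x * D.m y = D.m y * D.m x) : x * y = y * x := by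
  apply D.eq_of
  · rw [map_mul, map_mul, mul_comm]
  · rw [m_mul, m_mul, h]

/-- scalar image under `π` means central -/
theorem comm_of_scalar {z : X} {c : F} (hz : D.m z = c • (1 : Matrix (Fin 2) (Fin 2) F)) (x : X) :
    z * x = x * z := by
  apply D.comm_of_m_comm
  rw [hz]; simp

/-- in a non-abelian group, central elements have scalar image -/
theorem scalar_of_central (hX : ∃ x y : X, x * y ≠ y * x) {z : X} (hz : ∀ x, z * x = x * z) :
    ∃ c : F, D.m z = c • (1 : Matrix (Fin 2) (Fin 2) F) := by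
  by_contra hns
  obtain ⟨x, y, hxy⟩ := hX
  apply hxy
  apply D.comm_of_m_comm
  apply commute_of_commute_nonscalar (D.m z) _ _ hns
  · rw [← m_mul, ← m_mul, hz x]
  · rw [← m_mul, ← m_mul, hz y]

theorem chi_sq {z : X} (hz : z * z = 1) : D.χ z = 1 ∨ D.χ z = -1 := by
  have h1 : D.χ z * D.χ z = 1 := by rw [← map_mul, hz, map_one]
  have h2 : ((D.χ z : Fˣ) : F) * ((D.χ z : Fˣ) : F) = 1 := by
    rw [← Units.val_mul, h1]; rfl
  have h3 : (((D.χ z : Fˣ) : F) - 1) * (((D.χ z : Fˣ) : F) + 1) = 0 := by linear_combination h2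
  rcases mul_eq_zero.mp h3 with h | h
  · left; apply Units.ext; rw [Units.val_one]; linear_combination h
  · right; apply Units.ext; rw [Units.val_neg, Units.val_one]; linear_combination h

theorem m_sq {z : X} (hz : z * z = 1) : D.m z * D.m z = 1 := by
  rw [← m_mul, hz, m_one]

/-- elements of the commutator subgroup have `χ = 1` and `det π = 1` -/
theorem commutator_le_ker :
    commutator X ≤ (D.χ.prod ((Matrix.GeneralLinearGroup.det).comp D.π)).ker :=
  Abelianization.commutator_subset_ker _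

theorem chi_of_mem_commutator {w : X} (hw : w ∈ commutator X) : D.χ w = 1 := by
  have := D.commutator_le_ker hw
  rw [MonoidHom.mem_ker, MonoidHom.prod_apply, Prod.mk_eq_one] at this
  exact this.1

theorem det_of_mem_commutator {w : X} (hw : w ∈ commutator X) : (D.m w).det = 1 := by
  have := D.commutator_le_ker hw
  rw [MonoidHom.mem_ker, MonoidHom.prod_apply, Prod.mk_eq_one] at this
  have h2 := congrArg (fun u : Fˣ => (u : F)) this.2
  simpa [m] using h2

/-- an involution of the commutator subgroup has `π = ± 1` -/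
theorem m_of_involution_commutator {w : X} (hw : w ∈ commutator X) (h : w * w = 1) :
    D.m w = 1 ∨ D.m w = -1 :=
  eq_one_or_neg_one_of_sq_of_det D.h2 _ (D.m_sq h) (D.det_of_mem_commutator hw)

theorem eq_one_of_m_eq_one {w : X} (h1 : D.χ w = 1) (h : D.m w = 1) : w = 1 :=
  D.hinj w h1 (Units.ext h)

include D in
/-- the commutator subgroup has at most one involution -/
theorem involution_commutator_unique {w w' : X} (hw : w ∈ commutator X) (h : w * w = 1)
    (hw1 : w ≠ 1) (hw' : w' ∈ commutator X) (h' : w' * w' = 1) (hw1' : w' ≠ 1) : w = w' := by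
  have c1 := D.chi_of_mem_commutator hw
  have c2 := D.chi_of_mem_commutator hw'
  have m1 : D.m w = -1 := by
    rcases D.m_of_involution_commutator hw h with h0 | h0
    · exact absurd (D.eq_one_of_m_eq_one c1 h0) hw1
    · exact h0
  have m2 : D.m w' = -1 := by
    rcases D.m_of_involution_commutator hw' h' with h0 | h0
    · exact absurd (D.eq_one_of_m_eq_one c2 h0) hw1'
    · exact h0
  exact D.eq_of (by rw [c1, c2]) (by rw [m1, m2])


/-- the unique involution of the commutator subgroup of a non-abelian `2`-group -/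
theorem exists_z2 [Finite X] (hp : IsPGroup 2 X) (hX : ∃ x y : X, x * y ≠ y * x) :
    ∃ z2 : X, z2 ∈ commutator X ∧ z2 ≠ 1 ∧ z2 * z2 = 1 ∧ D.χ z2 = 1 ∧ D.m z2 = -1 := by
  have : Fact (Nat.Prime 2) := ⟨Nat.prime_two⟩
  obtain ⟨x, y, hxy⟩ := hX
  have hne : commutator X ≠ ⊥ := by
    intro h
    apply hxy
    have h1 : ⁅x, y⁆ ∈ commutator X := by
      rw [commutator_def]
      exact Subgroup.commutator_mem_commutator (Subgroup.mem_top x) (Subgroup.mem_top y)
    rw [h, Subgroup.mem_bot, commutatorElement_def] at h1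
    calc x * y = (x * y * x⁻¹ * y⁻¹) * (y * x) := by group
      _ = y * x := by rw [h1, one_mul]
  have hpc : IsPGroup 2 (commutator X) := hp.to_subgroup _
  obtain ⟨n, hn⟩ := IsPGroup.iff_card.mp hpc
  have hn0 : n ≠ 0 := by
    rintro rfl
    rw [pow_zero] at hn
    exact hne (Subgroup.card_eq_one.mp hn)
  have hdvd : 2 ∣ Nat.card (commutator X) := by
    rw [hn]; exact dvd_pow_self 2 hn0
  obtain ⟨w, hw⟩ := exists_prime_orderOf_dvd_card' 2 hdvd
  have hw1 : (w : X) ≠ 1 := by
    intro h
    have : w = 1 := Subtype.ext h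
    rw [this, orderOf_one] at hw
    omega
  have hww : (w : X) * (w : X) = 1 := by
    have := pow_orderOf_eq_one w
    rw [hw, pow_two] at this
    have := congrArg Subtype.val this
    simpa using this
  have hc := D.chi_of_mem_commutator w.2
  refine ⟨w, w.2, hw1, hww, hc, ?_⟩
  rcases D.m_of_involution_commutator w.2 hww with h0 | h0
  · exact absurd (D.eq_one_of_m_eq_one hc h0) hw1
  · exact h0

/-- an elementary abelian subgroup of order `8` meets the kernel of `π` -/
theorem exists_z1 (E : Subgroup X) (hEc : ∀ a ∈ E, ∀ b ∈ E, a * b = b * a)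
    (hE2 : ∀ e ∈ E, e * e = 1) (hE8 : Nat.card E = 8) :
    ∃ z1 : X, z1 ∈ E ∧ z1 ≠ 1 ∧ z1 * z1 = 1 ∧ D.χ z1 = -1 ∧ D.m z1 = 1 := by
  have hS : ((fun e : X => D.m e) '' (E : Set X)).ncard ≤ 4 := by
    apply ncard_le_four_of_commuting_involutions D.h2
    · rintro _ ⟨e, he, rfl⟩
      exact D.m_sq (hE2 e he)
    · rintro _ ⟨e, he, rfl⟩ _ ⟨e', he', rfl⟩
      simp only
      rw [← m_mul, ← m_mul, hEc e he e' he']
  have hninj : ¬ Set.InjOn (fun e : X => D.m e) (E : Set X) := by
    intro h
    have := Set.InjOn.ncard_image h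
    rw [this] at hS
    have h8 : (E : Set X).ncard = 8 := by
      rw [← hE8]; rfl
    omega
  unfold Set.InjOn at hninj
  push Not at hninj
  obtain ⟨e1, he1, e2, he2, hm, hne⟩ := hninj
  have hz : e1 * e2⁻¹ ∈ E := E.mul_mem he1 (E.inv_mem he2)
  have hz1 : e1 * e2⁻¹ ≠ 1 := fun h => hne (mul_inv_eq_one.mp h)
  have hm1 : D.m (e1 * e2⁻¹) = 1 := by
    rw [m_mul]
    have hm' : D.m e1 = D.m e2 := hm
    rw [hm', m_mul_inv]
  refine ⟨e1 * e2⁻¹, hz, hz1, hE2 _ hz, ?_, hm1⟩
  rcases D.chi_sq (hE2 _ hz) with h | h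
  · exact absurd (D.eq_one_of_m_eq_one h hm1) hz1
  · exact h

/-- central involutions -/
theorem central_involution (hX : ∃ x y : X, x * y ≠ y * x) {z1 z2 : X}
    (h1c : D.χ z1 = -1) (h1m : D.m z1 = 1) (h2c : D.χ z2 = 1) (h2m : D.m z2 = -1)
    {z : X} (hz : ∀ x, z * x = x * z) (hzz : z * z = 1) :
    z = 1 ∨ z = z1 ∨ z = z2 ∨ z = z1 * z2 := by
  obtain ⟨c, hc⟩ := D.scalar_of_central hX hz
  have hcc : c = 1 ∨ c = -1 := by
    apply scalar_involution
    rw [← hc]; exact D.m_sq hzz
  have hm : D.m z = 1 ∨ D.m z = -1 := by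
    rcases hcc with h | h
    · left; rw [hc, h, one_smul]
    · right; rw [hc, h, neg_smul, one_smul]
  rcases D.chi_sq hzz with h | h <;> rcases hm with h' | h'
  · left; exact D.eq_one_of_m_eq_one h h'
  · right; right; left
    exact D.eq_of (by rw [h, h2c]) (by rw [h', h2m])
  · right; left
    exact D.eq_of (by rw [h, h1c]) (by rw [h', h1m])
  · right; right; right
    apply D.eq_of
    · rw [map_mul, h, h1c, h2c, mul_one]
    · rw [m_mul, h', h1m, h2m, one_mul]

end LinDat

/-- a non-abelian finite `p`-group has a non-central element which is central modulo the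
centre -/
theorem exists_second_center {X : Type*} [Group X] [Finite X] {p : ℕ} [Fact p.Prime]
    (hp : IsPGroup p X) (hX : ∃ x y : X, x * y ≠ y * x) :
    ∃ b : X, (∃ x, b * x ≠ x * b) ∧ ∀ x y : X, (b * x * b⁻¹ * x⁻¹) * y = y * (b * x * b⁻¹ * x⁻¹) := by
  have hZ : Subgroup.center X ≠ ⊤ := by
    intro h
    obtain ⟨x, y, hxy⟩ := hX
    apply hxy
    have hx : x ∈ Subgroup.center X := by rw [h]; exact Subgroup.mem_top x
    exact ((Subgroup.mem_center_iff.mp hx) y).symm
  have : Nontrivial (X ⧸ Subgroup.center X) := by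
    rw [QuotientGroup.nontrivial_iff]
    exact hZ
  have hpQ : IsPGroup p (X ⧸ Subgroup.center X) := hp.to_quotient _
  obtain ⟨q, hq⟩ := @exists_ne _ (hpQ.center_nontrivial) 1
  obtain ⟨b, hb⟩ := QuotientGroup.mk_surjective (q : X ⧸ Subgroup.center X)
  have hbZ : b ∉ Subgroup.center X := by
    intro h
    apply hq
    apply Subtype.ext
    rw [← hb]
    exact (QuotientGroup.eq_one_iff b).mpr h
  refine ⟨b, ?_, ?_⟩
  · by_contra hcon
    push Not at hcon
    apply hbZ
    rw [Subgroup.mem_center_iff]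
    intro x
    exact (hcon x).symm
  · intro x y
    have hmem : b * x * b⁻¹ * x⁻¹ ∈ Subgroup.center X := by
      rw [← QuotientGroup.eq_one_iff]
      simp only [QuotientGroup.mk_mul, QuotientGroup.mk_inv, hb]
      have := (Subgroup.mem_center_iff.mp q.2) (x : X ⧸ Subgroup.center X)
      rw [← this]
      group
    exact ((Subgroup.mem_center_iff.mp hmem) y).symm

namespace LinDat

variable {X : Type*} [Group X] {F : Type*} [Field F] (D : LinDat X F)

theorem comm_elt_mem_commutator (b x : X) : b * x * b⁻¹ * x⁻¹ ∈ commutator X := by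
  have h1 : ⁅b, x⁆ ∈ commutator X := by
    rw [commutator_def]
    exact Subgroup.commutator_mem_commutator (Subgroup.mem_top b) (Subgroup.mem_top x)
  rwa [commutatorElement_def] at h1

include D in
/-- a non-abelian finite `2`-group in `F^× × GL₂(F)` has an abelian subgroup of index `2`
with at most `8` elements of order dividing `2` -/
theorem exists_abelian_index_two [Finite X] (hp : IsPGroup 2 X)
    (hX : ∃ x y : X, x * y ≠ y * x) :
    ∃ A : Subgroup X, A.index = 2 ∧ (∀ a ∈ A, ∀ b ∈ A, a * b = b * a) ∧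
      {a : X | a ∈ A ∧ a * a = 1}.ncard ≤ 8 := by
  have : Fact (Nat.Prime 2) := ⟨Nat.prime_two⟩
  obtain ⟨z2, hz2c, hz21, hz22, hz2χ, hz2m⟩ := D.exists_z2 hp hX
  obtain ⟨b, ⟨x0, hx0⟩, hb⟩ := exists_second_center hp hX
  -- `π b` is not scalar
  have hbns : ¬ ∃ c : F, D.m b = c • (1 : Matrix (Fin 2) (Fin 2) F) := by
    rintro ⟨c, hc⟩
    exact hx0 (D.comm_of_scalar hc x0)
  -- the commutators `[b, x]` are `1` or `z2`
  have hdich : ∀ x : X, b * x * b⁻¹ * x⁻¹ = 1 ∨ b * x * b⁻¹ * x⁻¹ = z2 := by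
    intro x
    have hmem := comm_elt_mem_commutator b x
    obtain ⟨c, hc⟩ := D.scalar_of_central hX (fun y => hb x y)
    have hdet := D.det_of_mem_commutator hmem
    rw [hc, Matrix.det_smul, Matrix.det_one, mul_one, Fintype.card_fin] at hdet
    have hcc : c = 1 ∨ c = -1 := by
      have : (c - 1) * (c + 1) = 0 := by linear_combination hdet
      rcases mul_eq_zero.mp this with h | h
      · left; linear_combination h
      · right; linear_combination h
    have hχ := D.chi_of_mem_commutator hmem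
    rcases hcc with h | h
    · left
      apply D.eq_one_of_m_eq_one hχ
      rw [hc, h, one_smul]
    · right
      apply D.eq_of (by rw [hχ, hz2χ])
      rw [hc, h, neg_smul, one_smul, hz2m]
  have hz2cent : ∀ y : X, z2 * y = y * z2 := by
    intro y
    apply D.comm_of_scalar (c := -1)
    rw [hz2m, neg_smul, one_smul]
  have hmemA : ∀ x : X, x ∈ Subgroup.centralizer ({b} : Set X) ↔ b * x * b⁻¹ * x⁻¹ = 1 := by
    intro x
    rw [Subgroup.mem_centralizer_singleton_iff]
    constructor
    · intro h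
      calc b * x * b⁻¹ * x⁻¹ = (x * b) * b⁻¹ * x⁻¹ := by rw [h]
        _ = 1 := by group
    · intro h
      calc x * b = (b * x * b⁻¹ * x⁻¹)⁻¹ * (b * x) := by group
        _ = b * x := by rw [h, inv_one, one_mul]
  refine ⟨Subgroup.centralizer ({b} : Set X), ?_, ?_, ?_⟩
  · rw [Subgroup.index_eq_two_iff]
    have hx0' : b * x0 * b⁻¹ * x0⁻¹ = z2 := by
      rcases hdich x0 with h | h
      · exfalso
        apply hx0
        have := (hmemA x0).mpr h
        rw [Subgroup.mem_centralizer_singleton_iff] at this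
        exact this.symm
      · exact h
    refine ⟨x0, fun x => ?_⟩
    have hprod : b * (x * x0) * b⁻¹ * (x * x0)⁻¹ = (b * x * b⁻¹ * x⁻¹) * z2 := by
      calc b * (x * x0) * b⁻¹ * (x * x0)⁻¹
          = (b * x * b⁻¹ * x⁻¹) * (x * (b * x0 * b⁻¹ * x0⁻¹) * x⁻¹) := by group
        _ = (b * x * b⁻¹ * x⁻¹) * (x * z2 * x⁻¹) := by rw [hx0']
        _ = (b * x * b⁻¹ * x⁻¹) * z2 := by rw [← hz2cent x]; group
    rw [hmemA, hmemA, hprod]
    rcases hdich x with h | h
    · rw [h, one_mul]
      right
      exact ⟨rfl, hz21⟩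
    · rw [h, hz22]
      left
      exact ⟨rfl, hz21⟩
  · intro a ha c hc
    rw [Subgroup.mem_centralizer_singleton_iff] at ha hc
    apply D.comm_of_m_comm
    apply commute_of_commute_nonscalar (D.m b) _ _ hbns
    · rw [← m_mul, ← m_mul, ha]
    · rw [← m_mul, ← m_mul, hc]
  · set T : Set X := {a : X | a ∈ Subgroup.centralizer ({b} : Set X) ∧ a * a = 1} with hT
    have hS : ((fun e : X => D.m e) '' T).ncard ≤ 4 := by
      apply ncard_le_four_of_commuting_involutions D.h2
      · rintro _ ⟨e, he, rfl⟩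
        exact D.m_sq he.2
      · rintro _ ⟨e, he, rfl⟩ _ ⟨e', he', rfl⟩
        have h1 := he.1
        have h2 := he'.1
        rw [Subgroup.mem_centralizer_singleton_iff] at h1 h2
        apply commute_of_commute_nonscalar (D.m b) _ _ hbns
        · rw [← m_mul, ← m_mul, h1]
        · rw [← m_mul, ← m_mul, h2]
    have hSfin : ((fun e : X => D.m e) '' T).Finite := (Set.toFinite T).image _
    have hinj : Set.InjOn (fun e : X => (D.χ e, D.m e)) T := by
      intro e _ e' _ h
      simp only [Prod.mk.injEq] at h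
      exact D.eq_of h.1 h.2
    have hsub : (fun e : X => (D.χ e, D.m e)) '' T ⊆
        ({1, -1} : Set Fˣ) ×ˢ ((fun e : X => D.m e) '' T) := by
      rintro _ ⟨e, he, rfl⟩
      refine ⟨?_, e, he, rfl⟩
      rcases D.chi_sq he.2 with h | h
      · left; exact h
      · right; exact h
    have h2fin : ({1, -1} : Set Fˣ).Finite := by simp
    calc T.ncard = ((fun e : X => (D.χ e, D.m e)) '' T).ncard := (Set.InjOn.ncard_image hinj).symm
      _ ≤ (({1, -1} : Set Fˣ) ×ˢ ((fun e : X => D.m e) '' T)).ncard :=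
          Set.ncard_le_ncard hsub (h2fin.prod hSfin)
      _ = ({1, -1} : Set Fˣ).ncard * ((fun e : X => D.m e) '' T).ncard := Set.ncard_prod
      _ ≤ 2 * 4 := by
          apply Nat.mul_le_mul _ hS
          exact Set.ncard_insert_le _ _ |>.trans (by simp)
      _ = 8 := by norm_num

end LinDat

end Cfsg.Agent.Lib.Helper9.G3
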