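import Cfsg.Agent.Lib.Helper9.G3B
import Cfsg.Agent.Lib.Helper9.G3C

/-!
# Helper9 library G3D: the abstract data of a non-abelian `2`-subgroup of `GL₃(F)` containing `E₈`

`Dat X` (for `X : Subgroup G`): an abelian subgroup `A` of index `2`, central involutions
`z1, z2` exhausting the central involutions of `X`, `z2` the unique involution of `X'`,
`z1 ∉ X'`, at most `8` involutions in `A`.
-/

set_option autoImplicit false

namespace Cfsg.Agent.Lib.Helper9.G3

open Matrix

/-- abstract data -/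
structure Dat {G : Type*} [Group G] (X : Subgroup G) where
  A : Subgroup G
  hAX : A ≤ X
  hAc : ∀ a ∈ A, ∀ b ∈ A, a * b = b * a
  hAi : A.relIndex X = 2
  z1 : G
  z2 : G
  hz1X : z1 ∈ X
  hz2X : z2 ∈ X
  hz1c : ∀ x ∈ X, z1 * x = x * z1
  hz2c : ∀ x ∈ X, z2 * x = x * z2
  hz1s : z1 * z1 = 1
  hz2s : z2 * z2 = 1
  hz1 : z1 ≠ 1
  hz2 : z2 ≠ 1
  hz2d : z2 ∈ ⁅X, X⁆
  hz1d : z1 ∉ ⁅X, X⁆
  hinv : ∀ w ∈ ⁅X, X⁆, w * w = 1 → w = 1 ∨ w = z2
  hcen : ∀ z ∈ X, (∀ x ∈ X, z * x = x * z) → z * z = 1 → z = 1 ∨ z = z1 ∨ z = z2 ∨ z = z1 * z2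
  hΩA : {a : G | a ∈ A ∧ a * a = 1}.ncard ≤ 8
  hnc : ∃ x ∈ X, ∃ y ∈ X, x * y ≠ y * x

variable {G : Type*} [Group G]

theorem mem_commutator_subtype {X : Subgroup G} {w : G} (hw : w ∈ ⁅X, X⁆) :
    ∃ hwX : w ∈ X, (⟨w, hwX⟩ : X) ∈ commutator X := by
  rw [← Subgroup.map_subtype_commutator] at hw
  obtain ⟨w', hw', rfl⟩ := hw
  exact ⟨w'.2, hw'⟩

theorem coe_mem_commutator {X : Subgroup G} {w : X} (hw : w ∈ commutator X) :
    (w : G) ∈ ⁅X, X⁆ := by
  rw [← Subgroup.map_subtype_commutator]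
  exact ⟨w, hw, rfl⟩

/-- the data exist for a non-abelian finite `2`-group embedded in `F^× × GL₂(F)` and containing
an elementary abelian subgroup of order `8` -/
theorem nonempty_dat {F : Type*} [Field F] (X : Subgroup G) [Finite X] (hp : IsPGroup 2 X)
    (D : LinDat X F) (hnc : ∃ x ∈ X, ∃ y ∈ X, x * y ≠ y * x)
    (E : Subgroup G) (hEX : E ≤ X) (hEc : ∀ a ∈ E, ∀ b ∈ E, a * b = b * a)
    (hE2 : ∀ e ∈ E, e * e = 1) (hE8 : Nat.card E = 8) : Nonempty (Dat X) := by
  have hX : ∃ x y : X, x * y ≠ y * x := by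
    obtain ⟨x, hx, y, hy, hxy⟩ := hnc
    refine ⟨⟨x, hx⟩, ⟨y, hy⟩, ?_⟩
    intro h
    apply hxy
    exact congrArg Subtype.val h
  obtain ⟨z2, hz2c, hz21, hz22, hz2χ, hz2m⟩ := D.exists_z2 hp hX
  obtain ⟨z1, -, hz11, hz1s, hz1χ, hz1m⟩ := D.exists_z1 (E.subgroupOf X)
    (by
      intro a ha b hb
      rw [Subgroup.mem_subgroupOf] at ha hb
      exact Subtype.ext (hEc _ ha _ hb))
    (by
      intro e he
      rw [Subgroup.mem_subgroupOf] at he
      exact Subtype.ext (hE2 _ he))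
    (by
      rw [← hE8]
      exact Nat.card_congr (Subgroup.subgroupOfEquivOfLe hEX).toEquiv)
  obtain ⟨A, hAi, hAc, hAΩ⟩ := D.exists_abelian_index_two hp hX
  have hz1cent : ∀ y : X, z1 * y = y * z1 := by
    intro y
    apply D.comm_of_scalar (c := 1)
    rw [hz1m, one_smul]
  have hz2cent : ∀ y : X, z2 * y = y * z2 := by
    intro y
    apply D.comm_of_scalar (c := -1)
    rw [hz2m, neg_smul, one_smul]
  refine ⟨{
    A := A.map X.subtype
    hAX := Subgroup.map_subtype_le A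
    hAc := ?_
    hAi := ?_
    z1 := z1
    z2 := z2
    hz1X := z1.2
    hz2X := z2.2
    hz1c := ?_
    hz2c := ?_
    hz1s := congrArg Subtype.val hz1s
    hz2s := congrArg Subtype.val hz22
    hz1 := fun h => hz11 (Subtype.ext h)
    hz2 := fun h => hz21 (Subtype.ext h)
    hz2d := coe_mem_commutator hz2c
    hz1d := ?_
    hinv := ?_
    hcen := ?_
    hΩA := ?_
    hnc := hnc }⟩
  · rintro _ ⟨a, ha, rfl⟩ _ ⟨b, hb, rfl⟩
    exact congrArg Subtype.val (hAc a ha b hb)
  · rw [Subgroup.relIndex, ← Subgroup.comap_subtype,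
      Subgroup.comap_map_eq_self_of_injective X.subtype_injective]
    exact hAi
  · intro x hx
    exact congrArg Subtype.val (hz1cent ⟨x, hx⟩)
  · intro x hx
    exact congrArg Subtype.val (hz2cent ⟨x, hx⟩)
  · intro h
    obtain ⟨hX1, h1⟩ := mem_commutator_subtype h
    have := D.chi_of_mem_commutator h1
    have e : (⟨(z1 : G), hX1⟩ : X) = z1 := rfl
    rw [e, hz1χ] at this
    have h3 := congrArg (fun u : Fˣ => (u : F)) this
    simp only [Units.val_neg, Units.val_one] at h3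
    apply D.h2
    linear_combination -h3
  · intro w hw hww
    obtain ⟨hwX, hw'⟩ := mem_commutator_subtype hw
    by_cases h1 : w = 1
    · left; exact h1
    · right
      have := D.involution_commutator_unique hw' (Subtype.ext hww)
        (fun h => h1 (congrArg Subtype.val h)) hz2c hz22 hz21
      exact congrArg Subtype.val this
  · intro z hz hzc hzz
    have := D.central_involution hX hz1χ hz1m hz2χ hz2m (z := ⟨z, hz⟩)
      (fun x => Subtype.ext (hzc x x.2)) (Subtype.ext hzz)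
    rcases this with h | h | h | h
    · left; exact congrArg Subtype.val h
    · right; left; exact congrArg Subtype.val h
    · right; right; left; exact congrArg Subtype.val h
    · right; right; right; exact congrArg Subtype.val h
  · have e : {a : G | a ∈ A.map X.subtype ∧ a * a = 1}
        = (fun a : X => (a : G)) '' {a : X | a ∈ A ∧ a * a = 1} := by
      ext a
      constructor
      · rintro ⟨⟨a', ha', rfl⟩, h2⟩
        exact ⟨a', ⟨ha', Subtype.ext h2⟩, rfl⟩
      · rintro ⟨a', ⟨ha', h2⟩, rfl⟩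
        exact ⟨⟨a', ha', rfl⟩, congrArg Subtype.val h2⟩
    rw [e, Set.ncard_image_of_injective _ Subtype.val_injective]
    exact hAΩ

end Cfsg.Agent.Lib.Helper9.G3
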