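import Cfsg.Agent.Lib.Helper9.G3D
import Cfsg.Agent.Lib.Helper22.TransferFix

/-!
# Helper9 library G3E: first consequences of the data `Dat X`, `X` a Sylow `2`-subgroup

* `A` is normal in `X`, contains the centre and the commutator subgroup of `X`;
* the four central involutions `1, z1, z2, z1 z2` are pairwise non-conjugate in `G`;
* if `G` has no subgroup of index `2`, they lie in every maximal subgroup of `X`
  (extremal Thompson transfer).
-/

set_option autoImplicit false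
set_option linter.unusedSectionVars false

namespace Cfsg.Agent.Lib.Helper9.G3

open Cfsg.Agent.Lib.Helper22.TransferFix

variable {G : Type*} [Group G]

/-- homomorphisms to `ℤˣ` are trivial on a group without subgroups of index `2` -/
theorem hom_eq_one_of_no_index_two (hG : ∀ H : Subgroup G, H.index ≠ 2) (φ : G →* ℤˣ) (g : G) :
    φ g = 1 := by
  by_contra h
  have h1 : φ g = -1 := by
    rcases Int.units_eq_one_or (φ g) with h' | h'
    · exact absurd h' h
    · exact h'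
  apply hG φ.ker
  rw [Subgroup.index_ker]
  have htop : φ.range = ⊤ := by
    rw [eq_top_iff]
    intro u _
    rcases Int.units_eq_one_or u with h' | h'
    · rw [h']; exact Subgroup.one_mem _
    · rw [h', ← h1]; exact ⟨g, rfl⟩
  rw [htop, Subgroup.card_top, Nat.card_eq_fintype_card]
  rfl

theorem map_conj_eq_of_mem_normalizer {X : Subgroup G} {n : G}
    (hn : n ∈ Subgroup.normalizer (X : Set G)) : X.map (MulAut.conj n).toMonoidHom = X := by
  ext x
  constructor
  · rintro ⟨y, hy, rfl⟩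
    exact (Subgroup.mem_normalizer_iff.mp hn y).mp hy
  · intro hx
    refine ⟨n⁻¹ * x * n, ?_, ?_⟩
    · have := (Subgroup.mem_normalizer_iff.mp (Subgroup.inv_mem _ hn) x).mp hx
      rwa [inv_inv] at this
    · simp [MulAut.conj_apply, mul_assoc]

namespace Dat

variable {X : Subgroup G} (d : Dat X)

theorem mul_mem_A_iff {x y : G} (hx : x ∈ X) (hy : y ∈ X) :
    x * y ∈ d.A ↔ (x ∈ d.A ↔ y ∈ d.A) :=
  mul_mem_iff_of_relIndex_two d.hAi hx hy

theorem conj_mem_A {x a : G} (hx : x ∈ X) (ha : a ∈ d.A) : x * a * x⁻¹ ∈ d.A := by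
  have := (conj_mem_of_relIndex_two d.hAi (X.inv_mem hx) (d.hAX ha)).mpr ha
  rwa [inv_inv] at this

theorem conj_mem_A' {x a : G} (hx : x ∈ X) (ha : a ∈ d.A) : x⁻¹ * a * x ∈ d.A :=
  (conj_mem_of_relIndex_two d.hAi hx (d.hAX ha)).mpr ha

theorem exists_not_mem_A : ∃ t ∈ X, t ∉ d.A := by
  by_contra h
  push Not at h
  have hle : X ≤ d.A := fun x hx => h x hx
  have := d.hAi
  rw [Subgroup.relIndex_eq_one.mpr hle] at this
  omega

theorem inv_not_mem_A {s : G} (hsA : s ∉ d.A) : s⁻¹ ∉ d.A := fun h =>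
  hsA (by simpa using d.A.inv_mem h)

theorem mul_inv_mem_A {x s : G} (hx : x ∈ X) (hxA : x ∉ d.A) (hs : s ∈ X) (hsA : s ∉ d.A) :
    x * s⁻¹ ∈ d.A := by
  rw [d.mul_mem_A_iff hx (X.inv_mem hs)]
  exact ⟨fun h => absurd h hxA, fun h => absurd h (d.inv_not_mem_A hsA)⟩

theorem commutator_le_A : ⁅X, X⁆ ≤ d.A := by
  rw [Subgroup.commutator_le]
  intro x hx y hy
  rw [commutatorElement_def]
  exact comm_mem_of_relIndex_two d.hAi hx hy

/-- an element of `A` commuting with an element outside `A` is central in `X` -/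
theorem central_of_comm {a s : G} (ha : a ∈ d.A) (hs : s ∈ X) (hsA : s ∉ d.A)
    (h : a * s = s * a) : ∀ x ∈ X, a * x = x * a := by
  intro x hx
  by_cases hxA : x ∈ d.A
  · exact d.hAc a ha x hxA
  · have h1 := d.mul_inv_mem_A hx hxA hs hsA
    have h2 := d.hAc a ha _ h1
    calc a * x = a * (x * s⁻¹) * s := by group
      _ = (x * s⁻¹) * a * s := by rw [h2]
      _ = (x * s⁻¹) * (a * s) := by group
      _ = (x * s⁻¹) * (s * a) := by rw [h]
      _ = x * a := by group

/-- central elements of `X` lie in `A` -/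
theorem central_mem_A {z : G} (hz : z ∈ X) (hzc : ∀ x ∈ X, z * x = x * z) : z ∈ d.A := by
  by_contra hzA
  obtain ⟨x, hx, y, hy, hxy⟩ := d.hnc
  apply hxy
  have key : ∀ w ∈ X, (∀ a ∈ d.A, w * a = a * w) := by
    intro w hw a ha
    by_cases hwA : w ∈ d.A
    · exact d.hAc w hwA a ha
    · have h1 := d.mul_inv_mem_A hw hwA hz hzA
      have h2 := d.hAc _ h1 a ha
      have h3 := hzc a (d.hAX ha)
      calc w * a = (w * z⁻¹) * (z * a) := by group
        _ = (w * z⁻¹) * (a * z) := by rw [h3]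
        _ = ((w * z⁻¹) * a) * z := by group
        _ = (a * (w * z⁻¹)) * z := by rw [h2]
        _ = a * w := by group
  by_cases hyA : y ∈ d.A
  · exact key x hx y hyA
  · have h1 := d.mul_inv_mem_A hy hyA hz hzA
    have h2 := key x hx _ h1
    have h3 := hzc x hx
    calc x * y = (x * (y * z⁻¹)) * z := by group
      _ = ((y * z⁻¹) * x) * z := by rw [h2]
      _ = (y * z⁻¹) * (x * z) := by group
      _ = (y * z⁻¹) * (z * x) := by rw [h3]
      _ = y * x := by group

theorem z1_ne_z2 : d.z1 ≠ d.z2 := fun h => d.hz1d (h ▸ d.hz2d)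

theorem z1z2_not_mem_commutator : d.z1 * d.z2 ∉ ⁅X, X⁆ := by
  intro h
  apply d.hz1d
  have := Subgroup.mul_mem _ h d.hz2d
  rwa [mul_assoc, d.hz2s, mul_one] at this

theorem z1z2_ne_one : d.z1 * d.z2 ≠ 1 := fun h =>
  d.z1z2_not_mem_commutator (h ▸ Subgroup.one_mem _)

theorem z1z2_sq : (d.z1 * d.z2) * (d.z1 * d.z2) = 1 := by
  have h := d.hz1c d.z2 d.hz2X
  calc (d.z1 * d.z2) * (d.z1 * d.z2) = d.z1 * (d.z2 * d.z1) * d.z2 := by group
    _ = d.z1 * (d.z1 * d.z2) * d.z2 := by rw [h]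
    _ = (d.z1 * d.z1) * (d.z2 * d.z2) := by group
    _ = 1 := by rw [d.hz1s, d.hz2s, one_mul]

/-- the central involutions of `X` -/
def Z0 : Set G := {1, d.z1, d.z2, d.z1 * d.z2}

theorem mem_Z0_iff {z : G} : z ∈ d.Z0 ↔ z = 1 ∨ z = d.z1 ∨ z = d.z2 ∨ z = d.z1 * d.z2 := by
  unfold Z0; simp

theorem Z0_mem {z : G} (hz : z ∈ d.Z0) : z ∈ X := by
  rcases d.mem_Z0_iff.mp hz with h | h | h | h <;> rw [h]
  · exact X.one_mem
  · exact d.hz1X
  · exact d.hz2X
  · exact X.mul_mem d.hz1X d.hz2X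

theorem Z0_central {z : G} (hz : z ∈ d.Z0) : ∀ x ∈ X, z * x = x * z := by
  intro x hx
  rcases d.mem_Z0_iff.mp hz with h | h | h | h <;> rw [h]
  · simp
  · exact d.hz1c x hx
  · exact d.hz2c x hx
  · rw [mul_assoc, d.hz2c x hx, ← mul_assoc, d.hz1c x hx, mul_assoc]

theorem Z0_sq {z : G} (hz : z ∈ d.Z0) : z * z = 1 := by
  rcases d.mem_Z0_iff.mp hz with h | h | h | h <;> rw [h]
  · simp
  · exact d.hz1s
  · exact d.hz2s
  · exact d.z1z2_sq

theorem mem_Z0_of_central {z : G} (hz : z ∈ X) (hzc : ∀ x ∈ X, z * x = x * z) (hzz : z * z = 1) :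
    z ∈ d.Z0 := d.mem_Z0_iff.mpr (d.hcen z hz hzc hzz)

theorem Z0_mem_A {z : G} (hz : z ∈ d.Z0) : z ∈ d.A := d.central_mem_A (d.Z0_mem hz) (d.Z0_central hz)

end Dat

section sylow

variable {G : Type*} [Group G] [Finite G]

/-- a `2`-element normalizing a Sylow `2`-subgroup lies in it -/
theorem mem_sylow_of_mem_normalizer (P : Sylow 2 G) {n : G}
    (hn : n ∈ Subgroup.normalizer ((P : Subgroup G) : Set G)) {k : ℕ} (hk : n ^ (2 ^ k) = 1) :
    n ∈ (P : Subgroup G) := by
  have : Fact (Nat.Prime 2) := ⟨Nat.prime_two⟩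
  have h1 : IsPGroup 2 (Subgroup.zpowers n) := by
    have hord : orderOf n ∣ 2 ^ k := orderOf_dvd_of_pow_eq_one hk
    obtain ⟨j, -, hj⟩ := (Nat.dvd_prime_pow Nat.prime_two).mp hord
    apply IsPGroup.of_card (n := j)
    rw [Nat.card_zpowers, hj]
  have h2 : Subgroup.zpowers n ≤ Subgroup.normalizer ((P : Subgroup G) : Set G) :=
    Subgroup.zpowers_le.mpr hn
  have h3 : IsPGroup 2 (Subgroup.zpowers n ⊔ (P : Subgroup G) : Subgroup G) :=
    IsPGroup.to_sup_of_normal_right' h1 P.isPGroup' h2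
  have h4 := P.is_maximal' h3 le_sup_right
  rw [← h4]
  exact le_sup_left (a := Subgroup.zpowers n) (Subgroup.mem_zpowers n)

/-- an odd power of an element normalizing a Sylow `2`-subgroup lies in it -/
theorem exists_odd_pow_mem (P : Sylow 2 G) {n : G}
    (hn : n ∈ Subgroup.normalizer ((P : Subgroup G) : Set G)) :
    ∃ m : ℕ, Odd m ∧ n ^ m ∈ (P : Subgroup G) := by
  have ho : orderOf n ≠ 0 := (orderOf_pos n).ne'
  obtain ⟨k, m, hm, hkm⟩ := Nat.exists_eq_two_pow_mul_odd ho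
  refine ⟨m, hm, ?_⟩
  apply mem_sylow_of_mem_normalizer P (Subgroup.pow_mem _ hn m) (k := k)
  rw [← pow_mul, mul_comm, ← hkm, pow_orderOf_eq_one]

namespace Dat

variable {P : Sylow 2 G} (d : Dat (P : Subgroup G))

theorem conj_mem_of_normalizer {n x : G}
    (hn : n ∈ Subgroup.normalizer ((P : Subgroup G) : Set G)) (hx : x ∈ (P : Subgroup G)) :
    n * x * n⁻¹ ∈ (P : Subgroup G) := (Subgroup.mem_normalizer_iff.mp hn x).mp hx

theorem conj_mem_of_normalizer' {n x : G}
    (hn : n ∈ Subgroup.normalizer ((P : Subgroup G) : Set G)) (hx : x ∈ (P : Subgroup G)) :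
    n⁻¹ * x * n ∈ (P : Subgroup G) := by
  have := (Subgroup.mem_normalizer_iff.mp (Subgroup.inv_mem _ hn) x).mp hx
  rwa [inv_inv] at this

/-- a conjugate of a central involution by a normalizing element is a central involution -/
theorem conj_mem_Z0 {n z : G} (hn : n ∈ Subgroup.normalizer ((P : Subgroup G) : Set G))
    (hz : z ∈ d.Z0) : n * z * n⁻¹ ∈ d.Z0 := by
  apply d.mem_Z0_of_central (conj_mem_of_normalizer hn (d.Z0_mem hz))
  · intro x hx
    have h1 := d.Z0_central hz _ (conj_mem_of_normalizer' hn hx)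
    calc n * z * n⁻¹ * x = n * (z * (n⁻¹ * x * n)) * n⁻¹ := by group
      _ = n * ((n⁻¹ * x * n) * z) * n⁻¹ := by rw [h1]
      _ = x * (n * z * n⁻¹) := by group
  · calc n * z * n⁻¹ * (n * z * n⁻¹) = n * (z * z) * n⁻¹ := by group
      _ = 1 := by rw [d.Z0_sq hz]; group

theorem conj_z2 {n : G} (hn : n ∈ Subgroup.normalizer ((P : Subgroup G) : Set G)) :
    n * d.z2 * n⁻¹ = d.z2 := by
  have h1 : n * d.z2 * n⁻¹ ∈ ⁅(P : Subgroup G), (P : Subgroup G)⁆ := by
    have h2 : (⁅(P : Subgroup G), (P : Subgroup G)⁆).map (MulAut.conj n).toMonoidHom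
        = ⁅(P : Subgroup G), (P : Subgroup G)⁆ := by
      rw [Subgroup.map_commutator, map_conj_eq_of_mem_normalizer hn]
    rw [← h2]
    exact ⟨d.z2, d.hz2d, by simp [MulAut.conj_apply]⟩
  have h3 : n * d.z2 * n⁻¹ * (n * d.z2 * n⁻¹) = 1 := by
    calc n * d.z2 * n⁻¹ * (n * d.z2 * n⁻¹) = n * (d.z2 * d.z2) * n⁻¹ := by group
      _ = 1 := by rw [d.hz2s]; group
  rcases d.hinv _ h1 h3 with h | h
  · exfalso
    apply d.hz2
    calc d.z2 = n⁻¹ * (n * d.z2 * n⁻¹) * n := by group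
      _ = 1 := by rw [h]; group
  · exact h

theorem conj_z1_cases {n : G} (hn : n ∈ Subgroup.normalizer ((P : Subgroup G) : Set G)) :
    n * d.z1 * n⁻¹ = d.z1 ∨ n * d.z1 * n⁻¹ = d.z1 * d.z2 := by
  have hz1 : d.z1 ∈ d.Z0 := d.mem_Z0_iff.mpr (Or.inr (Or.inl rfl))
  rcases d.mem_Z0_iff.mp (d.conj_mem_Z0 hn hz1) with h | h | h | h
  · exfalso
    apply d.hz1
    calc d.z1 = n⁻¹ * (n * d.z1 * n⁻¹) * n := by group
      _ = 1 := by rw [h]; group
  · left; exact h
  · exfalso
    apply d.z1_ne_z2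
    have h2 := d.conj_z2 hn
    calc d.z1 = n⁻¹ * (n * d.z1 * n⁻¹) * n := by group
      _ = n⁻¹ * (n * d.z2 * n⁻¹) * n := by rw [h, h2]
      _ = d.z2 := by group
  · right; exact h

theorem conj_z1 {n : G} (hn : n ∈ Subgroup.normalizer ((P : Subgroup G) : Set G)) :
    n * d.z1 * n⁻¹ = d.z1 := by
  rcases d.conj_z1_cases hn with h | h
  · exact h
  · exfalso
    have h2 := d.conj_z2 hn
    have hswap : n * (d.z1 * d.z2) * n⁻¹ = d.z1 := by
      calc n * (d.z1 * d.z2) * n⁻¹ = (n * d.z1 * n⁻¹) * (n * d.z2 * n⁻¹) := by group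
        _ = d.z1 * d.z2 * d.z2 := by rw [h, h2]
        _ = d.z1 := by rw [mul_assoc, d.hz2s, mul_one]
    have key : ∀ j : ℕ, n ^ (2 * j) * d.z1 * (n ^ (2 * j))⁻¹ = d.z1 ∧
        n ^ (2 * j + 1) * d.z1 * (n ^ (2 * j + 1))⁻¹ = d.z1 * d.z2 := by
      intro j
      induction j with
      | zero => simpa using h
      | succ j ih =>
        have e1 : n ^ (2 * (j + 1)) * d.z1 * (n ^ (2 * (j + 1)))⁻¹
            = n * (n ^ (2 * j + 1) * d.z1 * (n ^ (2 * j + 1))⁻¹) * n⁻¹ := by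
          have : 2 * (j + 1) = (2 * j + 1) + 1 := by ring
          rw [this, pow_succ']; group
        have e2 : n ^ (2 * (j + 1)) * d.z1 * (n ^ (2 * (j + 1)))⁻¹ = d.z1 := by
          rw [e1, ih.2, hswap]
        refine ⟨e2, ?_⟩
        have e3 : n ^ (2 * (j + 1) + 1) * d.z1 * (n ^ (2 * (j + 1) + 1))⁻¹
            = n * (n ^ (2 * (j + 1)) * d.z1 * (n ^ (2 * (j + 1)))⁻¹) * n⁻¹ := by
          rw [pow_succ' n (2 * (j + 1))]; group
        rw [e3, e2, h]
    obtain ⟨m, ⟨j, hj⟩, hm⟩ := exists_odd_pow_mem P hn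
    have h3 := (key j).2
    rw [← hj] at h3
    have h4 := d.hz1c _ hm
    have h5 : n ^ m * d.z1 * (n ^ m)⁻¹ = d.z1 := by
      rw [← h4]; group
    rw [h5] at h3
    apply d.hz2
    calc d.z2 = d.z1⁻¹ * (d.z1 * d.z2) := by group
      _ = d.z1⁻¹ * d.z1 := by rw [← h3]
      _ = 1 := by group

/-- the normalizer of `X` centralizes the central involutions -/
theorem conj_Z0_of_normalizer {n z : G}
    (hn : n ∈ Subgroup.normalizer ((P : Subgroup G) : Set G)) (hz : z ∈ d.Z0) :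
    n * z * n⁻¹ = z := by
  rcases d.mem_Z0_iff.mp hz with h | h | h | h <;> rw [h]
  · group
  · exact d.conj_z1 hn
  · exact d.conj_z2 hn
  · calc n * (d.z1 * d.z2) * n⁻¹ = (n * d.z1 * n⁻¹) * (n * d.z2 * n⁻¹) := by group
      _ = d.z1 * d.z2 := by rw [d.conj_z1 hn, d.conj_z2 hn]

/-- the central involutions are pairwise non-conjugate in `G` (Burnside) -/
theorem conj_Z0 {z z' g : G} (hz : z ∈ d.Z0) (hz' : z' ∈ d.Z0) (h : g * z * g⁻¹ = z') :
    z = z' := by
  have : Fact (Nat.Prime 2) := ⟨Nat.prime_two⟩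
  have hc : ∀ {w : G}, w ∈ d.Z0 → w ∈ Subgroup.centralizer ((P : Subgroup G) : Set G) := by
    intro w hw
    rw [Subgroup.mem_centralizer_iff]
    intro x hx
    exact (d.Z0_central hw x hx).symm
  obtain ⟨n, hn, hn'⟩ := Sylow.conj_eq_normalizer_conj_of_mem_centralizer P z g⁻¹ (hc hz)
    (by rw [inv_inv, h]; exact hc hz')
  rw [inv_inv, h] at hn'
  have := d.conj_Z0_of_normalizer (Subgroup.inv_mem _ hn) hz
  rw [inv_inv] at this
  rw [hn', this]


/-- extremal Thompson transfer: without subgroups of index `2` in `G`, the central involutions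
of `X` lie in every maximal subgroup of `X` -/
theorem Z0_mem_of_relIndex_two (hG : ∀ H : Subgroup G, H.index ≠ 2) {z : G} (hz : z ∈ d.Z0)
    (M : Subgroup G) (hMX : M ≤ (P : Subgroup G)) (hMi : M.relIndex (P : Subgroup G) = 2) :
    z ∈ M := by
  have : Fact (Nat.Prime 2) := ⟨Nat.prime_two⟩
  obtain ⟨g, hgM, hgP⟩ := exists_conj_fixed (P : Subgroup G) M hMX hMi P.not_dvd_index z
    (d.Z0_sq hz) (hom_eq_one_of_no_index_two hG _ z) (P : Subgroup G) P.isPGroup'
    (fun r hr => (d.Z0_central hz r hr).symm)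
  -- `g⁻¹` normalizes `X`
  have hle : (P : Subgroup G).map (MulAut.conj g⁻¹).toMonoidHom ≤ (P : Subgroup G) := by
    rintro _ ⟨r, hr, rfl⟩
    have := hgP r hr
    simpa [MulAut.conj_apply] using this
  have hcard : Nat.card ((P : Subgroup G).map (MulAut.conj g⁻¹).toMonoidHom)
      = Nat.card (P : Subgroup G) :=
    Subgroup.card_map_of_injective (MulAut.conj g⁻¹).injective
  have heq : (P : Subgroup G).map (MulAut.conj g⁻¹).toMonoidHom = (P : Subgroup G) :=
    Subgroup.eq_of_le_of_card_ge hle hcard.ge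
  have hn : g⁻¹ ∈ Subgroup.normalizer ((P : Subgroup G) : Set G) := by
    rw [Subgroup.mem_normalizer_iff]
    intro x
    constructor
    · intro hx
      rw [← heq]
      exact ⟨x, hx, rfl⟩
    · intro hx
      rw [← heq] at hx
      obtain ⟨y, hy, hxy⟩ := hx
      have : y = x := by
        have h1 : (MulAut.conj g⁻¹) y = (MulAut.conj g⁻¹) x := by
          rw [MulAut.conj_apply]
          simpa using hxy
        exact (MulAut.conj g⁻¹).injective h1
      rwa [← this]
  have := d.conj_Z0_of_normalizer hn hz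
  rw [inv_inv] at this
  rwa [this] at hgM

end Dat

end sylow

end Cfsg.Agent.Lib.Helper9.G3
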