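import Cfsg.Agent.Lib.Helper9.G3E

/-!
# Helper9 library G3F: odd automorphisms of subgroups of `X` not contained in `A`

Key lemma: for `U ≤ X` with `C_X(U) ≤ U`, `U ≰ A`, and `g ∈ N_G(U)` of odd order, every
`a⁻¹ · g a g⁻¹` (`a ∈ U`) has its square in `X'`.
-/

set_option autoImplicit false
set_option linter.unusedSectionVars false

namespace Cfsg.Agent.Lib.Helper9.G3

variable {G : Type*} [Group G] [Finite G]

/-- if `g` of odd order maps `u` to `u w`, fixes `w`, and `w` is a `2`-element, then `w = 1` -/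
theorem eq_one_of_odd_conj {g u w : G} (hg : Odd (orderOf g)) (h1 : g * u * g⁻¹ = u * w)
    (h2 : g * w * g⁻¹ = w) {j : ℕ} (hw : w ^ (2 ^ j) = 1) : w = 1 := by
  have key : ∀ k : ℕ, g ^ k * u * (g ^ k)⁻¹ = u * w ^ k := by
    intro k
    induction k with
    | zero => simp
    | succ k ih =>
      have hwk : g * w ^ k * g⁻¹ = w ^ k := by
        have := conj_pow (a := g) (b := w) (i := k)
        rw [h2] at this
        exact this.symm
      calc g ^ (k + 1) * u * (g ^ (k + 1))⁻¹ = g * (g ^ k * u * (g ^ k)⁻¹) * g⁻¹ := by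
            rw [pow_succ']; group
        _ = g * (u * w ^ k) * g⁻¹ := by rw [ih]
        _ = (g * u * g⁻¹) * (g * w ^ k * g⁻¹) := by group
        _ = u * w * w ^ k := by rw [h1, hwk]
        _ = u * w ^ (k + 1) := by rw [pow_succ', mul_assoc]
  have h3 := key (orderOf g)
  rw [pow_orderOf_eq_one, one_mul, inv_one, mul_one] at h3
  have h4 : w ^ orderOf g = 1 := by
    have : u * w ^ orderOf g = u * 1 := by rw [mul_one]; exact h3.symm
    exact mul_left_cancel this
  have h5 : orderOf w ∣ Nat.gcd (orderOf g) (2 ^ j) :=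
    Nat.dvd_gcd (orderOf_dvd_of_pow_eq_one h4) (orderOf_dvd_of_pow_eq_one hw)
  have h6 : Nat.gcd (orderOf g) (2 ^ j) = 1 := by
    apply Nat.Coprime.pow_right
    exact Nat.coprime_two_right.mpr hg
  rw [h6, Nat.dvd_one] at h5
  exact orderOf_eq_one_iff.mp h5

/-- an element of odd order normalizing an abelian `2`-subgroup and centralizing its
involutions centralizes it -/
theorem conj_eq_of_omega {T : Subgroup G} (hT : IsPGroup 2 T)
    (hTc : ∀ a ∈ T, ∀ b ∈ T, a * b = b * a) {g : G}
    (hgT : ∀ t ∈ T, g * t * g⁻¹ ∈ T) (hg : Odd (orderOf g))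
    (hΩ : ∀ z ∈ T, z * z = 1 → g * z * g⁻¹ = z) : ∀ t ∈ T, g * t * g⁻¹ = t := by
  have key : ∀ k : ℕ, ∀ t ∈ T, t ^ (2 ^ k) = 1 → g * t * g⁻¹ = t := by
    intro k
    induction k with
    | zero =>
      intro t _ h
      rw [pow_zero, pow_one] at h
      rw [h]; group
    | succ k ih =>
      intro t ht h
      have ht2 : (t * t) ^ (2 ^ k) = 1 := by
        rw [← pow_two, ← pow_mul, ← pow_succ']; exact h
      have h1 := ih (t * t) (T.mul_mem ht ht) ht2
      set w := t⁻¹ * (g * t * g⁻¹) with hw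
      have hwT : w ∈ T := T.mul_mem (T.inv_mem ht) (hgT t ht)
      have hc := hTc t⁻¹ (T.inv_mem ht) (g * t * g⁻¹) (hgT t ht)
      have hww : w * w = 1 := by
        calc w * w = t⁻¹ * ((g * t * g⁻¹) * t⁻¹) * (g * t * g⁻¹) := by rw [hw]; group
          _ = t⁻¹ * (t⁻¹ * (g * t * g⁻¹)) * (g * t * g⁻¹) := by rw [hc]
          _ = (t * t)⁻¹ * (g * (t * t) * g⁻¹) := by group
          _ = 1 := by rw [h1]; group
      have h2 := hΩ w hwT hww
      have h3 : g * t * g⁻¹ = t * w := by rw [hw]; group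
      have h4 := eq_one_of_odd_conj hg h3 h2 (j := 1) (by rw [pow_one, pow_two]; exact hww)
      rw [h3, h4, mul_one]
  intro t ht
  obtain ⟨k, hk⟩ := hT ⟨t, ht⟩
  have hk' : t ^ (2 ^ k) = 1 := by
    have := congrArg Subtype.val hk
    simpa using this
  exact key k t ht hk'

namespace Dat

variable {X : Subgroup G} (d : Dat X)

/-- the square of an element outside `A` is central -/
theorem sq_central {u : G} (hu : u ∈ X) (huA : u ∉ d.A) : ∀ x ∈ X, (u * u) * x = x * (u * u) := by
  have h1 : u * u ∈ d.A := by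
    rw [d.mul_mem_A_iff hu hu]
  exact d.central_of_comm h1 hu huA (by group)

/-- an element of `A` commuting with an element outside `A` of a subgroup -/
theorem mem_A_of_comm {a u : G} (ha : a ∈ d.A) (hnc : ¬ ∀ x ∈ X, a * x = x * a) (hu : u ∈ X)
    (h : a * u = u * a) : u ∈ d.A := by
  by_contra huA
  exact hnc (d.central_of_comm ha hu huA h)

end Dat

end Cfsg.Agent.Lib.Helper9.G3
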