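import Cfsg.Agent.Lib.Helper9.G3F

set_option autoImplicit false
set_option linter.unusedSectionVars false

namespace Cfsg.Agent.Lib.Helper9.G3

variable {G : Type*} [Group G] [Finite G]

namespace Dat

variable {P : Sylow 2 G} (d : Dat (P : Subgroup G))

theorem exists_pow_eq_one {w : G} (hw : w ∈ (P : Subgroup G)) : ∃ j : ℕ, w ^ (2 ^ j) = 1 := by
  obtain ⟨j, hj⟩ := P.isPGroup' ⟨w, hw⟩
  refine ⟨j, ?_⟩
  have := congrArg Subtype.val hj
  simpa using this

/-- abelian case of the key lemma -/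
theorem key_abelian (U : Subgroup G) (hUX : U ≤ (P : Subgroup G))
    {s : G} (hsU : s ∈ U) (hsA : s ∉ d.A) (hab : ∀ u ∈ U, ∀ v ∈ U, u * v = v * u)
    {g : G} (hgU : ∀ u ∈ U, g * u * g⁻¹ ∈ U) (hg : Odd (orderOf g)) {a : G} (ha : a ∈ U) :
    (a⁻¹ * (g * a * g⁻¹)) * (a⁻¹ * (g * a * g⁻¹)) = 1 := by
  -- squares of elements of `U` are central in `X`
  have hsq : ∀ u ∈ U, ∀ x ∈ (P : Subgroup G), (u * u) * x = x * (u * u) := by
    intro u hu
    by_cases huA : u ∈ d.A
    · have h1 := d.central_of_comm huA (hUX hsU) hsA (hab u hu s hsU)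
      intro x hx
      rw [mul_assoc, h1 x hx, ← mul_assoc, h1 x hx, mul_assoc]
    · exact d.sq_central (hUX hu) huA
  let T : Subgroup G :=
    { carrier := {w | ∃ u ∈ U, w = u * u}
      mul_mem' := by
        rintro _ _ ⟨u, hu, rfl⟩ ⟨v, hv, rfl⟩
        refine ⟨u * v, U.mul_mem hu hv, ?_⟩
        have := hab u hu v hv
        calc u * u * (v * v) = u * (u * v) * v := by group
          _ = u * (v * u) * v := by rw [this]
          _ = u * v * (u * v) := by group
      one_mem' := ⟨1, U.one_mem, by simp⟩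
      inv_mem' := by
        rintro _ ⟨u, hu, rfl⟩
        exact ⟨u⁻¹, U.inv_mem hu, by group⟩ }
  have hTmem : ∀ {w : G}, w ∈ T ↔ ∃ u ∈ U, w = u * u := Iff.rfl
  have hTX : T ≤ (P : Subgroup G) := by
    rintro _ ⟨u, hu, rfl⟩
    exact Subgroup.mul_mem _ (hUX hu) (hUX hu)
  have hTcen : ∀ t ∈ T, ∀ x ∈ (P : Subgroup G), t * x = x * t := by
    rintro _ ⟨u, hu, rfl⟩
    exact hsq u hu
  have hgT : ∀ t ∈ T, g * t * g⁻¹ ∈ T := by
    rintro _ ⟨u, hu, rfl⟩
    exact ⟨g * u * g⁻¹, hgU u hu, by group⟩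
  have hfix := conj_eq_of_omega (T := T) (P.isPGroup'.to_le hTX)
    (fun a ha b hb => hTcen a ha b (hTX hb)) hgT hg (by
      intro z hz hzz
      have h1 := d.mem_Z0_of_central (hTX hz) (hTcen z hz) hzz
      have hz' := hgT z hz
      have h2 := d.mem_Z0_of_central (hTX hz') (hTcen _ hz') (by
        calc g * z * g⁻¹ * (g * z * g⁻¹) = g * (z * z) * g⁻¹ := by group
          _ = 1 := by rw [hzz]; group)
      exact (d.conj_Z0 h1 h2 rfl).symm)
  have h3 := hfix (a * a) ⟨a, ha, rfl⟩
  have hb := hgU a ha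
  have hc := hab a⁻¹ (U.inv_mem ha) (g * a * g⁻¹) hb
  calc (a⁻¹ * (g * a * g⁻¹)) * (a⁻¹ * (g * a * g⁻¹))
      = a⁻¹ * ((g * a * g⁻¹) * a⁻¹) * (g * a * g⁻¹) := by group
    _ = a⁻¹ * (a⁻¹ * (g * a * g⁻¹)) * (g * a * g⁻¹) := by rw [hc]
    _ = (a * a)⁻¹ * (g * (a * a) * g⁻¹) := by group
    _ = 1 := by rw [h3]; group

/-- the centre of a non-abelian subgroup `U ≰ A` of `X` lies in the centre of `X` -/
theorem central_of_centerU (U : Subgroup G) (hUX : U ≤ (P : Subgroup G))
    {s : G} (hsU : s ∈ U) (hsA : s ∉ d.A) (hnab : ¬ ∀ u ∈ U, ∀ v ∈ U, u * v = v * u)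
    {u : G} (hu : u ∈ U) (huc : ∀ v ∈ U, u * v = v * u) :
    ∀ x ∈ (P : Subgroup G), u * x = x * u := by
  by_cases huA : u ∈ d.A
  · exact d.central_of_comm huA (hUX hsU) hsA (huc s hsU)
  · exfalso
    apply hnab
    have key : ∀ v ∈ U, ∃ z : G, (∀ x ∈ (P : Subgroup G), z * x = x * z) ∧ (v = z ∨ v = z * u) := by
      intro v hv
      by_cases hvA : v ∈ d.A
      · exact ⟨v, d.central_of_comm hvA (hUX hu) huA (huc v hv).symm, Or.inl rfl⟩
      · have h1 := d.mul_inv_mem_A (hUX hv) hvA (hUX hu) huA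
        have h2 : (v * u⁻¹) * u = u * (v * u⁻¹) := by
          have := huc v hv
          calc (v * u⁻¹) * u = v := by group
            _ = u * v * u⁻¹ := by rw [this]; group
            _ = u * (v * u⁻¹) := by group
        exact ⟨v * u⁻¹, d.central_of_comm h1 (hUX hu) huA h2, Or.inr (by group)⟩
    intro v hv v' hv'
    obtain ⟨z, hz, hvz⟩ := key v hv
    obtain ⟨z', hz', hvz'⟩ := key v' hv'
    have huX := hUX hu
    have e1 := hz z' (by
      rcases hvz' with h | h
      · rw [← h]; exact hUX hv'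
      · have : z' = v' * u⁻¹ := by rw [h]; group
        rw [this]; exact Subgroup.mul_mem _ (hUX hv') (Subgroup.inv_mem _ huX))
    have e2 := hz u huX
    have e3 := hz' u huX
    rcases hvz with h | h <;> rcases hvz' with h' | h' <;> rw [h, h']
    · exact e1
    · calc z * (z' * u) = (z * z') * u := by group
        _ = (z' * z) * u := by rw [e1]
        _ = z' * (z * u) := by group
        _ = z' * (u * z) := by rw [e2]
        _ = z' * u * z := by group
    · calc z * u * z' = z * (u * z') := by group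
        _ = z * (z' * u) := by rw [e3]
        _ = (z * z') * u := by group
        _ = (z' * z) * u := by rw [e1]
        _ = z' * (z * u) := by group
    · calc z * u * (z' * u) = z * (u * z') * u := by group
        _ = z * (z' * u) * u := by rw [e3]
        _ = (z * z') * u * u := by group
        _ = (z' * z) * u * u := by rw [e1]
        _ = z' * (z * u) * u := by group
        _ = z' * (u * z) * u := by rw [e2]
        _ = z' * u * (z * u) := by group

end Dat

end Cfsg.Agent.Lib.Helper9.G3
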