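import Cfsg.Agent.Lib.Helper9.G3F
import Cfsg.Agent.Lib.Helper9.G3F2

set_option autoImplicit false
set_option linter.unusedSectionVars false

namespace Cfsg.Agent.Lib.Helper9.G3

open scoped commutatorElement

variable {G : Type*} [Group G] [Finite G]

namespace Dat

variable {P : Sylow 2 G} (d : Dat (P : Subgroup G))

/-- an odd element normalizing a non-abelian `U ≰ A`, `C_X(U) ≤ U`, centralizes `Z(X)` -/
theorem conj_central (U : Subgroup G) (hUX : U ≤ (P : Subgroup G))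
    (hcen : (P : Subgroup G) ⊓ Subgroup.centralizer (U : Set G) ≤ U)
    {s : G} (hsU : s ∈ U) (hsA : s ∉ d.A) (hnab : ¬ ∀ u ∈ U, ∀ v ∈ U, u * v = v * u)
    {g : G} (hgU : ∀ u ∈ U, g * u * g⁻¹ ∈ U) (hgU' : ∀ u ∈ U, g⁻¹ * u * g ∈ U)
    (hg : Odd (orderOf g)) {z : G} (hz : z ∈ (P : Subgroup G))
    (hzc : ∀ x ∈ (P : Subgroup G), z * x = x * z) : g * z * g⁻¹ = z := by
  set T : Subgroup G := (P : Subgroup G) ⊓ Subgroup.centralizer ((P : Subgroup G) : Set G) with hT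
  have hTmem : ∀ {t : G}, t ∈ T ↔ t ∈ (P : Subgroup G) ∧ ∀ x ∈ (P : Subgroup G), t * x = x * t := by
    intro t
    rw [hT, Subgroup.mem_inf, Subgroup.mem_centralizer_iff]
    constructor
    · rintro ⟨h1, h2⟩
      exact ⟨h1, fun x hx => (h2 x hx).symm⟩
    · rintro ⟨h1, h2⟩
      exact ⟨h1, fun x hx => (h2 x hx).symm⟩
  have hTU : T ≤ U := by
    intro t ht
    apply hcen
    obtain ⟨h1, h2⟩ := hTmem.mp ht
    refine Subgroup.mem_inf.mpr ⟨h1, ?_⟩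
    rw [Subgroup.mem_centralizer_iff]
    intro u hu
    exact (h2 u (hUX hu)).symm
  have hgT : ∀ t ∈ T, g * t * g⁻¹ ∈ T := by
    intro t ht
    obtain ⟨h1, h2⟩ := hTmem.mp ht
    have htU := hTU ht
    have h3 : ∀ v ∈ U, (g * t * g⁻¹) * v = v * (g * t * g⁻¹) := by
      intro v hv
      have h4 := h2 _ (hUX (hgU' v hv))
      calc g * t * g⁻¹ * v = g * (t * (g⁻¹ * v * g)) * g⁻¹ := by group
        _ = g * ((g⁻¹ * v * g) * t) * g⁻¹ := by rw [h4]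
        _ = v * (g * t * g⁻¹) := by group
    exact hTmem.mpr ⟨hUX (hgU t htU),
      d.central_of_centerU U hUX hsU hsA hnab (hgU t htU) h3⟩
  have hfix := conj_eq_of_omega (T := T) (P.isPGroup'.to_le inf_le_left)
    (fun a ha b hb => (hTmem.mp ha).2 b (hTmem.mp hb).1) hgT hg (by
      intro w hw hww
      obtain ⟨h1, h2⟩ := hTmem.mp hw
      have hw' := hgT w hw
      obtain ⟨h1', h2'⟩ := hTmem.mp hw'
      have e1 := d.mem_Z0_of_central h1 h2 hww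
      have e2 := d.mem_Z0_of_central h1' h2' (by
        calc g * w * g⁻¹ * (g * w * g⁻¹) = g * (w * w) * g⁻¹ := by group
          _ = 1 := by rw [hww]; group)
      exact (d.conj_Z0 e1 e2 rfl).symm)
  exact hfix z (hTmem.mpr ⟨hz, hzc⟩)

theorem conj_comm_mem {x b a' : G} (hx : x ∈ (P : Subgroup G)) (hb : b ∈ (P : Subgroup G))
    (ha' : a' ∈ (P : Subgroup G)) :
    x * (b * a' * b⁻¹ * a'⁻¹) * x⁻¹ ∈ ⁅(P : Subgroup G), (P : Subgroup G)⁆ := by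
  have h1 : x * (b * a' * b⁻¹ * a'⁻¹) * x⁻¹ = ⁅x * b * x⁻¹, x * a' * x⁻¹⁆ := by
    rw [commutatorElement_def]; group
  rw [h1]
  exact Subgroup.commutator_mem_commutator
    (Subgroup.mul_mem _ (Subgroup.mul_mem _ hx hb) (Subgroup.inv_mem _ hx))
    (Subgroup.mul_mem _ (Subgroup.mul_mem _ hx ha') (Subgroup.inv_mem _ hx))

/-- non-abelian case, all squares central -/
theorem key_nonabelian_sq (U : Subgroup G) (hUX : U ≤ (P : Subgroup G))
    (hcen : (P : Subgroup G) ⊓ Subgroup.centralizer (U : Set G) ≤ U)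
    {s : G} (hsU : s ∈ U) (hsA : s ∉ d.A) (hnab : ¬ ∀ u ∈ U, ∀ v ∈ U, u * v = v * u)
    {g : G} (hgU : ∀ u ∈ U, g * u * g⁻¹ ∈ U) (hgU' : ∀ u ∈ U, g⁻¹ * u * g ∈ U)
    (hg : Odd (orderOf g)) {a : G} (ha : a ∈ U)
    (hsq : ∀ x ∈ (P : Subgroup G), (a * a) * x = x * (a * a)) :
    (a⁻¹ * (g * a * g⁻¹)) * (a⁻¹ * (g * a * g⁻¹)) ∈
      ⁅(P : Subgroup G), (P : Subgroup G)⁆ := by
  have haX := hUX ha
  have h1 := d.conj_central U hUX hcen hsU hsA hnab hgU hgU' hg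
    (Subgroup.mul_mem _ haX haX) hsq
  set b := g * a * g⁻¹ with hb
  have hbX : b ∈ (P : Subgroup G) := hUX (hgU a ha)
  have hbb : b * b = a * a := by
    rw [← h1, hb]; group
  have e : (a⁻¹ * b) * (a⁻¹ * b) = a⁻¹ * (b * a⁻¹ * b⁻¹ * a⁻¹⁻¹) * a⁻¹⁻¹ := by
    calc (a⁻¹ * b) * (a⁻¹ * b) = a⁻¹ * b * a⁻¹ * b⁻¹ * (b * b) := by group
      _ = a⁻¹ * b * a⁻¹ * b⁻¹ * (a * a) := by rw [hbb]
      _ = a⁻¹ * (b * a⁻¹ * b⁻¹ * a⁻¹⁻¹) * a⁻¹⁻¹ := by group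
  rw [e]
  exact conj_comm_mem (Subgroup.inv_mem _ haX) hbX (Subgroup.inv_mem _ haX)

end Dat

end Cfsg.Agent.Lib.Helper9.G3
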