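import Cfsg.Agent.Lib.Helper9.G3F3

set_option autoImplicit false
set_option linter.unusedSectionVars false

namespace Cfsg.Agent.Lib.Helper9.G3

open scoped commutatorElement

variable {G : Type*} [Group G] [Finite G]

namespace Dat

variable {P : Sylow 2 G} (d : Dat (P : Subgroup G))

/-- if some square in `U` is not central, conjugation by a normalizing element preserves `U ∩ A` -/
theorem conj_mem_A_of (U : Subgroup G) (hUX : U ≤ (P : Subgroup G))
    {s : G} (hsU : s ∈ U) (hsA : s ∉ d.A) (hnab : ¬ ∀ u ∈ U, ∀ v ∈ U, u * v = v * u)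
    {h : G} (hhU : ∀ u ∈ U, h * u * h⁻¹ ∈ U) (_hhU' : ∀ u ∈ U, h⁻¹ * u * h ∈ U)
    {a0 : G} (ha0U : a0 ∈ U)
    (ha0 : ¬ ∀ x ∈ (P : Subgroup G), (a0 * a0) * x = x * (a0 * a0)) :
    ∀ u ∈ U, u ∈ d.A → h * u * h⁻¹ ∈ d.A := by
  have ha0A : a0 ∈ d.A := by
    by_contra hc
    exact ha0 (d.sq_central (hUX ha0U) hc)
  set a1 := h * a0 * h⁻¹ with ha1
  have ha1U : a1 ∈ U := hhU a0 ha0U
  have ha1sq : ¬ ∀ x ∈ (P : Subgroup G), (a1 * a1) * x = x * (a1 * a1) := by
    intro hc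
    apply ha0
    apply d.central_of_centerU U hUX hsU hsA hnab (U.mul_mem ha0U ha0U)
    intro v hv
    have h1 := hc _ (hUX (hhU v hv))
    have e1 : a1 * a1 = h * (a0 * a0) * h⁻¹ := by rw [ha1]; group
    rw [e1] at h1
    calc a0 * a0 * v = h⁻¹ * (h * (a0 * a0) * h⁻¹ * (h * v * h⁻¹)) * h := by group
      _ = h⁻¹ * ((h * v * h⁻¹) * (h * (a0 * a0) * h⁻¹)) * h := by rw [h1]
      _ = v * (a0 * a0) := by group
  have ha1A : a1 ∈ d.A := by
    by_contra hc
    exact ha1sq (d.sq_central (hUX ha1U) hc)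
  have ha1nc : ¬ ∀ x ∈ (P : Subgroup G), a1 * x = x * a1 := by
    intro hc
    apply ha1sq
    intro x hx
    rw [mul_assoc, hc x hx, ← mul_assoc, hc x hx, mul_assoc]
  intro u hu huA
  apply d.mem_A_of_comm ha1A ha1nc (hUX (hhU u hu))
  have h1 := d.hAc a0 ha0A u huA
  calc a1 * (h * u * h⁻¹) = h * (a0 * u) * h⁻¹ := by rw [ha1]; group
    _ = h * (u * a0) * h⁻¹ := by rw [h1]
    _ = (h * u * h⁻¹) * a1 := by rw [ha1]; group

/-- non-abelian case with a non-central square: the odd element centralizes `U` -/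
theorem key_nonabelian_nsq (U : Subgroup G) (hUX : U ≤ (P : Subgroup G))
    (hcen : (P : Subgroup G) ⊓ Subgroup.centralizer (U : Set G) ≤ U)
    {s : G} (hsU : s ∈ U) (hsA : s ∉ d.A) (hnab : ¬ ∀ u ∈ U, ∀ v ∈ U, u * v = v * u)
    {g : G} (hgU : ∀ u ∈ U, g * u * g⁻¹ ∈ U) (hgU' : ∀ u ∈ U, g⁻¹ * u * g ∈ U)
    (hg : Odd (orderOf g)) {a0 : G} (ha0U : a0 ∈ U)
    (ha0 : ¬ ∀ x ∈ (P : Subgroup G), (a0 * a0) * x = x * (a0 * a0)) :
    ∀ a ∈ U, g * a * g⁻¹ = a := by
  have hAin := d.conj_mem_A_of U hUX hsU hsA hnab hgU hgU' ha0U ha0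
  have hAin' : ∀ u ∈ U, u ∈ d.A → g⁻¹ * u * g ∈ d.A := by
    have := d.conj_mem_A_of U hUX hsU hsA hnab (h := g⁻¹)
      (fun u hu => by simpa using hgU' u hu) (fun u hu => by simpa using hgU u hu) ha0U ha0
    intro u hu huA
    simpa using this u hu huA
  have hAout : ∀ u ∈ U, u ∉ d.A → g * u * g⁻¹ ∉ d.A := by
    intro u hu huA hc
    apply huA
    have := hAin' _ (hgU u hu) hc
    have e : g⁻¹ * (g * u * g⁻¹) * g = u := by group
    rwa [e] at this
  -- `g` normalizes `U`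
  have hgN : g ∈ Subgroup.normalizer (U : Set G) := by
    rw [Subgroup.mem_normalizer_iff]
    intro u
    constructor
    · exact hgU u
    · intro hu
      have := hgU' _ hu
      have e : g⁻¹ * (g * u * g⁻¹) * g = u := by group
      rwa [e] at this
  -- `g` centralizes the commutator subgroup of `U`
  have hUc : ⁅U, U⁆ ≤ ⁅(P : Subgroup G), (P : Subgroup G)⁆ := Subgroup.commutator_mono hUX hUX
  have hcomm : ∀ w ∈ ⁅U, U⁆, g * w * g⁻¹ = w := by
    apply conj_eq_of_omega (T := ⁅U, U⁆)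
      (P.isPGroup'.to_le (hUc.trans (Subgroup.commutator_le_self _)))
      (fun a ha b hb => d.hAc a (d.commutator_le_A (hUc ha)) b (d.commutator_le_A (hUc hb)))
      _ hg
    · intro z hz hzz
      have hz' : g * z * g⁻¹ ∈ ⁅U, U⁆ := by
        have h2 : (⁅U, U⁆).map (MulAut.conj g).toMonoidHom = ⁅U, U⁆ := by
          rw [Subgroup.map_commutator, map_conj_eq_of_mem_normalizer hgN]
        rw [← h2]
        exact ⟨z, hz, by simp [MulAut.conj_apply]⟩
      have hzz' : g * z * g⁻¹ * (g * z * g⁻¹) = 1 := by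
        calc g * z * g⁻¹ * (g * z * g⁻¹) = g * (z * z) * g⁻¹ := by group
          _ = 1 := by rw [hzz]; group
      have e1 : z ∈ d.Z0 := by
        rcases d.hinv z (hUc hz) hzz with h | h
        · exact d.mem_Z0_iff.mpr (Or.inl h)
        · exact d.mem_Z0_iff.mpr (Or.inr (Or.inr (Or.inl h)))
      have e2 : g * z * g⁻¹ ∈ d.Z0 := by
        rcases d.hinv _ (hUc hz') hzz' with h | h
        · exact d.mem_Z0_iff.mpr (Or.inl h)
        · exact d.mem_Z0_iff.mpr (Or.inr (Or.inr (Or.inl h)))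
      exact (d.conj_Z0 e1 e2 rfl).symm
    · intro t ht
      have h2 : (⁅U, U⁆).map (MulAut.conj g).toMonoidHom = ⁅U, U⁆ := by
        rw [Subgroup.map_commutator, map_conj_eq_of_mem_normalizer hgN]
      rw [← h2]
      exact ⟨t, ht, by simp [MulAut.conj_apply]⟩
  have hZfix := fun {z : G} => d.conj_central U hUX hcen hsU hsA hnab hgU hgU' hg (z := z)
  -- `u1 = s⁻¹ · g s g⁻¹` lies in `A`
  set u1 := s⁻¹ * (g * s * g⁻¹) with hu1
  have hu1A : u1 ∈ d.A := by
    rw [hu1, d.mul_mem_A_iff (Subgroup.inv_mem _ (hUX hsU)) (hUX (hgU s hsU))]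
    exact ⟨fun h => absurd h (d.inv_not_mem_A hsA), fun h => absurd h (hAout s hsU hsA)⟩
  have hu1U : u1 ∈ U := U.mul_mem (U.inv_mem hsU) (hgU s hsU)
  -- elements of `U ∩ A` are fixed
  have hfixA : ∀ u ∈ U, u ∈ d.A → g * u * g⁻¹ = u := by
    intro u hu huA
    set b := g * u * g⁻¹ with hb
    have hbA : b ∈ d.A := hAin u hu huA
    have hbU : b ∈ U := hgU u hu
    have hcm : u * s * u⁻¹ * s⁻¹ ∈ ⁅U, U⁆ := by
      have := Subgroup.commutator_mem_commutator hu hsU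
      rwa [commutatorElement_def] at this
    have h1 := hcomm _ hcm
    have h2 : g * (u * s * u⁻¹ * s⁻¹) * g⁻¹ = b * s * b⁻¹ * s⁻¹ := by
      have e1 : g * s * g⁻¹ = s * u1 := by rw [hu1]; group
      have e2 : g * (u * s * u⁻¹ * s⁻¹) * g⁻¹
          = b * (g * s * g⁻¹) * b⁻¹ * (g * s * g⁻¹)⁻¹ := by rw [hb]; group
      rw [e2, e1]
      have e3 := d.hAc u1 hu1A b⁻¹ (d.A.inv_mem hbA)
      calc b * (s * u1) * b⁻¹ * (s * u1)⁻¹ = b * s * (u1 * b⁻¹) * u1⁻¹ * s⁻¹ := by group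
        _ = b * s * (b⁻¹ * u1) * u1⁻¹ * s⁻¹ := by rw [e3]
        _ = b * s * b⁻¹ * s⁻¹ := by group
    rw [h2] at h1
    -- `w = u⁻¹ b` commutes with `s`
    set w := u⁻¹ * b with hw
    have hwA : w ∈ d.A := d.A.mul_mem (d.A.inv_mem huA) hbA
    have hws : w * s = s * w := by
      have e4 : b * s * b⁻¹ = u * s * u⁻¹ := by
        calc b * s * b⁻¹ = (b * s * b⁻¹ * s⁻¹) * s := by group
          _ = (u * s * u⁻¹ * s⁻¹) * s := by rw [h1]
          _ = u * s * u⁻¹ := by group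
      calc w * s = u⁻¹ * (b * s * b⁻¹) * b := by rw [hw]; group
        _ = u⁻¹ * (u * s * u⁻¹) * b := by rw [e4]
        _ = s * w := by rw [hw]; group
    have hwc := d.central_of_comm hwA (hUX hsU) hsA hws
    have hwX : w ∈ (P : Subgroup G) := d.hAX hwA
    have hwfix := hZfix hwX hwc
    obtain ⟨j, hj⟩ := Dat.exists_pow_eq_one hwX
    have h3 : b = u * w := by rw [hw]; group
    have h4 := eq_one_of_odd_conj hg (hb.symm.trans h3) hwfix hj
    rw [h3, h4, mul_one]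
  -- `s` is fixed
  have hfixs : g * s * g⁻¹ = s := by
    have h3 : g * s * g⁻¹ = s * u1 := by rw [hu1]; group
    obtain ⟨j, hj⟩ := Dat.exists_pow_eq_one (d.hAX hu1A)
    have h4 := eq_one_of_odd_conj hg h3 (hfixA u1 hu1U hu1A) hj
    rw [h3, h4, mul_one]
  intro a ha
  by_cases haA : a ∈ d.A
  · exact hfixA a ha haA
  · have h1 : s⁻¹ * a ∈ d.A := by
      rw [d.mul_mem_A_iff (Subgroup.inv_mem _ (hUX hsU)) (hUX ha)]
      exact ⟨fun h => absurd h (d.inv_not_mem_A hsA), fun h => absurd h haA⟩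
    have h2 := hfixA (s⁻¹ * a) (U.mul_mem (U.inv_mem hsU) ha) h1
    calc g * a * g⁻¹ = (g * s * g⁻¹) * (g * (s⁻¹ * a) * g⁻¹) := by group
      _ = s * (s⁻¹ * a) := by rw [hfixs, h2]
      _ = a := by group

end Dat

end Cfsg.Agent.Lib.Helper9.G3
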