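import Cfsg.Agent.Lib.Helper9.G3F4

set_option autoImplicit false
set_option linter.unusedSectionVars false

namespace Cfsg.Agent.Lib.Helper9.G3

open scoped commutatorElement

variable {G : Type*} [Group G] [Finite G]

namespace Dat

variable {P : Sylow 2 G} (d : Dat (P : Subgroup G))

/-- **Key lemma.** For `U ≤ X` with `C_X(U) ≤ U`, `U ≰ A`, and `g ∈ N_G(U)` of odd order, the
elements `a⁻¹ · g a g⁻¹`, `a ∈ U`, have their squares in `X'`. -/
theorem key (U : Subgroup G) (hUX : U ≤ (P : Subgroup G))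
    (hcen : (P : Subgroup G) ⊓ Subgroup.centralizer (U : Set G) ≤ U) (hUA : ¬ U ≤ d.A)
    {g : G} (hgN : g ∈ Subgroup.normalizer (U : Set G)) (hg : Odd (orderOf g))
    {a : G} (ha : a ∈ U) :
    (a⁻¹ * (g * a * g⁻¹)) * (a⁻¹ * (g * a * g⁻¹)) ∈ ⁅(P : Subgroup G), (P : Subgroup G)⁆ := by
  obtain ⟨s, hsU, hsA⟩ := SetLike.not_le_iff_exists.mp hUA
  have hgU : ∀ u ∈ U, g * u * g⁻¹ ∈ U := fun u hu => (Subgroup.mem_normalizer_iff.mp hgN u).mp hu
  have hgU' : ∀ u ∈ U, g⁻¹ * u * g ∈ U := by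
    intro u hu
    have := (Subgroup.mem_normalizer_iff.mp (Subgroup.inv_mem _ hgN) u).mp hu
    rwa [inv_inv] at this
  by_cases hab : ∀ u ∈ U, ∀ v ∈ U, u * v = v * u
  · rw [d.key_abelian U hUX hsU hsA hab hgU hg ha]
    exact Subgroup.one_mem _
  · by_cases hsq : ∀ x ∈ (P : Subgroup G), (a * a) * x = x * (a * a)
    · exact d.key_nonabelian_sq U hUX hcen hsU hsA hab hgU hgU' hg ha hsq
    · have := d.key_nonabelian_nsq U hUX hcen hsU hsA hab hgU hgU' hg ha hsq a ha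
      rw [this]
      have e : a⁻¹ * a * (a⁻¹ * a) = 1 := by group
      rw [e]
      exact Subgroup.one_mem _

end Dat

end Cfsg.Agent.Lib.Helper9.G3
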