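import Cfsg.Agent.Lib.Helper9.G3F5

/-!
# Helper9 library G3G: the normalizer of `A`, and the subgroup `T`

* `exists_relIndex_two` (copied from helper22's `D8Cent` library to avoid its import chain);
* `central_not_mem_commutator`: transfer of a central involution;
* `Dat.conj_invol`: non-central involutions of `A` are moved by `z2`;
* `Dat.normalizer_fixes`, `Dat.exists_fixed`: `N_G(A)` centralizes `z1` or `z1 z2`;
* `Dat.Tsub`: the elements of `X` whose square lies in `[A, N_G(A)] X'`; it is a proper subgroup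
  if `G` has no subgroup of index `2`.
-/

set_option autoImplicit false
set_option linter.unusedSectionVars false

namespace Cfsg.Agent.Lib.Helper9.G3

open scoped commutatorElement

section general

variable {G : Type*} [Group G] [Finite G]

/-- a maximal subgroup containing `N ⊇ Φ(P)` and avoiding `u ∉ N` (helper22) -/
theorem exists_relIndex_two (P N : Subgroup G) (hNP : N ≤ P)
    (hsq : ∀ x ∈ P, x * x ∈ N) (hcm : ∀ x ∈ P, ∀ y ∈ P, x * y * x⁻¹ * y⁻¹ ∈ N)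
    (u : G) (huP : u ∈ P) (huN : u ∉ N) :
    ∃ M : Subgroup G, N ≤ M ∧ M ≤ P ∧ M.relIndex P = 2 ∧ u ∉ M := by
  obtain ⟨M, ⟨hNM, hMP, huM⟩, hmax⟩ := Set.exists_max_image
    {M : Subgroup G | N ≤ M ∧ M ≤ P ∧ u ∉ M} (fun M => Nat.card M) (Set.toFinite _)
    ⟨N, le_refl _, hNP, huN⟩
  have hnorm : ∀ x ∈ P, ∀ m ∈ M, x * m * x⁻¹ ∈ M := by
    intro x hx m hm
    have h1 := hNM (hcm x hx m (hMP hm))
    have e : x * m * x⁻¹ = (x * m * x⁻¹ * m⁻¹) * m := by group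
    rw [e]; exact M.mul_mem h1 hm
  have key : ∀ r ∈ P, r ∉ M → r * u ∈ M := by
    intro r hr hrM
    have hr2 : r * r ∈ M := hNM (hsq r hr)
    have hrinv : r⁻¹ ∈ P := P.inv_mem hr
    let M' : Subgroup G :=
      { carrier := {x | x ∈ M ∨ r * x ∈ M}
        one_mem' := Or.inl M.one_mem
        mul_mem' := by
          rintro x y (hx | hx) (hy | hy)
          · exact Or.inl (M.mul_mem hx hy)
          · right
            have e : r * (x * y) = (r * x * r⁻¹) * (r * y) := by group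
            rw [e]; exact M.mul_mem (hnorm r hr x hx) hy
          · right
            have e : r * (x * y) = (r * x) * y := by group
            rw [e]; exact M.mul_mem hx hy
          · left
            have h1 : r⁻¹ * (r * x) * r⁻¹⁻¹ ∈ M := hnorm r⁻¹ hrinv _ hx
            have e : x * y = (r⁻¹ * (r * x) * r⁻¹⁻¹) * (r * r)⁻¹ * (r * y) := by group
            rw [e]; exact M.mul_mem (M.mul_mem h1 (M.inv_mem hr2)) hy
        inv_mem' := by
          rintro x (hx | hx)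
          · exact Or.inl (M.inv_mem hx)
          · right
            have h1 : r * (r * x)⁻¹ * r⁻¹ ∈ M := hnorm r hr _ (M.inv_mem hx)
            have e : r * x⁻¹ = (r * (r * x)⁻¹ * r⁻¹) * (r * r) := by group
            rw [e]; exact M.mul_mem h1 hr2 }
    have hMM' : M ≤ M' := fun x hx => Or.inl hx
    have hrM' : r ∈ M' := Or.inr hr2
    have hM'P : M' ≤ P := by
      rintro x (hx | hx)
      · exact hMP hx
      · have e : x = r⁻¹ * (r * x) := by group
        rw [e]; exact P.mul_mem hrinv (hMP hx)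
    by_contra hru
    have huM' : u ∉ M' := by
      rintro (h1 | h1)
      · exact huM h1
      · exact hru h1
    have hle := hmax M' ⟨hNM.trans hMM', hM'P, huM'⟩
    have heq : M = M' := Subgroup.eq_of_le_of_card_ge hMM' hle
    exact hrM (heq ▸ hrM')
  refine ⟨M, hNM, hMP, ?_, huM⟩
  rw [Subgroup.relIndex, Subgroup.index_eq_two_iff]
  refine ⟨⟨u, huP⟩, ?_⟩
  intro b
  by_cases hb : (b : G) ∈ M
  · right
    refine ⟨Subgroup.mem_subgroupOf.mpr hb, ?_⟩
    intro h1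
    have h2 : (b : G) * u ∈ M := Subgroup.mem_subgroupOf.mp h1
    apply huM
    have e : u = (b : G)⁻¹ * ((b : G) * u) := by group
    rw [e]; exact M.mul_mem (M.inv_mem hb) h2
  · left
    refine ⟨Subgroup.mem_subgroupOf.mpr (key b b.2 hb), ?_⟩
    intro h1
    exact hb (Subgroup.mem_subgroupOf.mp h1)

/-- a central element of the derived subgroup: its `|Y : H|`-th power lies in `H'` (transfer;
after helper18) -/
theorem central_pow_index_mem_commutator {Y : Type*} [Group Y] [Finite Y] (H : Subgroup Y) (z : Y)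
    (hzc : z ∈ Subgroup.center Y) (hz : z ∈ commutator Y) :
    z ^ H.index ∈ ⁅H, H⁆ := by
  have key : ∀ (k : ℕ) (g₀ : Y), g₀⁻¹ * z ^ k * g₀ ∈ H → g₀⁻¹ * z ^ k * g₀ = z ^ k := by
    intro k g₀ _
    have h1 : z ^ k ∈ Subgroup.center Y := Subgroup.pow_mem _ hzc k
    have h2 := Subgroup.mem_center_iff.mp h1 g₀
    rw [mul_assoc, ← h2, inv_mul_cancel_left]
  have h1 := MonoidHom.transfer_eq_pow (Abelianization.of : ↥H →* Abelianization ↥H) z key
  have h2 : MonoidHom.transfer (Abelianization.of : ↥H →* Abelianization ↥H) z = 1 := by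
    have := Abelianization.commutator_subset_ker
      (MonoidHom.transfer (Abelianization.of : ↥H →* Abelianization ↥H)) hz
    exact MonoidHom.mem_ker.mp this
  rw [h2] at h1
  have h3 : (⟨z ^ H.index, MonoidHom.transfer_eq_pow_aux z key⟩ : ↥H) ∈ commutator ↥H := by
    rw [← Abelianization.ker_of, MonoidHom.mem_ker]; exact h1.symm
  rw [← Subgroup.map_subtype_commutator]
  exact ⟨_, h3, rfl⟩

/-- an involution of `X`, central in `N ≥ X` with `|N : X|` odd, outside `X'`, is outside `N'` -/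
theorem central_not_mem_commutator (N X : Subgroup G) (hXN : X ≤ N) (hidx : Odd (X.relIndex N))
    (z : G) (hzc : ∀ n ∈ N, n * z = z * n) (hz2 : z * z = 1)
    (hz : z ∉ ⁅X, X⁆) : z ∉ ⁅N, N⁆ := by
  intro hzN'
  apply hz
  have hzN : z ∈ N := Subgroup.commutator_le_self N hzN'
  have h1 : (⟨z, hzN⟩ : ↥N) ∈ commutator ↥N := by
    rw [← Subgroup.map_subtype_commutator] at hzN'
    obtain ⟨y, hy, hyz⟩ := hzN'
    have : y = ⟨z, hzN⟩ := Subtype.ext hyz
    rw [← this]; exact hy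
  have h2 : (⟨z, hzN⟩ : ↥N) ∈ Subgroup.center ↥N := by
    rw [Subgroup.mem_center_iff]
    intro c
    apply Subtype.ext
    exact hzc c c.2
  have h3 := central_pow_index_mem_commutator (X.subgroupOf N) ⟨z, hzN⟩ h2 h1
  have h4 : z ^ X.relIndex N ∈ ⁅X, X⁆ := by
    have h5 : (((⟨z, hzN⟩ : ↥N) ^ (X.subgroupOf N).index : ↥N) : G) ∈
        (⁅X.subgroupOf N, X.subgroupOf N⁆).map N.subtype := ⟨_, h3, rfl⟩
    rw [Subgroup.map_commutator, Subgroup.subgroupOf_map_subtype, inf_eq_left.mpr hXN] at h5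
    simpa [Subgroup.relIndex] using h5
  obtain ⟨k, hk⟩ := hidx
  rw [hk, pow_succ, pow_mul, pow_two, hz2, one_pow, one_mul] at h4
  exact h4

end general

section dat

variable {G : Type*} [Group G]

namespace Dat

variable {X : Subgroup G} (d : Dat X)

/-- a non-central involution of `A` is moved to its `z2`-multiple by every `t ∉ A` -/
theorem conj_invol {t x : G} (ht : t ∈ X) (htA : t ∉ d.A) (hx : x ∈ d.A) (hx2 : x * x = 1)
    (hxZ : x ∉ d.Z0) : t * x * t⁻¹ = x * d.z2 := by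
  have hxX : x ∈ X := d.hAX hx
  have hc : x⁻¹ * (t * x * t⁻¹) ∈ ⁅X, X⁆ := by
    have := Subgroup.commutator_mem_commutator (Subgroup.inv_mem _ hxX) ht
    rw [commutatorElement_def] at this
    have e : x⁻¹ * (t * x * t⁻¹) = x⁻¹ * t * x⁻¹⁻¹ * t⁻¹ := by group
    rw [e]; exact this
  have htx : t * x * t⁻¹ ∈ d.A := d.conj_mem_A ht hx
  have hc2 : (x⁻¹ * (t * x * t⁻¹)) * (x⁻¹ * (t * x * t⁻¹)) = 1 := by
    have h1 := d.hAc _ htx _ (Subgroup.inv_mem _ hx)
    calc (x⁻¹ * (t * x * t⁻¹)) * (x⁻¹ * (t * x * t⁻¹))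
        = x⁻¹ * ((t * x * t⁻¹) * x⁻¹) * (t * x * t⁻¹) := by group
      _ = x⁻¹ * (x⁻¹ * (t * x * t⁻¹)) * (t * x * t⁻¹) := by rw [h1]
      _ = (x * x)⁻¹ * (t * (x * x) * t⁻¹) := by group
      _ = 1 := by rw [hx2]; group
  rcases d.hinv _ hc hc2 with h | h
  · exfalso
    apply hxZ
    have hcomm : x * t = t * x := by
      have : t * x * t⁻¹ = x := by
        have e : t * x * t⁻¹ = x * (x⁻¹ * (t * x * t⁻¹)) := by group
        rw [e, h, mul_one]
      calc x * t = (t * x * t⁻¹) * t := by rw [this]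
        _ = t * x := by group
    exact d.mem_Z0_of_central hxX (d.central_of_comm hx ht htA hcomm) hx2
  · have e : t * x * t⁻¹ = x * (x⁻¹ * (t * x * t⁻¹)) := by group
    rw [e, h]

end Dat

end dat

section sylow

variable {G : Type*} [Group G] [Finite G]

namespace Dat

variable {P : Sylow 2 G} (d : Dat (P : Subgroup G))

/-- every element of `N_G(A)` centralizes `z1` or `z1 z2` -/
theorem normalizer_fixes {n : G} (hn : n ∈ Subgroup.normalizer (d.A : Set G)) :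
    n * d.z1 * n⁻¹ = d.z1 ∨ n * (d.z1 * d.z2) * n⁻¹ = d.z1 * d.z2 := by
  by_contra hcon
  push Not at hcon
  obtain ⟨hx1, hw1⟩ := hcon
  obtain ⟨t, ht, htA⟩ := d.exists_not_mem_A
  have hnA : ∀ a ∈ d.A, n * a * n⁻¹ ∈ d.A := fun a ha =>
    (Subgroup.mem_normalizer_iff.mp hn a).mp ha
  have hz1Z : d.z1 ∈ d.Z0 := d.mem_Z0_iff.mpr (Or.inr (Or.inl rfl))
  have hz2Z : d.z2 ∈ d.Z0 := d.mem_Z0_iff.mpr (Or.inr (Or.inr (Or.inl rfl)))
  have hz12Z : d.z1 * d.z2 ∈ d.Z0 := d.mem_Z0_iff.mpr (Or.inr (Or.inr (Or.inr rfl)))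
  have hsq : ∀ z : G, z * z = 1 → (n * z * n⁻¹) * (n * z * n⁻¹) = 1 := by
    intro z hz
    calc (n * z * n⁻¹) * (n * z * n⁻¹) = n * (z * z) * n⁻¹ := by group
      _ = 1 := by rw [hz]; group
  -- x := n z1 n⁻¹, y := n z2 n⁻¹, w := n z1z2 n⁻¹ = x y
  have hxA := hnA _ (d.Z0_mem_A hz1Z)
  have hyA := hnA _ (d.Z0_mem_A hz2Z)
  have hwA := hnA _ (d.Z0_mem_A hz12Z)
  have hxZ : n * d.z1 * n⁻¹ ∉ d.Z0 := fun h => hx1 (d.conj_Z0 hz1Z h rfl).symm
  have hwZ : n * (d.z1 * d.z2) * n⁻¹ ∉ d.Z0 := fun h => hw1 (d.conj_Z0 hz12Z h rfl).symm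
  have htx := d.conj_invol ht htA hxA (hsq _ d.hz1s) hxZ
  have htw := d.conj_invol ht htA hwA (hsq _ d.z1z2_sq) hwZ
  have hwxy : n * (d.z1 * d.z2) * n⁻¹ = (n * d.z1 * n⁻¹) * (n * d.z2 * n⁻¹) := by group
  by_cases hyZ : n * d.z2 * n⁻¹ ∈ d.Z0
  · have hy : n * d.z2 * n⁻¹ = d.z2 := (d.conj_Z0 hz2Z hyZ rfl).symm
    -- then `w = x z2 = t x t⁻¹`
    have h1 : (n⁻¹ * t * n) * d.z1 * (n⁻¹ * t * n)⁻¹ = d.z1 * d.z2 := by
      calc (n⁻¹ * t * n) * d.z1 * (n⁻¹ * t * n)⁻¹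
          = n⁻¹ * (t * (n * d.z1 * n⁻¹) * t⁻¹) * n := by group
        _ = n⁻¹ * ((n * d.z1 * n⁻¹) * (n * d.z2 * n⁻¹)) * n := by rw [htx, hy]
        _ = d.z1 * d.z2 := by group
    have h2 := d.conj_Z0 hz1Z hz12Z h1
    apply d.hz2
    calc d.z2 = d.z1⁻¹ * (d.z1 * d.z2) := by group
      _ = d.z1⁻¹ * d.z1 := by rw [← h2]
      _ = 1 := by group
  · have hty := d.conj_invol ht htA hyA (hsq _ d.hz2s) hyZ
    have hz2A : d.z2 ∈ d.A := d.Z0_mem_A hz2Z
    have h1 : t * (n * (d.z1 * d.z2) * n⁻¹) * t⁻¹ = n * (d.z1 * d.z2) * n⁻¹ := by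
      calc t * (n * (d.z1 * d.z2) * n⁻¹) * t⁻¹
          = (t * (n * d.z1 * n⁻¹) * t⁻¹) * (t * (n * d.z2 * n⁻¹) * t⁻¹) := by rw [hwxy]; group
        _ = (n * d.z1 * n⁻¹ * d.z2) * (n * d.z2 * n⁻¹ * d.z2) := by rw [htx, hty]
        _ = n * d.z1 * n⁻¹ * (d.z2 * (n * d.z2 * n⁻¹)) * d.z2 := by group
        _ = n * d.z1 * n⁻¹ * ((n * d.z2 * n⁻¹) * d.z2) * d.z2 := by
          rw [d.hAc _ hz2A _ hyA]
        _ = (n * d.z1 * n⁻¹) * (n * d.z2 * n⁻¹) * (d.z2 * d.z2) := by group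
        _ = n * (d.z1 * d.z2) * n⁻¹ := by rw [d.hz2s, mul_one, hwxy]
    rw [h1] at htw
    apply d.hz2
    calc d.z2 = (n * (d.z1 * d.z2) * n⁻¹)⁻¹ * (n * (d.z1 * d.z2) * n⁻¹ * d.z2) := by group
      _ = (n * (d.z1 * d.z2) * n⁻¹)⁻¹ * (n * (d.z1 * d.z2) * n⁻¹) := by rw [← htw]
      _ = 1 := by group

/-- `N_G(A)` centralizes `z1` or `z1 z2` -/
theorem exists_fixed : ∃ z ∈ d.Z0, z ∉ ⁅(P : Subgroup G), (P : Subgroup G)⁆ ∧
    ∀ n ∈ Subgroup.normalizer (d.A : Set G), n * z * n⁻¹ = z := by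
  by_cases h1 : ∀ n ∈ Subgroup.normalizer (d.A : Set G), n * d.z1 * n⁻¹ = d.z1
  · exact ⟨d.z1, d.mem_Z0_iff.mpr (Or.inr (Or.inl rfl)), d.hz1d, h1⟩
  · refine ⟨d.z1 * d.z2, d.mem_Z0_iff.mpr (Or.inr (Or.inr (Or.inr rfl))),
      d.z1z2_not_mem_commutator, ?_⟩
    push Not at h1
    obtain ⟨n1, hn1, hn1z⟩ := h1
    have hn1w : n1 * (d.z1 * d.z2) * n1⁻¹ = d.z1 * d.z2 :=
      (d.normalizer_fixes hn1).resolve_left hn1z
    by_contra h2
    push Not at h2
    obtain ⟨n2, hn2, hn2w⟩ := h2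
    have hn2z : n2 * d.z1 * n2⁻¹ = d.z1 := (d.normalizer_fixes hn2).resolve_right hn2w
    rcases d.normalizer_fixes (Subgroup.mul_mem _ hn1 hn2) with h | h
    · apply hn1z
      calc n1 * d.z1 * n1⁻¹ = n1 * (n2 * d.z1 * n2⁻¹) * n1⁻¹ := by rw [hn2z]
        _ = (n1 * n2) * d.z1 * (n1 * n2)⁻¹ := by group
        _ = d.z1 := h
    · apply hn2w
      calc n2 * (d.z1 * d.z2) * n2⁻¹
          = n1⁻¹ * ((n1 * n2) * (d.z1 * d.z2) * (n1 * n2)⁻¹) * n1 := by group
        _ = n1⁻¹ * (n1 * (d.z1 * d.z2) * n1⁻¹) * n1 := by rw [h, hn1w]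
        _ = d.z1 * d.z2 := by group

/-- `[A, N_G(A)]` -/
def Bsub : Subgroup G :=
  Subgroup.closure {b | ∃ a ∈ d.A, ∃ g ∈ Subgroup.normalizer (d.A : Set G),
    b = a⁻¹ * (g * a * g⁻¹)}

/-- `[A, N_G(A)] X'` -/
def Ssub : Subgroup G := d.Bsub ⊔ ⁅(P : Subgroup G), (P : Subgroup G)⁆

theorem Bsub_le_A : d.Bsub ≤ d.A := by
  unfold Bsub
  rw [Subgroup.closure_le]
  rintro b ⟨a, ha, g, hg, rfl⟩
  exact Subgroup.mul_mem _ (Subgroup.inv_mem _ ha) ((Subgroup.mem_normalizer_iff.mp hg a).mp ha)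

theorem Ssub_le : d.Ssub ≤ (P : Subgroup G) := by
  unfold Ssub
  exact sup_le (d.Bsub_le_A.trans d.hAX) (Subgroup.commutator_le_self _)

theorem commutator_le_Ssub : ⁅(P : Subgroup G), (P : Subgroup G)⁆ ≤ d.Ssub := le_sup_right

theorem Bsub_le_Ssub : d.Bsub ≤ d.Ssub := le_sup_left

/-- the elements of `X` with square in `[A, N_G(A)] X'` -/
def Tsub : Subgroup G where
  carrier := {x | x ∈ (P : Subgroup G) ∧ x * x ∈ d.Ssub}
  one_mem' := ⟨Subgroup.one_mem _, by rw [mul_one]; exact Subgroup.one_mem _⟩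
  mul_mem' := by
    rintro x y ⟨hx, hx2⟩ ⟨hy, hy2⟩
    refine ⟨Subgroup.mul_mem _ hx hy, ?_⟩
    have e : (x * y) * (x * y) = (x * x) * ⁅x⁻¹, y⁆ * (y * y) := by
      rw [commutatorElement_def]; group
    rw [e]
    exact Subgroup.mul_mem _ (Subgroup.mul_mem _ hx2 (d.commutator_le_Ssub
      (Subgroup.commutator_mem_commutator (Subgroup.inv_mem _ hx) hy))) hy2
  inv_mem' := by
    rintro x ⟨hx, hx2⟩
    refine ⟨Subgroup.inv_mem _ hx, ?_⟩
    have e : x⁻¹ * x⁻¹ = (x * x)⁻¹ := by group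
    rw [e]
    exact Subgroup.inv_mem _ hx2

theorem mem_Tsub {x : G} : x ∈ d.Tsub ↔ x ∈ (P : Subgroup G) ∧ x * x ∈ d.Ssub := Iff.rfl

theorem Tsub_le : d.Tsub ≤ (P : Subgroup G) := fun _ hx => hx.1

theorem commutator_le_Tsub : ⁅(P : Subgroup G), (P : Subgroup G)⁆ ≤ d.Tsub := fun _ hx =>
  ⟨Subgroup.commutator_le_self _ hx, d.commutator_le_Ssub (Subgroup.mul_mem _ hx hx)⟩

theorem Bsub_le_Tsub : d.Bsub ≤ d.Tsub := fun _ hx =>
  ⟨d.hAX (d.Bsub_le_A hx), d.Bsub_le_Ssub (Subgroup.mul_mem _ hx hx)⟩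

theorem le_normalizer_A : (P : Subgroup G) ≤ Subgroup.normalizer (d.A : Set G) := by
  intro x hx
  rw [Subgroup.mem_normalizer_iff]
  intro a
  constructor
  · exact fun ha => d.conj_mem_A hx ha
  · intro ha
    have := d.conj_mem_A' hx ha
    have e : x⁻¹ * (x * a * x⁻¹) * x = a := by group
    rwa [e] at this

/-- without subgroups of index `2` in `G`, `T ≠ X` -/
theorem Tsub_ne (hG : ∀ H : Subgroup G, H.index ≠ 2) : d.Tsub ≠ (P : Subgroup G) := by
  intro hT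
  obtain ⟨z, hzZ, hzX', hzfix⟩ := d.exists_fixed
  have hXN := d.le_normalizer_A
  have hodd : Odd ((P : Subgroup G).relIndex (Subgroup.normalizer (d.A : Set G))) := by
    rw [← Nat.not_even_iff_odd, even_iff_two_dvd]
    intro h2
    apply P.not_dvd_index
    rw [← Subgroup.relIndex_mul_index hXN]
    exact Dvd.dvd.mul_right h2 _
  have hzc : ∀ n ∈ Subgroup.normalizer (d.A : Set G), n * z = z * n := by
    intro n hn
    calc n * z = (n * z * n⁻¹) * n := by group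
      _ = z * n := by rw [hzfix n hn]
  have hzN := central_not_mem_commutator _ _ hXN hodd z hzc (d.Z0_sq hzZ) hzX'
  have hSN : d.Ssub ≤ ⁅Subgroup.normalizer (d.A : Set G), Subgroup.normalizer (d.A : Set G)⁆ := by
    unfold Ssub
    refine sup_le ?_ (Subgroup.commutator_mono hXN hXN)
    unfold Bsub
    rw [Subgroup.closure_le]
    rintro b ⟨a, ha, g, hg, rfl⟩
    have := Subgroup.commutator_mem_commutator (hXN (d.hAX (Subgroup.inv_mem _ ha))) hg
    rw [commutatorElement_def] at this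
    have e : a⁻¹ * (g * a * g⁻¹) = a⁻¹ * g * a⁻¹⁻¹ * g⁻¹ := by group
    rw [SetLike.mem_coe, e]; exact this
  have hzS : z ∉ d.Ssub := fun h => hzN (hSN h)
  obtain ⟨M, hSM, hMP, hMi, hzM⟩ := exists_relIndex_two (P : Subgroup G) d.Ssub d.Ssub_le
    (fun x hx => by
      have : x ∈ d.Tsub := by rw [hT]; exact hx
      exact this.2)
    (fun x hx y hy => by
      have := Subgroup.commutator_mem_commutator hx hy
      rw [commutatorElement_def] at this
      exact d.commutator_le_Ssub this)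
    z (d.Z0_mem hzZ) hzS
  exact hzM (d.Z0_mem_of_relIndex_two hG hzZ M hMP hMi)

end Dat

end sylow

end Cfsg.Agent.Lib.Helper9.G3
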