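import Cfsg.Agent.Lib.Helper9.G3G
import Cfsg.Agent.Lib.Helper9.FusionInv
import Cfsg.Agent.Lib.Helper9.Wr.Focal
import Cfsg.Agent.Lib.Helper13.IndexP

/-!
# Helper9 library G3H: a group without subgroups of index `2` has no Sylow `2`-subgroup with data `Dat`

The focal subgroup of `X` lies in `T = Dat.Tsub` (Alperin--Goldschmidt via `fusion_invariant'`,
the local steps being `Dat.key` and the definition of `[A, N_G(A)]`), and `T ≠ X`.
-/

set_option autoImplicit false
set_option linter.unusedSectionVars false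

namespace Cfsg.Agent.Lib.Helper9.G3

open scoped commutatorElement

variable {G : Type*} [Group G] [Finite G]

namespace Dat

variable {P : Sylow 2 G} (d : Dat (P : Subgroup G))

/-- local step -/
theorem local_mem_Tsub (U : Subgroup G) (hUX : U ≤ (P : Subgroup G))
    (hcen : (P : Subgroup G) ⊓ Subgroup.centralizer (U : Set G) ≤ U)
    {g : G} (hgN : g ∈ Subgroup.normalizer (U : Set G)) (hg : Odd (orderOf g))
    {a : G} (ha : a ∈ U) : a⁻¹ * (g * a * g⁻¹) ∈ d.Tsub := by
  by_cases hUA : U ≤ d.A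
  · have hAU : d.A ≤ U := by
      intro b hb
      apply hcen
      refine Subgroup.mem_inf.mpr ⟨d.hAX hb, ?_⟩
      rw [Subgroup.mem_centralizer_iff]
      intro u hu
      exact d.hAc _ (hUA hu) _ hb
    have hUeq : U = d.A := le_antisymm hUA hAU
    apply d.Bsub_le_Tsub
    unfold Bsub
    apply Subgroup.subset_closure
    exact ⟨a, hUA ha, g, hUeq ▸ hgN, rfl⟩
  · refine d.mem_Tsub.mpr ⟨?_, ?_⟩
    · exact Subgroup.mul_mem _ (Subgroup.inv_mem _ (hUX ha))
        (hUX ((Subgroup.mem_normalizer_iff.mp hgN a).mp ha))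
    · exact d.commutator_le_Ssub (d.key U hUX hcen hUA hgN hg ha)

/-- the focal subgroup of `X` lies in `T` -/
theorem focal_le_Tsub : (P : Subgroup G).focalSubgroup ≤ d.Tsub := by
  have : Fact (Nat.Prime 2) := ⟨Nat.prime_two⟩
  apply Cfsg.Agent.Lib.Helper9.Wr.focal_le_of_fusion P d.Tsub
  intro x hx u hu
  refine Cfsg.Agent.Lib.Helper9.fusion_invariant' P (fun y => x⁻¹ * y ∈ d.Tsub) ?_ ?_ x hx u hu ?_
  · intro s hs a ha hΦ
    have e : x⁻¹ * (s * a * s⁻¹) = (x⁻¹ * a) * ⁅a⁻¹, s⁆ := by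
      rw [commutatorElement_def]; group
    show x⁻¹ * (s * a * s⁻¹) ∈ d.Tsub
    rw [e]
    exact Subgroup.mul_mem _ hΦ (d.commutator_le_Tsub
      (Subgroup.commutator_mem_commutator (Subgroup.inv_mem _ ha) hs))
  · intro U hUX hcen _ g hgN hg a ha hΦ
    have e : x⁻¹ * (g * a * g⁻¹) = (x⁻¹ * a) * (a⁻¹ * (g * a * g⁻¹)) := by group
    show x⁻¹ * (g * a * g⁻¹) ∈ d.Tsub
    rw [e]
    exact Subgroup.mul_mem _ hΦ
      (d.local_mem_Tsub U hUX hcen hgN (Nat.coprime_two_right.mp hg) ha)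
  · show x⁻¹ * x ∈ d.Tsub
    rw [inv_mul_cancel]
    exact Subgroup.one_mem _

include d in
/-- **Main theorem of the `G3` libraries**: a finite group without subgroups of index `2` has
no Sylow `2`-subgroup carrying the data `Dat`. -/
theorem false_of_no_index_two (hG : ∀ H : Subgroup G, H.index ≠ 2) : False := by
  have : Fact (Nat.Prime 2) := ⟨Nat.prime_two⟩
  apply d.Tsub_ne hG
  apply le_antisymm d.Tsub_le
  have h1 : (P : Subgroup G) ⊓ commutator G = (P : Subgroup G) := by
    by_contra hne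
    obtain ⟨N, -, hN⟩ := Cfsg.Agent.Lib.Helper13.exists_normal_index_p_of_inf_commutator_ne P hne
    exact hG N hN
  have h2 := Subgroup.commutator_inf_eq_focalSubgroup P
  rw [inf_comm, h1] at h2
  rw [h2]
  exact d.focal_le_Tsub

end Dat

end Cfsg.Agent.Lib.Helper9.G3
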