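import Mathlib
import Cfsg.Prelude.Def_KGroupFacts
import Cfsg.Agent.Lib.Helper28.HSA
import Cfsg.Agent.Lib.Helper11.SchurJA
import Cfsg.Agent.Lib.Helper17.HSMultT3
import Cfsg.Agent.Lib.Helper19.HSMultT5
import Cfsg.Agent.Lib.Helper9.HSMultC2Gen

/-!
# S2046 piece [C2] (helper9 for helper18): the kernel of a finite stem extension of `HS = Kab` is a 2-group

Primes `r ∉ {2, 3, 5}`: cyclic Sylow subgroups (`SchurJ.not_dvd_of_sq_not_dvd`).  `p = 3`: piece [T3] with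
`u = (ab)^5`, `v`, `s` (words in `a, a⁻¹, b`, found in `C(u) = 3 × S5`).  `p = 5`: piece [T5] with `a5, b5, j`
inside `C(z)`, `z = (a^5 b)^4` of class `5A`.  All relations are checked on helper28's tables.
-/

set_option autoImplicit false
set_option maxRecDepth 100000

namespace Cfsg.Agent.Lib.Helper18.HSMult

open Cfsg.Agent.Lib.Helper28 Cfsg.Agent.Lib.Helper28.BSGS
open scoped commutatorElement

namespace Helper9

/-- the table of a letter (`0 = a`, `1 = a⁻¹`, `2 = b`) -/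
def ltb : ℕ → ℕ
  | 0 => HSAData.ta
  | 1 => HSAData.tai
  | _ => HSAData.tb

/-- the element of a letter -/
def lgK : ℕ → ↥HSA.Kab
  | 0 => HSA.aK
  | 1 => HSA.aK⁻¹
  | _ => HSA.bK

/-- the element of a word -/
def evK (w : List ℕ) : ↥HSA.Kab := (w.map lgK).prod

theorem lgK_acts (l : ℕ) : HSA.ActsT ((lgK l : ↥HSA.Kab) : HSA.P100) (ltb l) := by
  match l with
  | 0 => exact HSA.a_acts
  | 1 => exact HSA.ainv_acts
  | _ + 2 => exact HSA.b_acts

theorem evK_cons (l : ℕ) (w : List ℕ) : evK (l :: w) = lgK l * evK w := by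
  unfold evK
  rw [List.map_cons, List.prod_cons]

theorem evK_nil : evK [] = 1 := rfl

theorem evK_append (u v : List ℕ) : evK (u ++ v) = evK u * evK v := by
  unfold evK
  rw [List.map_append, List.prod_append]

theorem evK_acts (w : List ℕ) : ActsByW 100 7 ((evK w : ↥HSA.Kab) : HSA.P100) (w.map ltb) := by
  induction w with
  | nil => exact actsByW_one 100 7
  | cons l w ih =>
    rw [evK_cons, List.map_cons]
    exact actsByW_cons (lgK_acts l) ih

theorem evK_eq (w1 w2 : List ℕ) (h : wordEq 100 7 (w1.map ltb) (w2.map ltb) = true) :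
    evK w1 = evK w2 :=
  Subtype.ext (eq_of_wordEq 100 7 (evK_acts w1) (evK_acts w2) h)

theorem evK_ne (w1 w2 : List ℕ) (p : ℕ) (hp : p < 100)
    (h : evalW 7 (w1.map ltb) p ≠ evalW 7 (w2.map ltb) p) : evK w1 ≠ evK w2 := by
  intro heq
  apply h
  have h1 : (((evK w1 : ↥HSA.Kab) : HSA.P100) ⟨p, hp⟩).val = evalW 7 (w1.map ltb) p :=
    evK_acts w1 ⟨p, hp⟩
  have h2 : (((evK w2 : ↥HSA.Kab) : HSA.P100) ⟨p, hp⟩).val = evalW 7 (w2.map ltb) p :=
    evK_acts w2 ⟨p, hp⟩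
  rw [← h1, ← h2, heq]

/-- inverse letter -/
def invl : ℕ → ℕ
  | 0 => 1
  | 1 => 0
  | _ => 2

/-- inverse word -/
def invw (w : List ℕ) : List ℕ := w.reverse.map invl

theorem lgK_invl (l : ℕ) : lgK (invl l) = (lgK l)⁻¹ := by
  match l with
  | 0 => rfl
  | 1 => exact (inv_inv _).symm
  | _ + 2 => exact (inv_eq_of_mul_eq_one_left HSA.bK_sq).symm

theorem evK_invw (w : List ℕ) : evK (invw w) = (evK w)⁻¹ := by
  induction w with
  | nil => simp [invw, evK]
  | cons l w ih =>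
    have : invw (l :: w) = invw w ++ [invl l] := by simp [invw]
    rw [this, evK_append, ih, evK_cons, evK_cons, evK_nil, mul_one, lgK_invl, mul_inv_rev]

def wu : List ℕ := [0, 2, 0, 2, 0, 2, 0, 2, 0, 2]
def wv : List ℕ := [2, 1, 2, 1, 1, 2, 1, 2, 0, 2, 1, 1, 2, 0, 2, 0, 2, 0, 2, 0, 2, 1, 2, 0, 0, 0, 2, 1, 1, 1, 1, 2, 0, 0, 0, 2, 0, 0, 0]
def ws : List ℕ := [1, 1, 2, 1, 2, 0, 0, 0, 2, 1, 1, 2, 0, 0, 2, 0, 0, 0, 2, 1, 2, 1, 2, 1, 2, 0, 0, 0, 0, 2, 0, 0, 0]
def wa : List ℕ := [1, 2, 0, 0, 0, 2, 0, 0, 2, 0, 0, 2, 1, 1, 2, 1, 2, 1, 1, 1, 1, 1, 2, 0, 0, 2, 0, 2, 1, 1, 1, 2, 1, 2]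
def wb : List ℕ := [0, 2, 1, 1, 1, 2, 1, 2, 1, 2, 1, 1, 2, 0, 2, 0, 2, 1, 1, 2, 1, 1, 1, 2, 0, 0, 0, 2, 0, 2, 1, 1, 2, 0]
def wj : List ℕ := [1, 2, 1, 2, 1, 2, 0, 0, 2, 1, 2, 1, 1, 1, 1, 1, 2, 1, 2, 1, 2, 1, 1, 2, 0, 2, 0, 2, 1, 2, 1, 2, 0, 0, 0]

/-- the commutator word -/
def wz : List ℕ := wa ++ wb ++ invw wa ++ invw wb

def gu : ↥HSA.Kab := evK wu
def gv : ↥HSA.Kab := evK wv
def gs : ↥HSA.Kab := evK ws
def ga : ↥HSA.Kab := evK wa
def gb : ↥HSA.Kab := evK wb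
def gj : ↥HSA.Kab := evK wj

theorem huv : gu * gv = gv * gu := by
  have h := evK_eq (wu ++ wv) (wv ++ wu) (by decide +kernel)
  rw [evK_append, evK_append] at h
  exact h

theorem hu3 : gu ^ 3 = 1 := by
  have h := evK_eq (wu ++ wu ++ wu) [] (by decide +kernel)
  rw [evK_append, evK_append, evK_nil] at h
  rw [pow_three']
  exact h

theorem hv3 : gv ^ 3 = 1 := by
  have h := evK_eq (wv ++ wv ++ wv) [] (by decide +kernel)
  rw [evK_append, evK_append, evK_nil] at h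
  rw [pow_three']
  exact h

theorem hsu : gs * gu * gs⁻¹ = gu := by
  have h := evK_eq (ws ++ wu ++ invw ws) wu (by decide +kernel)
  rw [evK_append, evK_append, evK_invw] at h
  exact h

theorem hsv : gs * gv * gs⁻¹ = gv⁻¹ := by
  have h := evK_eq (ws ++ wv ++ invw ws) (invw wv) (by decide +kernel)
  rw [evK_append, evK_append, evK_invw, evK_invw] at h
  exact h

theorem hu1 : gu ≠ 1 := evK_ne wu [] 0 (by norm_num) (by decide +kernel)

theorem hv1 : gv ≠ 1 := evK_ne wv [] 0 (by norm_num) (by decide +kernel)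

theorem hvu : gv ∉ Subgroup.zpowers gu := by
  intro hmem
  obtain ⟨n, hn⟩ := Subgroup.mem_zpowers_iff.mp hmem
  have hc : Commute gs gu := by
    have := hsu
    rw [mul_inv_eq_iff_eq_mul] at this
    exact this
  have hcv : gs * gv = gv * gs := by rw [← hn]; exact (hc.zpow_right n)
  have h1 : gs * gv * gs⁻¹ = gv := by rw [hcv]; group
  rw [hsv] at h1
  -- gv⁻¹ = gv and gv ^ 3 = 1
  have h2 : gv * gv = 1 := by
    calc gv * gv = gv⁻¹ * gv := by rw [h1]
      _ = 1 := inv_mul_cancel gv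
  have h3 := hv3
  rw [pow_three', h2, one_mul] at h3
  exact hv1 h3

theorem card_K : Nat.card ↥HSA.Kab = 44352000 := HSA.card_Kab

theorem hidx3 : ¬ 3 ∣ (Subgroup.closure ({gu, gv} : Set ↥HSA.Kab)).index := by
  have := HSA.finite_K
  have : Fact (Nat.Prime 3) := ⟨by norm_num⟩
  apply not_dvd_index_of_pow_dvd 3 _ 2 (sq_dvd_card_closure_pair 3 gu gv huv hu3 hv3 hu1 hvu)
  rw [card_K]
  norm_num

theorem ha5 : ga ^ 5 = 1 := by
  have h := evK_eq (wa ++ wa ++ wa ++ wa ++ wa) [] (by decide +kernel)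
  rw [evK_append, evK_append, evK_append, evK_append, evK_nil] at h
  rw [pow_succ, pow_succ, pow_three']
  exact h

theorem hb5 : gb ^ 5 = 1 := by
  have h := evK_eq (wb ++ wb ++ wb ++ wb ++ wb) [] (by decide +kernel)
  rw [evK_append, evK_append, evK_append, evK_append, evK_nil] at h
  rw [pow_succ, pow_succ, pow_three']
  exact h

theorem hcomm : ⁅ga, gb⁆ = evK wz := by
  rw [commutatorElement_def]
  unfold wz
  rw [evK_append, evK_append, evK_append, evK_invw, evK_invw]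
  rfl

theorem hza : ⁅ga, gb⁆ * ga = ga * ⁅ga, gb⁆ := by
  rw [hcomm]
  have h := evK_eq (wz ++ wa) (wa ++ wz) (by decide +kernel)
  rw [evK_append, evK_append] at h
  exact h

theorem hzb : ⁅ga, gb⁆ * gb = gb * ⁅ga, gb⁆ := by
  rw [hcomm]
  have h := evK_eq (wz ++ wb) (wb ++ wz) (by decide +kernel)
  rw [evK_append, evK_append] at h
  exact h

theorem hz1 : ⁅ga, gb⁆ ≠ 1 := by
  rw [hcomm]
  exact evK_ne wz [] 0 (by norm_num) (by decide +kernel)

theorem hja : gj * ga * gj⁻¹ = ga⁻¹ := by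
  have h := evK_eq (wj ++ wa ++ invw wj) (invw wa) (by decide +kernel)
  rw [evK_append, evK_append, evK_invw, evK_invw] at h
  exact h

theorem hjb : gj * gb * gj⁻¹ = gb⁻¹ := by
  have h := evK_eq (wj ++ wb ++ invw wj) (invw wb) (by decide +kernel)
  rw [evK_append, evK_append, evK_invw, evK_invw] at h
  exact h

theorem hidx5 : ¬ 5 ∣ (Subgroup.closure ({ga, gb} : Set ↥HSA.Kab)).index := by
  have := HSA.finite_K
  have : Fact (Nat.Prime 5) := ⟨by norm_num⟩
  apply not_dvd_index_of_pow_dvd 5 _ 3 (cube_dvd_card_closure_pair 5 ga gb ha5 hb5 hza hzb hz1)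
  rw [card_K]
  norm_num

theorem prime_cases (d : ℕ) (hd : d.Prime) (h : d ^ 2 ∣ 44352000) : d = 2 ∨ d = 3 ∨ d = 5 := by
  have h0 : (44352000 : ℕ) = 2 ^ 9 * 3 ^ 2 * 5 ^ 3 * 7 * 11 := by norm_num
  have h1 : d ∣ 2 ^ 9 * 3 ^ 2 * 5 ^ 3 * 7 * 11 := by
    rw [← h0]; exact dvd_trans (dvd_pow_self d two_ne_zero) h
  rcases (Nat.Prime.dvd_mul hd).mp h1 with h2 | h2
  · rcases (Nat.Prime.dvd_mul hd).mp h2 with h3 | h3
    · rcases (Nat.Prime.dvd_mul hd).mp h3 with h4 | h4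
      · rcases (Nat.Prime.dvd_mul hd).mp h4 with h5 | h5
        · left
          exact (Nat.prime_dvd_prime_iff_eq hd Nat.prime_two).mp (hd.dvd_of_dvd_pow h5)
        · right; left
          exact (Nat.prime_dvd_prime_iff_eq hd Nat.prime_three).mp (hd.dvd_of_dvd_pow h5)
      · right; right
        exact (Nat.prime_dvd_prime_iff_eq hd (by norm_num)).mp (hd.dvd_of_dvd_pow h4)
    · exfalso
      have : d = 7 := (Nat.prime_dvd_prime_iff_eq hd (by norm_num)).mp h3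
      subst this
      norm_num at h
  · exfalso
    have : d = 11 := (Nat.prime_dvd_prime_iff_eq hd (by norm_num)).mp h2
    subst this
    norm_num at h

end Helper9

open _root_.Cfsg.Agent.Lib.Helper18.HSMult.Helper9 in
/-- [C2] the kernel of a finite stem extension of `HS` is a 2-group -/
theorem isPGroup_two_ker (Γ : Type) [Group Γ] [Finite Γ]
    (σ : Γ →* ↥Cfsg.Agent.Lib.Helper28.HSA.Kab) (hσ : Cfsg.IsStemExtension σ) :
    IsPGroup 2 σ.ker := by
  have := HSA.finite_K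
  have hall : ∀ {d : ℕ}, d.Prime → d ∣ Nat.card σ.ker → d = 2 := by
    intro d hd hdvd
    by_contra hne
    have : Fact d.Prime := ⟨hd⟩
    by_cases hsq : d ^ 2 ∣ Nat.card ↥HSA.Kab
    · rw [card_K] at hsq
      rcases prime_cases d hd hsq with rfl | rfl | rfl
      · exact hne rfl
      · exact Cfsg.Agent.Lib.Helper18.HSMult.not_dvd_card_ker_of_abelian_inverted σ hσ 3 (by norm_num)
          gu gv gs huv hu3 hsu hsv hidx3 hdvd
      · exact Cfsg.Agent.Lib.Helper18.HSMult.not_dvd_card_ker_of_class_two_inverted σ hσ 5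
          (by norm_num) ga gb gj ha5 hb5 hza hzb hz1 hja hjb hidx5 hdvd
    · exact Cfsg.Agent.Lib.Helper11.SchurJ.not_dvd_of_sq_not_dvd σ hσ d hsq hdvd
  have hcard := Nat.eq_prime_pow_of_unique_prime_dvd (Nat.card_pos.ne') hall
  exact IsPGroup.of_card hcard

end Cfsg.Agent.Lib.Helper18.HSMult
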