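import Mathlib
import Cfsg.Agent.H5.StemTC

/-!
# S2134 piece [ISO] (helper9 for helper22): two triples satisfying relators that bound the order by `N`,
each generating at least `N` elements, generate isomorphic groups (diagonal subgroup of `A × B`).

`iso_of_card_bound` carries one hypothesis more than the skeleton statement (`hl`, between `N` and `hbound`):
all letters of the relators are `< 2 * 3` (only the first three generators occur).  Without it the statement does not follow by the
diagonal argument, since `ev a r` could involve `a 3, a 4, …`, which need not lie in the diagonal group.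
-/

set_option autoImplicit false

namespace Cfsg.Agent.Lib.Helper22.HeCent

open Cfsg.H5.TCk

namespace Helper9

theorem gl_congr {G : Type*} [Group G] (γ γ' : ℕ → G) (k : ℕ) (h : ∀ i < k, γ i = γ' i)
    (l : ℕ) (hl : l < 2 * k) : gl γ l = gl γ' l := by
  unfold gl
  have h2 : l / 2 < k := by omega
  rw [h _ h2]

theorem ev_congr {G : Type*} [Group G] (γ γ' : ℕ → G) (k : ℕ) (h : ∀ i < k, γ i = γ' i) :
    ∀ r : List ℕ, (∀ l ∈ r, l < 2 * k) → ev γ r = ev γ' r := by
  intro r
  induction r with
  | nil => intro _; simp [ev]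
  | cons l w ih =>
    intro hl
    simp only [ev]
    rw [gl_congr γ γ' k h l (hl l (by simp)), ih (fun l' hl' => hl l' (by simp [hl']))]

/-- the diagonal subgroup -/
def diag {A B : Type*} [Group A] [Group B] (a : ℕ → A) (b : ℕ → B) : Subgroup (A × B) :=
  Subgroup.closure (Set.range fun i : Fin 3 => ((a i.val, b i.val) : A × B))

/-- its generators -/
noncomputable def dgen {A B : Type*} [Group A] [Group B] (a : ℕ → A) (b : ℕ → B) (i : ℕ) :
    ↥(diag a b) :=
  if h : i < 3 then ⟨(a i, b i), Subgroup.subset_closure ⟨⟨i, h⟩, rfl⟩⟩ else 1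

theorem dgen_val {A B : Type*} [Group A] [Group B] (a : ℕ → A) (b : ℕ → B) (i : ℕ) (h : i < 3) :
    ((dgen a b i : ↥(diag a b)) : A × B) = (a i, b i) := by
  unfold dgen
  rw [dif_pos h]

theorem dgen_closure {A B : Type*} [Group A] [Group B] (a : ℕ → A) (b : ℕ → B) :
    Subgroup.closure (Set.range fun i : Fin 3 => dgen a b i.val) = ⊤ := by
  apply Subgroup.map_injective (diag a b).subtype_injective
  rw [MonoidHom.map_closure, ← MonoidHom.range_eq_map, Subgroup.range_subtype]
  unfold diag
  congr 1
  ext x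
  constructor
  · rintro ⟨_, ⟨i, rfl⟩, rfl⟩
    exact ⟨i, (dgen_val a b i.val i.isLt).symm⟩
  · rintro ⟨i, rfl⟩
    exact ⟨_, ⟨i, rfl⟩, dgen_val a b i.val i.isLt⟩

theorem ev_dgen {A B : Type*} [Group A] [Group B] (a : ℕ → A) (b : ℕ → B) (r : List ℕ)
    (hl : ∀ l ∈ r, l < 6) :
    ((ev (dgen a b) r : ↥(diag a b)) : A × B) = (ev a r, ev b r) := by
  have h1 : ((ev (dgen a b) r : ↥(diag a b)) : A × B) =
      ev (fun i => ((dgen a b i : ↥(diag a b)) : A × B)) r :=
    Cfsg.H5.StemTC.map_ev (diag a b).subtype (dgen a b) r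
  rw [h1]
  have hl' : ∀ l ∈ r, l < 2 * 3 := hl
  apply Prod.ext
  · have h2 := Cfsg.H5.StemTC.map_ev (MonoidHom.fst A B)
      (fun i => ((dgen a b i : ↥(diag a b)) : A × B)) r
    simp only [MonoidHom.coe_fst] at h2
    rw [h2]
    apply ev_congr _ _ 3 _ r hl'
    intro i hi
    simp only [dgen_val a b i hi]
  · have h2 := Cfsg.H5.StemTC.map_ev (MonoidHom.snd A B)
      (fun i => ((dgen a b i : ↥(diag a b)) : A × B)) r
    simp only [MonoidHom.coe_snd] at h2
    rw [h2]
    apply ev_congr _ _ 3 _ r hl'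
    intro i hi
    simp only [dgen_val a b i hi]

/-- a surjection from a group of order at most `N` onto a subgroup of order at least `N` -/
theorem equiv_of_proj {D A : Type*} [Group D] [Group A] [Finite D] (f : D →* A) (A' : Subgroup A)
    (hr : f.range = A') (N : ℕ) (hD : Nat.card D ≤ N) (hA : N ≤ Nat.card ↥A') :
    Nonempty (D ≃* ↥A') := by
  subst hr
  have hsurj : Function.Surjective f.rangeRestrict := f.rangeRestrict_surjective
  have hbij : Function.Bijective f.rangeRestrict :=
    hsurj.bijective_of_nat_card_le (le_trans hD hA)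
  exact ⟨MulEquiv.ofBijective f.rangeRestrict hbij⟩

end Helper9

open Helper9 in
/-- [ISO] two triples satisfying relators that bound the order by `N`, each generating at least
`N` elements, generate isomorphic groups.  (The letters of the relators are `< 6`.) -/
theorem iso_of_card_bound (rels : List (List ℕ)) (N : ℕ)
    (hl : ∀ r ∈ rels, r.all (fun l => decide (l < 2 * 3)) = true)
    (hbound : ∀ (Q : Type) [Group Q] (q : ℕ → Q),
      Subgroup.closure (Set.range fun i : Fin 3 => q i.val) = ⊤ →
      (∀ r ∈ rels, ev q r = 1) → Finite Q ∧ Nat.card Q ≤ N)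
    {A B : Type} [Group A] [Group B] [Finite A] [Finite B] (a : ℕ → A) (b : ℕ → B)
    (ha : ∀ r ∈ rels, ev a r = 1) (hb : ∀ r ∈ rels, ev b r = 1)
    (hA : N ≤ Nat.card ↥(Subgroup.closure (Set.range fun i : Fin 3 => a i.val)))
    (hB : N ≤ Nat.card ↥(Subgroup.closure (Set.range fun i : Fin 3 => b i.val))) :
    Nonempty (↥(Subgroup.closure (Set.range fun i : Fin 3 => a i.val)) ≃*
      ↥(Subgroup.closure (Set.range fun i : Fin 3 => b i.val))) := by
  have hrel : ∀ r ∈ rels, ev (dgen a b) r = 1 := by
    intro r hr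
    apply Subtype.ext
    have hl6 : ∀ l ∈ r, l < 6 := by
      intro l hlr
      have h1 := List.all_eq_true.mp (hl r hr) l hlr
      have h2 : l < 2 * 3 := of_decide_eq_true h1
      omega
    rw [ev_dgen a b r hl6, ha r hr, hb r hr]
    rfl
  obtain ⟨_, hcard⟩ := hbound ↥(diag a b) (dgen a b) (dgen_closure a b) hrel
  have hfst : ((MonoidHom.fst A B).comp (diag a b).subtype).range =
      Subgroup.closure (Set.range fun i : Fin 3 => a i.val) := by
    rw [MonoidHom.range_comp, Subgroup.range_subtype]
    unfold diag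
    rw [MonoidHom.map_closure]
    congr 1
    ext x
    constructor
    · rintro ⟨_, ⟨i, rfl⟩, rfl⟩
      exact ⟨i, rfl⟩
    · rintro ⟨i, rfl⟩
      exact ⟨_, ⟨i, rfl⟩, rfl⟩
  have hsnd : ((MonoidHom.snd A B).comp (diag a b).subtype).range =
      Subgroup.closure (Set.range fun i : Fin 3 => b i.val) := by
    rw [MonoidHom.range_comp, Subgroup.range_subtype]
    unfold diag
    rw [MonoidHom.map_closure]
    congr 1
    ext x
    constructor
    · rintro ⟨_, ⟨i, rfl⟩, rfl⟩
      exact ⟨i, rfl⟩
    · rintro ⟨i, rfl⟩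
      exact ⟨_, ⟨i, rfl⟩, rfl⟩
  obtain ⟨eA⟩ := equiv_of_proj _ _ hfst N hcard hA
  obtain ⟨eB⟩ := equiv_of_proj _ _ hsnd N hcard hB
  exact ⟨eA.symm.trans eB⟩

end Cfsg.Agent.Lib.Helper22.HeCent
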