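import Mathlib
import Cfsg.Agent.H5.StemTC
import Cfsg.Agent.Lib.Helper17.CountChain
import Cfsg.Agent.Lib.Helper22.HeCTCData

/-!
# S2134 piece [MAT-L] (helper9 for helper22): three matrices of `SL(5, 2)` commuting with the
transvection `1 + E₀₁`, satisfying the relators `relsG` and generating at least `21504` elements.

The lower bound is a counted stabilizer chain on the vectors `e₁, e₂, e₃, e₄` (basic orbits
`16 * 14 * 12 * 8`, transversal elements given as words), via helper17's `count_chain_le`.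
-/

set_option autoImplicit false
set_option maxRecDepth 100000

namespace Cfsg.Agent.Lib.Helper22.HeCent

open Cfsg.H5.TCk

namespace Helper9L

abbrev M5 := Matrix (Fin 5) (Fin 5) (ZMod 2)
abbrev V5 := Fin 5 → ZMod 2
abbrev SL5 := Matrix.SpecialLinearGroup (Fin 5) (ZMod 2)

def mY : M5 := !![1,0,0,0,0; 0,1,0,0,0; 0,0,1,0,1; 0,0,1,0,0; 0,0,0,1,0]
def mYi : M5 := !![1,0,0,0,0; 0,1,0,0,0; 0,0,0,1,0; 0,0,0,0,1; 0,0,1,1,0]
def mQ : M5 := !![1,1,1,1,1; 0,1,0,0,0; 0,1,1,0,0; 0,1,0,1,0; 0,0,0,0,1]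
def mX : M5 := !![1,1,1,0,0; 0,1,0,0,0; 0,1,0,1,1; 0,0,1,0,1; 0,0,0,0,1]
def mXi : M5 := !![1,1,0,1,1; 0,1,0,0,0; 0,0,0,1,1; 0,1,1,0,1; 0,0,0,0,1]
def mT : M5 := !![1,1,0,0,0; 0,1,0,0,0; 0,0,1,0,0; 0,0,0,1,0; 0,0,0,0,1]

/-- the matrix of a letter -/
def lm : ℕ → M5
  | 0 => mY
  | 1 => mYi
  | 2 => mQ
  | 3 => mQ
  | 4 => mX
  | 5 => mXi
  | _ => 1

theorem det_of_mul (a b : M5) (h : a * b = 1) : a.det = 1 := by
  have h1 : a.det * b.det = 1 := by rw [← Matrix.det_mul, h, Matrix.det_one]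
  have h2 : ∀ x y : ZMod 2, x * y = 1 → x = 1 := by decide
  exact h2 _ _ h1

theorem mY_mul : mY * mYi = 1 := by decide +kernel
theorem mYi_mul : mYi * mY = 1 := by decide +kernel
theorem mQ_mul : mQ * mQ = 1 := by decide +kernel
theorem mX_mul : mX * mXi = 1 := by decide +kernel
theorem mXi_mul : mXi * mX = 1 := by decide +kernel
theorem mT_eq : Matrix.transvection (0 : Fin 5) 1 (1 : ZMod 2) = mT := by decide +kernel
theorem mT_mY : mT * mY = mY * mT := by decide +kernel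
theorem mT_mQ : mT * mQ = mQ * mT := by decide +kernel
theorem mT_mX : mT * mX = mX * mT := by decide +kernel

def gY : SL5 := ⟨mY, det_of_mul _ _ mY_mul⟩
def gYi : SL5 := ⟨mYi, det_of_mul _ _ mYi_mul⟩
def gQ : SL5 := ⟨mQ, det_of_mul _ _ mQ_mul⟩
def gX : SL5 := ⟨mX, det_of_mul _ _ mX_mul⟩
def gXi : SL5 := ⟨mXi, det_of_mul _ _ mXi_mul⟩

/-- the three generators -/
def bgen : ℕ → SL5
  | 0 => gY
  | 1 => gQ
  | 2 => gX
  | _ => 1

/-- the group element of a letter -/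
def lg : ℕ → SL5
  | 0 => gY
  | 1 => gYi
  | 2 => gQ
  | 3 => gQ
  | 4 => gX
  | 5 => gXi
  | _ => 1

theorem lg_val (l : ℕ) : ((lg l : SL5) : M5) = lm l := by
  match l with
  | 0 => rfl
  | 1 => rfl
  | 2 => rfl
  | 3 => rfl
  | 4 => rfl
  | 5 => rfl
  | _ + 6 => rfl

theorem gY_inv : gY⁻¹ = gYi := by
  apply inv_eq_of_mul_eq_one_right
  apply Subtype.ext
  exact mY_mul

theorem gQ_inv : gQ⁻¹ = gQ := by
  apply inv_eq_of_mul_eq_one_right
  apply Subtype.ext
  exact mQ_mul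

theorem gX_inv : gX⁻¹ = gXi := by
  apply inv_eq_of_mul_eq_one_right
  apply Subtype.ext
  exact mX_mul

theorem gl_bgen (l : ℕ) : gl bgen l = lg l := by
  match l with
  | 0 => rfl
  | 1 => exact gY_inv
  | 2 => rfl
  | 3 => exact gQ_inv
  | 4 => rfl
  | 5 => exact gX_inv
  | n + 6 =>
    unfold gl
    have h : (n + 6) / 2 = n / 2 + 3 := by omega
    rw [h]
    show (if (n + 6) % 2 = 0 then (1 : SL5) else (1 : SL5)⁻¹) = 1
    split_ifs
    · rfl
    · exact inv_one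

/-- matrix of a word -/
def evM : List ℕ → M5
  | [] => 1
  | l :: w => lm l * evM w

theorem ev_val (w : List ℕ) : ((ev bgen w : SL5) : M5) = evM w := by
  induction w with
  | nil => rfl
  | cons l w ih =>
    simp only [ev, evM]
    rw [Matrix.SpecialLinearGroup.coe_mul, ih, gl_bgen, lg_val]

theorem rels_evM : ∀ r ∈ relsG, evM r = 1 := by decide +kernel

/-- action of a word on a vector -/
def actW : List ℕ → V5 → V5
  | [], v => v
  | l :: w, v => Matrix.mulVec (lm l) (actW w v)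

theorem ev_smul (w : List ℕ) (v : V5) : (ev bgen w : SL5) • v = actW w v := by
  induction w with
  | nil => simp only [ev, actW, one_smul]
  | cons l w ih =>
    simp only [ev, actW]
    rw [mul_smul, ih, gl_bgen]
    show ((lg l : SL5) : M5) • actW w v = _
    rw [lg_val]
    rfl

/-- the generated subgroup -/
def KK : Subgroup SL5 := Subgroup.closure (Set.range fun i : Fin 3 => bgen i.val)

theorem ev_mem_KK (w : List ℕ) (hw : w.all (fun l => decide (l < 2 * 3)) = true) :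
    ev bgen w ∈ KK :=
  Cfsg.H5.StemTC.ev_mem bgen KK 3 (fun i hi => Subgroup.subset_closure ⟨⟨i, hi⟩, rfl⟩) w hw

open Cfsg.Agent.Lib.Helper28.BSGS Cfsg.Agent.Lib.Helper22.SuzOut

/-- a level of the chain from a table of (orbit point, transversal word) -/
def mkLevel (bpt : V5) (tab : List (V5 × List ℕ)) : SLevel SL5 V5 where
  b := bpt
  O := tab.map Prod.fst
  u := fun x => match tab.find? (fun p => decide (p.1 = x)) with
    | some p => ev bgen p.2
    | none => 1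
  S' := []

/-- the computable check of a table -/
def chkTab (prev : List V5) (bpt : V5) (tab : List (V5 × List ℕ)) : Bool :=
  tab.all fun p => p.2.all (fun l => decide (l < 2 * 3)) && decide (actW p.2 bpt = p.1) &&
    prev.all (fun q => decide (actW p.2 q = q))

theorem level_ok (prev : List V5) (bpt : V5) (tab : List (V5 × List ℕ))
    (h : chkTab prev bpt tab = true) :
    ∀ x ∈ (mkLevel bpt tab).O, (mkLevel bpt tab).u x ∈ KK ∧
      (mkLevel bpt tab).u x • (mkLevel bpt tab).b = x ∧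
      ∀ p ∈ prev, (mkLevel bpt tab).u x • p = p := by
  intro x hx
  obtain ⟨p0, hp0, hp0x⟩ := List.mem_map.mp hx
  show (match tab.find? (fun p => decide (p.1 = x)) with
      | some p => ev bgen p.2
      | none => 1) ∈ KK ∧
    (match tab.find? (fun p => decide (p.1 = x)) with
      | some p => ev bgen p.2
      | none => (1 : SL5)) • bpt = x ∧
    ∀ p ∈ prev, (match tab.find? (fun p => decide (p.1 = x)) with
      | some p => ev bgen p.2
      | none => (1 : SL5)) • p = p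
  cases hf : tab.find? (fun p => decide (p.1 = x)) with
  | none =>
    exfalso
    have := List.find?_eq_none.mp hf p0 hp0
    simp [hp0x] at this
  | some p =>
    have hpx0 : decide (p.1 = x) = true :=
      List.find?_some (p := fun q : V5 × List ℕ => decide (q.1 = x)) (a := p) hf
    have hpx : p.1 = x := of_decide_eq_true hpx0
    have hpm : p ∈ tab := List.mem_of_find?_eq_some hf
    have hc := List.all_eq_true.mp h p hpm
    rw [Bool.and_eq_true, Bool.and_eq_true] at hc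
    obtain ⟨⟨h1, h2⟩, h3⟩ := hc
    refine ⟨ev_mem_KK p.2 h1, ?_, ?_⟩
    · show (ev bgen p.2 : SL5) • bpt = x
      rw [ev_smul, of_decide_eq_true h2, hpx]
    · intro q hq
      show (ev bgen p.2 : SL5) • q = q
      rw [ev_smul]
      exact of_decide_eq_true (List.all_eq_true.mp h3 q hq)

def e1 : V5 := ![0,1,0,0,0]
def e2 : V5 := ![0,0,1,0,0]
def e3 : V5 := ![0,0,0,1,0]
def e4 : V5 := ![0,0,0,0,1]

def tab0 : List (V5 × List ℕ) :=
  [(![0,1,0,0,0], []),
   (![0,1,0,0,1], [5, 0, 0, 2]),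
   (![0,1,0,1,0], [0, 0, 2, 1, 5]),
   (![0,1,0,1,1], [2, 1, 5]),
   (![0,1,1,0,0], [0, 5, 0, 0, 2]),
   (![0,1,1,0,1], [0, 2, 1, 5]),
   (![0,1,1,1,0], [1, 1, 2, 1, 5]),
   (![0,1,1,1,1], [1, 2, 1, 5]),
   (![1,1,0,0,0], [2, 1, 1, 2, 1, 5]),
   (![1,1,0,0,1], [0, 5]),
   (![1,1,0,1,0], [5]),
   (![1,1,0,1,1], [0, 0, 2]),
   (![1,1,1,0,0], [4]),
   (![1,1,1,0,1], [1, 5]),
   (![1,1,1,1,0], [2]),
   (![1,1,1,1,1], [0, 2])]

def tab1 : List (V5 × List ℕ) :=
  [(![0,0,0,0,1], [1]),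
   (![0,0,0,1,0], [1, 1]),
   (![0,0,0,1,1], [0, 0, 0]),
   (![0,0,1,0,0], []),
   (![0,0,1,0,1], [1, 1, 1]),
   (![0,0,1,1,0], [0]),
   (![0,0,1,1,1], [0, 0]),
   (![1,0,0,0,1], [4, 0, 4, 0, 2]),
   (![1,0,0,1,0], [4, 1, 1, 4, 1]),
   (![1,0,0,1,1], [4, 1, 1, 4]),
   (![1,0,1,0,0], [0, 4, 0, 4, 0, 2]),
   (![1,0,1,0,1], [0, 4, 1, 1, 4]),
   (![1,0,1,1,0], [1, 1, 4, 1, 1, 4]),
   (![1,0,1,1,1], [1, 4, 1, 1, 4])]

def tab2 : List (V5 × List ℕ) :=
  [(![0,0,0,0,1], [2, 0, 4, 0, 0]),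
   (![0,0,0,1,0], []),
   (![0,0,0,1,1], [5, 1, 2, 1]),
   (![0,0,1,0,1], [2, 0, 5, 0, 4, 0]),
   (![0,0,1,1,0], [1, 1, 2, 0, 4, 0]),
   (![0,0,1,1,1], [0, 2, 0, 4]),
   (![1,0,0,0,1], [0, 2, 1, 1, 1, 5, 0, 5]),
   (![1,0,0,1,0], [0, 2, 0, 0, 4, 1, 5]),
   (![1,0,0,1,1], [4, 0, 5, 1, 4]),
   (![1,0,1,0,1], [5, 0, 0, 0, 5, 0, 5]),
   (![1,0,1,1,0], [0, 0, 5, 0, 0, 5]),
   (![1,0,1,1,1], [1, 2, 0, 0, 0, 5])]

def tab3 : List (V5 × List ℕ) :=
  [(![0,0,0,0,1], []),
   (![0,0,0,1,1], [0, 0, 0, 2, 0, 4, 0, 0, 0]),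
   (![0,0,1,0,1], [1, 2, 1, 1, 1, 5, 1, 4]),
   (![0,0,1,1,1], [0, 5, 0, 4, 0, 0, 2, 0, 5]),
   (![1,0,0,0,1], [0, 0, 0, 2, 1, 2, 1, 1, 2]),
   (![1,0,0,1,1], [0, 4, 0, 0, 0, 2, 0, 5]),
   (![1,0,1,0,1], [0, 4, 0, 5, 1, 4, 1]),
   (![1,0,1,1,1], [0, 0, 0, 5, 0, 0, 5, 1])]

def levels : List (SLevel SL5 V5) :=
  [mkLevel e1 tab0, mkLevel e2 tab1, mkLevel e3 tab2, mkLevel e4 tab3]

theorem chk0 : chkTab [] e1 tab0 = true := by decide +kernel
theorem chk1 : chkTab [e1] e2 tab1 = true := by decide +kernel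
theorem chk2 : chkTab [e2, e1] e3 tab2 = true := by decide +kernel
theorem chk3 : chkTab [e3, e2, e1] e4 tab3 = true := by decide +kernel
theorem nodup0 : (tab0.map Prod.fst).Nodup := by decide +kernel
theorem nodup1 : (tab1.map Prod.fst).Nodup := by decide +kernel
theorem nodup2 : (tab2.map Prod.fst).Nodup := by decide +kernel
theorem nodup3 : (tab3.map Prod.fst).Nodup := by decide +kernel

theorem countChain : CountChain KK [] levels :=
  ⟨nodup0, level_ok [] e1 tab0 chk0, nodup1, level_ok [e1] e2 tab1 chk1,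
   nodup2, level_ok [e2, e1] e3 tab2 chk2, nodup3, level_ok [e3, e2, e1] e4 tab3 chk3, trivial⟩

theorem chainSize_levels : chainSize levels = 21504 := by decide +kernel

theorem card_KK : 21504 ≤ Nat.card ↥KK := by
  have h := count_chain_le KK levels countChain
  rw [chainSize_levels] at h
  exact h

end Helper9L

open Helper9L in
/-- [MAT-L] three matrices commuting with the transvection, satisfying the relators `relsG` and
generating at least `21504` elements. -/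
theorem exists_matrix_gens (s : Matrix.SpecialLinearGroup (Fin 5) (ZMod 2))
    (hs : (s : Matrix (Fin 5) (Fin 5) (ZMod 2)) = Matrix.transvection 0 1 1) :
    ∃ b : ℕ → Matrix.SpecialLinearGroup (Fin 5) (ZMod 2),
      (∀ r ∈ relsG, ev b r = 1) ∧
      (∀ i, b i ∈ Subgroup.centralizer ({s} : Set (Matrix.SpecialLinearGroup (Fin 5) (ZMod 2)))) ∧
      21504 ≤ Nat.card ↥(Subgroup.closure (Set.range fun i : Fin 3 => b i.val)) := by
  refine ⟨bgen, ?_, ?_, card_KK⟩
  · intro r hr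
    apply Subtype.ext
    rw [ev_val, rels_evM r hr]
    rfl
  · intro i
    rw [Subgroup.mem_centralizer_iff]
    intro h hh
    rw [Set.mem_singleton_iff] at hh
    subst hh
    apply Subtype.ext
    rw [Matrix.SpecialLinearGroup.coe_mul, Matrix.SpecialLinearGroup.coe_mul, hs, mT_eq]
    match i with
    | 0 => exact mT_mY
    | 1 => exact mT_mQ
    | 2 => exact mT_mX
    | _ + 3 =>
      show mT * (1 : M5) = 1 * mT
      rw [mul_one, one_mul]

end Cfsg.Agent.Lib.Helper22.HeCent
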