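import Mathlib
import Cfsg.Prelude.Def_GeometricClasses
import Cfsg.Agent.Lib.Helper29.AschCorA
import Cfsg.Agent.Lib.Helper29.AschCorB
import Cfsg.Agent.Lib.Helper24.HubCorS123
import Cfsg.Agent.Lib.Helper24.HubCorA2
import Cfsg.Agent.Lib.Helper17.S5775PRSIM
import Cfsg.Agent.H5.HubCorP2
import Cfsg.Agent.H5.HubCorP3
import Cfsg.Agent.Lib.Helper9.HubCorA1
import Cfsg.Agent.Lib.Helper9.HubCorS4
import Cfsg.Agent.Lib.Helper9.HubCorS5

set_option autoImplicit false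

/-! Maximal subgroups of `SL_n(q)` for `n` neither a prime power nor a perfect power `m ^ t`
(`m ≥ 3`, `t ≥ 2`): assembly of the list from the hub statement (as a hypothesis). -/

namespace Cfsg.Agent.Lib.Helper9.HubComp

open Cfsg Cfsg.Geo
open scoped MatrixGroups Matrix Kronecker

variable {F : Type*} [Field F] [Fintype F]

/-- The hub statement as a hypothesis. -/
def Hub (n : ℕ) (F : Type*) [Field F] [Fintype F] : Prop :=
  ∀ H : Subgroup (GL (Fin n) F), H ≤ specialLinear (Fin n) F →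
    H ⊔ (scalars (Fin n) F ⊓ specialLinear (Fin n) F) ≠ specialLinear (Fin n) F →
    (∃ M : Subgroup (GL (Fin n) F), InLinearClass n F M ∧ H ≤ M) ∨ InLinearResidualClass H

/-- The dimension of a class-6 datum is a power of its prime (as a hypothesis). -/
def C6Pow (n : ℕ) (F : Type*) [Field F] [Fintype F] : Prop :=
  ∀ (r : ℕ) (R : Subgroup (GL (Fin n) F)), IsLinearSymplecticTypeData r R → ∃ k : ℕ, n = r ^ k

/-- Generic reduction for `n` not a prime power and not a perfect power `m ^ t` (`m ≥ 3`, `t ≥ 2`). -/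
theorem reduce {n : ℕ} (hn : 3 ≤ n) (hpp : ∀ r k : ℕ, r.Prime → n ≠ r ^ k)
    (hperf : ∀ m t : ℕ, 3 ≤ m → 2 ≤ t → n ≠ m ^ t)
    (hub : Hub n F) (hC6 : C6Pow n F) (H : Subgroup (GL (Fin n) F))
    (hH : IsMaximalIn (specialLinear (Fin n) F) H) :
    (∃ W : Submodule F (Fin n → F), W ≠ ⊥ ∧ W ≠ ⊤ ∧
        H = subspaceStabilizer W ⊓ specialLinear (Fin n) F) ∨
    (∃ (t m : ℕ) (D : Fin t → Submodule F (Fin n → F)), IsMDecomposition m D ∧
        (m = 1 → 5 ≤ Fintype.card F) ∧ (m = 2 → 3 ≤ Fintype.card F) ∧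
        H = decompositionStabilizer D ⊓ specialLinear (Fin n) F) ∨
    (∃ (r : ℕ) (K : Subalgebra F (Matrix (Fin n) (Fin n) F)), r.Prime ∧ IsFieldSubalgebra r K ∧
        H = subalgebraNormalizer K ⊓ specialLinear (Fin n) F) ∨
    (∃ (n₁ n₂ : ℕ) (e : Fin n ≃ Fin n₁ × Fin n₂) (P : GL (Fin n) F), 2 ≤ n₁ ∧ n₁ < n₂ ∧
        (n₁ = 2 → 3 ≤ Fintype.card F) ∧
        H = tensorProductSubgroup n₁ n₂ e P ⊓ specialLinear (Fin n) F) ∨
    (∃ (F₀ : Subfield F) (r : ℕ) (P : GL (Fin n) F), r.Prime ∧ Fintype.card F = Nat.card F₀ ^ r ∧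
        H = subfieldSubgroup F₀ P ⊓ specialLinear (Fin n) F) ∨
    (Odd (Fintype.card F) ∧ ∃ Q : (Fin n → F) → F, IsNondegenerateQuadraticForm Q ∧
        H = quadSimilarityGroup Q ⊓ specialLinear (Fin n) F) ∨
    (∃ f : (Fin n → F) → (Fin n → F) → F, IsSymplecticForm f ∧
        H = similarityGroup f ⊓ specialLinear (Fin n) F) ∨
    (∃ (σ : F ≃+* F) (f : (Fin n → F) → (Fin n → F) → F), IsUnitaryForm σ f ∧
        H = similarityGroup f ⊓ specialLinear (Fin n) F) ∨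
    InLinearResidualClass H := by
  classical
  have hn2 : 2 ≤ n := by omega
  have hn0 : 0 < n := by omega
  have hp := Cfsg.Agent.Lib.Helper29.AschCor.hproper_of_max hn H hH
  have hcard : 2 ≤ Fintype.card F := Fintype.one_lt_card
  -- conclusions by class member
  have cSub : ∀ W : Submodule F (Fin n → F), W ≠ ⊥ → W ≠ ⊤ → H ≤ subspaceStabilizer W →
      ∃ W : Submodule F (Fin n → F), W ≠ ⊥ ∧ W ≠ ⊤ ∧
        H = subspaceStabilizer W ⊓ specialLinear (Fin n) F := fun W h0 h1 hle =>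
    ⟨W, h0, h1, Cfsg.Agent.Lib.Helper29.AschCor.eq_of_le_member H _ hH hle (Cfsg.Agent.Lib.Helper29.AschCor.not_sl_le_subspaceStabilizer hn2 W h0 h1)⟩
  have cQuad : Odd (Fintype.card F) → ∀ Q : (Fin n → F) → F, IsNondegenerateQuadraticForm Q →
      H ≤ quadSimilarityGroup Q →
      (Odd (Fintype.card F) ∧ ∃ Q : (Fin n → F) → F, IsNondegenerateQuadraticForm Q ∧
        H = quadSimilarityGroup Q ⊓ specialLinear (Fin n) F) := fun hodd Q hQ hle =>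
    ⟨hodd, Q, hQ, Cfsg.Agent.Lib.Helper29.AschCor.eq_of_le_member H _ hH hle (Cfsg.Agent.Lib.Helper17.S5775PRSIM.not_sl_le_quadSimilarityGroup hn Q hQ)⟩
  have cSymp : ∀ f : (Fin n → F) → (Fin n → F) → F, IsSymplecticForm f → H ≤ similarityGroup f →
      ∃ f : (Fin n → F) → (Fin n → F) → F, IsSymplecticForm f ∧
        H = similarityGroup f ⊓ specialLinear (Fin n) F := fun f hf hle =>
    ⟨f, hf, Cfsg.Agent.Lib.Helper29.AschCor.eq_of_le_member H _ hH hle (Cfsg.Agent.Lib.Helper17.S5775PRSIM.not_sl_le_similarityGroup_symplectic hn f hf)⟩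
  have cUnit : ∀ (σ : F ≃+* F) (f : (Fin n → F) → (Fin n → F) → F), IsUnitaryForm σ f →
      H ≤ similarityGroup f →
      ∃ (σ : F ≃+* F) (f : (Fin n → F) → (Fin n → F) → F), IsUnitaryForm σ f ∧
        H = similarityGroup f ⊓ specialLinear (Fin n) F := fun σ f hf hle =>
    ⟨σ, f, hf, Cfsg.Agent.Lib.Helper29.AschCor.eq_of_le_member H _ hH hle (Cfsg.Agent.Lib.Helper17.S5775PRSIM.not_sl_le_similarityGroup_unitary hn σ f hf)⟩
  have cField : ∀ (r : ℕ) (K : Subalgebra F (Matrix (Fin n) (Fin n) F)), r.Prime →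
      IsFieldSubalgebra r K → H ≤ subalgebraNormalizer K →
      ∃ (r : ℕ) (K : Subalgebra F (Matrix (Fin n) (Fin n) F)), r.Prime ∧ IsFieldSubalgebra r K ∧
        H = subalgebraNormalizer K ⊓ specialLinear (Fin n) F := fun r K hr hK hle =>
    ⟨r, K, hr, hK, Cfsg.Agent.Lib.Helper29.AschCor.eq_of_le_member H _ hH hle (Cfsg.H5.HubCor.not_sl_le_subalgebraNormalizer hn hr K hK)⟩
  rcases hub H hH.1.le hp with ⟨M, hM, hHM⟩ | hres
  swap
  · exact Or.inr (Or.inr (Or.inr (Or.inr (Or.inr (Or.inr (Or.inr (Or.inr hres)))))))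
  rcases hM with ⟨W, h0, h1, rfl⟩ | ⟨W, U, h0, hWU, -, rfl⟩ | ⟨W, U, h0, hinf, hsup, hlt, rfl⟩ |
    ⟨t, m, D, hD, rfl⟩ | ⟨r, K, hr, hK, rfl⟩ | ⟨n₁, n₂, e, P, h1, h12, rfl⟩ |
    ⟨F₀, r, P, hr, hc, rfl⟩ | ⟨r, R, hR, rfl⟩ | ⟨m, t, e, P, hm, ht, rfl⟩ |
    ⟨f, hf, -, -, rfl⟩ | ⟨σ, f, hf, -, rfl⟩ | ⟨Q, hQ, hodd, -, rfl⟩
  · exact Or.inl (cSub W h0 h1 hHM)
  · refine Or.inl (cSub W h0 ?_ (hHM.trans inf_le_left))
    rintro rfl
    exact absurd hWU (not_lt_of_ge le_top)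
  · refine Or.inl (cSub W h0 ?_ (hHM.trans inf_le_left))
    rintro rfl
    have hU : U = ⊥ := by rw [← hinf]; simp
    rw [hU] at hlt
    simp at hlt
  · -- decompositions
    have htm := Cfsg.Agent.Lib.Helper9.HubCor.mul_eq_of_isMDecomposition D hD
    by_cases hm1 : m = 1
    · subst hm1
      obtain rfl : t = n := by omega
      by_cases h5 : 5 ≤ Fintype.card F
      · exact Or.inr (Or.inl ⟨t, 1, D, hD, fun _ => h5, fun h => absurd h (by norm_num),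
          Cfsg.Agent.Lib.Helper29.AschCor.eq_of_le_member H _ hH hHM (Cfsg.Agent.Lib.Helper29.AschCor.not_sl_le_decompositionStabilizer D hD)⟩)
      · have hc : Fintype.card F = 2 ∨ Fintype.card F = 3 ∨ Fintype.card F = 4 := by omega
        rcases hc with hc | hc | hc
        · obtain ⟨W, h0, h1, hle⟩ := Cfsg.Agent.Lib.Helper24.HubCor.S1 hn2 hc D hD
          exact Or.inl (cSub W h0 h1 (hHM.trans hle))
        · obtain ⟨Q, hQ, hle⟩ := Cfsg.Agent.Lib.Helper24.HubCor.S2 hc D hD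
          exact Or.inr (Or.inr (Or.inr (Or.inr (Or.inr (Or.inl
            (cQuad (by rw [hc]; decide) Q hQ (hHM.trans hle)))))))
        · obtain ⟨σ, f, hf, hle⟩ := Cfsg.Agent.Lib.Helper24.HubCor.S3 hc D hD
          exact Or.inr (Or.inr (Or.inr (Or.inr (Or.inr (Or.inr (Or.inr (Or.inl
            (cUnit σ f hf (hHM.trans hle)))))))))
    · by_cases hm2 : m = 2
      · subst hm2
        by_cases h3 : 3 ≤ Fintype.card F
        · exact Or.inr (Or.inl ⟨t, 2, D, hD, fun h => absurd h (by norm_num), fun _ => h3,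
            Cfsg.Agent.Lib.Helper29.AschCor.eq_of_le_member H _ hH hHM (Cfsg.Agent.Lib.Helper29.AschCor.not_sl_le_decompositionStabilizer D hD)⟩)
        · have hc : Fintype.card F = 2 := by omega
          obtain ⟨f, hf, hle⟩ := Cfsg.Agent.Lib.Helper9.HubCor.S4 hc D hD
          exact Or.inr (Or.inr (Or.inr (Or.inr (Or.inr (Or.inr (Or.inl
            (cSymp f hf (hHM.trans hle))))))))
      · exact Or.inr (Or.inl ⟨t, m, D, hD, fun h => absurd h hm1, fun h => absurd h hm2,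
          Cfsg.Agent.Lib.Helper29.AschCor.eq_of_le_member H _ hH hHM (Cfsg.Agent.Lib.Helper29.AschCor.not_sl_le_decompositionStabilizer D hD)⟩)
  · exact Or.inr (Or.inr (Or.inl (cField r K hr hK hHM)))
  · -- tensor products
    by_cases h2 : n₁ = 2
    · subst h2
      by_cases h3 : 3 ≤ Fintype.card F
      · exact Or.inr (Or.inr (Or.inr (Or.inl ⟨2, n₂, e, P, h1, h12, fun _ => h3,
          Cfsg.Agent.Lib.Helper29.AschCor.eq_of_le_member H _ hH hHM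
            (Cfsg.H5.HubCor.not_sl_le_tensorProductSubgroup h1 (by omega) e P)⟩)))
      · have hc : Fintype.card F = 2 := by omega
        obtain ⟨K, hK, hle⟩ := Cfsg.Agent.Lib.Helper9.HubCor.S5 hc (by omega) e P
        exact Or.inr (Or.inr (Or.inl (cField 2 K Nat.prime_two hK (hHM.trans hle))))
    · exact Or.inr (Or.inr (Or.inr (Or.inl ⟨n₁, n₂, e, P, h1, h12, fun h => absurd h h2,
        Cfsg.Agent.Lib.Helper29.AschCor.eq_of_le_member H _ hH hHM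
          (Cfsg.H5.HubCor.not_sl_le_tensorProductSubgroup h1 (by omega) e P)⟩)))
  · -- subfield
    refine Or.inr (Or.inr (Or.inr (Or.inr (Or.inl ⟨F₀, r, P, hr, hc,
      Cfsg.Agent.Lib.Helper29.AschCor.eq_of_le_member H _ hH hHM (Cfsg.Agent.Lib.Helper29.AschCor.not_sl_le_subfieldSubgroup hn2 F₀ ?_ P)⟩))))
    rintro rfl
    have h1 : Nat.card (⊤ : Subfield F) = Fintype.card F := by
      rw [← Nat.card_eq_fintype_card]
      exact Nat.card_congr (Subfield.topEquiv (K := F)).toEquiv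
    rw [h1] at hc
    have hr2 := hr.two_le
    have h2 : Fintype.card F ^ 1 < Fintype.card F ^ r := Nat.pow_lt_pow_right hcard (by omega)
    rw [pow_one, ← hc] at h2
    exact lt_irrefl _ h2
  · -- C6 impossible
    obtain ⟨k, hk⟩ := hC6 r R hR
    exact absurd hk (hpp r k hR.symplecticType.prime)
  · -- C7 impossible
    have hc := Fintype.card_congr e
    simp only [Fintype.card_fin, Fintype.card_pi, Finset.prod_const, Finset.card_univ] at hc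
    exact absurd hc (hperf m t hm ht)
  · exact Or.inr (Or.inr (Or.inr (Or.inr (Or.inr (Or.inr (Or.inl (cSymp f hf hHM)))))))
  · exact Or.inr (Or.inr (Or.inr (Or.inr (Or.inr (Or.inr (Or.inr (Or.inl (cUnit σ f hf hHM))))))))
  · exact Or.inr (Or.inr (Or.inr (Or.inr (Or.inr (Or.inl (cQuad hodd Q hQ hHM))))))

theorem card_tensor {n n₁ n₂ : ℕ} (e : Fin n ≃ Fin n₁ × Fin n₂) : n = n₁ * n₂ := by
  have hc := Fintype.card_congr e
  simpa using hc

theorem final6 (hub : Hub 6 F) (hC6 : C6Pow 6 F) (H : Subgroup (GL (Fin 6) F))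
    (hH : IsMaximalIn (specialLinear (Fin 6) F) H) :
    (∃ W : Submodule F (Fin 6 → F), W ≠ ⊥ ∧ W ≠ ⊤ ∧ H = Cfsg.Geo.subspaceStabilizer W ⊓ Cfsg.Geo.specialLinear (Fin 6) F) ∨
    (5 ≤ Fintype.card F ∧ ∃ D : Fin 6 → Submodule F (Fin 6 → F), Cfsg.Geo.IsMDecomposition 1 D ∧ H = Cfsg.Geo.decompositionStabilizer D ⊓ Cfsg.Geo.specialLinear (Fin 6) F) ∨
    (3 ≤ Fintype.card F ∧ ∃ D : Fin 3 → Submodule F (Fin 6 → F), Cfsg.Geo.IsMDecomposition 2 D ∧ H = Cfsg.Geo.decompositionStabilizer D ⊓ Cfsg.Geo.specialLinear (Fin 6) F) ∨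
    (∃ D : Fin 2 → Submodule F (Fin 6 → F), Cfsg.Geo.IsMDecomposition 3 D ∧ H = Cfsg.Geo.decompositionStabilizer D ⊓ Cfsg.Geo.specialLinear (Fin 6) F) ∨
    (∃ K : Subalgebra F (Matrix (Fin 6) (Fin 6) F), Cfsg.Geo.IsFieldSubalgebra 2 K ∧ H = Cfsg.Geo.subalgebraNormalizer K ⊓ Cfsg.Geo.specialLinear (Fin 6) F) ∨
    (∃ K : Subalgebra F (Matrix (Fin 6) (Fin 6) F), Cfsg.Geo.IsFieldSubalgebra 3 K ∧ H = Cfsg.Geo.subalgebraNormalizer K ⊓ Cfsg.Geo.specialLinear (Fin 6) F) ∨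
    (3 ≤ Fintype.card F ∧ ∃ (e : Fin 6 ≃ Fin 2 × Fin 3) (P : Matrix.GeneralLinearGroup (Fin 6) F), H = Cfsg.Geo.tensorProductSubgroup 2 3 e P ⊓ Cfsg.Geo.specialLinear (Fin 6) F) ∨
    (∃ (F₀ : Subfield F) (r : ℕ) (P : Matrix.GeneralLinearGroup (Fin 6) F), r.Prime ∧ Fintype.card F = Nat.card F₀ ^ r ∧ H = Cfsg.Geo.subfieldSubgroup F₀ P ⊓ Cfsg.Geo.specialLinear (Fin 6) F) ∨
    (Odd (Fintype.card F) ∧ ∃ Q : (Fin 6 → F) → F, Cfsg.Geo.IsNondegenerateQuadraticForm Q ∧ H = Cfsg.Geo.quadSimilarityGroup Q ⊓ Cfsg.Geo.specialLinear (Fin 6) F) ∨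
    (∃ f : (Fin 6 → F) → (Fin 6 → F) → F, Cfsg.Geo.IsSymplecticForm f ∧ H = Cfsg.Geo.similarityGroup f ⊓ Cfsg.Geo.specialLinear (Fin 6) F) ∨
    (∃ (σ : F ≃+* F) (f : (Fin 6 → F) → (Fin 6 → F) → F), Cfsg.Geo.IsUnitaryForm σ f ∧ H = Cfsg.Geo.similarityGroup f ⊓ Cfsg.Geo.specialLinear (Fin 6) F) ∨
    Cfsg.Geo.InLinearResidualClass H := by
  have hpp : ∀ r k : ℕ, r.Prime → (6 : ℕ) ≠ r ^ k := by
    intro r k hr h
    have h2 : (2 : ℕ) ∣ r ^ k := h ▸ (by norm_num)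
    have h3 : (3 : ℕ) ∣ r ^ k := h ▸ (by norm_num)
    have e2 := (Nat.prime_dvd_prime_iff_eq Nat.prime_two hr).mp (Nat.Prime.dvd_of_dvd_pow Nat.prime_two h2)
    have e3 := (Nat.prime_dvd_prime_iff_eq Nat.prime_three hr).mp (Nat.Prime.dvd_of_dvd_pow Nat.prime_three h3)
    omega
  have hperf : ∀ m t : ℕ, 3 ≤ m → 2 ≤ t → (6 : ℕ) ≠ m ^ t := by
    intro m t hm ht h
    have h1 : m ^ 2 ≤ m ^ t := Nat.pow_le_pow_right (by omega) ht
    have h2 : 3 ^ 2 ≤ m ^ 2 := Nat.pow_le_pow_left hm 2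
    omega
  rcases reduce (by norm_num) hpp hperf hub hC6 H hH with h | ⟨t, m, D, hD, hm1, hm2, hE⟩ |
      ⟨r, K, hr, hK, hE⟩ | ⟨n₁, n₂, e, P, h1, h12, h2, hE⟩ | h | h | h | h | h
  · exact Or.inl h
  · have htm := Cfsg.Agent.Lib.Helper9.HubCor.mul_eq_of_isMDecomposition D hD
    have ht := hD.two_le
    have hm := hD.pos
    have hm3 : m ≤ 3 := by nlinarith
    interval_cases m
    · obtain rfl : t = 6 := by omega
      exact Or.inr (Or.inl ⟨hm1 rfl, D, hD, hE⟩)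
    · obtain rfl : t = 3 := by omega
      exact Or.inr (Or.inr (Or.inl ⟨hm2 rfl, D, hD, hE⟩))
    · obtain rfl : t = 2 := by omega
      exact Or.inr (Or.inr (Or.inr (Or.inl ⟨D, hD, hE⟩)))
  · have hd := Cfsg.Agent.Lib.Helper24.HubCor.dvd_of_isFieldSubalgebra K hK (by norm_num)
    have h23 : r = 2 ∨ r = 3 := by
      have h6 : (6 : ℕ) = 2 * 3 := by norm_num
      rw [h6] at hd
      rcases (Nat.Prime.dvd_mul hr).mp hd with h | h
      · exact Or.inl ((Nat.prime_dvd_prime_iff_eq hr Nat.prime_two).mp h)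
      · exact Or.inr ((Nat.prime_dvd_prime_iff_eq hr Nat.prime_three).mp h)
    rcases h23 with rfl | rfl
    · exact Or.inr (Or.inr (Or.inr (Or.inr (Or.inl ⟨K, hK, hE⟩))))
    · exact Or.inr (Or.inr (Or.inr (Or.inr (Or.inr (Or.inl ⟨K, hK, hE⟩)))))
  · have hc := card_tensor e
    have hn1 : n₁ ≤ 2 := by nlinarith
    obtain rfl : n₁ = 2 := by omega
    obtain rfl : n₂ = 3 := by omega
    exact Or.inr (Or.inr (Or.inr (Or.inr (Or.inr (Or.inr (Or.inl ⟨h2 rfl, e, P, hE⟩))))))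
  · exact Or.inr (Or.inr (Or.inr (Or.inr (Or.inr (Or.inr (Or.inr (Or.inl h)))))))
  · exact Or.inr (Or.inr (Or.inr (Or.inr (Or.inr (Or.inr (Or.inr (Or.inr (Or.inl h))))))))
  · exact Or.inr (Or.inr (Or.inr (Or.inr (Or.inr (Or.inr (Or.inr (Or.inr (Or.inr (Or.inl h)))))))))
  · exact Or.inr (Or.inr (Or.inr (Or.inr (Or.inr (Or.inr (Or.inr (Or.inr (Or.inr (Or.inr (Or.inl h))))))))))
  · exact Or.inr (Or.inr (Or.inr (Or.inr (Or.inr (Or.inr (Or.inr (Or.inr (Or.inr (Or.inr (Or.inr h))))))))))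

theorem not_pp_of_two_primes {n a b : ℕ} (ha : a.Prime) (hb : b.Prime) (hab : a ≠ b)
    (h1 : a ∣ n) (h2 : b ∣ n) : ∀ r k : ℕ, r.Prime → n ≠ r ^ k := by
  intro r k hr h
  subst h
  have e2 := (Nat.prime_dvd_prime_iff_eq ha hr).mp (Nat.Prime.dvd_of_dvd_pow ha h1)
  have e3 := (Nat.prime_dvd_prime_iff_eq hb hr).mp (Nat.Prime.dvd_of_dvd_pow hb h2)
  exact hab (e2.trans e3.symm)

theorem final10 (hub : Hub 10 F) (hC6 : C6Pow 10 F) (H : Subgroup (GL (Fin 10) F))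
    (hH : IsMaximalIn (specialLinear (Fin 10) F) H) :
    (∃ W : Submodule F (Fin 10 → F), W ≠ ⊥ ∧ W ≠ ⊤ ∧ H = Cfsg.Geo.subspaceStabilizer W ⊓ Cfsg.Geo.specialLinear (Fin 10) F) ∨
    (5 ≤ Fintype.card F ∧ ∃ D : Fin 10 → Submodule F (Fin 10 → F), Cfsg.Geo.IsMDecomposition 1 D ∧ H = Cfsg.Geo.decompositionStabilizer D ⊓ Cfsg.Geo.specialLinear (Fin 10) F) ∨
    (3 ≤ Fintype.card F ∧ ∃ D : Fin 5 → Submodule F (Fin 10 → F), Cfsg.Geo.IsMDecomposition 2 D ∧ H = Cfsg.Geo.decompositionStabilizer D ⊓ Cfsg.Geo.specialLinear (Fin 10) F) ∨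
    (∃ D : Fin 2 → Submodule F (Fin 10 → F), Cfsg.Geo.IsMDecomposition 5 D ∧ H = Cfsg.Geo.decompositionStabilizer D ⊓ Cfsg.Geo.specialLinear (Fin 10) F) ∨
    (∃ K : Subalgebra F (Matrix (Fin 10) (Fin 10) F), Cfsg.Geo.IsFieldSubalgebra 5 K ∧ H = Cfsg.Geo.subalgebraNormalizer K ⊓ Cfsg.Geo.specialLinear (Fin 10) F) ∨
    (∃ K : Subalgebra F (Matrix (Fin 10) (Fin 10) F), Cfsg.Geo.IsFieldSubalgebra 2 K ∧ H = Cfsg.Geo.subalgebraNormalizer K ⊓ Cfsg.Geo.specialLinear (Fin 10) F) ∨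
    (3 ≤ Fintype.card F ∧ ∃ (e : Fin 10 ≃ Fin 2 × Fin 5) (P : Matrix.GeneralLinearGroup (Fin 10) F), H = Cfsg.Geo.tensorProductSubgroup 2 5 e P ⊓ Cfsg.Geo.specialLinear (Fin 10) F) ∨
    (∃ (F₀ : Subfield F) (r : ℕ) (P : Matrix.GeneralLinearGroup (Fin 10) F), r.Prime ∧ Fintype.card F = Nat.card F₀ ^ r ∧ H = Cfsg.Geo.subfieldSubgroup F₀ P ⊓ Cfsg.Geo.specialLinear (Fin 10) F) ∨
    (Odd (Fintype.card F) ∧ ∃ Q : (Fin 10 → F) → F, Cfsg.Geo.IsNondegenerateQuadraticForm Q ∧ H = Cfsg.Geo.quadSimilarityGroup Q ⊓ Cfsg.Geo.specialLinear (Fin 10) F) ∨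
    (∃ f : (Fin 10 → F) → (Fin 10 → F) → F, Cfsg.Geo.IsSymplecticForm f ∧ H = Cfsg.Geo.similarityGroup f ⊓ Cfsg.Geo.specialLinear (Fin 10) F) ∨
    (∃ (σ : F ≃+* F) (f : (Fin 10 → F) → (Fin 10 → F) → F), Cfsg.Geo.IsUnitaryForm σ f ∧ H = Cfsg.Geo.similarityGroup f ⊓ Cfsg.Geo.specialLinear (Fin 10) F) ∨
    Cfsg.Geo.InLinearResidualClass H := by
  have hpp : ∀ r k : ℕ, r.Prime → (10 : ℕ) ≠ r ^ k :=
    not_pp_of_two_primes Nat.prime_two Nat.prime_five (by norm_num) (by norm_num) (by norm_num)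
  have hperf : ∀ m t : ℕ, 3 ≤ m → 2 ≤ t → (10 : ℕ) ≠ m ^ t := by
    intro m t hm ht h
    have h1 : m ^ 2 ≤ m ^ t := Nat.pow_le_pow_right (by omega) ht
    by_cases hm4 : 4 ≤ m
    · have h2 : 4 ^ 2 ≤ m ^ 2 := Nat.pow_le_pow_left hm4 2
      omega
    · obtain rfl : m = 3 := by omega
      by_cases ht3 : 3 ≤ t
      · have h3 : 3 ^ 3 ≤ 3 ^ t := Nat.pow_le_pow_right (by norm_num) ht3
        omega
      · obtain rfl : t = 2 := by omega
        norm_num at h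
  rcases reduce (by norm_num) hpp hperf hub hC6 H hH with h | ⟨t, m, D, hD, hm1, hm2, hE⟩ |
      ⟨r, K, hr, hK, hE⟩ | ⟨n₁, n₂, e, P, h1, h12, h2, hE⟩ | h | h | h | h | h
  · exact Or.inl h
  · have htm := Cfsg.Agent.Lib.Helper9.HubCor.mul_eq_of_isMDecomposition D hD
    have ht := hD.two_le
    have hm := hD.pos
    have hm5 : m ≤ 5 := by nlinarith
    interval_cases m
    · obtain rfl : t = 10 := by omega
      exact Or.inr (Or.inl ⟨hm1 rfl, D, hD, hE⟩)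
    · obtain rfl : t = 5 := by omega
      exact Or.inr (Or.inr (Or.inl ⟨hm2 rfl, D, hD, hE⟩))
    · omega
    · omega
    · obtain rfl : t = 2 := by omega
      exact Or.inr (Or.inr (Or.inr (Or.inl ⟨D, hD, hE⟩)))
  · have hd := Cfsg.Agent.Lib.Helper24.HubCor.dvd_of_isFieldSubalgebra K hK (by norm_num)
    have h25 : r = 2 ∨ r = 5 := by
      have h6 : (10 : ℕ) = 2 * 5 := by norm_num
      rw [h6] at hd
      rcases (Nat.Prime.dvd_mul hr).mp hd with h | h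
      · exact Or.inl ((Nat.prime_dvd_prime_iff_eq hr Nat.prime_two).mp h)
      · exact Or.inr ((Nat.prime_dvd_prime_iff_eq hr Nat.prime_five).mp h)
    rcases h25 with rfl | rfl
    · exact Or.inr (Or.inr (Or.inr (Or.inr (Or.inr (Or.inl ⟨K, hK, hE⟩)))))
    · exact Or.inr (Or.inr (Or.inr (Or.inr (Or.inl ⟨K, hK, hE⟩))))
  · have hc := card_tensor e
    have hn1 : n₁ ≤ 3 := by nlinarith
    have hn2 : n₂ ≤ 5 := by nlinarith
    interval_cases n₁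
    · obtain rfl : n₂ = 5 := by omega
      exact Or.inr (Or.inr (Or.inr (Or.inr (Or.inr (Or.inr (Or.inl ⟨h2 rfl, e, P, hE⟩))))))
    · omega
  · exact Or.inr (Or.inr (Or.inr (Or.inr (Or.inr (Or.inr (Or.inr (Or.inl h)))))))
  · exact Or.inr (Or.inr (Or.inr (Or.inr (Or.inr (Or.inr (Or.inr (Or.inr (Or.inl h))))))))
  · exact Or.inr (Or.inr (Or.inr (Or.inr (Or.inr (Or.inr (Or.inr (Or.inr (Or.inr (Or.inl h)))))))))
  · exact Or.inr (Or.inr (Or.inr (Or.inr (Or.inr (Or.inr (Or.inr (Or.inr (Or.inr (Or.inr (Or.inl h))))))))))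
  · exact Or.inr (Or.inr (Or.inr (Or.inr (Or.inr (Or.inr (Or.inr (Or.inr (Or.inr (Or.inr (Or.inr h))))))))))

theorem final12 (hub : Hub 12 F) (hC6 : C6Pow 12 F) (H : Subgroup (GL (Fin 12) F))
    (hH : IsMaximalIn (specialLinear (Fin 12) F) H) :
    (∃ W : Submodule F (Fin 12 → F), W ≠ ⊥ ∧ W ≠ ⊤ ∧ H = Cfsg.Geo.subspaceStabilizer W ⊓ Cfsg.Geo.specialLinear (Fin 12) F) ∨
    (5 ≤ Fintype.card F ∧ ∃ D : Fin 12 → Submodule F (Fin 12 → F), Cfsg.Geo.IsMDecomposition 1 D ∧ H = Cfsg.Geo.decompositionStabilizer D ⊓ Cfsg.Geo.specialLinear (Fin 12) F) ∨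
    (3 ≤ Fintype.card F ∧ ∃ D : Fin 6 → Submodule F (Fin 12 → F), Cfsg.Geo.IsMDecomposition 2 D ∧ H = Cfsg.Geo.decompositionStabilizer D ⊓ Cfsg.Geo.specialLinear (Fin 12) F) ∨
    (∃ D : Fin 4 → Submodule F (Fin 12 → F), Cfsg.Geo.IsMDecomposition 3 D ∧ H = Cfsg.Geo.decompositionStabilizer D ⊓ Cfsg.Geo.specialLinear (Fin 12) F) ∨
    (∃ D : Fin 3 → Submodule F (Fin 12 → F), Cfsg.Geo.IsMDecomposition 4 D ∧ H = Cfsg.Geo.decompositionStabilizer D ⊓ Cfsg.Geo.specialLinear (Fin 12) F) ∨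
    (∃ D : Fin 2 → Submodule F (Fin 12 → F), Cfsg.Geo.IsMDecomposition 6 D ∧ H = Cfsg.Geo.decompositionStabilizer D ⊓ Cfsg.Geo.specialLinear (Fin 12) F) ∨
    (∃ K : Subalgebra F (Matrix (Fin 12) (Fin 12) F), Cfsg.Geo.IsFieldSubalgebra 2 K ∧ H = Cfsg.Geo.subalgebraNormalizer K ⊓ Cfsg.Geo.specialLinear (Fin 12) F) ∨
    (∃ K : Subalgebra F (Matrix (Fin 12) (Fin 12) F), Cfsg.Geo.IsFieldSubalgebra 3 K ∧ H = Cfsg.Geo.subalgebraNormalizer K ⊓ Cfsg.Geo.specialLinear (Fin 12) F) ∨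
    (3 ≤ Fintype.card F ∧ ∃ (e : Fin 12 ≃ Fin 2 × Fin 6) (P : Matrix.GeneralLinearGroup (Fin 12) F), H = Cfsg.Geo.tensorProductSubgroup 2 6 e P ⊓ Cfsg.Geo.specialLinear (Fin 12) F) ∨
    (∃ (e : Fin 12 ≃ Fin 3 × Fin 4) (P : Matrix.GeneralLinearGroup (Fin 12) F), H = Cfsg.Geo.tensorProductSubgroup 3 4 e P ⊓ Cfsg.Geo.specialLinear (Fin 12) F) ∨
    (∃ (F₀ : Subfield F) (r : ℕ) (P : Matrix.GeneralLinearGroup (Fin 12) F), r.Prime ∧ Fintype.card F = Nat.card F₀ ^ r ∧ H = Cfsg.Geo.subfieldSubgroup F₀ P ⊓ Cfsg.Geo.specialLinear (Fin 12) F) ∨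
    (Odd (Fintype.card F) ∧ ∃ Q : (Fin 12 → F) → F, Cfsg.Geo.IsNondegenerateQuadraticForm Q ∧ H = Cfsg.Geo.quadSimilarityGroup Q ⊓ Cfsg.Geo.specialLinear (Fin 12) F) ∨
    (∃ f : (Fin 12 → F) → (Fin 12 → F) → F, Cfsg.Geo.IsSymplecticForm f ∧ H = Cfsg.Geo.similarityGroup f ⊓ Cfsg.Geo.specialLinear (Fin 12) F) ∨
    (∃ (σ : F ≃+* F) (f : (Fin 12 → F) → (Fin 12 → F) → F), Cfsg.Geo.IsUnitaryForm σ f ∧ H = Cfsg.Geo.similarityGroup f ⊓ Cfsg.Geo.specialLinear (Fin 12) F) ∨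
    Cfsg.Geo.InLinearResidualClass H := by
  have hpp : ∀ r k : ℕ, r.Prime → (12 : ℕ) ≠ r ^ k :=
    not_pp_of_two_primes Nat.prime_two Nat.prime_three (by norm_num) (by norm_num) (by norm_num)
  have hperf : ∀ m t : ℕ, 3 ≤ m → 2 ≤ t → (12 : ℕ) ≠ m ^ t := by
    intro m t hm ht h
    have h1 : m ^ 2 ≤ m ^ t := Nat.pow_le_pow_right (by omega) ht
    by_cases hm4 : 4 ≤ m
    · have h2 : 4 ^ 2 ≤ m ^ 2 := Nat.pow_le_pow_left hm4 2
      omega
    · obtain rfl : m = 3 := by omega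
      by_cases ht3 : 3 ≤ t
      · have h3 : 3 ^ 3 ≤ 3 ^ t := Nat.pow_le_pow_right (by norm_num) ht3
        omega
      · obtain rfl : t = 2 := by omega
        norm_num at h
  rcases reduce (by norm_num) hpp hperf hub hC6 H hH with h | ⟨t, m, D, hD, hm1, hm2, hE⟩ |
      ⟨r, K, hr, hK, hE⟩ | ⟨n₁, n₂, e, P, h1, h12, h2, hE⟩ | h | h | h | h | h
  · exact Or.inl h
  · have htm := Cfsg.Agent.Lib.Helper9.HubCor.mul_eq_of_isMDecomposition D hD
    have ht := hD.two_le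
    have hm := hD.pos
    have hm6 : m ≤ 6 := by nlinarith
    interval_cases m
    · obtain rfl : t = 12 := by omega
      exact Or.inr (Or.inl ⟨hm1 rfl, D, hD, hE⟩)
    · obtain rfl : t = 6 := by omega
      exact Or.inr (Or.inr (Or.inl ⟨hm2 rfl, D, hD, hE⟩))
    · obtain rfl : t = 4 := by omega
      exact Or.inr (Or.inr (Or.inr (Or.inl ⟨D, hD, hE⟩)))
    · obtain rfl : t = 3 := by omega
      exact Or.inr (Or.inr (Or.inr (Or.inr (Or.inl ⟨D, hD, hE⟩))))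
    · omega
    · obtain rfl : t = 2 := by omega
      exact Or.inr (Or.inr (Or.inr (Or.inr (Or.inr (Or.inl ⟨D, hD, hE⟩)))))
  · have hd := Cfsg.Agent.Lib.Helper24.HubCor.dvd_of_isFieldSubalgebra K hK (by norm_num)
    have h23 : r = 2 ∨ r = 3 := by
      have h6 : (12 : ℕ) = 2 * (2 * 3) := by norm_num
      rw [h6] at hd
      rcases (Nat.Prime.dvd_mul hr).mp hd with h | h
      · exact Or.inl ((Nat.prime_dvd_prime_iff_eq hr Nat.prime_two).mp h)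
      · rcases (Nat.Prime.dvd_mul hr).mp h with h | h
        · exact Or.inl ((Nat.prime_dvd_prime_iff_eq hr Nat.prime_two).mp h)
        · exact Or.inr ((Nat.prime_dvd_prime_iff_eq hr Nat.prime_three).mp h)
    rcases h23 with rfl | rfl
    · exact Or.inr (Or.inr (Or.inr (Or.inr (Or.inr (Or.inr (Or.inl ⟨K, hK, hE⟩))))))
    · exact Or.inr (Or.inr (Or.inr (Or.inr (Or.inr (Or.inr (Or.inr (Or.inl ⟨K, hK, hE⟩)))))))
  · have hc := card_tensor e
    have hn1 : n₁ ≤ 3 := by nlinarith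
    interval_cases n₁
    · obtain rfl : n₂ = 6 := by omega
      exact Or.inr (Or.inr (Or.inr (Or.inr (Or.inr (Or.inr (Or.inr (Or.inr (Or.inl
        ⟨h2 rfl, e, P, hE⟩))))))))
    · obtain rfl : n₂ = 4 := by omega
      exact Or.inr (Or.inr (Or.inr (Or.inr (Or.inr (Or.inr (Or.inr (Or.inr (Or.inr (Or.inl
        ⟨e, P, hE⟩)))))))))
  · exact Or.inr (Or.inr (Or.inr (Or.inr (Or.inr (Or.inr (Or.inr (Or.inr (Or.inr (Or.inr (Or.inl h))))))))))
  · exact Or.inr (Or.inr (Or.inr (Or.inr (Or.inr (Or.inr (Or.inr (Or.inr (Or.inr (Or.inr (Or.inr (Or.inl h)))))))))))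
  · exact Or.inr (Or.inr (Or.inr (Or.inr (Or.inr (Or.inr (Or.inr (Or.inr (Or.inr (Or.inr (Or.inr (Or.inr (Or.inl h))))))))))))
  · exact Or.inr (Or.inr (Or.inr (Or.inr (Or.inr (Or.inr (Or.inr (Or.inr (Or.inr (Or.inr (Or.inr (Or.inr (Or.inr (Or.inl h)))))))))))))
  · exact Or.inr (Or.inr (Or.inr (Or.inr (Or.inr (Or.inr (Or.inr (Or.inr (Or.inr (Or.inr (Or.inr (Or.inr (Or.inr (Or.inr h)))))))))))))

end Cfsg.Agent.Lib.Helper9.HubComp
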