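import Mathlib
import Cfsg.Agent.Lib.Helper15.IP.Defs
import Cfsg.Agent.Lib.Helper20.CD3Tools
import Cfsg.Agent.Lib.Helper2.Expansion

/-!
# S4463 farm (helper15), leaf L05 — spare by helper9

`σ ∈ Irr(J)` of the maximal degree `b`: the induced class function agrees with `|G : J| σ` on `J`.
-/

set_option autoImplicit false

namespace Cfsg.Agent.Lib.Helper9.IPL05

open Cfsg Cfsg.Agent.Lib.Helper15.IP

universe u

variable {G : Type u} [Group G]

/-- a constituent of the induced character restricts to `σ` -/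
theorem restrict_eq_of_classInner_ne_zero [Fintype G] {b : ℕ} (hG : DegLE G b) (J : Subgroup G)
    [Fintype ↥J] (σ : IrrCharacter ↥J) (hσ : charDegree (σ : ↥J → ℂ) = b) (ξ : IrrCharacter G)
    (hcon : classInner (indFun J (σ : ↥J → ℂ)) (ξ : G → ℂ) ≠ 0) (x : ↥J) :
    (ξ : G → ℂ) (x : G) = (σ : ↥J → ℂ) x := by
  have hξc : IsCharacter G (ξ : G → ℂ) := Cfsg.Agent.Lib.Helper2.IsIrrCharacter.isCharacter ξ.2
  have hξcf : IsClassFunction G (ξ : G → ℂ) :=
    Cfsg.Agent.Lib.Helper2.IsCharacter.isClassFunction hξc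
  rw [Cfsg.Agent.Lib.Helper2.frobenius_reciprocity J _ _ hξcf] at hcon
  have hcon' : classInner (fun h : ↥J => (ξ : G → ℂ) h) (σ : ↥J → ℂ) ≠ 0 := by
    rw [← Cfsg.Agent.Lib.Helper2.classInner_conj_symm]
    exact fun h => hcon ((map_eq_zero _).1 h)
  have hres : IsCharacter ↥J (fun h : ↥J => (ξ : G → ℂ) h) :=
    Cfsg.Agent.Lib.Helper2.IsCharacter.restrict hξc J
  have ha : (fun h : ↥J => (ξ : G → ℂ) h) 1 = (charDegree (ξ : G → ℂ) : ℂ) := by
    show (ξ : G → ℂ) ((1 : ↥J) : G) = _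
    rw [Subgroup.coe_one, Cfsg.Agent.Lib.Helper2.TwoDeg.apply_one_eq_charDegree ξ]
  have hb : (σ : ↥J → ℂ) 1 = (charDegree (σ : ↥J → ℂ) : ℂ) :=
    Cfsg.Agent.Lib.Helper2.TwoDeg.apply_one_eq_charDegree σ
  have hle : charDegree (ξ : G → ℂ) ≤ charDegree (σ : ↥J → ℂ) := by
    rw [hσ]; exact hG ξ
  have heq := Cfsg.Agent.Lib.Helper2.BG.eq_of_classInner_ne_zero_of_degree_le hres σ hcon' ha hb hle
  exact congrFun heq x

/-- [L05], official statement -/
theorem indFun_eq_index_mul [Fintype G] {b : ℕ} (hG : DegLE G b) (J : Subgroup G)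
    (σ : IrrCharacter ↥J) (hσ : charDegree (σ : ↥J → ℂ) = b) (x : ↥J) :
    Cfsg.indFun J (σ : ↥J → ℂ) (x : G) = (J.index : ℂ) * (σ : ↥J → ℂ) x := by
  classical
  have : Fintype ↥J := Fintype.ofFinite ↥J
  have : Fintype (IrrCharacter G) := Fintype.ofFinite _
  have hσc : IsCharacter ↥J (σ : ↥J → ℂ) :=
    Cfsg.Agent.Lib.Helper2.IsIrrCharacter.isCharacter σ.2
  have hind : IsCharacter G (indFun J (σ : ↥J → ℂ)) :=
    Cfsg.Agent.Lib.Helper2.indFun_isCharacter J _ hσc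
  have hcf : IsClassFunction G (indFun J (σ : ↥J → ℂ)) :=
    Cfsg.Agent.Lib.Helper2.IsCharacter.isClassFunction hind
  have hexp := Cfsg.Agent.Lib.Helper2.classFunction_expansion _ hcf
  -- value on `J`
  have hval : ∀ y : ↥J, indFun J (σ : ↥J → ℂ) (y : G)
      = (∑ ξ : IrrCharacter G, classInner (indFun J (σ : ↥J → ℂ)) (ξ : G → ℂ))
        * (σ : ↥J → ℂ) y := by
    intro y
    have h1 := congrFun hexp (y : G)
    rw [Finset.sum_apply] at h1
    rw [h1, Finset.sum_mul]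
    apply Finset.sum_congr rfl
    intro ξ _
    rw [Pi.smul_apply, smul_eq_mul]
    by_cases hc : classInner (indFun J (σ : ↥J → ℂ)) (ξ : G → ℂ) = 0
    · rw [hc, zero_mul, zero_mul]
    · rw [restrict_eq_of_classInner_ne_zero hG J σ hσ ξ hc y]
  have h1 := hval 1
  rw [Subgroup.coe_one, Cfsg.Agent.Lib.Helper2.indFun_apply_one] at h1
  have hσ1 : (σ : ↥J → ℂ) 1 ≠ 0 := Cfsg.Agent.Lib.Helper2.IsIrrCharacter.apply_one_ne_zero σ.2
  have hM : (J.index : ℂ)
      = ∑ ξ : IrrCharacter G, classInner (indFun J (σ : ↥J → ℂ)) (ξ : G → ℂ) :=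
    mul_right_cancel₀ hσ1 h1
  rw [hval x, ← hM]

end Cfsg.Agent.Lib.Helper9.IPL05
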