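import Cfsg.Agent.Lib.Helper29.SpecPerm

/-!
# Base-image exclusion for verified stabilizer chains (helper9, piece S2074-P1 for helper22)

`imgSift` sifts a list of prescribed base images through a chain; an element of the group with
these base images makes it succeed and the resulting word is the inverse of the element.  Hence two
elements of the group with the same base images are equal.
-/

set_option autoImplicit false

namespace Cfsg.Agent.Lib.Helper22.SuzOut

open Cfsg.Agent.Lib.Helper28.BSGS

/-- sift a list of prescribed base images through the chain; `ws` accumulates the inverse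
transversal tables (the head is applied last).  `none` = no group element has these base images. -/
def imgSift (w : ℕ) : List CLevel → List ℕ → List ℕ → Option (List ℕ)
  | [], _, ws => some ws
  | _ :: _, [], _ => none
  | lv :: rest, y :: ys, ws =>
      match findE lv.2 (evalW w ws y) with
      | none => none
      | some e => imgSift w rest ys (e.2.2 :: ws)

namespace Helper9

/-- the generalised statement: `r = q * z` is the residual, `q` acts through `ws` -/
theorem imgSift_aux (n w : ℕ) [NeZero n] : ∀ (levels : List CLevel) (gens' : List (ℕ × ℕ))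
    (r q z : Equiv.Perm (Fin n)) (ws imgs : List ℕ), LevelsWF n w levels →
    Sifts (semLevels n w gens' levels) r → ActsByW n w q ws → r = q * z →
    List.Forall₂ (fun (lv : CLevel) (y : ℕ) => (z (pt n lv.1)).val = y) levels imgs →
    ∃ ws', imgSift w levels imgs ws = some ws' ∧ ∃ q', ActsByW n w q' ws' ∧ 1 = q' * z := by
  intro levels
  induction levels with
  | nil =>
    intro gens' r q z ws imgs _ hs hq hr _
    have hr1 : r = 1 := hs
    exact ⟨ws, rfl, q, hq, by rw [← hr1, hr]⟩
  | cons lv rest ih =>
    intro gens' r q z ws imgs hwf hs hq hr himg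
    cases himg with
    | cons hy hys =>
      rename_i y ys
      have hlv := hwf lv List.mem_cons_self
      have hwf' : LevelsWF n w rest := fun lv' hlv' => hwf lv' (List.mem_cons_of_mem _ hlv')
      obtain ⟨h1, h2⟩ : r • (pt n lv.1) ∈ (lv.2.map fun e => pt n e.1) ∧
        Sifts (semLevels n w (nextGens w gens' lv.1) rest)
          ((semU n w lv.2 (r • (pt n lv.1)))⁻¹ * r) := hs
      rw [Equiv.Perm.smul_def] at h1 h2
      -- the value of the image of the base point
      have hval : (r (pt n lv.1)).val = evalW w ws y := by
        rw [hr, Equiv.Perm.mul_apply, hq, hy]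
      rw [List.mem_map] at h1
      obtain ⟨e, he, hee⟩ := h1
      obtain ⟨he1, _⟩ := hlv.2 e he
      have hev : e.1 = evalW w ws y := by
        rw [← hval, ← hee, pt_val n he1]
      obtain ⟨e', hf⟩ := findE_of_mem he
      rw [hev] at hf
      obtain ⟨he', hey'⟩ := findE_some hf
      obtain ⟨he1', he2'⟩ := hlv.2 e' he'
      have hu : semU n w lv.2 (r (pt n lv.1)) = permOf n w e'.2.1 e'.2.2 := by
        unfold semU
        rw [hval, hf]
      rw [hu] at h2
      have hq' : ActsByW n w ((permOf n w e'.2.1 e'.2.2)⁻¹ * q) (e'.2.2 :: ws) :=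
        actsByW_cons (permOf_inv_apply he2') hq
      have hr' : (permOf n w e'.2.1 e'.2.2)⁻¹ * r = ((permOf n w e'.2.1 e'.2.2)⁻¹ * q) * z := by
        rw [hr, mul_assoc]
      obtain ⟨ws', hws', q', hq'', h1'⟩ := ih (nextGens w gens' lv.1) _ _ z (e'.2.2 :: ws) ys hwf'
        h2 hq' hr' hys
      refine ⟨ws', ?_, q', hq'', h1'⟩
      show (match findE lv.2 (evalW w ws y) with
        | none => none
        | some e => imgSift w rest ys (e.2.2 :: ws)) = some ws'
      rw [hf]
      exact hws'

end Helper9

open Helper9

/-- BASE-IMAGE EXCLUSION: an element of the group with prescribed images of the base points makes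
`imgSift` succeed, and the resulting word is the inverse of the element. -/
theorem imgSift_sound (n w : ℕ) [NeZero n] (gens : List (ℕ × ℕ)) (levels : List CLevel)
    (hg : gensOK n w gens = true) (hc : checkChain n w gens levels = true)
    (z : Equiv.Perm (Fin n)) (hz : z ∈ genGroup n w gens) (imgs : List ℕ)
    (himg : List.Forall₂ (fun (lv : CLevel) (y : ℕ) => (z (pt n lv.1)).val = y) levels imgs) :
    ∃ ws, imgSift w levels imgs [] = some ws ∧ ActsByW n w z⁻¹ ws := by
  have hs := Cfsg.Agent.Lib.Helper29.SpecPerm.perm_complete n w gens levels hg hc z hz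
  have hwf := checkChain_wf n w levels gens hc
  obtain ⟨ws, hws, q', hq', h1⟩ := imgSift_aux n w levels gens z 1 z [] imgs hwf hs
    (actsByW_one n w) (one_mul z).symm himg
  refine ⟨ws, hws, ?_⟩
  have : z⁻¹ = q' := (eq_inv_of_mul_eq_one_left h1.symm).symm
  rw [this]
  exact hq'

/-- two elements of the group with the same images of all base points are equal -/
theorem eq_of_base_eq (n w : ℕ) [NeZero n] (gens : List (ℕ × ℕ)) (levels : List CLevel)
    (hg : gensOK n w gens = true) (hc : checkChain n w gens levels = true)
    (z z' : Equiv.Perm (Fin n)) (hz : z ∈ genGroup n w gens) (hz' : z' ∈ genGroup n w gens)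
    (h : ∀ lv ∈ levels, z (pt n lv.1) = z' (pt n lv.1)) : z = z' := by
  have himg : List.Forall₂ (fun (lv : CLevel) (y : ℕ) => (z (pt n lv.1)).val = y) levels
      (levels.map fun lv => (z (pt n lv.1)).val) := by
    rw [List.forall₂_map_right_iff]
    exact List.forall₂_same.mpr (fun _ _ => rfl)
  have himg' : List.Forall₂ (fun (lv : CLevel) (y : ℕ) => (z' (pt n lv.1)).val = y) levels
      (levels.map fun lv => (z (pt n lv.1)).val) := by
    rw [List.forall₂_map_right_iff]
    exact List.forall₂_same.mpr (fun lv hlv => by rw [h lv hlv])
  obtain ⟨ws, hws, hact⟩ := imgSift_sound n w gens levels hg hc z hz _ himg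
  obtain ⟨ws', hws', hact'⟩ := imgSift_sound n w gens levels hg hc z' hz' _ himg'
  rw [hws] at hws'
  have hww : ws = ws' := Option.some.inj hws'
  subst hww
  have hinv : z⁻¹ = z'⁻¹ := by
    apply Equiv.ext
    intro a
    apply Fin.ext
    rw [hact a, hact' a]
  exact inv_injective hinv

end Cfsg.Agent.Lib.Helper22.SuzOut
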