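import Mathlib
import Cfsg.Agent.Lib.Helper9.ZStar

/-!
Generalized `Z*`-theorem: a subgroup `Q` of a Sylow `2`-subgroup `S` all of whose elements are
weakly closed in `S` (with respect to `G`) is central modulo `O(G)`.
-/

set_option autoImplicit false

namespace Cfsg.Agent.Lib.Helper9

open Cfsg Cfsg.Agent.Lib.Helper1
open Pointwise

universe u

variable {G : Type u} [Group G] [Finite G]

/-- If `O(G) = 1` and `N` is a central `2`-subgroup, then `O(G ⧸ N) = 1`. -/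
theorem pPrimeCore_quotient_central_eq_bot (hO : pPrimeCore 2 G = ⊥) (N : Subgroup G) [N.Normal]
    (hNc : N ≤ Subgroup.center G) (hNp : IsPGroup 2 N) : pPrimeCore 2 (G ⧸ N) = ⊥ := by
  have h2 : Fact (Nat.Prime 2) := ⟨Nat.prime_two⟩
  have hcen : ∀ u ∈ N, ∀ x : G, u * x = x * u := by
    intro u hu x
    have := Subgroup.mem_center_iff.mp (hNc hu) x
    exact this.symm
  set M := (pPrimeCore 2 (G ⧸ N)).comap (QuotientGroup.mk' N) with hM
  have hMn : M.Normal := Subgroup.Normal.comap (Cfsg.Agent.Lib.Helper1.pPrimeCore_normal 2) _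
  have hNM : N ≤ M := by
    intro u hu
    rw [hM, Subgroup.mem_comap]
    have : QuotientGroup.mk' N u = 1 := (QuotientGroup.eq_one_iff u).mpr hu
    rw [this]
    exact Subgroup.one_mem _
  have hcard : Nat.card M = Nat.card (pPrimeCore 2 (G ⧸ N)) * Nat.card N :=
    Cfsg.Agent.Lib.Helper1.card_comap_mk N _
  have hrel : N.relIndex M = Nat.card (pPrimeCore 2 (G ⧸ N)) := by
    have h4 := Cfsg.Agent.Lib.Helper1.card_mul_relIndex_of_le hNM
    rw [hcard, mul_comm] at h4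
    exact Nat.eq_of_mul_eq_mul_right Nat.card_pos h4
  have hTp : IsPGroup 2 (N.subgroupOf M) := hNp.comap_subtype
  have hidx : ¬ 2 ∣ (N.subgroupOf M).index := by
    change ¬ 2 ∣ N.relIndex M
    rw [hrel]
    exact (Nat.Prime.coprime_iff_not_dvd Nat.prime_two).mp (pPrimeCore_coprime 2).symm
  let T : Sylow 2 ↥M := hTp.toSylow hidx
  have hT : (T : Subgroup ↥M) = N.subgroupOf M := rfl
  have hle : Subgroup.normalizer ((T : Subgroup ↥M) : Set ↥M) ≤
      Subgroup.centralizer ((T : Subgroup ↥M) : Set ↥M) := by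
    intro m _
    rw [Subgroup.mem_centralizer_iff]
    intro y hy
    rw [SetLike.mem_coe, hT, Subgroup.mem_subgroupOf] at hy
    exact Subtype.ext (hcen _ hy _)
  obtain ⟨K, hKn, hKp, hKall⟩ :=
    Cfsg.Agent.Lib.Helper7.exists_normal_pPrime_of_normalizer_le_centralizer T hle
  have hK1 : K ≤ pPrimeCore 2 ↥M :=
    le_pPrimeCore hKn ((Nat.Prime.coprime_iff_not_dvd Nat.prime_two).mpr hKp).symm
  have hK2 : K = ⊥ := by
    have h5 := (Subgroup.map_mono (f := M.subtype) hK1).trans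
      (Cfsg.Agent.Lib.Helper17.map_pPrimeCore_le_of_normal 2 M)
    rw [hO, le_bot_iff] at h5
    exact (Subgroup.map_eq_bot_iff_of_injective _ M.subtype_injective).mp h5
  -- `|O(G ⧸ N)| = 1`
  rw [← Subgroup.card_eq_one]
  by_contra hne
  obtain ⟨r, hr, hrd⟩ := Nat.exists_prime_and_dvd hne
  have hr2 : r ≠ 2 := by
    rintro rfl
    exact (Nat.Prime.coprime_iff_not_dvd Nat.prime_two).mp (pPrimeCore_coprime 2).symm hrd
  have hrM : r ∣ Nat.card M := by rw [hcard]; exact Dvd.dvd.mul_right hrd _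
  have : Fact r.Prime := ⟨hr⟩
  obtain ⟨m, hm⟩ := exists_prime_orderOf_dvd_card' (G := ↥M) r hrM
  have hmK : m ∈ K := by
    apply hKall
    rw [hm]
    exact (Nat.coprime_primes hr Nat.prime_two).mpr hr2
  rw [hK2, Subgroup.mem_bot] at hmK
  rw [hmK, orderOf_one] at hm
  exact hr.one_lt.ne hm

/-- A `p`-element of `S N` (`S` a Sylow `p`-subgroup, `N` normal) is `N`-conjugate into `S`. -/
theorem exists_conj_mem_sylow_of_mem_sup {p : ℕ} [Fact p.Prime] (S : Sylow p G) (N : Subgroup G)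
    [N.Normal] {y : G} (hy : y ∈ (S : Subgroup G) ⊔ N) (hyp : IsPGroup p (Subgroup.zpowers y)) :
    ∃ n ∈ N, n * y * n⁻¹ ∈ (S : Subgroup G) := by
  set H := (S : Subgroup G) ⊔ N with hH
  have hYH : Subgroup.zpowers y ≤ H := by
    rw [Subgroup.zpowers_le]; exact hy
  have hSH : (S : Subgroup G) ≤ H := le_sup_left
  obtain ⟨R, hR⟩ := (hyp.comap_subtype (K := H)).exists_le_sylow
  obtain ⟨h, hh⟩ := MulAction.exists_smul_eq H R (S.subtype hSH)
  have hyR : (⟨y, hy⟩ : H) ∈ R := by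
    apply hR
    rw [Subgroup.mem_comap]
    exact Subgroup.mem_zpowers y
  have h1 : h * ⟨y, hy⟩ * h⁻¹ ∈ ((S.subtype hSH : Sylow p H) : Subgroup H) := by
    rw [← hh, Sylow.coe_subgroup_smul]
    exact ⟨⟨y, hy⟩, hyR, rfl⟩
  have h2 : (h : G) * y * (h : G)⁻¹ ∈ (S : Subgroup G) := by
    rw [Sylow.coe_subtype, Subgroup.mem_subgroupOf] at h1
    simpa using h1
  have h3 : (h : G) ∈ ((S : Subgroup G) : Set G) * (N : Set G) := by
    rw [← Subgroup.mul_normal]; exact h.2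
  obtain ⟨s, hs, n, hn, hsn⟩ := h3
  refine ⟨n, hn, ?_⟩
  have h4 : n * y * n⁻¹ = s⁻¹ * ((h : G) * y * (h : G)⁻¹) * s := by
    rw [← hsn]; simp only [mul_inv_rev]; group
  rw [h4]
  exact Subgroup.mul_mem _ (Subgroup.mul_mem _ (Subgroup.inv_mem _ hs) h2) hs

/-- Generalized `Z*` with `O(G) = 1`: a subgroup of a Sylow `2`-subgroup `S` all of whose elements
are weakly closed in `S` is central. -/
theorem weakly_closed_le_center_aux (hO : pPrimeCore 2 G = ⊥) (S : Sylow 2 G) (Q : Subgroup G)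
    (hQS : Q ≤ S)
    (hQ : ∀ x ∈ Q, ∀ g : G, g * x * g⁻¹ ∈ (S : Subgroup G) → g * x * g⁻¹ = x) :
    ∀ n : ℕ, ∀ x ∈ Q, orderOf x = n → x ∈ Subgroup.center G := by
  intro n
  induction n using Nat.strong_induction_on with
  | _ n ih =>
  intro x hxQ hn
  by_cases hx1 : x = 1
  · rw [hx1]; exact Subgroup.one_mem _
  have h2 : Fact (Nat.Prime 2) := ⟨Nat.prime_two⟩
  obtain ⟨k, hk⟩ := (IsPGroup.iff_orderOf.mp S.isPGroup') ⟨x, hQS hxQ⟩
  rw [Subgroup.orderOf_mk] at hk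
  have hk0 : k ≠ 0 := by
    rintro rfl
    rw [pow_zero, orderOf_eq_one_iff] at hk
    exact hx1 hk
  obtain ⟨k', rfl⟩ := Nat.exists_eq_succ_of_ne_zero hk0
  have hd : orderOf (x ^ 2) = 2 ^ k' := by
    rw [orderOf_pow' _ (by norm_num : (2 : ℕ) ≠ 0), hk]
    have : Nat.gcd (2 ^ (k' + 1)) 2 = 2 := by
      apply Nat.gcd_eq_right
      exact dvd_pow_self 2 (Nat.succ_ne_zero k')
    rw [this, pow_succ, Nat.mul_div_cancel _ (by norm_num : 0 < 2)]
  have hdQ : x ^ 2 ∈ Q := Q.pow_mem hxQ 2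
  have hdc : x ^ 2 ∈ Subgroup.center G := by
    apply ih (2 ^ k') _ (x ^ 2) hdQ hd
    rw [← hn, hk]
    exact Nat.pow_lt_pow_right (by norm_num) (Nat.lt_succ_self k')
  set D := Subgroup.zpowers (x ^ 2) with hD
  have hDc : D ≤ Subgroup.center G := by
    rw [hD, Subgroup.zpowers_le]; exact hdc
  have hDS : D ≤ (S : Subgroup G) := by
    rw [hD, Subgroup.zpowers_le]; exact hQS hdQ
  have hDn : D.Normal := by
    constructor
    intro d hd' g
    have := Subgroup.mem_center_iff.mp (hDc hd') g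
    have e : g * d * g⁻¹ = d := by rw [this, mul_inv_cancel_right]
    rw [e]; exact hd'
  have hDp : IsPGroup 2 D := S.isPGroup'.to_le hDS
  by_cases hxD : x ∈ D
  · exact hDc hxD
  have hO' := pPrimeCore_quotient_central_eq_bot hO D hDc hDp
  -- the image of `x` in `G ⧸ D`
  have hx2 : orderOf (QuotientGroup.mk x : G ⧸ D) = 2 := by
    apply orderOf_eq_prime
    · rw [← QuotientGroup.mk_pow]
      exact (QuotientGroup.eq_one_iff _).mpr (Subgroup.mem_zpowers _)
    · intro h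
      exact hxD ((QuotientGroup.eq_one_iff x).mp h)
  let S' : Sylow 2 (G ⧸ D) := S.mapSurjective (QuotientGroup.mk'_surjective D)
  have hS' : (S' : Subgroup (G ⧸ D)) = (S : Subgroup G).map (QuotientGroup.mk' D) := rfl
  have hxS' : (QuotientGroup.mk x : G ⧸ D) ∈ S' := by
    show (QuotientGroup.mk x : G ⧸ D) ∈ (S' : Subgroup (G ⧸ D))
    rw [hS']
    exact ⟨x, hQS hxQ, rfl⟩
  have hwc : ∀ g' : G ⧸ D, g' * (QuotientGroup.mk x : G ⧸ D) * g'⁻¹ ∈ S' →
      g' * (QuotientGroup.mk x : G ⧸ D) * g'⁻¹ = QuotientGroup.mk x := by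
    intro g' hg'
    obtain ⟨g, rfl⟩ := QuotientGroup.mk_surjective g'
    have hg'' : (QuotientGroup.mk g : G ⧸ D) * (QuotientGroup.mk x : G ⧸ D) *
        (QuotientGroup.mk g : G ⧸ D)⁻¹ ∈ (S : Subgroup G).map (QuotientGroup.mk' D) := hg'
    obtain ⟨s, hs, hs'⟩ := hg''
    have h1 : s⁻¹ * (g * x * g⁻¹) ∈ D := by
      rw [← QuotientGroup.eq]
      exact hs'
    have h3 : g * x * g⁻¹ ∈ (S : Subgroup G) := by
      have : g * x * g⁻¹ = s * (s⁻¹ * (g * x * g⁻¹)) := by group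
      rw [this]
      exact Subgroup.mul_mem _ hs (hDS h1)
    have h4 := hQ x hxQ g h3
    rw [← QuotientGroup.mk_inv, ← QuotientGroup.mk_mul, ← QuotientGroup.mk_mul, h4]
  have hcen := isolated_mem_center (isolated_of_weakly_closed S' hx2 hxS' hwc) hO'
  rw [Subgroup.mem_center_iff]
  intro g
  have h1 : g * x * g⁻¹ * x⁻¹ ∈ D := by
    rw [← QuotientGroup.eq_one_iff]
    have := Subgroup.mem_center_iff.mp hcen (QuotientGroup.mk g)
    simp only [QuotientGroup.mk_mul, QuotientGroup.mk_inv]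
    rw [this, mul_inv_cancel_right, mul_inv_cancel]
  have h3 : g * x * g⁻¹ ∈ (S : Subgroup G) := by
    have : g * x * g⁻¹ = (g * x * g⁻¹ * x⁻¹) * x := by group
    rw [this]
    exact Subgroup.mul_mem _ (hDS h1) (hQS hxQ)
  have h4 := hQ x hxQ g h3
  calc g * x = (g * x * g⁻¹) * g := by group
    _ = x * g := by rw [h4]

/-- **Generalized `Z*`-theorem**: a subgroup `Q` of a Sylow `2`-subgroup `S` all of whose
elements are weakly closed in `S` with respect to `G` is central modulo `O(G)`. -/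
theorem weakly_closed_zstar (S : Sylow 2 G) (Q : Subgroup G) (hQS : Q ≤ S)
    (hQ : ∀ x ∈ Q, ∀ g : G, g * x * g⁻¹ ∈ (S : Subgroup G) → g * x * g⁻¹ = x) :
    ∀ x ∈ Q, ∀ g : G, x * g * x⁻¹ * g⁻¹ ∈ pPrimeCore 2 G := by
  have h2 : Fact (Nat.Prime 2) := ⟨Nat.prime_two⟩
  have hNn : (pPrimeCore 2 G).Normal := Cfsg.Agent.Lib.Helper1.pPrimeCore_normal 2
  have hO' : pPrimeCore 2 (G ⧸ pPrimeCore 2 G) = ⊥ :=
    Cfsg.Agent.Lib.Helper10.pPrimeCore_quotient_eq_bot 2
  let S' : Sylow 2 (G ⧸ pPrimeCore 2 G) :=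
    S.mapSurjective (QuotientGroup.mk'_surjective (pPrimeCore 2 G))
  have hS' : (S' : Subgroup (G ⧸ pPrimeCore 2 G)) =
      (S : Subgroup G).map (QuotientGroup.mk' (pPrimeCore 2 G)) := rfl
  have hQS' : Q.map (QuotientGroup.mk' (pPrimeCore 2 G)) ≤ S' := by
    show Q.map (QuotientGroup.mk' (pPrimeCore 2 G)) ≤ (S' : Subgroup (G ⧸ pPrimeCore 2 G))
    rw [hS']
    exact Subgroup.map_mono hQS
  have hwc : ∀ x' ∈ Q.map (QuotientGroup.mk' (pPrimeCore 2 G)), ∀ g' : G ⧸ pPrimeCore 2 G,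
      g' * x' * g'⁻¹ ∈ (S' : Subgroup (G ⧸ pPrimeCore 2 G)) → g' * x' * g'⁻¹ = x' := by
    rintro _ ⟨x, hxQ, rfl⟩ g' hg'
    obtain ⟨g, rfl⟩ := QuotientGroup.mk_surjective g'
    rw [hS'] at hg'
    obtain ⟨s, hs, hs'⟩ := hg'
    have h1 : s⁻¹ * (g * x * g⁻¹) ∈ pPrimeCore 2 G := by
      rw [← QuotientGroup.eq]
      exact hs'
    have hy : g * x * g⁻¹ ∈ (S : Subgroup G) ⊔ pPrimeCore 2 G := by
      have : g * x * g⁻¹ = s * (s⁻¹ * (g * x * g⁻¹)) := by group
      rw [this]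
      exact Subgroup.mul_mem _ (le_sup_left (b := pPrimeCore 2 G) hs)
        (le_sup_right (a := (S : Subgroup G)) h1)
    have hyp : IsPGroup 2 (Subgroup.zpowers (g * x * g⁻¹)) := by
      obtain ⟨k, hk⟩ := (IsPGroup.iff_orderOf.mp S.isPGroup') ⟨x, hQS hxQ⟩
      rw [Subgroup.orderOf_mk] at hk
      apply IsPGroup.of_card (n := k)
      rw [Nat.card_zpowers, orderOf_conj_eq, hk]
    obtain ⟨n, hn, hny⟩ := exists_conj_mem_sylow_of_mem_sup S (pPrimeCore 2 G) hy hyp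
    have e1 : n * (g * x * g⁻¹) * n⁻¹ = (n * g) * x * (n * g)⁻¹ := by group
    rw [e1] at hny
    have h4 := hQ x hxQ (n * g) hny
    have hn1 : (QuotientGroup.mk n : G ⧸ pPrimeCore 2 G) = 1 :=
      (QuotientGroup.eq_one_iff n).mpr hn
    have h5 := congrArg (QuotientGroup.mk' (pPrimeCore 2 G)) h4
    simp only [map_mul, map_inv, QuotientGroup.mk'_apply, hn1, one_mul] at h5
    exact h5
  intro x hxQ g
  have hcen := weakly_closed_le_center_aux hO' S' _ hQS' hwc _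
    (QuotientGroup.mk' (pPrimeCore 2 G) x) (Subgroup.mem_map_of_mem _ hxQ) rfl
  rw [← QuotientGroup.eq_one_iff]
  have := Subgroup.mem_center_iff.mp hcen (QuotientGroup.mk g)
  simp only [QuotientGroup.mk_mul, QuotientGroup.mk_inv]
  rw [QuotientGroup.mk'_apply] at this
  rw [← this, mul_inv_cancel_right, mul_inv_cancel]

end Cfsg.Agent.Lib.Helper9
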