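import Mathlib
import Cfsg.Agent.Lib.Helper9.Wr.Local6
import Cfsg.Agent.Lib.Helper9.QD.Frat
import Cfsg.Agent.Lib.Helper9.ZStarGen
import Cfsg.Agent.Lib.Helper9.Isolated2

/-!
# S1239: quasi-dihedral / wreathed Sylow 2-subgroup with an isolated involution:
`O(X) Z(S)` is normal.
-/

set_option autoImplicit false
set_option linter.unusedSectionVars false
set_option linter.unusedVariables false

namespace Cfsg.Agent.Lib.Helper9.IsoCenter

open Cfsg
open Cfsg.Agent.Lib.Helper9.QD (Mz Kz two_mul_Mz two_mul_Kz Mz_ne_zero)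
open Cfsg.Agent.Lib.Helper9.WrLocal
open Cfsg.Agent.Lib.Helper9.Wr

variable {X : Type*} [Group X] [Finite X]

/-- the assembly: if every element of `Z(S)` is central modulo `O(X)`, then `O(X) Z(S)` is normal -/
theorem normal_of_central_mod_core (S : Sylow 2 X)
    (key : ∀ c ∈ (Subgroup.center (S : Subgroup X)).map (S : Subgroup X).subtype, ∀ g : X,
      c * g * c⁻¹ * g⁻¹ ∈ pPrimeCore 2 X) :
    (pPrimeCore 2 X ⊔ (Subgroup.center (S : Subgroup X)).map (S : Subgroup X).subtype).Normal := by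
  have hOn : (pPrimeCore 2 X).Normal := Cfsg.Agent.Lib.Helper1.pPrimeCore_normal 2
  refine ⟨fun m hm g => ?_⟩
  obtain ⟨o, ho, c, hc, rfl⟩ := Subgroup.mem_sup_of_normal_left.mp hm
  have h1 : g * c * g⁻¹ * c⁻¹ ∈ pPrimeCore 2 X := by
    have := Subgroup.inv_mem _ (key c hc g)
    have e : (c * g * c⁻¹ * g⁻¹)⁻¹ = g * c * g⁻¹ * c⁻¹ := by group
    rwa [e] at this
  have e : g * (o * c) * g⁻¹ = ((g * o * g⁻¹) * (g * c * g⁻¹ * c⁻¹)) * c := by group
  rw [e]
  exact Subgroup.mul_mem _
    (Subgroup.mem_sup_left (Subgroup.mul_mem _ (hOn.conj_mem o ho g) h1))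
    (Subgroup.mem_sup_right hc)

/-- quasi-dihedral case -/
theorem key_qd (S : Sylow 2 X) (hS : Cfsg.IsQuasiDihedral (S : Subgroup X)) {z : X}
    (hzS : z ∈ S) (hz : Cfsg.IsIsolatedInvolution z) :
    ∀ c ∈ (Subgroup.center (S : Subgroup X)).map (S : Subgroup X).subtype, ∀ g : X,
      c * g * c⁻¹ * g⁻¹ ∈ pPrimeCore 2 X := by
  obtain ⟨n, x, y, hqd⟩ := Cfsg.Agent.Lib.Helper9.QD.exists_qdData hS
  have hcard := hqd.card_center
  have hzc : (⟨z, hzS⟩ : (S : Subgroup X)) ∈ Subgroup.center (S : Subgroup X) := by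
    rw [Subgroup.mem_center_iff]
    intro s
    apply Subtype.ext
    have := Cfsg.Agent.Lib.Helper9.isolated_comm_of_isPGroup hz S.isPGroup' hzS s.2
    simp only [Subgroup.coe_mul]
    calc (s : X) * z = ((s : X) * z * (s : X)⁻¹) * (s : X) := by group
      _ = z * (s : X) := by rw [this]
  have hz1 : z ≠ 1 := Cfsg.Agent.Lib.Helper9.isolated_ne_one hz
  obtain ⟨w, hw1, hw2⟩ := (Nat.card_eq_two_iff' (1 : Subgroup.center (S : Subgroup X))).mp hcard
  have hzw : (⟨⟨z, hzS⟩, hzc⟩ : Subgroup.center (S : Subgroup X)) = w := by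
    apply hw2
    intro h1
    apply hz1
    have := congrArg (fun t : Subgroup.center (S : Subgroup X) => ((t : (S : Subgroup X)) : X)) h1
    simpa using this
  rintro _ ⟨c, hc, rfl⟩ g
  by_cases hc1 : (⟨c, hc⟩ : Subgroup.center (S : Subgroup X)) = 1
  · have : (c : X) = 1 := by
      have := congrArg (fun t : Subgroup.center (S : Subgroup X) => ((t : (S : Subgroup X)) : X)) hc1
      simpa using this
    simp only [Subgroup.coe_subtype]
    rw [this]
    simp
  · have h2 : (⟨c, hc⟩ : Subgroup.center (S : Subgroup X)) = w := hw2 _ hc1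
    have h3 : (c : X) = z := by
      have := congrArg (fun t : Subgroup.center (S : Subgroup X) => ((t : (S : Subgroup X)) : X))
        (h2.trans hzw.symm)
      simpa using this
    simp only [Subgroup.coe_subtype]
    rw [h3]
    exact Cfsg.Agent.Lib.Helper9.zstar hz g

/-- wreathed case -/
theorem key_wr (S : Sylow 2 X) (hS : Cfsg.IsWreathed (S : Subgroup X)) {z : X}
    (hzS : z ∈ S) (hz : Cfsg.IsIsolatedInvolution z) :
    ∀ c ∈ (Subgroup.center (S : Subgroup X)).map (S : Subgroup X).subtype, ∀ g : X,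
      c * g * c⁻¹ * g⁻¹ ∈ pPrimeCore 2 X := by
  obtain ⟨n, x, y, w, h⟩ := exists_wrData hS
  have hM0 := Mz_ne_zero (n := n) h.n1
  -- z is the central involution
  have hzc : (⟨z, hzS⟩ : (S : Subgroup X)) ∈ Subgroup.center (S : Subgroup X) := by
    rw [Subgroup.mem_center_iff]
    intro s
    apply Subtype.ext
    have := Cfsg.Agent.Lib.Helper9.isolated_comm_of_isPGroup hz S.isPGroup' hzS s.2
    simp only [Subgroup.coe_mul]
    calc (s : X) * z = ((s : X) * z * (s : X)⁻¹) * (s : X) := by group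
      _ = z * (s : X) := by rw [this]
  obtain ⟨a, ha⟩ := h.mem_center_iff.mp hzc
  have hz2 : orderOf (⟨z, hzS⟩ : (S : Subgroup X)) = 2 := by
    rw [Subgroup.orderOf_mk]; exact hz.1
  have haM : a = Mz n := by
    rw [ha, h.orderOf_W_eq_two] at hz2
    rcases hz2 with ⟨h1, h2⟩ | ⟨h1, h2⟩ | ⟨h1, _⟩
    · exact absurd (h1.symm.trans h2) hM0
    · exact absurd (h2.symm.trans h1) hM0
    · exact h1
  have hzeta : ((W x y (Mz n) (Mz n) : (S : Subgroup X)) : X) = z := by
    rw [← haM, ← ha]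
  -- odd-order elements of N(A) centralize A
  have hNA : ∀ g ∈ Subgroup.normalizer (up (S : Subgroup X) h.A : Set X), Odd (orderOf g) →
      g ∈ Subgroup.centralizer (up (S : Subgroup X) h.A : Set X) := by
    intro g hgN hodd
    by_contra hgC
    have hconj := isConj_zeta_a S h hgN hodd hgC
    rw [isConj_iff] at hconj
    obtain ⟨k, hk⟩ := hconj
    rw [hzeta] at hk
    -- W M 0 commutes with z
    have hcomm : Commute z (k * z * k⁻¹) := by
      rw [hk, ← hzeta]
      have : (W x y (Mz n) (Mz n) : (S : Subgroup X)) * W x y (Mz n) 0 =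
          W x y (Mz n) 0 * W x y (Mz n) (Mz n) := h.W_comm _ _ _ _
      have := congrArg Subtype.val this
      rw [commute_iff_eq]
      simpa using this
    have h1 := hz.2 k hcomm
    rw [hk, ← hzeta] at h1
    have h2 : (W x y (Mz n) 0 : (S : Subgroup X)) = W x y (Mz n) (Mz n) := Subtype.ext h1
    exact hM0 (h.W_inj.mp h2).2.symm
  have hZA : up (S : Subgroup X) (Subgroup.center (S : Subgroup X)) ≤ up (S : Subgroup X) h.A := by
    apply up_mono
    intro s hs
    obtain ⟨b, rfl⟩ := h.mem_center_iff.mp hs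
    exact h.W_mem_A b b
  -- weak closure of the elements of Z(S)
  have hwc : ∀ c ∈ (Subgroup.center (S : Subgroup X)).map (S : Subgroup X).subtype, ∀ g : X,
      g * c * g⁻¹ ∈ (S : Subgroup X) → g * c * g⁻¹ = c := by
    intro c hc g hg
    have hcS : c ∈ (S : Subgroup X) := Subgroup.map_subtype_le _ hc
    refine wr_fusion S h (fun u => u = c) ?_ ?_ ?_ c hcS g hg rfl
    · rintro s hs u hu rfl
      obtain ⟨c', hc', rfl⟩ := hc
      have := (Subgroup.mem_center_iff.mp hc') ⟨s, hs⟩
      have := congrArg Subtype.val this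
      simp only [Subgroup.coe_mul, Subgroup.coe_subtype] at this ⊢
      calc s * (c' : X) * s⁻¹ = ((c' : X) * s) * s⁻¹ := by rw [this]
        _ = (c' : X) := by group
    · rintro g' hgN hodd u hu rfl
      exact conj_eq_of_mem_centralizer S h (hNA g' hgN hodd) (hZA hc)
    · rintro b g' hgN hodd u hu rfl
      exact conj_eq_of_mem_centralizer S h (odd_centralizes_ZG S h hgN hodd) hc
  exact Cfsg.Agent.Lib.Helper9.weakly_closed_zstar S _ (Subgroup.map_subtype_le _) hwc

theorem main (S : Sylow 2 X)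
    (hS : Cfsg.IsQuasiDihedral (S : Subgroup X) ∨ Cfsg.IsWreathed (S : Subgroup X)) (z : X)
    (hzS : z ∈ S) (hz : Cfsg.IsIsolatedInvolution z) :
    (pPrimeCore 2 X ⊔ (Subgroup.center (S : Subgroup X)).map (S : Subgroup X).subtype).Normal := by
  apply normal_of_central_mod_core
  rcases hS with hS | hS
  · exact key_qd S hS hzS hz
  · exact key_wr S hS hzS hz

end Cfsg.Agent.Lib.Helper9.IsoCenter
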