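import Mathlib
import Cfsg.Prelude.Def_TwoFusion
import Cfsg.Agent.Lib.Helper9.Isolated

set_option autoImplicit false

namespace Cfsg.Agent.Lib.Helper9

open Cfsg

variable {G : Type*} [Group G]

/-- The set of conjugates of `z`. -/
def conjSet (z : G) : Set G := {ω | ∃ g : G, g * z * g⁻¹ = ω}

theorem self_mem_conjSet (z : G) : z ∈ conjSet z := ⟨1, by simp⟩

theorem conj_mem_conjSet {z ω : G} (h : ω ∈ conjSet z) (a : G) : a * ω * a⁻¹ ∈ conjSet z := by
  obtain ⟨g, rfl⟩ := h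
  exact ⟨a * g, by group⟩

theorem conjSet_eq_of_mem {z ω : G} (h : ω ∈ conjSet z) : conjSet ω = conjSet z := by
  obtain ⟨g, rfl⟩ := h
  ext x
  constructor
  · rintro ⟨a, rfl⟩
    exact ⟨a * g, by group⟩
  · rintro ⟨a, rfl⟩
    exact ⟨a * g⁻¹, by group⟩

theorem isolated_of_mem_conjSet {z ω : G} (hz : Cfsg.IsIsolatedInvolution z)
    (h : ω ∈ conjSet z) : Cfsg.IsIsolatedInvolution ω := by
  obtain ⟨g, rfl⟩ := h
  exact isolated_conj hz g

theorem sq_of_mem_conjSet {z ω : G} (hz : Cfsg.IsIsolatedInvolution z)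
    (h : ω ∈ conjSet z) : ω * ω = 1 :=
  isolated_sq (isolated_of_mem_conjSet hz h)

theorem inv_of_mem_conjSet {z ω : G} (hz : Cfsg.IsIsolatedInvolution z)
    (h : ω ∈ conjSet z) : ω⁻¹ = ω :=
  inv_eq_self_of_sq (sq_of_mem_conjSet hz h)

theorem odd_orderOf_mul_of_mem_conjSet [Finite G] {z ω : G} (hz : Cfsg.IsIsolatedInvolution z)
    (h : ω ∈ conjSet z) : Odd (orderOf (ω * z)) := by
  obtain ⟨g, rfl⟩ := h
  have := isolated_odd_orderOf_conj_mul_conj hz g 1
  simpa using this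

/-- Midpoints are unique (base point `z`). -/
theorem conj_base_injective [Finite G] {z μ μ' : G} (hz : Cfsg.IsIsolatedInvolution z)
    (hμ : μ ∈ conjSet z) (hμ' : μ' ∈ conjSet z) (h : μ * z * μ⁻¹ = μ' * z * μ'⁻¹) : μ = μ' := by
  have h1 : (μ * z) ^ 2 = μ * z * μ⁻¹ * z := by
    rw [inv_of_mem_conjSet hz hμ, pow_two]; group
  have h2 : (μ' * z) ^ 2 = μ' * z * μ'⁻¹ * z := by
    rw [inv_of_mem_conjSet hz hμ', pow_two]; group
  have h3 : (μ * z) ^ 2 = (μ' * z) ^ 2 := by rw [h1, h2, h]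
  have := eq_of_sq_eq_of_odd (odd_orderOf_mul_of_mem_conjSet hz hμ)
    (odd_orderOf_mul_of_mem_conjSet hz hμ') h3
  exact mul_right_cancel this

/-- The conjugation map `μ ↦ μ ω μ⁻¹` on the class of `z`. -/
def conjMap (z : G) (ω : conjSet z) : conjSet z → conjSet z :=
  fun μ => ⟨μ.1 * ω.1 * μ.1⁻¹, conj_mem_conjSet ω.2 μ.1⟩

theorem conjMap_injective [Finite G] {z : G} (hz : Cfsg.IsIsolatedInvolution z) (ω : conjSet z) :
    Function.Injective (conjMap z ω) := by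
  intro μ μ' h
  have h' : μ.1 * ω.1 * μ.1⁻¹ = μ'.1 * ω.1 * μ'.1⁻¹ := congrArg Subtype.val h
  have hω := isolated_of_mem_conjSet hz ω.2
  have e := conjSet_eq_of_mem ω.2
  apply Subtype.ext
  have hμ : μ.1 ∈ conjSet ω.1 := by rw [e]; exact μ.2
  have hμ' : μ'.1 ∈ conjSet ω.1 := by rw [e]; exact μ'.2
  exact conj_base_injective hω hμ hμ' h'

theorem conjMap_bijective [Finite G] {z : G} (hz : Cfsg.IsIsolatedInvolution z) (ω : conjSet z) :
    Function.Bijective (conjMap z ω) := by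
  have : Finite (conjSet z) := Subtype.finite
  exact ⟨conjMap_injective hz ω, Finite.injective_iff_surjective.mp (conjMap_injective hz ω)⟩

/-- The midpoint of `ω` and `s ω s⁻¹`. -/
noncomputable def midS [Finite G] {z : G} (hz : Cfsg.IsIsolatedInvolution z) (s : G)
    (ω : conjSet z) : conjSet z :=
  (Equiv.ofBijective _ (conjMap_bijective hz ω)).symm ⟨s * ω.1 * s⁻¹, conj_mem_conjSet ω.2 s⟩

theorem midS_spec [Finite G] {z : G} (hz : Cfsg.IsIsolatedInvolution z) (s : G)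
    (ω : conjSet z) : (midS hz s ω).1 * ω.1 * (midS hz s ω).1⁻¹ = s * ω.1 * s⁻¹ := by
  have := (Equiv.ofBijective _ (conjMap_bijective hz ω)).apply_symm_apply
    ⟨s * ω.1 * s⁻¹, conj_mem_conjSet ω.2 s⟩
  exact congrArg Subtype.val this

theorem midS_unique [Finite G] {z : G} (hz : Cfsg.IsIsolatedInvolution z) (s : G)
    (ω μ : conjSet z) (h : μ.1 * ω.1 * μ.1⁻¹ = s * ω.1 * s⁻¹) : midS hz s ω = μ := by
  apply conjMap_injective hz ω
  apply Subtype.ext
  show (midS hz s ω).1 * ω.1 * (midS hz s ω).1⁻¹ = μ.1 * ω.1 * μ.1⁻¹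
  rw [midS_spec, h]

theorem midS_commute [Finite G] {z : G} (hz : Cfsg.IsIsolatedInvolution z) {s : G}
    (hs : s * s = 1) (ω : conjSet z) : Commute (midS hz s ω).1 s := by
  set μ := midS hz s ω with hμ
  have hsinv : s⁻¹ = s := inv_eq_self_of_sq hs
  have hμinv : μ.1⁻¹ = μ.1 := inv_of_mem_conjSet hz μ.2
  have hμsq : μ.1 * μ.1 = 1 := sq_of_mem_conjSet hz μ.2
  have hspec := midS_spec hz s ω
  rw [← hμ] at hspec
  -- s μ s⁻¹ is also a midpoint
  have h1 : midS hz s ω = ⟨s * μ.1 * s⁻¹, conj_mem_conjSet μ.2 s⟩ := by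
    apply midS_unique
    show s * μ.1 * s⁻¹ * ω.1 * (s * μ.1 * s⁻¹)⁻¹ = s * ω.1 * s⁻¹
    have e1 : s * μ.1 * s⁻¹ * ω.1 * (s * μ.1 * s⁻¹)⁻¹ = s * μ.1 * (s⁻¹ * ω.1 * s) * μ.1⁻¹ * s⁻¹ := by
      group
    have e2 : s⁻¹ * ω.1 * s = μ.1 * ω.1 * μ.1⁻¹ := by
      rw [hspec]; nth_rewrite 2 [hsinv]; rw [hsinv]
    rw [e1, e2, hμinv]
    calc s * μ.1 * (μ.1 * ω.1 * μ.1) * μ.1 * s⁻¹
        = s * (μ.1 * μ.1) * ω.1 * (μ.1 * μ.1) * s⁻¹ := by group
      _ = s * ω.1 * s⁻¹ := by rw [hμsq]; group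
  have h2 : μ.1 = s * μ.1 * s⁻¹ := by
    have := congrArg Subtype.val h1
    rw [← hμ] at this
    exact this
  show μ.1 * s = s * μ.1
  calc μ.1 * s = (s * μ.1 * s⁻¹) * s := by rw [← h2]
    _ = s * μ.1 := by group

/-- Every conjugate of `z` commuting with `s` is conjugate to `z` under `C(s)` (given `z`
commutes with `s`). -/
theorem exists_conj_commute [Finite G] {z : G} (hz : Cfsg.IsIsolatedInvolution z) {s μ : G}
    (hsz : Commute s z) (hμ : μ ∈ conjSet z) (hμs : Commute μ s) :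
    ∃ h : G, Commute h s ∧ h * z * h⁻¹ = μ := by
  obtain ⟨g, rfl⟩ := hμ
  obtain ⟨k, hk⟩ := isolated_conj_pow hz g
  refine ⟨(z * (g * z * g⁻¹)) ^ k, ?_, hk⟩
  exact ((hsz.symm.mul_left hμs)).pow_left k

theorem midS_eq_iff [Finite G] {z : G} (hz : Cfsg.IsIsolatedInvolution z) {s : G}
    (hs : s * s = 1) (ω μ₀ : conjSet z) :
    midS hz s ω = μ₀ ↔ Commute ω.1 (s * μ₀.1) := by
  have hsinv : s⁻¹ = s := inv_eq_self_of_sq hs
  have hμinv : μ₀.1⁻¹ = μ₀.1 := inv_of_mem_conjSet hz μ₀.2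
  constructor
  · intro h
    have hspec := midS_spec hz s ω
    rw [h, hsinv, hμinv] at hspec
    show ω.1 * (s * μ₀.1) = s * μ₀.1 * ω.1
    calc ω.1 * (s * μ₀.1) = (s * s) * ω.1 * s * μ₀.1 := by rw [hs]; group
      _ = s * (s * ω.1 * s) * μ₀.1 := by group
      _ = s * (μ₀.1 * ω.1 * μ₀.1) * μ₀.1 := by rw [hspec]
      _ = s * μ₀.1 * ω.1 * (μ₀.1 * μ₀.1) := by group
      _ = s * μ₀.1 * ω.1 := by rw [sq_of_mem_conjSet hz μ₀.2, mul_one]
  · intro h
    apply midS_unique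
    have h' : ω.1 * (s * μ₀.1) = s * μ₀.1 * ω.1 := h
    rw [hsinv, hμinv]
    calc μ₀.1 * ω.1 * μ₀.1 = (s * s) * μ₀.1 * ω.1 * μ₀.1 := by rw [hs]; group
      _ = s * (s * μ₀.1 * ω.1) * μ₀.1 := by group
      _ = s * (ω.1 * (s * μ₀.1)) * μ₀.1 := by rw [h']
      _ = s * ω.1 * s * (μ₀.1 * μ₀.1) := by group
      _ = s * ω.1 * s := by rw [sq_of_mem_conjSet hz μ₀.2, mul_one]

/-- Conjugation by `a` identifies the conjugates of `z` commuting with `a t a⁻¹` with those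
commuting with `t`. -/
def commConjEquiv (z a t : G) :
    {ω : conjSet z // Commute ω.1 (a * t * a⁻¹)} ≃ {ω : conjSet z // Commute ω.1 t} where
  toFun ω := ⟨⟨a⁻¹ * ω.1.1 * a, by simpa using conj_mem_conjSet ω.1.2 a⁻¹⟩, by
    have h : ω.1.1 * (a * t * a⁻¹) = a * t * a⁻¹ * ω.1.1 := ω.2
    show a⁻¹ * ω.1.1 * a * t = t * (a⁻¹ * ω.1.1 * a)
    calc a⁻¹ * ω.1.1 * a * t = a⁻¹ * (ω.1.1 * (a * t * a⁻¹)) * a := by group
      _ = a⁻¹ * (a * t * a⁻¹ * ω.1.1) * a := by rw [h]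
      _ = t * (a⁻¹ * ω.1.1 * a) := by group⟩
  invFun ω := ⟨⟨a * ω.1.1 * a⁻¹, conj_mem_conjSet ω.1.2 a⟩, by
    have h : ω.1.1 * t = t * ω.1.1 := ω.2
    show a * ω.1.1 * a⁻¹ * (a * t * a⁻¹) = a * t * a⁻¹ * (a * ω.1.1 * a⁻¹)
    calc a * ω.1.1 * a⁻¹ * (a * t * a⁻¹) = a * (ω.1.1 * t) * a⁻¹ := by group
      _ = a * (t * ω.1.1) * a⁻¹ := by rw [h]
      _ = a * t * a⁻¹ * (a * ω.1.1 * a⁻¹) := by group⟩
  left_inv ω := by
    apply Subtype.ext; apply Subtype.ext
    show a * (a⁻¹ * ω.1.1 * a) * a⁻¹ = ω.1.1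
    group
  right_inv ω := by
    apply Subtype.ext; apply Subtype.ext
    show a⁻¹ * (a * ω.1.1 * a⁻¹) * a = ω.1.1
    group

/-- `|z^G| = |z^G ∩ C(s)| · |z^G ∩ C(sz)|` for an isolated involution `z` and an involution `s`
commuting with `z`. -/
theorem card_conjSet_eq [Finite G] {z : G} (hz : Cfsg.IsIsolatedInvolution z) {s : G}
    (hs : s * s = 1) (hsz : Commute s z) :
    Nat.card (conjSet z) = Nat.card {ω : conjSet z // Commute ω.1 s} *
      Nat.card {ω : conjSet z // Commute ω.1 (s * z)} := by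
  classical
  have : Finite (conjSet z) := Subtype.finite
  have : Fintype {ω : conjSet z // Commute ω.1 s} := Fintype.ofFinite _
  let π : conjSet z → {ω : conjSet z // Commute ω.1 s} :=
    fun ω => ⟨midS hz s ω, midS_commute hz hs ω⟩
  rw [Nat.card_congr (Equiv.sigmaFiberEquiv π).symm, Nat.card_sigma]
  have hfib : ∀ y : {ω : conjSet z // Commute ω.1 s},
      Nat.card {x : conjSet z // π x = y} = Nat.card {ω : conjSet z // Commute ω.1 (s * z)} := by
    intro y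
    obtain ⟨h, hhs, hh⟩ := exists_conj_commute hz hsz y.1.2 y.2
    have e1 : {x : conjSet z // π x = y} ≃ {x : conjSet z // Commute x.1 (h * (s * z) * h⁻¹)} := by
      apply Equiv.subtypeEquivRight
      intro x
      have : π x = y ↔ midS hz s x = y.1 := by
        constructor
        · intro hx; exact congrArg Subtype.val hx
        · intro hx; exact Subtype.ext hx
      rw [this, midS_eq_iff hz hs]
      have e : s * y.1.1 = h * (s * z) * h⁻¹ := by
        rw [← hh]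
        have hc : h * s = s * h := hhs
        calc s * (h * z * h⁻¹) = (s * h) * z * h⁻¹ := by group
          _ = (h * s) * z * h⁻¹ := by rw [hc]
          _ = h * (s * z) * h⁻¹ := by group
      rw [e]
    exact Nat.card_congr (e1.trans (commConjEquiv z h (s * z)))
  rw [Finset.sum_congr rfl (fun y _ => hfib y), Finset.sum_const, Finset.card_univ, smul_eq_mul,
    ← Nat.card_eq_fintype_card]

theorem mul_mem_conjSet_of_inverted {z k : G} (hodd : Odd (orderOf k))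
    (hinv : z * k * z⁻¹ = k⁻¹) : k * z ∈ conjSet z := by
  obtain ⟨n, hn⟩ := hodd
  refine ⟨k ^ (n + 1), ?_⟩
  have h1 : z * k ^ (n + 1) * z⁻¹ = (k ^ (n + 1))⁻¹ := by
    rw [← conj_pow, hinv, inv_pow]
  rw [conj_of_inverts h1, ← pow_mul]
  have : (n + 1) * 2 = orderOf k + 1 := by omega
  rw [this, pow_succ, pow_orderOf_eq_one, one_mul]

theorem inverted_of_mem_conjSet {z ω : G} (hz : Cfsg.IsIsolatedInvolution z)
    (hω : ω ∈ conjSet z) : z * (ω * z) * z⁻¹ = (ω * z)⁻¹ := by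
  rw [mul_inv_rev, inv_of_mem_conjSet hz hω, inv_eq_self_of_sq (isolated_sq hz)]
  calc z * (ω * z) * z = z * ω * (z * z) := by group
    _ = z * ω := by rw [isolated_sq hz, mul_one]

/-- Odd-order elements inverted by `z` and commuting with `t` correspond to conjugates of `z`
commuting with `t` (for `t` commuting with `z`). -/
noncomputable def invertedEquiv [Finite G] {z : G} (hz : Cfsg.IsIsolatedInvolution z) (t : G)
    (htz : Commute t z) :
    {k : G // Odd (orderOf k) ∧ z * k * z⁻¹ = k⁻¹ ∧ Commute k t} ≃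
      {ω : conjSet z // Commute ω.1 t} where
  toFun k := ⟨⟨k.1 * z, mul_mem_conjSet_of_inverted k.2.1 k.2.2.1⟩,
    k.2.2.2.mul_left htz.symm⟩
  invFun ω := ⟨ω.1.1 * z, odd_orderOf_mul_of_mem_conjSet hz ω.1.2,
    inverted_of_mem_conjSet hz ω.1.2, ω.2.mul_left htz.symm⟩
  left_inv k := by
    apply Subtype.ext
    show k.1 * z * z = k.1
    rw [mul_assoc, isolated_sq hz, mul_one]
  right_inv ω := by
    apply Subtype.ext; apply Subtype.ext
    show ω.1.1 * z * z = ω.1.1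
    rw [mul_assoc, isolated_sq hz, mul_one]

/-- `|G| = |C_G(z)| · |z^G|` via the transversal of inverted elements. -/
theorem card_eq_card_centralizer_mul_card_conjSet [Finite G] {z : G}
    (hz : Cfsg.IsIsolatedInvolution z) :
    Nat.card G = Nat.card (Subgroup.centralizer ({z} : Set G)) * Nat.card (conjSet z) := by
  classical
  let f : conjSet z × Subgroup.centralizer ({z} : Set G) → G := fun x => x.1.1 * z * x.2.1
  have hK : ∀ ω : conjSet z, Odd (orderOf (ω.1 * z)) ∧ z * (ω.1 * z) * z⁻¹ = (ω.1 * z)⁻¹ :=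
    fun ω => ⟨odd_orderOf_mul_of_mem_conjSet hz ω.2, inverted_of_mem_conjSet hz ω.2⟩
  have hf : Function.Bijective f := by
    constructor
    · rintro ⟨ω, c⟩ ⟨ω', c'⟩ h
      have h' : ω.1 * z * c.1 = ω'.1 * z * c'.1 := h
      obtain ⟨k, -, hk⟩ := isolated_existsUnique_inverted hz (ω.1 * z * c.1)
      have h1 := hk (ω.1 * z) ⟨hK ω, by
        have : (ω.1 * z * c.1)⁻¹ * (ω.1 * z) = c.1⁻¹ := by group
        rw [this]; exact Subgroup.inv_mem _ c.2⟩
      have h2 := hk (ω'.1 * z) ⟨hK ω', by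
        have : (ω.1 * z * c.1)⁻¹ * (ω'.1 * z) = c'.1⁻¹ := by rw [h']; group
        rw [this]; exact Subgroup.inv_mem _ c'.2⟩
      have h3 : ω.1 = ω'.1 := mul_right_cancel (h1.trans h2.symm)
      have h4 : c.1 = c'.1 := by
        rw [h3] at h'
        exact mul_left_cancel h'
      exact Prod.ext (Subtype.ext h3) (Subtype.ext h4)
    · intro g
      obtain ⟨k, ⟨⟨hodd, hinv⟩, hkC⟩, -⟩ := isolated_existsUnique_inverted hz g
      refine ⟨(⟨k * z, mul_mem_conjSet_of_inverted hodd hinv⟩, ⟨k⁻¹ * g, ?_⟩), ?_⟩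
      · have : k⁻¹ * g = (g⁻¹ * k)⁻¹ := by group
        rw [this]; exact Subgroup.inv_mem _ hkC
      · show k * z * z * (k⁻¹ * g) = g
        rw [mul_assoc k z z, isolated_sq hz]; group
  rw [← Nat.card_congr (Equiv.ofBijective f hf), Nat.card_prod, mul_comm]

/-- **S1186**. -/
theorem isolated_card_formula [Finite G] {z : G} (hz : Cfsg.IsIsolatedInvolution z) {s : G}
    (hs : orderOf s = 2) (hsz : Commute s z) :
    Nat.card G = Nat.card (Subgroup.centralizer ({z} : Set G)) *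
      Nat.card {k : G // Odd (orderOf k) ∧ z * k * z⁻¹ = k⁻¹ ∧ Commute k (s * z)} *
      Nat.card {k : G // Odd (orderOf k) ∧ z * k * z⁻¹ = k⁻¹ ∧ Commute k s} := by
  have hss : s * s = 1 := by
    have := pow_orderOf_eq_one s
    rwa [hs, pow_two] at this
  have hszz : Commute (s * z) z := hsz.mul_left (Commute.refl z)
  rw [card_eq_card_centralizer_mul_card_conjSet hz, card_conjSet_eq hz hss hsz,
    Nat.card_congr (invertedEquiv hz (s * z) hszz), Nat.card_congr (invertedEquiv hz s hsz)]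
  ring

end Cfsg.Agent.Lib.Helper9
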