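import Mathlib
import Cfsg.Agent.Lib.Helper29.Law.Defs

/-! # S2355 leaf [E1] (helper9, insurance copy under a spare name): over `F[X]` the matrices
`gen F[X] X i` satisfy no nontrivial relation, even modulo scalars -/

set_option autoImplicit false

namespace Cfsg.Agent.Lib.Helper29.Law

namespace Helper9

open Matrix Polynomial

variable {F : Type*} [Field F]

/-- upper elementary matrix -/
noncomputable def Up (g : F[X]) : Matrix (Fin 2) (Fin 2) F[X] := !![1, g; 0, 1]

/-- lower elementary matrix -/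
noncomputable def Lo (g : F[X]) : Matrix (Fin 2) (Fin 2) F[X] := !![1, 0; g, 1]

/-- the top row dominates in every column -/
def TopDom (Y : Matrix (Fin 2) (Fin 2) F[X]) : Prop := ∀ c, degree (Y 1 c) < degree (Y 0 c)

/-- the bottom row dominates in every column -/
def BotDom (Y : Matrix (Fin 2) (Fin 2) F[X]) : Prop := ∀ c, degree (Y 0 c) < degree (Y 1 c)

lemma Up_mul_apply0 (g : F[X]) (Y : Matrix (Fin 2) (Fin 2) F[X]) (c : Fin 2) :
    (Up g * Y) 0 c = Y 0 c + g * Y 1 c := by
  simp [Up, Matrix.mul_apply, Fin.sum_univ_two]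

lemma Up_mul_apply1 (g : F[X]) (Y : Matrix (Fin 2) (Fin 2) F[X]) (c : Fin 2) :
    (Up g * Y) 1 c = Y 1 c := by
  simp [Up, Matrix.mul_apply, Fin.sum_univ_two]

lemma Lo_mul_apply0 (g : F[X]) (Y : Matrix (Fin 2) (Fin 2) F[X]) (c : Fin 2) :
    (Lo g * Y) 0 c = Y 0 c := by
  simp [Lo, Matrix.mul_apply, Fin.sum_univ_two]

lemma Lo_mul_apply1 (g : F[X]) (Y : Matrix (Fin 2) (Fin 2) F[X]) (c : Fin 2) :
    (Lo g * Y) 1 c = Y 1 c + g * Y 0 c := by
  simp [Lo, Matrix.mul_apply, Fin.sum_univ_two, add_comm]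

lemma Up_mul_Up (a b : F[X]) : Up a * Up b = Up (a + b) := by
  ext r c
  fin_cases r <;> fin_cases c <;> simp [Up, Matrix.mul_apply, Fin.sum_univ_two, add_comm]

lemma Lo_mul_Lo (a b : F[X]) : Lo a * Lo b = Lo (a + b) := by
  ext r c
  fin_cases r <;> fin_cases c <;> simp [Lo, Matrix.mul_apply, Fin.sum_univ_two]

lemma key {g p q : F[X]} (hg : 1 ≤ degree g) (h : degree p < degree q) :
    degree q < degree (p + g * q) := by
  have hq : q ≠ 0 := by
    rintro rfl
    rw [degree_zero] at h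
    exact not_lt_bot h
  have hg0 : g ≠ 0 := by
    rintro rfl
    rw [degree_zero] at hg
    exact absurd hg (by decide)
  have h1 : degree q < degree (g * q) := by
    rw [degree_mul, degree_eq_natDegree hq, degree_eq_natDegree hg0]
    rw [degree_eq_natDegree hg0] at hg
    have h2 : 1 ≤ natDegree g := by exact_mod_cast hg
    have h3 : natDegree q < natDegree g + natDegree q := by omega
    exact_mod_cast h3
  rw [degree_add_eq_right_of_degree_lt (h.trans h1)]
  exact h1

lemma topDom_Up_mul {g : F[X]} (hg : 1 ≤ degree g) {Y : Matrix (Fin 2) (Fin 2) F[X]}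
    (h : BotDom Y) : TopDom (Up g * Y) := by
  intro c
  rw [Up_mul_apply0, Up_mul_apply1]
  exact key hg (h c)

lemma botDom_Lo_mul {g : F[X]} (hg : 1 ≤ degree g) {Y : Matrix (Fin 2) (Fin 2) F[X]}
    (h : TopDom Y) : BotDom (Lo g * Y) := by
  intro c
  rw [Lo_mul_apply0, Lo_mul_apply1]
  exact key hg (h c)

/-- the polynomials `X^(i+1)` -/
noncomputable def fX (i : ℕ) : F[X] := X ^ (i + 1)

lemma one_le_degree_fX (i : ℕ) : 1 ≤ degree (fX i : F[X]) := by
  unfold fX
  rw [degree_X_pow]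
  exact_mod_cast Nat.succ_le_succ (Nat.zero_le i)

lemma one_le_degree_neg_fX (i : ℕ) : 1 ≤ degree (-(fX i : F[X])) := by
  rw [degree_neg]
  exact one_le_degree_fX i

lemma one_le_degree_sub {i j : ℕ} (h : i ≠ j) : 1 ≤ degree ((fX i : F[X]) + -(fX j : F[X])) := by
  rw [← sub_eq_add_neg]
  rcases lt_or_gt_of_ne h with hlt | hgt
  · have hd : degree (fX i : F[X]) < degree (fX j : F[X]) := by
      unfold fX
      rw [degree_X_pow, degree_X_pow]
      exact_mod_cast Nat.succ_lt_succ hlt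
    rw [degree_sub_eq_right_of_degree_lt hd]
    exact one_le_degree_fX j
  · have hd : degree (fX j : F[X]) < degree (fX i : F[X]) := by
      unfold fX
      rw [degree_X_pow, degree_X_pow]
      exact_mod_cast Nat.succ_lt_succ hgt
    rw [degree_sub_eq_left_of_degree_lt hd]
    exact one_le_degree_fX i

/-- the matrix of a letter -/
noncomputable def letter (x : ℕ × Bool) : Matrix (Fin 2) (Fin 2) F[X] :=
  cond x.2 (Up (fX x.1) * Lo (fX x.1)) (Lo (-(fX x.1)) * Up (-(fX x.1)))

/-- the matrix of a word -/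
noncomputable def P (L : List (ℕ × Bool)) : Matrix (Fin 2) (Fin 2) F[X] :=
  (L.map letter).prod

lemma P_cons (x : ℕ × Bool) (L : List (ℕ × Bool)) : (P (x :: L) : Matrix (Fin 2) (Fin 2) F[X])
    = letter x * P L := by
  unfold P
  rw [List.map_cons, List.prod_cons]

lemma coe_gen (i : ℕ) : ((gen F[X] X i : SpecialLinearGroup (Fin 2) F[X]) :
    Matrix (Fin 2) (Fin 2) F[X]) = Up (fX i) * Lo (fX i) := by
  ext r c
  fin_cases r <;> fin_cases c <;>
    simp [gen, Up, Lo, fX, Matrix.mul_apply, Fin.sum_univ_two]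

lemma coe_gen_inv (i : ℕ) : (((gen F[X] X i)⁻¹ : SpecialLinearGroup (Fin 2) F[X]) :
    Matrix (Fin 2) (Fin 2) F[X]) = Lo (-(fX i)) * Up (-(fX i)) := by
  rw [Matrix.SpecialLinearGroup.coe_inv]
  have : ((gen F[X] X i : SpecialLinearGroup (Fin 2) F[X]) : Matrix (Fin 2) (Fin 2) F[X])
      = !![1 + X ^ (i + 1) * X ^ (i + 1), X ^ (i + 1); X ^ (i + 1), 1] := rfl
  rw [this, Matrix.adjugate_fin_two_of]
  ext r c
  fin_cases r <;> fin_cases c <;>
    simp [Up, Lo, fX, Matrix.mul_apply, Fin.sum_univ_two]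
  ring

lemma coe_lift_mk (L : List (ℕ × Bool)) :
    ((FreeGroup.lift (fun i => gen F[X] X i) (FreeGroup.mk L) : SpecialLinearGroup (Fin 2) F[X]) :
      Matrix (Fin 2) (Fin 2) F[X]) = P L := by
  rw [FreeGroup.lift_mk]
  induction L with
  | nil => simp [P]
  | cons x L ih =>
    rw [List.map_cons, List.prod_cons, Matrix.SpecialLinearGroup.coe_mul, ih, P_cons]
    congr 1
    obtain ⟨i, b⟩ := x
    cases b
    · simp only [cond_false, letter]
      exact coe_gen_inv i
    · simp only [cond_true, letter]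
      exact coe_gen i

/-- the invariant of the induction -/
def Inv (x : ℕ × Bool) (M : Matrix (Fin 2) (Fin 2) F[X]) : Prop :=
  (x.2 = true → ∃ Y, M = Up (fX x.1) * Y ∧ BotDom Y) ∧
  (x.2 = false → ∃ Y, M = Lo (-(fX x.1)) * Y ∧ TopDom Y)

lemma botDom_Lo (i : ℕ) : BotDom (Lo (fX i : F[X])) := by
  intro c
  fin_cases c
  · show degree ((Lo (fX i : F[X])) 0 0) < degree ((Lo (fX i : F[X])) 1 0)
    simp only [Lo, Matrix.of_apply, Matrix.cons_val_zero, Matrix.cons_val_one]
    rw [degree_one]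
    exact lt_of_lt_of_le (by decide) (one_le_degree_fX i)
  · show degree ((Lo (fX i : F[X])) 0 1) < degree ((Lo (fX i : F[X])) 1 1)
    simp only [Lo, Matrix.of_apply, Matrix.cons_val_zero, Matrix.cons_val_one]
    rw [degree_zero, degree_one]
    exact WithBot.bot_lt_coe 0

lemma topDom_Up_neg (i : ℕ) : TopDom (Up (-(fX i : F[X]))) := by
  intro c
  fin_cases c
  · show degree ((Up (-(fX i : F[X]))) 1 0) < degree ((Up (-(fX i : F[X]))) 0 0)
    simp only [Up, Matrix.of_apply, Matrix.cons_val_zero, Matrix.cons_val_one]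
    rw [degree_zero, degree_one]
    exact WithBot.bot_lt_coe 0
  · show degree ((Up (-(fX i : F[X]))) 1 1) < degree ((Up (-(fX i : F[X]))) 0 1)
    simp only [Up, Matrix.of_apply, Matrix.cons_val_zero, Matrix.cons_val_one]
    rw [degree_one]
    exact lt_of_lt_of_le (by decide) (one_le_degree_neg_fX i)

theorem inv_P : ∀ (L' : List (ℕ × Bool)) (x : ℕ × Bool), FreeGroup.IsReduced (x :: L') →
    Inv x (P (x :: L') : Matrix (Fin 2) (Fin 2) F[X])
  | [], x, _ => by
    obtain ⟨i, b⟩ := x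
    have hP : (P [(i, b)] : Matrix (Fin 2) (Fin 2) F[X]) = letter (i, b) := by
      simp [P]
    rw [hP]
    cases b
    · refine ⟨fun h => absurd h (by simp), fun _ => ⟨Up (-(fX i)), rfl, topDom_Up_neg i⟩⟩
    · refine ⟨fun _ => ⟨Lo (fX i), rfl, botDom_Lo i⟩, fun h => absurd h (by simp)⟩
  | y :: L'', x, h => by
    obtain ⟨hxy, hred⟩ := FreeGroup.isReduced_cons_cons.mp h
    have ih := inv_P L'' y hred
    rw [P_cons]
    obtain ⟨i, bx⟩ := x
    obtain ⟨j, bj⟩ := y
    cases bx <;> cases bj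
    · -- x = (i, false), y = (j, false)
      obtain ⟨Y', hY', hdom⟩ := ih.2 rfl
      refine ⟨fun h => absurd h (by simp), fun _ => ?_⟩
      refine ⟨Up (-(fX i)) * (Lo (-(fX j)) * Y'), ?_, ?_⟩
      · rw [hY']
        simp only [letter, cond_false, Matrix.mul_assoc]
      · exact topDom_Up_mul (one_le_degree_neg_fX i)
          (botDom_Lo_mul (one_le_degree_neg_fX j) hdom)
    · -- x = (i, false), y = (j, true)
      have hij : i ≠ j := fun hh => absurd (hxy hh) (by simp)
      obtain ⟨Y', hY', hdom⟩ := ih.1 rfl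
      refine ⟨fun h => absurd h (by simp), fun _ => ?_⟩
      refine ⟨Up (fX j + -(fX i)) * Y', ?_, ?_⟩
      · rw [hY']
        simp only [letter, cond_false]
        rw [Matrix.mul_assoc, ← Matrix.mul_assoc (Up (-(fX i))), Up_mul_Up, add_comm]
      · exact topDom_Up_mul (one_le_degree_sub (Ne.symm hij)) hdom
    · -- x = (i, true), y = (j, false)
      have hij : i ≠ j := fun hh => absurd (hxy hh) (by simp)
      obtain ⟨Y', hY', hdom⟩ := ih.2 rfl
      refine ⟨fun _ => ?_, fun h => absurd h (by simp)⟩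
      refine ⟨Lo (fX i + -(fX j)) * Y', ?_, ?_⟩
      · rw [hY']
        simp only [letter, cond_true]
        rw [Matrix.mul_assoc, ← Matrix.mul_assoc (Lo (fX i)), Lo_mul_Lo]
      · exact botDom_Lo_mul (one_le_degree_sub hij) hdom
    · -- x = (i, true), y = (j, true)
      obtain ⟨Y', hY', hdom⟩ := ih.1 rfl
      refine ⟨fun _ => ?_, fun h => absurd h (by simp)⟩
      refine ⟨Lo (fX i) * (Up (fX j) * Y'), ?_, ?_⟩
      · rw [hY']
        simp only [letter, cond_true, Matrix.mul_assoc]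
      · exact botDom_Lo_mul (one_le_degree_fX i) (topDom_Up_mul (one_le_degree_fX j) hdom)

lemma ne_zero_of_degree_lt {p q : F[X]} (h : degree p < degree q) : q ≠ 0 := by
  rintro rfl
  rw [degree_zero] at h
  exact not_lt_bot h

/-- [E1] (spare copy) -/
theorem offDiag_ne_zero_spare (F : Type*) [Field F] (w : FreeGroup ℕ) (hw : w ≠ 1) :
    ∃ a b : Fin 2, a ≠ b ∧
      (FreeGroup.lift (fun i => gen (Polynomial F) Polynomial.X i) w :
        Matrix (Fin 2) (Fin 2) (Polynomial F)) a b ≠ 0 := by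
  have hL : w.toWord ≠ [] := fun h => hw (FreeGroup.toWord_eq_nil_iff.mp h)
  have hred : FreeGroup.IsReduced w.toWord := FreeGroup.isReduced_toWord
  have hmk : FreeGroup.mk w.toWord = w := FreeGroup.mk_toWord
  obtain ⟨x, L', hxL⟩ := List.exists_cons_of_ne_nil hL
  rw [← hmk, coe_lift_mk, hxL]
  rw [hxL] at hred
  have hinv := inv_P (F := F) L' x hred
  obtain ⟨i, b⟩ := x
  cases b
  · obtain ⟨Y, hY, hdom⟩ := hinv.2 rfl
    have hB := botDom_Lo_mul (one_le_degree_neg_fX i) hdom
    rw [← hY] at hB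
    exact ⟨1, 0, by decide, ne_zero_of_degree_lt (hB 0)⟩
  · obtain ⟨Y, hY, hdom⟩ := hinv.1 rfl
    have hT := topDom_Up_mul (one_le_degree_fX i) hdom
    rw [← hY] at hT
    exact ⟨0, 1, by decide, ne_zero_of_degree_lt (hT 1)⟩

end Helper9

end Cfsg.Agent.Lib.Helper29.Law
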