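import Mathlib
import Cfsg.Prelude.Def_KGroupFacts
import Cfsg.Agent.H5.StemTC
import Cfsg.Agent.Lib.Helper6.M22MultCoverDefs

/-!
# S2036 piece [G1] (helper9 for helper6): the group presented by a list of relators as a cover

Generic version of `Helper23.exists_cover_of` (`Lib/Helper23/Sp62EGen.lean`): the group `CoverW t R`
presented by the words of `R` maps onto every group generated by elements satisfying `R`; with a bound
`k · |G|` on its order, a central word `wz` that dies in `G` and a model in which the value of `wz` has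
order at least `k`, it is a stem extension of `G` with cyclic kernel of order `k`.
-/

set_option autoImplicit false
set_option linter.unusedVariables false

namespace Cfsg.Agent.Lib.Helper6.M22Mult

open Cfsg Cfsg.H5.TCk

theorem cgenW_rel (t : ℕ) (R : List (List ℕ)) (r : List ℕ) (hr : r ∈ R) :
    ev (cgenW t R) r = 1 := by
  have h1 := Cfsg.H5.StemTC.map_ev (PresentedGroup.mk (relSetW t R)) (fgen t) r
  have h2 : ev (cgenW t R) r = PresentedGroup.mk (relSetW t R) (ev (fgen t) r) := h1.symm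
  rw [h2]
  exact PresentedGroup.one_of_mem ⟨r, hr, rfl⟩

theorem closure_cgenW (t : ℕ) (R : List (List ℕ)) :
    Subgroup.closure (Set.range fun i : Fin t => cgenW t R i.val) = ⊤ := by
  rw [← PresentedGroup.closure_range_of (relSetW t R)]
  congr 1
  ext x
  constructor
  · rintro ⟨i, rfl⟩
    refine ⟨i, ?_⟩
    show PresentedGroup.of i = PresentedGroup.mk (relSetW t R) (fgen t i.val)
    unfold fgen
    rw [dif_pos i.2]
    rfl
  · rintro ⟨j, rfl⟩
    refine ⟨j, ?_⟩
    show PresentedGroup.mk (relSetW t R) (fgen t j.val) = PresentedGroup.of j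
    unfold fgen
    rw [dif_pos j.2]
    rfl

theorem exists_homW (t : ℕ) (R : List (List ℕ)) (hR : lettersLt (2 * t) R = true)
    {H : Type*} [Group H] (h : ℕ → H) (hrel : ∀ r ∈ R, ev h r = 1) :
    ∃ ψ : CoverW t R →* H, ∀ w : List ℕ, (∀ l ∈ w, l < 2 * t) →
      ψ (ev (cgenW t R) w) = ev h w := by
  have hlift : ∀ i < t, FreeGroup.lift (fun j : Fin t => h j.val) (fgen t i) = h i := by
    intro i hi
    unfold fgen
    rw [dif_pos hi, FreeGroup.lift_apply_of]
  have hr : ∀ x ∈ relSetW t R, FreeGroup.lift (fun j : Fin t => h j.val) x = 1 := by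
    rintro x ⟨r, hr, rfl⟩
    rw [Cfsg.H5.StemTC.map_ev, ev_congr_lt _ h t hlift r (lt_of_lettersLt hR r hr)]
    exact hrel r hr
  refine ⟨PresentedGroup.toGroup hr, fun w hw => ?_⟩
  rw [Cfsg.H5.StemTC.map_ev]
  apply ev_congr_lt _ h t _ w hw
  intro i hi
  show PresentedGroup.toGroup hr (PresentedGroup.mk (relSetW t R) (fgen t i)) = h i
  unfold fgen
  rw [dif_pos hi]
  exact PresentedGroup.toGroup.of hr

/-- **[G1]** -/
theorem exists_cover_of_weak {G : Type} [Group G] [Finite G] (t : ℕ) (R : List (List ℕ))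
    (hR : lettersLt (2 * t) R = true)
    (g : ℕ → G) (hgrel : ∀ r ∈ R, ev g r = 1)
    (hggen : Subgroup.closure (Set.range fun i : Fin t => g i.val) = ⊤)
    (k : ℕ) (hk : 0 < k)
    (hC : Finite (CoverW t R) ∧ Nat.card (CoverW t R) ≤ k * Nat.card G)
    (wz : List ℕ) (hwz : ∀ l ∈ wz, l < 2 * t) (hgz : ev g wz = 1)
    (hzcen : ev (cgenW t R) wz ∈ Subgroup.center (CoverW t R))
    (hM : ∃ (Δ : Type) (_ : Group Δ) (p : ℕ → Δ), (∀ r ∈ R, ev p r = 1) ∧
      ∀ m, 0 < m → m < k → ev p wz ^ m ≠ 1)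
    (hP : commutator (CoverW t R) = ⊤) :
    ∃ (Γ : Type) (_ : Group Γ) (_ : Finite Γ) (σ : Γ →* G), IsStemExtension σ ∧
      Nonempty (σ.ker ≃* Multiplicative (ZMod k)) := by
  classical
  obtain ⟨hfin, hcardC⟩ := hC
  obtain ⟨z, hzdef⟩ : ∃ z : CoverW t R, z = ev (cgenW t R) wz := ⟨_, rfl⟩
  rw [← hzdef] at hzcen
  -- the homomorphism onto `G`
  obtain ⟨φ, hφ⟩ := exists_homW t R hR g hgrel
  have hφgen : ∀ i : Fin t, φ (cgenW t R i.val) = g i.val := by
    intro i
    have h1 := hφ [2 * i.val] (by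
      intro l hl
      rw [List.mem_singleton] at hl
      rw [hl]
      have := i.2
      omega)
    simpa [ev, gl_even] using h1
  have hφsurj : Function.Surjective φ := by
    rw [← MonoidHom.range_eq_top, eq_top_iff, ← hggen, Subgroup.closure_le]
    rintro _ ⟨i, rfl⟩
    exact ⟨cgenW t R i.val, hφgen i⟩
  have hzker : z ∈ φ.ker := by
    rw [MonoidHom.mem_ker, hzdef, hφ _ hwz]; exact hgz
  -- the order of the kernel is at most `k`
  have hcardker : Nat.card (CoverW t R) = Nat.card G * Nat.card φ.ker := by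
    rw [Subgroup.card_eq_card_quotient_mul_card_subgroup φ.ker,
      Nat.card_congr (QuotientGroup.quotientKerEquivOfSurjective φ hφsurj).toEquiv]
  have hGpos : 0 < Nat.card G := Nat.card_pos
  have hkerle : Nat.card φ.ker ≤ k := by
    have h3 : Nat.card G * Nat.card φ.ker ≤ Nat.card G * k := by
      rw [← hcardker, mul_comm (Nat.card G) k]; exact hcardC
    exact Nat.le_of_mul_le_mul_left h3 hGpos
  -- the order of `z` is at least `k`, from the model
  obtain ⟨Δ, _, p, hprel, hpz⟩ := hM
  obtain ⟨ψ, hψ⟩ := exists_homW t R hR p hprel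
  have hzpow : ∀ m, 0 < m → m < k → z ^ m ≠ 1 := by
    intro m hm0 hmk h
    apply hpz m hm0 hmk
    rw [← hψ _ hwz, ← hzdef, ← map_pow, h, map_one]
  have hordpos : 0 < orderOf z := orderOf_pos z
  have hkord : k ≤ orderOf z := by
    by_contra hlt
    rw [not_le] at hlt
    exact hzpow _ hordpos hlt (pow_orderOf_eq_one z)
  -- the kernel is generated by `z`
  have hzle : Subgroup.zpowers z ≤ φ.ker := Subgroup.zpowers_le.mpr hzker
  have hcardz : Nat.card (Subgroup.zpowers z) = orderOf z := Nat.card_zpowers z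
  have hzlecard : Nat.card (Subgroup.zpowers z) ≤ Nat.card φ.ker :=
    Subgroup.card_le_of_le hzle
  have hkercard : Nat.card φ.ker = k := by
    apply le_antisymm hkerle
    calc k ≤ orderOf z := hkord
      _ = Nat.card (Subgroup.zpowers z) := hcardz.symm
      _ ≤ Nat.card φ.ker := hzlecard
  have hkereq : Subgroup.zpowers z = φ.ker := by
    apply Subgroup.eq_of_le_of_card_ge hzle
    rw [hkercard, hcardz]
    exact hkord
  -- centrality
  have hkercen : φ.ker ≤ Subgroup.center (CoverW t R) := by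
    rw [← hkereq]
    exact Subgroup.zpowers_le.mpr hzcen
  -- the kernel is cyclic of order `k`
  have hcyc : IsCyclic φ.ker := by
    refine ⟨⟨⟨z, hzker⟩, fun y => ?_⟩⟩
    have hy : (y : CoverW t R) ∈ Subgroup.zpowers z := by rw [hkereq]; exact y.2
    obtain ⟨n, hn⟩ := Subgroup.mem_zpowers_iff.mp hy
    refine Subgroup.mem_zpowers_iff.mpr ⟨n, ?_⟩
    apply Subtype.ext
    rw [Subgroup.coe_zpow]
    exact hn
  have e1 : Multiplicative (ZMod (Nat.card φ.ker)) ≃* φ.ker := zmodCyclicMulEquiv hcyc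
  rw [hkercard] at e1
  refine ⟨CoverW t R, inferInstance, hfin, φ, ⟨hφsurj, hkercen, ?_⟩, ⟨e1.symm⟩⟩
  rw [hP]; exact le_top

end Cfsg.Agent.Lib.Helper6.M22Mult
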