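import Cfsg.Agent.Lib.Helper26.M24IdxS

set_option autoImplicit false

/-!
Piece P759 of S1589 (helper9 for helper26): a transitive subgroup of `M24` containing the Sylow
2-subgroup `syT0` does not have order 322560 (index 759).
-/

namespace Cfsg.Agent.H26.M24Idx

open Cfsg MulAction Cfsg.Agent.Lib.Helper28 Cfsg.Agent.H26.M23Idx
open scoped Pointwise

namespace P759

/-- Cauchy's theorem in a subgroup of `M24` -/
theorem exists_orderOf_eq' (K : Subgroup ↥M24) (p : ℕ) [hp : Fact p.Prime]
    (hd : p ∣ Nat.card K) : ∃ s ∈ K, orderOf s = p := by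
  obtain ⟨s, hs⟩ := exists_prime_orderOf_dvd_card' p hd
  exact ⟨s.1, s.2, by rw [← hs]; exact Subgroup.orderOf_coe s⟩

/-- an element of prime order `p` stabilizing a set with fewer than `p` points fixes it
pointwise -/
theorem fixed_of_small_invariant {t : ↥M24} {p : ℕ} [hp : Fact p.Prime] (ht : orderOf t = p)
    (S : Finset GolayPt) (hS : t • S = S) (hcard : S.card < p) : ∀ x ∈ S, t • x = x := by
  intro x hx
  have hZ : IsPGroup p ↥(Subgroup.zpowers t) := by
    apply IsPGroup.of_card (n := 1)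
    rw [Nat.card_zpowers, pow_one, ht]
  have hstab : Subgroup.zpowers t ≤ stabilizer (↥M24) S := by
    rw [Subgroup.zpowers_le]
    exact mem_stabilizer_iff.mpr hS
  have hsub : orbit ↥(Subgroup.zpowers t) x ⊆ ((S : Finset GolayPt) : Set GolayPt) := by
    rintro _ ⟨z, rfl⟩
    have hz : (z : ↥M24) • S = S := mem_stabilizer_iff.mp (hstab z.2)
    have h1 := Finset.smul_mem_smul_finset (a := (z : ↥M24)) hx
    rw [hz] at h1
    exact Finset.mem_coe.mpr h1
  obtain ⟨n, hn⟩ := hZ.card_orbit x
  have hle : Nat.card ↥(orbit ↥(Subgroup.zpowers t) x) ≤ S.card := by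
    rw [Nat.card_coe_set_eq, ← Set.ncard_coe_finset S]
    exact Set.ncard_le_ncard hsub (Finset.finite_toSet S)
  have hn0 : n = 0 := by
    by_contra hne
    have h1 : p ^ 1 ≤ p ^ n := Nat.pow_le_pow_right hp.out.pos (Nat.one_le_iff_ne_zero.mpr hne)
    rw [pow_one] at h1
    omega
  rw [hn0, pow_zero, Nat.card_coe_set_eq, Set.ncard_eq_one] at hn
  obtain ⟨a, ha⟩ := hn
  have h1 : x ∈ orbit ↥(Subgroup.zpowers t) x := mem_orbit_self x
  have h2 : t • x ∈ orbit ↥(Subgroup.zpowers t) x :=
    ⟨⟨t, Subgroup.mem_zpowers t⟩, rfl⟩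
  rw [ha, Set.mem_singleton_iff] at h1 h2
  exact h2.trans h1.symm

theorem fixSet_conj (h g : ↥M24) : fixSet (h * g * h⁻¹) = h • fixSet g := by
  ext q
  rw [mem_fixSet, ← Finset.inv_smul_mem_iff, mem_fixSet, mul_smul, mul_smul,
    smul_eq_iff_eq_inv_smul]

theorem orderOf_conj' (h g : ↥M24) : orderOf (h * g * h⁻¹) = orderOf g := by
  have := MulEquiv.orderOf_eq (MulAut.conj h) g
  rwa [MulAut.conj_apply] at this

theorem p5_ne_17 : ptN 5 ≠ ptN 17 := ptN_ne (by norm_num) (by norm_num) (by norm_num)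
theorem p5_ne_21 : ptN 5 ≠ ptN 21 := ptN_ne (by norm_num) (by norm_num) (by norm_num)
theorem p5_ne_19 : ptN 5 ≠ ptN 19 := ptN_ne (by norm_num) (by norm_num) (by norm_num)
theorem p17_ne_21 : ptN 17 ≠ ptN 21 := ptN_ne (by norm_num) (by norm_num) (by norm_num)

/-- the triple `{5, 17, 21}` -/
def T : Finset GolayPt := {ptN 5, ptN 17, ptN 21}

theorem card_T : T.card = 3 := by
  unfold T
  rw [Finset.card_insert_of_notMem, Finset.card_insert_of_notMem, Finset.card_singleton]
  · rw [Finset.mem_singleton]; exact p17_ne_21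
  · rw [Finset.mem_insert, Finset.mem_singleton]
    rintro (h | h)
    · exact p5_ne_17 h
    · exact p5_ne_21 h

theorem mem_T {q : GolayPt} : q ∈ T ↔ q = ptN 5 ∨ q = ptN 17 ∨ q = ptN 21 := by
  unfold T
  simp only [Finset.mem_insert, Finset.mem_singleton]

theorem card_pair : (ptSet [17, 21]).card = 2 :=
  card_ptSet (l := [17, 21]) ⟨by decide, by decide⟩

theorem card_triple : (ptSet [19, 17, 21]).card = 3 :=
  card_ptSet (l := [19, 17, 21]) ⟨by decide, by decide⟩

theorem ptSet_O0 : ptSet sy_O0 = insert (ptN 5) (ptSet [19, 17, 21, 8, 10, 12, 20]) := by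
  ext q
  rw [Finset.mem_insert, mem_ptSet, mem_ptSet]
  constructor
  · rintro ⟨a, ha, rfl⟩
    have : a = 5 ∨ a ∈ [19, 17, 21, 8, 10, 12, 20] := by
      revert ha
      unfold sy_O0
      simp only [List.mem_cons, List.not_mem_nil, or_false]
      omega
    rcases this with rfl | h
    · exact Or.inl rfl
    · exact Or.inr ⟨a, h, rfl⟩
  · rintro (rfl | ⟨a, ha, rfl⟩)
    · exact ⟨5, by decide, rfl⟩
    · refine ⟨a, ?_, rfl⟩
      revert ha
      unfold sy_O0
      simp only [List.mem_cons, List.not_mem_nil, or_false]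
      omega

end P759

open P759 in
theorem trans_759 (H : Subgroup ↥M24) (hT : syT0 ≤ H) (hc : Nat.card H = 322560)
    (htr : ∀ q : GolayPt, ∃ h ∈ H, h • ptN 5 = q) : False := by
  have : Fact (Nat.Prime 7) := ⟨by norm_num⟩
  have : Fact (Nat.Prime 5) := ⟨by norm_num⟩
  have hHa : Nat.card ↥(H ⊓ stabilizer M24 (ptN 5)) = 13440 := by
    have := card_eq_mul_stab htr
    omega
  -- membership in `Ha`
  have hmemHa : ∀ k, k ∈ H ⊓ stabilizer M24 (ptN 5) ↔ k ∈ H ∧ k • ptN 5 = ptN 5 := by
    intro k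
    rw [Subgroup.mem_inf, mem_stabilizer_iff]
  obtain ⟨m, L, hmem, -, hdvd, hK, -⟩ := orbit_cases (stab_hfix H) (stab_hT hT)
  rw [hHa] at hdvd
  -- elements of order 7 and 5 of `Ha`
  obtain ⟨t, htK, ht7⟩ := exists_orderOf_eq' (H ⊓ stabilizer M24 (ptN 5)) 7
    (by rw [hHa]; norm_num)
  obtain ⟨u, huK, hu5⟩ := exists_orderOf_eq' (H ⊓ stabilizer M24 (ptN 5)) 5
    (by rw [hHa]; norm_num)
  unfold orbitShapes at hmem
  simp only [List.mem_cons, Prod.mk.injEq, List.not_mem_nil, or_false] at hmem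
  rcases hmem with ⟨rfl, rfl⟩ | ⟨rfl, rfl⟩ | ⟨rfl, rfl⟩ | ⟨rfl, rfl⟩ | ⟨rfl, rfl⟩ | ⟨rfl, rfl⟩ |
    ⟨rfl, rfl⟩ | ⟨rfl, rfl⟩
  · -- m = 16: the trio bound
    have hst : H ⊓ stabilizer M24 (ptN 5) ≤ stabilizer M24 (ptSet sy_O0) := by
      intro k hk
      have hk' := hK hk
      rw [Subgroup.mem_inf, mem_stabilizer_iff, mem_stabilizer_iff] at hk'
      rw [mem_stabilizer_iff, ptSet_O0, Finset.smul_finset_insert, hk'.1, hk'.2]
    have := card_le_of_stab_le_octad hT htr hst
    omega
  · -- m = 20: an element of order 7 with four fixed points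
    have ht' := hK htK
    rw [Subgroup.mem_inf, mem_stabilizer_iff, mem_stabilizer_iff] at ht'
    have hfix := fixed_of_small_invariant ht7 (ptSet [19, 17, 21]) ht'.2
      (by rw [card_triple]; norm_num)
    have hsub : insert (ptN 5) (ptSet [19, 17, 21]) ⊆ fixSet t := by
      intro q hq
      rw [Finset.mem_insert] at hq
      rw [mem_fixSet]
      rcases hq with rfl | hq
      · exact ht'.1
      · exact hfix q hq
    have h5 : ptN 5 ∉ ptSet [19, 17, 21] := by
      rw [mem_ptSet]
      rintro ⟨a, ha, hae⟩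
      have ha24 : a < 24 := by
        revert ha
        simp only [List.mem_cons, List.not_mem_nil, or_false]
        omega
      have := ptN_inj ha24 (by norm_num) hae
      subst this
      revert ha
      decide
    have hcard := Finset.card_le_card hsub
    rw [Finset.card_insert_of_notMem h5, card_triple, card_fixSet_of_prime ht7 (by norm_num)]
      at hcard
    omega
  · omega
  · omega
  · omega
  · -- m = 21
    -- elements of order 7 of `Ha` have fixed point set `T`
    have key7 : ∀ s ∈ H ⊓ stabilizer M24 (ptN 5), orderOf s = 7 → fixSet s = T := by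
      intro s hs hs7
      have hs' := hK hs
      rw [Subgroup.mem_inf, mem_stabilizer_iff, mem_stabilizer_iff] at hs'
      have hfix := fixed_of_small_invariant hs7 (ptSet [17, 21]) hs'.2
        (by rw [card_pair]; norm_num)
      symm
      apply Finset.eq_of_subset_of_card_le
      · intro q hq
        rw [mem_fixSet]
        rcases mem_T.mp hq with rfl | rfl | rfl
        · exact hs'.1
        · exact hfix _ (mem_ptSet.mpr ⟨17, by decide, rfl⟩)
        · exact hfix _ (mem_ptSet.mpr ⟨21, by decide, rfl⟩)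
      · rw [card_fixSet_of_prime hs7 (by norm_num), card_T]
    -- elements of order 5 of `Ha` fix `T` pointwise
    have key5 : ∀ s ∈ H ⊓ stabilizer M24 (ptN 5), orderOf s = 5 → T ⊆ fixSet s := by
      intro s hs hs5
      have hs' := hK hs
      rw [Subgroup.mem_inf, mem_stabilizer_iff, mem_stabilizer_iff] at hs'
      have hfix := fixed_of_small_invariant hs5 (ptSet [17, 21]) hs'.2
        (by rw [card_pair]; norm_num)
      intro q hq
      rw [mem_fixSet]
      rcases mem_T.mp hq with rfl | rfl | rfl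
      · exact hs'.1
      · exact hfix _ (mem_ptSet.mpr ⟨17, by decide, rfl⟩)
      · exact hfix _ (mem_ptSet.mpr ⟨21, by decide, rfl⟩)
    -- conjugating into `Ha`
    have hconj : ∀ s ∈ H, ∀ h ∈ H, s • (h • ptN 5) = h • ptN 5 →
        h⁻¹ * s * h ∈ H ⊓ stabilizer M24 (ptN 5) ∧ s = h * (h⁻¹ * s * h) * h⁻¹ := by
      intro s hs h hh hfix
      refine ⟨(hmemHa _).mpr ⟨H.mul_mem (H.mul_mem (H.inv_mem hh) hs) hh, ?_⟩, by group⟩
      rw [mul_smul, mul_smul, hfix, inv_smul_smul]
    -- two elements of order 7 of `H` with a common fixed point have the same fixed points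
    have claim : ∀ t1 ∈ H, ∀ t2 ∈ H, orderOf t1 = 7 → orderOf t2 = 7 → ∀ x : GolayPt,
        t1 • x = x → t2 • x = x → fixSet t1 = fixSet t2 := by
      intro t1 h1 t2 h2 o1 o2 x hx1 hx2
      obtain ⟨h, hh, rfl⟩ := htr x
      obtain ⟨hc1, e1⟩ := hconj t1 h1 h hh hx1
      obtain ⟨hc2, e2⟩ := hconj t2 h2 h hh hx2
      have f1 : fixSet (h⁻¹ * t1 * h) = T := by
        apply key7 _ hc1
        have := orderOf_conj' h⁻¹ t1
        rw [inv_inv] at this
        rw [this, o1]
      have f2 : fixSet (h⁻¹ * t2 * h) = T := by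
        apply key7 _ hc2
        have := orderOf_conj' h⁻¹ t2
        rw [inv_inv] at this
        rw [this, o2]
      rw [e1, e2, fixSet_conj, fixSet_conj, f1, f2]
    have htH : t ∈ H := ((hmemHa t).mp htK).1
    have huH : u ∈ H := ((hmemHa u).mp huK).1
    have hft : fixSet t = T := key7 t htK ht7
    have hTu : T ⊆ fixSet u := key5 u huK hu5
    have hucard : (fixSet u).card = 4 := card_fixSet_of_prime hu5 le_rfl
    -- a fixed point `d` of `u` outside `T`
    obtain ⟨d, hd⟩ : (fixSet u \ T).Nonempty := by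
      rw [← Finset.card_pos, Finset.card_sdiff_of_subset hTu, hucard, card_T]
      norm_num
    rw [Finset.mem_sdiff, mem_fixSet] at hd
    obtain ⟨h2, hh2, hh2d⟩ := htr d
    obtain ⟨hcu, eu⟩ := hconj u huH h2 hh2 (by rw [hh2d]; exact hd.1)
    have hou : orderOf (h2⁻¹ * u * h2) = 5 := by
      have := orderOf_conj' h2⁻¹ u
      rw [inv_inv] at this
      rw [this, hu5]
    have hTu' : h2 • T ⊆ fixSet u := by
      have h1 := key5 _ hcu hou
      have h3 : fixSet u = h2 • fixSet (h2⁻¹ * u * h2) := by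
        conv_lhs => rw [eu]
        exact fixSet_conj h2 _
      rw [h3]
      exact Finset.smul_finset_subset_smul_finset h1
    -- a common fixed point of `t` and its conjugate
    have hinter : (T ∩ h2 • T).Nonempty := by
      rw [← Finset.card_pos]
      have h1 := Finset.card_union_add_card_inter T (h2 • T)
      have h3 : (T ∪ h2 • T).card ≤ 4 := by
        rw [← hucard]
        exact Finset.card_le_card (Finset.union_subset hTu hTu')
      have h4 : (h2 • T).card = 3 := by rw [Finset.card_smul_finset, card_T]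
      rw [card_T, h4] at h1
      omega
    obtain ⟨x, hx⟩ := hinter
    rw [Finset.mem_inter] at hx
    have ht'H : h2 * t * h2⁻¹ ∈ H := H.mul_mem (H.mul_mem hh2 htH) (H.inv_mem hh2)
    have hft' : fixSet (h2 * t * h2⁻¹) = h2 • T := by rw [fixSet_conj, hft]
    have heq := claim t htH (h2 * t * h2⁻¹) ht'H ht7 (by rw [orderOf_conj', ht7]) x
      (by rw [← mem_fixSet, hft]; exact hx.1) (by rw [← mem_fixSet, hft']; exact hx.2)
    rw [hft, hft'] at heq
    apply hd.2
    rw [heq, ← hh2d]
    exact Finset.smul_mem_smul_finset (mem_T.mpr (Or.inl rfl))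
  · omega
  · omega

end Cfsg.Agent.H26.M24Idx
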