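import Mathlib

/-!
# S5514 piece A (helper9, for helper2): seven classes of subgroups of order 3

`Cls3 G`: the subgroups of order 3 of `G` fall into exactly seven conjugacy classes.
`Cls3.of_equiv`: transport along an isomorphism.  `cls3_of`: criterion through a Sylow 3-subgroup of
order `3 ^ 9`, seven representatives separated by a class invariant, and conjugators for the elements
of order 3 of the Sylow subgroup.
-/

set_option autoImplicit false

namespace Cfsg.Agent.Lib.Helper2.O73Cls

open Subgroup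

/-- The subgroups of order 3 of `G` form exactly seven conjugacy classes. -/
def Cls3 (G : Type*) [Group G] : Prop :=
  ∃ Y : Fin 7 → Subgroup G, (∀ i, Nat.card (Y i) = 3) ∧
    (∀ i j, (∃ g : G, (Y i).map (MulAut.conj g).toMonoidHom = Y j) → i = j) ∧
    (∀ X : Subgroup G, Nat.card X = 3 → ∃ i, ∃ g : G, X.map (MulAut.conj g).toMonoidHom = Y i)

namespace Helper9

theorem map_conj_map {G H : Type*} [Group G] [Group H] (e : G ≃* H) (X : Subgroup G) (g : G) :
    ((X.map (MulAut.conj g).toMonoidHom).map e.toMonoidHom) =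
      (X.map e.toMonoidHom).map (MulAut.conj (e g)).toMonoidHom := by
  ext z
  simp only [Subgroup.mem_map, MulEquiv.coe_toMonoidHom, MulAut.conj_apply, exists_exists_and_eq_and,
    map_mul, map_inv]

theorem card_map_equiv {G H : Type*} [Group G] [Group H] (e : G ≃* H) (X : Subgroup G) :
    Nat.card (X.map e.toMonoidHom) = Nat.card X :=
  Subgroup.card_map_of_injective e.injective

theorem map_symm_map {G H : Type*} [Group G] [Group H] (e : G ≃* H) (X : Subgroup H) :
    (X.map e.symm.toMonoidHom).map e.toMonoidHom = X := by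
  ext z
  simp only [Subgroup.mem_map, MulEquiv.coe_toMonoidHom, exists_exists_and_eq_and,
    MulEquiv.apply_symm_apply, exists_eq_right]

theorem map_injective_equiv {G H : Type*} [Group G] [Group H] (e : G ≃* H) {X Y : Subgroup G}
    (h : X.map e.toMonoidHom = Y.map e.toMonoidHom) : X = Y :=
  Subgroup.map_injective e.injective h

end Helper9

open Helper9

theorem Cls3.of_equiv {G H : Type*} [Group G] [Group H] (e : G ≃* H) (h : Cls3 G) : Cls3 H := by
  obtain ⟨Y, hY1, hY2, hY3⟩ := h
  refine ⟨fun i => (Y i).map e.toMonoidHom, fun i => ?_, fun i j => ?_, fun X hX => ?_⟩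
  · rw [card_map_equiv, hY1]
  · rintro ⟨g, hg⟩
    apply hY2 i j
    refine ⟨e.symm g, ?_⟩
    apply map_injective_equiv e
    rw [map_conj_map, MulEquiv.apply_symm_apply]
    exact hg
  · have hX' : Nat.card (X.map e.symm.toMonoidHom) = 3 := by
      rw [card_map_equiv, hX]
    obtain ⟨i, g, hg⟩ := hY3 _ hX'
    refine ⟨i, e g, ?_⟩
    show _ = (Y i).map e.toMonoidHom
    rw [← hg, map_conj_map, map_symm_map]

namespace Helper9

theorem card_zpowers_three {G : Type*} [Group G] {x : G} (h1 : x ≠ 1) (h3 : x ^ 3 = 1) :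
    Nat.card (zpowers x) = 3 := by
  rw [Nat.card_zpowers]
  exact orderOf_eq_prime h3 h1

/-- a nontrivial element of `zpowers y` with `y ^ 3 = 1` is `y` or `y⁻¹` -/
theorem mem_zpowers_three {G : Type*} [Group G] {y z : G} (h3 : y ^ 3 = 1) (hz : z ∈ zpowers y)
    (hz1 : z ≠ 1) : z = y ∨ z = y⁻¹ := by
  obtain ⟨k, hkz⟩ := hz
  have hkz' : y ^ k = z := hkz
  subst hkz'
  have hk : y ^ k = y ^ (k % 3) := by
    conv_lhs => rw [← Int.emod_add_mul_ediv k 3]
    rw [zpow_add, zpow_mul]
    have : y ^ (3 : ℤ) = 1 := by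
      rw [show (3 : ℤ) = ((3 : ℕ) : ℤ) from rfl, zpow_natCast, h3]
    rw [this, one_zpow, mul_one]
  have h0 : 0 ≤ k % 3 := Int.emod_nonneg k (by norm_num)
  have h2 : k % 3 < 3 := Int.emod_lt_of_pos k (by norm_num)
  rw [hk] at hz1 ⊢
  obtain h | h | h : k % 3 = 0 ∨ k % 3 = 1 ∨ k % 3 = 2 := by omega
  · rw [h, zpow_zero] at hz1
    exact absurd rfl hz1
  · left
    rw [h, zpow_one]
  · right
    rw [h]
    have : y ^ (2 : ℤ) * y = 1 := by
      rw [show (2 : ℤ) = ((2 : ℕ) : ℤ) from rfl, zpow_natCast, ← pow_succ]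
      exact h3
    exact eq_inv_of_mul_eq_one_left this

theorem map_conj_zpowers {G : Type*} [Group G] (g x : G) :
    (zpowers x).map (MulAut.conj g).toMonoidHom = zpowers (g * x * g⁻¹) := by
  rw [MonoidHom.map_zpowers]
  rfl

/-- a subgroup of order 3 is generated by any of its nontrivial elements -/
theorem exists_gen_three {G : Type*} [Group G] (X : Subgroup G) (hX : Nat.card X = 3) :
    ∃ x : G, x ≠ 1 ∧ x ^ 3 = 1 ∧ X = zpowers x := by
  have : Finite X := Nat.finite_of_card_ne_zero (by rw [hX]; norm_num)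
  have hnt : Nontrivial X := by
    rw [← Finite.one_lt_card_iff_nontrivial, hX]
    norm_num
  obtain ⟨⟨x, hxX⟩, hx1⟩ := exists_ne (1 : X)
  have hx1' : x ≠ 1 := fun h => hx1 (Subtype.ext h)
  have hx3 : x ^ 3 = 1 := by
    have h := pow_card_eq_one' (G := X) (x := ⟨x, hxX⟩)
    rw [hX] at h
    have := congrArg Subtype.val h
    simpa using this
  refine ⟨x, hx1', hx3, ?_⟩
  symm
  apply Subgroup.eq_of_le_of_card_ge
  · rw [zpowers_le]
    exact hxX
  · rw [card_zpowers_three hx1' hx3, hX]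

end Helper9

theorem cls3_of {G : Type*} [Group G] [Finite G] (U : Subgroup G) (hU : Nat.card U = 3 ^ 9)
    (hG : ¬ 3 ^ 10 ∣ Nat.card G) {α : Type*} (inv : G → α)
    (hinv : ∀ g x, inv (g * x * g⁻¹) = inv x) (hinv' : ∀ x, inv x⁻¹ = inv x)
    (y : Fin 7 → G) (hy : ∀ i, y i ≠ 1 ∧ y i ^ 3 = 1)
    (hsep : ∀ i j, inv (y i) = inv (y j) → i = j)
    (hconj : ∀ x ∈ U, x ^ 3 = 1 → x ≠ 1 →
      ∃ i g, g * x * g⁻¹ = y i ∨ g * x * g⁻¹ = (y i)⁻¹) : Cls3 G := by
  refine ⟨fun i => zpowers (y i), fun i => card_zpowers_three (hy i).1 (hy i).2, fun i j => ?_,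
    fun X hX => ?_⟩
  · rintro ⟨g, hg⟩
    apply hsep
    rw [map_conj_zpowers] at hg
    have hg' : zpowers (g * y i * g⁻¹) = zpowers (y j) := hg
    have hmem : g * y i * g⁻¹ ∈ zpowers (y j) := by
      rw [← hg']
      exact mem_zpowers _
    have hne : g * y i * g⁻¹ ≠ 1 := by
      intro h
      apply (hy i).1
      have : y i = g⁻¹ * (g * y i * g⁻¹) * g := by group
      rw [this, h]
      group
    rcases mem_zpowers_three (hy j).2 hmem hne with h | h
    · rw [← hinv g (y i), h]
    · rw [← hinv g (y i), h, hinv']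
  · -- the Sylow subgroup
    have hcard0 : Nat.card G ≠ 0 := Nat.card_pos.ne'
    have h9 : 3 ^ 9 ∣ Nat.card G := by
      rw [← hU]
      exact Subgroup.card_subgroup_dvd_card U
    have hfac : (Nat.card G).factorization 3 = 9 := by
      have h1 := (Nat.Prime.pow_dvd_iff_le_factorization (by norm_num : Nat.Prime 3) hcard0).mp h9
      have h2 : ¬ 10 ≤ (Nat.card G).factorization 3 := fun h =>
        hG ((Nat.Prime.pow_dvd_iff_le_factorization (by norm_num : Nat.Prime 3) hcard0).mpr h)
      omega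
    let P : Sylow 3 G := Sylow.ofCard U (by rw [hU, hfac])
    have hP : (P : Subgroup G) = U := rfl
    have hXp : IsPGroup 3 X := IsPGroup.of_card (n := 1) (by rw [hX, pow_one])
    obtain ⟨Q, hQ⟩ := hXp.exists_le_sylow
    obtain ⟨g, hg⟩ := MulAction.exists_smul_eq G Q P
    obtain ⟨x, hx1, hx3, rfl⟩ := exists_gen_three X hX
    have hxU : g * x * g⁻¹ ∈ U := by
      rw [← hP, ← hg, Sylow.coe_subgroup_smul]
      rw [Subgroup.mem_pointwise_smul_iff_inv_smul_mem]
      apply hQ
      have : (MulAut.conj g)⁻¹ • (g * x * g⁻¹) = x := by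
        rw [MulAut.smul_def, ← map_inv, MulAut.conj_apply]
        group
      rw [this]
      exact mem_zpowers x
    have hne : g * x * g⁻¹ ≠ 1 := by
      intro h
      apply hx1
      have : x = g⁻¹ * (g * x * g⁻¹) * g := by group
      rw [this, h]
      group
    have h3 : (g * x * g⁻¹) ^ 3 = 1 := by
      rw [conj_pow, hx3]
      group
    obtain ⟨i, k, hk⟩ := hconj _ hxU h3 hne
    refine ⟨i, k * g, ?_⟩
    rw [map_conj_zpowers]
    have hkg : k * g * x * (k * g)⁻¹ = k * (g * x * g⁻¹) * k⁻¹ := by group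
    rw [hkg]
    rcases hk with hk | hk
    · rw [hk]
    · rw [hk, zpowers_inv]

end Cfsg.Agent.Lib.Helper2.O73Cls
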