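import Mathlib
import Cfsg.Agent.Lib.Helper9.OExtDefs
import Cfsg.Agent.Lib.Helper9.OExtG
import Cfsg.Agent.Lib.Helper7.SpExtBas
import Cfsg.Agent.Lib.Helper21.S5664FOBASb
import Cfsg.Agent.Lib.Helper26.S5701FOBAS
import Cfsg.Agent.Lib.Helper6.SiegelOmega
import Cfsg.Agent.Lib.Helper13.OrthMax

/-!
# S5701 FO-BR4 : some element of `Ω` does not normalise the embedded field
-/

set_option autoImplicit false
set_option linter.unusedSectionVars false
set_option linter.unusedVariables false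

namespace Cfsg.Agent.Lib.Helper9.OExtBR4

open Matrix Module QuadraticMap Cfsg.Agent.Lib.Helper7.SpExt Cfsg.Agent.Lib.Helper9.OExt
  Cfsg.Agent.Lib.Helper26.S5701BAS Cfsg.Agent.Lib.Helper6 Cfsg.Agent.Lib.Helper13

variable {F : Type*} [Field F] [Fintype F] {L : Type*} [Field L] [Algebra F L] {ι : Type} [Fintype ι]
  [DecidableEq ι] {ρ : L →ₐ[F] Matrix ι ι F} {Q : QuadraticForm F (ι → F)} {τ : L →ₗ[F] F}
  {B : (ι → F) →ₗ[F] (ι → F) →ₗ[F] L} {r : ℕ}

theorem polarBilin_nondegenerate (S : OStr ρ Q τ B) : (polarBilin Q).Nondegenerate := by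
  constructor
  · intro x hx
    by_contra hne
    obtain ⟨y, hy⟩ := S.nondeg x hne
    exact hy (hx y)
  · intro y hy
    by_contra hne
    obtain ⟨x, hx⟩ := S.nondeg y hne
    apply hx
    rw [polar_comm]
    exact hy x

theorem exists_not_mem_range (hrk : finrank F L = r) (hr : 2 ≤ r) :
    ∃ a : L, ∀ c : F, algebraMap F L c ≠ a := by
  by_contra hcon
  push Not at hcon
  have : finrank F L ≤ 1 := by
    apply finrank_le_one (1 : L)
    intro w
    obtain ⟨c, hc⟩ := hcon w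
    exact ⟨c, by rw [Algebra.smul_def, mul_one, hc]⟩
  omega

/-- aux version: the existence of an `L`-singular vector is an explicit hypothesis -/
theorem exists_omega_not_normalizes_aux (S : OStr ρ Q τ B) (hr : r.Prime)
    (hrk : finrank F L = r) (hn : 4 * r ≤ Fintype.card ι) (hsing : ∃ s, LSing B s) :
    ∃ g ∈ Cfsg.Geo.omegaGL ⇑Q, ¬ Normalizes ρ g := by
  classical
  obtain ⟨v₁, hv₁⟩ := hsing
  have hr2 := hr.two_le
  obtain ⟨v₂, hv₂, h12⟩ := Cfsg.Agent.Lib.Helper9.OExtG.exists_partner S hv₁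
  -- a nonzero vector `u` perpendicular to `v₁, v₂`
  have hv₂n : v₂ ∉ pt ρ v₁ := by
    intro hmem
    obtain ⟨c, rfl⟩ := (mem_pt ρ v₁ v₂).mp hmem
    rw [B_lin_right S, hv₁.2, mul_zero] at h12
    exact zero_ne_one h12
  have hfin := Cfsg.Agent.Lib.Helper9.OExtG.finrank_perp2 S hrk hr.pos hv₁.1 hv₂n
  have hpos : 0 < finrank F ↥(LinearMap.ker (B.flip v₁) ⊓ LinearMap.ker (B.flip v₂)) := by
    omega
  obtain ⟨⟨u, huK⟩, hu0⟩ := (Module.finrank_pos_iff_exists_ne_zero).mp hpos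
  have hu0' : u ≠ 0 := fun h => hu0 (Subtype.ext h)
  have hu1 : B u v₁ = 0 := huK.1
  have hu2 : B u v₂ = 0 := huK.2
  have hun : u ∉ pt ρ v₁ := by
    intro hmem
    obtain ⟨c, rfl⟩ := (mem_pt ρ v₁ u).mp hmem
    rw [S.lin, h12, mul_one] at hu2
    rw [hu2, rho_zero_mulVec] at hu0'
    exact hu0' rfl
  have hQv₁ : Q v₁ = 0 := by
    have := Q_rho_of_sing S hv₁.2 1
    rwa [rho_one_mulVec] at this
  have hpol : polar (⇑Q) v₁ u = 0 := by rw [S.tr, S.symm, hu1, map_zero]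
  have h5 : 5 ≤ Fintype.card ι := by omega
  refine ⟨((siegIso Q v₁ u hQv₁ hpol : ↥(Cfsg.isometryGroup F ⇑Q)) : GL ι F),
    (mem_omegaGL_iff Q _).2 ⟨_, siegIso_mem_Omega Q (polarBilin_nondegenerate S) h5 v₁ u hQv₁ hpol,
      rfl⟩, ?_⟩
  intro hN
  set t : GL ι F := ((siegIso Q v₁ u hQv₁ hpol : ↥(Cfsg.isometryGroup F ⇑Q)) : GL ι F) with ht
  have htact : ∀ x, act t x = x + (polar (⇑Q) u x - Q u * polar (⇑Q) v₁ x) • v₁
      + (-(polar (⇑Q) v₁ x)) • u := by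
    intro x
    have := gact_siegIso Q v₁ u hQv₁ hpol x
    rw [gact_def] at this
    exact this
  obtain ⟨a, ha⟩ := exists_not_mem_range hrk hr2
  obtain ⟨b, hb⟩ := hN a
  have hcomm : ∀ x, act t (ρ a *ᵥ x) = ρ b *ᵥ act t x := by
    intro x
    have := congrArg (fun M => M *ᵥ x) hb
    simp only [← mulVec_mulVec] at this
    exact this
  -- `t` fixes `L v₁` pointwise
  have htfix : ∀ c : L, act t (ρ c *ᵥ v₁) = ρ c *ᵥ v₁ := by
    intro c
    rw [htact, polar_rho_right S, polar_rho_right S, hu1, hv₁.2, mul_zero, map_zero]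
    simp
  have hab : a = b := by
    have h1 := hcomm v₁
    have h2 := htfix 1
    rw [rho_one_mulVec] at h2
    rw [htfix a, h2] at h1
    exact Cfsg.Agent.Lib.Helper21.S5664BASb.orb_injective ρ hv₁.1 h1
  -- a vector `x` with `polar v₁ x = 0`, `polar u x = 1`
  have hτ : τ ≠ 0 := tau_ne S hv₁.1
  obtain ⟨b₀, hb₀⟩ : ∃ b₀ : L, τ b₀ = 1 := by
    obtain ⟨c, hc⟩ : ∃ c, τ c ≠ 0 := by
      by_contra hcon
      push Not at hcon
      exact hτ (LinearMap.ext hcon)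
    refine ⟨(τ c)⁻¹ • c, ?_⟩
    rw [map_smul, smul_eq_mul, inv_mul_cancel₀ hc]
  obtain ⟨x, hx1, hx2⟩ := Cfsg.Agent.Lib.Helper9.OExtG.exists_dual1 S hv₁ hu1 hun b₀
  have hpx1 : polar (⇑Q) v₁ x = 0 := by rw [S.tr, S.symm, hx1, map_zero]
  have hpx2 : polar (⇑Q) u x = 1 := by rw [S.tr, hx2, hb₀]
  have htx : act t x = x + v₁ := by
    rw [htact, hpx1, hpx2]
    simp
  have h3 := hcomm x
  rw [← hab, htx, mulVec_add, htact] at h3
  -- `ρ a v₁ = α • v₁ - β • u`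
  set α := polar (⇑Q) u (ρ a *ᵥ x) - Q u * polar (⇑Q) v₁ (ρ a *ᵥ x) with hα
  set β := polar (⇑Q) v₁ (ρ a *ᵥ x) with hβ
  have h4 : ρ a *ᵥ v₁ = α • v₁ + (-β) • u := by
    have := add_left_cancel (a := ρ a *ᵥ x) (b := α • v₁ + (-β) • u) (c := ρ a *ᵥ v₁)
      (by rw [← add_assoc]; exact h3)
    exact this.symm
  by_cases hβ0 : β = 0
  · rw [hβ0, neg_zero, zero_smul, add_zero, ← rho_algebraMap_mulVec ρ α v₁] at h4
    exact ha α (Cfsg.Agent.Lib.Helper21.S5664BASb.orb_injective ρ hv₁.1 h4).symm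
  · apply hun
    have h5 : u = β⁻¹ • (α • v₁ - ρ a *ᵥ v₁) := by
      rw [h4]
      rw [smul_sub, smul_add, smul_smul, smul_smul]
      have : β⁻¹ * -β = -1 := by field_simp
      rw [this]
      simp
    rw [h5, ← rho_algebraMap_mulVec ρ α v₁, ← rho_sub_mulVec, ← rho_smul_mulVec]
    exact smul_mem_pt ρ v₁ _

end Cfsg.Agent.Lib.Helper9.OExtBR4
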