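import Mathlib
import Cfsg.Agent.Lib.Helper9.OExtDefs
import Cfsg.Agent.Lib.Helper9.OExtE2
import Cfsg.Agent.Lib.Helper9.OExtG
import Cfsg.Agent.Lib.Helper9.OExtC1
import Cfsg.Agent.Lib.Helper9.OExtBR4
import Cfsg.Agent.Lib.Helper7.SpExtBas
import Cfsg.Agent.Lib.Helper26.S5701FOBAS
import Cfsg.Agent.Lib.Helper26.S5701FOSIEG
import Cfsg.Agent.Lib.Helper26.S5701FOGEOa
import Cfsg.Agent.Lib.Helper22.S5701FOC0D0
import Cfsg.Agent.Lib.Helper22.S5701FOD1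
import Cfsg.Agent.Lib.Helper17.S5701FOE1
import Cfsg.Agent.Lib.Helper17.S5701FOE3
import Cfsg.Agent.Lib.Helper10.S5701FOE0
import Cfsg.Agent.Lib.Helper15.S5701FOF0
import Cfsg.Agent.Lib.Helper15.S5701FOF3
import Cfsg.Agent.H5.S5701FOA
import Cfsg.Agent.Lib.Helper26.S5701FOGEOb
import Cfsg.Agent.Lib.Helper20.S5701FOB1
import Cfsg.Agent.Lib.Helper20.S5701FOB2
import Cfsg.Agent.Lib.Helper1.S5701FOC3
import Cfsg.Agent.Lib.Helper15.S5701FOF1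
import Cfsg.Agent.Lib.Helper22.S5701FOF2

/-!
# S5701 : the abstract assembly

`H ≤ O(Q)` contains all `L`-Siegel elements and some element not normalising `ρ L`; then `Ω ≤ H`.
-/

set_option autoImplicit false
set_option linter.unusedSectionVars false

namespace Cfsg.Agent.Lib.Helper9.OExtMain

open Matrix Module QuadraticMap Cfsg.Agent.Lib.Helper7.SpExt Cfsg.Agent.Lib.Helper9.OExt
  Cfsg.Agent.Lib.Helper6 Cfsg.Agent.Lib.Helper13

variable {F : Type*} [Field F] [Fintype F] {L : Type*} [Field L] [Algebra F L] {ι : Type} [Fintype ι]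
  [DecidableEq ι] {ρ : L →ₐ[F] Matrix ι ι F} {Q : QuadraticForm F (ι → F)} {τ : L →ₗ[F] F}
  {B : (ι → F) →ₗ[F] (ι → F) →ₗ[F] L} {r : ℕ}

theorem zmem_of_config (S : OStr ρ Q τ B) (hr : r.Prime) (hrk : finrank F L = r)
    (hn : 4 * r ≤ Fintype.card ι) (H : Subgroup (GL ι F)) (hS : HasSieg ρ B H)
    (hH : H ≤ Cfsg.isometryGroup F ⇑Q) (v₁ v₀ : ι → F) (g₀ : GL ι F)
    (hc : ConfigA ρ Q B H r v₁ v₀ g₀) :
    ∀ a b : L, SiegIn Q H (ρ a *ᵥ v₁) (ρ b *ᵥ v₁) := by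
  intro a b
  by_cases hb : b = 0
  · rw [hb, rho_zero_mulVec]
    exact Cfsg.Agent.Lib.Helper15.S5701F0.SiegIn.zero H _
  obtain ⟨u, p₀, ε₀, hu, hnot, hu1, hε, hp, hp', -, hall⟩ :=
    Cfsg.Agent.Lib.Helper17.S5701E1.exists_y S hr hrk H hS hH v₁ v₀ g₀ hc
  have h2 : (2 : L) ≠ 0 := Cfsg.Agent.Lib.Helper26.S5701SIEG.two_ne_zero_L S
  obtain ⟨w₀, w, hw₀, hw₀p, hw, hωw, huw⟩ :=
    Cfsg.Agent.Lib.Helper17.S5701E3.exists_omega_w S hr hrk hn hc.2.1 hc.2.2.1 hu hnot hu1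
      hε hp hp' (fun w₀ h1 h2 => (hall w₀ h1 h2).1) a (b / 2) (div_ne_zero hb h2)
  obtain ⟨hω1, hY⟩ := hall w₀ hw₀ hw₀p
  have := Cfsg.Agent.Lib.Helper9.OExtE2.double_comm S H hS hH hc.2.1 hu1 hω1 hY w hw
  rw [hωw, huw, mul_div_cancel₀ b h2] at this
  exact this

theorem normalizes_of_pts (S : OStr ρ Q τ B) (hrk : finrank F L = r) (hr : 0 < r)
    (hn : 4 * r ≤ Fintype.card ι) (g : GL ι F)
    (h : ∀ v, LSing B v → ∃ v', Img ρ g v = pt ρ v') : Normalizes ρ g :=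
  Cfsg.H5.S5701A.normalizes_of_pts_aux S hrk hr hn
    (Cfsg.Agent.Lib.Helper26.S5701GEO.lsing_span S hrk hr hn) g h

theorem exists_ipair (S : OStr ρ Q τ B) (hr : r.Prime) (hrk : finrank F L = r)
    (hn : 4 * r ≤ Fintype.card ι) (H : Subgroup (GL ι F)) (hS : HasSieg ρ B H)
    (hH : H ≤ Cfsg.isometryGroup F ⇑Q) (g : GL ι F) (hg : g ∈ H) (hgN : ¬ Normalizes ρ g) :
    ∃ h h' v v', IPair ρ B H h h' v v' :=
  Cfsg.Agent.Lib.Helper20.S5701B2.exists_ipair_aux S hr.pos hrk H hS hH g hg hgN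
    (fun h => normalizes_of_pts S hrk hr.pos hn g h)
    (fun y π hy hπ hπy =>
      Cfsg.Agent.Lib.Helper26.S5701GEO.exists_sieg_data S hrk hr.pos hn y π (Or.inr hy) hπ hπy)

theorem main (S : OStr ρ Q τ B) (hr : r.Prime) (hrk : finrank F L = r)
    (hn : 4 * r ≤ Fintype.card ι) (hn2 : r = 2 → 12 ≤ Fintype.card ι)
    (H : Subgroup (GL ι F)) (hS : HasSieg ρ B H) (hH : H ≤ Cfsg.isometryGroup F ⇑Q)
    (g : GL ι F) (hg : g ∈ H) (hgN : ¬ Normalizes ρ g) :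
    Cfsg.Geo.omegaGL ⇑Q ≤ H := by
  obtain ⟨h, h', v, v', hI⟩ := exists_ipair S hr hrk hn H hS hH g hg hgN
  obtain ⟨k, k', w, w', hP⟩ :=
    Cfsg.Agent.Lib.Helper1.S5701C3.exists_ppair S hr hrk hn H hS hH h h' v v' hI
  obtain ⟨v₁, v₀, g₀, hmax⟩ :=
    Cfsg.Agent.Lib.Helper22.S5701C0D0.exists_max_ppair H hH k k' w w' hP
  have hc := Cfsg.Agent.Lib.Helper22.S5701D1.configA_of_maxP S hr hrk H hS hH v₁ v₀ g₀ hmax
  have hZ1 := zmem_of_config S hr hrk hn H hS hH v₁ v₀ g₀ hc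
  have hv₁ : LSing B v₁ := hc.2.1
  by_cases h2 : r = 2
  · have hc' := Cfsg.Agent.Lib.Helper10.S5701E0.configA_symm S H hH hc
    have hZ0 := zmem_of_config S hr hrk hn H hS hH v₀ v₁ g₀⁻¹ hc'
    obtain ⟨d, u, hd, hu, hnot, hZ⟩ :=
      Cfsg.Agent.Lib.Helper10.S5701E0.exists_mixed_sieg S hr hrk H hH v₁ v₀ g₀ hc hZ0
    have hz : LSing B (ρ d *ᵥ v₁) := Cfsg.Agent.Lib.Helper26.S5701BAS.lsing_smul S hv₁ hd
    have hZ1' : ∀ a b : L, SiegIn Q H (ρ a *ᵥ (ρ d *ᵥ v₁)) (ρ b *ᵥ (ρ d *ᵥ v₁)) := by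
      intro a b
      rw [← rho_mul_mulVec, ← rho_mul_mulVec]
      exact hZ1 _ _
    have hX := Cfsg.Agent.Lib.Helper22.S5701F2.orX_of_Z_two S hrk h2 (hn2 h2) H hS hH hz hu hnot hZ
      hZ1'
    exact Cfsg.Agent.Lib.Helper15.S5701F3.omega_le_of_orX' S hrk hr.two_le hn H hS hH hz hX
  · have h3 : 3 ≤ r := by
      have := hr.two_le
      omega
    exact Cfsg.Agent.Lib.Helper15.S5701F3.omega_le_of_orX' S hrk hr.two_le hn H hS hH hv₁
      (Cfsg.Agent.Lib.Helper15.S5701F1.orX_of_Z_three S hr hrk h3 hn H hS hH hv₁ hZ1)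

theorem omegaGL_le_isometryGroup (Q : QuadraticForm F (ι → F)) :
    Cfsg.Geo.omegaGL ⇑Q ≤ Cfsg.isometryGroup F ⇑Q := by
  intro g hg
  obtain ⟨x, -, rfl⟩ := (mem_omegaGL_iff Q g).mp hg
  exact x.2

theorem two_ne_zero_of_odd (hodd : Odd (Fintype.card F)) : (2 : F) ≠ 0 := by
  intro h
  have hchar : ringChar F = 2 := by
    have := (ringChar.spec F 2).mp (by exact_mod_cast h)
    exact ((Nat.dvd_prime Nat.prime_two).mp this).resolve_left (CharP.ringChar_ne_one)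
  have : ¬ Odd (Fintype.card F) := by
    rw [Nat.not_odd_iff_even, Nat.even_iff]
    exact FiniteField.even_card_of_char_two hchar
  exact this hodd

end Cfsg.Agent.Lib.Helper9.OExtMain
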