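import Mathlib
import Cfsg.Agent.Lib.Helper7.SylowBasic

/-!
# Generic lemmas for S4234 (helper9): unique Sylow subgroups inside subgroups,
normalizers of subgroups with a characteristic Sylow subgroup.
-/

set_option autoImplicit false

namespace Cfsg.Agent.Lib.Helper9.P13

open Cfsg.Agent.Lib.Helper7

variable {G : Type*} [Group G]

/-- a subgroup of order `p * m` (with `p ∤ m`) all of whose admissible Sylow numbers are `1`
has a normal subgroup of order `p` -/
theorem exists_normal_sub [Finite G] (M : Subgroup G) (p m : ℕ) [Fact p.Prime]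
    (hM : Nat.card M = p * m) (hpm : ¬ p ∣ m) (hcount : ∀ n, n ∣ m → n % p = 1 → n = 1) :
    ∃ Q : Subgroup G, Q ≤ M ∧ Nat.card Q = p ∧ M ≤ Subgroup.normalizer (Q : Set G) := by
  have hp : p.Prime := Fact.out
  obtain ⟨P⟩ : Nonempty (Sylow p M) := inferInstance
  have hP : Nat.card (P : Subgroup M) = p := by
    have := card_sylow_subgroup_eq P 1 m (by rw [hM, pow_one]) hpm
    simpa using this
  have hidx : (P : Subgroup M).index = m := by
    have := (P : Subgroup M).card_mul_index
    rw [hP, hM] at this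
    exact Nat.eq_of_mul_eq_mul_left hp.pos this
  have h1 : Nat.card (Sylow p M) = 1 := by
    apply hcount
    · rw [← hidx]; exact Sylow.card_dvd_index P
    · have h := card_sylow_modEq_one p M
      unfold Nat.ModEq at h
      rw [h, Nat.mod_eq_of_lt hp.one_lt]
  have hn : (P : Subgroup M).Normal := sylow_normal_of_card_eq_one P h1
  have hle : (P : Subgroup M).map M.subtype ≤ M := Subgroup.map_subtype_le _
  refine ⟨(P : Subgroup M).map M.subtype, hle, ?_, ?_⟩
  · rw [Subgroup.card_map_of_injective M.subtype_injective]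
    exact hP
  · rw [← Subgroup.normal_subgroupOf_iff_le_normalizer hle]
    have : ((P : Subgroup M).map M.subtype).subgroupOf M = (P : Subgroup M) := by
      ext x
      rw [Subgroup.mem_subgroupOf]
      constructor
      · rintro ⟨y, hy, hxy⟩
        have : y = x := Subtype.ext hxy
        rw [← this]; exact hy
      · intro hx
        exact ⟨x, hx, rfl⟩
    rw [this]
    exact hn

/-- If `Q ≤ H` is a normal `p`-subgroup of `H` of order `p ^ k` and `p ^ (k+1) ∤ |H|`, then
`N_G(H) ≤ N_G(Q)`. -/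
theorem normalizer_le_normalizer_of_sylow [Finite G] (H Q : Subgroup G) (p k : ℕ) [Fact p.Prime]
    (hQH : Q ≤ H) (hQ : Nat.card Q = p ^ k) (hH : ¬ p ^ (k + 1) ∣ Nat.card H)
    (hn : H ≤ Subgroup.normalizer (Q : Set G)) :
    Subgroup.normalizer (H : Set G) ≤ Subgroup.normalizer (Q : Set G) := by
  have hp : p.Prime := Fact.out
  intro g hg
  -- the conjugate of Q by g
  set Q' : Subgroup G := Q.map (MulAut.conj g).toMonoidHom with hQ'
  have hQ'card : Nat.card Q' = p ^ k := by
    rw [hQ', Subgroup.card_map_of_injective (MulAut.conj g).injective]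
    exact hQ
  have hQ'H : Q' ≤ H := by
    rintro x ⟨y, hy, rfl⟩
    show g * y * g⁻¹ ∈ H
    exact (Subgroup.mem_normalizer_iff.1 hg y).1 (hQH hy)
  have hpQ : IsPGroup p Q := IsPGroup.of_card hQ
  have hpQ' : IsPGroup p Q' := IsPGroup.of_card hQ'card
  have hsup : IsPGroup p ↥(Q' ⊔ Q) :=
    IsPGroup.to_sup_of_normal_right' hpQ' hpQ (hQ'H.trans hn)
  obtain ⟨j, hj⟩ := IsPGroup.iff_card.mp hsup
  have hsupH : Q' ⊔ Q ≤ H := sup_le hQ'H hQH
  have hdvd : p ^ j ∣ Nat.card H := by
    rw [← hj]; exact Subgroup.card_dvd_of_le hsupH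
  have hjk : j ≤ k := by
    by_contra hlt
    push Not at hlt
    exact hH ((pow_dvd_pow p hlt).trans hdvd)
  have hcardle : Nat.card ↥(Q' ⊔ Q) ≤ Nat.card Q := by
    rw [hj, hQ]
    exact Nat.pow_le_pow_right hp.pos hjk
  have heq : Q = Q' ⊔ Q := Subgroup.eq_of_le_of_card_ge le_sup_right hcardle
  have hQ'Q : Q' ≤ Q := by
    rw [heq]; exact le_sup_left
  have hQQ' : Q' = Q := Subgroup.eq_of_le_of_card_ge hQ'Q (by rw [hQ'card, hQ])
  rw [Subgroup.mem_normalizer_iff]
  intro h
  constructor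
  · intro hh
    rw [← hQQ']
    exact ⟨h, hh, rfl⟩
  · intro hh
    rw [← hQQ'] at hh
    obtain ⟨y, hy, hyh⟩ := hh
    have : g * y * g⁻¹ = g * h * g⁻¹ := hyh
    have : y = h := by
      have h2 := congrArg (fun z => g⁻¹ * z * g) this
      simpa [mul_assoc] using h2
    rw [← this]; exact hy

/-- If all commutators of `N` lie in `Q ≤ H ≤ N` then `N` normalizes `H`. -/
theorem le_normalizer_of_commutator_mem (H Q N : Subgroup G) (hQH : Q ≤ H) (hHN : H ≤ N)
    (hc : ∀ x ∈ N, ∀ y ∈ N, x * y * x⁻¹ * y⁻¹ ∈ Q) : N ≤ Subgroup.normalizer (H : Set G) := by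
  intro x hx
  rw [Subgroup.mem_normalizer_iff]
  intro h
  constructor
  · intro hh
    have h1 := hQH (hc x hx h (hHN hh))
    have : x * h * x⁻¹ = (x * h * x⁻¹ * h⁻¹) * h := by group
    rw [this]
    exact H.mul_mem h1 hh
  · intro hh
    have hxN : x⁻¹ ∈ N := N.inv_mem hx
    have h1 := hQH (hc x⁻¹ hxN (x * h * x⁻¹) (hHN hh))
    have : h = (x⁻¹ * (x * h * x⁻¹) * x⁻¹⁻¹ * (x * h * x⁻¹)⁻¹) * (x * h * x⁻¹) := by group
    rw [this]
    exact H.mul_mem h1 hh

end Cfsg.Agent.Lib.Helper9.P13
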