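import Mathlib
import Cfsg.Agent.Lib.Helper9.P13A
import Cfsg.Agent.Lib.Helper15.A4Rec

/-!
# S4234 (helper9): the abstract core.  A simple group of order `1092` with the expected local
data (normalizers of subgroups of orders 13, 7, 3, 2, 4) has all normalizers of non-normal
subgroups maximal.
-/

set_option autoImplicit false

namespace Cfsg.Agent.Lib.Helper9.P13

open Cfsg.Agent.Lib.Helper7

variable {G : Type*} [Group G]

/-- a criterion for maximality in a finite group -/
theorem isCoatom_of_forall' [Finite G] (H : Subgroup G)
    (hH : H ≠ ⊤)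
    (h : ∀ L : Subgroup G, H ≤ L → Nat.card H < Nat.card L → L ≠ ⊤ →
      Nat.card H ∣ Nat.card L → False) : IsCoatom H := by
  constructor
  · exact hH
  · intro L hL
    by_contra hLtop
    have h2 : Nat.card H < Nat.card L := by
      have h3 := Subgroup.card_le_of_le hL.le
      rcases Nat.eq_or_lt_of_le h3 with h4 | h4
      · exfalso
        have := Subgroup.eq_of_le_of_card_ge hL.le h4.symm.le
        exact hL.ne this
      · exact h4
    exact h L hL.le h2 hLtop (Subgroup.card_dvd_of_le hL.le)

omit [Group G] in
theorem card_comap_equiv {A B : Type*} [Group A] [Group B] (e : A ≃* B) (K : Subgroup B) :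
    Nat.card (K.comap e.toMonoidHom) = Nat.card K := by
  have : K.comap e.toMonoidHom = K.map e.symm.toMonoidHom := by
    ext x
    simp [Subgroup.mem_map]
    constructor
    · intro h; exact ⟨e x, h, by simp⟩
    · rintro ⟨y, hy, rfl⟩; simpa using hy
  rw [this, Subgroup.card_map_of_injective e.symm.injective]

section main

variable [Finite G] [IsSimpleGroup G] (hG : Nat.card G = 1092)
include hG

/-- proper subgroups have order at most `84` -/
theorem card_le_of_ne_top (M : Subgroup G) (hM : M ≠ ⊤) : Nat.card M ≤ 84 := by
  have h1 := card_dvd_factorial_index_of_simple M hM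
  rw [hG] at h1
  have h13 : 13 ∣ (M.index).factorial := Dvd.dvd.trans (by norm_num) h1
  have h2 : 13 ≤ M.index := (Nat.Prime.dvd_factorial (by norm_num)).1 h13
  have h3 := M.card_mul_index
  rw [hG] at h3
  by_contra hlt
  push Not at hlt
  have : 85 * 13 ≤ Nat.card M * M.index := Nat.mul_le_mul hlt h2
  omega

theorem card_dvd (M : Subgroup G) : Nat.card M ∣ 1092 := by
  rw [← hG]; exact Subgroup.card_subgroup_dvd_card M

variable (h7 : ∀ S : Subgroup G, Nat.card S = 7 → Nat.card (Subgroup.normalizer (S : Set G)) = 14)
include h7

/-- a proper subgroup of order divisible by `7` (and not by `13`) has order at most `14` -/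
theorem card_le_fourteen (M : Subgroup G) (hM : M ≠ ⊤) (h7d : 7 ∣ Nat.card M)
    (h13d : ¬ 13 ∣ Nat.card M) :
    ∃ Q : Subgroup G, Q ≤ M ∧ Nat.card Q = 7 ∧ M ≤ Subgroup.normalizer (Q : Set G) := by
  have : Fact (Nat.Prime 7) := ⟨by norm_num⟩
  obtain ⟨m, hm⟩ := h7d
  have hdvd := card_dvd hG M
  rw [hm] at hdvd h13d
  have hm156 : m ∣ 156 := by
    have : 7 * m ∣ 7 * 156 := by norm_num; exact hdvd
    exact Nat.dvd_of_mul_dvd_mul_left (by norm_num) this
  have h13m : ¬ 13 ∣ m := fun h => h13d (Dvd.dvd.mul_left h 7)
  have hm12 : m ∣ 12 := by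
    have hcop : Nat.Coprime m 13 := by
      rw [Nat.coprime_comm]
      exact (Nat.Prime.coprime_iff_not_dvd (by norm_num)).2 h13m
    have : m ∣ 13 * 12 := by norm_num; exact hm156
    exact hcop.dvd_of_dvd_mul_left this
  have h7m : ¬ 7 ∣ m := by
    intro h
    have := h.trans hm12
    omega
  apply exists_normal_sub M 7 m hm h7m
  intro n hn hn7
  have hn12 : n ∣ 12 := hn.trans hm12
  have hle : n ≤ 12 := Nat.le_of_dvd (by norm_num) hn12
  interval_cases n <;> omega

/-- subgroups of order `78`, `14` or `12` are maximal -/
theorem isCoatom_of_card (N : Subgroup G)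
    (hN : Nat.card N = 78 ∨ Nat.card N = 14 ∨ Nat.card N = 12) : IsCoatom N := by
  apply isCoatom_of_forall'
  · intro h
    rw [h, Subgroup.card_top, hG] at hN
    omega
  · intro L hNL hlt hLtop hdvd
    have h84 := card_le_of_ne_top hG L hLtop
    have h1092 := card_dvd hG L
    have key : Nat.card L = 28 ∨ Nat.card L = 42 ∨ Nat.card L = 84 := by
      rcases hN with hN | hN | hN
      · exfalso
        rw [hN] at hdvd hlt
        obtain ⟨k, hk⟩ := hdvd
        have : k ≤ 1 := by
          by_contra h
          push Not at h
          have : 78 * 2 ≤ 78 * k := Nat.mul_le_mul_left _ h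
          omega
        interval_cases k <;> omega
      · rw [hN] at hdvd hlt
        obtain ⟨k, hk⟩ := hdvd
        obtain ⟨l, hl⟩ := h1092
        rw [hk] at hl h84 hlt
        have : k ≤ 6 := by omega
        interval_cases k <;> omega
      · rw [hN] at hdvd hlt
        obtain ⟨k, hk⟩ := hdvd
        obtain ⟨l, hl⟩ := h1092
        rw [hk] at hl h84 hlt
        have : k ≤ 7 := by omega
        interval_cases k <;> omega
    have h7d : 7 ∣ Nat.card L := by
      rcases key with h | h | h <;> rw [h] <;> norm_num
    have h13d : ¬ 13 ∣ Nat.card L := by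
      rcases key with h | h | h <;> rw [h] <;> norm_num
    obtain ⟨Q, -, hQ7, hLQ⟩ := card_le_fourteen hG h7 L hLtop h7d h13d
    have := Subgroup.card_le_of_le hLQ
    rw [h7 Q hQ7] at this
    rcases key with h | h | h <;> omega

variable
  (h13 : ∀ P : Subgroup G, Nat.card P = 13 → Nat.card (Subgroup.normalizer (P : Set G)) = 78 ∧
    ∀ x ∈ Subgroup.normalizer (P : Set G), ∀ y ∈ Subgroup.normalizer (P : Set G),
      x * y * x⁻¹ * y⁻¹ ∈ P)
  (h3 : ∀ R : Subgroup G, Nat.card R = 3 → Nat.card (Subgroup.normalizer (R : Set G)) = 12 ∧
    ∀ x ∈ Subgroup.normalizer (R : Set G), ∀ y ∈ Subgroup.normalizer (R : Set G),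
      x * y * x⁻¹ * y⁻¹ ∈ R)
  (h2 : ∀ T : Subgroup G, Nat.card T = 2 → Nat.card (Subgroup.normalizer (T : Set G)) = 12)
  (h4 : ∀ V : Subgroup G, Nat.card V = 4 → Nat.card (Subgroup.normalizer (V : Set G)) = 12)
include h13 h3 h2 h4

/-- the abstract form of S4234 for a simple group of order 1092 -/
theorem isCoatom_normalizer (H : Subgroup G) (hH : ¬ H.Normal) :
    IsCoatom (Subgroup.normalizer (H : Set G)) := by
  have : Fact (Nat.Prime 13) := ⟨by norm_num⟩
  have : Fact (Nat.Prime 7) := ⟨by norm_num⟩
  have : Fact (Nat.Prime 3) := ⟨by norm_num⟩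
  have : Fact (Nat.Prime 2) := ⟨by norm_num⟩
  set N := Subgroup.normalizer (H : Set G) with hN
  have hHN : H ≤ N := Subgroup.le_normalizer
  have hHtop : H ≠ ⊤ := by
    intro h; apply hH; rw [h]; infer_instance
  have hHbot : H ≠ ⊥ := by
    intro h; apply hH; rw [h]; infer_instance
  have hc84 := card_le_of_ne_top hG H hHtop
  have hcdvd := card_dvd hG H
  have hc1 : Nat.card H ≠ 1 := fun h => hHbot (Subgroup.card_eq_one.1 h)
  have hcpos : 0 < Nat.card H := Nat.card_pos
  by_cases h13d : 13 ∣ Nat.card H
  · -- the Borel case
    obtain ⟨m, hm⟩ := h13d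
    have hm6 : m ≤ 6 := by omega
    have hm0 : 0 < m := by
      rcases Nat.eq_zero_or_pos m with h | h
      · rw [h] at hm; omega
      · exact h
    have h13m : ¬ 13 ∣ m := by
      intro h
      have := Nat.le_of_dvd hm0 h
      omega
    obtain ⟨Q, hQH, hQ, hHQ⟩ := exists_normal_sub H 13 m hm h13m (by
      intro n hn hn13
      have := Nat.le_of_dvd hm0 hn
      omega)
    obtain ⟨hNQ, hcomm⟩ := h13 Q hQ
    have hle1 : N ≤ Subgroup.normalizer (Q : Set G) :=
      normalizer_le_normalizer_of_sylow H Q 13 1 hQH (by rw [hQ, pow_one]) (by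
        rw [hm]
        intro h
        have : (13 : ℕ) ∣ m := by
          have h' : 13 * 13 ∣ 13 * m := by norm_num at h ⊢; exact h
          exact Nat.dvd_of_mul_dvd_mul_left (by norm_num) h'
        exact h13m this) hHQ
    have hle2 : Subgroup.normalizer (Q : Set G) ≤ N :=
      le_normalizer_of_commutator_mem H Q _ hQH hHQ hcomm
    have heq : N = Subgroup.normalizer (Q : Set G) := le_antisymm hle1 hle2
    apply isCoatom_of_card hG h7
    left
    rw [heq]; exact hNQ
  · by_cases h7d : 7 ∣ Nat.card H
    · obtain ⟨Q, hQH, hQ, hHQ⟩ := card_le_fourteen hG h7 H hHtop h7d h13d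
      have hNQ := h7 Q hQ
      have hle1 : N ≤ Subgroup.normalizer (Q : Set G) :=
        normalizer_le_normalizer_of_sylow H Q 7 1 hQH (by rw [hQ, pow_one]) (by
          intro h
          have := h.trans hcdvd
          omega) hHQ
      have hcH : Nat.card H = 7 ∨ Nat.card H = 14 := by
        have h1 := Subgroup.card_dvd_of_le hHQ
        rw [hNQ] at h1
        have h2 := Nat.le_of_dvd (by norm_num) h1
        obtain ⟨k, hk⟩ := h7d
        rw [hk] at h2 h1 ⊢
        have : k ≤ 2 := by omega
        interval_cases k <;> omega
      have hle2 : Subgroup.normalizer (Q : Set G) ≤ N := by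
        rcases hcH with h | h
        · have : Q = H := Subgroup.eq_of_le_of_card_ge hQH (by rw [h, hQ])
          rw [this]
        · have : H = Subgroup.normalizer (Q : Set G) :=
            Subgroup.eq_of_le_of_card_ge hHQ (by rw [h, hNQ])
          rw [← this]; exact hHN
      have heq : N = Subgroup.normalizer (Q : Set G) := le_antisymm hle1 hle2
      apply isCoatom_of_card hG h7
      right; left
      rw [heq]; exact hNQ
    · -- now `|H|` divides `12`
      have h12 : Nat.card H ∣ 12 := by
        have hc13 : Nat.Coprime (Nat.card H) 13 := by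
          rw [Nat.coprime_comm]
          exact (Nat.Prime.coprime_iff_not_dvd (by norm_num)).2 h13d
        have hc7 : Nat.Coprime (Nat.card H) 7 := by
          rw [Nat.coprime_comm]
          exact (Nat.Prime.coprime_iff_not_dvd (by norm_num)).2 h7d
        have h1 : Nat.card H ∣ 13 * 84 := by norm_num; exact hcdvd
        have h2 : Nat.card H ∣ 7 * 12 := by
          have := hc13.dvd_of_dvd_mul_left h1
          norm_num; exact this
        exact hc7.dvd_of_dvd_mul_left h2
      have hle12 : Nat.card H ≤ 12 := Nat.le_of_dvd (by norm_num) h12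
      apply isCoatom_of_card hG h7
      right; right
      have hcases : Nat.card H = 2 ∨ Nat.card H = 3 ∨ Nat.card H = 4 ∨ Nat.card H = 6 ∨
          Nat.card H = 12 := by
        obtain ⟨l, hl⟩ := h12
        have : l ≤ 12 := by
          rcases Nat.eq_zero_or_pos l with h | h
          · rw [h] at hl; omega
          · nlinarith
        interval_cases l <;> omega
      rcases hcases with hc | hc | hc | hc | hc
      · exact h2 H hc
      · exact (h3 H hc).1
      · exact h4 H hc
      · -- order 6
        obtain ⟨Q, hQH, hQ, hHQ⟩ := exists_normal_sub H 3 2 (by rw [hc]) (by norm_num) (by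
          intro n hn hn3
          have := Nat.le_of_dvd (by norm_num) hn
          interval_cases n <;> omega)
        obtain ⟨hNQ, hcomm⟩ := h3 Q hQ
        have hle1 : N ≤ Subgroup.normalizer (Q : Set G) :=
          normalizer_le_normalizer_of_sylow H Q 3 1 hQH (by rw [hQ, pow_one]) (by
            rw [hc]; norm_num) hHQ
        have hle2 : Subgroup.normalizer (Q : Set G) ≤ N :=
          le_normalizer_of_commutator_mem H Q _ hQH hHQ hcomm
        have heq : N = Subgroup.normalizer (Q : Set G) := le_antisymm hle1 hle2
        rw [heq]; exact hNQ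
      · -- order 12
        obtain ⟨x, hx⟩ := exists_prime_orderOf_dvd_card' (G := H) 3 (by rw [hc]; norm_num)
        set R : Subgroup G := (Subgroup.zpowers x).map H.subtype with hR
        have hRH : R ≤ H := Subgroup.map_subtype_le _
        have hRcard : Nat.card R = 3 := by
          rw [hR, Subgroup.card_map_of_injective H.subtype_injective, Nat.card_zpowers, hx]
        obtain ⟨hNR, -⟩ := h3 R hRcard
        by_cases hRn : H ≤ Subgroup.normalizer (R : Set G)
        · have hle1 : N ≤ Subgroup.normalizer (R : Set G) :=
            normalizer_le_normalizer_of_sylow H R 3 1 hRH (by rw [hRcard, pow_one]) (by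
              rw [hc]; norm_num) hRn
          have hHeq : H = Subgroup.normalizer (R : Set G) :=
            Subgroup.eq_of_le_of_card_ge hRn (by rw [hc, hNR])
          have heq : N = Subgroup.normalizer (R : Set G) := le_antisymm hle1 (hHeq ▸ hHN)
          rw [heq]; exact hNR
        · -- `H ≅ A₄`
          have hnn : ¬ (R.subgroupOf H).Normal := by
            rw [Subgroup.normal_subgroupOf_iff_le_normalizer hRH]; exact hRn
          have hcard3 : Nat.card (R.subgroupOf H) = 3 := by
            rw [Nat.card_congr (Subgroup.subgroupOfEquivOfLe hRH).toEquiv]; exact hRcard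
          obtain ⟨e⟩ := Cfsg.Agent.Lib.Helper15.nonempty_mulEquiv_A4 (H := H) hc
            (R.subgroupOf H) hcard3 hnn
          have h4' : Nat.card (Fin 4) = 4 := by simp
          have hVn : (alternatingGroup.kleinFour (Fin 4)).Normal :=
            alternatingGroup.normal_kleinFour h4'
          have hVc : Nat.card (alternatingGroup.kleinFour (Fin 4)) = 4 :=
            alternatingGroup.kleinFour_card_of_card_eq_four h4'
          set V' : Subgroup H := (alternatingGroup.kleinFour (Fin 4)).comap e.toMonoidHom with hV'
          have hV'n : V'.Normal := hVn.comap _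
          have hV'c : Nat.card V' = 4 := by
            rw [← hVc, hV']
            exact card_comap_equiv e _
          set V : Subgroup G := V'.map H.subtype with hV
          have hVH : V ≤ H := Subgroup.map_subtype_le _
          have hVcard : Nat.card V = 4 := by
            rw [hV, Subgroup.card_map_of_injective H.subtype_injective]; exact hV'c
          have hHV : H ≤ Subgroup.normalizer (V : Set G) := by
            rw [← Subgroup.normal_subgroupOf_iff_le_normalizer hVH]
            have : V.subgroupOf H = V' := by
              ext y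
              rw [Subgroup.mem_subgroupOf]
              constructor
              · rintro ⟨z, hz, hzy⟩
                have : z = y := Subtype.ext hzy
                rw [← this]; exact hz
              · intro hy
                exact ⟨y, hy, rfl⟩
            rw [this]; exact hV'n
          have hNV := h4 V hVcard
          have hle1 : N ≤ Subgroup.normalizer (V : Set G) :=
            normalizer_le_normalizer_of_sylow H V 2 2 hVH (by rw [hVcard]; norm_num) (by
              rw [hc]; norm_num) hHV
          have hHeq : H = Subgroup.normalizer (V : Set G) :=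
            Subgroup.eq_of_le_of_card_ge hHV (by rw [hc, hNV])
          have heq : N = Subgroup.normalizer (V : Set G) := le_antisymm hle1 (hHeq ▸ hHN)
          rw [heq]; exact hNV

end main

end Cfsg.Agent.Lib.Helper9.P13
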