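import Mathlib
import Cfsg.Agent.Lib.Helper15.Dk20
import Cfsg.Agent.Lib.Helper9.P13B

/-!
# S4234 (helper9): the local data of `PSL₂(13)`.
-/

set_option autoImplicit false

open scoped Pointwise

namespace Cfsg.Agent.Lib.Helper9.P13

open Matrix
open Cfsg.Agent.Lib.Helper7
open Cfsg.Agent.Lib.Helper14
open Cfsg.Agent.Lib.Helper15
open Cfsg.Agent.Lib.Helper15.Dk

section conj
variable {G : Type*} [Group G] [Finite G]

/-- two subgroups whose common order is the full `p`-part of `|G|` are conjugate -/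
theorem exists_conj_of_card (A B : Subgroup G) (p k m : ℕ) [Fact p.Prime]
    (hG : Nat.card G = p ^ k * m) (hm : ¬ p ∣ m) (hA : Nat.card A = p ^ k)
    (hB : Nat.card B = p ^ k) : ∃ c : G, B = MulAut.conj c • A := by
  obtain ⟨P, hAP⟩ := (IsPGroup.of_card hA).exists_le_sylow
  obtain ⟨Q, hBQ⟩ := (IsPGroup.of_card hB).exists_le_sylow
  have hP := card_sylow_subgroup_eq P k m hG hm
  have hQ := card_sylow_subgroup_eq Q k m hG hm
  have hAP' : A = (P : Subgroup G) := Subgroup.eq_of_le_of_card_ge hAP (by rw [hP, hA])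
  have hBQ' : B = (Q : Subgroup G) := Subgroup.eq_of_le_of_card_ge hBQ (by rw [hQ, hB])
  obtain ⟨c, hc⟩ := MulAction.exists_smul_eq G P Q
  refine ⟨c, ?_⟩
  rw [hBQ', hAP', ← hc, Sylow.coe_subgroup_smul]

omit [Finite G] in
/-- transfer of the local data under conjugation -/
theorem data_conj (A : Subgroup G) (c : G) (n : ℕ)
    (h : Nat.card (Subgroup.normalizer (A : Set G)) = n ∧
      ∀ x ∈ Subgroup.normalizer (A : Set G), ∀ y ∈ Subgroup.normalizer (A : Set G),
        x * y * x⁻¹ * y⁻¹ ∈ A) :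
    Nat.card (Subgroup.normalizer ((MulAut.conj c • A : Subgroup G) : Set G)) = n ∧
      ∀ x ∈ Subgroup.normalizer ((MulAut.conj c • A : Subgroup G) : Set G),
        ∀ y ∈ Subgroup.normalizer ((MulAut.conj c • A : Subgroup G) : Set G),
        x * y * x⁻¹ * y⁻¹ ∈ (MulAut.conj c • A : Subgroup G) := by
  constructor
  · rw [Dk.normalizer_conj_smul, card_conj_smul]; exact h.1
  · intro x hx y hy
    rw [Dk.normalizer_conj_smul, mem_conj_smul] at hx hy
    rw [mem_conj_smul]
    have := h.2 _ hx _ hy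
    have e : c⁻¹ * (x * y * x⁻¹ * y⁻¹) * c =
        c⁻¹ * x * c * (c⁻¹ * y * c) * (c⁻¹ * x * c)⁻¹ * (c⁻¹ * y * c)⁻¹ := by group
    rw [e]; exact this

end conj

section psl
variable {F : Type*} [Field F] [Fintype F] (hF : Fintype.card F = 13)
include hF

theorem card_center13 : Nat.card (Subgroup.center (SpecialLinearGroup (Fin 2) F)) = 2 := by
  rw [card_center_eq_gcd, hF]
  norm_num

theorem card_PSL13 : Nat.card (ProjectiveSpecialLinearGroup (Fin 2) F) = 1092 := by
  have h := card_PSL2_mul (F := F)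
  rw [card_center13 hF, hF] at h
  omega

theorem two_ne_zero13 : (2 : F) ≠ 0 := by
  have : Fact (Nat.Prime 13) := ⟨by norm_num⟩
  have hchar : CharP F 13 := charP_of_card_eq_prime hF
  intro h
  have h2 : ((2 : ℕ) : F) = 0 := by exact_mod_cast h
  rw [CharP.cast_eq_zero_iff F 13] at h2
  omega

theorem four_ne_zero13 : (4 : F) ≠ 0 := by
  have : Fact (Nat.Prime 13) := ⟨by norm_num⟩
  have hchar : CharP F 13 := charP_of_card_eq_prime hF
  intro h
  have h2 : ((4 : ℕ) : F) = 0 := by exact_mod_cast h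
  rw [CharP.cast_eq_zero_iff F 13] at h2
  omega

theorem isSimple13 : IsSimpleGroup (ProjectiveSpecialLinearGroup (Fin 2) F) :=
  Matrix.ProjectiveSpecialLinearGroup.rank_two_simple (by
    rw [Nat.card_eq_fintype_card, hF]; norm_num)

/-- data for subgroups of order 13 -/
theorem data13 (P : Subgroup (ProjectiveSpecialLinearGroup (Fin 2) F)) (hP : Nat.card P = 13) :
    Nat.card (Subgroup.normalizer (P : Set (ProjectiveSpecialLinearGroup (Fin 2) F))) = 78 ∧
    ∀ x ∈ Subgroup.normalizer (P : Set (ProjectiveSpecialLinearGroup (Fin 2) F)),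
      ∀ y ∈ Subgroup.normalizer (P : Set (ProjectiveSpecialLinearGroup (Fin 2) F)),
        x * y * x⁻¹ * y⁻¹ ∈ P := by
  have : Fact (Nat.Prime 13) := ⟨by norm_num⟩
  have hchar : CharP F 13 := charP_of_card_eq_prime hF
  obtain ⟨S, hPS⟩ := (IsPGroup.of_card (p := 13) (n := 1) (by rw [hP, pow_one])).exists_le_sylow
  have hS := card_sylow_subgroup_eq S 1 84 (by rw [card_PSL13 hF]; norm_num) (by norm_num)
  have hPS' : P = (S : Subgroup (ProjectiveSpecialLinearGroup (Fin 2) F)) :=
    Subgroup.eq_of_le_of_card_ge hPS (by rw [hS, hP, pow_one])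
  rw [hPS']
  constructor
  · have h := card_normalizer_sylow_mul 13 S
    rw [card_center13 hF, hF] at h
    omega
  · intro x hx y hy
    exact commutator_mem_sylow 13 S x y hx hy

/-- data for subgroups of order 7 -/
theorem data7 (S : Subgroup (ProjectiveSpecialLinearGroup (Fin 2) F)) (hS : Nat.card S = 7) :
    Nat.card (Subgroup.normalizer (S : Set (ProjectiveSpecialLinearGroup (Fin 2) F))) = 14 := by
  have : Fact (Nat.Prime 7) := ⟨by norm_num⟩
  obtain ⟨g, hg, ht, hcard⟩ := exists_torus_plus (F := F)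
  rw [card_center13 hF, hF] at hcard
  have hT : Nat.card (Tor g) = 7 := by omega
  obtain ⟨-, hcardN, -, -⟩ := torus_normalizer g hg ht
  obtain ⟨c, hc⟩ := exists_conj_of_card (Tor g) S 7 1 156 (by rw [card_PSL13 hF]; norm_num) (by norm_num)
    (by rw [hT, pow_one]) (by rw [hS, pow_one])
  rw [hc, Dk.normalizer_conj_smul, card_conj_smul, hcardN, hT]

/-- the normalizer of any nontrivial subgroup of a torus of order `≥ 3` elements is the
normalizer of the torus: here for a subgroup containing an element which is not an involution -/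
theorem normalizer_sub_torus (g : SpecialLinearGroup (Fin 2) F)
    (hg : ¬ IsScalar2 (g : Matrix (Fin 2) (Fin 2) F))
    (R : Subgroup (ProjectiveSpecialLinearGroup (Fin 2) F)) (hR : R ≤ Tor g) (hR1 : R ≠ ⊥) :
    Subgroup.normalizer (R : Set (ProjectiveSpecialLinearGroup (Fin 2) F)) ≤
      Subgroup.normalizer ((Tor g : Subgroup (ProjectiveSpecialLinearGroup (Fin 2) F)) :
        Set (ProjectiveSpecialLinearGroup (Fin 2) F)) := by
  intro y hy
  obtain ⟨⟨r, hr⟩, hr1'⟩ := (Subgroup.ne_bot_iff_exists_ne_one.1 hR1)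
  have hr1 : r ≠ 1 := by
    intro h; apply hr1'; exact Subtype.ext h
  obtain ⟨k, rfl⟩ := toPSL2_surjective r
  obtain ⟨m, rfl⟩ := toPSL2_surjective y
  have hkT : toPSL2 F k ∈ Tor g := hR hr
  have hk1 : ¬ IsScalar2 (k : Matrix (Fin 2) (Fin 2) F) := by
    rw [← toPSL2_eq_one_iff']; exact hr1
  have h1 : Tor k = Tor g := Tor_eq_of_mem g hg k hkT hk1
  have hconj : toPSL2 F (m * k * m⁻¹) ∈ R := by
    rw [map_mul, map_mul, map_inv]
    exact (Subgroup.mem_normalizer_iff.1 hy _).1 hr
  have hconj1 : ¬ IsScalar2 ((m * k * m⁻¹ : SpecialLinearGroup (Fin 2) F) : Matrix (Fin 2) (Fin 2) F) := by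
    rw [← toPSL2_eq_one_iff']
    intro h
    apply hr1
    rw [map_mul, map_mul, map_inv] at h
    have : toPSL2 F k = (toPSL2 F m)⁻¹ * (toPSL2 F m * toPSL2 F k * (toPSL2 F m)⁻¹) * toPSL2 F m := by
      group
    rw [this, h]; group
  have h2 : Tor (m * k * m⁻¹) = Tor g := Tor_eq_of_mem g hg _ (hR hconj) hconj1
  rw [← conj_smul_eq_self_iff]
  rw [← h1, Tor_conj, h2, h1]

/-- data for subgroups of order 3 -/
theorem data3 (R : Subgroup (ProjectiveSpecialLinearGroup (Fin 2) F)) (hR : Nat.card R = 3) :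
    Nat.card (Subgroup.normalizer (R : Set (ProjectiveSpecialLinearGroup (Fin 2) F))) = 12 ∧
    ∀ x ∈ Subgroup.normalizer (R : Set (ProjectiveSpecialLinearGroup (Fin 2) F)),
      ∀ y ∈ Subgroup.normalizer (R : Set (ProjectiveSpecialLinearGroup (Fin 2) F)),
        x * y * x⁻¹ * y⁻¹ ∈ R := by
  have : Fact (Nat.Prime 3) := ⟨by norm_num⟩
  obtain ⟨g, hg, ht, hcard⟩ := exists_torus_minus (F := F) (by rw [hF]; norm_num)
  rw [card_center13 hF, hF] at hcard
  have hT : Nat.card (Tor g) = 6 := by omega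
  obtain ⟨hcyc, hcardN, -, hprop⟩ := torus_normalizer g hg ht
  obtain ⟨x₀, hx₀⟩ := hcyc.exists_generator
  have hx₀ord : orderOf (x₀ : ProjectiveSpecialLinearGroup (Fin 2) F) = 6 := by
    rw [Subgroup.orderOf_coe, orderOf_eq_card_of_forall_mem_zpowers hx₀, hT]
  have hTcomm : ∀ a ∈ Tor g, ∀ b ∈ Tor g, a * b = b * a := by
    intro a ha b hb
    have := mul_comm_of_isCyclic (G := Tor g) ⟨a, ha⟩ ⟨b, hb⟩
    exact congrArg Subtype.val this
  have hTpow : ∀ a ∈ Tor g, ∃ j : ℤ, a = (x₀ : ProjectiveSpecialLinearGroup (Fin 2) F) ^ j := by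
    intro a ha
    obtain ⟨j, hj⟩ := Subgroup.mem_zpowers_iff.1 (hx₀ ⟨a, ha⟩)
    refine ⟨j, ?_⟩
    have := congrArg Subtype.val hj
    simp only [Subgroup.coe_zpow] at this
    exact this.symm
  set r : ProjectiveSpecialLinearGroup (Fin 2) F := (x₀ : ProjectiveSpecialLinearGroup (Fin 2) F) ^ 2 with hr
  set R₀ : Subgroup (ProjectiveSpecialLinearGroup (Fin 2) F) := Subgroup.zpowers r with hR₀
  have hrT : r ∈ Tor g := (Tor g).pow_mem x₀.2 2
  have hR₀T : R₀ ≤ Tor g := by
    rw [hR₀, Subgroup.zpowers_le]; exact hrT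
  have hrord : orderOf r = 3 := by
    rw [hr, orderOf_pow' _ (by norm_num), hx₀ord]
    norm_num
  have hR₀card : Nat.card R₀ = 3 := by
    rw [hR₀, Nat.card_zpowers, hrord]
  have hsq : ∀ a ∈ Tor g, a * a ∈ R₀ := by
    intro a ha
    obtain ⟨j, rfl⟩ := hTpow a ha
    rw [hR₀, Subgroup.mem_zpowers_iff]
    refine ⟨j, ?_⟩
    rw [hr, ← zpow_natCast, ← _root_.zpow_mul, ← _root_.zpow_add]
    congr 1
    push_cast; ring
  have hR₀bot : R₀ ≠ ⊥ := by
    intro h
    rw [h, Subgroup.card_bot] at hR₀card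
    omega
  set N := Subgroup.normalizer ((Tor g : Subgroup (ProjectiveSpecialLinearGroup (Fin 2) F)) :
      Set (ProjectiveSpecialLinearGroup (Fin 2) F)) with hN
  -- every subgroup of the torus is normalized by `N`
  have hNR₀ : N ≤ Subgroup.normalizer (R₀ : Set (ProjectiveSpecialLinearGroup (Fin 2) F)) := by
    intro y hy
    have hconj : ∀ z ∈ R₀, y * z * y⁻¹ ∈ R₀ ∧ y⁻¹ * z * y ∈ R₀ := by
      intro z hz
      by_cases hyT : y ∈ Tor g
      · have h1 := hTcomm y hyT z (hR₀T hz)
        constructor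
        · rw [h1, mul_inv_cancel_right]; exact hz
        · rw [mul_assoc, ← h1, inv_mul_cancel_left]; exact hz
      · have h1 := (hprop y hy hyT).2 z (hR₀T hz)
        constructor
        · rw [h1]; exact R₀.inv_mem hz
        · have h2 : y⁻¹ * z * y = z⁻¹ := by
            have : z = y⁻¹ * z⁻¹ * y := by rw [← h1]; group
            calc y⁻¹ * z * y = y⁻¹ * (y⁻¹ * z⁻¹ * y) * y := by rw [← this]
              _ = (y⁻¹ * y⁻¹) * z⁻¹ * (y * y) := by group
              _ = z⁻¹ := by
                  have hyy := (hprop y hy hyT).1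
                  have hyy' : y⁻¹ * y⁻¹ = 1 := by
                    rw [← _root_.mul_inv_rev, hyy, inv_one]
                  rw [hyy, hyy', one_mul, mul_one]
          rw [h2]; exact R₀.inv_mem hz
    rw [Subgroup.mem_normalizer_iff]
    intro z
    constructor
    · intro hz; exact (hconj z hz).1
    · intro hz
      have := (hconj _ hz).2
      have e : y⁻¹ * (y * z * y⁻¹) * y = z := by group
      rw [e] at this; exact this
  have hR₀N : Subgroup.normalizer (R₀ : Set (ProjectiveSpecialLinearGroup (Fin 2) F)) ≤ N :=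
    normalizer_sub_torus hF g hg R₀ hR₀T hR₀bot
  have hNeq : Subgroup.normalizer (R₀ : Set (ProjectiveSpecialLinearGroup (Fin 2) F)) = N :=
    le_antisymm hR₀N hNR₀
  -- the element `x₀` is not an involution
  have hx₀sq : (x₀ : ProjectiveSpecialLinearGroup (Fin 2) F) * x₀ ≠ 1 := by
    intro h
    have : orderOf (x₀ : ProjectiveSpecialLinearGroup (Fin 2) F) ∣ 2 :=
      orderOf_dvd_of_pow_eq_one (by rw [pow_two]; exact h)
    rw [hx₀ord] at this
    omega
  have key : Nat.card (Subgroup.normalizer (R₀ : Set (ProjectiveSpecialLinearGroup (Fin 2) F))) = 12 ∧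
      ∀ x ∈ Subgroup.normalizer (R₀ : Set (ProjectiveSpecialLinearGroup (Fin 2) F)),
      ∀ y ∈ Subgroup.normalizer (R₀ : Set (ProjectiveSpecialLinearGroup (Fin 2) F)),
        x * y * x⁻¹ * y⁻¹ ∈ R₀ := by
    rw [hNeq]
    constructor
    · rw [hcardN, hT]
    · intro a ha b hb
      by_cases haT : a ∈ Tor g
      · by_cases hbT : b ∈ Tor g
        · have h1 := hTcomm a haT b hbT
          have : a * b * a⁻¹ * b⁻¹ = 1 := by rw [h1]; group
          rw [this]; exact R₀.one_mem
        · -- b inverts a⁻¹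
          have h1 := (hprop b hb hbT).2 a⁻¹ ((Tor g).inv_mem haT)
          rw [inv_inv] at h1
          have : a * b * a⁻¹ * b⁻¹ = a * a := by
            rw [mul_assoc, mul_assoc, ← mul_assoc b, h1]
          rw [this]; exact hsq a haT
      · by_cases hbT : b ∈ Tor g
        · have h1 := (hprop a ha haT).2 b hbT
          have : a * b * a⁻¹ * b⁻¹ = b⁻¹ * b⁻¹ := by rw [h1]
          rw [this]; exact hsq _ ((Tor g).inv_mem hbT)
        · -- both invert: the product lies in the torus
          have hab : a * b ∈ Tor g := by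
            by_contra hab
            have habN : a * b ∈ N := N.mul_mem ha hb
            have h1 := (hprop (a * b) habN hab).2 x₀ x₀.2
            have h2 := (hprop b hb hbT).2 x₀ x₀.2
            have h3 := (hprop a ha haT).2 (x₀ : ProjectiveSpecialLinearGroup (Fin 2) F)⁻¹
              ((Tor g).inv_mem x₀.2)
            rw [inv_inv] at h3
            have h4 : a * b * x₀ * (a * b)⁻¹ = (x₀ : ProjectiveSpecialLinearGroup (Fin 2) F) := by
              calc a * b * x₀ * (a * b)⁻¹ = a * (b * x₀ * b⁻¹) * a⁻¹ := by group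
                _ = a * (x₀ : ProjectiveSpecialLinearGroup (Fin 2) F)⁻¹ * a⁻¹ := by rw [h2]
                _ = x₀ := h3
            rw [h4] at h1
            apply hx₀sq
            calc (x₀ : ProjectiveSpecialLinearGroup (Fin 2) F) * x₀
                = x₀ * (x₀ : ProjectiveSpecialLinearGroup (Fin 2) F)⁻¹ := by rw [← h1]
              _ = 1 := mul_inv_cancel _
          have haa := (hprop a ha haT).1
          have hbb := (hprop b hb hbT).1
          have hai : a⁻¹ = a := by
            rw [inv_eq_iff_mul_eq_one]; exact haa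
          have hbi : b⁻¹ = b := by
            rw [inv_eq_iff_mul_eq_one]; exact hbb
          have : a * b * a⁻¹ * b⁻¹ = (a * b) * (a * b) := by
            rw [hai, hbi]; group
          rw [this]; exact hsq _ hab
  obtain ⟨c, hc⟩ := exists_conj_of_card R₀ R 3 1 364 (by rw [card_PSL13 hF]; norm_num) (by norm_num)
    (by rw [hR₀card, pow_one]) (by rw [hR, pow_one])
  rw [hc]
  exact data_conj R₀ c 12 key

end psl

end Cfsg.Agent.Lib.Helper9.P13
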