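import Mathlib
import Cfsg.Agent.Lib.Helper9.P13C

/-!
# S4234 (helper9): the local data of `PSL₂(13)`, part 2, and the theorem for `PSL₂(13)`.
-/

set_option autoImplicit false

open scoped Pointwise

namespace Cfsg.Agent.Lib.Helper9.P13

open Matrix
open Cfsg.Agent.Lib.Helper7
open Cfsg.Agent.Lib.Helper14
open Cfsg.Agent.Lib.Helper15
open Cfsg.Agent.Lib.Helper15.Dk

section general
variable {G : Type*} [Group G]

/-- a subgroup isomorphic to `A₄` has a normal subgroup of order 4 -/
theorem exists_normal_four_of_A4 (M : Subgroup G) (e : M ≃* alternatingGroup (Fin 4)) :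
    ∃ V : Subgroup G, V ≤ M ∧ Nat.card V = 4 ∧ M ≤ Subgroup.normalizer (V : Set G) := by
  have h4' : Nat.card (Fin 4) = 4 := by simp
  have hVn : (alternatingGroup.kleinFour (Fin 4)).Normal := alternatingGroup.normal_kleinFour h4'
  have hVc : Nat.card (alternatingGroup.kleinFour (Fin 4)) = 4 :=
    alternatingGroup.kleinFour_card_of_card_eq_four h4'
  set V' : Subgroup M := (alternatingGroup.kleinFour (Fin 4)).comap e.toMonoidHom with hV'
  have hV'n : V'.Normal := hVn.comap _
  have hV'c : Nat.card V' = 4 := by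
    rw [← hVc, hV']
    exact card_comap_equiv e _
  set V : Subgroup G := V'.map M.subtype with hV
  have hVM : V ≤ M := Subgroup.map_subtype_le _
  refine ⟨V, hVM, ?_, ?_⟩
  · rw [hV, Subgroup.card_map_of_injective M.subtype_injective]; exact hV'c
  · rw [← Subgroup.normal_subgroupOf_iff_le_normalizer hVM]
    have : V.subgroupOf M = V' := by
      ext y
      rw [Subgroup.mem_subgroupOf]
      constructor
      · rintro ⟨z, hz, hzy⟩
        have : z = y := Subtype.ext hzy
        rw [← this]; exact hz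
      · intro hy
        exact ⟨y, hy, rfl⟩
    rw [this]; exact hV'n

end general

section psl
variable {F : Type*} [Field F] [Fintype F]

/-- the normalizer of a torus normalizes every subgroup of the torus -/
theorem normalizer_torus_le (g : SpecialLinearGroup (Fin 2) F)
    (hg : ¬ IsScalar2 (g : Matrix (Fin 2) (Fin 2) F))
    (ht : (g : Matrix (Fin 2) (Fin 2) F).trace ^ 2 ≠ 4)
    (R : Subgroup (ProjectiveSpecialLinearGroup (Fin 2) F)) (hR : R ≤ Tor g) :
    Subgroup.normalizer ((Tor g : Subgroup (ProjectiveSpecialLinearGroup (Fin 2) F)) :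
        Set (ProjectiveSpecialLinearGroup (Fin 2) F)) ≤
      Subgroup.normalizer (R : Set (ProjectiveSpecialLinearGroup (Fin 2) F)) := by
  obtain ⟨hcyc, -, -, hprop⟩ := torus_normalizer g hg ht
  have hTcomm : ∀ a ∈ Tor g, ∀ b ∈ Tor g, a * b = b * a := by
    intro a ha b hb
    have := mul_comm_of_isCyclic (G := Tor g) ⟨a, ha⟩ ⟨b, hb⟩
    exact congrArg Subtype.val this
  intro y hy
  have hconj : ∀ z ∈ R, y * z * y⁻¹ ∈ R ∧ y⁻¹ * z * y ∈ R := by
    intro z hz
    by_cases hyT : y ∈ Tor g
    · have h1 := hTcomm y hyT z (hR hz)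
      constructor
      · rw [h1, mul_inv_cancel_right]; exact hz
      · rw [mul_assoc, ← h1, inv_mul_cancel_left]; exact hz
    · have h1 := (hprop y hy hyT).2 z (hR hz)
      constructor
      · rw [h1]; exact R.inv_mem hz
      · have h2 : y⁻¹ * z * y = z⁻¹ := by
          have : z = y⁻¹ * z⁻¹ * y := by rw [← h1]; group
          calc y⁻¹ * z * y = y⁻¹ * (y⁻¹ * z⁻¹ * y) * y := by rw [← this]
            _ = (y⁻¹ * y⁻¹) * z⁻¹ * (y * y) := by group
            _ = z⁻¹ := by
                have hyy := (hprop y hy hyT).1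
                have hyy' : y⁻¹ * y⁻¹ = 1 := by
                  rw [← _root_.mul_inv_rev, hyy, inv_one]
                rw [hyy, hyy', one_mul, mul_one]
        rw [h2]; exact R.inv_mem hz
  rw [Subgroup.mem_normalizer_iff]
  intro z
  constructor
  · intro hz; exact (hconj z hz).1
  · intro hz
    have := (hconj _ hz).2
    have e : y⁻¹ * (y * z * y⁻¹) * y = z := by group
    rw [e] at this; exact this

/-- a non-scalar element of `SL₂` with scalar square has trace `0` -/
theorem trace_eq_zero_of_sq_scalar (m : SpecialLinearGroup (Fin 2) F)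
    (hm : ¬ IsScalar2 (m : Matrix (Fin 2) (Fin 2) F))
    (hmm : IsScalar2 ((m * m : SpecialLinearGroup (Fin 2) F) : Matrix (Fin 2) (Fin 2) F)) :
    (m : Matrix (Fin 2) (Fin 2) F).trace = 0 := by
  have hco : ((m * m : SpecialLinearGroup (Fin 2) F) : Matrix (Fin 2) (Fin 2) F) =
      (m : Matrix (Fin 2) (Fin 2) F) * (m : Matrix (Fin 2) (Fin 2) F) := Matrix.SpecialLinearGroup.coe_mul m m
  rw [hco] at hmm
  obtain ⟨h01, h10, h00⟩ := hmm
  simp only [Matrix.mul_apply, Fin.sum_univ_two] at h01 h10 h00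
  rw [Matrix.trace_fin_two]
  by_contra htr
  apply hm
  set a := (m : Matrix (Fin 2) (Fin 2) F) 0 0
  set b := (m : Matrix (Fin 2) (Fin 2) F) 0 1
  set c := (m : Matrix (Fin 2) (Fin 2) F) 1 0
  set d := (m : Matrix (Fin 2) (Fin 2) F) 1 1
  have hb : b * (a + d) = 0 := by linear_combination h01
  have hc : c * (a + d) = 0 := by linear_combination h10
  have hd : (a - d) * (a + d) = 0 := by linear_combination h00
  refine ⟨?_, ?_, ?_⟩
  · exact (mul_eq_zero.1 hb).resolve_right htr
  · exact (mul_eq_zero.1 hc).resolve_right htr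
  · exact sub_eq_zero.1 ((mul_eq_zero.1 hd).resolve_right htr)

variable (hF : Fintype.card F = 13)
include hF

/-- data for subgroups of order 2 -/
theorem data2 (T : Subgroup (ProjectiveSpecialLinearGroup (Fin 2) F)) (hT : Nat.card T = 2) :
    Nat.card (Subgroup.normalizer (T : Set (ProjectiveSpecialLinearGroup (Fin 2) F))) = 12 := by
  have hTbot : T ≠ ⊥ := by
    intro h
    rw [h, Subgroup.card_bot] at hT
    omega
  obtain ⟨⟨t, htT⟩, ht1'⟩ := Subgroup.ne_bot_iff_exists_ne_one.1 hTbot
  have ht1 : t ≠ 1 := by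
    intro h; apply ht1'; exact Subtype.ext h
  have htt : t * t = 1 := by
    have h := pow_card_eq_one' (G := T) (x := ⟨t, htT⟩)
    rw [hT] at h
    have := congrArg Subtype.val h
    simpa [pow_two] using this
  have hord : orderOf t = 2 := orderOf_eq_prime (by rw [pow_two]; exact htt) ht1
  have hTz : T = Subgroup.zpowers t := by
    symm
    apply Subgroup.eq_of_le_of_card_ge
    · rw [Subgroup.zpowers_le]; exact htT
    · rw [Nat.card_zpowers, hord, hT]
  obtain ⟨m, rfl⟩ := toPSL2_surjective t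
  have hm1 : ¬ IsScalar2 (m : Matrix (Fin 2) (Fin 2) F) := by
    rw [← toPSL2_eq_one_iff']; exact ht1
  have hmm : IsScalar2 ((m * m : SpecialLinearGroup (Fin 2) F) : Matrix (Fin 2) (Fin 2) F) := by
    rw [← toPSL2_eq_one_iff', map_mul]; exact htt
  have htr := trace_eq_zero_of_sq_scalar m hm1 hmm
  have ht4 : (m : Matrix (Fin 2) (Fin 2) F).trace ^ 2 ≠ 4 := by
    rw [htr]
    intro h
    apply four_ne_zero13 hF
    rw [← h]; ring
  obtain ⟨hcyc, hcardN, -, hprop⟩ := torus_normalizer m hm1 ht4
  have hmT : toPSL2 F m ∈ Tor m := self_mem_Tor m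
  have hcardT : Nat.card (Tor m) = 6 := by
    have h1 := card_Tor_mul m
    rw [card_center13 hF] at h1
    have h2 : 2 ∣ Nat.card (Tor m) := by
      have := orderOf_dvd_natCard (⟨toPSL2 F m, hmT⟩ : Tor m)
      rw [← Subgroup.orderOf_coe] at this
      simp only at this
      rw [hord] at this
      exact this
    rcases card_torus m hm1 ht4 with h | h
    · rw [h, hF] at h1; omega
    · rw [h, hF] at h1; omega
  have hTle : T ≤ Tor m := by
    rw [hTz, Subgroup.zpowers_le]; exact hmT
  have h1 := normalizer_sub_torus hF m hm1 T hTle hTbot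
  have h2 := normalizer_torus_le m hm1 ht4 T hTle
  rw [le_antisymm h1 h2, hcardN, hcardT]

/-- data for subgroups of order 4 -/
theorem data4 (V : Subgroup (ProjectiveSpecialLinearGroup (Fin 2) F)) (hV : Nat.card V = 4) :
    Nat.card (Subgroup.normalizer (V : Set (ProjectiveSpecialLinearGroup (Fin 2) F))) = 12 := by
  have : Fact (Nat.Prime 13) := ⟨by norm_num⟩
  have : Fact (Nat.Prime 2) := ⟨by norm_num⟩
  have hsimple := isSimple13 hF
  obtain ⟨M, hMco, ⟨e⟩⟩ := exists_coatom_A4 (F := F) 13 hF (by norm_num) (Or.inr (by norm_num))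
    ⟨by norm_num, by norm_num⟩
  obtain ⟨V₀, hV₀M, hV₀c, hMV₀⟩ := exists_normal_four_of_A4 M e
  have hMcard : Nat.card M = 12 := by
    rw [Nat.card_congr e.toEquiv, card_A4]
  have hN : Subgroup.normalizer (V₀ : Set (ProjectiveSpecialLinearGroup (Fin 2) F)) = M := by
    by_contra hne
    have hlt : M < Subgroup.normalizer (V₀ : Set (ProjectiveSpecialLinearGroup (Fin 2) F)) :=
      lt_of_le_of_ne hMV₀ (Ne.symm hne)
    have htop := hMco.2 _ hlt
    have hn : V₀.Normal := Subgroup.normalizer_eq_top_iff.1 htop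
    rcases hn.eq_bot_or_eq_top with h | h
    · rw [h, Subgroup.card_bot] at hV₀c; omega
    · rw [h, Subgroup.card_top, card_PSL13 hF] at hV₀c; omega
  obtain ⟨c, hc⟩ := exists_conj_of_card V₀ V 2 2 273 (by rw [card_PSL13 hF]; norm_num) (by norm_num)
    (by rw [hV₀c]; norm_num) (by rw [hV]; norm_num)
  rw [hc, Dk.normalizer_conj_smul, card_conj_smul, hN, hMcard]

/-- S4234 for `PSL₂(13)` itself -/
theorem psl13_coatom (H : Subgroup (ProjectiveSpecialLinearGroup (Fin 2) F)) (hH : ¬ H.Normal) :
    IsCoatom (Subgroup.normalizer (H : Set (ProjectiveSpecialLinearGroup (Fin 2) F))) := by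
  have hsimple := isSimple13 hF
  exact isCoatom_normalizer (card_PSL13 hF) (data7 hF) (data13 hF) (data3 hF) (data2 hF) (data4 hF)
    H hH

end psl

end Cfsg.Agent.Lib.Helper9.P13
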