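import Mathlib

/-!
# S4234 (helper9): reduction lemmas.  The property "every non-normal subgroup has a maximal
normalizer" is invariant under isomorphism, passes to direct products with abelian groups of
coprime order, and lifts through central extensions by a group of order 2 containing all
involutions.
-/

set_option autoImplicit false

namespace Cfsg.Agent.Lib.Helper9.P13

/-- every non-normal subgroup has a maximal normalizer -/
def MaxNorm (G : Type*) [Group G] : Prop :=
  ∀ H : Subgroup G, ¬ H.Normal → IsCoatom (Subgroup.normalizer (H : Set G))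

section iso
variable {K L : Type*} [Group K] [Group L]

theorem MaxNorm.of_equiv (e : K ≃* L) (h : MaxNorm L) : MaxNorm K := by
  intro H hH
  have hH' : ¬ (H.map e.toMonoidHom).Normal := by
    intro hn
    apply hH
    have h1 := hn.comap e.toMonoidHom
    have h2 : (H.map e.toMonoidHom).comap e.toMonoidHom = H :=
      Subgroup.comap_map_eq_self_of_injective e.injective H
    rw [h2] at h1
    exact h1
  have h1 := h _ hH'
  rw [← Subgroup.map_equiv_normalizer_eq] at h1
  exact (OrderIso.isCoatom_iff e.mapSubgroup _).1 h1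

end iso

section prod
variable {K S : Type*} [Group K]

theorem prod_eq_of_coprime [Group S] [Finite K] [Finite S]
    (hKS : (Nat.card K).Coprime (Nat.card S)) (H : Subgroup (K × S)) :
    H = (H.map (MonoidHom.fst K S)).prod (H.map (MonoidHom.snd K S)) := by
  ext ⟨k, s⟩
  rw [Subgroup.mem_prod]
  constructor
  · intro h
    exact ⟨⟨(k, s), h, rfl⟩, ⟨(k, s), h, rfl⟩⟩
  · rintro ⟨⟨⟨k₁, s₁⟩, h1, hk⟩, ⟨⟨k₂, s₂⟩, h2, hs⟩⟩
    simp only [MonoidHom.coe_fst, MonoidHom.coe_snd] at hk hs
    subst hk hs
    -- `(k₁, 1) ∈ H`
    obtain ⟨n, hn1, hn0⟩ := Nat.chineseRemainder hKS 1 0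
    have hk1 : ((k₁, 1) : K × S) ∈ H := by
      have h3 := H.pow_mem h1 n
      have e1 : k₁ ^ n = k₁ := by
        rw [← pow_mod_natCard, hn1, pow_mod_natCard, pow_one]
      have e2 : s₁ ^ n = 1 := by
        rw [← pow_mod_natCard, hn0, pow_mod_natCard, pow_zero]
      have : ((k₁, s₁) : K × S) ^ n = (k₁, 1) := by
        rw [Prod.pow_mk, e1, e2]
      rw [this] at h3
      exact h3
    obtain ⟨n', hn'0, hn'1⟩ := Nat.chineseRemainder hKS 0 1
    have hs2 : ((1, s₂) : K × S) ∈ H := by
      have h3 := H.pow_mem h2 n'
      have e1 : k₂ ^ n' = 1 := by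
        rw [← pow_mod_natCard, hn'0, pow_mod_natCard, pow_zero]
      have e2 : s₂ ^ n' = s₂ := by
        rw [← pow_mod_natCard, hn'1, pow_mod_natCard, pow_one]
      have : ((k₂, s₂) : K × S) ^ n' = (1, s₂) := by
        rw [Prod.pow_mk, e1, e2]
      rw [this] at h3
      exact h3
    have := H.mul_mem hk1 hs2
    simpa using this

theorem normalizer_prod_eq [CommGroup S] (H₁ : Subgroup K) (H₂ : Subgroup S) :
    Subgroup.normalizer ((H₁.prod H₂ : Subgroup (K × S)) : Set (K × S)) =
      (Subgroup.normalizer (H₁ : Set K)).prod ⊤ := by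
  ext ⟨k, s⟩
  rw [Subgroup.mem_normalizer_iff, Subgroup.mem_prod]
  constructor
  · intro h
    refine ⟨?_, Subgroup.mem_top _⟩
    rw [Subgroup.mem_normalizer_iff]
    intro x
    have := h (x, 1)
    simp only [Subgroup.mem_prod, Prod.mk_mul_mk, Prod.inv_mk, mul_one, mul_inv_cancel,
      Subgroup.one_mem, and_true] at this
    exact this
  · rintro ⟨hk, -⟩
    rw [Subgroup.mem_normalizer_iff] at hk
    rintro ⟨x, y⟩
    simp only [Subgroup.mem_prod, Prod.mk_mul_mk, Prod.inv_mk]
    rw [← hk x, mul_comm s y, mul_inv_cancel_right]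

theorem isCoatom_prod_top [Group S] (M : Subgroup K) (hM : IsCoatom M) :
    IsCoatom (M.prod (⊤ : Subgroup S)) := by
  constructor
  · intro h
    apply hM.1
    rw [eq_top_iff]
    intro k _
    have : ((k, 1) : K × S) ∈ M.prod (⊤ : Subgroup S) := by rw [h]; trivial
    exact (Subgroup.mem_prod.1 this).1
  · intro X hX
    set X₁ : Subgroup K := X.comap (MonoidHom.inl K S) with hX₁
    have hS : ∀ s : S, ((1, s) : K × S) ∈ X := by
      intro s
      apply hX.le
      rw [Subgroup.mem_prod]
      exact ⟨M.one_mem, Subgroup.mem_top _⟩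
    have hMX₁ : M ≤ X₁ := by
      intro k hk
      show ((k, 1) : K × S) ∈ X
      apply hX.le
      rw [Subgroup.mem_prod]
      exact ⟨hk, Subgroup.mem_top _⟩
    have hne : M ≠ X₁ := by
      intro h
      apply hX.not_ge
      rintro ⟨k, s⟩ hks
      rw [Subgroup.mem_prod]
      refine ⟨?_, Subgroup.mem_top _⟩
      rw [h]
      show ((k, 1) : K × S) ∈ X
      have := X.mul_mem hks (hS s⁻¹)
      simpa using this
    have htop := hM.2 X₁ (lt_of_le_of_ne hMX₁ hne)
    rw [eq_top_iff]
    rintro ⟨k, s⟩ _
    have hk : ((k, 1) : K × S) ∈ X := by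
      have : k ∈ X₁ := by rw [htop]; trivial
      exact this
    have := X.mul_mem hk (hS s)
    simpa using this

theorem MaxNorm.prod [CommGroup S] [Finite K] [Finite S]
    (hKS : (Nat.card K).Coprime (Nat.card S)) (h : MaxNorm K) : MaxNorm (K × S) := by
  intro H hH
  have hdec := prod_eq_of_coprime hKS H
  set H₁ := H.map (MonoidHom.fst K S) with hH₁
  set H₂ := H.map (MonoidHom.snd K S) with hH₂
  have hN : Subgroup.normalizer (H : Set (K × S)) = (Subgroup.normalizer (H₁ : Set K)).prod ⊤ := by
    conv_lhs => rw [hdec]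
    exact normalizer_prod_eq H₁ H₂
  have hH₁n : ¬ H₁.Normal := by
    intro hn
    apply hH
    rw [← Subgroup.normalizer_eq_top_iff, hN, Subgroup.normalizer_eq_top_iff.2 hn]
    exact Subgroup.top_prod_top
  rw [hN]
  exact isCoatom_prod_top _ (h H₁ hH₁n)

end prod

section quot
variable {L Q : Type*} [Group L] [Group Q]

theorem isCoatom_comap (π : L →* Q) (hπ : Function.Surjective π) (N : Subgroup Q)
    (hN : IsCoatom N) : IsCoatom (N.comap π) := by
  constructor
  · intro h
    apply hN.1
    rw [← Subgroup.map_comap_eq_self_of_surjective hπ N, h, ← MonoidHom.range_eq_map,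
      MonoidHom.range_eq_top.2 hπ]
  · intro M hM
    have hker : π.ker ≤ M := by
      refine le_trans ?_ hM.le
      intro x hx
      rw [Subgroup.mem_comap, MonoidHom.mem_ker.1 hx]
      exact N.one_mem
    have hMc : (M.map π).comap π = M := by
      rw [Subgroup.comap_map_eq, sup_eq_left.2 hker]
    have hle : N ≤ M.map π := by
      rw [← Subgroup.map_comap_eq_self_of_surjective hπ N]
      exact Subgroup.map_mono hM.le
    have hne : N ≠ M.map π := by
      intro h
      apply hM.ne
      rw [h, hMc]
    have htop := hN.2 _ (lt_of_le_of_ne hle hne)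
    rw [← hMc, htop, Subgroup.comap_top]

/-- lifting `MaxNorm` through a central extension by a group of order 2 containing all
involutions -/
theorem MaxNorm.of_central_two [Finite L] (π : L →* Q) (hπ : Function.Surjective π)
    (hcent : π.ker ≤ Subgroup.center L) (hcard : Nat.card π.ker = 2)
    (hinv : ∀ x : L, x * x = 1 → x ∈ π.ker) (h : MaxNorm Q) : MaxNorm L := by
  intro H hH
  have hz2 : ∀ z ∈ π.ker, z * z = 1 := by
    intro z hz
    have h1 := pow_card_eq_one' (G := π.ker) (x := ⟨z, hz⟩)
    rw [hcard] at h1
    have := congrArg Subtype.val h1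
    simpa [pow_two] using this
  -- key: elements normalizing the image normalize `H`
  have key : ∀ g : L, π g ∈ Subgroup.normalizer ((H.map π : Subgroup Q) : Set Q) →
      ∀ x ∈ H, g * x * g⁻¹ ∈ H := by
    intro g hg x hx
    have h1 : π (g * x * g⁻¹) ∈ H.map π := by
      rw [map_mul, map_mul, map_inv]
      exact (Subgroup.mem_normalizer_iff.1 hg _).1 ⟨x, hx, rfl⟩
    obtain ⟨x', hx', hxx'⟩ := h1
    set z := x'⁻¹ * (g * x * g⁻¹) with hz
    have hzker : z ∈ π.ker := by
      rw [MonoidHom.mem_ker, hz, map_mul, map_inv, hxx', inv_mul_cancel]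
    have hgx : g * x * g⁻¹ = x' * z := by rw [hz]; group
    by_cases hZH : π.ker ≤ H
    · rw [hgx]; exact H.mul_mem hx' (hZH hzker)
    · -- `H` has odd order
      have hodd : ¬ 2 ∣ Nat.card H := by
        intro h2
        have : Fact (Nat.Prime 2) := ⟨Nat.prime_two⟩
        obtain ⟨y, hy⟩ := exists_prime_orderOf_dvd_card' (G := H) 2 h2
        have hy2 : (y : L) * y = 1 := by
          have := pow_orderOf_eq_one y
          rw [hy] at this
          have := congrArg Subtype.val this
          simpa [pow_two] using this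
        have hy1 : (y : L) ≠ 1 := by
          intro h1
          have : y = 1 := Subtype.ext h1
          rw [this, orderOf_one] at hy
          omega
        have hyker : (y : L) ∈ π.ker := hinv _ hy2
        apply hZH
        intro w hw
        -- `ker = {1, y}`
        have hsub : Subgroup.zpowers (y : L) = π.ker := by
          apply Subgroup.eq_of_le_of_card_ge
          · rw [Subgroup.zpowers_le]; exact hyker
          · rw [hcard, Nat.card_zpowers, Subgroup.orderOf_coe, hy]
        rw [← hsub] at hw
        exact (Subgroup.zpowers_le.2 y.2) hw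
      set n := Nat.card H with hn
      have hn2 : n % 2 = 1 := by omega
      have hxn : x ^ n = 1 := by
        have h5 := pow_card_eq_one' (G := H) (x := ⟨x, hx⟩)
        have h6 := congrArg Subtype.val h5
        rw [Subgroup.coe_pow, Subgroup.coe_one] at h6
        exact h6
      have hx'n : x' ^ n = 1 := by
        have h5 := pow_card_eq_one' (G := H) (x := ⟨x', hx'⟩)
        have h6 := congrArg Subtype.val h5
        rw [Subgroup.coe_pow, Subgroup.coe_one] at h6
        exact h6
      have hcomm : Commute x' z := by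
        have := hcent hzker
        rw [Subgroup.mem_center_iff] at this
        exact (this x')
      have h3 : (g * x * g⁻¹) ^ n = 1 := by
        rw [conj_pow, hxn, mul_one, mul_inv_cancel]
      have h4 : (x' * z) ^ n = z ^ n := by
        rw [hcomm.mul_pow, hx'n, one_mul]
      have hzn : z ^ n = z := by
        have : n = 2 * (n / 2) + 1 := by omega
        rw [this, pow_succ, pow_mul, pow_two, hz2 z hzker, one_pow, one_mul]
      have hz1 : z = 1 := by
        rw [← hzn, ← h4, ← hgx, h3]
      rw [hgx, hz1, mul_one]; exact hx'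
  have hNeq : Subgroup.normalizer (H : Set L) =
      (Subgroup.normalizer ((H.map π : Subgroup Q) : Set Q)).comap π := by
    apply le_antisymm
    · intro g hg
      rw [Subgroup.mem_comap]
      exact Subgroup.le_normalizer_map π ⟨g, hg, rfl⟩
    · intro g hg
      rw [Subgroup.mem_comap] at hg
      rw [Subgroup.mem_normalizer_iff]
      intro x
      constructor
      · intro hx; exact key g hg x hx
      · intro hx
        have hg' : π g⁻¹ ∈ Subgroup.normalizer ((H.map π : Subgroup Q) : Set Q) := by
          rw [map_inv]; exact Subgroup.inv_mem _ hg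
        have := key g⁻¹ hg' _ hx
        have e : g⁻¹ * (g * x * g⁻¹) * g⁻¹⁻¹ = x := by group
        rw [e] at this; exact this
  have hHn : ¬ (H.map π).Normal := by
    intro hn
    apply hH
    rw [← Subgroup.normalizer_eq_top_iff, hNeq, Subgroup.normalizer_eq_top_iff.2 hn,
      Subgroup.comap_top]
  rw [hNeq]
  exact isCoatom_comap π hπ _ (h _ hHn)

end quot

end Cfsg.Agent.Lib.Helper9.P13
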