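import Mathlib
import Cfsg.Agent.Lib.Helper9.P13D
import Cfsg.Agent.Lib.Helper9.P13E

/-!
# S4234 (helper9): `MaxNorm` for `PSL₂(13)` and `SL₂(13)`.
-/

set_option autoImplicit false

namespace Cfsg.Agent.Lib.Helper9.P13

open Matrix
open Cfsg.Agent.Lib.Helper14
open Cfsg.Agent.Lib.Helper15
open Cfsg.Agent.Lib.Helper15.Dk

section psl
variable {F : Type*} [Field F] [Fintype F] (hF : Fintype.card F = 13)
include hF

theorem maxNorm_PSL13 : MaxNorm (ProjectiveSpecialLinearGroup (Fin 2) F) :=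
  fun H hH => psl13_coatom hF H hH

theorem maxNorm_SL13 : MaxNorm (SpecialLinearGroup (Fin 2) F) := by
  have h2 := two_ne_zero13 hF
  have hker : (toPSL2 F).ker = Subgroup.center (SpecialLinearGroup (Fin 2) F) := by
    unfold toPSL2
    exact QuotientGroup.ker_mk' _
  apply MaxNorm.of_central_two (toPSL2 F) toPSL2_surjective ?_ ?_ ?_ (maxNorm_PSL13 hF)
  · rw [hker]
  · rw [hker]; exact card_center13 hF
  · intro x hx
    rw [hker, mem_center_SL2_iff h2]
    exact eq_one_or_neg_one_of_mul_self h2 x hx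

end psl

/-- S4234 -/
theorem main_S4234 {K S : Type*} [Group K] [CommGroup S] [Finite K] [Finite S]
    (hK : Nonempty (K ≃* Matrix.ProjectiveSpecialLinearGroup (Fin 2) (ZMod 13)) ∨
      Nonempty (K ≃* Matrix.SpecialLinearGroup (Fin 2) (ZMod 13)))
    (hKS : (Nat.card K).Coprime (Nat.card S)) : MaxNorm (K × S) := by
  have : Fact (Nat.Prime 13) := ⟨by norm_num⟩
  have hF : Fintype.card (ZMod 13) = 13 := ZMod.card 13
  apply MaxNorm.prod hKS
  rcases hK with ⟨⟨e⟩⟩ | ⟨⟨e⟩⟩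
  · exact MaxNorm.of_equiv e (maxNorm_PSL13 hF)
  · exact MaxNorm.of_equiv e (maxNorm_SL13 hF)

end Cfsg.Agent.Lib.Helper9.P13
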