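import Mathlib
import Cfsg.Prelude.Def_Characters
import Cfsg.Prelude.Def_Blocks
import Cfsg.Agent.Lib.Helper11.IndLinear
import Cfsg.Agent.Lib.Helper24.FongReynolds
import Cfsg.Agent.Lib.Helper20.A10Core

/-!
# S3670, piece (H) (helper9): a solvable group of order 6048 with an irreducible character of degree 42

`H = R ⋊ Rˣ`, the affine group of the ring `R = F_8 × ℤ/18` (`|R| = 144`, `|Rˣ| = 7 · 6 = 42`).
A primitive additive character `ψ` of `R` has trivial stabiliser in `Rˣ`, so the character induced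
from the translation subgroup is irreducible (Mackey criterion of helper11) of degree `|Rˣ| = 42`.
-/

set_option autoImplicit false

namespace Cfsg.Agent.Lib.Helper9.S3670H

open Cfsg Cfsg.Agent.Lib.Helper20 Multiplicative

section generic

variable (R : Type) [CommRing R]

/-- the affine group `R ⋊ Rˣ` of a commutative ring -/
abbrev Aff : Type := A10Core.G Rˣ R

variable {R}

theorem aff_solvable : Group.IsSolvable (Aff R) :=
  Group.isSolvable_of_ker_le_range (SemidirectProduct.inl : Multiplicative R →* Aff R)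
    (SemidirectProduct.rightHom : Aff R →* Rˣ)
    (by rw [SemidirectProduct.range_inl_eq_ker_rightHom])

theorem aff_card : Nat.card (Aff R) = Nat.card R * Nat.card Rˣ := by
  rw [SemidirectProduct.card, Nat.card_congr (Multiplicative.toAdd (α := R))]

/-- the translation subgroup -/
def NN : Subgroup (Aff R) := (SemidirectProduct.rightHom : Aff R →* Rˣ).ker

theorem mem_NN (x : Aff R) : x ∈ NN (R := R) ↔ x.right = 1 := by
  unfold NN
  rw [MonoidHom.mem_ker, SemidirectProduct.rightHom_eq_right]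

theorem index_NN : (NN (R := R)).index = Nat.card Rˣ := by
  unfold NN
  rw [Subgroup.index_ker, MonoidHom.range_eq_top.2 SemidirectProduct.rightHom_surjective]
  exact Nat.card_congr Subgroup.topEquiv.toEquiv

/-- the linear character of the translation subgroup attached to an additive character -/
noncomputable def muHom (ψ : AddChar R ℂ) : NN (R := R) →* ℂˣ :=
  MonoidHom.toHomUnits
    { toFun := fun k => ψ (toAdd k.1.left)
      map_one' := by
        show ψ (toAdd (1 : Aff R).left) = 1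
        rw [SemidirectProduct.one_left, toAdd_one, AddChar.map_zero_eq_one]
      map_mul' := by
        intro k k'
        have hk : k.1.right = 1 := (mem_NN k.1).1 k.2
        show ψ (toAdd (k.1 * k'.1).left) = ψ (toAdd k.1.left) * ψ (toAdd k'.1.left)
        rw [SemidirectProduct.mul_left, hk, map_one, MulAut.one_apply, toAdd_mul,
          AddChar.map_add_eq_mul] }

theorem muHom_apply (ψ : AddChar R ℂ) (k : NN (R := R)) :
    ((muHom ψ k : ℂˣ) : ℂ) = ψ (toAdd k.1.left) := rfl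

theorem conj_left (x : Aff R) (a : R) :
    (x⁻¹ * (⟨ofAdd a, 1⟩ : Aff R) * x).left = ofAdd ((x.right⁻¹ : Rˣ) • a) ∧
    (x⁻¹ * (⟨ofAdd a, 1⟩ : Aff R) * x).right = 1 := by
  constructor
  · rw [SemidirectProduct.mul_left, SemidirectProduct.mul_left, SemidirectProduct.mul_right,
      SemidirectProduct.inv_left, SemidirectProduct.inv_right, mul_one]
    show (A10Core.phi Rˣ R x.right⁻¹) x.left⁻¹ * (A10Core.phi Rˣ R x.right⁻¹) (ofAdd a) *
      (A10Core.phi Rˣ R x.right⁻¹) x.left = _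
    rw [mul_right_comm, ← map_mul, inv_mul_cancel, map_one, one_mul, A10Core.phi_apply]
  · rw [SemidirectProduct.mul_right, SemidirectProduct.mul_right, SemidirectProduct.inv_right,
      mul_one, inv_mul_cancel]

theorem aff_irr [Fintype (Aff R)] (ψ : AddChar R ℂ)
    (hprim : ∀ r : R, r ≠ 0 → ∃ a : R, ψ (r * a) ≠ 1) :
    IsIrrCharacter (Aff R) (indFun (NN (R := R)) (fun k => ((muHom ψ k : ℂˣ) : ℂ))) := by
  have hirrN : IsIrrCharacter (NN (R := R)) (fun k => ((muHom ψ k : ℂˣ) : ℂ)) :=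
    Cfsg.Agent.Lib.Helper2.isIrrCharacter_of_monoidHom (muHom ψ)
  apply Cfsg.Agent.Lib.Helper11.isIrrCharacter_indFun_linear (NN (R := R))
    (Cfsg.Agent.Lib.Helper2.IsIrrCharacter.isCharacter hirrN)
  · show ((muHom ψ 1 : ℂˣ) : ℂ) = 1
    rw [map_one]; rfl
  · intro x hx
    rw [mem_NN] at hx
    have hu : ((x.right⁻¹ : Rˣ) : R) - 1 ≠ 0 := by
      intro h
      apply hx
      have : ((x.right⁻¹ : Rˣ) : R) = ((1 : Rˣ) : R) := by rw [Units.val_one]; exact sub_eq_zero.1 h
      have h2 := Units.ext this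
      exact inv_eq_one.1 h2
    obtain ⟨a, ha⟩ := hprim _ hu
    have hc := conj_left x a
    have hkN : (⟨ofAdd a, 1⟩ : Aff R) ∈ NN (R := R) := (mem_NN _).2 rfl
    refine ⟨⟨⟨ofAdd a, 1⟩, hkN⟩, (mem_NN _).2 hc.2, ?_⟩
    show ψ (toAdd (⟨ofAdd a, 1⟩ : Aff R).left) ≠ ψ (toAdd (x⁻¹ * (⟨ofAdd a, 1⟩ : Aff R) * x).left)
    rw [hc.1]
    show ψ a ≠ ψ ((x.right⁻¹ : Rˣ) • a)
    intro h
    apply ha
    have e : ((x.right⁻¹ : Rˣ) : R) * a = (((x.right⁻¹ : Rˣ) : R) - 1) * a + a := by ring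
    have h3 : ψ ((x.right⁻¹ : Rˣ) • a) = ψ ((((x.right⁻¹ : Rˣ) : R) - 1) * a) * ψ a := by
      rw [Units.smul_def, smul_eq_mul, e, AddChar.map_add_eq_mul]
    rw [h3] at h
    have hne : ψ a ≠ 0 := by
      intro h0
      have := AddChar.map_neg_eq_inv ψ a
      have h1 : ψ (a + -a) = 1 := by rw [add_neg_cancel, AddChar.map_zero_eq_one]
      rw [AddChar.map_add_eq_mul, h0, zero_mul] at h1
      exact zero_ne_one h1
    exact mul_right_cancel₀ hne
      (show ψ ((((x.right⁻¹ : Rˣ) : R) - 1) * a) * ψ a = 1 * ψ a by rw [one_mul]; exact h.symm)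

theorem aff_degree [Fintype (Aff R)] (ψ : AddChar R ℂ) :
    charDegree (indFun (NN (R := R)) (fun k => ((muHom ψ k : ℂˣ) : ℂ))) = Nat.card Rˣ := by
  classical
  have hirrN : IsIrrCharacter (NN (R := R)) (fun k => ((muHom ψ k : ℂˣ) : ℂ)) :=
    Cfsg.Agent.Lib.Helper2.isIrrCharacter_of_monoidHom (muHom ψ)
  rw [Cfsg.Agent.Lib.Helper24.charDegree_indFun
    (Cfsg.Agent.Lib.Helper2.IsIrrCharacter.isCharacter hirrN), index_NN]
  have : charDegree (fun k : NN (R := R) => ((muHom ψ k : ℂˣ) : ℂ)) = 1 := by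
    show ⌊(((muHom ψ 1 : ℂˣ) : ℂ)).re⌋₊ = 1
    rw [map_one]
    simp
  rw [this, mul_one]

end generic

section specific

/-- product of two additive characters -/
noncomputable def prodChar {A B : Type} [AddCommGroup A] [AddCommGroup B]
    (ψ₁ : AddChar A ℂ) (ψ₂ : AddChar B ℂ) : AddChar (A × B) ℂ where
  toFun p := ψ₁ p.1 * ψ₂ p.2
  map_zero_eq_one' := by simp
  map_add_eq_mul' := by
    intro p q
    simp only [Prod.fst_add, Prod.snd_add, AddChar.map_add_eq_mul]
    ring

theorem prodChar_apply {A B : Type} [AddCommGroup A] [AddCommGroup B]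
    (ψ₁ : AddChar A ℂ) (ψ₂ : AddChar B ℂ) (p : A × B) :
    prodChar ψ₁ ψ₂ p = ψ₁ p.1 * ψ₂ p.2 := rfl

/-- the ring `F_8 × ℤ/18` -/
abbrev RR : Type := GaloisField 2 3 × ZMod 18

theorem card_RR : Nat.card RR = 144 := by
  rw [Nat.card_prod, GaloisField.card 2 3 (by norm_num), Nat.card_zmod]
  norm_num

theorem card_units_RR : Nat.card RRˣ = 42 := by
  classical
  rw [Nat.card_congr (MulEquiv.prodUnits (M := GaloisField 2 3) (N := ZMod 18)).toEquiv,
    Nat.card_prod]
  have h1 : Nat.card (GaloisField 2 3)ˣ = 7 := by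
    have : Fintype (GaloisField 2 3) := Fintype.ofFinite _
    rw [Nat.card_eq_fintype_card, Fintype.card_units, ← Nat.card_eq_fintype_card,
      GaloisField.card 2 3 (by norm_num)]
    norm_num
  have h2 : Nat.card (ZMod 18)ˣ = 6 := by
    rw [Nat.card_eq_fintype_card, ZMod.card_units_eq_totient]
    decide
  rw [h1, h2]

theorem exists_prim : ∃ ψ : AddChar RR ℂ, ∀ r : RR, r ≠ 0 → ∃ a : RR, ψ (r * a) ≠ 1 := by
  obtain ⟨ψ₁, h₁⟩ := (AddChar.exists_apply_ne_zero (α := GaloisField 2 3) (a := 1)).2 one_ne_zero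
  have h₂ := ZMod.isPrimitive_stdAddChar 18
  refine ⟨prodChar ψ₁ ZMod.stdAddChar, ?_⟩
  intro r hr
  by_cases hr1 : r.1 = 0
  · have hr2 : r.2 ≠ 0 := by
      intro h
      exact hr (Prod.ext hr1 h)
    obtain ⟨y, hy⟩ := (AddChar.ne_one_iff).1 (h₂ hr2)
    rw [AddChar.mulShift_apply] at hy
    refine ⟨(0, y), ?_⟩
    rw [prodChar_apply]
    show ψ₁ (r.1 * 0) * ZMod.stdAddChar (r.2 * y) ≠ 1
    rw [mul_zero, AddChar.map_zero_eq_one, one_mul]
    exact hy
  · refine ⟨(r.1⁻¹, 0), ?_⟩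
    rw [prodChar_apply]
    show ψ₁ (r.1 * r.1⁻¹) * ZMod.stdAddChar (r.2 * 0) ≠ 1
    rw [mul_zero, AddChar.map_zero_eq_one, mul_one, mul_inv_cancel₀ hr1]
    exact h₁

/-- (H) the solvable side of S3670 -/
theorem hside : ∃ (H : Type) (_ : Group H) (_ : Fintype H), Group.IsSolvable H ∧ Nat.card H = 6048 ∧
    ∃ χ : Cfsg.IrrCharacter H, 42 ∣ Cfsg.charDegree (χ : H → ℂ) := by
  have : Finite (Aff RR) := Finite.of_equiv _ (SemidirectProduct.equivProd (N := Multiplicative RR)
    (G := RRˣ) (φ := A10Core.phi RRˣ RR)).symm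
  let iF : Fintype (Aff RR) := Fintype.ofFinite _
  obtain ⟨ψ, hψ⟩ := exists_prim
  refine ⟨Aff RR, inferInstance, iF, aff_solvable, ?_, ⟨_, aff_irr ψ hψ⟩, ?_⟩
  · rw [aff_card, card_RR, card_units_RR]
  · show 42 ∣ charDegree (indFun (NN (R := RR)) (fun k => ((muHom ψ k : ℂˣ) : ℂ)))
    rw [aff_degree, card_units_RR]

end specific

end Cfsg.Agent.Lib.Helper9.S3670H
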