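import Mathlib
import Cfsg.Prelude.Def_GeometricClasses
import Cfsg.Agent.Lib.Helper7.AschDefs
import Cfsg.Agent.Lib.Helper3.AschC6Defs
import Cfsg.Agent.Lib.Helper3.AschC6Basic

set_option autoImplicit false

namespace Cfsg.Agent.Lib.Helper9.S5630I6BCardZ

open Matrix Cfsg.Geo Cfsg.Agent.Lib.Helper7.Asch Cfsg.Agent.Lib.Helper3.AschC6
open scoped commutatorElement

variable {F : Type*} [Field F] {n : ℕ}

/-- the scalar embedding `Fˣ → GL_n(F)` -/
def scal (n : ℕ) (F : Type*) [Field F] : Fˣ →* GL (Fin n) F :=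
  Units.map (Matrix.scalar (Fin n) : F →+* Matrix (Fin n) (Fin n) F).toMonoidHom

theorem scal_injective (hn : 0 < n) : Function.Injective (scal n F) := by
  have : Nonempty (Fin n) := ⟨⟨0, hn⟩⟩
  intro a b hab
  have h1 : ((scal n F a : GL (Fin n) F) : Matrix (Fin n) (Fin n) F) =
      ((scal n F b : GL (Fin n) F) : Matrix (Fin n) (Fin n) F) := by rw [hab]
  have h2 : (Matrix.scalar (Fin n) : F →+* Matrix (Fin n) (Fin n) F) (a : F) =
      (Matrix.scalar (Fin n) : F →+* Matrix (Fin n) (Fin n) F) (b : F) := h1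
  exact Units.ext (Matrix.scalar_inj.mp h2)

theorem scal_mem_scalars (c : Fˣ) : scal n F c ∈ scalars (Fin n) F := ⟨c, rfl⟩

theorem exists_scal_of_mem_scalars (x : GL (Fin n) F) (hx : x ∈ scalars (Fin n) F) :
    ∃ c : Fˣ, scal n F c = x := hx

variable [Fintype F] {H R : Subgroup (GL (Fin n) F)} {r : ℕ}

/-- **R-CARDZ** the centre of `R` is the group of scalars of order dividing `r·gcd(2,r)` -/
theorem card_center (hn : 2 ≤ n) (hR : SympCore H R r) :
    Nat.card (Subgroup.center R) = Nat.gcd (r * Nat.gcd 2 r) (Fintype.card F - 1) := by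
  classical
  have hn0 : 0 < n := by omega
  have hinj := scal_injective (F := F) hn0
  set z := r * Nat.gcd 2 r with hz
  have hpow : ∀ c : Fˣ, c ^ z = 1 → (scal n F c) ^ z = 1 := by
    intro c hc
    rw [← map_pow, hc, map_one]
  let f : (powMonoidHom z : Fˣ →* Fˣ).ker → Subgroup.center R := fun c =>
    ⟨⟨scal n F c.1, hR.scal _ (scal_mem_scalars c.1) (hpow c.1 (by
        have := c.2
        rwa [MonoidHom.mem_ker, powMonoidHom_apply] at this))⟩,
      (mem_center_iff hR _).mpr (scal_mem_scalars c.1)⟩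
  have hf_inj : Function.Injective f := by
    intro a b hab
    have h1 : scal n F a.1 = scal n F b.1 := by
      have := congrArg (fun x : Subgroup.center R => ((x : R) : GL (Fin n) F)) hab
      exact this
    exact Subtype.ext (hinj h1)
  have hf_surj : Function.Surjective f := by
    rintro ⟨⟨x, hxR⟩, hxc⟩
    have hxs : x ∈ scalars (Fin n) F := (mem_center_iff hR ⟨x, hxR⟩).mp hxc
    obtain ⟨c, hc⟩ := exists_scal_of_mem_scalars x hxs
    have hcz : c ^ z = 1 := by
      apply hinj
      rw [map_pow, hc, map_one]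
      exact hR.exp x hxR
    refine ⟨⟨c, by rw [MonoidHom.mem_ker, powMonoidHom_apply]; exact hcz⟩, ?_⟩
    apply Subtype.ext
    apply Subtype.ext
    exact hc
  rw [← Nat.card_congr (Equiv.ofBijective f ⟨hf_inj, hf_surj⟩), IsCyclic.card_powMonoidHom_ker,
    Nat.card_units, Nat.card_eq_fintype_card, Nat.gcd_comm]

end Cfsg.Agent.Lib.Helper9.S5630I6BCardZ
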