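import Mathlib
import Cfsg.Prelude.Def_GeometricClasses
import Cfsg.Agent.Lib.Helper7.AschDefs

/-!
# Vocabulary for S5663 (Aschbacher's theorem for `GU_n(q)`, `n ≥ 3`)  (helper9)

`F` is a finite field with `q ^ 2` elements, `f = hermForm n F q` (`Σ u_i v_i ^ q`), `GU n F q` its isometry group.
Every subgroup `H ≤ GU n F q` lies in a member of one of the unitary geometric classes or is in the unitary residual class.

* `InClassU q H` : `H` lies in a member of `Cfsg.Geo.InUnitaryClass n F q`;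
* `InClassU.of_*` : one wrapper per disjunct of `InUnitaryClass` (each member is `X ⊓ GU`, so the wrappers ask for
  `H ≤ X` and `H ≤ GU`).
The vocabulary `Irr`, `AbsIrr`, `NormBy`, `QP`, `SimpleModScal` is helper7's (`Cfsg.Agent.Lib.Helper7.Asch`).
-/

set_option autoImplicit false

namespace Cfsg.Agent.Lib.Helper9.UAsch

open Matrix Cfsg Cfsg.Geo Cfsg.Agent.Lib.Helper7.Asch

variable {F : Type*} [Field F] [Fintype F] {n : ℕ}

/-- `H` lies in a member of one of the unitary geometric classes -/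
def InClassU (q : ℕ) (H : Subgroup (GL (Fin n) F)) : Prop :=
  ∃ M : Subgroup (GL (Fin n) F), InUnitaryClass n F q M ∧ H ≤ M

theorem InClassU.mono {q : ℕ} {H K : Subgroup (GL (Fin n) F)} (h : H ≤ K) (hK : InClassU q K) :
    InClassU q H := by
  obtain ⟨M, hM, hKM⟩ := hK
  exact ⟨M, hM, h.trans hKM⟩

/-- class 1: a non-zero totally singular subspace -/
theorem InClassU.of_tsSubspace (q : ℕ) (H : Subgroup (GL (Fin n) F)) (W : Submodule F (Fin n → F))
    (h0 : W ≠ ⊥) (hts : IsTotallySingularFor (hermForm n F q) W) (hH : H ≤ subspaceStabilizer W)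
    (hU : H ≤ GU n F q) : InClassU q H :=
  ⟨_, Or.inl (Or.inl ⟨W, h0, hts, rfl⟩), le_inf hH hU⟩

/-- class 1: a non-degenerate subspace of dimension less than `n / 2` -/
theorem InClassU.of_ndSubspace (q : ℕ) (H : Subgroup (GL (Fin n) F)) (W : Submodule F (Fin n → F))
    (h0 : W ≠ ⊥) (hnd : IsNondegenerateOn (hermForm n F q) W) (hdim : 2 * Module.finrank F W < n)
    (hH : H ≤ subspaceStabilizer W) (hU : H ≤ GU n F q) : InClassU q H :=
  ⟨_, Or.inl (Or.inr (Or.inl ⟨W, h0, hnd, hdim, rfl⟩)), le_inf hH hU⟩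

/-- class 2: an orthogonal decomposition into non-degenerate subspaces -/
theorem InClassU.of_ndDecomposition (q : ℕ) (H : Subgroup (GL (Fin n) F)) {t : ℕ} (k : ℕ)
    (D : Fin t → Submodule F (Fin n → F)) (hD : IsNondegenerateMDecomposition (hermForm n F q) k D)
    (hH : H ≤ decompositionStabilizer D) (hU : H ≤ GU n F q) : InClassU q H :=
  ⟨_, Or.inl (Or.inr (Or.inr (Or.inl ⟨t, k, D, hD, rfl⟩))), le_inf hH hU⟩

/-- class 2: a pair of complementary totally singular subspaces -/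
theorem InClassU.of_tsPair (q : ℕ) (H : Subgroup (GL (Fin n) F)) (k : ℕ)
    (D : Fin 2 → Submodule F (Fin n → F)) (hk : 2 * k = n) (hD : IsMDecomposition k D)
    (hts : ∀ i, IsTotallySingularFor (hermForm n F q) (D i))
    (hH : H ≤ decompositionStabilizer D) (hU : H ≤ GU n F q) : InClassU q H :=
  ⟨_, Or.inl (Or.inr (Or.inr (Or.inr (Or.inl ⟨k, D, hk, hD, hts, rfl⟩)))), le_inf hH hU⟩

/-- class 5: a subfield of odd prime index carrying the form -/
theorem InClassU.of_subfieldOdd (q : ℕ) (H : Subgroup (GL (Fin n) F)) (F₀ : Subfield F) (r : ℕ)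
    (P : GL (Fin n) F) (hr : r.Prime) (hodd : Odd r) (hc : Fintype.card F = Nat.card F₀ ^ r)
    (hrat : IsFormRationalStructure (hermForm n F q) F₀ 1 P)
    (hH : H ≤ subfieldSubgroup F₀ P) (hU : H ≤ GU n F q) : InClassU q H :=
  ⟨_, Or.inl (Or.inr (Or.inr (Or.inr (Or.inr (Or.inl ⟨F₀, r, P, hr, hodd, hc, hrat, rfl⟩))))),
    le_inf hH hU⟩

/-- class 5: the subfield of index 2, `q` odd, carrying the form (orthogonal type) -/
theorem InClassU.of_subfieldOrth (q : ℕ) (H : Subgroup (GL (Fin n) F)) (F₀ : Subfield F)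
    (P : GL (Fin n) F) (hq : Odd q) (hc : Fintype.card F = Nat.card F₀ ^ 2)
    (hrat : IsFormRationalStructure (hermForm n F q) F₀ 1 P)
    (hH : H ≤ subfieldSubgroup F₀ P) (hU : H ≤ GU n F q) : InClassU q H :=
  ⟨_, Or.inl (Or.inr (Or.inr (Or.inr (Or.inr (Or.inr (Or.inl ⟨F₀, P, hq, hc, hrat, rfl⟩)))))),
    le_inf hH hU⟩

/-- class 5: the subfield of index 2, `n` even, carrying `ζ` times the form, alternating on rational vectors
(symplectic type) -/
theorem InClassU.of_subfieldSymp (q : ℕ) (H : Subgroup (GL (Fin n) F)) (F₀ : Subfield F)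
    (P : GL (Fin n) F) (ζ : F) (hn : Even n) (hc : Fintype.card F = Nat.card F₀ ^ 2) (hζ : ζ ≠ 0)
    (hζq : ζ + ζ ^ q = 0) (hrat : IsFormRationalStructure (hermForm n F q) F₀ ζ P)
    (halt : ∀ u : Fin n → F, (∀ i, u i ∈ F₀) →
      hermForm n F q ((P : Matrix (Fin n) (Fin n) F) *ᵥ u) ((P : Matrix (Fin n) (Fin n) F) *ᵥ u) = 0)
    (hH : H ≤ subfieldSubgroup F₀ P) (hU : H ≤ GU n F q) : InClassU q H :=
  ⟨_, Or.inl (Or.inr (Or.inr (Or.inr (Or.inr (Or.inr (Or.inr (Or.inl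
    ⟨F₀, P, ζ, hn, hc, hζ, hζq, hrat, halt, rfl⟩))))))), le_inf hH hU⟩

/-- class 6: the normaliser of a symplectic-type group -/
theorem InClassU.of_symplecticType (q : ℕ) (H : Subgroup (GL (Fin n) F)) (r : ℕ)
    (R : Subgroup (GL (Fin n) F)) (p e k : ℕ) (hR : IsSymplecticTypeGroup r R)
    (habs : ActsAbsolutelyIrreducibly (matrixSet R)) (hsim : R ≤ similarityGroup (hermForm n F q))
    (hrp : r ≠ p) (hmin : IsMinimalFieldFor (Nat.card (Subgroup.center R)) p e F)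
    (hcases : (Odd r ∧ Nat.card (Subgroup.center R) = r ∧ 1 ≤ k ∧ Nat.card R = r ^ (1 + 2 * k)) ∨
      (r = 2 ∧ e = 2 ∧ Nat.card (Subgroup.center R) = 4 ∧ Nat.card R = 2 ^ (2 + 2 * k)))
    (hH : H ≤ subgroupNormalizer R) (hU : H ≤ GU n F q) : InClassU q H :=
  ⟨_, Or.inl (Or.inr (Or.inr (Or.inr (Or.inr (Or.inr (Or.inr (Or.inr
    ⟨r, R, p, e, k, hR, habs, hsim, hrp, hmin, hcases, rfl⟩))))))), le_inf hH hU⟩

/-- class 3: an adjoint-closed extension field of odd prime degree -/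
theorem InClassU.of_field (q : ℕ) (H : Subgroup (GL (Fin n) F)) (r : ℕ)
    (K : Subalgebra F (Matrix (Fin n) (Fin n) F)) (hr : r.Prime) (hodd : Odd r)
    (hK : IsFieldSubalgebra r K) (hadj : IsAdjointClosedFor (hermForm n F q) K)
    (hH : H ≤ subalgebraNormalizer K) (hU : H ≤ GU n F q) : InClassU q H :=
  ⟨_, Or.inr (Or.inl ⟨r, K, hr, hodd, hK, hadj, rfl⟩), le_inf hH hU⟩

/-- class 4: a tensor decomposition of the form into two unitary forms of different dimensions -/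
theorem InClassU.of_tensor (q : ℕ) (H : Subgroup (GL (Fin n) F)) (n₁ n₂ : ℕ)
    (e : Fin n ≃ Fin n₁ × Fin n₂) (P : GL (Fin n) F)
    (f₁ : (Fin n₁ → F) → (Fin n₁ → F) → F) (f₂ : (Fin n₂ → F) → (Fin n₂ → F) → F)
    (h1 : 2 ≤ n₁) (h2 : n₁ < n₂) (hf₁ : IsUnitaryFormPow q f₁) (hf₂ : IsUnitaryFormPow q f₂)
    (hten : IsTensorFormStructure (fun x : F => x ^ q) (hermForm n F q) f₁ f₂ e P)
    (hH : H ≤ tensorProductSubgroup n₁ n₂ e P) (hU : H ≤ GU n F q) : InClassU q H :=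
  ⟨_, Or.inr (Or.inr (Or.inl ⟨n₁, n₂, e, P, f₁, f₂, h1, h2, hf₁, hf₂, hten, rfl⟩)), le_inf hH hU⟩

/-- class 7: a decomposition of the form as a tensor power of one unitary form -/
theorem InClassU.of_tensorWreath (q : ℕ) (H : Subgroup (GL (Fin n) F)) (k t : ℕ)
    (e : Fin n ≃ (Fin t → Fin k)) (P : GL (Fin n) F) (f₁ : (Fin k → F) → (Fin k → F) → F)
    (hk : 3 ≤ k) (ht : 2 ≤ t) (hex : ¬ (q = 2 ∧ k = 3)) (hf₁ : IsUnitaryFormPow q f₁)
    (hten : IsTensorPowerFormStructure (fun x : F => x ^ q) (hermForm n F q) f₁ e P)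
    (hH : H ≤ tensorWreathSubgroup k t e P) (hU : H ≤ GU n F q) : InClassU q H :=
  ⟨_, Or.inr (Or.inr (Or.inr ⟨k, t, e, P, f₁, hk, ht, hex, hf₁, hten, rfl⟩)), le_inf hH hU⟩

end Cfsg.Agent.Lib.Helper9.UAsch
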