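import Mathlib
import Cfsg.Prelude.Def_GeometricClasses
import Cfsg.Agent.Lib.Helper7.AschDefs
import Cfsg.Agent.Lib.Helper19.HSa
import Cfsg.Agent.Lib.Helper9.UAschDefs

/-! # S5663 block U1: reducible subgroups of `GU_n(q)`  (helper9) -/

set_option autoImplicit false

namespace Cfsg.Agent.Lib.Helper9.S5663U1

open Matrix Module Cfsg Cfsg.Geo Cfsg.Agent.Lib.Helper7.Asch Cfsg.Agent.Lib.Helper9.UAsch
open Cfsg.Agent.Lib.Helper6 Cfsg.Agent.Lib.Helper19.HS

variable {F : Type*} [Field F] [Fintype F] {n : ℕ}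

/-- a subspace invariant under a subgroup is stabilised by it -/
theorem le_subspaceStabilizer_of_inv (H : Subgroup (GL (Fin n) F)) (W : Submodule F (Fin n → F))
    (h : ∀ g ∈ H, Inv (g : Matrix (Fin n) (Fin n) F) W) : H ≤ subspaceStabilizer W := by
  intro g hg v
  constructor
  · intro hv
    exact h g hg v hv
  · intro hv
    have h2 := h g⁻¹ (H.inv_mem hg) _ hv
    change ((g⁻¹ : GL (Fin n) F) : Matrix (Fin n) (Fin n) F) *ᵥ
      ((g : Matrix (Fin n) (Fin n) F) *ᵥ v) ∈ W at h2
    rwa [Matrix.mulVec_mulVec, ← Units.val_mul, inv_mul_cancel, Units.val_one, Matrix.one_mulVec] at h2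

/-- an invariant subspace is mapped onto itself -/
theorem map_eq_of_inv (g : GL (Fin n) F) (W : Submodule F (Fin n → F))
    (h1 : Inv (g : Matrix (Fin n) (Fin n) F) W)
    (h2 : Inv ((g⁻¹ : GL (Fin n) F) : Matrix (Fin n) (Fin n) F) W) :
    W.map (Matrix.toLin' (g : Matrix (Fin n) (Fin n) F)) = W := by
  apply le_antisymm
  · exact (inv_iff_map _ _).1 h1
  · intro v hv
    refine ⟨((g⁻¹ : GL (Fin n) F) : Matrix (Fin n) (Fin n) F) *ᵥ v, h2 v hv, ?_⟩
    rw [Matrix.toLin'_apply, Matrix.mulVec_mulVec, ← Units.val_mul, mul_inv_cancel, Units.val_one,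
      Matrix.one_mulVec]

theorem pres_of_mem_GU {q : ℕ} (g : GL (Fin n) F) (hg : g ∈ GU n F q) :
    Pres q (g : Matrix (Fin n) (Fin n) F) := fun u v => hg u v

theorem isNondegenerateOn_of_ND {q : ℕ} (hF : Fintype.card F = q ^ 2) {W : Submodule F (Fin n → F)}
    (hW : ND q W) : IsNondegenerateOn (hermForm n F q) W := by
  intro w hw hw0
  obtain ⟨v, hv, hne⟩ := hW w hw hw0
  refine ⟨⟨v, hv, ?_⟩, ⟨v, hv, hne⟩⟩
  intro h0
  exact hne (herm_swap_zero hF h0)

/-- **U1** reducible subgroups of `GU`: a totally singular or a small non-degenerate invariant subspace (class 1), or an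
orthogonal pair of non-degenerate subspaces of dimension `n / 2` (class 2). -/
theorem inClassU_of_not_irr (q : ℕ) (hF : Fintype.card F = q ^ 2) (hn : 3 ≤ n) (H : Subgroup (GL (Fin n) F))
    (hU : H ≤ GU n F q) (h : ¬ Irr H) : InClassU q H := by
  classical
  unfold Irr ActsIrreducibly at h
  push Not at h
  obtain ⟨W, hW, h0, h1⟩ := h
  have hpres : ∀ g ∈ H, Pres q (g : Matrix (Fin n) (Fin n) F) := fun g hg => pres_of_mem_GU g (hU hg)
  have hinvW : ∀ g ∈ H, Inv (g : Matrix (Fin n) (Fin n) F) W := fun g hg =>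
    (inv_iff_map _ _).2 (hW _ ⟨g, hg, rfl⟩)
  have hinvP : ∀ g ∈ H, Inv (g : Matrix (Fin n) (Fin n) F) (perp q W) := fun g hg =>
    (hinvW g hg).perp hF (hpres g hg)
  by_cases hR : W ⊓ perp q W = ⊥
  swap
  · -- a non-zero totally singular invariant subspace
    refine InClassU.of_tsSubspace q H (W ⊓ perp q W) hR ?_ ?_ hU
    · intro u hu v hv
      exact herm_swap_zero hF (hv.2 u hu.1)
    · exact le_subspaceStabilizer_of_inv H _ (fun g hg => (hinvW g hg).inf (hinvP g hg))
  -- `W` is non-degenerate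
  have hND : ND q W := (nd_iff W).2 hR
  have hNDP : ND q (perp q W) := nd_perp hF hND
  have hdim := finrank_perp_add hF W
  have hsup := sup_perp_eq_top hF hND
  have hWpos : 0 < finrank F W := by
    rw [Module.finrank_pos_iff_exists_ne_zero]
    obtain ⟨w, hw, hw0⟩ := Submodule.exists_mem_ne_zero_of_ne_bot h0
    exact ⟨⟨w, hw⟩, fun h => hw0 (congrArg Subtype.val h)⟩
  have hWlt : finrank F W < n := by
    have := Submodule.finrank_lt h1
    rwa [Module.finrank_fin_fun] at this
  rcases lt_trichotomy (2 * finrank F W) n with hlt | heq | hgt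
  · exact InClassU.of_ndSubspace q H W h0 (isNondegenerateOn_of_ND hF hND) hlt
      (le_subspaceStabilizer_of_inv H W hinvW) hU
  · -- an orthogonal pair
    have hk : finrank F (perp q W) = finrank F W := by omega
    let D : Fin 2 → Submodule F (Fin n → F) := ![W, perp q W]
    have hD0 : D 0 = W := rfl
    have hD1 : D 1 = perp q W := rfl
    have hdec : IsMDecomposition (finrank F W) D := by
      refine ⟨le_refl 2, hWpos, ?_, ?_, ?_⟩
      · intro i
        fin_cases i
        · rfl
        · exact hk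
      · rw [iSupIndep_pair (i := (0 : Fin 2)) (j := 1) (by decide)
          (by intro k; fin_cases k <;> simp)]
        rw [hD0, hD1, disjoint_iff]
        exact hR
      · apply le_antisymm le_top
        rw [← hsup]
        exact sup_le (le_iSup D 0) (le_iSup D 1)
    refine InClassU.of_ndDecomposition q H (finrank F W) D ⟨hdec, ?_, ?_⟩ ?_ hU
    · intro i
      fin_cases i
      · exact isNondegenerateOn_of_ND hF hND
      · exact isNondegenerateOn_of_ND hF hNDP
    · intro i j hij u hu v hv
      fin_cases i <;> fin_cases j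
      · exact absurd rfl hij
      · exact herm_swap_zero hF (hv u hu)
      · exact hu v hv
      · exact absurd rfl hij
    · intro g hg
      refine ⟨1, fun i => ?_⟩
      fin_cases i
      · exact map_eq_of_inv g W (hinvW g hg) (hinvW g⁻¹ (H.inv_mem hg))
      · exact map_eq_of_inv g (perp q W) (hinvP g hg) (hinvP g⁻¹ (H.inv_mem hg))
  · -- the perpendicular space is small
    have hP0 : perp q W ≠ ⊥ := by
      intro hbot
      rw [hbot, finrank_bot] at hdim
      omega
    refine InClassU.of_ndSubspace q H (perp q W) hP0 (isNondegenerateOn_of_ND hF hNDP) (by omega)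
      (le_subspaceStabilizer_of_inv H _ hinvP) hU

end Cfsg.Agent.Lib.Helper9.S5663U1
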