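import Mathlib
import Cfsg.Prelude.Def_GeometricClasses
import Cfsg.Agent.Lib.Helper7.AschDefs
import Cfsg.Agent.Lib.Helper24.AschUDefs
import Cfsg.Agent.Lib.Helper9.S5663U1

/-!
# S5663 block U1 (reducible subgroups of `GU_n(q)`), restated with the exact stub signature of helper24's
top-level skeleton (`Cfsg.Agent.Lib.Helper24.AschU.inClassU_of_not_irr`).  (helper9)
-/

set_option autoImplicit false

namespace Cfsg.Agent.Lib.Helper9.S5663U1H24

open Matrix Cfsg Cfsg.Geo Cfsg.Agent.Lib.Helper7.Asch Cfsg.Agent.Lib.Helper24.AschU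

variable {F : Type*} [Field F] [Fintype F] {n q : ℕ}

/-- **U1** reducible subgroups of `GU_n(q)`: class 1 (totally singular or non-degenerate subspace) or class 2
(`W ⊕ W^⊥` with `2 dim W = n`) -/
theorem inClassU_of_not_irr (hF : Fintype.card F = q ^ 2) (hn : 3 ≤ n) (H : Subgroup (GL (Fin n) F))
    (hHU : H ≤ GU n F q) (h : ¬ Irr H) : InClassU n q H :=
  Cfsg.Agent.Lib.Helper9.S5663U1.inClassU_of_not_irr q hF hn H hHU h

end Cfsg.Agent.Lib.Helper9.S5663U1H24
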