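import Mathlib
import Cfsg.Prelude.Def_GeometricClasses
import Cfsg.Agent.Lib.Helper6.FFour
import Cfsg.Agent.Lib.Helper6.Unitary

/-!
# S5802 (`SU_6`), piece hA, part a: the cone of the 126 root points, orthonormal frames, coordinates  (helper9)
-/

set_option autoImplicit false

namespace Cfsg.Agent.Lib.Helper9.S5802HA


open Cfsg.Agent.Lib.Helper6.FFour

/-- number of non-zero coordinates -/
def nzc {K : Type*} [Zero K] [DecidableEq K] (c : Fin 6 → K) : ℕ := ∑ i, if c i = 0 then 0 else 1

/-- the cone of the 126 root points -/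
def InCone {K : Type*} [Field K] [DecidableEq K] (c : Fin 6 → K) : Prop :=
  nzc c = 2 ∨ ((∀ i, c i ≠ 0) ∧ ∏ i, c i = 1)

/-- Boolean version on six explicit coordinates over `K4` -/
def nz4 (x : K4) : ℕ := if x = 0 then 0 else 1

def cone6 (a b c d e f : K4) : Bool :=
  (nz4 a + nz4 b + nz4 c + nz4 d + nz4 e + nz4 f == 2) ||
    ((nz4 a + nz4 b + nz4 c + nz4 d + nz4 e + nz4 f == 6) && (a * b * c * d * e * f == 1))

theorem cone6_check : ∀ a b c d e f : K4, cone6 a b c d e f = true →
    cone6 (a + (a + b + c + d + e + f)) (b + (a + b + c + d + e + f)) (c + (a + b + c + d + e + f))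
      (d + (a + b + c + d + e + f)) (e + (a + b + c + d + e + f)) (f + (a + b + c + d + e + f)) = true := by
  decide

theorem nzc_le {K : Type*} [Zero K] [DecidableEq K] (c : Fin 6 → K) : nzc c ≤ 6 := by
  unfold nzc
  calc (∑ i, if c i = 0 then 0 else 1) ≤ ∑ _i : Fin 6, 1 := by
        apply Finset.sum_le_sum
        intro i _
        split_ifs <;> omega
    _ = 6 := by simp

theorem nzc_eq_six_iff {K : Type*} [Zero K] [DecidableEq K] (c : Fin 6 → K) :
    nzc c = 6 ↔ ∀ i, c i ≠ 0 := by
  constructor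
  · intro h i hi
    have : nzc c < 6 := by
      unfold nzc
      calc (∑ j, if c j = 0 then 0 else 1) < ∑ _j : Fin 6, 1 := by
            apply Finset.sum_lt_sum
            · intro j _
              split_ifs <;> omega
            · exact ⟨i, Finset.mem_univ _, by rw [if_pos hi]; omega⟩
        _ = 6 := by simp
    omega
  · intro h
    unfold nzc
    rw [Finset.sum_congr rfl (fun i _ => if_neg (h i))]
    simp

theorem inCone_iff_cone6 (c : Fin 6 → K4) :
    InCone c ↔ cone6 (c 0) (c 1) (c 2) (c 3) (c 4) (c 5) = true := by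
  have hn : nzc c = nz4 (c 0) + nz4 (c 1) + nz4 (c 2) + nz4 (c 3) + nz4 (c 4) + nz4 (c 5) := by
    unfold nzc nz4
    rw [Fin.sum_univ_six]
  have hp : ∏ i, c i = c 0 * c 1 * c 2 * c 3 * c 4 * c 5 := Fin.prod_univ_six c
  unfold InCone cone6
  rw [← nzc_eq_six_iff, hn, hp]
  simp only [Bool.or_eq_true, Bool.and_eq_true, beq_iff_eq]

/-- the cone is preserved by the root transvection, over `K4` -/
theorem inCone_add_sum_K4 (c : Fin 6 → K4) (h : InCone c) : InCone (fun i => c i + ∑ j, c j) := by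
  rw [inCone_iff_cone6] at h ⊢
  have hs : ∑ j, c j = c 0 + c 1 + c 2 + c 3 + c 4 + c 5 := Fin.sum_univ_six c
  rw [hs]
  exact cone6_check _ _ _ _ _ _ h

section transfer

variable {F : Type*} [Field F] [DecidableEq F]

theorem inCone_map (φ : K4 →+* F) (c : Fin 6 → K4) : InCone (fun i => φ (c i)) ↔ InCone c := by
  have hinj := φ.injective
  unfold InCone nzc
  have h1 : ∀ i, (φ (c i) = 0) ↔ c i = 0 := fun i => map_eq_zero_iff φ hinj
  have h2 : (∏ i, φ (c i)) = φ (∏ i, c i) := (map_prod φ c Finset.univ).symm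
  have h3 : φ (∏ i, c i) = 1 ↔ ∏ i, c i = 1 := by
    constructor
    · intro h
      apply hinj
      rw [h, map_one]
    · intro h
      rw [h, map_one]
  simp only [h1, h2, h3, ne_eq]

/-- the cone is preserved by the root transvection, over a field with four elements -/
theorem inCone_add_sum [Fintype F] (hF : Fintype.card F = 4) (c : Fin 6 → F) (h : InCone c) :
    InCone (fun i => c i + ∑ j, c j) := by
  have h2 := two_eq_zero hF
  obtain ⟨ω, hω⟩ := exists_omega hF
  have hinj := toF_injective ω hω h2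
  have hbij : Function.Bijective (toF ω hω h2) := by
    rw [Fintype.bijective_iff_injective_and_card]
    refine ⟨hinj, ?_⟩
    rw [hF]
    rfl
  obtain ⟨c', hc'⟩ : ∃ c' : Fin 6 → K4, ∀ i, toF ω hω h2 (c' i) = c i :=
    ⟨fun i => (hbij.2 (c i)).choose, fun i => (hbij.2 (c i)).choose_spec⟩
  have e1 : c = fun i => toF ω hω h2 (c' i) := funext fun i => (hc' i).symm
  rw [e1] at h ⊢
  rw [inCone_map] at h
  have := inCone_add_sum_K4 c' h
  rw [← inCone_map (toF ω hω h2)] at this
  convert this using 2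
  rw [map_add, map_sum]

end transfer



open Matrix Module Cfsg Cfsg.Geo Cfsg.Agent.S0779 Cfsg.Agent.Lib.Helper6

variable {F : Type*} [Field F] [Fintype F]

local notation "hh" => Cfsg.hermForm 6 F 2

/-- coordinates with respect to an orthonormal frame -/
def co (v : Fin 6 → (Fin 6 → F)) (x : Fin 6 → F) : Fin 6 → F := fun i => hh x (v i)

/-- the vector with given coordinates -/
def lin (v : Fin 6 → (Fin 6 → F)) (a : Fin 6 → F) : Fin 6 → F := ∑ i, a i • v i

/-- an orthonormal frame -/
structure Frame (v : Fin 6 → (Fin 6 → F)) : Prop where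
  norm : ∀ i, hh (v i) (v i) = 1
  orth : ∀ i j, i ≠ j → hh (v i) (v j) = 0
  exp : ∀ x : Fin 6 → F, x = ∑ i, hh x (v i) • v i

variable {v : Fin 6 → (Fin 6 → F)}

theorem co_add (x y : Fin 6 → F) : co v (x + y) = co v x + co v y := by
  funext i
  exact herm_add_left x y (v i)

theorem co_smul (a : F) (x : Fin 6 → F) : co v (a • x) = a • co v x := by
  funext i
  exact herm_smul_left a x (v i)

theorem co_lin (hF : Fintype.card F = 2 ^ 2) (hv : Frame v) (a : Fin 6 → F) : co v (lin v a) = a := by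
  funext j
  have h1 : hh (lin v a) (v j) = hermB 6 hF (v j) (lin v a) := (hermB_apply hF _ _).symm
  unfold co
  rw [h1]
  unfold lin
  rw [map_sum]
  simp only [map_smul, hermB_apply, smul_eq_mul]
  rw [Finset.sum_eq_single j]
  · rw [hv.norm, mul_one]
  · intro i _ hij
    rw [hv.orth i j hij, mul_zero]
  · intro h; exact absurd (Finset.mem_univ _) h

theorem lin_co (hv : Frame v) (x : Fin 6 → F) : lin v (co v x) = x := (hv.exp x).symm

theorem co_injective (hv : Frame v) {x y : Fin 6 → F} (h : co v x = co v y) : x = y := by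
  rw [← lin_co hv x, ← lin_co hv y, h]

theorem co_frame (hF : Fintype.card F = 2 ^ 2) (hv : Frame v) (j : Fin 6) : co v (v j) = Pi.single j 1 := by
  have : v j = lin v (Pi.single j 1) := by
    unfold lin
    rw [Finset.sum_eq_single j]
    · rw [Pi.single_eq_same, one_smul]
    · intro i _ hij
      rw [Pi.single_eq_of_ne hij, zero_smul]
    · intro h; exact absurd (Finset.mem_univ _) h
  rw [this, co_lin hF hv]

/-- Parseval -/
theorem herm_eq_sum (hF : Fintype.card F = 2 ^ 2) (hv : Frame v) (x y : Fin 6 → F) :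
    hh x y = ∑ i, co v x i * (co v y i) ^ 2 := by
  conv_lhs => rw [hv.exp y]
  have h1 : ∀ z : Fin 6 → F, hh x z = (hermB 6 hF z x) := fun z => (hermB_apply hF _ _).symm
  rw [h1, map_sum, LinearMap.sum_apply]
  apply Finset.sum_congr rfl
  intro i _
  rw [LinearMap.map_smulₛₗ, LinearMap.smul_apply, hermB_apply, conjQ_apply, smul_eq_mul]
  unfold co
  ring



open Matrix Module Cfsg Cfsg.Geo Cfsg.Agent.S0779 Cfsg.Agent.Lib.Helper6

variable {F : Type*} [Field F] [Fintype F]

local notation "hh" => Cfsg.hermForm 6 F 2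

/-- an orthonormal frame spanning the members of a non-degenerate `1`-decomposition, `|F| = 4` -/
theorem exists_frame (hF : Fintype.card F = 2 ^ 2) (D : Fin 6 → Submodule F (Fin 6 → F))
    (hD : IsNondegenerateMDecomposition (hermForm 6 F 2) 1 D) :
    ∃ v : Fin 6 → (Fin 6 → F), (∀ i, v i ∈ D i) ∧ (∀ i, ∀ x ∈ D i, ∃ a : F, x = a • v i) ∧
      (∀ i, hh (v i) (v i) = 1) ∧ (∀ i j, i ≠ j → hh (v i) (v j) = 0) ∧
      (∀ x : Fin 6 → F, x = ∑ i, hh x (v i) • v i) := by
  classical
  have hex : ∀ i, ∃ w : Fin 6 → F, w ∈ D i ∧ w ≠ 0 ∧ ∀ x ∈ D i, ∃ a : F, x = a • w := by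
    intro i
    obtain ⟨w, hw0, hw⟩ := finrank_eq_one_iff'.mp (hD.decomp.finrank_eq i)
    refine ⟨w.1, w.2, fun h => hw0 (Subtype.ext h), fun x hx => ?_⟩
    obtain ⟨a, ha⟩ := hw ⟨x, hx⟩
    exact ⟨a, by rw [← Subtype.val_inj] at ha; exact ha.symm⟩
  choose v hv hv0 hvs using hex
  have hnorm : ∀ i, hh (v i) (v i) = 1 := by
    intro i
    obtain ⟨⟨x, hx, hx0⟩, -⟩ := hD.nondegenerate i (v i) (hv i) (hv0 i)
    obtain ⟨a, rfl⟩ := hvs i x hx
    rw [herm_smul_left] at hx0
    have h1 : hh (v i) (v i) ≠ 0 := right_ne_zero_of_mul hx0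
    have h2 : hh (v i) (v i) ^ 2 = hh (v i) (v i) := herm_conj hF _ _
    have h3 : hh (v i) (v i) * (hh (v i) (v i) - 1) = 0 := by linear_combination h2
    rcases mul_eq_zero.mp h3 with h | h
    · exact absurd h h1
    · exact sub_eq_zero.mp h
  have horth : ∀ i j, i ≠ j → hh (v i) (v j) = 0 := fun i j hij =>
    hD.orthogonal i j hij _ (hv i) _ (hv j)
  refine ⟨v, hv, hvs, hnorm, horth, ?_⟩
  intro x
  have hx : x ∈ iSup D := by rw [hD.decomp.iSup_eq_top]; trivial
  rw [Submodule.mem_iSup_iff_exists_finsupp] at hx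
  obtain ⟨f, hf, hfx⟩ := hx
  have hcoef : ∀ i, ∃ a : F, f i = a • v i := fun i => hvs i _ (hf i)
  choose a ha using hcoef
  have hxa : x = ∑ i, a i • v i := by
    rw [← hfx, Finsupp.sum_fintype _ _ (fun _ => rfl)]
    exact Finset.sum_congr rfl (fun i _ => ha i)
  have hco : ∀ j, hh x (v j) = a j := by
    intro j
    have h1 : hh x (v j) = hermB 6 hF (v j) x := (hermB_apply hF _ _).symm
    rw [h1, hxa, map_sum]
    simp only [map_smul, hermB_apply, smul_eq_mul]
    rw [Finset.sum_eq_single j]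
    · rw [hnorm, mul_one]
    · intro i _ hij
      rw [horth i j hij, mul_zero]
    · intro h; exact absurd (Finset.mem_univ _) h
  rw [Finset.sum_congr rfl (fun i _ => by rw [hco i])]
  exact hxa


end Cfsg.Agent.Lib.Helper9.S5802HA
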