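import Mathlib
import Cfsg.Prelude.Def_GeometricClasses
import Cfsg.Agent.Lib.Helper6.FFour
import Cfsg.Agent.Lib.Helper6.Unitary
import Cfsg.Agent.Lib.Helper9.S5802HAa

/-!
# S5802 (`SU_6`), piece hA, part b: the cone group; monomial maps of determinant one preserve the cone  (helper9)
-/

set_option autoImplicit false

namespace Cfsg.Agent.Lib.Helper9.S5802HA

section det


open Matrix Module Cfsg Cfsg.Geo Cfsg.Agent.S0779 Cfsg.Agent.Lib.Helper6

variable {F : Type*} [Field F] [Fintype F]

local notation "hh" => Cfsg.hermForm 6 F 2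

variable {v : Fin 6 → (Fin 6 → F)}

/-- the determinant of a monomial map, in characteristic two -/
theorem prod_eq_det (h2 : (2 : F) = 0) (hv : Frame v) (g : Matrix (Fin 6) (Fin 6) F)
    (σ : Equiv.Perm (Fin 6)) (a : Fin 6 → F) (hg : ∀ i, g *ᵥ v i = a i • v (σ i)) :
    g.det = ∏ i, a i := by
  classical
  obtain ⟨B, hB⟩ : ∃ B : Matrix (Fin 6) (Fin 6) F, B = Matrix.of fun r i => v i r := ⟨_, rfl⟩
  obtain ⟨C, hC⟩ : ∃ C : Matrix (Fin 6) (Fin 6) F, C = Matrix.of fun i r => (v i r) ^ 2 := ⟨_, rfl⟩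
  have hCB : C * B = 1 := by
    ext i j
    rw [Matrix.mul_apply, hB, hC]
    simp only [Matrix.of_apply]
    have : (∑ r, v i r ^ 2 * v j r) = hh (v j) (v i) := by
      unfold hermForm
      apply Finset.sum_congr rfl
      intro r _
      ring
    rw [this]
    by_cases hij : i = j
    · subst hij
      rw [hv.norm, Matrix.one_apply_eq]
    · rw [hv.orth j i (Ne.symm hij), Matrix.one_apply_ne hij]
  have hdB : B.det ≠ 0 := by
    intro h
    have := congrArg Matrix.det hCB
    rw [Matrix.det_mul, h, mul_zero, Matrix.det_one] at this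
    exact zero_ne_one this
  have hN : g * B = B * ((Matrix.diagonal a).submatrix σ.symm id) := by
    ext r i
    rw [Matrix.mul_apply, Matrix.mul_apply, hB]
    simp only [Matrix.of_apply, Matrix.submatrix_apply, id_eq]
    have h1 : (∑ k, g r k * v i k) = (g *ᵥ v i) r := rfl
    rw [h1, hg]
    rw [Finset.sum_eq_single (σ i)]
    · rw [Equiv.symm_apply_apply, Matrix.diagonal_apply_eq, Pi.smul_apply, smul_eq_mul, mul_comm]
    · intro k _ hk
      rw [Matrix.diagonal_apply_ne, mul_zero]
      intro h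
      apply hk
      rw [← h, Equiv.apply_symm_apply]
    · intro h; exact absurd (Finset.mem_univ _) h
  have hdet := congrArg Matrix.det hN
  rw [Matrix.det_mul, Matrix.det_mul, Matrix.det_permute, Matrix.det_diagonal] at hdet
  have hsign : ((Equiv.Perm.sign σ.symm : ℤˣ) : F) = 1 := by
    rcases Int.units_eq_one_or (Equiv.Perm.sign σ.symm) with h | h
    · rw [h]; simp
    · rw [h]
      simp only [Units.val_neg, Units.val_one, Int.cast_neg, Int.cast_one]
      linear_combination -h2
  rw [hsign, one_mul, mul_comm] at hdet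
  exact mul_left_cancel₀ hdB hdet


end det

section cone


open Matrix Module Cfsg Cfsg.Geo Cfsg.Agent.S0779 Cfsg.Agent.Lib.Helper6

variable {F : Type*} [Field F] [Fintype F] [DecidableEq F]

local notation "hh" => Cfsg.hermForm 6 F 2

variable {v : Fin 6 → (Fin 6 → F)}

/-- the stabiliser of the cone -/
def coneGroup (v : Fin 6 → (Fin 6 → F)) : Subgroup (GL (Fin 6) F) where
  carrier := {g | ∀ x : Fin 6 → F, InCone (co v ((g : Matrix (Fin 6) (Fin 6) F) *ᵥ x)) ↔ InCone (co v x)}
  mul_mem' {a b} ha hb := by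
    intro x
    rw [Units.val_mul, ← Matrix.mulVec_mulVec, ha, hb]
  one_mem' := by
    intro x
    rw [Units.val_one, Matrix.one_mulVec]
  inv_mem' {a} ha := by
    intro x
    have h := ha (((a⁻¹ : GL (Fin 6) F) : Matrix (Fin 6) (Fin 6) F) *ᵥ x)
    rw [Matrix.mulVec_mulVec, ← Units.val_mul, mul_inv_cancel, Units.val_one, Matrix.one_mulVec] at h
    exact h.symm

theorem mem_coneGroup (g : GL (Fin 6) F) : g ∈ coneGroup v ↔
    ∀ x : Fin 6 → F, InCone (co v ((g : Matrix (Fin 6) (Fin 6) F) *ᵥ x)) ↔ InCone (co v x) := Iff.rfl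

/-- monomial maps of coordinate-determinant one preserve the cone -/
theorem inCone_mono (hF : Fintype.card F = 2 ^ 2) (hv : Frame v) (g : Matrix (Fin 6) (Fin 6) F)
    (σ : Equiv.Perm (Fin 6)) (a : Fin 6 → F) (ha : ∀ i, a i ≠ 0) (hprod : ∏ i, a i = 1)
    (hg : ∀ i, g *ᵥ v i = a i • v (σ i)) (x : Fin 6 → F) :
    InCone (co v (g *ᵥ x)) ↔ InCone (co v x) := by
  have hco : ∀ i, co v (g *ᵥ x) (σ i) = a i * co v x i := by
    intro i
    have hx : g *ᵥ x = lin v (fun j => co v x (σ.symm j) * a (σ.symm j)) := by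
      have h2 : lin v (fun j => co v x (σ.symm j) * a (σ.symm j)) =
          ∑ i, (co v x (σ.symm (σ i)) * a (σ.symm (σ i))) • v (σ i) :=
        (Equiv.sum_comp σ (fun j => (co v x (σ.symm j) * a (σ.symm j)) • v j)).symm
      rw [h2]
      conv_lhs => rw [hv.exp x, Matrix.mulVec_sum]
      apply Finset.sum_congr rfl
      intro j _
      rw [Matrix.mulVec_smul, hg, smul_smul, Equiv.symm_apply_apply]
      rfl
    rw [hx, co_lin hF hv, Equiv.symm_apply_apply, mul_comm]
  have hn : nzc (co v (g *ᵥ x)) = nzc (co v x) := by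
    unfold nzc
    rw [← Equiv.sum_comp σ]
    apply Finset.sum_congr rfl
    intro i _
    rw [hco]
    by_cases h : co v x i = 0
    · rw [if_pos h, if_pos (by rw [h, mul_zero])]
    · rw [if_neg h, if_neg (mul_ne_zero (ha i) h)]
  have hp : ∏ i, co v (g *ᵥ x) i = ∏ i, co v x i := by
    rw [← Equiv.prod_comp σ]
    simp only [hco]
    rw [Finset.prod_mul_distrib, hprod, one_mul]
  unfold InCone
  rw [← nzc_eq_six_iff, ← nzc_eq_six_iff, hn, hp]


end cone

end Cfsg.Agent.Lib.Helper9.S5802HA
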