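import Mathlib
import Cfsg.Prelude.Def_GeometricClasses
import Cfsg.Agent.Lib.Helper6.FFour
import Cfsg.Agent.Lib.Helper6.Unitary
import Cfsg.Agent.Lib.Helper10.Kron2
import Cfsg.Agent.Lib.Helper9.SUCorPU1
import Cfsg.Agent.Lib.Helper9.S5802HAa
import Cfsg.Agent.Lib.Helper9.S5802HAb

/-!
# S5802 (`SU_6`), piece hA, part c: the frame stabiliser lies in the cone group; unitary transvections in coordinates  (helper9)
-/

set_option autoImplicit false

namespace Cfsg.Agent.Lib.Helper9.S5802HA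

section stab


open Matrix Module Cfsg Cfsg.Geo Cfsg.Agent.S0779 Cfsg.Agent.Lib.Helper6 Cfsg.Agent.Lib.Helper6.SUG
open Cfsg.Agent.Lib.Helper13

variable {F : Type*} [Field F] [Fintype F] [DecidableEq F]

local notation "hh" => Cfsg.hermForm 6 F 2
local notation "SU6" => (Cfsg.GU 6 F 2 ⊓ Cfsg.Geo.specialLinear (Fin 6) F)

variable {v : Fin 6 → (Fin 6 → F)}

theorem frame_ne_zero (hv : Frame v) (i : Fin 6) : v i ≠ 0 := by
  intro h
  have := hv.norm i
  rw [h, herm_zero_left] at this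
  exact zero_ne_one this

/-- the frame stabiliser lies in the cone group -/
theorem stab_le_coneGroup (hF : Fintype.card F = 2 ^ 2) (hv : Frame v)
    (D : Fin 6 → Submodule F (Fin 6 → F)) (hmem : ∀ i, v i ∈ D i)
    (hvs : ∀ i, ∀ x ∈ D i, ∃ a : F, x = a • v i) :
    decompositionStabilizer D ⊓ SU6 ≤ coneGroup v ⊓ SU6 := by
  intro g hg
  refine ⟨?_, hg.2⟩
  obtain ⟨⟨σ, hσ⟩, -, hsl⟩ := hg
  have h2 : (2 : F) = 0 := Cfsg.Agent.Lib.Helper6.FFour.two_eq_zero (by rw [hF]; norm_num)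
  have hex : ∀ i, ∃ a : F, (g : Matrix (Fin 6) (Fin 6) F) *ᵥ v i = a • v (σ i) := by
    intro i
    apply hvs
    rw [← hσ, ← Matrix.toLin'_apply]
    exact Submodule.mem_map_of_mem (hmem i)
  choose a ha using hex
  have ha0 : ∀ i, a i ≠ 0 := by
    intro i h
    have h1 := ha i
    rw [h, zero_smul] at h1
    have h3 : ((g⁻¹ : GL (Fin 6) F) : Matrix (Fin 6) (Fin 6) F) *ᵥ
        ((g : Matrix (Fin 6) (Fin 6) F) *ᵥ v i) = v i := by
      rw [Matrix.mulVec_mulVec, ← Units.val_mul, inv_mul_cancel, Units.val_one, Matrix.one_mulVec]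
    rw [h1, Matrix.mulVec_zero] at h3
    exact frame_ne_zero hv i h3.symm
  have hdet : (g : Matrix (Fin 6) (Fin 6) F).det = 1 :=
    (Cfsg.Agent.Lib.Helper10.Kron.mem_specialLinear_iff g).mp hsl
  have hprod : ∏ i, a i = 1 := by
    rw [← prod_eq_det h2 hv _ σ a ha, hdet]
  change g ∈ coneGroup v
  rw [mem_coneGroup]
  intro x
  exact inCone_mono hF hv _ σ a ha0 hprod ha x


end stab

section tv


open Matrix Module Cfsg Cfsg.Geo Cfsg.Agent.S0779 Cfsg.Agent.Lib.Helper6 Cfsg.Agent.Lib.Helper6.SUG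
open Cfsg.Agent.Lib.Helper13

variable {F : Type*} [Field F] [Fintype F] [DecidableEq F]

local notation "hh" => Cfsg.hermForm 6 F 2
local notation "SU6" => (Cfsg.GU 6 F 2 ⊓ Cfsg.Geo.specialLinear (Fin 6) F)

variable {v : Fin 6 → (Fin 6 → F)}

theorem herm_lin (hF : Fintype.card F = 2 ^ 2) (hv : Frame v) (x : Fin 6 → F) (b : Fin 6 → F) :
    hh x (lin v b) = ∑ i, co v x i * (b i) ^ 2 := by
  rw [herm_eq_sum hF hv, co_lin hF hv]

theorem one_sq_eq_neg (h2 : (2 : F) = 0) : (1 : F) ^ 2 = -1 := by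
  linear_combination h2

/-- there is an element of `SU_6(2)` acting as the transvection with centre `lin v b` -/
theorem exists_tv (hF : Fintype.card F = 2 ^ 2) (hv : Frame v) (b : Fin 6 → F)
    (hb : ∑ i, b i * (b i) ^ 2 = 0) :
    ∃ t : GL (Fin 6) F, t ∈ SU6 ∧ ∀ x : Fin 6 → F,
      co v ((t : Matrix (Fin 6) (Fin 6) F) *ᵥ x) = co v x + (∑ i, co v x i * (b i) ^ 2) • b := by
  have h2 : (2 : F) = 0 := Cfsg.Agent.Lib.Helper6.FFour.two_eq_zero (by rw [hF]; norm_num)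
  have hiso : hh (lin v b) (lin v b) = 0 := by
    rw [herm_lin hF hv, co_lin hF hv, hb]
  refine ⟨suGL 6 F 2 (SUG.tv hF (lin v b) 1 hiso (one_sq_eq_neg h2)), suGL_mem _, fun x => ?_⟩
  rw [Cfsg.Agent.Lib.Helper9.SUCorPU1.suGL_tv_mulVec, co_add, co_smul, co_lin hF hv, one_mul,
    herm_lin hF hv]


end tv

end Cfsg.Agent.Lib.Helper9.S5802HA
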