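import Mathlib
import Cfsg.Prelude.Def_GeometricClasses
import Cfsg.Agent.Lib.Helper6.FFour
import Cfsg.Agent.Lib.Helper6.Unitary
import Cfsg.Agent.Lib.Helper10.Kron2
import Cfsg.Agent.Lib.Helper9.SUCorPU1
import Cfsg.Agent.Lib.Helper9.SUCorSix
import Cfsg.Agent.Lib.Helper9.S5802HAa
import Cfsg.Agent.Lib.Helper9.S5802HAb
import Cfsg.Agent.Lib.Helper9.S5802HAc

/-!
# S5802 (`SU_6`), piece hA: the stabiliser of an orthonormal frame is not maximal in `SU_6(2)`  (helper9)

Overgroup: the stabiliser in `SU_6(2)` of the cone of the 126 root points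
`{Σ c_i v_i : |supp c| = 2, or supp c = everything and Π c_i = 1}` (Mitchell's reflection group `G_34` modulo 2, `3.U_4(3).2`).
It contains the monomial group of determinant one (`stab_le_coneGroup`) and the non-monomial unitary transvection with centre
`Σ v_i` (a 4096-case `decide` over helper6's `K4`), and misses the unitary transvection with centre `v_0 + v_1 + v_2 + v_3`.
-/

set_option autoImplicit false

namespace Cfsg.Agent.Lib.Helper9.S5802HA

open Matrix Module Cfsg Cfsg.Geo Cfsg.Agent.S0779 Cfsg.Agent.Lib.Helper6 Cfsg.Agent.Lib.Helper6.SUG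
open Cfsg.Agent.Lib.Helper13

variable {F : Type*} [Field F] [Fintype F]

local notation "hh" => Cfsg.hermForm 6 F 2
local notation "SU6" => (Cfsg.GU 6 F 2 ⊓ Cfsg.Geo.specialLinear (Fin 6) F)

/-- the root transvection is an involution on coordinates (characteristic two) -/
theorem add_sum_add_sum (h2 : (2 : F) = 0) (c : Fin 6 → F) :
    (fun i => (c i + ∑ j, c j) + ∑ k, (c k + ∑ j, c j)) = c := by
  funext i
  rw [Finset.sum_add_distrib, Finset.sum_const, Finset.card_univ, Fintype.card_fin]
  simp only [nsmul_eq_mul, Nat.cast_ofNat]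
  linear_combination (4 * ∑ j, c j) * h2

/-- **hA** the stabiliser of an orthonormal frame is not maximal in `SU_6(2)` -/
theorem frame_not_maximal (hF : Fintype.card F = 2 ^ 2) (D : Fin 6 → Submodule F (Fin 6 → F))
    (hD : IsNondegenerateMDecomposition (hermForm 6 F 2) 1 D) :
    ¬ IsMaximalIn SU6 (decompositionStabilizer D ⊓ SU6) := by
  classical
  have hF4 : Fintype.card F = 4 := by rw [hF]; norm_num
  have h2 : (2 : F) = 0 := Cfsg.Agent.Lib.Helper6.FFour.two_eq_zero hF4
  obtain ⟨v, hmem, hvs, hnorm, horth, hexp⟩ := exists_frame hF D hD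
  have hv : Frame v := ⟨hnorm, horth, hexp⟩
  intro hmax
  have hle := stab_le_coneGroup hF hv D hmem hvs
  rcases hmax.2 (coneGroup v ⊓ SU6) hle inf_le_right with h | h
  · -- the root transvection lies in the cone group but is not monomial
    obtain ⟨t, htSU, ht⟩ := exists_tv hF hv (fun _ => 1) (by
      simp only [one_pow, mul_one, Finset.sum_const, Finset.card_univ, Fintype.card_fin, nsmul_eq_mul,
        Nat.cast_ofNat]
      linear_combination 3 * h2)
    have ht' : ∀ x : Fin 6 → F, co v ((t : Matrix (Fin 6) (Fin 6) F) *ᵥ x) =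
        fun i => co v x i + ∑ j, co v x j := by
      intro x
      rw [ht]
      funext i
      simp only [one_pow, mul_one, Pi.add_apply, Pi.smul_apply, smul_eq_mul]
    have hfwd : ∀ x : Fin 6 → F, InCone (co v x) →
        InCone (co v ((t : Matrix (Fin 6) (Fin 6) F) *ᵥ x)) := by
      intro x hx
      rw [ht']
      exact inCone_add_sum hF4 _ hx
    have htc : t ∈ coneGroup v := by
      rw [mem_coneGroup]
      intro x
      refine ⟨fun hx => ?_, hfwd x⟩
      have h3 := hfwd _ hx
      rw [ht', ht'] at h3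
      rw [add_sum_add_sum h2] at h3
      exact h3
    have hts : t ∈ decompositionStabilizer D ⊓ SU6 := by
      rw [← h]
      exact ⟨htc, htSU⟩
    obtain ⟨σ, hσ⟩ := hts.1
    have h4 : (t : Matrix (Fin 6) (Fin 6) F) *ᵥ v 0 ∈ D (σ 0) := by
      rw [← hσ, ← Matrix.toLin'_apply]
      exact Submodule.mem_map_of_mem (hmem 0)
    obtain ⟨a, ha⟩ := hvs _ _ h4
    have h5 := ht' (v 0)
    rw [ha, co_smul, co_frame hF hv, co_frame hF hv] at h5
    have e1 := congrFun h5 1
    have e2 := congrFun h5 2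
    simp only [Pi.smul_apply, smul_eq_mul, Finset.sum_pi_single', Finset.mem_univ, if_true] at e1 e2
    rw [Pi.single_eq_of_ne (by decide : (1 : Fin 6) ≠ 0), zero_add] at e1
    rw [Pi.single_eq_of_ne (by decide : (2 : Fin 6) ≠ 0), zero_add] at e2
    by_cases hs1 : σ 0 = 1
    · rw [hs1, Pi.single_eq_of_ne (by decide : (2 : Fin 6) ≠ 1), mul_zero] at e2
      exact zero_ne_one e2
    · rw [Pi.single_eq_of_ne (Ne.symm hs1), mul_zero] at e1
      exact zero_ne_one e1
  · -- a transvection of `SU` outside the cone group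
    obtain ⟨t, htSU, ht⟩ := exists_tv hF hv ![1, 1, 1, 1, 0, 0] (by
      simp [Fin.sum_univ_six]
      linear_combination 2 * h2)
    have htc : t ∈ coneGroup v := by
      have : t ∈ coneGroup v ⊓ SU6 := by rw [h]; exact htSU
      exact this.1
    rw [mem_coneGroup] at htc
    have h3 := (htc (lin v ![1, 0, 0, 0, 1, 0])).mpr (by
      rw [co_lin hF hv]
      left
      simp [nzc, Fin.sum_univ_six])
    rw [ht, co_lin hF hv] at h3
    have h4 : (![1, 0, 0, 0, 1, 0] + (∑ i, (![1, 0, 0, 0, 1, 0] : Fin 6 → F) i *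
        ((![1, 1, 1, 1, 0, 0] : Fin 6 → F) i) ^ 2) • ![1, 1, 1, 1, 0, 0] : Fin 6 → F) =
        ![0, 1, 1, 1, 1, 0] := by
      have hs : (∑ i, (![1, 0, 0, 0, 1, 0] : Fin 6 → F) i * ((![1, 1, 1, 1, 0, 0] : Fin 6 → F) i) ^ 2) = 1 := by
        simp [Fin.sum_univ_six]
      rw [hs, one_smul]
      funext i
      fin_cases i <;> simp
      linear_combination h2
    rw [h4] at h3
    rcases h3 with h5 | ⟨h5, -⟩
    · simp [nzc, Fin.sum_univ_six] at h5
    · exact h5 0 rfl

/-- `FrameSix` holds -/
theorem frameSix {q : ℕ} (hF : Fintype.card F = q ^ 2) : Cfsg.Agent.Lib.Helper9.UCor.FrameSix q F := by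
  rintro rfl D hD
  exact frame_not_maximal hF D hD

end Cfsg.Agent.Lib.Helper9.S5802HA
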