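import Mathlib
import Cfsg.Agent.Lib.Helper24.Knorr
import Cfsg.Agent.Lib.Helper24.Defect
import Cfsg.Agent.Lib.Helper7.DefectOrder

set_option autoImplicit false

/-! # S2440 leaf [S1] (helper9), SPARE copy (the official one is `Lib/Helper24/SLB/S1.lean`): a block
has full defect iff a given Sylow subgroup is a defect group -/

namespace Cfsg.Agent.Lib.Helper24.SLB

/-- **[S1]** (generic) a block has full defect iff a given Sylow subgroup is a defect group -/
theorem Helper9.isDefectGroup_sylow_iff_spare {G : Type*} [Group G] [Finite G] (p : ℕ) [Fact p.Prime]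
    (M : Ideal Cfsg.AlgInt) (hM : Cfsg.IsPModular p M) (P : Sylow p G)
    (B : Set (Cfsg.IrrCharacter G)) (hB : Cfsg.IsPBlock M B) :
    Cfsg.IsDefectGroup p M B (P : Subgroup G) ↔
      Cfsg.blockDefect p B = (Nat.card G).factorization p := by
  classical
  have : Fintype G := Fintype.ofFinite G
  have hp : p.Prime := Fact.out
  constructor
  · intro hD
    have h1 := Cfsg.Agent.Lib.Helper7.card_of_isDefectGroup hM B hB (P : Subgroup G) hD
    have h2 : Nat.card (P : Subgroup G) = p ^ (Nat.card G).factorization p :=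
      Sylow.card_eq_multiplicity P
    rw [h1] at h2
    exact Nat.pow_right_injective hp.two_le h2
  · intro h
    obtain ⟨D, hD⟩ := Cfsg.Agent.Lib.Helper24.exists_isDefectGroup hM B hB
    have h1 := Cfsg.Agent.Lib.Helper7.card_of_isDefectGroup hM B hB D hD
    rw [h] at h1
    have hDp : IsPGroup p D := IsPGroup.of_card h1
    obtain ⟨Q, hQ⟩ := hDp.exists_le_sylow
    have hQc : Nat.card (Q : Subgroup G) = p ^ (Nat.card G).factorization p :=
      Sylow.card_eq_multiplicity Q
    have hDQ : D = (Q : Subgroup G) :=
      Subgroup.eq_of_le_of_card_ge hQ (by rw [h1, hQc])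
    obtain ⟨x, hx⟩ := MulAction.exists_smul_eq G Q P
    have hx' : ((x • Q : Sylow p G) : Subgroup G) = (P : Subgroup G) := by rw [hx]
    rw [Sylow.coe_subgroup_smul, Subgroup.pointwise_smul_def] at hx'
    have := Cfsg.Agent.Lib.Helper24.isDefectGroup_map_conj hD x
    rw [hDQ] at this
    have e : (MulDistribMulAction.toMonoidEnd (MulAut G) G) (MulAut.conj x)
        = (MulAut.conj x).toMonoidHom := rfl
    rw [← hx', e]
    exact this

end Cfsg.Agent.Lib.Helper24.SLB
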