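import Mathlib
import Cfsg.Prelude.Def_GeometricClasses
import Cfsg.Agent.S0779
import Cfsg.Agent.Lib.Helper9.SUCorMain

/-!
# SU corollary family: the prime dimensions `7` and `11`  (helper9)

`final7`, `final11`: the lists for `SU_7`, `SU_11` (conclusions verbatim as in the statements S5811, S5856), from the hub
`HubU` and the pieces `SUPieces` of `SUCorMain`.  Class 6: `c6exact` gives `k = 1`; the arithmetic of the minimal field is
`c6_arith_seven` / `c6_arith_eleven`; for `n = 11` the statement wants `R ≤ GU`, which follows from `R` inside the similarity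
group, exponent `11`, and `11 ∤ q - 1` (`le_GU_of_similarityU`).
-/

set_option autoImplicit false

namespace Cfsg.Agent.Lib.Helper9.UCor

open Cfsg Cfsg.Geo
open scoped MatrixGroups Matrix Kronecker

variable {F : Type*} [Field F] [Fintype F] {n q : ℕ}

/-- divisibility of `p ^ d - 1` read off the residue of `p` -/
theorem dvd_pow_sub_one_iffU {r p d : ℕ} (hr : 2 ≤ r) (hp : 1 ≤ p) :
    r ∣ p ^ d - 1 ↔ (p % r) ^ d % r = 1 := by
  have h1 : 1 ≤ p ^ d := Nat.one_le_pow _ _ hp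
  rw [← Nat.pow_mod, ← Nat.modEq_iff_dvd' h1]
  unfold Nat.ModEq
  rw [Nat.mod_eq_of_lt (by omega : 1 < r)]
  exact eq_comm

/-- the minimal field for an odd prime `r`, in terms of `q` : `q = p ^ j`, `e = 2 * j` -/
theorem c6_field_split (hF : Fintype.card F = q ^ 2) (r p e : ℕ)
    (hmin : IsMinimalFieldFor r p e F) :
    p.Prime ∧ CharP F p ∧ ∃ j : ℕ, 1 ≤ j ∧ e = 2 * j ∧ q = p ^ j ∧ r ∣ p ^ (2 * j) - 1 ∧
      ∀ d : ℕ, 0 < d → d < 2 * j → ¬ r ∣ p ^ d - 1 := by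
  obtain ⟨hp, hch, hc, hdvd, hmin'⟩ := hmin
  have hq2 := two_le_q hF
  rw [hF] at hc
  have hqd : q ∣ p ^ e := ⟨q, by rw [← hc]; ring⟩
  obtain ⟨j, -, rfl⟩ := (Nat.dvd_prime_pow hp).mp hqd
  have hj : 1 ≤ j := by
    rcases Nat.eq_zero_or_pos j with rfl | h
    · simp at hq2
    · exact h
  have he : e = 2 * j := by
    rw [← pow_mul] at hc
    have := Nat.pow_right_injective hp.two_le hc
    omega
  subst he
  exact ⟨hp, hch, j, hj, rfl, rfl, hdvd, hmin'⟩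

theorem arith7_aux : ∀ a ∈ Finset.range 7, a ≠ 0 → ∀ j ∈ Finset.range 4, 1 ≤ j → a ^ (2 * j) % 7 = 1 →
    (∀ d ∈ Finset.range (2 * j), 0 < d → a ^ d % 7 ≠ 1) →
    (j = 1 ∧ a = 6) ∨ (j = 3 ∧ (a = 3 ∨ a = 5)) := by
  decide

theorem arith11_aux : ∀ a ∈ Finset.range 11, a ≠ 0 → ∀ j ∈ Finset.range 6, 1 ≤ j → a ^ (2 * j) % 11 = 1 →
    (∀ d ∈ Finset.range (2 * j), 0 < d → a ^ d % 11 ≠ 1) →
    (j = 1 ∧ a = 10) ∨ (j = 5 ∧ (a = 2 ∨ a = 6 ∨ a = 7 ∨ a = 8)) := by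
  decide

theorem fermat7_aux : ∀ a ∈ Finset.range 7, a ≠ 0 → a ^ 6 % 7 = 1 := by decide

theorem fermat11_aux : ∀ a ∈ Finset.range 11, a ≠ 0 → a ^ 10 % 11 = 1 := by decide

/-- `r = 7`: `q = p ≡ 6 mod 7` or `q = p ^ 3`, `p ≡ 3, 5 mod 7` -/
theorem c6_arith_seven (hF : Fintype.card F = q ^ 2) (p e : ℕ) (h7p : 7 ≠ p)
    (hmin : IsMinimalFieldFor 7 p e F) :
    p.Prime ∧ CharP F p ∧ ((q = p ∧ p % 7 = 6) ∨ (q = p ^ 3 ∧ (p % 7 = 3 ∨ p % 7 = 5))) := by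
  obtain ⟨hp, hch, j, hj, -, hq, hdvd, hmin'⟩ := c6_field_split hF 7 p e hmin
  refine ⟨hp, hch, ?_⟩
  have hp1 : 1 ≤ p := hp.one_lt.le
  have ha : p % 7 ∈ Finset.range 7 := Finset.mem_range.2 (Nat.mod_lt _ (by norm_num))
  have ha0 : p % 7 ≠ 0 := by
    intro h
    have : 7 ∣ p := Nat.dvd_of_mod_eq_zero h
    exact h7p ((Nat.prime_dvd_prime_iff_eq (by norm_num) hp).mp this)
  have hj3 : j ∈ Finset.range 4 := by
    rw [Finset.mem_range]
    by_contra hcon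
    apply hmin' 6 (by norm_num) (by omega)
    rw [dvd_pow_sub_one_iffU (by norm_num) hp1]
    exact fermat7_aux _ ha ha0
  rw [dvd_pow_sub_one_iffU (by norm_num) hp1] at hdvd
  have hm : ∀ d ∈ Finset.range (2 * j), 0 < d → (p % 7) ^ d % 7 ≠ 1 := by
    intro d hd hd0 h
    apply hmin' d hd0 (Finset.mem_range.1 hd)
    rw [dvd_pow_sub_one_iffU (by norm_num) hp1]
    exact h
  rcases arith7_aux _ ha ha0 j hj3 hj hdvd hm with ⟨rfl, h⟩ | ⟨rfl, h⟩
  · left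
    exact ⟨by rw [hq, pow_one], h⟩
  · right
    exact ⟨hq, h⟩

/-- `r = 11`: `q = p ≡ 10 mod 11` or `q = p ^ 5`, `p ≡ 2, 6, 7, 8 mod 11` -/
theorem c6_arith_eleven (hF : Fintype.card F = q ^ 2) (p e : ℕ) (h11p : 11 ≠ p)
    (hmin : IsMinimalFieldFor 11 p e F) :
    p.Prime ∧ CharP F p ∧ ((q = p ∧ p % 11 = 10) ∨
      (q = p ^ 5 ∧ (p % 11 = 2 ∨ p % 11 = 6 ∨ p % 11 = 7 ∨ p % 11 = 8))) := by
  obtain ⟨hp, hch, j, hj, -, hq, hdvd, hmin'⟩ := c6_field_split hF 11 p e hmin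
  refine ⟨hp, hch, ?_⟩
  have hp1 : 1 ≤ p := hp.one_lt.le
  have ha : p % 11 ∈ Finset.range 11 := Finset.mem_range.2 (Nat.mod_lt _ (by norm_num))
  have ha0 : p % 11 ≠ 0 := by
    intro h
    have : 11 ∣ p := Nat.dvd_of_mod_eq_zero h
    exact h11p ((Nat.prime_dvd_prime_iff_eq (by norm_num) hp).mp this)
  have hj3 : j ∈ Finset.range 6 := by
    rw [Finset.mem_range]
    by_contra hcon
    apply hmin' 10 (by norm_num) (by omega)
    rw [dvd_pow_sub_one_iffU (by norm_num) hp1]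
    exact fermat11_aux _ ha ha0
  rw [dvd_pow_sub_one_iffU (by norm_num) hp1] at hdvd
  have hm : ∀ d ∈ Finset.range (2 * j), 0 < d → (p % 11) ^ d % 11 ≠ 1 := by
    intro d hd hd0 h
    apply hmin' d hd0 (Finset.mem_range.1 hd)
    rw [dvd_pow_sub_one_iffU (by norm_num) hp1]
    exact h
  rcases arith11_aux _ ha ha0 j hj3 hj hdvd hm with ⟨rfl, h⟩ | ⟨rfl, h⟩
  · left
    exact ⟨by rw [hq, pow_one], h⟩
  · right
    exact ⟨hq, h⟩

/-- a subgroup of exponent dividing `r` inside the similarity group of the hermitian form lies in `GU`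
when `r` is prime to `q - 1` -/
theorem le_GU_of_similarityU (hF : Fintype.card F = q ^ 2) (hn : 0 < n) (r : ℕ)
    (R : Subgroup (GL (Fin n) F)) (hexp : ∀ g ∈ R, g ^ r = 1)
    (hsim : R ≤ similarityGroup (hermForm n F q)) (hcop : Nat.Coprime r (q - 1)) :
    R ≤ GU n F q := by
  intro g hg
  obtain ⟨c, hc⟩ := hsim hg
  have hq0 := Cfsg.Agent.S0779.q_pos hF
  -- powers
  have hpow : ∀ k : ℕ, ∀ u v, hermForm n F q (((g ^ k : GL (Fin n) F) : Matrix (Fin n) (Fin n) F) *ᵥ u)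
      (((g ^ k : GL (Fin n) F) : Matrix (Fin n) (Fin n) F) *ᵥ v) = (c : F) ^ k * hermForm n F q u v := by
    intro k
    induction k with
    | zero => intro u v; simp
    | succ k ih =>
      intro u v
      rw [pow_succ, Units.val_mul, ← Matrix.mulVec_mulVec, ← Matrix.mulVec_mulVec, ih, hc, pow_succ, mul_assoc]
  have h1 : (c : F) ^ r = 1 := by
    have := hpow r (Pi.single (⟨0, hn⟩ : Fin n) 1) (Pi.single (⟨0, hn⟩ : Fin n) 1)
    rw [hexp g hg, Units.val_one, Matrix.one_mulVec, herm_single_self hn, mul_one] at this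
    exact this.symm
  have h2 : (c : F) ^ q = c := by
    have h3 := hc (Pi.single (⟨0, hn⟩ : Fin n) 1) (Pi.single (⟨0, hn⟩ : Fin n) 1)
    rw [herm_single_self hn, mul_one] at h3
    rw [← h3]
    exact Cfsg.Agent.S0779.herm_conj hF _ _
  have h4 : c ^ r = 1 := by
    apply Units.ext
    rw [Units.val_pow_eq_pow_val, h1, Units.val_one]
  have h5 : c ^ (q - 1) = 1 := by
    apply Units.ext
    rw [Units.val_pow_eq_pow_val, Units.val_one]
    have h6 : (c : F) ^ q = (c : F) ^ (q - 1) * c := by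
      rw [← pow_succ]; congr 1; omega
    rw [h6] at h2
    have hc0 : (c : F) ≠ 0 := c.ne_zero
    exact mul_right_cancel₀ hc0 (by rw [h2, one_mul])
  have h7 : orderOf c ∣ 1 := by
    have := Nat.dvd_gcd (orderOf_dvd_of_pow_eq_one h4) (orderOf_dvd_of_pow_eq_one h5)
    rwa [hcop] at this
  have h8 : c = 1 := by
    rw [← orderOf_eq_one_iff]
    exact Nat.dvd_one.mp h7
  subst h8
  intro u v
  have := hc u v
  simpa using this

/-! ## The lists -/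

theorem final7 (hF : Fintype.card F = q ^ 2) (pc : SUPieces 7 q F) (hub : HubU 7 q F) (H : Subgroup (Matrix.GeneralLinearGroup (Fin 7) F))
    (hH : Cfsg.Geo.IsMaximalIn (Cfsg.GU 7 F q ⊓ Cfsg.Geo.specialLinear (Fin 7) F) H) :
    (∃ W : Submodule F (Fin 7 → F), W ≠ ⊥ ∧ Cfsg.Geo.IsTotallySingularFor (Cfsg.hermForm 7 F q) W ∧ H = Cfsg.Geo.subspaceStabilizer W ⊓ (Cfsg.GU 7 F q ⊓ Cfsg.Geo.specialLinear (Fin 7) F)) ∨
    (∃ W : Submodule F (Fin 7 → F), W ≠ ⊥ ∧ Cfsg.Geo.IsNondegenerateOn (Cfsg.hermForm 7 F q) W ∧ 2 * Module.finrank F W < 7 ∧ H = Cfsg.Geo.subspaceStabilizer W ⊓ (Cfsg.GU 7 F q ⊓ Cfsg.Geo.specialLinear (Fin 7) F)) ∨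
    (∃ D : Fin 7 → Submodule F (Fin 7 → F), Cfsg.Geo.IsNondegenerateMDecomposition (Cfsg.hermForm 7 F q) 1 D ∧ H = Cfsg.Geo.decompositionStabilizer D ⊓ (Cfsg.GU 7 F q ⊓ Cfsg.Geo.specialLinear (Fin 7) F)) ∨
    (∃ K : Subalgebra F (Matrix (Fin 7) (Fin 7) F), Cfsg.Geo.IsFieldSubalgebra 7 K ∧ Cfsg.Geo.IsAdjointClosedFor (Cfsg.hermForm 7 F q) K ∧ H = Cfsg.Geo.subalgebraNormalizer K ⊓ (Cfsg.GU 7 F q ⊓ Cfsg.Geo.specialLinear (Fin 7) F)) ∨
    (∃ (F₀ : Subfield F) (r : ℕ) (P : Matrix.GeneralLinearGroup (Fin 7) F), r.Prime ∧ Odd r ∧ Fintype.card F = Nat.card F₀ ^ r ∧ Cfsg.Geo.IsFormRationalStructure (Cfsg.hermForm 7 F q) F₀ 1 P ∧ H = Cfsg.Geo.subfieldSubgroup F₀ P ⊓ (Cfsg.GU 7 F q ⊓ Cfsg.Geo.specialLinear (Fin 7) F)) ∨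
    (Odd q ∧ ∃ (F₀ : Subfield F) (P : Matrix.GeneralLinearGroup (Fin 7) F), Fintype.card F = Nat.card F₀ ^ 2 ∧ Cfsg.Geo.IsFormRationalStructure (Cfsg.hermForm 7 F q) F₀ 1 P ∧ H = Cfsg.Geo.subfieldSubgroup F₀ P ⊓ (Cfsg.GU 7 F q ⊓ Cfsg.Geo.specialLinear (Fin 7) F)) ∨
    (∃ (p : ℕ) (R : Subgroup (Matrix.GeneralLinearGroup (Fin 7) F)), p.Prime ∧ CharP F p ∧ ((q = p ∧ p % 7 = 6) ∨ (q = p ^ 3 ∧ (p % 7 = 3 ∨ p % 7 = 5))) ∧ Cfsg.Geo.IsSymplecticTypeGroup 7 R ∧ Cfsg.Geo.ActsAbsolutelyIrreducibly (Cfsg.Geo.matrixSet R) ∧ R ≤ Cfsg.Geo.similarityGroup (Cfsg.hermForm 7 F q) ∧ Nat.card R = 343 ∧ Nat.card (Subgroup.center R) = 7 ∧ H = Cfsg.Geo.subgroupNormalizer R ⊓ (Cfsg.GU 7 F q ⊓ Cfsg.Geo.specialLinear (Fin 7) F)) ∨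
    Cfsg.Geo.InUnitaryResidualClass H := by
  have hq2 := two_le_q hF
  have hprime : Nat.Prime 7 := by norm_num
  rcases reduceU hF (by norm_num) pc hub H hH with h | h | ⟨t, k, D, hD, hk2, hE⟩ |
      ⟨k, D, hk, hD, hts, hE⟩ | h | h | ⟨heven, h⟩ | ⟨r, R, p, e, k, hR, habs, hsim, hrp, hmin, hcase, hE⟩ |
      ⟨r, K, hr, hodd, hK, hadj, hE⟩ | ⟨n₁, n₂, e, P, f₁, f₂, h1, h12, h2q, hf₁, hf₂, hT, hE⟩ |
      ⟨k, t, e, P, f₁, hk, ht, hkq, hf₁, hT, hE⟩ | h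
  · exact Or.inl h
  · exact Or.inr (Or.inl h)
  · have htk := Cfsg.Agent.Lib.Helper9.HubCor.mul_eq_of_isMDecomposition D hD.decomp
    have ht := hD.decomp.two_le
    have hk := hD.decomp.pos
    have hkd : k ∣ 7 := ⟨t, by rw [← htk]; ring⟩
    rcases (Nat.dvd_prime hprime).mp hkd with rfl | rfl
    · obtain rfl : t = 7 := by omega
      exact Or.inr (Or.inr (Or.inl ⟨D, hD, hE⟩))
    · exfalso
      have : t = 1 := by nlinarith
      omega
  · omega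
  · exact Or.inr (Or.inr (Or.inr (Or.inr (Or.inl h))))
  · exact Or.inr (Or.inr (Or.inr (Or.inr (Or.inr (Or.inl h)))))
  · exact absurd heven (by decide)
  · -- class 6: `7 = 7 ^ 1`
    have hnk := pc.c6exact r R p e k hR habs hrp hmin hcase
    have hk0 : k ≠ 0 := by
      rintro rfl
      norm_num at hnk
    have hr7 : r = 7 := by
      have h3 : r ∣ 7 := by
        rw [hnk]
        exact dvd_pow_self _ hk0
      exact (Nat.prime_dvd_prime_iff_eq hR.prime hprime).mp h3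
    subst hr7
    have hk1 : k = 1 := by
      have h9 : (7 : ℕ) ^ 1 = 7 ^ k := by rw [← hnk, pow_one]
      exact (Nat.pow_right_injective (by norm_num) h9).symm
    subst hk1
    rcases hcase with ⟨-, hZ, -, hcard⟩ | ⟨h32, -⟩
    · rw [hZ] at hmin
      obtain ⟨hp, hch, harith⟩ := c6_arith_seven hF p e hrp hmin
      exact Or.inr (Or.inr (Or.inr (Or.inr (Or.inr (Or.inr (Or.inl ⟨p, R, hp, hch, harith, hR, habs, hsim, by rw [hcard]; norm_num, hZ, hE⟩))))))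
    · omega
  · have hd := Cfsg.Agent.Lib.Helper24.HubCor.dvd_of_isFieldSubalgebra K hK (by norm_num)
    have := (Nat.prime_dvd_prime_iff_eq hr hprime).mp hd
    subst this
    exact Or.inr (Or.inr (Or.inr (Or.inl ⟨K, hK, hadj, hE⟩)))
  · exfalso
    have hc := card_tensorU e
    have hkd : n₁ ∣ 7 := ⟨n₂, hc⟩
    rcases (Nat.dvd_prime hprime).mp hkd with rfl | rfl
    · omega
    · have : n₂ = 1 := by nlinarith
      omega
  · exfalso
    have hc := card_wreathU e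
    have h1 : k ^ 2 ≤ k ^ t := Nat.pow_le_pow_right (by omega) ht
    have hkd : k ∣ 7 := by
      rw [hc]
      exact dvd_pow_self _ (by omega)
    rcases (Nat.dvd_prime hprime).mp hkd with rfl | rfl
    · omega
    · have : 7 ^ 2 ≤ 7 := by omega
      norm_num at this
  · exact Or.inr (Or.inr (Or.inr (Or.inr (Or.inr (Or.inr (Or.inr h))))))

theorem final11 (hF : Fintype.card F = q ^ 2) (pc : SUPieces 11 q F) (hub : HubU 11 q F) (H : Subgroup (Matrix.GeneralLinearGroup (Fin 11) F))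
    (hH : Cfsg.Geo.IsMaximalIn (Cfsg.GU 11 F q ⊓ Cfsg.Geo.specialLinear (Fin 11) F) H) :
    (∃ W : Submodule F (Fin 11 → F), W ≠ ⊥ ∧ Cfsg.Geo.IsTotallySingularFor (Cfsg.hermForm 11 F q) W ∧ H = Cfsg.Geo.subspaceStabilizer W ⊓ (Cfsg.GU 11 F q ⊓ Cfsg.Geo.specialLinear (Fin 11) F)) ∨
    (∃ W : Submodule F (Fin 11 → F), W ≠ ⊥ ∧ Cfsg.Geo.IsNondegenerateOn (Cfsg.hermForm 11 F q) W ∧ 2 * Module.finrank F W < 11 ∧ H = Cfsg.Geo.subspaceStabilizer W ⊓ (Cfsg.GU 11 F q ⊓ Cfsg.Geo.specialLinear (Fin 11) F)) ∨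
    (∃ D : Fin 11 → Submodule F (Fin 11 → F), Cfsg.Geo.IsNondegenerateMDecomposition (Cfsg.hermForm 11 F q) 1 D ∧ H = Cfsg.Geo.decompositionStabilizer D ⊓ (Cfsg.GU 11 F q ⊓ Cfsg.Geo.specialLinear (Fin 11) F)) ∨
    (∃ K : Subalgebra F (Matrix (Fin 11) (Fin 11) F), Cfsg.Geo.IsFieldSubalgebra 11 K ∧ Cfsg.Geo.IsAdjointClosedFor (Cfsg.hermForm 11 F q) K ∧ H = Cfsg.Geo.subalgebraNormalizer K ⊓ (Cfsg.GU 11 F q ⊓ Cfsg.Geo.specialLinear (Fin 11) F)) ∨
    (∃ (F₀ : Subfield F) (r : ℕ) (P : Matrix.GeneralLinearGroup (Fin 11) F), r.Prime ∧ Odd r ∧ Fintype.card F = Nat.card F₀ ^ r ∧ Cfsg.Geo.IsFormRationalStructure (Cfsg.hermForm 11 F q) F₀ 1 P ∧ H = Cfsg.Geo.subfieldSubgroup F₀ P ⊓ (Cfsg.GU 11 F q ⊓ Cfsg.Geo.specialLinear (Fin 11) F)) ∨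
    (Odd q ∧ ∃ (F₀ : Subfield F) (P : Matrix.GeneralLinearGroup (Fin 11) F), Fintype.card F = Nat.card F₀ ^ 2 ∧ Cfsg.Geo.IsFormRationalStructure (Cfsg.hermForm 11 F q) F₀ 1 P ∧ H = Cfsg.Geo.subfieldSubgroup F₀ P ⊓ (Cfsg.GU 11 F q ⊓ Cfsg.Geo.specialLinear (Fin 11) F)) ∨
    (∃ (p : ℕ) (R : Subgroup (Matrix.GeneralLinearGroup (Fin 11) F)), p.Prime ∧ CharP F p ∧ ((q = p ∧ p % 11 = 10) ∨ (q = p ^ 5 ∧ (p % 11 = 2 ∨ p % 11 = 6 ∨ p % 11 = 7 ∨ p % 11 = 8))) ∧ Cfsg.Geo.IsSymplecticTypeGroup 11 R ∧ Cfsg.Geo.ActsAbsolutelyIrreducibly (Cfsg.Geo.matrixSet R) ∧ R ≤ Cfsg.GU 11 F q ∧ Nat.card R = 1331 ∧ Nat.card (Subgroup.center R) = 11 ∧ H = Cfsg.Geo.subgroupNormalizer R ⊓ (Cfsg.GU 11 F q ⊓ Cfsg.Geo.specialLinear (Fin 11) F)) ∨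
    Cfsg.Geo.InUnitaryResidualClass H := by
  have hq2 := two_le_q hF
  have hprime : Nat.Prime 11 := by norm_num
  rcases reduceU hF (by norm_num) pc hub H hH with h | h | ⟨t, k, D, hD, hk2, hE⟩ |
      ⟨k, D, hk, hD, hts, hE⟩ | h | h | ⟨heven, h⟩ | ⟨r, R, p, e, k, hR, habs, hsim, hrp, hmin, hcase, hE⟩ |
      ⟨r, K, hr, hodd, hK, hadj, hE⟩ | ⟨n₁, n₂, e, P, f₁, f₂, h1, h12, h2q, hf₁, hf₂, hT, hE⟩ |
      ⟨k, t, e, P, f₁, hk, ht, hkq, hf₁, hT, hE⟩ | h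
  · exact Or.inl h
  · exact Or.inr (Or.inl h)
  · have htk := Cfsg.Agent.Lib.Helper9.HubCor.mul_eq_of_isMDecomposition D hD.decomp
    have ht := hD.decomp.two_le
    have hk := hD.decomp.pos
    have hkd : k ∣ 11 := ⟨t, by rw [← htk]; ring⟩
    rcases (Nat.dvd_prime hprime).mp hkd with rfl | rfl
    · obtain rfl : t = 11 := by omega
      exact Or.inr (Or.inr (Or.inl ⟨D, hD, hE⟩))
    · exfalso
      have : t = 1 := by nlinarith
      omega
  · omega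
  · exact Or.inr (Or.inr (Or.inr (Or.inr (Or.inl h))))
  · exact Or.inr (Or.inr (Or.inr (Or.inr (Or.inr (Or.inl h)))))
  · exact absurd heven (by decide)
  · -- class 6: `11 = 11 ^ 1`
    have hnk := pc.c6exact r R p e k hR habs hrp hmin hcase
    have hk0 : k ≠ 0 := by
      rintro rfl
      norm_num at hnk
    have hr7 : r = 11 := by
      have h3 : r ∣ 11 := by
        rw [hnk]
        exact dvd_pow_self _ hk0
      exact (Nat.prime_dvd_prime_iff_eq hR.prime hprime).mp h3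
    subst hr7
    have hk1 : k = 1 := by
      have h9 : (11 : ℕ) ^ 1 = 11 ^ k := by rw [← hnk, pow_one]
      exact (Nat.pow_right_injective (by norm_num) h9).symm
    subst hk1
    rcases hcase with ⟨-, hZ, -, hcard⟩ | ⟨h32, -⟩
    · rw [hZ] at hmin
      obtain ⟨hp, hch, harith⟩ := c6_arith_eleven hF p e hrp hmin
      have hq10 : q % 11 = 10 := by
        rcases harith with ⟨rfl, h⟩ | ⟨rfl, h⟩
        · exact h
        · rw [Nat.pow_mod]
          rcases h with h | h | h | h <;> rw [h]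
      have hGU : R ≤ Cfsg.GU 11 F q := by
        apply le_GU_of_similarityU hF (by norm_num) 11 R _ hsim
        · apply (Nat.Prime.coprime_iff_not_dvd hprime).2
          omega
        · intro g hg
          have hexp := hR.exponent_eq
          have hgcd : Nat.gcd 2 11 = 1 := by norm_num
          rw [hgcd, mul_one] at hexp
          have h := Monoid.pow_exponent_eq_one (⟨g, hg⟩ : R)
          rw [hexp] at h
          exact congrArg Subtype.val h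
      exact Or.inr (Or.inr (Or.inr (Or.inr (Or.inr (Or.inr (Or.inl ⟨p, R, hp, hch, harith, hR, habs, hGU, by rw [hcard]; norm_num, hZ, hE⟩))))))
    · omega
  · have hd := Cfsg.Agent.Lib.Helper24.HubCor.dvd_of_isFieldSubalgebra K hK (by norm_num)
    have := (Nat.prime_dvd_prime_iff_eq hr hprime).mp hd
    subst this
    exact Or.inr (Or.inr (Or.inr (Or.inl ⟨K, hK, hadj, hE⟩)))
  · exfalso
    have hc := card_tensorU e
    have hkd : n₁ ∣ 11 := ⟨n₂, hc⟩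
    rcases (Nat.dvd_prime hprime).mp hkd with rfl | rfl
    · omega
    · have : n₂ = 1 := by nlinarith
      omega
  · exfalso
    have hc := card_wreathU e
    have h1 : k ^ 2 ≤ k ^ t := Nat.pow_le_pow_right (by omega) ht
    have hkd : k ∣ 11 := by
      rw [hc]
      exact dvd_pow_self _ (by omega)
    rcases (Nat.dvd_prime hprime).mp hkd with rfl | rfl
    · omega
    · have : 11 ^ 2 ≤ 11 := by omega
      norm_num at this
  · exact Or.inr (Or.inr (Or.inr (Or.inr (Or.inr (Or.inr (Or.inr h))))))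

end Cfsg.Agent.Lib.Helper9.UCor
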