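import Mathlib
import Cfsg.Prelude.Def_GeometricClasses
import Cfsg.Agent.S0779
import Cfsg.Agent.Lib.Helper9.SUCorMain
import Cfsg.Agent.Lib.Helper9.SUCorPrime

/-!
# SU corollary family: dimension `5`  (helper9)

`final5`: the list for `SU_5` (conclusion verbatim as in the statement S5796), from the hub `HubU`, the pieces `SUPieces`
of `SUCorMain`, and ONE exceptional fact, the hypothesis `hX5`: for `q = 2` the normaliser of an adjoint-closed field of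
degree `5` (of order `55` in `SU_5(2)`) is not maximal (it lies in a subgroup `L_2(11)`).  Class 6: `c6exact` gives
`k = 1`; the arithmetic of the minimal field is `c6_arith_five`.
-/

set_option autoImplicit false

namespace Cfsg.Agent.Lib.Helper9.UCor

open Cfsg Cfsg.Geo
open scoped MatrixGroups Matrix Kronecker

variable {F : Type*} [Field F] [Fintype F] {n q : ℕ}

theorem arith5_aux : ∀ a ∈ Finset.range 5, a ≠ 0 → ∀ j ∈ Finset.range 3, 1 ≤ j → a ^ (2 * j) % 5 = 1 →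
    (∀ d ∈ Finset.range (2 * j), 0 < d → a ^ d % 5 ≠ 1) →
    (j = 1 ∧ a = 4) ∨ (j = 2 ∧ (a = 2 ∨ a = 3)) := by
  decide

theorem fermat5_aux : ∀ a ∈ Finset.range 5, a ≠ 0 → a ^ 4 % 5 = 1 := by decide

/-- `r = 5`: `q = p ≡ 4 mod 5` or `q = p ^ 2`, `p ≡ 2, 3 mod 5` -/
theorem c6_arith_five (hF : Fintype.card F = q ^ 2) (p e : ℕ) (h5p : 5 ≠ p)
    (hmin : IsMinimalFieldFor 5 p e F) :
    p.Prime ∧ CharP F p ∧ ((q = p ∧ p % 5 = 4) ∨ (q = p ^ 2 ∧ (p % 5 = 2 ∨ p % 5 = 3))) := by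
  obtain ⟨hp, hch, j, hj, -, hq, hdvd, hmin'⟩ := c6_field_split hF 5 p e hmin
  refine ⟨hp, hch, ?_⟩
  have hp1 : 1 ≤ p := hp.one_lt.le
  have ha : p % 5 ∈ Finset.range 5 := Finset.mem_range.2 (Nat.mod_lt _ (by norm_num))
  have ha0 : p % 5 ≠ 0 := by
    intro h
    have : 5 ∣ p := Nat.dvd_of_mod_eq_zero h
    exact h5p ((Nat.prime_dvd_prime_iff_eq (by norm_num) hp).mp this)
  have hj3 : j ∈ Finset.range 3 := by
    rw [Finset.mem_range]
    by_contra hcon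
    apply hmin' 4 (by norm_num) (by omega)
    rw [dvd_pow_sub_one_iffU (by norm_num) hp1]
    exact fermat5_aux _ ha ha0
  rw [dvd_pow_sub_one_iffU (by norm_num) hp1] at hdvd
  have hm : ∀ d ∈ Finset.range (2 * j), 0 < d → (p % 5) ^ d % 5 ≠ 1 := by
    intro d hd hd0 h
    apply hmin' d hd0 (Finset.mem_range.1 hd)
    rw [dvd_pow_sub_one_iffU (by norm_num) hp1]
    exact h
  rcases arith5_aux _ ha ha0 j hj3 hj hdvd hm with ⟨rfl, h⟩ | ⟨rfl, h⟩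
  · left
    exact ⟨by rw [hq, pow_one], h⟩
  · right
    exact ⟨hq, h⟩

/-! ## The list -/

theorem final5 (hF : Fintype.card F = q ^ 2) (pc : SUPieces 5 q F) (hub : HubU 5 q F)
    (hX5 : q = 2 → ∀ K : Subalgebra F (Matrix (Fin 5) (Fin 5) F), IsFieldSubalgebra 5 K →
      IsAdjointClosedFor (hermForm 5 F q) K →
      ∃ X : Subgroup (GL (Fin 5) F),
        subalgebraNormalizer K ⊓ (GU 5 F q ⊓ specialLinear (Fin 5) F) < X ∧
          X < GU 5 F q ⊓ specialLinear (Fin 5) F)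
    (H : Subgroup (Matrix.GeneralLinearGroup (Fin 5) F))
    (hH : Cfsg.Geo.IsMaximalIn (Cfsg.GU 5 F q ⊓ Cfsg.Geo.specialLinear (Fin 5) F) H) :
    (∃ W : Submodule F (Fin 5 → F), W ≠ ⊥ ∧ Cfsg.Geo.IsTotallySingularFor (Cfsg.hermForm 5 F q) W ∧ H = Cfsg.Geo.subspaceStabilizer W ⊓ (Cfsg.GU 5 F q ⊓ Cfsg.Geo.specialLinear (Fin 5) F)) ∨
    (∃ W : Submodule F (Fin 5 → F), W ≠ ⊥ ∧ Cfsg.Geo.IsNondegenerateOn (Cfsg.hermForm 5 F q) W ∧ 2 * Module.finrank F W < 5 ∧ H = Cfsg.Geo.subspaceStabilizer W ⊓ (Cfsg.GU 5 F q ⊓ Cfsg.Geo.specialLinear (Fin 5) F)) ∨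
    (∃ D : Fin 5 → Submodule F (Fin 5 → F), Cfsg.Geo.IsNondegenerateMDecomposition (Cfsg.hermForm 5 F q) 1 D ∧ H = Cfsg.Geo.decompositionStabilizer D ⊓ (Cfsg.GU 5 F q ⊓ Cfsg.Geo.specialLinear (Fin 5) F)) ∨
    (3 ≤ q ∧ ∃ K : Subalgebra F (Matrix (Fin 5) (Fin 5) F), Cfsg.Geo.IsFieldSubalgebra 5 K ∧ Cfsg.Geo.IsAdjointClosedFor (Cfsg.hermForm 5 F q) K ∧ H = Cfsg.Geo.subalgebraNormalizer K ⊓ (Cfsg.GU 5 F q ⊓ Cfsg.Geo.specialLinear (Fin 5) F)) ∨
    (∃ (F₀ : Subfield F) (r : ℕ) (P : Matrix.GeneralLinearGroup (Fin 5) F), r.Prime ∧ Odd r ∧ Fintype.card F = Nat.card F₀ ^ r ∧ Cfsg.Geo.IsFormRationalStructure (Cfsg.hermForm 5 F q) F₀ 1 P ∧ H = Cfsg.Geo.subfieldSubgroup F₀ P ⊓ (Cfsg.GU 5 F q ⊓ Cfsg.Geo.specialLinear (Fin 5) F)) ∨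
    (Odd q ∧ ∃ (F₀ : Subfield F) (P : Matrix.GeneralLinearGroup (Fin 5) F), Fintype.card F = Nat.card F₀ ^ 2 ∧ Cfsg.Geo.IsFormRationalStructure (Cfsg.hermForm 5 F q) F₀ 1 P ∧ H = Cfsg.Geo.subfieldSubgroup F₀ P ⊓ (Cfsg.GU 5 F q ⊓ Cfsg.Geo.specialLinear (Fin 5) F)) ∨
    (∃ (p : ℕ) (R : Subgroup (Matrix.GeneralLinearGroup (Fin 5) F)), p.Prime ∧ CharP F p ∧ ((q = p ∧ p % 5 = 4) ∨ (q = p ^ 2 ∧ (p % 5 = 2 ∨ p % 5 = 3))) ∧ Cfsg.Geo.IsSymplecticTypeGroup 5 R ∧ Cfsg.Geo.ActsAbsolutelyIrreducibly (Cfsg.Geo.matrixSet R) ∧ R ≤ Cfsg.Geo.similarityGroup (Cfsg.hermForm 5 F q) ∧ Nat.card R = 125 ∧ Nat.card (Subgroup.center R) = 5 ∧ H = Cfsg.Geo.subgroupNormalizer R ⊓ (Cfsg.GU 5 F q ⊓ Cfsg.Geo.specialLinear (Fin 5) F)) ∨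
    Cfsg.Geo.InUnitaryResidualClass H := by
  have hq2 := two_le_q hF
  have hprime : Nat.Prime 5 := by norm_num
  rcases reduceU hF (by norm_num) pc hub H hH with h | h | ⟨t, k, D, hD, hk2, hE⟩ |
      ⟨k, D, hk, hD, hts, hE⟩ | h | h | ⟨heven, h⟩ | ⟨r, R, p, e, k, hR, habs, hsim, hrp, hmin, hcase, hE⟩ |
      ⟨r, K, hr, hodd, hK, hadj, hE⟩ | ⟨n₁, n₂, e, P, f₁, f₂, h1, h12, h2q, hf₁, hf₂, hT, hE⟩ |
      ⟨k, t, e, P, f₁, hk, ht, hkq, hf₁, hT, hE⟩ | h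
  · exact Or.inl h
  · exact Or.inr (Or.inl h)
  · have htk := Cfsg.Agent.Lib.Helper9.HubCor.mul_eq_of_isMDecomposition D hD.decomp
    have ht := hD.decomp.two_le
    have hk := hD.decomp.pos
    have hkd : k ∣ 5 := ⟨t, by rw [← htk]; ring⟩
    rcases (Nat.dvd_prime hprime).mp hkd with rfl | rfl
    · obtain rfl : t = 5 := by omega
      exact Or.inr (Or.inr (Or.inl ⟨D, hD, hE⟩))
    · exfalso
      have : t = 1 := by nlinarith
      omega
  · omega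
  · exact Or.inr (Or.inr (Or.inr (Or.inr (Or.inl h))))
  · exact Or.inr (Or.inr (Or.inr (Or.inr (Or.inr (Or.inl h)))))
  · exact absurd heven (by decide)
  · -- class 6: `5 = 5 ^ 1`
    have hnk := pc.c6exact r R p e k hR habs hrp hmin hcase
    have hk0 : k ≠ 0 := by
      rintro rfl
      norm_num at hnk
    have hr5 : r = 5 := by
      have h3 : r ∣ 5 := by
        rw [hnk]
        exact dvd_pow_self _ hk0
      exact (Nat.prime_dvd_prime_iff_eq hR.prime hprime).mp h3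
    subst hr5
    have hk1 : k = 1 := by
      have h9 : (5 : ℕ) ^ 1 = 5 ^ k := by rw [← hnk, pow_one]
      exact (Nat.pow_right_injective (by norm_num) h9).symm
    subst hk1
    rcases hcase with ⟨-, hZ, -, hcard⟩ | ⟨h32, -⟩
    · rw [hZ] at hmin
      obtain ⟨hp, hch, harith⟩ := c6_arith_five hF p e hrp hmin
      exact Or.inr (Or.inr (Or.inr (Or.inr (Or.inr (Or.inr (Or.inl ⟨p, R, hp, hch, harith, hR, habs, hsim, by rw [hcard]; norm_num, hZ, hE⟩))))))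
    · omega
  · have hd := Cfsg.Agent.Lib.Helper24.HubCor.dvd_of_isFieldSubalgebra K hK (by norm_num)
    have := (Nat.prime_dvd_prime_iff_eq hr hprime).mp hd
    subst this
    refine Or.inr (Or.inr (Or.inr (Or.inl ⟨?_, K, hK, hadj, hE⟩)))
    by_contra hq3
    have hq : q = 2 := by omega
    obtain ⟨X, hHX, hXG⟩ := hX5 hq K hK hadj
    rw [← hE] at hHX
    rcases hH.2 X hHX.le hXG.le with h | h
    · exact absurd h (ne_of_gt hHX)
    · exact absurd h (ne_of_lt hXG)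
  · exfalso
    have hc := card_tensorU e
    have hkd : n₁ ∣ 5 := ⟨n₂, hc⟩
    rcases (Nat.dvd_prime hprime).mp hkd with rfl | rfl
    · omega
    · have : n₂ = 1 := by nlinarith
      omega
  · exfalso
    have hc := card_wreathU e
    have h1 : k ^ 2 ≤ k ^ t := Nat.pow_le_pow_right (by omega) ht
    have hkd : k ∣ 5 := by
      rw [hc]
      exact dvd_pow_self _ (by omega)
    rcases (Nat.dvd_prime hprime).mp hkd with rfl | rfl
    · omega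
    · have : 5 ^ 2 ≤ 5 := by omega
      norm_num at this
  · exact Or.inr (Or.inr (Or.inr (Or.inr (Or.inr (Or.inr (Or.inr h))))))

end Cfsg.Agent.Lib.Helper9.UCor
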