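import Mathlib
import Cfsg.Prelude.Def_GeometricClasses
import Cfsg.Agent.Lib.Helper9.SUCorMain
import Cfsg.Agent.Lib.Helper9.SUCorPU1
import Cfsg.Agent.Lib.Helper21.SUCorPU2
import Cfsg.Agent.Lib.Helper26.SUCorPU3
import Cfsg.Agent.Lib.Helper26.SUCorPU4
import Cfsg.Agent.Lib.Helper8.SUCorPU5
import Cfsg.Agent.Lib.Helper10.SUCorPU6
import Cfsg.Agent.Lib.Helper26.SUCorPU7
import Cfsg.Agent.Lib.Helper10.SUCorE1
import Cfsg.Agent.Lib.Helper10.SUCorE2
import Cfsg.Agent.Lib.Helper18.SUCorC6B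

/-!
# SU corollary family: the generic pieces, collected  (helper9)

`pieces_real hF hn hex : SUPieces n q F` bundles the thirteen generic pieces of the SU corollary family, proved by
helper8 (PU5), helper9 (PU1), helper10 (E1, E2, PU6), helper18 (C6POW, C6EXACT; half A by helper23), helper21 (PU2a, PU2b),
helper26 (PU3, PU4, PU7).
-/

set_option autoImplicit false

namespace Cfsg.Agent.Lib.Helper9.UCor

open Cfsg Cfsg.Geo
open scoped MatrixGroups Matrix Kronecker

variable {F : Type*} [Field F] [Fintype F] {n q : ℕ}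

/-- all the generic pieces of the SU corollary family -/
theorem pieces_real (hF : Fintype.card F = q ^ 2) (hn : 3 ≤ n) (hex : ¬ (n = 3 ∧ q = 2)) :
    SUPieces n q F where
  pu1 := fun W h0 h1 => Cfsg.Agent.Lib.Helper9.SUCorPU1.not_su_le_subspaceStabilizer hF hn hex W h0 h1
  pu2a := fun D hD =>
    Cfsg.Agent.Lib.Helper21.SUCorPU2.not_su_le_decompositionStabilizer_nondeg hF hn hex D hD
  pu2b := fun k D hk hD hts =>
    Cfsg.Agent.Lib.Helper21.SUCorPU2.not_su_le_decompositionStabilizer_tsPair hF hn hex k D hk hD hts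
  pu3 := fun r K hr hK =>
    Cfsg.Agent.Lib.Helper26.SUCorPU3.not_su_le_subalgebraNormalizer hF hn hex r K hr hK
  pu4 := fun n₁ n₂ e P h1 h2 =>
    Cfsg.Agent.Lib.Helper26.SUCorPU4.not_su_le_tensorProductSubgroup hF hn hex n₁ n₂ e P h1 h2
  pu5 := fun F₀ h P => Cfsg.Agent.Lib.Helper8.SUCorPU5.not_su_le_subfieldSubgroup hF hn hex F₀ h P
  pu6 := fun r R hR habs hsim p hp hrp =>
    Cfsg.Agent.Lib.Helper10.SUCorPU6.not_su_le_subgroupNormalizer hF hn hex r R hR habs hsim p hp hrp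
  pu7 := fun k t e P hk ht =>
    Cfsg.Agent.Lib.Helper26.SUCorPU7.not_su_le_tensorWreathSubgroup hF hn hex k t e P hk ht
  e1 := by
    rintro rfl t D hD
    exact Cfsg.Agent.Lib.Helper10.SUCorE1.exists_frame_of_two_decomposition hF D hD
  e2 := by
    rintro rfl n₂ h2 e P f₁ f₂ hf₁ hf₂ hT
    exact Cfsg.Agent.Lib.Helper10.SUCorE2.exists_decomposition_of_tensor_two hF n₂ h2 e P f₁ f₂ hf₁ hf₂ hT
  c6pow := fun r R p e hR habs hmin hZ =>
    Cfsg.Agent.Lib.Helper18.SUCorC6.exists_pow_of_symplecticType (by omega) r R p e hR habs hmin hZ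
  c6exact := fun r R p e k hR habs hrp hmin hcase =>
    Cfsg.Agent.Lib.Helper18.SUCorC6.dim_eq_pow_of_symplecticType (by omega) r R p e k hR habs hrp hmin hcase

end Cfsg.Agent.Lib.Helper9.UCor
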