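import Mathlib
import Cfsg.Agent.Lib.Helper9.SURUC0

/-!
# Regular unipotent generation of `SU_n(q)`: the conjugating Eichler element `ψ` (abstract frame)
-/

set_option autoImplicit false
set_option linter.unusedSectionVars false
set_option linter.unusedVariables false
set_option linter.unusedSimpArgs false

namespace Cfsg.Agent.Lib.Helper9.SURU

open Matrix Cfsg.Agent.Lib.Helper6 Cfsg.Agent.S0779 Cfsg.Agent.S0781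
open Cfsg.Agent.Lib.Helper6.SUG Cfsg.Agent.Lib.Helper13 Cfsg.Agent.Lib.Helper9.SUGen

section psi
variable {F : Type*} [Field F] [Fintype F] {q n m : ℕ}

local notation "hh" => Cfsg.hermForm n F q

variable (𝔉 : Frm F q n m)

theorem two_pow_q (hF : Fintype.card F = q ^ 2) : (2 : F) ^ q = 2 := by
  have : (2 : F) = 1 + 1 := by norm_num
  rw [this, add_pow_q hF, one_pow]

/-- the vector `z` of the Eichler element `ψ` -/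
def zz (c θ' : F) : Fin n → F := (-(2 / c)) • 𝔉.e 1 + (θ' / c) • 𝔉.w - 𝔉.f 1

/-- the vector `v = u3 (e 0 + e 1)` -/
def vv (l c θ' : F) : Fin n → F :=
  (2 - l⁻¹) • 𝔉.e 0 + (2 : F) • 𝔉.e 1 - θ' • 𝔉.w - c • (𝔉.f 0 - 𝔉.f 1)

/-- the vector `r = u3⁻¹ (e 0)` -/
def rr (l θ ρ : F) : Fin n → F :=
  (2 - l) • 𝔉.e 0 - l • 𝔉.e 1 - θ • 𝔉.w + ρ • 𝔉.f 1

variable (hF : Fintype.card F = q ^ 2)
include hF

theorem herm_e0_zz (hm : 1 < m) (c θ' : F) : hh (𝔉.e 0) (zz 𝔉 c θ') = 0 := by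
  unfold zz
  simp only [herm_add_right hF, herm_sub_right hF, herm_smul_right, 𝔉.hee, 𝔉.hew, 𝔉.hef]
  simp

theorem herm_vv_vv (hm : 1 < m) (l c θ' : F) :
    hh (vv 𝔉 l c θ') (vv 𝔉 l c θ') =
      -((2 - l⁻¹) * c ^ q) - c * (2 - l⁻¹) ^ q + 2 * c ^ q + c * 2 + θ' * θ' ^ q := by
  have h0 : 0 < m := by omega
  unfold vv
  simp only [herm_add_left, herm_sub_left', herm_add_right hF, herm_sub_right hF, herm_smul_left,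
    herm_smul_right, 𝔉.hee, 𝔉.hff, 𝔉.hef, 𝔉.hfe hF, 𝔉.hew, 𝔉.hfw, 𝔉.hwe hF, 𝔉.hwf hF, 𝔉.hww,
    two_pow_q hF]
  simp [h0, hm]
  ring

theorem herm_zz_zz (hm : 1 < m) (c θ' : F) :
    hh (zz 𝔉 c θ') (zz 𝔉 c θ') = 2 / c + (2 / c) ^ q + (θ' / c) * (θ' / c) ^ q := by
  have h0 : 0 < m := by omega
  unfold zz
  simp only [herm_add_left, herm_sub_left', herm_add_right hF, herm_sub_right hF, herm_smul_left,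
    herm_smul_right, 𝔉.hee, 𝔉.hff, 𝔉.hef, 𝔉.hfe hF, 𝔉.hew, 𝔉.hfw, 𝔉.hwe hF, 𝔉.hwf hF, 𝔉.hww,
    neg_pow_q hF]
  simp [h0, hm]
  ring

theorem psi_hc (hm : 1 < m) (l c θ' : F) (hc : c ≠ 0) (hvv : hh (vv 𝔉 l c θ') (vv 𝔉 l c θ') = 0) :
    (2 - l⁻¹) / c + ((2 - l⁻¹) / c) ^ q = hh (zz 𝔉 c θ') (zz 𝔉 c θ') := by
  rw [herm_zz_zz 𝔉 hF hm]
  rw [herm_vv_vv 𝔉 hF hm] at hvv
  have hcq : c ^ q ≠ 0 := pow_ne_zero _ hc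
  simp only [div_pow, two_pow_q hF]
  field_simp
  linear_combination (-1 : F) * hvv

/-- the conjugating Eichler element -/
def psi (hm : 1 < m) (l c θ' : F) (hc : c ≠ 0) (hvv : hh (vv 𝔉 l c θ') (vv 𝔉 l c θ') = 0) :
    ↥(Cfsg.SU n F q) :=
  eich hF (𝔉.e 0) (zz 𝔉 c θ') ((2 - l⁻¹) / c) (𝔉.hee 0 0) (herm_e0_zz 𝔉 hF hm c θ')
    (psi_hc 𝔉 hF hm l c θ' hc hvv)

theorem av_psi (hm : 1 < m) (l c θ' : F) (hc : c ≠ 0)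
    (hvv : hh (vv 𝔉 l c θ') (vv 𝔉 l c θ') = 0) (x : Fin n → F) :
    av (psi 𝔉 hF hm l c θ' hc hvv) x =
      x + hh x (𝔉.e 0) • (zz 𝔉 c θ' - ((2 - l⁻¹) / c) • 𝔉.e 0) - hh x (zz 𝔉 c θ') • 𝔉.e 0 := by
  unfold psi
  rw [av_eich]

theorem av_psi_inv (hm : 1 < m) (l c θ' : F) (hc : c ≠ 0)
    (hvv : hh (vv 𝔉 l c θ') (vv 𝔉 l c θ') = 0) (x : Fin n → F) :
    av (psi 𝔉 hF hm l c θ' hc hvv)⁻¹ x =
      x - hh x (𝔉.e 0) • (zz 𝔉 c θ' + (((2 - l⁻¹) / c) ^ q) • 𝔉.e 0) +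
        hh x (zz 𝔉 c θ') • 𝔉.e 0 := by
  unfold psi
  rw [av_eich_inv]

theorem av_psi_e0 (hm : 1 < m) (l c θ' : F) (hc : c ≠ 0)
    (hvv : hh (vv 𝔉 l c θ') (vv 𝔉 l c θ') = 0) :
    av (psi 𝔉 hF hm l c θ' hc hvv) (𝔉.e 0) = 𝔉.e 0 := by
  rw [av_psi, 𝔉.hee, herm_e0_zz 𝔉 hF hm]
  module

theorem herm_e1_zz (hm : 1 < m) (c θ' : F) : hh (𝔉.e 1) (zz 𝔉 c θ') = -1 := by
  unfold zz
  simp only [herm_add_right hF, herm_sub_right hF, herm_smul_right, 𝔉.hee, 𝔉.hew, 𝔉.hef]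
  simp [hm]

theorem herm_f0_zz (hm : 1 < m) (c θ' : F) : hh (𝔉.f 0) (zz 𝔉 c θ') = 0 := by
  unfold zz
  simp only [herm_add_right hF, herm_sub_right hF, herm_smul_right, 𝔉.hff, 𝔉.hfw, 𝔉.hfe hF]
  simp

theorem herm_w_zz (hm : 1 < m) (c θ' : F) : hh 𝔉.w (zz 𝔉 c θ') = (θ' / c) ^ q := by
  unfold zz
  simp only [herm_add_right hF, herm_sub_right hF, herm_smul_right, 𝔉.hwe hF, 𝔉.hwf hF, 𝔉.hww]
  simp

theorem av_psi_e1 (hm : 1 < m) (l c θ' : F) (hc : c ≠ 0)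
    (hvv : hh (vv 𝔉 l c θ') (vv 𝔉 l c θ') = 0) :
    av (psi 𝔉 hF hm l c θ' hc hvv) (𝔉.e 1) = 𝔉.e 0 + 𝔉.e 1 := by
  rw [av_psi, 𝔉.hee, herm_e1_zz 𝔉 hF hm]
  module

theorem av_psi_f0 (hm : 1 < m) (l c θ' : F) (hc : c ≠ 0)
    (hvv : hh (vv 𝔉 l c θ') (vv 𝔉 l c θ') = 0) :
    av (psi 𝔉 hF hm l c θ' hc hvv) (𝔉.f 0) =
      𝔉.f 0 + zz 𝔉 c θ' - ((2 - l⁻¹) / c) • 𝔉.e 0 := by
  have h0 : 0 < m := by omega
  rw [av_psi, 𝔉.hfe hF, herm_f0_zz 𝔉 hF hm, if_pos ⟨rfl, h0⟩]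
  module

theorem av_psi_f0' (hm : 1 < m) (l c θ' : F) (hc : c ≠ 0)
    (hvv : hh (vv 𝔉 l c θ') (vv 𝔉 l c θ') = 0) :
    av (psi 𝔉 hF hm l c θ' hc hvv) (𝔉.f 0) = (-(1 / c)) • vv 𝔉 l c θ' := by
  rw [av_psi_f0]
  unfold zz vv
  have e : ∀ a b : Fin n → F, c • a = c • b → a = b := by
    intro a b hab
    have := congrArg (fun y => c⁻¹ • y) hab
    simpa [smul_smul, inv_mul_cancel₀ hc] using this
  apply e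
  simp only [smul_add, smul_sub, smul_smul]
  have e1 : c * -(2 / c) = -2 := by field_simp
  have e2 : c * (θ' / c) = θ' := by field_simp
  have e3 : c * ((2 - l⁻¹) / c) = 2 - l⁻¹ := by field_simp
  have e4 : c * -(1 / c) = -1 := by field_simp
  rw [e1, e2, e3]
  simp only [← mul_assoc, e4]
  module

theorem av_psi_inv_e0 (hm : 1 < m) (l c θ' : F) (hc : c ≠ 0)
    (hvv : hh (vv 𝔉 l c θ') (vv 𝔉 l c θ') = 0) :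
    av (psi 𝔉 hF hm l c θ' hc hvv)⁻¹ (𝔉.e 0) = 𝔉.e 0 := by
  rw [av_psi_inv, 𝔉.hee, herm_e0_zz 𝔉 hF hm]
  module

theorem av_psi_inv_w (hm : 1 < m) (l c θ' : F) (hc : c ≠ 0)
    (hvv : hh (vv 𝔉 l c θ') (vv 𝔉 l c θ') = 0) :
    av (psi 𝔉 hF hm l c θ' hc hvv)⁻¹ 𝔉.w = 𝔉.w + ((θ' / c) ^ q) • 𝔉.e 0 := by
  rw [av_psi_inv, 𝔉.hwe hF, herm_w_zz 𝔉 hF hm]
  module

/-- the vector `ψ⁻¹ y ψ (f 0)` -/
theorem av_conj_y_f0 (hm : 1 < m) (l c θ' : F) (hc : c ≠ 0)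
    (hvv : hh (vv 𝔉 l c θ') (vv 𝔉 l c θ') = 0) (ty dy : F) (hdy : HP q ty dy) :
    av ((psi 𝔉 hF hm l c θ' hc hvv)⁻¹ * E0 hF 𝔉 ty dy * ((psi 𝔉 hF hm l c θ' hc hvv)⁻¹)⁻¹)
        (𝔉.f 0) =
      𝔉.f 0 + ty • 𝔉.w + (ty * (θ' / c) ^ q - dy - ty ^ q * (θ' / c)) • 𝔉.e 0 := by
  have h0 : 0 < m := by omega
  rw [inv_inv, av_mul, av_mul]
  have h1 : hh (av (psi 𝔉 hF hm l c θ' hc hvv) (𝔉.f 0)) (𝔉.e 0) = 1 := by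
    rw [← av_psi_e0 𝔉 hF hm l c θ' hc hvv, herm_av, 𝔉.hfe hF, if_pos ⟨rfl, h0⟩]
  have h2 : hh (av (psi 𝔉 hF hm l c θ' hc hvv) (𝔉.f 0)) 𝔉.w = θ' / c := by
    rw [av_psi_f0]
    unfold zz
    simp only [herm_add_left, herm_sub_left', herm_smul_left, 𝔉.hfw, 𝔉.hew, 𝔉.hww]
    simp
  unfold E0
  rw [av_hsT hF _ _ _ _ _ ty dy hdy, h1, h2, av_sub, av_add, av_inv_av, av_smul, av_smul, av_sub,
    av_smul, av_smul, av_psi_inv_e0, av_psi_inv_w]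
  module

/-- the vector `ψ⁻¹ r` -/
theorem av_psi_inv_rr (hm : 1 < m) (l c θ' : F) (hc : c ≠ 0)
    (hvv : hh (vv 𝔉 l c θ') (vv 𝔉 l c θ') = 0) (θ ρ : F) :
    av (psi 𝔉 hF hm l c θ' hc hvv)⁻¹ (rr 𝔉 l θ ρ) =
      rr 𝔉 l θ ρ + hh (rr 𝔉 l θ ρ) (zz 𝔉 c θ') • 𝔉.e 0 := by
  have h0 : 0 < m := by omega
  have h1 : hh (rr 𝔉 l θ ρ) (𝔉.e 0) = 0 := by
    unfold rr
    simp only [herm_add_left, herm_sub_left', herm_smul_left, 𝔉.hee, 𝔉.hwe hF, 𝔉.hfe hF]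
    simp
  rw [av_psi_inv, h1]
  module

end psi

end Cfsg.Agent.Lib.Helper9.SURU
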