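import Mathlib
import Cfsg.Agent.Lib.Helper9.SURUC1
import Cfsg.Agent.Lib.Helper9.SURUB3

/-!
# Regular unipotent generation of `SU_n(q)`: the base of the large field design
-/

set_option autoImplicit false
set_option linter.unusedSectionVars false
set_option linter.unusedVariables false
set_option linter.unusedSimpArgs false

namespace Cfsg.Agent.Lib.Helper9.SURU

open Matrix Cfsg.Agent.Lib.Helper6 Cfsg.Agent.S0779 Cfsg.Agent.S0781
open Cfsg.Agent.Lib.Helper6.SUG Cfsg.Agent.Lib.Helper13 Cfsg.Agent.Lib.Helper9.SUGen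

section base
variable {F : Type*} [Field F] [Fintype F] {q : ℕ}

theorem frmN_e0 (hF : Fintype.card F = q ^ 2) (C : Hyp F q) (m : ℕ) (hm : 2 ≤ m) :
    (frmN C hF m hm).e 0 = ev C (2 * m + 1) (2 * m - 1) := by
  have h0 : 0 < m := by omega
  simp [frmN, mkFrm, posN, h0]

theorem frmN_f0 (hF : Fintype.card F = q ^ 2) (C : Hyp F q) (m : ℕ) (hm : 2 ≤ m) :
    (frmN C hF m hm).f 0 = fv C (2 * m + 1) (2 * m - 1) := by
  have h0 : 0 < m := by omega
  simp [frmN, mkFrm, posN, h0]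

theorem frmN_e (hF : Fintype.card F = q ^ 2) (C : Hyp F q) (m : ℕ) (hm : 2 ≤ m) (k : ℕ)
    (hk : 1 ≤ k) (hkm : k < m) :
    (frmN C hF m hm).e k = ev C (2 * m + 1) (2 * (m - 1 - k)) := by
  have h0 : k ≠ 0 := by omega
  simp [frmN, mkFrm, posN, h0, hkm]

theorem frmN_f (hF : Fintype.card F = q ^ 2) (C : Hyp F q) (m : ℕ) (hm : 2 ≤ m) (k : ℕ)
    (hk : 1 ≤ k) (hkm : k < m) :
    (frmN C hF m hm).f k = fv C (2 * m + 1) (2 * (m - 1 - k)) := by
  have h0 : k ≠ 0 := by omega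
  simp [frmN, mkFrm, posN, h0, hkm]

theorem frmN_w (hF : Fintype.card F = q ^ 2) (C : Hyp F q) (m : ℕ) (hm : 2 ≤ m) :
    (frmN C hF m hm).w = sv (2 * m + 1) (2 * m - 2) := by
  simp [frmN, mkFrm]

theorem Hyp_u0_ne (C : Hyp F q) (hF : Fintype.card F = q ^ 2) : C.u0 ≠ 0 := by
  intro h
  have h1 := C.huu
  have h2 := C.huv
  rw [h, zero_mul, zero_add] at h1 h2
  have hq := q_pos hF
  have h3 : C.u1 = 0 := by
    rcases mul_eq_zero.mp h1 with h4 | h4
    · exact h4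
    · exact pow_eq_zero_iff hq.ne' |>.mp h4
  rw [h3, zero_mul] at h2
  exact zero_ne_one h2

/-- C1.  the base of the large field design -/
theorem np_base (hF : Fintype.card F = q ^ 2) (hq : 3 ≤ q) (C : Hyp F q) (m : ℕ) (hm : 2 ≤ m)
    (H : Subgroup ↥(Cfsg.SU (2 * m + 1) F q)) (l c θ' θ ρ ty dy : F) (hl : l ≠ 0) (hc : c ≠ 0)
    (hty : ty ≠ 0) (hdy : HP q ty dy) (hcoup : ρ * C.v0 = l * C.u0)
    (he0 : XL H ((frmN C hF m hm).e 0))
    (ha1 : XL H ((frmN C hF m hm).e 0 + (frmN C hF m hm).e 1))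
    (hv : XL H ((2 - l⁻¹) • (frmN C hF m hm).e 0 + (2 : F) • (frmN C hF m hm).e 1 -
      θ' • (frmN C hF m hm).w - c • ((frmN C hF m hm).f 0 - (frmN C hF m hm).f 1)))
    (hr : XL H ((2 - l) • (frmN C hF m hm).e 0 - l • (frmN C hF m hm).e 1 -
      θ • (frmN C hF m hm).w + ρ • (frmN C hF m hm).f 1))
    (hy : E0 hF (frmN C hF m hm) ty dy ∈ H) : AllIso H (2 * m - 4) := by
  have hm1 : 1 < m := by omega
  have hm0 : 0 < m := by omega
  obtain ⟨𝔉, h𝔉⟩ : ∃ 𝔉 : Frm F q (2 * m + 1) m, 𝔉 = frmN C hF m hm := ⟨_, rfl⟩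
  rw [← h𝔉] at he0 ha1 hv hr hy
  have e_e0 : 𝔉.e 0 = ev C (2 * m + 1) (2 * m - 1) := by rw [h𝔉]; exact frmN_e0 hF C m hm
  have e_f0 : 𝔉.f 0 = fv C (2 * m + 1) (2 * m - 1) := by rw [h𝔉]; exact frmN_f0 hF C m hm
  have e_e1 : 𝔉.e 1 = ev C (2 * m + 1) (2 * m - 4) := by
    rw [h𝔉, frmN_e hF C m hm 1 le_rfl hm1]
    congr 1
    omega
  have e_f1 : 𝔉.f 1 = fv C (2 * m + 1) (2 * m - 4) := by
    rw [h𝔉, frmN_f hF C m hm 1 le_rfl hm1]
    congr 1
    omega
  have e_w : 𝔉.w = sv (2 * m + 1) (2 * m - 2) := by rw [h𝔉]; exact frmN_w hF C m hm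
  -- supports
  have s_e0 : Sup (2 * m + 1) (2 * m - 2) (𝔉.e 0) := by rw [e_e0]; exact Sup_pl (by omega) _ _
  have s_f0 : Sup (2 * m + 1) (2 * m - 2) (𝔉.f 0) := by rw [e_f0]; exact Sup_pl (by omega) _ _
  have s_w : Sup (2 * m + 1) (2 * m - 2) 𝔉.w := by rw [e_w]; exact Sup_sv le_rfl
  have s_e1 : Sup (2 * m + 1) (2 * m - 4) (𝔉.e 1) := by rw [e_e1]; exact Sup_pl le_rfl _ _
  have s_f1 : Sup (2 * m + 1) (2 * m - 4) (𝔉.f 1) := by rw [e_f1]; exact Sup_pl le_rfl _ _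
  have hvv : Cfsg.hermForm (2 * m + 1) F q (vv 𝔉 l c θ') (vv 𝔉 l c θ') = 0 := hv.1
  obtain ⟨ψ, hψ⟩ : ∃ ψ, ψ = psi 𝔉 hF hm1 l c θ' hc hvv := ⟨_, rfl⟩
  obtain ⟨H', hH'⟩ : ∃ H', H' = H.map (MulAut.conj ψ⁻¹).toMonoidHom := ⟨_, rfl⟩
  have hXL : ∀ x, XL H' x ↔ XL H (av ψ x) := by
    intro x
    rw [hH', XL_conj hF H ψ⁻¹ x, inv_inv]
  have s_z : Sup (2 * m + 1) (2 * m - 4) (zz 𝔉 c θ') := by
    unfold zz
    exact ((s_e1.smul _).add ((s_w.mono (by omega)).smul _)).sub s_f1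
  -- the frame vectors of `H'`
  have k_e0 : XL H' (𝔉.e 0) := by
    rw [hXL, hψ, av_psi_e0]
    exact he0
  have k_e1 : XL H' (𝔉.e 1) := by
    rw [hXL, hψ, av_psi_e1]
    exact ha1
  have k_f0 : XL H' (𝔉.f 0) := by
    rw [hXL, hψ, av_psi_f0']
    exact hv.smul hF _
  have k_y : ψ⁻¹ * E0 hF 𝔉 ty dy * (ψ⁻¹)⁻¹ ∈ H' := by
    rw [hH', Subgroup.mem_map]
    exact ⟨_, hy, rfl⟩
  have k_xw : XL H' (𝔉.f 0 + ty • 𝔉.w +
      (ty * (θ' / c) ^ q - dy - ty ^ q * (θ' / c)) • 𝔉.e 0) := by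
    have := k_f0.map _ k_y
    rwa [hψ, av_conj_y_f0 𝔉 hF hm1 l c θ' hc hvv ty dy hdy] at this
  -- first step: the last three coordinates
  have A1 : AllIso H' (2 * m - 2) := by
    apply S0 hF C 1 le_rfl H' (2 * m - 2) (by omega) ?_ _ k_xw
    · exact ((s_f0.add (s_w.smul _)).add (s_e0.smul _))
    · rw [e_f0, e_w, e_e0]
      simp only [Pi.add_apply, Pi.smul_apply, smul_eq_mul, ev, fv]
      rw [pl_apply_of_ne _ _ _ _ (by simp; omega) (by simp; omega),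
        pl_apply_of_ne _ _ _ _ (by simp; omega) (by simp; omega), sv_apply_same]
      simpa using hty
    · refine ⟨?_, ?_, ?_⟩
      · intro i hi
        obtain rfl : i = 0 := by omega
        have e : 2 * 0 + (2 * m - 2 + 1) = 2 * m - 1 := by omega
        rw [e, ← e_e0, ← e_f0]
        exact ⟨k_e0, k_f0⟩
      · intro i hi
        omega
      · intro i hi
        omega
  -- second step
  have k_r : XL H' (rr 𝔉 l θ ρ + Cfsg.hermForm (2 * m + 1) F q (rr 𝔉 l θ ρ) (zz 𝔉 c θ') • 𝔉.e 0) := by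
    rw [← av_psi_inv_rr 𝔉 hF hm1 l c θ' hc hvv θ ρ, hXL, hψ, av_av_inv]
    exact hr
  have hne1 : -(l * C.u1) + ρ * C.v1 ≠ 0 := by
    intro h0
    have h1 := C.hvv
    have h2 := C.huv
    have h3 : l * (C.u0 * C.v0 ^ q + C.u1 * C.v1 ^ q) = ρ * (C.v0 * C.v0 ^ q + C.v1 * C.v1 ^ q) := by
      linear_combination (-(C.v0 ^ q)) * hcoup - (C.v1 ^ q) * h0
    rw [h1, h2, mul_zero, mul_one] at h3
    exact hl h3
  have A2 : AllIso H' (2 * m - 3) := by
    have e : 2 * m - 3 + 1 = 2 * m - 2 := by omega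
    apply S1 hF H' (2 * m - 3) (by omega) (by omega) (by rw [e]; exact A1)
      _ k_r
    · intro a ha
      unfold rr
      rw [e_e0, e_e1, e_w, e_f1]
      simp only [Pi.add_apply, Pi.sub_apply, Pi.smul_apply, smul_eq_mul, ev, fv]
      by_cases h4 : a.val = 2 * m - 4
      · have h5 : a = ⟨2 * m - 4, by omega⟩ := Fin.ext h4
        rw [h5, pl_apply_same, pl_apply_same, pl_apply_of_ne _ _ _ _ (by simp; omega) (by simp; omega),
          sv_apply_of_ne _ (by simp; omega)]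
        linear_combination hcoup
      · rw [pl_apply_of_ne _ _ _ a (by omega) (by omega), pl_apply_of_ne _ _ _ a (by omega) (by omega),
          pl_apply_of_ne _ _ _ a (by omega) (by omega), sv_apply_of_ne _ (by omega)]
        ring
    · unfold rr
      rw [e_e0, e_e1, e_w, e_f1]
      simp only [Pi.add_apply, Pi.sub_apply, Pi.smul_apply, smul_eq_mul, ev, fv]
      have e3 : (⟨2 * m - 3, by omega⟩ : Fin (2 * m + 1)) = ⟨2 * m - 4 + 1, by omega⟩ := by
        apply Fin.ext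
        simp only
        omega
      rw [e3, pl_apply_succ, pl_apply_succ, pl_apply_of_ne _ _ _ _ (by simp; omega) (by simp; omega),
        sv_apply_of_ne _ (by simp; omega)]
      intro h6
      apply hne1
      linear_combination h6
  -- third step
  have A3 : AllIso H' (2 * m - 4) := by
    have e : 2 * m - 4 + 1 = 2 * m - 3 := by omega
    apply S1 hF H' (2 * m - 4) (by omega) (by omega) (by rw [e]; exact A2)
      _ k_e1 s_e1
    rw [e_e1]
    unfold ev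
    rw [pl_apply_same]
    exact Hyp_u0_ne C hF
  -- transfer back
  intro x hx hxx
  have h1 : XL H' (av ψ⁻¹ x) := by
    apply A3
    · rw [hψ, av_psi_inv]
      exact (hx.sub ((s_z.add ((s_e0.mono (by omega)).smul _)).smul _)).add
        ((s_e0.mono (by omega)).smul _)
    · rw [herm_av]
      exact hxx
  rw [hXL, av_av_inv] at h1
  exact h1

end base

end Cfsg.Agent.Lib.Helper9.SURU
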