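import Mathlib
import Cfsg.Agent.Lib.Helper9.SURUC2

/-!
# Regular unipotent generation of `SU_n(q)`: the parameters of the large field design (F1)
-/

set_option autoImplicit false
set_option linter.unusedSectionVars false
set_option linter.unusedVariables false
set_option linter.unusedSimpArgs false

namespace Cfsg.Agent.Lib.Helper9.SURU

open Matrix Cfsg.Agent.Lib.Helper6 Cfsg.Agent.S0779 Cfsg.Agent.S0781
open Cfsg.Agent.Lib.Helper6.SUG Cfsg.Agent.Lib.Helper13 Cfsg.Agent.Lib.Helper9.SUGen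

section F1
variable {F : Type*} [Field F] [Fintype F] {q : ℕ}

theorem Hyp_v0_ne (C : Hyp F q) (hF : Fintype.card F = q ^ 2) : C.v0 ≠ 0 := by
  intro h
  have h1 := C.hvv
  have h2 := C.hvu hF
  rw [h, zero_mul, zero_add] at h1 h2
  have hq := q_pos hF
  have h3 : C.v1 = 0 := by
    rcases mul_eq_zero.mp h1 with h4 | h4
    · exact h4
    · exact pow_eq_zero_iff hq.ne' |>.mp h4
  rw [h3, zero_mul] at h2
  exact zero_ne_one h2

/-- F1.  parameters of the large field design. -/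
theorem exists_params_NP (hF : Fintype.card F = q ^ 2) (hq : 3 ≤ q) (C : Hyp F q) :
    ∃ l κ κt t d : F, κ ^ q = -κ ∧ κ ≠ 0 ∧ κt ≠ 0 ∧ κt ≠ 1 ∧ κt ^ q = κt ∧ t ≠ 0 ∧ HP q t d ∧
      d = -(κ ^ 2 * (l * l ^ q) * (C.u0 / C.v0) ^ q) ∧
      (∀ r : F, r ≠ 0 → ∃ j : ℕ, r = l ^ j) ∧ (∀ k : ℕ, l ^ k = 1 → (q ^ 2 - 1) ∣ k) := by
  obtain ⟨l, hl0, hgen, hord⟩ := exists_gen hF
  obtain ⟨κ, hκ0, hκ⟩ := exists_trace_zero hF
  have hlq0 : l ^ q ≠ 0 := pow_ne_zero _ hl0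
  have hu0 := Hyp_u0_ne C hF
  have hv0 := Hyp_v0_ne C hF
  have hv0q : C.v0 ^ q ≠ 0 := pow_ne_zero _ hv0
  obtain ⟨d, hd⟩ : ∃ d : F, d = -(κ ^ 2 * (l * l ^ q) * (C.u0 / C.v0) ^ q) := ⟨_, rfl⟩
  have hdq : d ^ q = -(κ ^ 2 * (l ^ q * l) * (C.u0 / C.v0)) := by
    rw [hd, neg_pow_q hF, mul_pow, mul_pow, mul_pow, pow_q_q hF, pow_q_q hF, ← pow_mul,
      mul_comm 2 q, pow_mul, hκ]
    ring
  have hs : d + d ^ q = -(κ ^ 2 * (l * l ^ q)) / (C.v0 * C.v0 ^ q) := by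
    rw [hdq, hd, div_pow]
    have h1 := (C.complete hF).1.1
    field_simp
    linear_combination (-1 : F) * h1
  have hs0 : d + d ^ q ≠ 0 := by
    rw [hs]
    exact div_ne_zero (neg_ne_zero.mpr (mul_ne_zero (pow_ne_zero _ hκ0) (mul_ne_zero hl0 hlq0)))
      (mul_ne_zero hv0 hv0q)
  obtain ⟨t, ht⟩ := exists_norm_any hF (d + d ^ q) (by rw [add_pow_q hF, pow_q_q hF]; ring)
  have ht0 : t ≠ 0 := by
    rintro rfl
    rw [zero_mul] at ht
    exact hs0 ht.symm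
  refine ⟨l, κ, l * l ^ q, t, d, hκ, hκ0, mul_ne_zero hl0 hlq0, ?_, ?_, ht0, ht.symm, hd, hgen,
    hord⟩
  · intro h1
    have h2 : l ^ (q + 1) = 1 := by
      rw [pow_succ, mul_comm]
      exact h1
    have h3 := hord _ h2
    have h4 : q ^ 2 - 1 ≤ q + 1 := Nat.le_of_dvd (by omega) h3
    have h5 : 9 ≤ q ^ 2 := by nlinarith
    have h6 : q ^ 2 ≥ 3 * q := by nlinarith
    omega
  · rw [mul_pow, pow_q_q hF]
    ring

end F1

end Cfsg.Agent.Lib.Helper9.SURU
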