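import Mathlib
import Cfsg.Agent.Lib.Helper9.SURUF
import Cfsg.Agent.Lib.Helper9.SURUB3
import Cfsg.Agent.Lib.Helper6.SURUA7
import Cfsg.Agent.H5.SURUA6

/-!
# Regular unipotent generation of `SU_n(q)`: closure in the large field design
-/

set_option autoImplicit false
set_option linter.unusedSectionVars false
set_option linter.unusedVariables false
set_option linter.unusedSimpArgs false

namespace Cfsg.Agent.Lib.Helper9.SURU

open Matrix Cfsg.Agent.Lib.Helper6 Cfsg.Agent.S0779 Cfsg.Agent.S0781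
open Cfsg.Agent.Lib.Helper6.SUG Cfsg.Agent.Lib.Helper13 Cfsg.Agent.Lib.Helper9.SUGen
open Cfsg.H5.SURU (av_u3_a1 av_u3_inv_e0 av_u3_f av_u3_f0)
open Cfsg.Agent.Lib.Helper7.SURU (av_uh_e)
open Cfsg.Agent.Lib.Helper6.SURUA4 (y_eq)
open Cfsg.Agent.Lib.Helper6.SURUA7 (e0_mem_XL av_u3_e0)

section clos
variable {F : Type*} [Field F] [Fintype F] {q : ℕ}

theorem gen_ne_one (hF : Fintype.card F = q ^ 2) (l : F)
    (hord : ∀ k : ℕ, l ^ k = 1 → (q ^ 2 - 1) ∣ k) : l ≠ 1 := by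
  intro h
  have h1 := hord 1 (by rw [h, one_pow])
  have hq := two_le_q' hF
  have h2 : q ^ 2 - 1 ≤ 1 := Nat.le_of_dvd one_pos h1
  have h3 : 4 ≤ q ^ 2 := by nlinarith
  omega

theorem fv_ne_zero' (C : Hyp F q) (hF : Fintype.card F = q ^ 2) {n : ℕ} (k : ℕ) (hk : k + 1 < n) :
    fv C n k ≠ 0 := by
  intro h
  have := herm_ev_fv C k hk
  rw [h, herm_zero_right hF] at this
  exact zero_ne_one this

/-- C2.  closure in the large field design. -/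
theorem closure_NP (hF : Fintype.card F = q ^ 2) (hq : 3 ≤ q) (C : Hyp F q) (m : ℕ) (hm : 2 ≤ m)
    (H : Subgroup ↥(Cfsg.SU (2 * m + 1) F q)) (l κ κt t d : F)
    (hκ : κ ^ q = -κ) (hκ0 : κ ≠ 0) (hκt0 : κt ≠ 0) (hκt1 : κt ≠ 1) (hκtq : κt ^ q = κt)
    (ht : t ≠ 0) (hd : HP q t d) (hcoup : d = -(κ ^ 2 * (l * l ^ q) * (C.u0 / C.v0) ^ q))
    (hgen : ∀ r : F, r ≠ 0 → ∃ j : ℕ, r = l ^ j) (hord : ∀ k : ℕ, l ^ k = 1 → (q ^ 2 - 1) ∣ k)
    (h1 : uh hF (frmN C hF m hm) t d ∈ H) (h2 : u2 hF (frmN C hF m hm) κt t d ∈ H)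
    (h3 : u3 hF (frmN C hF m hm) l κ hκ t d ∈ H) : H = ⊤ := by
  have hm1 : 1 < m := by omega
  have hm0 : 0 < m := by omega
  have hl1 : l ≠ 1 := gen_ne_one hF l hord
  have hl0 : l ≠ 0 := by
    intro h
    obtain ⟨j, hj⟩ := hgen κt hκt0
    rw [h] at hj
    rcases Nat.eq_zero_or_pos j with h0 | h0
    · rw [h0, pow_zero] at hj
      exact hκt1 hj
    · rw [zero_pow h0.ne'] at hj
      exact hκt0 hj
  have hlq0 : l ^ q ≠ 0 := pow_ne_zero _ hl0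
  have hu0 := Hyp_u0_ne C hF
  have hv0 := Hyp_v0_ne C hF
  have hd0 : d ≠ 0 := by
    rw [hcoup]
    apply neg_ne_zero.mpr
    exact mul_ne_zero (mul_ne_zero (pow_ne_zero _ hκ0) (mul_ne_zero hl0 hlq0))
      (pow_ne_zero _ (div_ne_zero hu0 hv0))
  have hdq : d ^ q = -(κ ^ 2 * (l ^ q * l) * (C.u0 / C.v0)) := by
    rw [hcoup, neg_pow_q hF, mul_pow, mul_pow, mul_pow, pow_q_q hF, pow_q_q hF, ← pow_mul,
      mul_comm 2 q, pow_mul, hκ]
    ring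
  obtain ⟨𝔉, h𝔉⟩ : ∃ 𝔉 : Frm F q (2 * m + 1) m, 𝔉 = frmN C hF m hm := ⟨_, rfl⟩
  have he0 : XL H (𝔉.e 0) := by
    rw [h𝔉]
    exact e0_mem_XL hF _ hm1 H l κ κt t d hκ hκ0 hκt0 hκt1 hκtq ht hd hgen hord h1 h2 h3
  have ha1 : XL H (𝔉.e 0 + 𝔉.e 1) := by
    have h5 := he0.map _ h3
    rw [h𝔉, av_u3_e0 hF _ hm1 l κ hκ hκ0 hl0 t d hd, ← h𝔉] at h5
    have h6 := h5.smul hF l⁻¹
    rwa [smul_smul, inv_mul_cancel₀ hl0, one_smul] at h6
  have hv := ha1.map _ h3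
  rw [h𝔉, av_u3_a1 hF _ hm1 l κ hκ hκ0 hl0 t d hd] at hv
  have hr := he0.map _ (H.inv_mem h3)
  rw [h𝔉, av_u3_inv_e0 hF _ hm1 l κ hκ hκ0 hl0 t d hd] at hr
  have hy : E0 hF (frmN C hF m hm) ((κt - 1) * t) (d ^ q + κt ^ 2 * d - κt * (t * t ^ q)) ∈ H := by
    rw [← y_eq hF _ hm0 κt t d hκt0 hκtq hd]
    exact H.mul_mem (H.inv_mem h1) h2
  have hdy : HP q ((κt - 1) * t) (d ^ q + κt ^ 2 * d - κt * (t * t ^ q)) := by
    unfold HP at hd ⊢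
    rw [sub_pow_q hF, add_pow_q hF, mul_pow, mul_pow, mul_pow, mul_pow, pow_q_q hF, pow_q_q hF,
      sub_pow_q hF, one_pow, ← pow_mul, mul_comm 2 q, pow_mul, hκtq]
    linear_combination (1 + κt ^ 2) * hd
  have hbase : AllIso H (2 * m - 4) := by
    apply np_base hF hq C m hm H l (κ⁻¹ ^ 2 * d / l) (κ⁻¹ * t * l ^ q / l ^ 2)
      (κ⁻¹ * t * l ^ q / l) (-(κ⁻¹ ^ 2 * d ^ q / l ^ q)) _ _ hl0 ?_ ?_ hdy ?_ ?_ ?_ hv hr hy
    · exact div_ne_zero (mul_ne_zero (pow_ne_zero _ (inv_ne_zero hκ0)) hd0) hl0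
    · exact mul_ne_zero (sub_ne_zero.mpr hκt1) ht
    · rw [hdq]
      field_simp
    · rw [← h𝔉]; exact he0
    · rw [← h𝔉]; exact ha1
  apply grow_all hF C m hm H hbase
  intro k hk2 hkm hA
  have e_ek1 : 𝔉.e (k - 1) = ev C (2 * m + 1) (2 * (m - k)) := by
    rw [h𝔉, frmN_e hF C m hm (k - 1) (by omega) (by omega)]
    congr 2
    omega
  have e_fk1 : 𝔉.f (k - 1) = fv C (2 * m + 1) (2 * (m - k)) := by
    rw [h𝔉, frmN_f hF C m hm (k - 1) (by omega) (by omega)]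
    congr 2
    omega
  have e_ek : 𝔉.e k = ev C (2 * m + 1) (2 * (m - 1 - k)) := by
    rw [h𝔉, frmN_e hF C m hm k (by omega) (by omega)]
  have e_fk : 𝔉.f k = fv C (2 * m + 1) (2 * (m - 1 - k)) := by
    rw [h𝔉, frmN_f hF C m hm k (by omega) (by omega)]
  have x1 : XL H (𝔉.e (k - 1)) := by
    apply hA
    · rw [e_ek1]; exact Sup_pl le_rfl _ _
    · exact 𝔉.hee _ _
  have x2 := x1.map _ h1
  rw [h𝔉, av_uh_e hF _ t d hd (k - 1), ← h𝔉] at x2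
  have ek : k - 1 + 1 = k := by omega
  rw [ek, add_comm (𝔉.e (k - 1)) _, e_ek] at x2
  by_cases hk : k = 2
  · subst hk
    have x3 : XL H (𝔉.f 0) := by
      apply hA
      · rw [h𝔉, frmN_f0]; exact Sup_pl (by omega) _ _
      · exact 𝔉.hff _ _
    have x4 := x3.map _ h3
    rw [h𝔉, av_u3_f0 hF _ (by omega) l κ hκ hκ0 hl0 t d hd, ← h𝔉] at x4
    rw [add_comm _ (𝔉.f 2), e_fk] at x4
    refine ⟨_, _, ?_, ?_, ?_, ?_, x2, x4⟩
    · rw [e_ek1]; exact Sup_pl le_rfl _ _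
    · apply Sup.add
      · apply Sup.smul
        rw [h𝔉, frmN_f0]; exact Sup_pl (by omega) _ _
      · apply Sup.smul
        rw [e_fk1]; exact Sup_pl le_rfl _ _
    · rw [e_ek1]
      exact ev_ne_zero C _ (by omega)
    · intro h0
      have h7 : Cfsg.hermForm (2 * m + 1) F q
          ((2 - l ^ q) • 𝔉.f 0 + ((1 - l) ^ 2 / l) ^ q • 𝔉.f 1) (𝔉.e 1) = 0 := by
        rw [h0, herm_zero_left]
      rw [herm_add_left, herm_smul_left, herm_smul_left, 𝔉.hfe hF, 𝔉.hfe hF] at h7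
      simp [hm1] at h7
      rcases h7.1 with h8 | h8
      · exact hl1 (sub_eq_zero.mp h8).symm
      · exact hl0 h8
  · have x3 : XL H (𝔉.f (k - 1)) := by
      apply hA
      · rw [e_fk1]; exact Sup_pl le_rfl _ _
      · exact 𝔉.hff _ _
    have x4 := x3.map _ h3
    rw [h𝔉, av_u3_f hF _ hm1 l κ hκ hκ0 hl0 t d hd (k - 1) (by omega) (by omega), ← h𝔉] at x4
    rw [ek, add_comm (𝔉.f (k - 1)) _, e_fk] at x4
    refine ⟨_, _, ?_, ?_, ?_, ?_, x2, x4⟩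
    · rw [e_ek1]; exact Sup_pl le_rfl _ _
    · rw [e_fk1]; exact Sup_pl le_rfl _ _
    · rw [e_ek1]
      exact ev_ne_zero C _ (by omega)
    · rw [e_fk1]
      exact fv_ne_zero' C hF _ (by omega)

end clos

end Cfsg.Agent.Lib.Helper9.SURU
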