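import Mathlib
import Cfsg.Agent.Lib.Helper9.SURUC3
import Cfsg.Agent.Lib.Helper25.SURUE1
import Cfsg.Agent.H5.SURUE0
import Cfsg.Agent.Lib.Helper22.SURUP5

/-!
# Regular unipotent generation of `SU_n(q)`, `n` odd: assembly
-/

set_option autoImplicit false
set_option linter.unusedSectionVars false
set_option linter.unusedVariables false
set_option linter.unusedSimpArgs false

namespace Cfsg.Agent.Lib.Helper9.SURU

open Matrix Cfsg.Agent.Lib.Helper6 Cfsg.Agent.S0779 Cfsg.Agent.S0781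
open Cfsg.Agent.Lib.Helper6.SUG Cfsg.Agent.Lib.Helper13 Cfsg.Agent.Lib.Helper9.SUGen
open Cfsg.H5.SURU (frmN_span)
open Cfsg.Agent.Lib.Helper25.SURU (uh_regular)
open Cfsg.Agent.Lib.Helper22.SURU (su_odd_P2)

section G
variable {F : Type*} [Field F] [Fintype F] {q : ℕ}

/-- G1.  `SU_{2m+1}(q)`, `m ≥ 2`, `q ≥ 3`, is generated by three conjugate regular unipotents. -/
theorem su_odd_NP (hF : Fintype.card F = q ^ 2) (hq : 3 ≤ q) (m : ℕ) (hm : 2 ≤ m) :
    ∃ u g h : ↥(Cfsg.SU (2 * m + 1) F q),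
      (IsNilpotent (((u : Matrix.SpecialLinearGroup (Fin (2 * m + 1)) F) :
          Matrix (Fin (2 * m + 1)) (Fin (2 * m + 1)) F) - 1) ∧
        (((u : Matrix.SpecialLinearGroup (Fin (2 * m + 1)) F) :
          Matrix (Fin (2 * m + 1)) (Fin (2 * m + 1)) F) - 1) ^ (2 * m + 1 - 1) ≠ 0) ∧
      Subgroup.closure ({u, g * u * g⁻¹, h * u * h⁻¹} : Set ↥(Cfsg.SU (2 * m + 1) F q)) = ⊤ := by
  obtain ⟨C⟩ := exists_hyp hF
  obtain ⟨l, κ, κt, t, d, hκ, hκ0, hκt0, hκt1, hκtq, ht, hd, hcoup, hgen, hord⟩ :=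
    exists_params_NP hF hq C
  refine ⟨uh hF (frmN C hF m hm) t d, Tp hF (frmN C hF m hm) κt m,
    gNP hF (frmN C hF m hm) l κ hκ, ?_, ?_⟩
  · exact uh_regular hF rfl hm _ (frmN_span hF C m hm) t d ht hd
  · apply closure_NP hF hq C m hm _ l κ κt t d hκ hκ0 hκt0 hκt1 hκtq ht hd hcoup hgen hord
    · apply Subgroup.subset_closure
      simp
    · apply Subgroup.subset_closure
      unfold u2
      simp
    · apply Subgroup.subset_closure
      unfold u3
      simp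

/-- `SU_n(q)`, `n ≥ 5` odd, is generated by three conjugate regular unipotents. -/
theorem su_odd_ge5 (hF : Fintype.card F = q ^ 2) (n : ℕ) (hn : 5 ≤ n) (hodd : Odd n) :
    ∃ u g h : ↥(Cfsg.SU n F q),
      (IsNilpotent (((u : Matrix.SpecialLinearGroup (Fin n) F) :
          Matrix (Fin n) (Fin n) F) - 1) ∧
        (((u : Matrix.SpecialLinearGroup (Fin n) F) :
          Matrix (Fin n) (Fin n) F) - 1) ^ (n - 1) ≠ 0) ∧
      Subgroup.closure ({u, g * u * g⁻¹, h * u * h⁻¹} : Set ↥(Cfsg.SU n F q)) = ⊤ := by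
  obtain ⟨m, rfl⟩ := hodd
  have hm : 2 ≤ m := by omega
  have hq2 : 2 ≤ q := two_le_q' hF
  by_cases hq : q = 2
  · exact su_odd_P2 hF hq m hm
  · exact su_odd_NP hF (by omega) m hm

end G

end Cfsg.Agent.Lib.Helper9.SURU
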