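import Mathlib
import Cfsg.Prelude.Def_Balance
import Cfsg.Agent.Lib.Helper12.Generation
import Cfsg.Agent.Lib.Helper18.Basic
import Cfsg.Agent.Lib.Helper1.CoprimeSylow
import Cfsg.Agent.Lib.Helper9.Signalizer

set_option autoImplicit false

namespace Cfsg.Agent.Lib.Helper9

open Cfsg Cfsg.Agent.Lib.Helper12

section Cohyper

variable {G : Type*} [Group G] [Finite G]

omit [Finite G] in
theorem relIndex_mul_card_of_le {H K : Subgroup G} (h : H ≤ K) :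
    H.relIndex K * Nat.card H = Nat.card K := by
  have h1 := (H.subgroupOf K).index_mul_card
  rwa [Nat.card_congr (Subgroup.subgroupOfEquivOfLe h).toEquiv] at h1

/-- Two "cohyperplanes" of an elementary abelian group of order `≥ p³` meet nontrivially. -/
theorem exists_ne_one_mem_inf_of_isCohyper {p : ℕ} [hp : Fact p.Prime] {A B₁ B₂ : Subgroup G}
    (hA : Cfsg.IsElementaryAbelian p A) (hA3 : p ^ 3 ≤ Nat.card ↥A)
    (h₁ : IsCohyper A B₁) (h₂ : IsCohyper A B₂) : ∃ a ∈ B₁ ⊓ B₂, a ≠ 1 := by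
  have hcomm := isElementaryAbelian_comm hA
  have hc1 := card_le_of_isCohyper hcomm hA.2 hp.out.pos h₁
  have hc2 := card_le_of_isCohyper hcomm hA.2 hp.out.pos h₂
  have hr1 : B₁.relIndex A ≤ p := by
    have h := relIndex_mul_card_of_le h₁.1
    have hpos : 0 < Nat.card B₁ := Nat.card_pos
    nlinarith
  have hr2 : B₂.relIndex A ≤ p := by
    have h := relIndex_mul_card_of_le h₂.1
    have hpos : 0 < Nat.card B₂ := Nat.card_pos
    nlinarith
  have hr : (B₁ ⊓ B₂).relIndex A ≤ p * p :=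
    (Subgroup.relIndex_inf_le).trans (Nat.mul_le_mul hr1 hr2)
  have hle : B₁ ⊓ B₂ ≤ A := inf_le_left.trans h₁.1
  have hcard := relIndex_mul_card_of_le hle
  have hgt : 1 < Nat.card ↥(B₁ ⊓ B₂) := by
    by_contra hle1
    push Not at hle1
    have h1 : Nat.card ↥(B₁ ⊓ B₂) = 1 := le_antisymm hle1 Nat.card_pos
    rw [h1, mul_one] at hcard
    have : p ^ 3 ≤ p * p := by rw [← hcard] at hA3; exact hA3.trans hr
    have hp2 : 2 ≤ p := hp.out.two_le
    nlinarith [pow_succ p 2, pow_two p]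
  have hnt : Nontrivial ↥(B₁ ⊓ B₂) := Finite.one_lt_card_iff_nontrivial.mp hgt
  obtain ⟨⟨a, ha⟩, hne⟩ := exists_ne (1 : ↥(B₁ ⊓ B₂))
  exact ⟨a, ha, fun h => hne (Subtype.ext h)⟩

/-- **S1282**. -/
theorem exists_centralizer_normalizer_not_le {p : ℕ} [Fact p.Prime] {A : Subgroup G}
    (hA : Cfsg.IsElementaryAbelian p A) (hA3 : p ^ 3 ≤ Nat.card ↥A) {q : ℕ} [Fact q.Prime]
    (hqp : q ≠ p) {Q₁ Q₂ : Subgroup G} (h₁ : IsPGroup q ↥Q₁) (h₂ : IsPGroup q ↥Q₂)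
    (hA₁ : A ≤ Subgroup.normalizer (Q₁ : Set G)) (hA₂ : A ≤ Subgroup.normalizer (Q₂ : Set G))
    (hD₁ : Q₁ ⊓ Q₂ ≠ Q₁) (hD₂ : Q₁ ⊓ Q₂ ≠ Q₂) :
    ∃ a ∈ A, a ≠ 1 ∧
      ¬ (Subgroup.normalizer ((Q₁ ⊓ Q₂ : Subgroup G) : Set G) ⊓ Q₁ ⊓ Subgroup.centralizer {a} ≤
        Q₁ ⊓ Q₂) ∧
      ¬ (Subgroup.normalizer ((Q₁ ⊓ Q₂ : Subgroup G) : Set G) ⊓ Q₂ ⊓ Subgroup.centralizer {a} ≤
        Q₁ ⊓ Q₂) := by
  have hp : p.Prime := Fact.out
  have hq : q.Prime := Fact.out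
  set D := Q₁ ⊓ Q₂ with hD
  have hAD : A ≤ Subgroup.normalizer (D : Set G) := by
    intro a ha
    rw [Subgroup.mem_normalizer_iff]
    intro x
    have e1 := Subgroup.mem_normalizer_iff.mp (hA₁ ha) x
    have e2 := Subgroup.mem_normalizer_iff.mp (hA₂ ha) x
    rw [hD, Subgroup.mem_inf, Subgroup.mem_inf, e1, e2]
  -- generic step
  have key : ∀ Q : Subgroup G, IsPGroup q ↥Q → A ≤ Subgroup.normalizer (Q : Set G) → D ≤ Q →
      D ≠ Q → ∃ B : Subgroup G, IsCohyper A B ∧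
        ¬ (Subgroup.normalizer (D : Set G) ⊓ Q ⊓ Subgroup.centralizer (B : Set G) ≤ D) := by
    intro Q hQ hAQ hDQ hne
    have hlt : D < Q := lt_of_le_of_ne hDQ hne
    obtain ⟨t, htQ, htD, htN⟩ :=
      Cfsg.Agent.Lib.Helper18.exists_mem_normalizer_not_mem_of_lt D Q hQ hlt
    set N := Subgroup.normalizer (D : Set G) ⊓ Q with hN
    have hNQ : N ≤ Q := inf_le_right
    have hAN : A ≤ Subgroup.normalizer (N : Set G) :=
      Cfsg.Agent.Lib.Helper1.CoprimeAct.le_normalizer_normalizer_inf hAD hAQ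
    have hNp : ¬ p ∣ Nat.card ↥N := by
      intro hdvd
      obtain ⟨k, hk⟩ := IsPGroup.iff_card.mp (hQ.to_le hNQ)
      rw [hk] at hdvd
      exact hqp.symm ((Nat.prime_dvd_prime_iff_eq hp hq).mp (hp.dvd_of_dvd_pow hdvd))
    have hgen := le_iSup_cohyper_of_isElementaryAbelian hA hAN hNp
    by_contra hcon
    push Not at hcon
    have hle : N ≤ D := by
      refine hgen.trans (iSup_le ?_)
      intro B
      exact hcon B.1 B.2
    exact htD (hle ⟨htN, htQ⟩)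
  obtain ⟨B₁, hB₁, hn₁⟩ := key Q₁ h₁ hA₁ inf_le_left hD₁
  obtain ⟨B₂, hB₂, hn₂⟩ := key Q₂ h₂ hA₂ inf_le_right hD₂
  obtain ⟨a, ha, ha1⟩ := exists_ne_one_mem_inf_of_isCohyper hA hA3 hB₁ hB₂
  refine ⟨a, hB₁.1 ha.1, ha1, ?_, ?_⟩
  · intro hle
    apply hn₁
    refine le_trans (inf_le_inf_left _ ?_) hle
    exact Subgroup.centralizer_le (Set.singleton_subset_iff.mpr ha.1)
  · intro hle
    apply hn₂
    refine le_trans (inf_le_inf_left _ ?_) hle
    exact Subgroup.centralizer_le (Set.singleton_subset_iff.mpr ha.2)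

end Cohyper

end Cfsg.Agent.Lib.Helper9
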