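import Mathlib
import Cfsg.Prelude.Def_CaseTheorems
import Cfsg.Agent.Lib.Helper1.Cores
import Cfsg.Agent.Lib.Helper10.PComponent2
import Cfsg.Agent.Lib.Helper10.PGroup
import Cfsg.Agent.Lib.Helper16.UniqueOrderP
import Cfsg.Agent.Lib.Helper2.IndexTwo

/-!
# A simple normal subgroup of odd index (abstract form of S1214)

`Y` a finite group with `O(Y) = 1`, one class of involutions, no subgroup of index `2`, whose
Sylow `2`-subgroup `P` is non-abelian with cyclic centre and is generated by one element together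
with involutions.  Then a minimal normal subgroup of `Y` is simple, non-abelian and of odd index.
-/

set_option autoImplicit false
set_option linter.unusedSectionVars false
set_option linter.unusedVariables false
set_option linter.style.haveILetI false

namespace Cfsg.Agent.Lib.Helper9.SimpleNormal

open Cfsg

variable {Y : Type*} [Group Y] [Finite Y]

/-- a normal subgroup of even order contains every involution, if all involutions are conjugate -/
theorem involution_mem_of_even (hconj : ∀ s t : Y, orderOf s = 2 → orderOf t = 2 → IsConj s t)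
    (L : Subgroup Y) [hL : L.Normal] (h2 : 2 ∣ Nat.card L) (t : Y) (ht : orderOf t = 2) : t ∈ L := by
  haveI : Fact (Nat.Prime 2) := ⟨Nat.prime_two⟩
  obtain ⟨s, hs⟩ := exists_prime_orderOf_dvd_card' 2 h2
  have hs' : orderOf (s : Y) = 2 := by rw [Subgroup.orderOf_coe]; exact hs
  obtain ⟨g, hg⟩ := isConj_iff.mp (hconj (s : Y) t hs' ht)
  rw [← hg]
  exact hL.conj_mem _ s.2 g

/-- a nontrivial subnormal subgroup has even order when `O(Y) = 1` -/
theorem even_card_of_subnormal (hO : pPrimeCore 2 Y = ⊥) (T : Subgroup Y) (hT : T.IsSubnormal)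
    (hT0 : T ≠ ⊥) : 2 ∣ Nat.card T := by
  by_contra h2
  apply hT0
  have hcop : (Nat.card T).Coprime 2 := (Nat.Prime.coprime_iff_not_dvd Nat.prime_two).mpr h2 |>.symm
  have := Cfsg.Agent.Lib.Helper10.subnormal_coprime_le_pPrimeCore 2 hT hcop
  rw [hO] at this
  exact le_bot_iff.mp this

/-- the Sylow subgroup lies in every normal subgroup containing all involutions -/
theorem sylow_le_of_gen (L : Subgroup Y) [hL : L.Normal] (P : Sylow 2 Y)
    (hG : ∀ H : Subgroup Y, H.index ≠ 2) (hinv : ∀ t : Y, orderOf t = 2 → t ∈ L)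
    (x : Y) (hgen : (P : Subgroup Y) ≤ Subgroup.closure ({x} ∪ {t : Y | orderOf t = 2})) :
    (P : Subgroup Y) ≤ L := by
  haveI : Fact (Nat.Prime 2) := ⟨Nat.prime_two⟩
  set φ := QuotientGroup.mk' L with hφ
  let P' : Sylow 2 (Y ⧸ L) := P.mapSurjective (QuotientGroup.mk'_surjective L)
  have hP' : (P' : Subgroup (Y ⧸ L)) = (P : Subgroup Y).map φ := rfl
  have hle : (P' : Subgroup (Y ⧸ L)) ≤ Subgroup.zpowers (φ x) := by
    rw [hP']
    refine (Subgroup.map_mono hgen).trans ?_
    rw [MonoidHom.map_closure, Subgroup.closure_le]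
    rintro _ ⟨u, hu, rfl⟩
    rcases hu with hu | hu
    · rw [Set.mem_singleton_iff] at hu
      subst hu
      exact Subgroup.mem_zpowers _
    · have : φ u = 1 := (QuotientGroup.eq_one_iff u).mpr (hinv u hu)
      rw [this]
      exact Subgroup.one_mem _
  have hcyc : IsCyclic (P' : Subgroup (Y ⧸ L)) := Subgroup.isCyclic_of_le hle
  by_contra hPL
  have hne : (P' : Subgroup (Y ⧸ L)) ≠ ⊥ := by
    intro hbot
    apply hPL
    intro s hs
    have : φ s ∈ (P' : Subgroup (Y ⧸ L)) := by
      rw [hP']; exact Subgroup.mem_map_of_mem _ hs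
    rw [hbot, Subgroup.mem_bot] at this
    exact (QuotientGroup.eq_one_iff s).mp this
  have h2 : 2 ∣ Nat.card (P' : Subgroup (Y ⧸ L)) := by
    rcases (P'.isPGroup').card_eq_or_dvd with h | h
    · exact absurd (Subgroup.card_eq_one.mp h) hne
    · exact h
  have heven : Even (Nat.card (Y ⧸ L)) :=
    even_iff_two_dvd.mpr (h2.trans (Subgroup.card_subgroup_dvd_card _))
  obtain ⟨H, hH⟩ := Cfsg.Agent.Lib.Helper2.exists_index_two_of_cyclic_sylow heven P' hcyc
  refine hG (H.comap φ) ?_
  rw [Subgroup.index_comap_of_surjective _ (QuotientGroup.mk'_surjective L), hH]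

theorem odd_index_of_sylow_le (L : Subgroup Y) (P : Sylow 2 Y) (hPL : (P : Subgroup Y) ≤ L) :
    Odd L.index := by
  haveI : Fact (Nat.Prime 2) := ⟨Nat.prime_two⟩
  rw [← Nat.not_even_iff_odd, even_iff_two_dvd]
  intro h
  exact P.not_dvd_index (h.trans (Subgroup.index_dvd_of_le hPL))

/-- the central involution of a Sylow subgroup with cyclic centre lies in every nontrivial
subgroup of `P` normalised by `P` -/
theorem exists_zeta (P : Sylow 2 Y) (hZ : IsCyclic (Subgroup.center (P : Subgroup Y)))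
    (hP : (P : Subgroup Y) ≠ ⊥) :
    ∃ ζ : Y, ζ ∈ (P : Subgroup Y) ∧ orderOf ζ = 2 ∧
      ∀ N : Subgroup Y, N ≤ P → (P : Subgroup Y) ≤ Subgroup.normalizer (N : Set Y) → N ≠ ⊥ → ζ ∈ N := by
  haveI : Fact (Nat.Prime 2) := ⟨Nat.prime_two⟩
  have hPg : IsPGroup 2 (P : Subgroup Y) := P.isPGroup'
  haveI : Nontrivial (P : Subgroup Y) := (Subgroup.nontrivial_iff_ne_bot _).mpr hP
  haveI := hPg.center_nontrivial
  have hc2 : 2 ∣ Nat.card (Subgroup.center (P : Subgroup Y)) := by
    rcases (hPg.to_subgroup (Subgroup.center (P : Subgroup Y))).card_eq_or_dvd with h | h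
    · exfalso
      have := Subgroup.card_eq_one.mp h
      exact (Subgroup.nontrivial_iff_ne_bot _).mp inferInstance this
    · exact h
  obtain ⟨ζ, hζ⟩ := exists_prime_orderOf_dvd_card' 2 hc2
  refine ⟨((ζ : (P : Subgroup Y)) : Y), (ζ : (P : Subgroup Y)).2, ?_, ?_⟩
  · rw [Subgroup.orderOf_coe, Subgroup.orderOf_coe]; exact hζ
  · intro N hNP hPN hN0
    haveI : (N.subgroupOf (P : Subgroup Y)).Normal :=
      Subgroup.normal_subgroupOf_iff_le_normalizer hNP |>.mpr hPN
    have hN0' : N.subgroupOf (P : Subgroup Y) ≠ ⊥ := by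
      intro hbot
      apply hN0
      rw [Subgroup.subgroupOf_eq_bot] at hbot
      rw [← inf_eq_left.mpr hNP]
      exact disjoint_iff.mp hbot
    have hI := Cfsg.Agent.Lib.Helper10.normal_inf_center_ne_bot hPg (N.subgroupOf (P : Subgroup Y)) hN0'
    have hI2 : 2 ∣ Nat.card ↥(N.subgroupOf (P : Subgroup Y) ⊓ Subgroup.center (P : Subgroup Y)) := by
      rcases (hPg.to_subgroup _).card_eq_or_dvd with h | h
      · exact absurd (Subgroup.card_eq_one.mp h) hI
      · exact h
    obtain ⟨t, ht⟩ := exists_prime_orderOf_dvd_card' 2 hI2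
    have htN : (t : (P : Subgroup Y)) ∈ N.subgroupOf (P : Subgroup Y) := (Subgroup.mem_inf.mp t.2).1
    have htZ : (t : (P : Subgroup Y)) ∈ Subgroup.center (P : Subgroup Y) := (Subgroup.mem_inf.mp t.2).2
    have ht2 : orderOf (t : (P : Subgroup Y)) = 2 := by rw [Subgroup.orderOf_coe]; exact ht
    -- work in the cyclic centre
    set t' : Subgroup.center (P : Subgroup Y) := ⟨t, htZ⟩ with ht'
    have ht'2 : t' ^ 2 = 1 := by
      apply Subtype.ext
      have := pow_orderOf_eq_one (t : (P : Subgroup Y))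
      rw [ht2] at this
      simpa using this
    have ht'1 : t' ≠ 1 := by
      intro h1
      have : (t : (P : Subgroup Y)) = 1 := congrArg Subtype.val h1
      rw [this, orderOf_one] at ht2
      omega
    have hζ2 : ζ ^ 2 = 1 := by
      have := pow_orderOf_eq_one ζ
      rwa [hζ] at this
    have hmem := Cfsg.Agent.Lib.Helper16.mem_zpowers_of_pow_eq_one_of_isCyclic (p := 2) t' ζ ht'2 ht'1 hζ2
    obtain ⟨k, hk⟩ := Subgroup.mem_zpowers_iff.mp hmem
    have hk' : ((ζ : (P : Subgroup Y)) : Y) = ((t : (P : Subgroup Y)) : Y) ^ k := by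
      rw [← hk]
      simp [ht']
    rw [hk']
    exact Subgroup.zpow_mem _ (Subgroup.mem_subgroupOf.mp htN) _

end Cfsg.Agent.Lib.Helper9.SimpleNormal
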