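import Mathlib
import Cfsg.Agent.Lib.Helper9.SimpleNormal1
import Cfsg.Agent.Lib.Helper9.Conj

/-!
# A simple normal subgroup of odd index (abstract form of S1214), part 2
-/

set_option autoImplicit false
set_option linter.unusedSectionVars false
set_option linter.unusedVariables false
set_option linter.style.haveILetI false

namespace Cfsg.Agent.Lib.Helper9.SimpleNormal

open Cfsg
open Cfsg.Agent.Lib.Helper9 (mem_conjMap conj_mem_conjMap conjMap_eq_smul card_conjMap)

variable {Y : Type*} [Group Y] [Finite Y]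

/-- `P ⊓ T ≠ ⊥` for an `L`-invariant subgroup `T ≤ L` of even order, `P ≤ L` a Sylow subgroup. -/
theorem sylow_inf_ne_bot (P : Sylow 2 Y) (L : Subgroup Y) (hPL : (P : Subgroup Y) ≤ L)
    (T : Subgroup Y) (hTL : T ≤ L) (hLT : L ≤ Subgroup.normalizer (T : Set Y))
    (hT2 : 2 ∣ Nat.card T) : (P : Subgroup Y) ⊓ T ≠ ⊥ := by
  haveI : Fact (Nat.Prime 2) := ⟨Nat.prime_two⟩
  obtain ⟨t, ht⟩ := exists_prime_orderOf_dvd_card' 2 hT2
  have htL : (t : Y) ∈ L := hTL t.2
  have ht2 : orderOf (t : Y) = 2 := by rw [Subgroup.orderOf_coe]; exact ht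
  have ht'2 : orderOf (⟨t, htL⟩ : L) = 2 := by rw [← Subgroup.orderOf_coe]; exact ht2
  have hpg : IsPGroup 2 (Subgroup.zpowers (⟨t, htL⟩ : L)) :=
    IsPGroup.of_card (n := 1) (by rw [Nat.card_zpowers, ht'2]; norm_num)
  obtain ⟨Q, hQ⟩ := hpg.exists_le_sylow
  obtain ⟨l, hl⟩ := MulAction.exists_smul_eq L Q (P.subtype hPL)
  have h1 : l * ⟨t, htL⟩ * l⁻¹ ∈ ((l • Q : Sylow 2 L) : Subgroup L) := by
    rw [Sylow.coe_subgroup_smul, ← conjMap_eq_smul]
    exact conj_mem_conjMap (hQ (Subgroup.mem_zpowers _))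
  rw [hl, Sylow.coe_subtype, Subgroup.mem_subgroupOf] at h1
  have h2 : (l : Y) * t * (l : Y)⁻¹ ∈ T :=
    (Subgroup.mem_normalizer_iff.mp (hLT l.2) _).mp t.2
  intro hbot
  have h3 : (l : Y) * t * (l : Y)⁻¹ ∈ (P : Subgroup Y) ⊓ T := by
    refine Subgroup.mem_inf.mpr ⟨?_, h2⟩
    simpa using h1
  rw [hbot, Subgroup.mem_bot] at h3
  have h4 : (t : Y) = 1 := by
    have : (t : Y) = (l : Y)⁻¹ * ((l : Y) * t * (l : Y)⁻¹) * (l : Y) := by group
    rw [this, h3]; group
  rw [h4, orderOf_one] at ht2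
  omega

/-- normalizer of a conjugate -/
theorem le_normalizer_conjMap (L : Subgroup Y) [hL : L.Normal] (T : Subgroup Y)
    (hLT : L ≤ Subgroup.normalizer (T : Set Y)) (g : Y) :
    L ≤ Subgroup.normalizer ((T.map (MulAut.conj g).toMonoidHom : Subgroup Y) : Set Y) := by
  intro l hl
  rw [Subgroup.mem_normalizer_iff]
  intro u
  rw [mem_conjMap, mem_conjMap]
  have hl' : g⁻¹ * l * g ∈ L := by
    have := hL.conj_mem l hl g⁻¹
    simpa using this
  have := Subgroup.mem_normalizer_iff.mp (hLT hl') (g⁻¹ * u * g)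
  rw [this]
  have e : g⁻¹ * l * g * (g⁻¹ * u * g) * (g⁻¹ * l * g)⁻¹ = g⁻¹ * (l * u * l⁻¹) * g := by group
  rw [e]

theorem le_normalizer_inf (L A B : Subgroup Y)
    (hA : L ≤ Subgroup.normalizer (A : Set Y)) (hB : L ≤ Subgroup.normalizer (B : Set Y)) :
    L ≤ Subgroup.normalizer ((A ⊓ B : Subgroup Y) : Set Y) := by
  intro l hl
  rw [Subgroup.mem_normalizer_iff]
  intro u
  rw [Subgroup.mem_inf, Subgroup.mem_inf, ← Subgroup.mem_normalizer_iff.mp (hA hl) u,
    ← Subgroup.mem_normalizer_iff.mp (hB hl) u]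

/-- **Main abstract theorem.** -/
theorem exists_simple_normal (hO : pPrimeCore 2 Y = ⊥) (P : Sylow 2 Y)
    (hG : ∀ H : Subgroup Y, H.index ≠ 2)
    (hconj : ∀ s t : Y, orderOf s = 2 → orderOf t = 2 → IsConj s t)
    (x : Y) (hgen : (P : Subgroup Y) ≤ Subgroup.closure ({x} ∪ {t : Y | orderOf t = 2}))
    (hZ : IsCyclic (Subgroup.center (P : Subgroup Y)))
    (hnc : ¬ IsMulCommutative (P : Subgroup Y)) :
    ∃ L : Subgroup Y, L.Normal ∧ Odd L.index ∧ IsSimpleGroup L ∧ ¬ IsMulCommutative L := by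
  haveI : Fact (Nat.Prime 2) := ⟨Nat.prime_two⟩
  have hP0 : (P : Subgroup Y) ≠ ⊥ := by
    intro h
    apply hnc
    rw [h]
    exact ⟨⟨fun a b => Subsingleton.elim _ _⟩⟩
  -- a minimal normal subgroup
  have hfin : ({L : Subgroup Y | L.Normal ∧ L ≠ ⊥} : Set (Subgroup Y)).Finite := Set.toFinite _
  have hne : ({L : Subgroup Y | L.Normal ∧ L ≠ ⊥} : Set (Subgroup Y)).Nonempty := by
    refine ⟨⊤, inferInstance, ?_⟩
    intro h
    apply hP0
    rw [eq_bot_iff, ← h]
    exact le_top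
  obtain ⟨L, ⟨hLn, hL0⟩, hLmin⟩ := hfin.exists_minimal hne
  haveI := hLn
  have hL2 : 2 ∣ Nat.card L := even_card_of_subnormal hO L hLn.isSubnormal hL0
  have hinv : ∀ t : Y, orderOf t = 2 → t ∈ L := involution_mem_of_even hconj L hL2
  have hPL : (P : Subgroup Y) ≤ L := sylow_le_of_gen L P hG hinv x hgen
  obtain ⟨ζ, hζP, hζ2, hζ⟩ := exists_zeta P hZ hP0
  have hζ1 : ζ ≠ 1 := by
    rintro rfl
    rw [orderOf_one] at hζ2
    omega
  -- `ζ` lies in every nontrivial `L`-invariant subgroup of `L`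
  have hζmem : ∀ T : Subgroup Y, T ≠ ⊥ → T ≤ L → L ≤ Subgroup.normalizer (T : Set Y) → ζ ∈ T := by
    intro T hT0 hTL hLT
    have hTsub : T.IsSubnormal := by
      have h1 : (T.subgroupOf L).Normal :=
        (Subgroup.normal_subgroupOf_iff_le_normalizer hTL).mpr hLT
      exact Subgroup.IsSubnormal.step T L hTL hLn.isSubnormal h1
    have hT2 := even_card_of_subnormal hO T hTsub hT0
    have h1 := sylow_inf_ne_bot P L hPL T hTL hLT hT2
    have h2 := hζ ((P : Subgroup Y) ⊓ T) inf_le_left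
      (le_normalizer_inf _ _ _ Subgroup.le_normalizer (hPL.trans hLT)) h1
    exact (Subgroup.mem_inf.mp h2).2
  -- every nontrivial `L`-invariant subgroup of `L` is `L`
  have hkey : ∀ N : Subgroup Y, N ≠ ⊥ → N ≤ L → L ≤ Subgroup.normalizer (N : Set Y) → N = L := by
    intro N hN0 hNL hLN
    have hfin' : ({T : Subgroup Y | T ≠ ⊥ ∧ T ≤ N ∧ L ≤ Subgroup.normalizer (T : Set Y)} :
        Set (Subgroup Y)).Finite := Set.toFinite _
    obtain ⟨T, ⟨hT0, hTN, hLT⟩, hTmin⟩ := hfin'.exists_minimal ⟨N, hN0, le_rfl, hLN⟩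
    have hTL : T ≤ L := hTN.trans hNL
    have hTnormal : T.Normal := by
      refine ⟨fun n hn g => ?_⟩
      have hT₂L : T.map (MulAut.conj g).toMonoidHom ≤ L := by
        rintro _ ⟨u, hu, rfl⟩
        exact hLn.conj_mem u (hTL hu) g
      have hLT₂ := le_normalizer_conjMap L T hLT g
      have hT₂0 : T.map (MulAut.conj g).toMonoidHom ≠ ⊥ := by
        intro h
        apply hT0
        exact (Subgroup.map_eq_bot_iff_of_injective _ (MulAut.conj g).injective).mp h
      have hI : ζ ∈ T ⊓ T.map (MulAut.conj g).toMonoidHom :=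
        Subgroup.mem_inf.mpr ⟨hζmem T hT0 hTL hLT, hζmem _ hT₂0 hT₂L hLT₂⟩
      have hI0 : T ⊓ T.map (MulAut.conj g).toMonoidHom ≠ ⊥ := by
        intro h
        rw [h, Subgroup.mem_bot] at hI
        exact hζ1 hI
      have hle : T ≤ T ⊓ T.map (MulAut.conj g).toMonoidHom :=
        hTmin ⟨hI0, inf_le_left.trans hTN, le_normalizer_inf _ _ _ hLT hLT₂⟩ inf_le_left
      have hle' : T ≤ T.map (MulAut.conj g).toMonoidHom := hle.trans inf_le_right
      have heq : T = T.map (MulAut.conj g).toMonoidHom :=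
        Subgroup.eq_of_le_of_card_ge hle' (by rw [card_conjMap])
      rw [heq]
      exact conj_mem_conjMap hn
    have hTL' : L ≤ T := hLmin ⟨hTnormal, hT0⟩ hTL
    exact le_antisymm hNL (hTL'.trans hTN)
  refine ⟨L, hLn, odd_index_of_sylow_le L P hPL, ?_, ?_⟩
  · haveI : Nontrivial L := (Subgroup.nontrivial_iff_ne_bot _).mpr hL0
    refine ⟨fun N hN => ?_⟩
    by_cases hN0 : N = ⊥
    · exact Or.inl hN0
    · right
      have h1 : N.map L.subtype ≠ ⊥ := by
        intro h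
        exact hN0 ((Subgroup.map_eq_bot_iff_of_injective _ L.subtype_injective).mp h)
      have h2 : N.map L.subtype ≤ L := Subgroup.map_subtype_le N
      have h3 : L ≤ Subgroup.normalizer ((N.map L.subtype : Subgroup Y) : Set Y) := by
        intro l hl
        rw [Subgroup.mem_normalizer_iff]
        intro u
        constructor
        · rintro ⟨n, hn, rfl⟩
          exact ⟨⟨l, hl⟩ * n * ⟨l, hl⟩⁻¹, hN.conj_mem n hn _, by simp⟩
        · rintro ⟨n, hn, hnu⟩
          refine ⟨⟨l, hl⟩⁻¹ * n * ⟨l, hl⟩, ?_, ?_⟩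
          · have := hN.conj_mem n hn (⟨l, hl⟩⁻¹)
            simpa using this
          · have hnu' : (n : Y) = l * u * l⁻¹ := hnu
            simp only [Subgroup.coe_subtype, Subgroup.coe_mul, Subgroup.coe_inv, hnu']
            group
      have h4 := hkey _ h1 h2 h3
      rw [eq_top_iff]
      intro u _
      have : (u : Y) ∈ N.map L.subtype := by rw [h4]; exact u.2
      obtain ⟨n, hn, hnu⟩ := this
      have : n = u := Subtype.ext hnu
      rwa [← this]
  · intro hc
    apply hnc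
    refine ⟨⟨fun a b => ?_⟩⟩
    have := hc.is_comm.comm (⟨a, hPL a.2⟩ : L) ⟨b, hPL b.2⟩
    apply Subtype.ext
    have := congrArg Subtype.val this
    simpa using this

end Cfsg.Agent.Lib.Helper9.SimpleNormal
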