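import Mathlib
import Cfsg.Agent.Lib.Helper9.SimpleNormal2
import Cfsg.Agent.Lib.Helper9.QD.CentInv
import Cfsg.Agent.Lib.Helper9.Wr.CentInv
import Cfsg.Agent.Lib.Helper9.Wr.Center
import Cfsg.Agent.Lib.Helper10.PComponent

/-!
# S1214: quasi-dihedral or wreathed Sylow 2-subgroups, no subgroup of index two
-/

set_option autoImplicit false
set_option linter.unusedSectionVars false
set_option linter.unusedVariables false
set_option linter.style.haveILetI false

namespace Cfsg.Agent.Lib.Helper9.SimpleNormal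

open Cfsg
open Cfsg.Agent.Lib.Helper9.QD (QDData R SR Mz)
open Cfsg.Agent.Lib.Helper9.Wr (WrData W ZW)

variable {Y : Type*} [Group Y] [Finite Y]

theorem gen_coe (P : Subgroup Y) (x : P)
    (h : ∀ s : P, s ∈ Subgroup.closure ({x} ∪ {t : P | orderOf t = 2})) :
    P ≤ Subgroup.closure ({(x : Y)} ∪ {t : Y | orderOf t = 2}) := by
  intro s hs
  have h1 := Subgroup.mem_map_of_mem P.subtype (h ⟨s, hs⟩)
  rw [MonoidHom.map_closure] at h1
  refine Subgroup.closure_mono ?_ h1
  rintro _ ⟨u, hu, rfl⟩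
  rcases hu with hu | hu
  · left
    rw [Set.mem_singleton_iff] at hu
    rw [hu]
    rfl
  · right
    show orderOf ((u : P) : Y) = 2
    rw [Subgroup.orderOf_coe]
    exact hu

theorem not_comm_of_card_center {S : Type*} [Group S] [Finite S]
    (h : Nat.card (Subgroup.center S) ≠ Nat.card S) : ¬ IsMulCommutative S := by
  intro hc
  apply h
  have : Subgroup.center S = ⊤ := by
    rw [eq_top_iff]
    intro s _
    rw [Subgroup.mem_center_iff]
    intro g
    exact hc.is_comm.comm g s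
  rw [this, Subgroup.card_top]

theorem exists_simple_normal_qd (hO : pPrimeCore 2 Y = ⊥) (P : Sylow 2 Y)
    (hP : Cfsg.IsQuasiDihedral (P : Subgroup Y))
    (hG : ∀ H : Subgroup Y, H.index ≠ 2) :
    ∃ L : Subgroup Y, L.Normal ∧ Odd L.index ∧ IsSimpleGroup L ∧ ¬ IsMulCommutative L := by
  obtain ⟨n, x, y, h⟩ := Cfsg.Agent.Lib.Helper9.QD.exists_qdData hP
  have hconj : ∀ s t : Y, orderOf s = 2 → orderOf t = 2 → IsConj s t := by
    intro s t hs ht
    exact (Cfsg.Agent.Lib.Helper9.QD.isConj_zeta_of_no_index_two P h hP hG s hs).symm.trans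
      (Cfsg.Agent.Lib.Helper9.QD.isConj_zeta_of_no_index_two P h hP hG t ht)
  refine exists_simple_normal hO P hG hconj (x : Y) ?_ ?_ ?_
  · apply gen_coe
    intro s
    have hx : x ∈ Subgroup.closure ({x} ∪ {t : (P : Subgroup Y) | orderOf t = 2}) :=
      Subgroup.subset_closure (Or.inl rfl)
    have hy : y ∈ Subgroup.closure ({x} ∪ {t : (P : Subgroup Y) | orderOf t = 2}) :=
      Subgroup.subset_closure (Or.inr h.oy)
    rcases h.cases s with ⟨i, rfl⟩ | ⟨i, rfl⟩
    · exact Subgroup.pow_mem _ hx _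
    · exact Subgroup.mul_mem _ (Subgroup.pow_mem _ hx _) hy
  · rw [h.center_eq]
    infer_instance
  · apply not_comm_of_card_center
    rw [h.card_center, h.card]
    have := h.hn
    intro h2
    have : (2 : ℕ) ^ 1 = 2 ^ (n + 1) := by simpa using h2
    have := Nat.pow_right_injective (le_refl 2) this
    omega

theorem exists_simple_normal_wr (hO : pPrimeCore 2 Y = ⊥) (P : Sylow 2 Y)
    (hP : Cfsg.IsWreathed (P : Subgroup Y))
    (hG : ∀ H : Subgroup Y, H.index ≠ 2) :
    ∃ L : Subgroup Y, L.Normal ∧ Odd L.index ∧ IsSimpleGroup L ∧ ¬ IsMulCommutative L := by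
  obtain ⟨n, x, y, z, h⟩ := Cfsg.Agent.Lib.Helper9.Wr.exists_wrData hP
  have hconj : ∀ s t : Y, orderOf s = 2 → orderOf t = 2 → IsConj s t := by
    intro s t hs ht
    exact (Cfsg.Agent.Lib.Helper9.Wr.isConj_zeta_of_no_index_two P h hG s hs).symm.trans
      (Cfsg.Agent.Lib.Helper9.Wr.isConj_zeta_of_no_index_two P h hG t ht)
  refine exists_simple_normal hO P hG hconj (x : Y) ?_ ?_ ?_
  · apply gen_coe
    intro s
    have hx : x ∈ Subgroup.closure ({x} ∪ {t : (P : Subgroup Y) | orderOf t = 2}) :=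
      Subgroup.subset_closure (Or.inl rfl)
    have hz : z ∈ Subgroup.closure ({x} ∪ {t : (P : Subgroup Y) | orderOf t = 2}) :=
      Subgroup.subset_closure (Or.inr h.oz)
    have hy : y ∈ Subgroup.closure ({x} ∪ {t : (P : Subgroup Y) | orderOf t = 2}) := by
      rw [← h.rel]
      exact Subgroup.mul_mem _ (Subgroup.mul_mem _ hz hx) (Subgroup.inv_mem _ hz)
    have hW : ∀ a b : ZMod (2 ^ n),
        W x y a b ∈ Subgroup.closure ({x} ∪ {t : (P : Subgroup Y) | orderOf t = 2}) := by
      intro a b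
      exact Subgroup.mul_mem _ (Subgroup.pow_mem _ hx _) (Subgroup.pow_mem _ hy _)
    rcases h.cases s with ⟨a, b, rfl⟩ | ⟨a, b, rfl⟩
    · exact hW a b
    · exact Subgroup.mul_mem _ (hW a b) hz
  · rw [h.center_eq]
    infer_instance
  · apply not_comm_of_card_center
    rw [h.card_center, h.card]
    have := h.hn
    intro h2
    have := Nat.pow_right_injective (le_refl 2) h2
    omega

/-- **S1214** -/
theorem main {G : Type*} [Group G] [Finite G] (S : Sylow 2 G)
    (hS : Cfsg.IsQuasiDihedral (S : Subgroup G) ∨ Cfsg.IsWreathed (S : Subgroup G))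
    (hG : ∀ H : Subgroup G, H.index ≠ 2) :
    ∃ L : Subgroup (G ⧸ pPrimeCore 2 G),
      L.Normal ∧ Odd L.index ∧ IsSimpleGroup L ∧ ¬ IsMulCommutative L := by
  haveI : Fact (Nat.Prime 2) := ⟨Nat.prime_two⟩
  have hO := Cfsg.Agent.Lib.Helper10.pPrimeCore_quotient_eq_bot (G := G) 2
  let S' : Sylow 2 (G ⧸ pPrimeCore 2 G) :=
    S.mapSurjective (QuotientGroup.mk'_surjective (pPrimeCore 2 G))
  have hinj : Function.Injective
      ((QuotientGroup.mk' (pPrimeCore 2 G)).subgroupMap (S : Subgroup G)) := by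
    rw [injective_iff_map_eq_one]
    intro s hs
    have h1 : (QuotientGroup.mk' (pPrimeCore 2 G)) (s : G) = 1 := congrArg Subtype.val hs
    have h2 : (s : G) ∈ pPrimeCore 2 G := (QuotientGroup.eq_one_iff _).mp h1
    have h3 : (s : G) ∈ (S : Subgroup G) ⊓ pPrimeCore 2 G := ⟨s.2, h2⟩
    have h4 : (S : Subgroup G) ⊓ pPrimeCore 2 G = ⊥ := by
      apply disjoint_iff.mp
      apply Subgroup.disjoint_of_coprime_natCard
      obtain ⟨k, hk⟩ := IsPGroup.iff_card.mp S.isPGroup'
      rw [hk]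
      exact Nat.Coprime.pow_left _ (Cfsg.Agent.Lib.Helper1.pPrimeCore_coprime 2).symm
    rw [h4, Subgroup.mem_bot] at h3
    exact Subtype.ext h3
  let e : (S : Subgroup G) ≃* ((S : Subgroup G).map (QuotientGroup.mk' (pPrimeCore 2 G))) :=
    MulEquiv.ofBijective _ ⟨hinj, (QuotientGroup.mk' (pPrimeCore 2 G)).subgroupMap_surjective _⟩
  have hG' : ∀ H : Subgroup (G ⧸ pPrimeCore 2 G), H.index ≠ 2 := by
    intro H hH
    exact hG (H.comap (QuotientGroup.mk' (pPrimeCore 2 G)))
      (by rw [Subgroup.index_comap_of_surjective _ (QuotientGroup.mk'_surjective _), hH])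
  rcases hS with hS | hS
  · exact exists_simple_normal_qd hO S'
      (Cfsg.Agent.Lib.Helper9.CentInv.isQuasiDihedral_of_mulEquiv e hS) hG'
  · exact exists_simple_normal_wr hO S'
      (Cfsg.Agent.Lib.Helper9.CentInv.isWreathed_of_mulEquiv e hS) hG'

end Cfsg.Agent.Lib.Helper9.SimpleNormal
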