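import Mathlib
import Cfsg.Agent.Lib.Helper9.Signalizer
import Cfsg.Agent.Lib.Helper15.Sol7

/-!
# Solubilizers in `PSL₂(3^p)`, part A: abstract group theory

A group generated by `x`, `y` with `x² = y³ = (xy)³ = 1` is solvable (a quotient of `A₄`).
-/

set_option autoImplicit false

open scoped Pointwise

namespace Cfsg.Agent.Lib.Helper9.Sl3

open Cfsg.Agent.Lib.Helper9

/-- a group generated by `x`, `y` with `x² = y³ = (xy)³ = 1` is solvable -/
theorem isSolvable_closure_of_A4_rel {G : Type*} [Group G] [Finite G] (x y : G)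
    (hx : x * x = 1) (hy : y * y * y = 1) (hxy : x * y * (x * y) * (x * y) = 1) :
    Group.IsSolvable (Subgroup.closure ({x, y} : Set G)) := by
  have hxi : x⁻¹ = x := inv_eq_of_mul_eq_one_right hx
  have hyi : y⁻¹ = y * y := by
    apply inv_eq_of_mul_eq_one_right
    rw [← mul_assoc]; exact hy
  set c : G := y⁻¹ * x * y with hc
  have hcc : c * c = 1 := by
    have : c * c = y⁻¹ * (x * x) * y := by rw [hc]; group
    rw [this, hx]; group
  have hci : c⁻¹ = c := inv_eq_of_mul_eq_one_right hcc
  -- `y x y⁻¹ = x c`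
  have h1 : y * x * y = x⁻¹ * y⁻¹ * x⁻¹ := by
    have : y * x * y = x⁻¹ * (x * y * (x * y) * (x * y)) * (x * y)⁻¹ := by group
    rw [this, hxy]; group
  have hb : y * x * y⁻¹ = x * c := by
    have e1 : y * x * y⁻¹ = (y * x * y) * (y⁻¹ * y⁻¹) := by group
    have e2 : y⁻¹ * y⁻¹ = y := by
      have : y⁻¹ * y⁻¹ = (y * y * y)⁻¹ * y := by group
      rw [this, hy]; group
    rw [e1, h1, e2, hxi, hc]; group
  have hbb : (x * c) * (x * c) = 1 := by
    rw [← hb]
    have : y * x * y⁻¹ * (y * x * y⁻¹) = y * (x * x) * y⁻¹ := by group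
    rw [this, hx]; group
  have hcomm : x * c = c * x := by
    have : c * x = x⁻¹ * ((x * c) * (x * c)) * c⁻¹ := by group
    rw [this, hbb, hxi, hci]; group
  -- the four-group
  set V : Subgroup G := Subgroup.closure ({x, c} : Set G) with hV
  have hxV : x ∈ V := Subgroup.subset_closure (Set.mem_insert _ _)
  have hcV : c ∈ V := Subgroup.subset_closure (Set.mem_insert_of_mem _ rfl)
  have hVcomm : ∀ a ∈ ({x, c} : Set G), ∀ b ∈ ({x, c} : Set G), a * b = b * a := by
    intro a ha b hb'
    rcases ha with rfl | rfl <;> rcases hb' with rfl | rfl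
    · rfl
    · exact hcomm
    · exact hcomm.symm
    · rfl
  have hVsol : Group.IsSolvable V := by
    have := Subgroup.isMulCommutative_closure hVcomm
    exact Group.isSolvable_of_comm (fun a b => mul_comm' a b)
  have hZsol : Group.IsSolvable (Subgroup.zpowers y) := inferInstance
  have hnorm : ∀ u ∈ V, y * u * y⁻¹ ∈ V := by
    intro u hu
    have hle : V.map (MulAut.conj y).toMonoidHom ≤ V := by
      rw [hV, MonoidHom.map_closure, Subgroup.closure_le]
      rintro _ ⟨a, ha, rfl⟩
      rcases ha with ha | ha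
      · show y * a * y⁻¹ ∈ V
        rw [ha, hb]
        exact V.mul_mem hxV hcV
      · show y * a * y⁻¹ ∈ V
        have : y * (y⁻¹ * x * y) * y⁻¹ = x := by group
        rw [Set.mem_singleton_iff.1 ha, hc, this]
        exact hxV
    exact hle ⟨u, hu, rfl⟩
  have hZN : Subgroup.zpowers y ≤ Subgroup.normalizer (V : Set G) :=
    zpowers_le_normalizer_of_conj_mem hnorm
  have hsup := isSolvable_sup_of_le_normalizer hVsol hZsol hZN
  apply Cfsg.Agent.Lib.Helper15.Sol.isSolvable_of_le _ hsup
  rw [Subgroup.closure_le]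
  intro z hz
  rcases hz with rfl | rfl
  · exact (le_sup_left : V ≤ V ⊔ Subgroup.zpowers y) hxV
  · exact (le_sup_right : Subgroup.zpowers z ≤ V ⊔ Subgroup.zpowers z) (Subgroup.mem_zpowers z)

end Cfsg.Agent.Lib.Helper9.Sl3
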