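import Mathlib
import Cfsg.Agent.Lib.Helper9.Sl3A
import Cfsg.Agent.Lib.Helper15.Dk27

/-!
# Solubilizers in `PSL₂(3^p)`, part B: arithmetic facts and trace lemmas in characteristic three
-/

set_option autoImplicit false

open scoped Pointwise

namespace Cfsg.Agent.Lib.Helper9.Sl3

open Matrix
open Cfsg.Agent.Lib.Helper14
open Cfsg.Agent.Lib.Helper15
open Cfsg.Agent.Lib.Helper15.Dk
open Cfsg.Agent.Lib.Helper15.Sol

section arith

theorem three_pow_odd_mod8 (p : ℕ) (hodd : Odd p) : 3 ^ p % 8 = 3 := by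
  obtain ⟨k, rfl⟩ := hodd
  rw [pow_succ, pow_mul, Nat.mul_mod, Nat.pow_mod]
  norm_num

theorem three_pow_odd_mod5 (p : ℕ) (hodd : Odd p) : 3 ^ p % 5 = 3 ∨ 3 ^ p % 5 = 2 := by
  obtain ⟨k, rfl⟩ := hodd
  rcases Nat.even_or_odd' k with ⟨j, rfl | rfl⟩
  · left
    have : 3 ^ (2 * (2 * j) + 1) = 81 ^ j * 3 := by
      rw [pow_succ, ← mul_assoc, pow_mul]; norm_num
    rw [this, Nat.mul_mod, Nat.pow_mod]
    norm_num
  · right
    have : 3 ^ (2 * (2 * j + 1) + 1) = 81 ^ j * 27 := by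
      have : 2 * (2 * j + 1) + 1 = 4 * j + 3 := by ring
      rw [this, pow_add, pow_mul]; norm_num
    rw [this, Nat.mul_mod, Nat.pow_mod]
    norm_num

theorem three_pow_ge (p : ℕ) (hp : p.Prime) (hodd : Odd p) : 27 ≤ 3 ^ p := by
  have h3 : 3 ≤ p := by
    rcases hp.eq_two_or_odd with h | h
    · rw [h] at hodd; exact absurd hodd (by decide)
    · have := hp.two_le; omega
  calc 27 = 3 ^ 3 := by norm_num
    _ ≤ 3 ^ p := Nat.pow_le_pow_right (by norm_num) h3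

/-- arithmetic: subfield orders of `F_{3^p}`, `p` prime -/
theorem card_subfield_cases3 (p k m : ℕ) (hp : p.Prime) (hk : 1 < k) (h : k ^ m = 3 ^ p) :
    k = 3 ∨ k = 3 ^ p := by
  have hm0 : m ≠ 0 := by
    rintro rfl
    rw [pow_zero] at h
    have : 1 < 3 ^ p := Nat.one_lt_pow hp.ne_zero (by norm_num)
    omega
  have hdvd : k ∣ 3 ^ p := by
    rw [← h]
    exact dvd_pow_self k hm0
  obtain ⟨d, hd, rfl⟩ := (Nat.dvd_prime_pow Nat.prime_three).1 hdvd
  rw [← pow_mul] at h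
  have hdm : d * m = p := Nat.pow_right_injective (by norm_num : 2 ≤ 3) h
  have hdp : d ∣ p := ⟨m, hdm.symm⟩
  rcases (Nat.dvd_prime hp).1 hdp with rfl | rfl
  · left; rw [pow_one]
  · right; rfl

/-- `8` does not divide `q (q² - 1) / 2` when `q ≡ 3 mod 8` -/
theorem not_sixteen_dvd (q : ℕ) (hq : q % 8 = 3) : ¬ 16 ∣ q * (q ^ 2 - 1) := by
  obtain ⟨k, rfl⟩ : ∃ k, q = 8 * k + 3 := ⟨q / 8, by omega⟩
  have h1 : (8 * k + 3) ^ 2 - 1 = 8 * ((4 * k + 1) * (2 * k + 1)) := by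
    have : (8 * k + 3) ^ 2 = 8 * ((4 * k + 1) * (2 * k + 1)) + 1 := by ring
    rw [this]; omega
  rw [h1]
  intro h
  have h2 : (8 * k + 3) * (8 * ((4 * k + 1) * (2 * k + 1))) =
      8 * ((8 * k + 3) * ((4 * k + 1) * (2 * k + 1))) := by ring
  rw [h2] at h
  have h3 : 2 ∣ (8 * k + 3) * ((4 * k + 1) * (2 * k + 1)) := by
    have : (16 : ℕ) = 8 * 2 := by norm_num
    rw [this] at h
    exact (Nat.mul_dvd_mul_iff_left (by norm_num)).1 h
  rcases (Nat.Prime.dvd_mul Nat.prime_two).1 h3 with h4 | h4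
  · omega
  · rcases (Nat.Prime.dvd_mul Nat.prime_two).1 h4 with h5 | h5 <;> omega

theorem not_five_dvd (q : ℕ) (hq : q % 5 = 3 ∨ q % 5 = 2) : ¬ 5 ∣ q * (q ^ 2 - 1) := by
  have hq1 : 1 ≤ q := by rcases hq with h | h <;> omega
  have h2 : (q ^ 2 - 1) % 5 = 3 := by
    have h3 : q ^ 2 % 5 = 4 := by
      rw [Nat.pow_mod]
      rcases hq with h | h <;> rw [h]
    have h4 : 1 ≤ q ^ 2 := Nat.one_le_pow _ _ hq1
    omega
  intro h
  rcases (Nat.Prime.dvd_mul Nat.prime_five).1 h with h4 | h4 <;> omega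

end arith

section char3
variable {F : Type*} [Field F]

theorem two_eq_neg_one (h3 : (3 : F) = 0) : (2 : F) = -1 := by linear_combination h3

theorem four_eq_one (h3 : (3 : F) = 0) : (4 : F) = 1 := by linear_combination h3

theorem two_ne_zero3 (h3 : (3 : F) = 0) : (2 : F) ≠ 0 := by
  rw [two_eq_neg_one h3]
  exact neg_ne_zero.2 one_ne_zero

theorem trsq_one (h3 : (3 : F) = 0) : trsq (1 : ProjectiveSpecialLinearGroup (Fin 2) F) = 1 := by
  have : (1 : ProjectiveSpecialLinearGroup (Fin 2) F) = toPSL2 F 1 := (map_one _).symm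
  rw [this, trsq_toPSL2, Matrix.trace_fin_two]
  simp
  linear_combination (1 : F) * h3

/-- entries of the square -/
theorem sq_entries (M : SpecialLinearGroup (Fin 2) F) :
    ((M * M : SpecialLinearGroup (Fin 2) F) : Matrix (Fin 2) (Fin 2) F) 0 1 =
      (M : Matrix (Fin 2) (Fin 2) F) 0 1 * (M : Matrix (Fin 2) (Fin 2) F).trace ∧
    ((M * M : SpecialLinearGroup (Fin 2) F) : Matrix (Fin 2) (Fin 2) F) 1 0 =
      (M : Matrix (Fin 2) (Fin 2) F) 1 0 * (M : Matrix (Fin 2) (Fin 2) F).trace ∧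
    ((M * M : SpecialLinearGroup (Fin 2) F) : Matrix (Fin 2) (Fin 2) F) 0 0 -
      ((M * M : SpecialLinearGroup (Fin 2) F) : Matrix (Fin 2) (Fin 2) F) 1 1 =
      ((M : Matrix (Fin 2) (Fin 2) F) 0 0 - (M : Matrix (Fin 2) (Fin 2) F) 1 1) *
        (M : Matrix (Fin 2) (Fin 2) F).trace := by
  rw [Matrix.SpecialLinearGroup.coe_mul, Matrix.trace_fin_two]
  refine ⟨?_, ?_, ?_⟩ <;> simp only [Matrix.mul_apply, Fin.sum_univ_two] <;> ring

/-- entries of the cube -/
theorem cube_entries (M : SpecialLinearGroup (Fin 2) F) :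
    ((M * M * M : SpecialLinearGroup (Fin 2) F) : Matrix (Fin 2) (Fin 2) F) 0 1 =
      (M : Matrix (Fin 2) (Fin 2) F) 0 1 * ((M : Matrix (Fin 2) (Fin 2) F).trace ^ 2 - 1) ∧
    ((M * M * M : SpecialLinearGroup (Fin 2) F) : Matrix (Fin 2) (Fin 2) F) 1 0 =
      (M : Matrix (Fin 2) (Fin 2) F) 1 0 * ((M : Matrix (Fin 2) (Fin 2) F).trace ^ 2 - 1) ∧
    ((M * M * M : SpecialLinearGroup (Fin 2) F) : Matrix (Fin 2) (Fin 2) F) 0 0 -
      ((M * M * M : SpecialLinearGroup (Fin 2) F) : Matrix (Fin 2) (Fin 2) F) 1 1 =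
      ((M : Matrix (Fin 2) (Fin 2) F) 0 0 - (M : Matrix (Fin 2) (Fin 2) F) 1 1) *
        ((M : Matrix (Fin 2) (Fin 2) F).trace ^ 2 - 1) := by
  have hd := det_eq M
  rw [Matrix.SpecialLinearGroup.coe_mul, Matrix.SpecialLinearGroup.coe_mul, Matrix.trace_fin_two]
  refine ⟨?_, ?_, ?_⟩ <;> simp only [Matrix.mul_apply, Fin.sum_univ_two]
  · linear_combination (-(M : Matrix (Fin 2) (Fin 2) F) 0 1) * hd
  · linear_combination (-(M : Matrix (Fin 2) (Fin 2) F) 1 0) * hd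
  · linear_combination (-((M : Matrix (Fin 2) (Fin 2) F) 0 0 - (M : Matrix (Fin 2) (Fin 2) F) 1 1)) * hd

/-- trace zero elements are involutions -/
theorem sq_eq_one_of_trsq_zero (y : ProjectiveSpecialLinearGroup (Fin 2) F) (h : trsq y = 0) :
    y * y = 1 := by
  obtain ⟨M, rfl⟩ := toPSL2_surjective y
  rw [trsq_toPSL2] at h
  have ht : (M : Matrix (Fin 2) (Fin 2) F).trace = 0 := pow_eq_zero_iff (two_ne_zero) |>.1 h
  rw [← map_mul, toPSL2_eq_one_iff']
  obtain ⟨e1, e2, e3⟩ := sq_entries M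
  rw [ht, mul_zero] at e1 e2 e3
  exact ⟨e1, e2, sub_eq_zero.1 e3⟩

/-- elements of trace `±1` have order dividing three -/
theorem cube_eq_one_of_trsq_one (y : ProjectiveSpecialLinearGroup (Fin 2) F) (h : trsq y = 1) :
    y * y * y = 1 := by
  obtain ⟨M, rfl⟩ := toPSL2_surjective y
  rw [trsq_toPSL2] at h
  rw [← map_mul, ← map_mul, toPSL2_eq_one_iff']
  obtain ⟨e1, e2, e3⟩ := cube_entries M
  rw [h, sub_self, mul_zero] at e1 e2 e3
  exact ⟨e1, e2, sub_eq_zero.1 e3⟩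

/-- nontrivial involutions have trace zero -/
theorem trsq_of_sq_eq_one (y : ProjectiveSpecialLinearGroup (Fin 2) F) (h : y * y = 1) (h1 : y ≠ 1) :
    trsq y = 0 := by
  obtain ⟨M, rfl⟩ := toPSL2_surjective y
  rw [trsq_toPSL2]
  rw [← map_mul, toPSL2_eq_one_iff'] at h
  obtain ⟨e1, e2, e3⟩ := sq_entries M
  obtain ⟨s1, s2, s3⟩ := h
  rw [s1] at e1
  rw [s2] at e2
  rw [s3, sub_self] at e3
  by_contra ht
  have ht' : (M : Matrix (Fin 2) (Fin 2) F).trace ≠ 0 := fun h0 => ht (by rw [h0]; ring)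
  apply h1
  rw [toPSL2_eq_one_iff']
  refine ⟨?_, ?_, ?_⟩
  · exact (mul_eq_zero.1 e1.symm).resolve_right ht'
  · exact (mul_eq_zero.1 e2.symm).resolve_right ht'
  · exact sub_eq_zero.1 ((mul_eq_zero.1 e3.symm).resolve_right ht')

/-- elements of order dividing three have trace `±1`, in characteristic three -/
theorem trsq_of_cube_eq_one (h3 : (3 : F) = 0) (y : ProjectiveSpecialLinearGroup (Fin 2) F)
    (h : y * y * y = 1) : trsq y = 1 := by
  obtain ⟨M, rfl⟩ := toPSL2_surjective y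
  rw [trsq_toPSL2]
  rw [← map_mul, ← map_mul, toPSL2_eq_one_iff'] at h
  obtain ⟨e1, e2, e3⟩ := cube_entries M
  obtain ⟨s1, s2, s3⟩ := h
  rw [s1] at e1
  rw [s2] at e2
  rw [s3, sub_self] at e3
  by_contra ht
  have ht' : (M : Matrix (Fin 2) (Fin 2) F).trace ^ 2 - 1 ≠ 0 := fun h0 => ht (sub_eq_zero.1 h0)
  have b0 := (mul_eq_zero.1 e1.symm).resolve_right ht'
  have c0 := (mul_eq_zero.1 e2.symm).resolve_right ht'
  have ad := sub_eq_zero.1 ((mul_eq_zero.1 e3.symm).resolve_right ht')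
  have hd := det_eq M
  rw [b0, zero_mul, sub_zero, ← ad] at hd
  apply ht
  rw [Matrix.trace_fin_two, ← ad]
  linear_combination 4 * hd + (1 : F) * h3

theorem trsq_of_sq_or_cube (h3 : (3 : F) = 0) (y : ProjectiveSpecialLinearGroup (Fin 2) F)
    (h : y * y = 1 ∨ y * y * y = 1) : trsq y = 0 ∨ trsq y = 1 := by
  rcases h with h | h
  · by_cases h1 : y = 1
    · right; rw [h1]; exact trsq_one h3
    · left; exact trsq_of_sq_eq_one y h h1
  · right; exact trsq_of_cube_eq_one h3 y h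

end char3

section basic
variable {F : Type*} [Field F] [Fintype F]

/-- the basic facts on the field of order `3^p`, `p` an odd prime -/
theorem basic_facts3 (p : ℕ) (hp : p.Prime) (hodd : Odd p) (hF : Fintype.card F = 3 ^ p) :
    (3 : F) = 0 ∧ 27 ≤ Fintype.card F ∧ Fintype.card F % 8 = 3 ∧
      (Fintype.card F % 5 = 3 ∨ Fintype.card F % 5 = 2) ∧ ¬ IsSquare (-1 : F) ∧
      Nat.card (Subgroup.center (SpecialLinearGroup (Fin 2) F)) = 2 := by
  have h3 : (3 : F) = 0 := by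
    have h1 : ((Fintype.card F : ℕ) : F) = 0 := Nat.cast_card_eq_zero F
    rw [hF, Nat.cast_pow] at h1
    have := pow_eq_zero_iff (hp.ne_zero) |>.1 h1
    exact_mod_cast this
  have hmod8 : Fintype.card F % 8 = 3 := by rw [hF]; exact three_pow_odd_mod8 p hodd
  refine ⟨h3, by rw [hF]; exact three_pow_ge p hp hodd, hmod8,
    by rw [hF]; exact three_pow_odd_mod5 p hodd, ?_, ?_⟩
  · rw [FiniteField.isSquare_neg_one_iff]
    omega
  · rw [card_center_eq_gcd, gcd_two_of_ne (two_ne_zero3 h3)]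

theorem charP_three (h3 : (3 : F) = 0) : CharP F 3 := by
  obtain ⟨p', hp'⟩ := CharP.exists F
  have hpr : p'.Prime := CharP.char_is_prime F p'
  have h1 : ((3 : ℕ) : F) = 0 := by exact_mod_cast h3
  have h2 := (CharP.cast_eq_zero_iff F p' 3).1 h1
  have : p' = 3 := (Nat.prime_dvd_prime_iff_eq hpr Nat.prime_three).1 h2
  subst this
  exact hp'

end basic

end Cfsg.Agent.Lib.Helper9.Sl3
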