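import Mathlib
import Cfsg.Agent.Lib.Helper9.Sl3B

/-!
# Solubilizers in `PSL₂(3^p)`, part C: the structure of proper subgroups of `PSL₂(3^p)`
-/

set_option autoImplicit false

open scoped Pointwise

namespace Cfsg.Agent.Lib.Helper9.Sl3

open Matrix
open Cfsg.Agent.Lib.Helper14
open Cfsg.Agent.Lib.Helper15
open Cfsg.Agent.Lib.Helper15.Dk
open Cfsg.Agent.Lib.Helper15.Sol

/-- every element of `PSL₂(F₃)` has order dividing two or three -/
theorem sq_or_cube_of_card_three {K : Type*} [Field K] [Fintype K] (hK : Fintype.card K = 3)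
    (h : ProjectiveSpecialLinearGroup (Fin 2) K) : h * h = 1 ∨ h * h * h = 1 := by
  obtain ⟨M, rfl⟩ := toPSL2_surjective h
  set t := (M : Matrix (Fin 2) (Fin 2) K).trace with ht
  have h1 : t ^ 3 = t := by
    have := FiniteField.pow_card t
    rwa [hK] at this
  have h2 : t * (t ^ 2 - 1) = 0 := by linear_combination h1
  rcases mul_eq_zero.1 h2 with h0 | h0
  · left
    apply sq_eq_one_of_trsq_zero
    rw [trsq_toPSL2, ← ht, h0]
    ring
  · right
    apply cube_eq_one_of_trsq_one
    rw [trsq_toPSL2, ← ht]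
    exact sub_eq_zero.1 h0

section main
variable {F : Type*} [Field F] [Fintype F]

/-- the second alternative of the structure theorem -/
def InTorusNormalizer (H : Subgroup (ProjectiveSpecialLinearGroup (Fin 2) F)) : Prop :=
  ∃ g : SpecialLinearGroup (Fin 2) F, ¬ IsScalar2 (g : Matrix (Fin 2) (Fin 2) F) ∧
    (g : Matrix (Fin 2) (Fin 2) F).trace ^ 2 ≠ 4 ∧ toPSL2 F g ∈ H ∧
    H ≤ Subgroup.normalizer ((Tor g : Subgroup (ProjectiveSpecialLinearGroup (Fin 2) F)) :
      Set (ProjectiveSpecialLinearGroup (Fin 2) F))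

omit [Fintype F] in
theorem inTorusNormalizer_of_normal_cyclic (h3 : (3 : F) = 0)
    (H : Subgroup (ProjectiveSpecialLinearGroup (Fin 2) F))
    (r : ProjectiveSpecialLinearGroup (Fin 2) F) (hrH : r ∈ H) (hr1 : r ≠ 1) (hr3 : r * r * r ≠ 1)
    (hnorm : ∀ m ∈ H, m * r * m⁻¹ ∈ Subgroup.zpowers r) : InTorusNormalizer H := by
  obtain ⟨g, rfl⟩ := toPSL2_surjective r
  have hg : ¬ IsScalar2 (g : Matrix (Fin 2) (Fin 2) F) := fun hs => hr1 ((toPSL2_eq_one_iff' g).2 hs)
  refine ⟨g, hg, ?_, hrH, le_normalizer_Tor_of_normal H g hg hnorm⟩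
  intro ht
  apply hr3
  apply cube_eq_one_of_trsq_one
  rw [trsq_toPSL2, ht]
  exact four_eq_one h3

omit [Fintype F] in
theorem cube_ne_one_of_not_dvd (H : Subgroup (ProjectiveSpecialLinearGroup (Fin 2) F))
    (hdiv : ¬ 3 ∣ Nat.card H) (r : ProjectiveSpecialLinearGroup (Fin 2) F) (hrH : r ∈ H) (hr1 : r ≠ 1) :
    r * r * r ≠ 1 := by
  intro h
  have h1 : r ^ 3 = 1 := by rw [pow_succ, pow_two]; exact h
  have h2 : orderOf r ∣ 3 := orderOf_dvd_of_pow_eq_one h1
  rcases (Nat.dvd_prime Nat.prime_three).1 h2 with h4 | h4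
  · exact hr1 (orderOf_eq_one_iff.1 h4)
  · apply hdiv
    rw [← h4]
    have : orderOf (⟨r, hrH⟩ : H) = orderOf r := by
      rw [← Subgroup.orderOf_coe]
    rw [← this]
    exact orderOf_dvd_natCard _

omit [Fintype F] in
theorem inTorusNormalizer_of_comm (h3 : (3 : F) = 0)
    (H : Subgroup (ProjectiveSpecialLinearGroup (Fin 2) F)) (hH1 : H ≠ ⊥)
    (hcomm : ∀ a b : H, a * b = b * a) (hdiv : ¬ 3 ∣ Nat.card H) : InTorusNormalizer H := by
  obtain ⟨r, hr⟩ := (Subgroup.ne_bot_iff_exists_ne_one (H := H)).1 hH1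
  have hr1 : (r : ProjectiveSpecialLinearGroup (Fin 2) F) ≠ 1 := fun h => hr (Subtype.ext h)
  apply inTorusNormalizer_of_normal_cyclic h3 H r r.2 hr1 (cube_ne_one_of_not_dvd H hdiv r r.2 hr1)
  intro m hm
  have h1 := hcomm ⟨m, hm⟩ r
  have h2 : m * (r : ProjectiveSpecialLinearGroup (Fin 2) F) = r * m := congrArg Subtype.val h1
  rw [h2, mul_inv_cancel_right]
  exact Subgroup.mem_zpowers _

theorem dihedral_one_comm : ∀ a b : DihedralGroup 1, a * b = b * a := by decide

omit [Fintype F] in
theorem inTorusNormalizer_of_dihedral (h3 : (3 : F) = 0)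
    (H : Subgroup (ProjectiveSpecialLinearGroup (Fin 2) F)) (hH1 : H ≠ ⊥) (k : ℕ)
    (e : H ≃* DihedralGroup k) (hdiv : ¬ 3 ∣ Nat.card H) : InTorusNormalizer H := by
  by_cases hk : k = 1
  · subst hk
    apply inTorusNormalizer_of_comm h3 H hH1 _ hdiv
    intro a b
    apply e.injective
    rw [map_mul, map_mul]
    exact dihedral_one_comm _ _
  · set r : H := e.symm (DihedralGroup.r 1) with hr
    have hr1 : r ≠ 1 := by
      intro h
      have h1 : e r = 1 := by rw [h, map_one]
      rw [hr, MulEquiv.apply_symm_apply] at h1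
      have h2 : (1 : ZMod k) = 0 := by
        have h4 : (DihedralGroup.r 1 : DihedralGroup k) = DihedralGroup.r 0 := h1
        exact DihedralGroup.r.inj h4
      have : Nontrivial (ZMod k) := ZMod.nontrivial_iff.2 hk
      exact one_ne_zero h2
    have hr1' : (r : ProjectiveSpecialLinearGroup (Fin 2) F) ≠ 1 := fun h => hr1 (Subtype.ext h)
    apply inTorusNormalizer_of_normal_cyclic h3 H r r.2 hr1' (cube_ne_one_of_not_dvd H hdiv r r.2 hr1')
    intro m hm
    have key : ∀ d : DihedralGroup k, d * DihedralGroup.r 1 * d⁻¹ = DihedralGroup.r 1 ∨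
        d * DihedralGroup.r 1 * d⁻¹ = (DihedralGroup.r 1)⁻¹ := by
      intro d
      rcases d with i | i
      · left
        rw [DihedralGroup.inv_r, DihedralGroup.r_mul_r, DihedralGroup.r_mul_r]
        congr 1; ring
      · right
        rw [DihedralGroup.inv_sr, DihedralGroup.sr_mul_r, DihedralGroup.sr_mul_sr, DihedralGroup.inv_r]
        congr 1; ring
    have h1 : (⟨m, hm⟩ : H) * r * (⟨m, hm⟩ : H)⁻¹ = r ∨ (⟨m, hm⟩ : H) * r * (⟨m, hm⟩ : H)⁻¹ = r⁻¹ := by
      rcases key (e ⟨m, hm⟩) with h | h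
      · left
        apply e.injective
        rw [map_mul, map_mul, map_inv, hr, MulEquiv.apply_symm_apply]
        exact h
      · right
        apply e.injective
        rw [map_mul, map_mul, map_inv, map_inv, hr, MulEquiv.apply_symm_apply]
        exact h
    rcases h1 with h | h
    · have h2 : m * (r : ProjectiveSpecialLinearGroup (Fin 2) F) * m⁻¹ = r := congrArg Subtype.val h
      rw [h2]
      exact Subgroup.mem_zpowers _
    · have h2 : m * (r : ProjectiveSpecialLinearGroup (Fin 2) F) * m⁻¹ =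
          (r : ProjectiveSpecialLinearGroup (Fin 2) F)⁻¹ := congrArg Subtype.val h
      rw [h2]
      exact Subgroup.inv_mem _ (Subgroup.mem_zpowers _)

/-- transfer of the conclusions of the structure theorem along conjugation: Borel case -/
theorem le_conj_Bbar_of_conj {x : ProjectiveSpecialLinearGroup (Fin 2) F}
    {H : Subgroup (ProjectiveSpecialLinearGroup (Fin 2) F)}
    (P : Sylow 3 (ProjectiveSpecialLinearGroup (Fin 2) F)) [Fact (Nat.Prime 3)] [CharP F 3]
    (hP : MulAut.conj x • H ≤ Subgroup.normalizer ((P : Subgroup (ProjectiveSpecialLinearGroup (Fin 2) F)) :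
      Set (ProjectiveSpecialLinearGroup (Fin 2) F))) :
    ∃ c : ProjectiveSpecialLinearGroup (Fin 2) F, H ≤ MulAut.conj c • Bbar F := by
  obtain ⟨c, hc⟩ := MulAction.exists_smul_eq (ProjectiveSpecialLinearGroup (Fin 2) F) (UbarSylow 3) P
  have h1 : Subgroup.normalizer ((P : Subgroup (ProjectiveSpecialLinearGroup (Fin 2) F)) :
      Set (ProjectiveSpecialLinearGroup (Fin 2) F)) = MulAut.conj c • Bbar F := by
    rw [← normalizer_Ubar, ← coe_UbarSylow 3, ← hc, Sylow.coe_subgroup_smul, normalizer_conj_smul]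
  refine ⟨x⁻¹ * c, ?_⟩
  intro h hh
  have h3' : x * h * x⁻¹ ∈ MulAut.conj x • H := by
    rw [mem_conj_smul]
    have e1 : x⁻¹ * (x * h * x⁻¹) * x = h := by group
    rw [e1]; exact hh
  have h4 := hP h3'
  rw [h1, mem_conj_smul] at h4
  rw [mem_conj_smul]
  have e2 : (x⁻¹ * c)⁻¹ * h * (x⁻¹ * c) = c⁻¹ * (x * h * x⁻¹) * c := by group
  rw [e2]; exact h4

omit [Fintype F] in
/-- transfer of the conclusions of the structure theorem along conjugation: torus case -/
theorem inTorusNormalizer_of_conj {x : ProjectiveSpecialLinearGroup (Fin 2) F}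
    {H : Subgroup (ProjectiveSpecialLinearGroup (Fin 2) F)}
    (h : InTorusNormalizer (MulAut.conj x • H)) : InTorusNormalizer H := by
  obtain ⟨g, hg, ht, hgH, hle⟩ := h
  obtain ⟨n, rfl⟩ := toPSL2_surjective x
  have hT : Tor (n⁻¹ * g * n) = MulAut.conj (toPSL2 F n)⁻¹ • Tor g := by
    have := Tor_conj n⁻¹ g
    rw [inv_inv, map_inv] at this
    exact this.symm
  refine ⟨n⁻¹ * g * n, ?_, ?_, ?_, ?_⟩
  · intro hs
    apply hg
    have h1 : toPSL2 F (n⁻¹ * g * n) = 1 := (toPSL2_eq_one_iff' _).2 hs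
    rw [map_mul, map_mul, map_inv] at h1
    apply (toPSL2_eq_one_iff' g).1
    have : toPSL2 F g = toPSL2 F n * ((toPSL2 F n)⁻¹ * toPSL2 F g * toPSL2 F n) * (toPSL2 F n)⁻¹ := by group
    rw [this, h1]
    group
  · have htr := trace_conj_eq n⁻¹ g
    rw [inv_inv] at htr
    rw [htr]; exact ht
  · rw [mem_conj_smul] at hgH
    rw [map_mul, map_mul, map_inv]
    exact hgH
  · intro h hh
    rw [hT, normalizer_conj_smul, mem_conj_smul, inv_inv]
    apply hle
    rw [mem_conj_smul]
    have e1 : (toPSL2 F n)⁻¹ * (toPSL2 F n * h * (toPSL2 F n)⁻¹) * toPSL2 F n = h := by group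
    rw [e1]; exact hh

/-- the structure of proper subgroups of `PSL₂(3^p)`, `p` an odd prime -/
theorem subgroup_le_cases3 (p : ℕ) (hp : p.Prime) (hodd : Odd p) (hF : Fintype.card F = 3 ^ p)
    (H : Subgroup (ProjectiveSpecialLinearGroup (Fin 2) F)) (hH : H ≠ ⊤) (hH1 : H ≠ ⊥) :
    (∃ c : ProjectiveSpecialLinearGroup (Fin 2) F, H ≤ MulAut.conj c • Bbar F) ∨
    InTorusNormalizer H ∨ (∀ h ∈ H, h * h = 1 ∨ h * h * h = 1) := by
  obtain ⟨h3, hq27, hmod8, hmod5, hnsq, hcen⟩ := basic_facts3 p hp hodd hF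
  have hchar : CharP F 3 := charP_three h3
  have hpr : Fact (Nat.Prime 3) := ⟨Nat.prime_three⟩
  have hG := card_PSL2_mul (F := F)
  rw [hcen] at hG
  have hq1 : 1 < Fintype.card F := Fintype.one_lt_card
  have hgcd : Nat.gcd 2 (Fintype.card F - 1) = 2 := gcd_two_of_ne (two_ne_zero3 h3)
  by_cases hdiv : 3 ∣ Nat.card H
  · obtain ⟨x, h | ⟨b₁, w, c⟩ | h | ⟨⟨e⟩, -⟩⟩ := dickson_refined 3 H hdiv
    · left
      obtain ⟨S, -, hS, hS1, hnorm⟩ := h
      obtain ⟨P, hP⟩ := le_normalizer_sylow_of_normal 3 (MulAut.conj x • H) S hS hS1 hnorm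
      exact le_conj_Bbar_of_conj P hP
    · -- the subfield case
      obtain ⟨K, i1, i2, m, f, hm, hf⟩ :=
        exists_type_field (multField ((MulAut.conj x • H).comap (toPSL2 F)))
      have hK1 : 1 < Fintype.card K := Fintype.one_lt_card
      have hcardM : Nat.card (MulAut.conj x • H : Subgroup (ProjectiveSpecialLinearGroup (Fin 2) F)) =
          Nat.card H := card_conj_smul x H
      have hle := Subgroup.card_le_card_group H
      have hdvdG : Nat.card H ∣ Nat.card (ProjectiveSpecialLinearGroup (Fin 2) F) :=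
        Subgroup.card_subgroup_dvd_card H
      rw [hF] at hm
      have htype := psl_or_pgl (MulAut.conj x • H) b₁ w c f hf
      rcases card_subfield_cases3 p _ m hp hK1 hm with hK3 | hKp
      · rcases htype with ⟨⟨e⟩⟩ | ⟨⟨e⟩⟩
        · right; right
          intro h hh
          have h3' : x * h * x⁻¹ ∈ MulAut.conj x • H := by
            rw [mem_conj_smul]
            have e1 : x⁻¹ * (x * h * x⁻¹) * x = h := by group
            rw [e1]; exact hh
          rcases sq_or_cube_of_card_three hK3 (e ⟨_, h3'⟩) with h4 | h4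
          · left
            rw [← map_mul] at h4
            have h5 := (MulEquiv.map_eq_one_iff e).1 h4
            have h6 : (x * h * x⁻¹) * (x * h * x⁻¹) = 1 := congrArg Subtype.val h5
            have : h * h = x⁻¹ * ((x * h * x⁻¹) * (x * h * x⁻¹)) * x := by group
            rw [this, h6]; group
          · right
            rw [← map_mul, ← map_mul] at h4
            have h5 := (MulEquiv.map_eq_one_iff e).1 h4
            have h6 : (x * h * x⁻¹) * (x * h * x⁻¹) * (x * h * x⁻¹) = 1 := congrArg Subtype.val h5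
            have : h * h * h = x⁻¹ * ((x * h * x⁻¹) * (x * h * x⁻¹) * (x * h * x⁻¹)) * x := by group
            rw [this, h6]; group
        · exfalso
          have h24 : Nat.card H = 24 := by
            rw [← hcardM, Nat.card_congr e.toEquiv, card_PGL2, hK3]
            norm_num
          apply not_sixteen_dvd _ hmod8
          rw [← hG]
          have : (16 : ℕ) = 8 * 2 := by norm_num
          rw [this]
          apply Nat.mul_dvd_mul _ (dvd_refl 2)
          have h8 : 8 ∣ Nat.card H := by rw [h24]; norm_num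
          exact h8.trans hdvdG
      · exfalso
        have hgcdK : Nat.gcd 2 (Fintype.card K - 1) = 2 := by rw [hKp, ← hF]; exact hgcd
        rcases card_subfield_type K htype with h | h
        · rw [hgcdK, hKp, ← hF, ← hG, hcardM] at h
          have h5 : Nat.card H = Nat.card (ProjectiveSpecialLinearGroup (Fin 2) F) :=
            Nat.eq_of_mul_eq_mul_right (by norm_num) h
          exact hH ((Subgroup.card_eq_iff_eq_top H).1 h5)
        · rw [hKp, ← hF, ← hG, hcardM] at h
          have : 0 < Nat.card (ProjectiveSpecialLinearGroup (Fin 2) F) := Nat.card_pos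
          omega
    · right; left
      obtain ⟨g, hg, ht, hgM, hnorm⟩ := h
      exact inTorusNormalizer_of_conj ⟨g, hg, ht, hgM, le_normalizer_Tor_of_normal _ g hg hnorm⟩
    · exfalso
      have h60 : Nat.card H = 60 := by
        rw [← card_conj_smul x H, Nat.card_congr e.toEquiv, card_A5]
      apply not_five_dvd _ hmod5
      rw [← hG]
      apply Dvd.dvd.mul_right
      have h5 : 5 ∣ Nat.card H := by rw [h60]; norm_num
      exact h5.trans (Subgroup.card_subgroup_dvd_card H)
  · right; left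
    rcases dickson 3 H with ⟨k, -, ⟨hc, -⟩ | ⟨⟨e⟩⟩⟩ | ⟨P, K, hK, ⟨e⟩⟩ | ⟨⟨e⟩⟩ | ⟨⟨e⟩⟩ | ⟨⟨e⟩⟩ |
      ⟨K, i1, i2, m, hm, hL⟩
    · exact inTorusNormalizer_of_comm h3 H hH1 (fun a b => mul_comm_of_isCyclic a b) hdiv
    · exact inTorusNormalizer_of_dihedral h3 H hH1 k e hdiv
    · apply inTorusNormalizer_of_comm h3 H hH1 _ hdiv
      intro a b
      have hmem := commutator_mem_sylow 3 P (e a : ProjectiveSpecialLinearGroup (Fin 2) F) (e b)
        (hK (e a).2) (hK (e b).2)
      obtain ⟨n, hn⟩ := P.2 ⟨_, hmem⟩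
      have hn' : ((e a : ProjectiveSpecialLinearGroup (Fin 2) F) * (e b) * (e a : ProjectiveSpecialLinearGroup (Fin 2) F)⁻¹ *
          (e b : ProjectiveSpecialLinearGroup (Fin 2) F)⁻¹) ^ (3 ^ n) = 1 := by
        have := congrArg (fun z : (P : Subgroup (ProjectiveSpecialLinearGroup (Fin 2) F)) =>
          (z : ProjectiveSpecialLinearGroup (Fin 2) F)) hn
        simpa using this
      set cc : H := a * b * a⁻¹ * b⁻¹ with hcc
      have h4 : cc ^ (3 ^ n) = 1 := by
        apply e.injective
        apply Subtype.ext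
        rw [map_pow, hcc, map_mul, map_mul, map_mul, map_inv, map_inv, Subgroup.coe_pow, map_one,
          Subgroup.coe_one]
        exact hn'
      have h5 : orderOf cc ∣ 3 ^ n := orderOf_dvd_of_pow_eq_one h4
      have h6 : orderOf cc ∣ Nat.card H := orderOf_dvd_natCard cc
      have hcop : Nat.Coprime (3 ^ n) (Nat.card H) :=
        Nat.Coprime.pow_left n ((Nat.Prime.coprime_iff_not_dvd Nat.prime_three).2 hdiv)
      have h7 : orderOf cc = 1 := Nat.eq_one_of_dvd_coprimes hcop h5 h6
      have h8 : cc = 1 := orderOf_eq_one_iff.1 h7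
      have : a * b = cc * (b * a) := by rw [hcc]; group
      rw [this, h8, one_mul]
    · exfalso; apply hdiv
      rw [Nat.card_congr e.toEquiv, card_A4]; norm_num
    · exfalso; apply hdiv
      rw [Nat.card_congr e.toEquiv, card_S4]; norm_num
    · exfalso; apply hdiv
      rw [Nat.card_congr e.toEquiv, card_A5]; norm_num
    · exfalso; apply hdiv
      have hK1 : 1 < Fintype.card K := Fintype.one_lt_card
      rw [hF] at hm
      have h3K : 3 ∣ Fintype.card K := by
        rcases card_subfield_cases3 p _ m hp hK1 hm with h | h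
        · rw [h]
        · rw [h]; exact dvd_pow_self 3 hp.ne_zero
      rcases card_subfield_type K hL with h | h
      · have h1 : 3 ∣ Nat.card H * Nat.gcd 2 (Fintype.card K - 1) := by
          rw [h]; exact Dvd.dvd.mul_right h3K _
        have hcop : Nat.Coprime 3 (Nat.gcd 2 (Fintype.card K - 1)) := by
          apply Nat.Coprime.coprime_dvd_right (Nat.gcd_dvd_left 2 _)
          norm_num
        exact hcop.dvd_of_dvd_mul_right h1
      · rw [h]; exact Dvd.dvd.mul_right h3K _

end main

end Cfsg.Agent.Lib.Helper9.Sl3
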