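import Mathlib
import Cfsg.Agent.Lib.Helper9.Sl3C

/-!
# Solubilizers in `PSL₂(3^p)`, part D: the solubilizer of a semisimple element of order `> 2`
-/

set_option autoImplicit false

open scoped Pointwise

namespace Cfsg.Agent.Lib.Helper9.Sl3

open Matrix
open Cfsg.Agent.Lib.Helper14
open Cfsg.Agent.Lib.Helper15
open Cfsg.Agent.Lib.Helper15.Dk
open Cfsg.Agent.Lib.Helper15.Sol

section general

theorem orderOf_dvd_two_cases {G : Type*} [Group G] (x : G) (h : orderOf x ∣ 2) :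
    x = 1 ∨ orderOf x = 2 := by
  rcases (Nat.dvd_prime Nat.prime_two).1 h with h1 | h1
  · left; exact orderOf_eq_one_iff.1 h1
  · right; exact h1

theorem not_mul_self_eq_one {G : Type*} [Group G] (x : G) (hx1 : x ≠ 1) (hx2 : orderOf x ≠ 2) :
    x * x ≠ 1 := by
  intro h
  have h1 : x ^ 2 = 1 := by rw [pow_two]; exact h
  rcases orderOf_dvd_two_cases x (orderOf_dvd_of_pow_eq_one h1) with h2 | h2
  · exact hx1 h2
  · exact hx2 h2

theorem not_cube_eq_one {G : Type*} [Group G] (x : G) (hx1 : x ≠ 1) (n : ℕ) (hn : orderOf x ∣ n)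
    (hn3 : ¬ 3 ∣ n) : x * x * x ≠ 1 := by
  intro h
  have h1 : x ^ 3 = 1 := by rw [pow_succ, pow_two]; exact h
  rcases (Nat.dvd_prime Nat.prime_three).1 (orderOf_dvd_of_pow_eq_one h1) with h2 | h2
  · exact hx1 (orderOf_eq_one_iff.1 h2)
  · apply hn3
    rw [← h2]; exact hn

theorem not_three_dvd_succ (p : ℕ) (hp : p ≠ 0) : ¬ 3 ∣ 3 ^ p + 1 := by
  obtain ⟨k, hk⟩ : 3 ∣ 3 ^ p := dvd_pow_self 3 hp
  omega

theorem not_three_dvd_pred (p : ℕ) (hp : p ≠ 0) : ¬ 3 ∣ 3 ^ p - 1 := by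
  obtain ⟨k, hk⟩ : 3 ∣ 3 ^ p := dvd_pow_self 3 hp
  have : 1 ≤ 3 ^ p := Nat.one_le_pow _ _ (by norm_num)
  omega

end general

section finite
variable {F : Type*} [Field F] [Fintype F]

omit [Fintype F] in
/-- lifts of elements of order prime to `6` are semisimple and non-scalar -/
theorem semisimple_of_order (h3 : (3 : F) = 0) (g : SpecialLinearGroup (Fin 2) F)
    (hx1 : toPSL2 F g ≠ 1) (n : ℕ) (hn : orderOf (toPSL2 F g) ∣ n) (hn3 : ¬ 3 ∣ n) :
    ¬ IsScalar2 (g : Matrix (Fin 2) (Fin 2) F) ∧ (g : Matrix (Fin 2) (Fin 2) F).trace ^ 2 ≠ 4 := by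
  refine ⟨fun hs => hx1 ((toPSL2_eq_one_iff' g).2 hs), ?_⟩
  intro ht
  apply not_cube_eq_one _ hx1 n hn hn3
  apply cube_eq_one_of_trsq_one
  rw [trsq_toPSL2, ht]
  exact four_eq_one h3

theorem toPSL2_pow_card_centralizer (g : SpecialLinearGroup (Fin 2) F) :
    (toPSL2 F g) ^ Nat.card (Subgroup.centralizer ({g} : Set (SpecialLinearGroup (Fin 2) F))) = 1 := by
  rw [← map_pow, pow_card_centralizer, map_one]

/-- an element of order `> 2` dividing `q + 1` is nonsplit -/
theorem nonsplit_of_order_dvd3 (h3 : (3 : F) = 0) (g : SpecialLinearGroup (Fin 2) F)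
    (hx1 : toPSL2 F g ≠ 1) (hx2 : orderOf (toPSL2 F g) ≠ 2)
    (hx : orderOf (toPSL2 F g) ∣ Fintype.card F + 1) (hn3 : ¬ 3 ∣ Fintype.card F + 1) :
    ¬ IsScalar2 (g : Matrix (Fin 2) (Fin 2) F) ∧ (g : Matrix (Fin 2) (Fin 2) F).trace ^ 2 ≠ 4 ∧
      ¬ IsSplitTrace (g : Matrix (Fin 2) (Fin 2) F).trace := by
  obtain ⟨hgs, ht⟩ := semisimple_of_order h3 g hx1 _ hx hn3
  refine ⟨hgs, ht, ?_⟩
  intro hs
  have h1 := toPSL2_pow_card_centralizer g
  rw [card_centralizer_split_odd g hgs ht hs] at h1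
  have h2 : orderOf (toPSL2 F g) ∣ Fintype.card F - 1 := orderOf_dvd_of_pow_eq_one h1
  have hq1 : 1 ≤ Fintype.card F := Fintype.card_pos
  have h4 : orderOf (toPSL2 F g) ∣ 2 := by
    have := Nat.dvd_sub hx h2
    have e : Fintype.card F + 1 - (Fintype.card F - 1) = 2 := by omega
    rwa [e] at this
  rcases orderOf_dvd_two_cases _ h4 with h5 | h5
  · exact hx1 h5
  · exact hx2 h5

/-- an element of order `> 2` dividing `q - 1` is split -/
theorem split_of_order_dvd3 (h3 : (3 : F) = 0) (g : SpecialLinearGroup (Fin 2) F)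
    (hx1 : toPSL2 F g ≠ 1) (hx2 : orderOf (toPSL2 F g) ≠ 2)
    (hx : orderOf (toPSL2 F g) ∣ Fintype.card F - 1) (hn3 : ¬ 3 ∣ Fintype.card F - 1) :
    ¬ IsScalar2 (g : Matrix (Fin 2) (Fin 2) F) ∧ (g : Matrix (Fin 2) (Fin 2) F).trace ^ 2 ≠ 4 ∧
      IsSplitTrace (g : Matrix (Fin 2) (Fin 2) F).trace := by
  obtain ⟨hgs, ht⟩ := semisimple_of_order h3 g hx1 _ hx hn3
  refine ⟨hgs, ht, ?_⟩
  by_contra hs
  have h1 := toPSL2_pow_card_centralizer g
  rw [card_centralizer_nonsplit_odd g hgs hs] at h1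
  have h2 : orderOf (toPSL2 F g) ∣ Fintype.card F + 1 := orderOf_dvd_of_pow_eq_one h1
  have hq1 : 1 ≤ Fintype.card F := Fintype.card_pos
  have h4 : orderOf (toPSL2 F g) ∣ 2 := by
    have := Nat.dvd_sub h2 hx
    have e : Fintype.card F + 1 - (Fintype.card F - 1) = 2 := by omega
    rwa [e] at this
  rcases orderOf_dvd_two_cases _ h4 with h5 | h5
  · exact hx1 h5
  · exact hx2 h5

/-- an element of order `> 2` in the normalizer of a torus lies in the torus -/
theorem mem_Tor_of_order (g₁ : SpecialLinearGroup (Fin 2) F)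
    (hg₁ : ¬ IsScalar2 (g₁ : Matrix (Fin 2) (Fin 2) F))
    (ht₁ : (g₁ : Matrix (Fin 2) (Fin 2) F).trace ^ 2 ≠ 4)
    (x : ProjectiveSpecialLinearGroup (Fin 2) F) (hx1 : x ≠ 1) (hx2 : orderOf x ≠ 2)
    (hxN : x ∈ Subgroup.normalizer ((Tor g₁ : Subgroup (ProjectiveSpecialLinearGroup (Fin 2) F)) :
      Set (ProjectiveSpecialLinearGroup (Fin 2) F))) : x ∈ Tor g₁ := by
  by_contra hnot
  have h3 := ((torus_normalizer g₁ hg₁ ht₁).2.2.2 _ hxN hnot).1
  exact not_mul_self_eq_one x hx1 hx2 h3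

/-- the solubilizer of a nonsplit semisimple element -/
theorem card_sol_nonsplit3 (p : ℕ) (hp : p.Prime) (hodd : Odd p) (hF : Fintype.card F = 3 ^ p)
    (x : ProjectiveSpecialLinearGroup (Fin 2) F) (hx1 : x ≠ 1) (hx2 : orderOf x ≠ 2)
    (hx : orderOf x ∣ 3 ^ p + 1) :
    Nat.card {y : ProjectiveSpecialLinearGroup (Fin 2) F //
      Group.IsSolvable ↥(Subgroup.closure ({x, y} : Set (ProjectiveSpecialLinearGroup (Fin 2) F)))} =
      3 ^ p + 1 := by
  obtain ⟨h3, hq27, hmod8, hmod5, hnsq, hcen⟩ := basic_facts3 p hp hodd hF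
  have hq4 : 4 ≤ Fintype.card F := by omega
  obtain ⟨g, rfl⟩ := toPSL2_surjective x
  have hn3 : ¬ 3 ∣ Fintype.card F + 1 := by rw [hF]; exact not_three_dvd_succ p hp.ne_zero
  rw [← hF] at hx
  obtain ⟨hgs, ht, hns⟩ := nonsplit_of_order_dvd3 h3 g hx1 hx2 hx hn3
  obtain ⟨-, hcardN, -, -⟩ := torus_normalizer g hgs ht
  have hxT : toPSL2 F g ∈ Tor g := self_mem_Tor g
  have hxN : toPSL2 F g ∈ Subgroup.normalizer ((Tor g : Subgroup (ProjectiveSpecialLinearGroup (Fin 2) F)) :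
      Set (ProjectiveSpecialLinearGroup (Fin 2) F)) := Subgroup.le_normalizer hxT
  have hiff : ∀ y : ProjectiveSpecialLinearGroup (Fin 2) F,
      Group.IsSolvable ↥(Subgroup.closure ({toPSL2 F g, y} : Set (ProjectiveSpecialLinearGroup (Fin 2) F))) ↔
      y ∈ Subgroup.normalizer ((Tor g : Subgroup (ProjectiveSpecialLinearGroup (Fin 2) F)) :
        Set (ProjectiveSpecialLinearGroup (Fin 2) F)) := by
    intro y
    constructor
    · intro hsol
      set H := Subgroup.closure ({toPSL2 F g, y} : Set (ProjectiveSpecialLinearGroup (Fin 2) F)) with hH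
      have hxH : toPSL2 F g ∈ H := Subgroup.subset_closure (Set.mem_insert _ _)
      have hyH : y ∈ H := Subgroup.subset_closure (Set.mem_insert_of_mem _ rfl)
      have hHtop : H ≠ ⊤ := ne_top_of_isSolvable hq4 H hsol
      have hHbot : H ≠ ⊥ := by
        intro h
        rw [h, Subgroup.mem_bot] at hxH
        exact hx1 hxH
      rcases subgroup_le_cases3 p hp hodd hF H hHtop hHbot with ⟨c, hc⟩ | ⟨g₁, hg₁, ht₁, -, hle⟩ | hall
      · exact (hns (isSplitTrace_of_mem_conj_Bbar g c (hc hxH))).elim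
      · have hxT₁ : toPSL2 F g ∈ Tor g₁ := mem_Tor_of_order g₁ hg₁ ht₁ _ hx1 hx2 (hle hxH)
        have hTT : Tor g = Tor g₁ := Tor_eq_of_mem g₁ hg₁ g hxT₁ hgs
        rw [hTT]
        exact hle hyH
      · exfalso
        rcases hall _ hxH with h | h
        · exact not_mul_self_eq_one _ hx1 hx2 h
        · exact not_cube_eq_one _ hx1 _ hx hn3 h
    · intro hyN
      exact isSolvable_closure_of_mem (isSolvable_normalizer_Tor g hgs ht) hxN hyN
  rw [Nat.card_congr (Equiv.subtypeEquivRight hiff)]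
  have h5 := card_Tor_mul g
  rw [hcen, card_centralizer_nonsplit_odd g hgs hns, hF] at h5
  rw [← h5, mul_comm]
  exact hcardN

omit [Fintype F] in
theorem eq_one_of_mul_self_of_odd {G : Type*} [Group G] (K : Subgroup G) (hodd : ¬ 2 ∣ Nat.card K)
    (y : G) (hy : y ∈ K) (hyy : y * y = 1) : y = 1 := by
  have h1 : y ^ 2 = 1 := by rw [pow_two]; exact hyy
  rcases orderOf_dvd_two_cases y (orderOf_dvd_of_pow_eq_one h1) with h2 | h2
  · exact h2
  · exfalso
    apply hodd
    rw [← h2]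
    have : orderOf (⟨y, hy⟩ : K) = orderOf y := by rw [← Subgroup.orderOf_coe]
    rw [← this]
    exact orderOf_dvd_natCard _

/-- the Borel subgroup has odd order when `q ≡ 3 mod 4` -/
theorem card_Bbar_odd (hcen : Nat.card (Subgroup.center (SpecialLinearGroup (Fin 2) F)) = 2)
    (hmod8 : Fintype.card F % 8 = 3) : ¬ 2 ∣ Nat.card (Bbar F) := by
  have h1 := card_Bbar_mul (F := F)
  rw [hcen] at h1
  obtain ⟨k, hk⟩ : ∃ k, Fintype.card F = 8 * k + 3 := ⟨Fintype.card F / 8, by omega⟩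
  rw [hk] at h1
  have h2 : (8 * k + 3) * (8 * k + 3 - 1) = ((8 * k + 3) * (4 * k + 1)) * 2 := by
    have : 8 * k + 3 - 1 = 2 * (4 * k + 1) := by omega
    rw [this]; ring
  rw [h2] at h1
  have h4 : Nat.card (Bbar F) = (8 * k + 3) * (4 * k + 1) := Nat.eq_of_mul_eq_mul_right (by norm_num) h1
  rw [h4]
  intro h
  rcases (Nat.Prime.dvd_mul Nat.prime_two).1 h with h5 | h5 <;> omega

/-- an element of order `> 2` dividing `q - 1` is conjugate to a diagonal element -/
theorem exists_conj_diag_of_order_dvd3 (h3 : (3 : F) = 0)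
    (x : ProjectiveSpecialLinearGroup (Fin 2) F) (hx1 : x ≠ 1) (hx2 : orderOf x ≠ 2)
    (hx : orderOf x ∣ Fintype.card F - 1) (hn3 : ¬ 3 ∣ Fintype.card F - 1) :
    ∃ (c : ProjectiveSpecialLinearGroup (Fin 2) F) (a : F) (ha : a ≠ 0), a ≠ a⁻¹ ∧
      c * x * c⁻¹ = toPSL2 F (diagSL a ha) := by
  obtain ⟨g, rfl⟩ := toPSL2_surjective x
  obtain ⟨hgs, ht, ⟨a, ha0, hta⟩⟩ := split_of_order_dvd3 h3 g hx1 hx2 hx hn3
  have hne : a ≠ a⁻¹ := by
    intro h
    apply ht
    have haa : a * a = 1 := by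
      nth_rewrite 2 [h]
      exact mul_inv_cancel₀ ha0
    rw [hta, ← h]
    linear_combination 4 * haa
  have htr : (g : Matrix (Fin 2) (Fin 2) F).trace =
      ((diagSL a ha0 : SpecialLinearGroup (Fin 2) F) : Matrix (Fin 2) (Fin 2) F).trace := by
    rw [diagSL_trace, hta]
  have ht' : ((diagSL a ha0 : SpecialLinearGroup (Fin 2) F) : Matrix (Fin 2) (Fin 2) F).trace ^ 2 ≠ 4 := by
    rw [← htr]; exact ht
  obtain ⟨c, hc⟩ := isConj_iff.1 (isConj_of_trace_eq (diagSL a ha0) g htr ht')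
  refine ⟨(toPSL2 F c)⁻¹, a, ha0, hne, ?_⟩
  rw [← hc, map_mul, map_mul, map_inv]
  group

/-- the solubilizer of a split semisimple element of order `> 2` -/
theorem card_sol_split3 (p : ℕ) (hp : p.Prime) (hodd : Odd p) (hF : Fintype.card F = 3 ^ p)
    (x : ProjectiveSpecialLinearGroup (Fin 2) F) (hx1 : x ≠ 1) (hx2 : orderOf x ≠ 2)
    (hx : orderOf x ∣ 3 ^ p - 1) :
    Nat.card {y : ProjectiveSpecialLinearGroup (Fin 2) F //
      Group.IsSolvable ↥(Subgroup.closure ({x, y} : Set (ProjectiveSpecialLinearGroup (Fin 2) F)))} =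
      3 ^ p * (3 ^ p - 1) := by
  obtain ⟨h3, hq27, hmod8, hmod5, hnsq, hcen⟩ := basic_facts3 p hp hodd hF
  have hq4 : 4 ≤ Fintype.card F := by omega
  have hq1 : 1 ≤ Fintype.card F := Fintype.card_pos
  have hn3 : ¬ 3 ∣ Fintype.card F - 1 := by rw [hF]; exact not_three_dvd_pred p hp.ne_zero
  rw [← hF] at hx
  obtain ⟨c, a, ha, hne, hc⟩ := exists_conj_diag_of_order_dvd3 h3 x hx1 hx2 hx hn3
  have hordc : orderOf (c * x * c⁻¹) = orderOf x := by
    have := orderOf_injective (MulAut.conj c).toMonoidHom (MulAut.conj c).injective x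
    exact this
  rw [← card_sol_conj c x, hc]
  rw [← hordc, hc] at hx hx2
  have hu1 : toPSL2 F (diagSL a ha) ≠ 1 := by
    rw [← hc]
    intro h
    apply hx1
    have : x = c⁻¹ * (c * x * c⁻¹) * c := by group
    rw [this, h]; group
  set d := diagSL a ha with hd
  obtain ⟨hds, htd⟩ := semisimple_of_order h3 d hu1 _ hx hn3
  obtain ⟨-, hcardN, -, hinvol⟩ := torus_normalizer d hds htd
  set T := Tor d with hT
  set N := Subgroup.normalizer ((T : Subgroup (ProjectiveSpecialLinearGroup (Fin 2) F)) :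
      Set (ProjectiveSpecialLinearGroup (Fin 2) F)) with hN
  have hxT : toPSL2 F d ∈ T := self_mem_Tor d
  have hTN : T ≤ N := Subgroup.le_normalizer
  have hd01 : (d : Matrix (Fin 2) (Fin 2) F) 0 1 = 0 := by simp [hd, Cfsg.Agent.Lib.Helper15.diagSL]
  have hd10 : (d : Matrix (Fin 2) (Fin 2) F) 1 0 = 0 := by simp [hd, Cfsg.Agent.Lib.Helper15.diagSL]
  have hxB : toPSL2 F d ∈ Bbar F := (mem_Bbar_iff d).2 hd10
  have hxBm : toPSL2 F d ∈ Bm F := (mem_Bm_iff d).2 hd01
  have hmemT : ∀ g : SpecialLinearGroup (Fin 2) F, toPSL2 F g ∈ T ↔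
      ((g : Matrix (Fin 2) (Fin 2) F) 0 1 = 0 ∧ (g : Matrix (Fin 2) (Fin 2) F) 1 0 = 0) := by
    intro g
    rw [hT, mem_Tor_iff, hd, mem_centralizer_diagSL_iff a ha hne]
  have hiff : ∀ y : ProjectiveSpecialLinearGroup (Fin 2) F,
      Group.IsSolvable ↥(Subgroup.closure ({toPSL2 F d, y} : Set (ProjectiveSpecialLinearGroup (Fin 2) F))) ↔
      y ∈ ((Bbar F : Set (ProjectiveSpecialLinearGroup (Fin 2) F)) ∪ (Bm F : Set _)) ∪ (N : Set _) := by
    intro y
    constructor
    · intro hsol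
      set H := Subgroup.closure ({toPSL2 F d, y} : Set (ProjectiveSpecialLinearGroup (Fin 2) F)) with hH
      have hxH : toPSL2 F d ∈ H := Subgroup.subset_closure (Set.mem_insert _ _)
      have hyH : y ∈ H := Subgroup.subset_closure (Set.mem_insert_of_mem _ rfl)
      have hHtop : H ≠ ⊤ := ne_top_of_isSolvable hq4 H hsol
      have hHbot : H ≠ ⊥ := by
        intro h
        rw [h, Subgroup.mem_bot] at hxH
        exact hu1 hxH
      rcases subgroup_le_cases3 p hp hodd hF H hHtop hHbot with ⟨c', hc'⟩ | ⟨g₁, hg₁, ht₁, -, hle⟩ | hall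
      · rcases conj_Bbar_cases_of_diag_mem a ha hne c' (hc' hxH) with h | h
        · left; left
          have := hc' hyH
          rw [h] at this
          exact this
        · left; right
          have := hc' hyH
          rw [h] at this
          exact this
      · right
        have hxT₁ : toPSL2 F d ∈ Tor g₁ := mem_Tor_of_order g₁ hg₁ ht₁ _ hu1 hx2 (hle hxH)
        have hTT : Tor d = Tor g₁ := Tor_eq_of_mem g₁ hg₁ d hxT₁ hds
        show y ∈ N
        rw [hN, hT, hTT]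
        exact hle hyH
      · exfalso
        rcases hall _ hxH with h | h
        · exact not_mul_self_eq_one _ hu1 hx2 h
        · exact not_cube_eq_one _ hu1 _ hx hn3 h
    · rintro ((hy | hy) | hy)
      · exact isSolvable_closure_of_mem isSolvable_Bbar hxB hy
      · exact isSolvable_closure_of_mem (isSolvable_conj_smul _ _ isSolvable_Bbar) hxBm hy
      · exact isSolvable_closure_of_mem (isSolvable_normalizer_Tor d hds htd) (hTN hxT) hy
  rw [Nat.card_congr (Equiv.subtypeEquivRight hiff)]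
  -- the count
  have hBodd := card_Bbar_odd hcen hmod8
  have hB : Nat.card (Bbar F) * 2 = Fintype.card F * (Fintype.card F - 1) := by
    have := card_Bbar_mul (F := F)
    rwa [hcen] at this
  have hBm : Nat.card (Bm F) = Nat.card (Bbar F) := by
    unfold Bm
    rw [card_conj_smul]
  have hint1 : (Bbar F : Set (ProjectiveSpecialLinearGroup (Fin 2) F)) ∩ (Bm F : Set _) = (T : Set _) := by
    ext y
    obtain ⟨g, rfl⟩ := toPSL2_surjective y
    simp only [Set.mem_inter_iff, SetLike.mem_coe]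
    rw [mem_Bbar_iff, mem_Bm_iff, hmemT]
    unfold Dk.IsB
    tauto
  have hint2 : ((Bbar F : Set (ProjectiveSpecialLinearGroup (Fin 2) F)) ∪ (Bm F : Set _)) ∩ (N : Set _) =
      (T : Set _) := by
    ext y
    constructor
    · rintro ⟨hyB, hyN⟩
      by_contra hyT
      have hyy := (hinvol y hyN hyT).1
      have hy1 : y = 1 := by
        rcases hyB with hyB | hyB
        · exact eq_one_of_mul_self_of_odd (Bbar F) hBodd y hyB hyy
        · exact eq_one_of_mul_self_of_odd (Bm F) (by rw [hBm]; exact hBodd) y hyB hyy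
      apply hyT
      rw [hy1]
      exact T.one_mem
    · intro hyT
      have hyT' : y ∈ (Bbar F : Set (ProjectiveSpecialLinearGroup (Fin 2) F)) ∩ (Bm F : Set _) := by
        rw [hint1]; exact hyT
      exact ⟨Or.inl hyT'.1, hTN hyT⟩
  have e1 := Set.ncard_union_add_ncard_inter (Bbar F : Set (ProjectiveSpecialLinearGroup (Fin 2) F))
    (Bm F : Set _)
  have e2 := Set.ncard_union_add_ncard_inter
    ((Bbar F : Set (ProjectiveSpecialLinearGroup (Fin 2) F)) ∪ (Bm F : Set _)) (N : Set _)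
  rw [hint1] at e1
  rw [hint2] at e2
  have c1 : (Bbar F : Set (ProjectiveSpecialLinearGroup (Fin 2) F)).ncard = Nat.card (Bbar F) := rfl
  have c2 : (Bm F : Set (ProjectiveSpecialLinearGroup (Fin 2) F)).ncard = Nat.card (Bm F) := rfl
  have c3 : (N : Set (ProjectiveSpecialLinearGroup (Fin 2) F)).ncard = Nat.card N := rfl
  have c4 : (T : Set (ProjectiveSpecialLinearGroup (Fin 2) F)).ncard = Nat.card T := rfl
  rw [c1, c2, c4, hBm] at e1
  rw [c3, c4, hcardN] at e2
  show Set.ncard (((Bbar F : Set (ProjectiveSpecialLinearGroup (Fin 2) F)) ∪ (Bm F : Set _)) ∪ (N : Set _)) = _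
  rw [← hF, ← hB]
  omega

end finite

end Cfsg.Agent.Lib.Helper9.Sl3
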