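import Mathlib
import Cfsg.Agent.Lib.Helper9.Sl3D

/-!
# Solubilizers in `PSL₂(3^p)`, part E: counting tools; the solubilizer of an element of order three
-/

set_option autoImplicit false

open scoped Pointwise

namespace Cfsg.Agent.Lib.Helper9.Sl3

open Matrix
open Cfsg.Agent.Lib.Helper14
open Cfsg.Agent.Lib.Helper15
open Cfsg.Agent.Lib.Helper15.Dk
open Cfsg.Agent.Lib.Helper15.Sol

section tools

/-- the cardinality of the preimage of a set under a surjective homomorphism -/
theorem card_preimage_of_surjective {A B : Type*} [Group A] [Group B] (f : A →* B)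
    (hf : Function.Surjective f) (S : Set B) :
    Nat.card (f ⁻¹' S) = Nat.card S * Nat.card f.ker := by
  rw [← Nat.card_prod]
  apply Nat.card_congr
  set σ := Function.surjInv hf with hσ
  have hσf : ∀ b, f (σ b) = b := Function.surjInv_eq hf
  exact
    { toFun := fun a => (⟨f a.1, a.2⟩, ⟨(σ (f a.1))⁻¹ * a.1, by
        rw [MonoidHom.mem_ker, map_mul, map_inv, hσf, inv_mul_cancel]⟩)
      invFun := fun sk => ⟨σ sk.1.1 * sk.2.1, by
        show f (σ sk.1.1 * sk.2.1) ∈ S
        rw [map_mul, hσf, (MonoidHom.mem_ker).1 sk.2.2, mul_one]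
        exact sk.1.2⟩
      left_inv := by
        rintro ⟨a, ha⟩
        apply Subtype.ext
        show σ (f a) * ((σ (f a))⁻¹ * a) = a
        rw [mul_inv_cancel_left]
      right_inv := by
        rintro ⟨⟨s, hs⟩, ⟨k, hk⟩⟩
        have hk' : f k = 1 := (MonoidHom.mem_ker).1 hk
        have e1 : f (σ s * k) = s := by rw [map_mul, hσf, hk', mul_one]
        apply Prod.ext
        · apply Subtype.ext
          exact e1
        · apply Subtype.ext
          show (σ (f (σ s * k)))⁻¹ * (σ s * k) = k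
          rw [e1, inv_mul_cancel_left] }

variable {F : Type*} [Field F]

theorem ker_toPSL2 : (toPSL2 F).ker = Subgroup.center (SpecialLinearGroup (Fin 2) F) := by
  unfold toPSL2
  exact QuotientGroup.ker_mk' _

theorem card_preimage_toPSL2 (S : Set (ProjectiveSpecialLinearGroup (Fin 2) F)) :
    Nat.card (toPSL2 F ⁻¹' S) =
      Nat.card S * Nat.card (Subgroup.center (SpecialLinearGroup (Fin 2) F)) := by
  rw [card_preimage_of_surjective (toPSL2 F) toPSL2_surjective S, ker_toPSL2]

theorem card_sign (h2 : (2 : F) ≠ 0) : Nat.card {s : F // s * s = 1} = 2 := by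
  rw [Nat.card_eq_two_iff]
  refine ⟨⟨1, by ring⟩, ⟨-1, by ring⟩, ?_, ?_⟩
  · intro h
    have h5 : (1 : F) = -1 := congrArg Subtype.val h
    apply h2
    linear_combination h5
  · rw [Set.eq_univ_iff_forall]
    rintro ⟨s, hs⟩
    have h1 : (s - 1) * (s + 1) = 0 := by linear_combination hs
    rcases mul_eq_zero.1 h1 with h4 | h4
    · left
      apply Subtype.ext
      exact sub_eq_zero.1 h4
    · right
      rw [Set.mem_singleton_iff]
      apply Subtype.ext
      show s = -1
      linear_combination h4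

end tools

section order3
variable {F : Type*} [Field F]

/-- the trace of a product with an upper unitriangular matrix -/
theorem trsq_uu_mul (b : F) (Y : SpecialLinearGroup (Fin 2) F) :
    trsq (toPSL2 F (uu b) * toPSL2 F Y) =
      ((Y : Matrix (Fin 2) (Fin 2) F).trace + b * (Y : Matrix (Fin 2) (Fin 2) F) 1 0) ^ 2 := by
  rw [← map_mul, trsq_toPSL2, Matrix.trace_fin_two, uu_mul_00, uu_mul_11, Matrix.trace_fin_two]
  ring

/-- the involutions `v` with `u v` of order three, `u = uu b` -/
def Wset (b : F) : Set (ProjectiveSpecialLinearGroup (Fin 2) F) :=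
  {v | trsq v = 0 ∧ trsq (toPSL2 F (uu b) * v) = 1}

theorem mem_Wset_iff (b : F) (Y : SpecialLinearGroup (Fin 2) F) :
    toPSL2 F Y ∈ Wset b ↔ (Y : Matrix (Fin 2) (Fin 2) F).trace = 0 ∧
      (b * (Y : Matrix (Fin 2) (Fin 2) F) 1 0) ^ 2 = 1 := by
  unfold Wset
  rw [Set.mem_ofPred_eq, trsq_toPSL2, trsq_uu_mul]
  constructor
  · rintro ⟨h1, h2⟩
    have h0 : (Y : Matrix (Fin 2) (Fin 2) F).trace = 0 := pow_eq_zero_iff (two_ne_zero) |>.1 h1
    rw [h0, zero_add] at h2
    exact ⟨h0, h2⟩
  · rintro ⟨h1, h2⟩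
    rw [h1, zero_add]
    exact ⟨by ring, h2⟩

theorem uu_mul_mem_Wset_iff (b : F) (Y : SpecialLinearGroup (Fin 2) F) :
    toPSL2 F (uu b) * toPSL2 F Y ∈ Wset b ↔
      (Y : Matrix (Fin 2) (Fin 2) F).trace + b * (Y : Matrix (Fin 2) (Fin 2) F) 1 0 = 0 ∧
      (b * (Y : Matrix (Fin 2) (Fin 2) F) 1 0) ^ 2 = 1 := by
  rw [← map_mul, mem_Wset_iff, Matrix.trace_fin_two, uu_mul_00, uu_mul_11, uu_mul_10, Matrix.trace_fin_two]
  constructor
  · rintro ⟨h1, h2⟩
    exact ⟨by linear_combination h1, h2⟩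
  · rintro ⟨h1, h2⟩
    exact ⟨by linear_combination h1, h2⟩

theorem uu_inv_mul_mem_Wset_iff (b : F) (Y : SpecialLinearGroup (Fin 2) F) :
    (toPSL2 F (uu b))⁻¹ * toPSL2 F Y ∈ Wset b ↔
      (Y : Matrix (Fin 2) (Fin 2) F).trace - b * (Y : Matrix (Fin 2) (Fin 2) F) 1 0 = 0 ∧
      (b * (Y : Matrix (Fin 2) (Fin 2) F) 1 0) ^ 2 = 1 := by
  rw [← map_inv, uu_inv, ← map_mul, mem_Wset_iff, Matrix.trace_fin_two, uu_mul_00, uu_mul_11, uu_mul_10,
    Matrix.trace_fin_two]
  constructor
  · rintro ⟨h1, h2⟩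
    exact ⟨by linear_combination h1, h2⟩
  · rintro ⟨h1, h2⟩
    exact ⟨by linear_combination h1, h2⟩

/-- the field-level analysis of the `A₄` case -/
theorem trace_analysis (h3 : (3 : F) = 0) (t s : F) (hs : s ≠ 0)
    (h1 : t ^ 2 = 0 ∨ t ^ 2 = 1) (h2 : (t + s) ^ 2 = 0 ∨ (t + s) ^ 2 = 1)
    (h4 : (t - s) ^ 2 = 0 ∨ (t - s) ^ 2 = 1) :
    (t = 0 ∨ t - s = 0 ∨ t + s = 0) ∧ s ^ 2 = 1 := by
  have h2' : (2 : F) ≠ 0 := two_ne_zero3 h3
  have hs2 : s ^ 2 ≠ 0 := pow_ne_zero 2 hs
  rcases h1 with h1 | h1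
  · have ht : t = 0 := pow_eq_zero_iff (two_ne_zero) |>.1 h1
    refine ⟨Or.inl ht, ?_⟩
    rw [ht, zero_add] at h2
    rcases h2 with h2 | h2
    · exact absurd h2 hs2
    · exact h2
  · rcases h2 with h2 | h2
    · have hts : t + s = 0 := pow_eq_zero_iff (two_ne_zero) |>.1 h2
      refine ⟨Or.inr (Or.inr hts), ?_⟩
      have : s = -t := by linear_combination hts
      rw [this]; linear_combination h1
    · rcases h4 with h4 | h4
      · have hts : t - s = 0 := pow_eq_zero_iff (two_ne_zero) |>.1 h4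
        refine ⟨Or.inr (Or.inl hts), ?_⟩
        have : s = t := by linear_combination -hts
        rw [this]; exact h1
      · exfalso
        apply hs2
        have : 2 * s ^ 2 = 0 := by linear_combination h2 + h4 - 2 * h1
        exact (mul_eq_zero.1 this).resolve_left h2'

end order3

section order3count
variable {F : Type*} [Field F] [Fintype F]

/-- the matrix with prescribed `(0,0)` entry and `(1,0)` entry `ε b⁻¹`, of trace zero -/
def wMat (b : F) (hb : b ≠ 0) (ε : F) (hε : ε * ε = 1) (α : F) : SpecialLinearGroup (Fin 2) F :=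
  ⟨!![α, -(1 + α ^ 2) * b * ε; ε * b⁻¹, -α], by
    rw [Matrix.det_fin_two_of]
    have hbb : b * b⁻¹ = 1 := mul_inv_cancel₀ hb
    linear_combination (1 + α ^ 2) * (ε * ε) * hbb + (1 + α ^ 2) * hε⟩

/-- the number of elements of `Wset b` -/
theorem card_Wset (h2 : (2 : F) ≠ 0)
    (hcen : Nat.card (Subgroup.center (SpecialLinearGroup (Fin 2) F)) = 2) (b : F) (hb : b ≠ 0) :
    Set.ncard (Wset b) = Fintype.card F := by
  have h1 := card_preimage_toPSL2 (Wset b)
  rw [hcen] at h1
  have h4 : Nat.card (toPSL2 F ⁻¹' Wset b) = 2 * Fintype.card F := by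
    have e0 : Nat.card ({s : F // s * s = 1} × F) = 2 * Fintype.card F := by
      rw [Nat.card_prod, card_sign h2, Nat.card_eq_fintype_card]
    rw [← e0]
    apply Nat.card_congr
    exact
      { toFun := fun Y => (⟨b * (Y.1 : Matrix (Fin 2) (Fin 2) F) 1 0, by
            have := ((mem_Wset_iff b Y.1).1 Y.2).2
            rw [pow_two] at this
            exact this⟩, (Y.1 : Matrix (Fin 2) (Fin 2) F) 0 0)
        invFun := fun εα => ⟨wMat b hb εα.1.1 εα.1.2 εα.2, by
            show toPSL2 F (wMat b hb εα.1.1 εα.1.2 εα.2) ∈ Wset b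
            rw [mem_Wset_iff, Matrix.trace_fin_two]
            have hbb : b * b⁻¹ = 1 := mul_inv_cancel₀ hb
            constructor
            · simp [wMat]
            · have e : ((wMat b hb εα.1.1 εα.1.2 εα.2 : SpecialLinearGroup (Fin 2) F) :
                  Matrix (Fin 2) (Fin 2) F) 1 0 = εα.1.1 * b⁻¹ := by simp [wMat]
              rw [e]
              have := εα.1.2
              linear_combination (εα.1.1 * εα.1.1) * (b * b⁻¹ + 1) * hbb + this⟩
        left_inv := by
          rintro ⟨Y, hY⟩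
          obtain ⟨ht, hs⟩ := (mem_Wset_iff b Y).1 hY
          apply Subtype.ext
          apply Subtype.ext
          have hd := det_eq Y
          rw [Matrix.trace_fin_two] at ht
          have hbb : b * b⁻¹ = 1 := mul_inv_cancel₀ hb
          have h11 : (Y : Matrix (Fin 2) (Fin 2) F) 1 1 = -(Y : Matrix (Fin 2) (Fin 2) F) 0 0 := by
            linear_combination ht
          apply mat2_ext
          · simp [wMat]
          · simp only [wMat]
            show -(1 + (Y : Matrix (Fin 2) (Fin 2) F) 0 0 ^ 2) * b * (b * (Y : Matrix (Fin 2) (Fin 2) F) 1 0) =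
              (Y : Matrix (Fin 2) (Fin 2) F) 0 1
            rw [h11] at hd
            linear_combination ((Y : Matrix (Fin 2) (Fin 2) F) 0 1) * hs +
              (b ^ 2 * (Y : Matrix (Fin 2) (Fin 2) F) 1 0) * hd
          · simp only [wMat]
            show b * (Y : Matrix (Fin 2) (Fin 2) F) 1 0 * b⁻¹ = (Y : Matrix (Fin 2) (Fin 2) F) 1 0
            linear_combination (Y : Matrix (Fin 2) (Fin 2) F) 1 0 * hbb
          · simp only [wMat]
            show -(Y : Matrix (Fin 2) (Fin 2) F) 0 0 = (Y : Matrix (Fin 2) (Fin 2) F) 1 1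
            rw [h11]
        right_inv := by
          rintro ⟨⟨ε, hε⟩, α⟩
          have hbb : b * b⁻¹ = 1 := mul_inv_cancel₀ hb
          apply Prod.ext
          · apply Subtype.ext
            show b * (ε * b⁻¹) = ε
            linear_combination ε * hbb
          · rfl }
  have h5 : (Wset b).ncard = Nat.card (Wset b) := rfl
  rw [h5]
  omega

end order3count

end Cfsg.Agent.Lib.Helper9.Sl3
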