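import Mathlib
import Cfsg.Agent.Lib.Helper9.Sl3E

/-!
# Solubilizers in `PSL₂(3^p)`, part F: the solubilizer of an element of order three
-/

set_option autoImplicit false

open scoped Pointwise

namespace Cfsg.Agent.Lib.Helper9.Sl3

open Matrix
open Cfsg.Agent.Lib.Helper14
open Cfsg.Agent.Lib.Helper15
open Cfsg.Agent.Lib.Helper15.Dk
open Cfsg.Agent.Lib.Helper15.Sol

variable {F : Type*} [Field F] [Fintype F]

/-- an element of order three of `PSL₂` in characteristic three is conjugate to an upper unitriangular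
element -/
theorem exists_conj_uu_of_order_three [CharP F 3] (x : ProjectiveSpecialLinearGroup (Fin 2) F)
    (hx : orderOf x = 3) :
    ∃ (c : ProjectiveSpecialLinearGroup (Fin 2) F) (b : F), b ≠ 0 ∧ c * x * c⁻¹ = toPSL2 F (uu b) := by
  have : Fact (Nat.Prime 3) := ⟨Nat.prime_three⟩
  have hP : IsPGroup 3 (Subgroup.zpowers x) := by
    apply IsPGroup.of_card (n := 1)
    rw [Nat.card_zpowers, hx, pow_one]
  obtain ⟨P, hxP⟩ := hP.exists_le_sylow
  obtain ⟨c, hc⟩ := MulAction.exists_smul_eq (ProjectiveSpecialLinearGroup (Fin 2) F) P (UbarSylow 3)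
  have hxU : c * x * c⁻¹ ∈ Ubar F := by
    rw [← coe_UbarSylow 3, ← hc, Sylow.coe_subgroup_smul, mem_conj_smul]
    have e1 : c⁻¹ * (c * x * c⁻¹) * c = x := by group
    rw [e1]
    exact hxP (Subgroup.mem_zpowers x)
  obtain ⟨k, hk⟩ := toPSL2_surjective (c * x * c⁻¹)
  have hkUT : IsUT k := by
    rw [← mem_Ubar_iff, hk]; exact hxU
  refine ⟨c, (k : Matrix (Fin 2) (Fin 2) F) 0 0 * (k : Matrix (Fin 2) (Fin 2) F) 0 1, ?_, ?_⟩
  · intro h0
    have h1 := isUT_toPSL2 k hkUT
    rw [h0, uu_zero, map_one, hk] at h1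
    have h3 : x = 1 := by
      have : x = c⁻¹ * (c * x * c⁻¹) * c := by group
      rw [this, h1]; group
    rw [h3, orderOf_one] at hx
    omega
  · rw [← isUT_toPSL2 k hkUT, hk]

omit [Fintype F] in
theorem uu_cube (h3 : (3 : F) = 0) (b : F) :
    toPSL2 F (uu b) * toPSL2 F (uu b) * toPSL2 F (uu b) = 1 := by
  rw [← map_mul, ← map_mul, uu_mul, uu_mul]
  have : b + b + b = 0 := by linear_combination b * h3
  rw [this, uu_zero, map_one]

/-- the elements of `Wset b` generate a solvable group with `u` -/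
theorem isSolvable_of_mem_Wset (h3 : (3 : F) = 0) (b : F)
    (v : ProjectiveSpecialLinearGroup (Fin 2) F) (hv : v ∈ Wset b) :
    Group.IsSolvable (Subgroup.closure ({toPSL2 F (uu b), v} : Set (ProjectiveSpecialLinearGroup (Fin 2) F))) := by
  obtain ⟨hv0, hv1⟩ := hv
  have hvv : v * v = 1 := sq_eq_one_of_trsq_zero v hv0
  have h1 : trsq (v * toPSL2 F (uu b)) = 1 := by
    have e : v * toPSL2 F (uu b) = MulAut.conj v (toPSL2 F (uu b) * v) := by
      rw [MulAut.conj_apply]; group
    rw [e, trsq_conj]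
    exact hv1
  have h2 := cube_eq_one_of_trsq_one _ h1
  have := isSolvable_closure_of_A4_rel v (toPSL2 F (uu b)) hvv (uu_cube h3 b) h2
  rwa [Set.pair_comm] at this

/-- the solubilizer of an element of order three -/
theorem card_sol_three (p : ℕ) (hp : p.Prime) (hodd : Odd p) (hF : Fintype.card F = 3 ^ p)
    (x : ProjectiveSpecialLinearGroup (Fin 2) F) (hx : orderOf x = 3) :
    2 * Nat.card {y : ProjectiveSpecialLinearGroup (Fin 2) F //
      Group.IsSolvable ↥(Subgroup.closure ({x, y} : Set (ProjectiveSpecialLinearGroup (Fin 2) F)))} =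
      3 ^ p * (3 ^ p + 5) := by
  obtain ⟨h3, hq27, hmod8, hmod5, hnsq, hcen⟩ := basic_facts3 p hp hodd hF
  have hq4 : 4 ≤ Fintype.card F := by omega
  have h2 : (2 : F) ≠ 0 := two_ne_zero3 h3
  have hchar : CharP F 3 := charP_three h3
  obtain ⟨c, b, hb, hc⟩ := exists_conj_uu_of_order_three x hx
  rw [← card_sol_conj c x, hc]
  set u := toPSL2 F (uu b) with hu
  have hu1 : u ≠ 1 := fun h => uu_not_scalar b hb ((toPSL2_eq_one_iff' _).1 h)
  have huuu : u * u * u = 1 := uu_cube h3 b
  have huB : u ∈ Bbar F := (mem_Bbar_iff _).2 (isUT_uu b).isB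
  set W := Wset b with hW
  set W₁ : Set (ProjectiveSpecialLinearGroup (Fin 2) F) := (fun y => u * y) '' W with hW₁
  set W₂ : Set (ProjectiveSpecialLinearGroup (Fin 2) F) := (fun y => u⁻¹ * y) '' W with hW₂
  have hmem₁ : ∀ y, y ∈ W₁ ↔ u⁻¹ * y ∈ W := by
    intro y
    rw [hW₁, Set.image_mul_left]
    rfl
  have hmem₂ : ∀ y, y ∈ W₂ ↔ u * y ∈ W := by
    intro y
    rw [hW₂, Set.image_mul_left, inv_inv]
    rfl
  have hiff : ∀ y : ProjectiveSpecialLinearGroup (Fin 2) F,
      Group.IsSolvable ↥(Subgroup.closure ({u, y} : Set (ProjectiveSpecialLinearGroup (Fin 2) F))) ↔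
      y ∈ (((Bbar F : Set (ProjectiveSpecialLinearGroup (Fin 2) F)) ∪ W) ∪ W₁) ∪ W₂ := by
    intro y
    constructor
    · intro hsol
      by_cases hyB : y ∈ Bbar F
      · left; left; left; exact hyB
      set H := Subgroup.closure ({u, y} : Set (ProjectiveSpecialLinearGroup (Fin 2) F)) with hH
      have huH : u ∈ H := Subgroup.subset_closure (Set.mem_insert _ _)
      have hyH : y ∈ H := Subgroup.subset_closure (Set.mem_insert_of_mem _ rfl)
      have hHtop : H ≠ ⊤ := ne_top_of_isSolvable hq4 H hsol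
      have hHbot : H ≠ ⊥ := by
        intro h
        rw [h, Subgroup.mem_bot] at huH
        exact hu1 huH
      rcases subgroup_le_cases3 p hp hodd hF H hHtop hHbot with ⟨c', hc'⟩ | ⟨g₁, hg₁, ht₁, -, hle⟩ | hall
      · exfalso
        apply hyB
        have h1 := conj_Bbar_eq_of_uu_mem b hb c' (hc' huH)
        have := hc' hyH
        rw [h1] at this
        exact this
      · exfalso
        have huN := hle huH
        have huT : u ∉ Tor g₁ := by
          intro h
          have h1 : Tor (uu b) = Tor g₁ := Tor_eq_of_mem g₁ hg₁ (uu b) h (uu_not_scalar b hb)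
          rw [Tor_uu b hb] at h1
          have h3' : toPSL2 F g₁ ∈ Ubar F := by rw [h1]; exact self_mem_Tor g₁
          rw [mem_Ubar_iff] at h3'
          apply ht₁
          rw [Matrix.trace_fin_two, ← h3'.2]
          have := h3'.sq
          linear_combination 4 * this
        have huu := ((torus_normalizer g₁ hg₁ ht₁).2.2.2 u huN huT).1
        apply hu1
        rw [huu, one_mul] at huuu
        exact huuu
      · obtain ⟨Y, rfl⟩ := toPSL2_surjective y
        have hs0 : b * (Y : Matrix (Fin 2) (Fin 2) F) 1 0 ≠ 0 := by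
          apply mul_ne_zero hb
          intro h
          exact hyB ((mem_Bbar_iff Y).2 h)
        have e1 := trsq_of_sq_or_cube h3 _ (hall _ hyH)
        have e2 := trsq_of_sq_or_cube h3 _ (hall _ (H.mul_mem huH hyH))
        have e3 := trsq_of_sq_or_cube h3 _ (hall _ (H.mul_mem (H.inv_mem huH) hyH))
        rw [trsq_toPSL2] at e1
        rw [hu, trsq_uu_mul] at e2
        rw [hu, ← map_inv, uu_inv, trsq_uu_mul] at e3
        have e3' : ((Y : Matrix (Fin 2) (Fin 2) F).trace - b * (Y : Matrix (Fin 2) (Fin 2) F) 1 0) ^ 2 = 0 ∨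
            ((Y : Matrix (Fin 2) (Fin 2) F).trace - b * (Y : Matrix (Fin 2) (Fin 2) F) 1 0) ^ 2 = 1 := by
          have : (Y : Matrix (Fin 2) (Fin 2) F).trace + -b * (Y : Matrix (Fin 2) (Fin 2) F) 1 0 =
              (Y : Matrix (Fin 2) (Fin 2) F).trace - b * (Y : Matrix (Fin 2) (Fin 2) F) 1 0 := by ring
          rw [this] at e3
          exact e3
        obtain ⟨hcases, hss⟩ := trace_analysis h3 _ _ hs0 e1 e2 e3'
        rcases hcases with h | h | h
        · left; left; right
          exact (mem_Wset_iff b Y).2 ⟨h, hss⟩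
        · left; right
          rw [hmem₁]
          exact (uu_inv_mul_mem_Wset_iff b Y).2 ⟨h, hss⟩
        · right
          rw [hmem₂]
          exact (uu_mul_mem_Wset_iff b Y).2 ⟨h, hss⟩
    · rintro (((hy | hy) | hy) | hy)
      · exact isSolvable_closure_of_mem isSolvable_Bbar huB hy
      · exact isSolvable_of_mem_Wset h3 b y hy
      · rw [hmem₁] at hy
        apply isSolvable_of_le _ (isSolvable_of_mem_Wset h3 b _ hy)
        rw [Subgroup.closure_le]
        intro t ht
        rcases ht with rfl | rfl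
        · exact Subgroup.subset_closure (Set.mem_insert _ _)
        · have h5 : u * (u⁻¹ * t) ∈ Subgroup.closure
              ({u, u⁻¹ * t} : Set (ProjectiveSpecialLinearGroup (Fin 2) F)) :=
            Subgroup.mul_mem _ (Subgroup.subset_closure (Set.mem_insert _ _))
              (Subgroup.subset_closure (Set.mem_insert_of_mem _ rfl))
          have e : u * (u⁻¹ * t) = t := by group
          rwa [e] at h5
      · rw [hmem₂] at hy
        apply isSolvable_of_le _ (isSolvable_of_mem_Wset h3 b _ hy)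
        rw [Subgroup.closure_le]
        intro t ht
        rcases ht with rfl | rfl
        · exact Subgroup.subset_closure (Set.mem_insert _ _)
        · have h5 : u⁻¹ * (u * t) ∈ Subgroup.closure
              ({u, u * t} : Set (ProjectiveSpecialLinearGroup (Fin 2) F)) :=
            Subgroup.mul_mem _ (Subgroup.inv_mem _ (Subgroup.subset_closure (Set.mem_insert _ _)))
              (Subgroup.subset_closure (Set.mem_insert_of_mem _ rfl))
          have e : u⁻¹ * (u * t) = t := by group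
          rwa [e] at h5
  rw [Nat.card_congr (Equiv.subtypeEquivRight hiff)]
  -- the count
  have hB : Nat.card (Bbar F) * 2 = Fintype.card F * (Fintype.card F - 1) := by
    have := card_Bbar_mul (F := F)
    rwa [hcen] at this
  have hcW : W.ncard = Fintype.card F := card_Wset h2 hcen b hb
  have hcW₁ : W₁.ncard = Fintype.card F := by
    rw [hW₁, Set.ncard_image_of_injective _ (mul_right_injective u), hcW]
  have hcW₂ : W₂.ncard = Fintype.card F := by
    rw [hW₂, Set.ncard_image_of_injective _ (mul_right_injective u⁻¹), hcW]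
  -- the description on lifts
  have key : ∀ Y : SpecialLinearGroup (Fin 2) F,
      (toPSL2 F Y ∈ W ↔ (Y : Matrix (Fin 2) (Fin 2) F).trace = 0 ∧
        (b * (Y : Matrix (Fin 2) (Fin 2) F) 1 0) ^ 2 = 1) ∧
      (toPSL2 F Y ∈ W₁ ↔ (Y : Matrix (Fin 2) (Fin 2) F).trace - b * (Y : Matrix (Fin 2) (Fin 2) F) 1 0 = 0 ∧
        (b * (Y : Matrix (Fin 2) (Fin 2) F) 1 0) ^ 2 = 1) ∧
      (toPSL2 F Y ∈ W₂ ↔ (Y : Matrix (Fin 2) (Fin 2) F).trace + b * (Y : Matrix (Fin 2) (Fin 2) F) 1 0 = 0 ∧
        (b * (Y : Matrix (Fin 2) (Fin 2) F) 1 0) ^ 2 = 1) := by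
    intro Y
    refine ⟨mem_Wset_iff b Y, ?_, ?_⟩
    · rw [hmem₁]; exact uu_inv_mul_mem_Wset_iff b Y
    · rw [hmem₂]; exact uu_mul_mem_Wset_iff b Y
  have hnz : ∀ Y : SpecialLinearGroup (Fin 2) F, (b * (Y : Matrix (Fin 2) (Fin 2) F) 1 0) ^ 2 = 1 →
      b * (Y : Matrix (Fin 2) (Fin 2) F) 1 0 ≠ 0 := by
    intro Y h h0
    rw [h0] at h
    simp at h
  have hd1 : Disjoint (Bbar F : Set (ProjectiveSpecialLinearGroup (Fin 2) F)) W := by
    rw [Set.disjoint_left]
    intro y hy hy'
    obtain ⟨Y, rfl⟩ := toPSL2_surjective y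
    have h10 : (Y : Matrix (Fin 2) (Fin 2) F) 1 0 = 0 := (mem_Bbar_iff Y).1 hy
    apply hnz Y ((key Y).1.1 hy').2
    rw [h10, mul_zero]
  have hd2 : Disjoint ((Bbar F : Set (ProjectiveSpecialLinearGroup (Fin 2) F)) ∪ W) W₁ := by
    rw [Set.disjoint_left]
    intro y hy hy'
    obtain ⟨Y, rfl⟩ := toPSL2_surjective y
    obtain ⟨ht1, hs1⟩ := (key Y).2.1.1 hy'
    rcases hy with hy | hy
    · have h10 : (Y : Matrix (Fin 2) (Fin 2) F) 1 0 = 0 := (mem_Bbar_iff Y).1 hy
      apply hnz Y hs1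
      rw [h10, mul_zero]
    · obtain ⟨ht0, -⟩ := (key Y).1.1 hy
      apply hnz Y hs1
      linear_combination ht0 - ht1
  have hd3 : Disjoint (((Bbar F : Set (ProjectiveSpecialLinearGroup (Fin 2) F)) ∪ W) ∪ W₁) W₂ := by
    rw [Set.disjoint_left]
    intro y hy hy'
    obtain ⟨Y, rfl⟩ := toPSL2_surjective y
    obtain ⟨ht2, hs2⟩ := (key Y).2.2.1 hy'
    rcases hy with (hy | hy) | hy
    · have h10 : (Y : Matrix (Fin 2) (Fin 2) F) 1 0 = 0 := (mem_Bbar_iff Y).1 hy
      apply hnz Y hs2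
      rw [h10, mul_zero]
    · obtain ⟨ht0, -⟩ := (key Y).1.1 hy
      apply hnz Y hs2
      linear_combination ht2 - ht0
    · obtain ⟨ht1, -⟩ := (key Y).2.1.1 hy
      apply hnz Y hs2
      have h4 : 2 * (b * (Y : Matrix (Fin 2) (Fin 2) F) 1 0) = 0 := by linear_combination ht2 - ht1
      exact (mul_eq_zero.1 h4).resolve_left h2
  show 2 * Set.ncard ((((Bbar F : Set (ProjectiveSpecialLinearGroup (Fin 2) F)) ∪ W) ∪ W₁) ∪ W₂) = _
  rw [Set.ncard_union_eq hd3, Set.ncard_union_eq hd2, Set.ncard_union_eq hd1, hcW, hcW₁, hcW₂]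
  have c1 : (Bbar F : Set (ProjectiveSpecialLinearGroup (Fin 2) F)).ncard = Nat.card (Bbar F) := rfl
  rw [c1, ← hF]
  obtain ⟨k, hk⟩ : ∃ k, Fintype.card F = k + 1 := ⟨Fintype.card F - 1, by omega⟩
  rw [hk] at hB ⊢
  have e : k + 1 - 1 = k := by omega
  rw [e] at hB
  have e2 : (k + 1) * (k + 1 + 5) = (k + 1) * k + 6 * (k + 1) := by ring
  rw [e2, ← hB]
  ring

end Cfsg.Agent.Lib.Helper9.Sl3
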