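import Mathlib
import Cfsg.Agent.Lib.Helper9.Sl3F

/-!
# Solubilizers in `PSL₂(3^p)`, part G: counting tools for the solubilizer of an involution
-/

set_option autoImplicit false

open scoped Pointwise

namespace Cfsg.Agent.Lib.Helper9.Sl3

open Matrix
open Cfsg.Agent.Lib.Helper14
open Cfsg.Agent.Lib.Helper15
open Cfsg.Agent.Lib.Helper15.Dk
open Cfsg.Agent.Lib.Helper15.Sol

section general
variable {F : Type*} [Field F]

theorem wS_entries :
    ((wS : SpecialLinearGroup (Fin 2) F) : Matrix (Fin 2) (Fin 2) F) 0 0 = 0 ∧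
    ((wS : SpecialLinearGroup (Fin 2) F) : Matrix (Fin 2) (Fin 2) F) 0 1 = 1 ∧
    ((wS : SpecialLinearGroup (Fin 2) F) : Matrix (Fin 2) (Fin 2) F) 1 0 = -1 ∧
    ((wS : SpecialLinearGroup (Fin 2) F) : Matrix (Fin 2) (Fin 2) F) 1 1 = 0 := by
  refine ⟨?_, ?_, ?_, ?_⟩ <;> simp [wS, nn]

theorem wS_mul_entries (Y : SpecialLinearGroup (Fin 2) F) :
    ((wS * Y : SpecialLinearGroup (Fin 2) F) : Matrix (Fin 2) (Fin 2) F) 0 0 =
      (Y : Matrix (Fin 2) (Fin 2) F) 1 0 ∧
    ((wS * Y : SpecialLinearGroup (Fin 2) F) : Matrix (Fin 2) (Fin 2) F) 0 1 =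
      (Y : Matrix (Fin 2) (Fin 2) F) 1 1 ∧
    ((wS * Y : SpecialLinearGroup (Fin 2) F) : Matrix (Fin 2) (Fin 2) F) 1 0 =
      -(Y : Matrix (Fin 2) (Fin 2) F) 0 0 ∧
    ((wS * Y : SpecialLinearGroup (Fin 2) F) : Matrix (Fin 2) (Fin 2) F) 1 1 =
      -(Y : Matrix (Fin 2) (Fin 2) F) 0 1 := by
  obtain ⟨e00, e01, e10, e11⟩ := wS_entries (F := F)
  rw [Matrix.SpecialLinearGroup.coe_mul]
  refine ⟨?_, ?_, ?_, ?_⟩ <;> rw [Matrix.mul_apply, Fin.sum_univ_two] <;>
    simp only [e00, e01, e10, e11] <;> ring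

theorem wS_trace : ((wS : SpecialLinearGroup (Fin 2) F) : Matrix (Fin 2) (Fin 2) F).trace = 0 := by
  obtain ⟨e00, e01, e10, e11⟩ := wS_entries (F := F)
  rw [Matrix.trace_fin_two, e00, e11, add_zero]

theorem wS_not_scalar : ¬ IsScalar2 ((wS : SpecialLinearGroup (Fin 2) F) : Matrix (Fin 2) (Fin 2) F) := by
  rintro ⟨h01, -, -⟩
  rw [wS_entries.2.1] at h01
  exact one_ne_zero h01

/-- the trace of `w y` -/
theorem trsq_wS_mul (Y : SpecialLinearGroup (Fin 2) F) :
    trsq (toPSL2 F wS * toPSL2 F Y) =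
      ((Y : Matrix (Fin 2) (Fin 2) F) 1 0 - (Y : Matrix (Fin 2) (Fin 2) F) 0 1) ^ 2 := by
  obtain ⟨e00, -, -, e11⟩ := wS_mul_entries Y
  rw [← map_mul, trsq_toPSL2, Matrix.trace_fin_two, e00, e11]
  ring

theorem wS_mul_self : toPSL2 F wS * toPSL2 F (wS : SpecialLinearGroup (Fin 2) F) = 1 := by
  apply sq_eq_one_of_trsq_zero
  rw [trsq_toPSL2, wS_trace]
  ring

theorem wS_ne_one : toPSL2 F (wS : SpecialLinearGroup (Fin 2) F) ≠ 1 :=
  fun h => wS_not_scalar ((toPSL2_eq_one_iff' _).1 h)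

/-- membership in the torus of `w` -/
theorem mem_Tor_wS_iff (Y : SpecialLinearGroup (Fin 2) F) :
    toPSL2 F Y ∈ Tor (wS : SpecialLinearGroup (Fin 2) F) ↔
      (Y : Matrix (Fin 2) (Fin 2) F) 0 0 = (Y : Matrix (Fin 2) (Fin 2) F) 1 1 ∧
      (Y : Matrix (Fin 2) (Fin 2) F) 0 1 = -(Y : Matrix (Fin 2) (Fin 2) F) 1 0 := by
  obtain ⟨e00, e01, e10, e11⟩ := wS_entries (F := F)
  rw [mem_Tor_iff, Subgroup.mem_centralizer_singleton_iff]
  constructor
  · intro h
    have h1 := congrArg (fun m : SpecialLinearGroup (Fin 2) F => (m : Matrix (Fin 2) (Fin 2) F)) h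
    simp only [Matrix.SpecialLinearGroup.coe_mul] at h1
    have a00 := congrFun (congrFun h1 0) 0
    have a01 := congrFun (congrFun h1 0) 1
    rw [Matrix.mul_apply, Fin.sum_univ_two, Matrix.mul_apply, Fin.sum_univ_two] at a00 a01
    simp only [e00, e01, e10, e11] at a00 a01
    constructor
    · linear_combination a01
    · linear_combination (-1 : F) * a00
  · rintro ⟨h1, h2⟩
    apply Subtype.ext
    rw [Matrix.SpecialLinearGroup.coe_mul, Matrix.SpecialLinearGroup.coe_mul]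
    apply mat2_ext <;> rw [Matrix.mul_apply, Fin.sum_univ_two, Matrix.mul_apply, Fin.sum_univ_two] <;>
      simp only [e00, e01, e10, e11]
    · linear_combination (-1 : F) * h2
    · linear_combination h1
    · linear_combination h1
    · linear_combination h2

end general

section counts
variable {F : Type*} [Field F] [Fintype F]

/-- the set of involutions of `PSL₂(F)` -/
def Aset (F : Type*) [Field F] : Set (ProjectiveSpecialLinearGroup (Fin 2) F) := {y | trsq y = 0}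

omit [Fintype F] in
theorem mem_Aset_iff (Y : SpecialLinearGroup (Fin 2) F) :
    toPSL2 F Y ∈ Aset F ↔ (Y : Matrix (Fin 2) (Fin 2) F).trace = 0 := by
  unfold Aset
  rw [Set.mem_ofPred_eq, trsq_toPSL2]
  exact pow_eq_zero_iff (two_ne_zero)

/-- the trace zero matrix with prescribed first column -/
def aMat (α : F) (γ : Fˣ) : SpecialLinearGroup (Fin 2) F :=
  ⟨!![α, -(1 + α ^ 2) * ((γ⁻¹ : Fˣ) : F); (γ : F), -α], by
    rw [Matrix.det_fin_two_of]
    have hγ : ((γ⁻¹ : Fˣ) : F) * (γ : F) = 1 := by rw [← Units.val_mul, inv_mul_cancel, Units.val_one]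
    linear_combination (1 + α ^ 2) * hγ⟩

omit [Fintype F] in
theorem ne_zero_of_trace_zero (hnsq : ¬ IsSquare (-1 : F)) (Y : SpecialLinearGroup (Fin 2) F)
    (ht : (Y : Matrix (Fin 2) (Fin 2) F).trace = 0) : (Y : Matrix (Fin 2) (Fin 2) F) 1 0 ≠ 0 := by
  intro h0
  apply hnsq
  have hd := det_eq Y
  rw [Matrix.trace_fin_two] at ht
  refine ⟨(Y : Matrix (Fin 2) (Fin 2) F) 0 0, ?_⟩
  rw [h0, mul_zero, sub_zero] at hd
  have h11 : (Y : Matrix (Fin 2) (Fin 2) F) 1 1 = -(Y : Matrix (Fin 2) (Fin 2) F) 0 0 := by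
    linear_combination ht
  rw [h11] at hd
  linear_combination hd

/-- the number of involutions -/
theorem card_Aset (hnsq : ¬ IsSquare (-1 : F))
    (hcen : Nat.card (Subgroup.center (SpecialLinearGroup (Fin 2) F)) = 2) :
    Set.ncard (Aset F) * 2 = Fintype.card F * (Fintype.card F - 1) := by
  have h1 := card_preimage_toPSL2 (Aset F)
  rw [hcen] at h1
  have h5 : (Aset F).ncard = Nat.card (Aset F) := rfl
  rw [h5, ← h1]
  have e0 : Nat.card (F × Fˣ) = Fintype.card F * (Fintype.card F - 1) := by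
    rw [Nat.card_prod, Nat.card_units, Nat.card_eq_fintype_card]
  rw [← e0]
  apply Nat.card_congr
  exact
    { toFun := fun Y => ((Y.1 : Matrix (Fin 2) (Fin 2) F) 0 0,
        Units.mk0 ((Y.1 : Matrix (Fin 2) (Fin 2) F) 1 0)
          (ne_zero_of_trace_zero hnsq Y.1 ((mem_Aset_iff Y.1).1 Y.2)))
      invFun := fun αγ => ⟨aMat αγ.1 αγ.2, by
        show toPSL2 F (aMat αγ.1 αγ.2) ∈ Aset F
        rw [mem_Aset_iff, Matrix.trace_fin_two]
        simp [aMat]⟩
      left_inv := by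
        rintro ⟨Y, hY⟩
        have ht := (mem_Aset_iff Y).1 hY
        have hγ := ne_zero_of_trace_zero hnsq Y ht
        apply Subtype.ext
        apply Subtype.ext
        have hd := det_eq Y
        rw [Matrix.trace_fin_two] at ht
        have h11 : (Y : Matrix (Fin 2) (Fin 2) F) 1 1 = -(Y : Matrix (Fin 2) (Fin 2) F) 0 0 := by
          linear_combination ht
        apply mat2_ext
        · simp [aMat]
        · simp only [aMat]
          show -(1 + (Y : Matrix (Fin 2) (Fin 2) F) 0 0 ^ 2) *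
            (((Units.mk0 ((Y : Matrix (Fin 2) (Fin 2) F) 1 0) hγ)⁻¹ : Fˣ) : F) =
            (Y : Matrix (Fin 2) (Fin 2) F) 0 1
          rw [Units.val_inv_eq_inv_val, Units.val_mk0]
          rw [h11] at hd
          have hγγ : (Y : Matrix (Fin 2) (Fin 2) F) 1 0 * ((Y : Matrix (Fin 2) (Fin 2) F) 1 0)⁻¹ = 1 :=
            mul_inv_cancel₀ hγ
          linear_combination ((Y : Matrix (Fin 2) (Fin 2) F) 1 0)⁻¹ * hd +
            (Y : Matrix (Fin 2) (Fin 2) F) 0 1 * hγγ
        · simp [aMat]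
        · simp only [aMat]
          show -(Y : Matrix (Fin 2) (Fin 2) F) 0 0 = (Y : Matrix (Fin 2) (Fin 2) F) 1 1
          rw [h11]
      right_inv := by
        rintro ⟨α, γ⟩
        apply Prod.ext
        · rfl
        · apply Units.ext
          rfl }

/-- the set of elements `y` of order three with `w y` of order three -/
def Cset (F : Type*) [Field F] : Set (ProjectiveSpecialLinearGroup (Fin 2) F) :=
  {y | trsq y = 1 ∧ trsq (toPSL2 F wS * y) = 1}

omit [Fintype F] in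
theorem mem_Cset_iff (Y : SpecialLinearGroup (Fin 2) F) :
    toPSL2 F Y ∈ Cset F ↔ (Y : Matrix (Fin 2) (Fin 2) F).trace * (Y : Matrix (Fin 2) (Fin 2) F).trace = 1 ∧
      ((Y : Matrix (Fin 2) (Fin 2) F) 1 0 - (Y : Matrix (Fin 2) (Fin 2) F) 0 1) *
        ((Y : Matrix (Fin 2) (Fin 2) F) 1 0 - (Y : Matrix (Fin 2) (Fin 2) F) 0 1) = 1 := by
  unfold Cset
  rw [Set.mem_ofPred_eq, trsq_toPSL2, trsq_wS_mul, pow_two, pow_two]

/-- the matrix with trace `ε₁` and `w`-trace `ε₂` attached to a point of the conic -/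
def cMat (h3 : (3 : F) = 0) (ε₁ ε₂ : F) (h₁ : ε₁ * ε₁ = 1) (h₂ : ε₂ * ε₂ = 1) (u v : F)
    (huv : u ^ 2 + 0 * u * v + v ^ 2 = 1) : SpecialLinearGroup (Fin 2) F :=
  ⟨!![u - ε₁, v + ε₂; v - ε₂, -u - ε₁], by
    rw [Matrix.det_fin_two_of]
    linear_combination (-1 : F) * huv + h₁ + h₂⟩

/-- the number of elements of `Cset` -/
theorem card_Cset (h3 : (3 : F) = 0) (hnsq : ¬ IsSquare (-1 : F))
    (hcen : Nat.card (Subgroup.center (SpecialLinearGroup (Fin 2) F)) = 2) :
    Set.ncard (Cset F) = 2 * (Fintype.card F + 1) := by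
  have h2 : (2 : F) ≠ 0 := two_ne_zero3 h3
  have h1 := card_preimage_toPSL2 (Cset F)
  rw [hcen] at h1
  have hconic : Nat.card {p : F × F // p.1 ^ 2 + 0 * p.1 * p.2 + p.2 ^ 2 = 1} = Fintype.card F + 1 := by
    apply card_normOne_aniso
    intro z₁ z₂ h
    have hz2 : z₂ = 0 := by
      by_contra hz
      apply hnsq
      refine ⟨z₁ / z₂, ?_⟩
      field_simp
      linear_combination (-1 : F) * h
    rw [hz2] at h
    refine ⟨?_, hz2⟩
    have : z₁ ^ 2 = 0 := by linear_combination h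
    exact pow_eq_zero_iff (two_ne_zero) |>.1 this
  have e0 : Nat.card ({s : F // s * s = 1} × {s : F // s * s = 1} ×
      {p : F × F // p.1 ^ 2 + 0 * p.1 * p.2 + p.2 ^ 2 = 1}) = 2 * (2 * (Fintype.card F + 1)) := by
    rw [Nat.card_prod, Nat.card_prod, card_sign h2, hconic]
  have h4 : Nat.card (toPSL2 F ⁻¹' Cset F) = 2 * (2 * (Fintype.card F + 1)) := by
    rw [← e0]
    apply Nat.card_congr
    exact
      { toFun := fun Y => (⟨(Y.1 : Matrix (Fin 2) (Fin 2) F).trace, ((mem_Cset_iff Y.1).1 Y.2).1⟩,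
          ⟨(Y.1 : Matrix (Fin 2) (Fin 2) F) 1 0 - (Y.1 : Matrix (Fin 2) (Fin 2) F) 0 1,
            ((mem_Cset_iff Y.1).1 Y.2).2⟩,
          ⟨((Y.1 : Matrix (Fin 2) (Fin 2) F) 1 1 - (Y.1 : Matrix (Fin 2) (Fin 2) F) 0 0,
            -((Y.1 : Matrix (Fin 2) (Fin 2) F) 0 1 + (Y.1 : Matrix (Fin 2) (Fin 2) F) 1 0)), by
            obtain ⟨e1, e2⟩ := (mem_Cset_iff Y.1).1 Y.2
            have hd := det_eq Y.1
            rw [Matrix.trace_fin_two] at e1
            show ((Y.1 : Matrix (Fin 2) (Fin 2) F) 1 1 - (Y.1 : Matrix (Fin 2) (Fin 2) F) 0 0) ^ 2 +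
              0 * ((Y.1 : Matrix (Fin 2) (Fin 2) F) 1 1 - (Y.1 : Matrix (Fin 2) (Fin 2) F) 0 0) *
                (-((Y.1 : Matrix (Fin 2) (Fin 2) F) 0 1 + (Y.1 : Matrix (Fin 2) (Fin 2) F) 1 0)) +
              (-((Y.1 : Matrix (Fin 2) (Fin 2) F) 0 1 + (Y.1 : Matrix (Fin 2) (Fin 2) F) 1 0)) ^ 2 = 1
            linear_combination e1 + e2 - 4 * hd - (1 : F) * h3⟩)
        invFun := fun t => ⟨cMat h3 t.1.1 t.2.1.1 t.1.2 t.2.1.2 t.2.2.1.1 t.2.2.1.2 t.2.2.2, by
          show toPSL2 F (cMat h3 t.1.1 t.2.1.1 t.1.2 t.2.1.2 t.2.2.1.1 t.2.2.1.2 t.2.2.2) ∈ Cset F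
          rw [mem_Cset_iff, Matrix.trace_fin_two]
          have e00 : ((cMat h3 t.1.1 t.2.1.1 t.1.2 t.2.1.2 t.2.2.1.1 t.2.2.1.2 t.2.2.2 :
              SpecialLinearGroup (Fin 2) F) : Matrix (Fin 2) (Fin 2) F) 0 0 = t.2.2.1.1 - t.1.1 := rfl
          have e01 : ((cMat h3 t.1.1 t.2.1.1 t.1.2 t.2.1.2 t.2.2.1.1 t.2.2.1.2 t.2.2.2 :
              SpecialLinearGroup (Fin 2) F) : Matrix (Fin 2) (Fin 2) F) 0 1 = t.2.2.1.2 + t.2.1.1 := rfl
          have e10 : ((cMat h3 t.1.1 t.2.1.1 t.1.2 t.2.1.2 t.2.2.1.1 t.2.2.1.2 t.2.2.2 :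
              SpecialLinearGroup (Fin 2) F) : Matrix (Fin 2) (Fin 2) F) 1 0 = t.2.2.1.2 - t.2.1.1 := rfl
          have e11 : ((cMat h3 t.1.1 t.2.1.1 t.1.2 t.2.1.2 t.2.2.1.1 t.2.2.1.2 t.2.2.2 :
              SpecialLinearGroup (Fin 2) F) : Matrix (Fin 2) (Fin 2) F) 1 1 = -t.2.2.1.1 - t.1.1 := rfl
          rw [e00, e01, e10, e11]
          have a1 := t.1.2
          have a2 := t.2.1.2
          constructor
          · linear_combination 4 * a1 + (1 : F) * h3
          · linear_combination 4 * a2 + (1 : F) * h3⟩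
        left_inv := by
          rintro ⟨Y, hY⟩
          apply Subtype.ext
          apply Subtype.ext
          apply mat2_ext
          · show (Y : Matrix (Fin 2) (Fin 2) F) 1 1 - (Y : Matrix (Fin 2) (Fin 2) F) 0 0 -
              (Y : Matrix (Fin 2) (Fin 2) F).trace = (Y : Matrix (Fin 2) (Fin 2) F) 0 0
            rw [Matrix.trace_fin_two]
            linear_combination (-(Y : Matrix (Fin 2) (Fin 2) F) 0 0) * h3
          · show -((Y : Matrix (Fin 2) (Fin 2) F) 0 1 + (Y : Matrix (Fin 2) (Fin 2) F) 1 0) +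
              ((Y : Matrix (Fin 2) (Fin 2) F) 1 0 - (Y : Matrix (Fin 2) (Fin 2) F) 0 1) =
              (Y : Matrix (Fin 2) (Fin 2) F) 0 1
            linear_combination (-(Y : Matrix (Fin 2) (Fin 2) F) 0 1) * h3
          · show -((Y : Matrix (Fin 2) (Fin 2) F) 0 1 + (Y : Matrix (Fin 2) (Fin 2) F) 1 0) -
              ((Y : Matrix (Fin 2) (Fin 2) F) 1 0 - (Y : Matrix (Fin 2) (Fin 2) F) 0 1) =
              (Y : Matrix (Fin 2) (Fin 2) F) 1 0
            linear_combination (-(Y : Matrix (Fin 2) (Fin 2) F) 1 0) * h3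
          · show -((Y : Matrix (Fin 2) (Fin 2) F) 1 1 - (Y : Matrix (Fin 2) (Fin 2) F) 0 0) -
              (Y : Matrix (Fin 2) (Fin 2) F).trace = (Y : Matrix (Fin 2) (Fin 2) F) 1 1
            rw [Matrix.trace_fin_two]
            linear_combination (-(Y : Matrix (Fin 2) (Fin 2) F) 1 1) * h3
        right_inv := by
          rintro ⟨⟨ε₁, h₁⟩, ⟨ε₂, h₂⟩, ⟨⟨u, v⟩, huv⟩⟩
          apply Prod.ext
          · apply Subtype.ext
            show ((cMat h3 ε₁ ε₂ h₁ h₂ u v huv : SpecialLinearGroup (Fin 2) F) :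
              Matrix (Fin 2) (Fin 2) F).trace = ε₁
            rw [Matrix.trace_fin_two]
            show (u - ε₁) + (-u - ε₁) = ε₁
            linear_combination (-ε₁) * h3
          · apply Prod.ext
            · apply Subtype.ext
              show (v - ε₂) - (v + ε₂) = ε₂
              linear_combination (-ε₂) * h3
            · apply Subtype.ext
              apply Prod.ext
              · show (-u - ε₁) - (u - ε₁) = u
                linear_combination (-u) * h3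
              · show -((v + ε₂) + (v - ε₂)) = v
                linear_combination (-v) * h3 }
  have h5 : (Cset F).ncard = Nat.card (Cset F) := rfl
  rw [h5]
  omega

end counts

end Cfsg.Agent.Lib.Helper9.Sl3
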