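import Mathlib
import Cfsg.Agent.Lib.Helper9.Sl3G

/-!
# Solubilizers in `PSL₂(3^p)`, part H: the solubilizer of an involution
-/

set_option autoImplicit false

open scoped Pointwise

namespace Cfsg.Agent.Lib.Helper9.Sl3

open Matrix
open Cfsg.Agent.Lib.Helper14
open Cfsg.Agent.Lib.Helper15
open Cfsg.Agent.Lib.Helper15.Dk
open Cfsg.Agent.Lib.Helper15.Sol

variable {F : Type*} [Field F] [Fintype F]

/-- an involution of `PSL₂` is conjugate to the image of the Weyl element, in characteristic three -/
theorem exists_conj_wS_of_order_two (h3 : (3 : F) = 0) (x : ProjectiveSpecialLinearGroup (Fin 2) F)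
    (hx : orderOf x = 2) :
    ∃ c : ProjectiveSpecialLinearGroup (Fin 2) F, c * x * c⁻¹ = toPSL2 F wS := by
  have hx1 : x ≠ 1 := by
    rintro rfl
    rw [orderOf_one] at hx
    omega
  have hxx : x * x = 1 := by
    have := pow_orderOf_eq_one x
    rwa [hx, pow_two] at this
  have ht := trsq_of_sq_eq_one x hxx hx1
  obtain ⟨g, rfl⟩ := toPSL2_surjective x
  rw [trsq_toPSL2] at ht
  have ht0 : (g : Matrix (Fin 2) (Fin 2) F).trace = 0 := pow_eq_zero_iff (two_ne_zero) |>.1 ht
  have h4 : ((wS : SpecialLinearGroup (Fin 2) F) : Matrix (Fin 2) (Fin 2) F).trace ^ 2 ≠ 4 := by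
    rw [wS_trace, four_eq_one h3]
    intro h
    have : (0 : F) = 1 := by linear_combination h
    exact zero_ne_one this
  obtain ⟨c, hc⟩ := isConj_iff.1 (isConj_of_trace_eq wS g (by rw [ht0, wS_trace]) h4)
  refine ⟨(toPSL2 F c)⁻¹, ?_⟩
  rw [← hc, map_mul, map_mul, map_inv]
  group

/-- the solubilizer of an involution -/
theorem card_sol_invol3 (p : ℕ) (hp : p.Prime) (hodd : Odd p) (hF : Fintype.card F = 3 ^ p)
    (x : ProjectiveSpecialLinearGroup (Fin 2) F) (hx : orderOf x = 2) :
    Nat.card {y : ProjectiveSpecialLinearGroup (Fin 2) F //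
      Group.IsSolvable ↥(Subgroup.closure ({x, y} : Set (ProjectiveSpecialLinearGroup (Fin 2) F)))} =
      3 ^ p * (3 ^ p + 1) := by
  obtain ⟨h3, hq27, hmod8, hmod5, hnsq, hcen⟩ := basic_facts3 p hp hodd hF
  have hq4 : 4 ≤ Fintype.card F := by omega
  have h2 : (2 : F) ≠ 0 := two_ne_zero3 h3
  obtain ⟨c, hc⟩ := exists_conj_wS_of_order_two h3 x hx
  rw [← card_sol_conj c x, hc]
  set w := toPSL2 F (wS : SpecialLinearGroup (Fin 2) F) with hw
  have hw1 : w ≠ 1 := wS_ne_one
  have hww : w * w = 1 := wS_mul_self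
  have hwi : w⁻¹ = w := inv_eq_of_mul_eq_one_right hww
  have hws : ¬ IsScalar2 ((wS : SpecialLinearGroup (Fin 2) F) : Matrix (Fin 2) (Fin 2) F) := wS_not_scalar
  have hwt : ((wS : SpecialLinearGroup (Fin 2) F) : Matrix (Fin 2) (Fin 2) F).trace ^ 2 ≠ 4 := by
    rw [wS_trace, four_eq_one h3]
    intro h
    have : (0 : F) = 1 := by linear_combination h
    exact zero_ne_one this
  obtain ⟨-, hcardN, -, hinvol⟩ := torus_normalizer (wS : SpecialLinearGroup (Fin 2) F) hws hwt
  set T := Tor (wS : SpecialLinearGroup (Fin 2) F) with hT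
  set N := Subgroup.normalizer ((T : Subgroup (ProjectiveSpecialLinearGroup (Fin 2) F)) :
      Set (ProjectiveSpecialLinearGroup (Fin 2) F)) with hN
  have hwT : w ∈ T := self_mem_Tor wS
  have hTN : T ≤ N := Subgroup.le_normalizer
  set A := Aset F with hA
  set B : Set (ProjectiveSpecialLinearGroup (Fin 2) F) := (fun y => w * y) '' A with hB
  set C := Cset F with hC
  have hmemA : ∀ y, y ∈ A ↔ trsq y = 0 := fun y => Iff.rfl
  have hmemB : ∀ y, y ∈ B ↔ trsq (w * y) = 0 := by
    intro y
    rw [hB, Set.image_mul_left, hwi]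
    rfl
  have hmemC : ∀ y, y ∈ C ↔ trsq y = 1 ∧ trsq (w * y) = 1 := fun y => Iff.rfl
  -- the only involution of `T` is `w`
  have hTA : ∀ y ∈ T, trsq y = 0 → y = w := by
    intro y hyT hy0
    obtain ⟨Y, rfl⟩ := toPSL2_surjective y
    obtain ⟨e1, e2⟩ := (mem_Tor_wS_iff Y).1 hyT
    rw [trsq_toPSL2] at hy0
    have ht0 : (Y : Matrix (Fin 2) (Fin 2) F).trace = 0 := pow_eq_zero_iff (two_ne_zero) |>.1 hy0
    rw [Matrix.trace_fin_two, ← e1] at ht0
    have h00 : (Y : Matrix (Fin 2) (Fin 2) F) 0 0 = 0 := by
      have : 2 * (Y : Matrix (Fin 2) (Fin 2) F) 0 0 = 0 := by linear_combination ht0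
      exact (mul_eq_zero.1 this).resolve_left h2
    have h11 : (Y : Matrix (Fin 2) (Fin 2) F) 1 1 = 0 := by rw [← e1]; exact h00
    have h5 : toPSL2 F (wS⁻¹ * Y) = 1 := by
      rw [toPSL2_eq_one_iff']
      obtain ⟨w00, w01, w10, w11⟩ := wS_entries (F := F)
      rw [Matrix.SpecialLinearGroup.coe_mul]
      refine ⟨?_, ?_, ?_⟩ <;> rw [Matrix.mul_apply, Fin.sum_univ_two] <;>
        try rw [Matrix.mul_apply, Fin.sum_univ_two]
      · rw [inv_apply_00, inv_apply_01, w11, w01, h11]; ring
      · rw [inv_apply_10, inv_apply_11, w10, w00, h00]; ring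
      · rw [inv_apply_00, inv_apply_01, inv_apply_10, inv_apply_11, w00, w01, w10, w11, e2]; ring
    rw [map_mul, map_inv] at h5
    exact (inv_mul_eq_one.1 h5).symm
  -- the description of `A ∩ B`
  have hAB : A ∩ B = (N : Set (ProjectiveSpecialLinearGroup (Fin 2) F)) \ (T : Set _) := by
    ext y
    constructor
    · rintro ⟨hyA, hyB⟩
      rw [hmemA] at hyA
      rw [hmemB] at hyB
      have hyy := sq_eq_one_of_trsq_zero y hyA
      have hwy := sq_eq_one_of_trsq_zero _ hyB
      have hyi : y⁻¹ = y := inv_eq_of_mul_eq_one_right hyy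
      have hcomm : y * w = w * y := by
        have h5 : w * y = (w * y)⁻¹ := (inv_eq_of_mul_eq_one_right hwy).symm
        rw [_root_.mul_inv_rev, hyi, hwi] at h5
        exact h5.symm
      constructor
      · have hle := le_normalizer_Tor_of_normal
          (Subgroup.centralizer ({w} : Set (ProjectiveSpecialLinearGroup (Fin 2) F))) wS hws (by
            intro m hm
            rw [Subgroup.mem_centralizer_singleton_iff] at hm
            rw [hm, mul_inv_cancel_right]
            exact Subgroup.mem_zpowers _)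
        apply hle
        rw [Subgroup.mem_centralizer_singleton_iff]
        exact hcomm
      · intro hyT
        have := hTA y hyT hyA
        rw [this, hww, trsq_one h3] at hyB
        exact one_ne_zero hyB
    · rintro ⟨hyN, hyT⟩
      have hy1 : y ≠ 1 := fun h => hyT (by rw [h]; exact T.one_mem)
      have hyy := (hinvol y hyN hyT).1
      have hwyN : w * y ∈ N := N.mul_mem (hTN hwT) hyN
      have hwyT : w * y ∉ T := by
        intro h
        apply hyT
        have : y = w⁻¹ * (w * y) := by group
        rw [this]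
        exact T.mul_mem (T.inv_mem hwT) h
      have hwy1 : w * y ≠ 1 := fun h => hwyT (by rw [h]; exact T.one_mem)
      have hwyy := (hinvol _ hwyN hwyT).1
      exact ⟨(hmemA y).2 (trsq_of_sq_eq_one y hyy hy1), (hmemB y).2 (trsq_of_sq_eq_one _ hwyy hwy1)⟩
  -- the intersection of `A ∪ B` with `T`
  have hABT : (A ∪ B) ∩ (T : Set (ProjectiveSpecialLinearGroup (Fin 2) F)) = {w, 1} := by
    ext y
    constructor
    · rintro ⟨hy | hy, hyT⟩
      · left
        exact hTA y hyT ((hmemA y).1 hy)
      · right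
        rw [Set.mem_singleton_iff]
        have h5 := hTA (w * y) (T.mul_mem hwT hyT) ((hmemB y).1 hy)
        have : y = w⁻¹ * (w * y) := by group
        rw [this, h5, inv_mul_cancel]
    · rintro (rfl | hy)
      · refine ⟨Or.inl ?_, hwT⟩
        rw [hmemA, hw, trsq_toPSL2, wS_trace]
        ring
      · rw [Set.mem_singleton_iff] at hy
        subst hy
        refine ⟨Or.inr ?_, T.one_mem⟩
        rw [hmemB, mul_one, hw, trsq_toPSL2, wS_trace]
        ring
  -- `C` is disjoint from the rest
  have hCdisj : Disjoint ((A ∪ B) ∪ (T : Set (ProjectiveSpecialLinearGroup (Fin 2) F))) C := by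
    rw [Set.disjoint_left]
    rintro y hy ⟨hy1, hy2⟩
    rcases hy with (hy | hy) | hy
    · rw [hmemA] at hy
      rw [hy] at hy1
      exact zero_ne_one hy1
    · rw [hmemB] at hy
      rw [hy] at hy2
      exact zero_ne_one hy2
    · obtain ⟨Y, rfl⟩ := toPSL2_surjective y
      obtain ⟨e1, e2⟩ := (mem_Tor_wS_iff Y).1 hy
      rw [trsq_toPSL2, Matrix.trace_fin_two] at hy1
      rw [trsq_wS_mul] at hy2
      have hd := det_eq Y
      rw [← e1] at hy1
      rw [← e1, e2] at hd
      rw [e2] at hy2
      have : (1 : F) = 0 := by linear_combination (-1 : F) * hy1 - hy2 + 4 * hd + (1 : F) * h3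
      exact one_ne_zero this
  have hiff : ∀ y : ProjectiveSpecialLinearGroup (Fin 2) F,
      Group.IsSolvable ↥(Subgroup.closure ({w, y} : Set (ProjectiveSpecialLinearGroup (Fin 2) F))) ↔
      y ∈ ((A ∪ B) ∪ (T : Set (ProjectiveSpecialLinearGroup (Fin 2) F))) ∪ C := by
    intro y
    constructor
    · intro hsol
      set H := Subgroup.closure ({w, y} : Set (ProjectiveSpecialLinearGroup (Fin 2) F)) with hH
      have hwH : w ∈ H := Subgroup.subset_closure (Set.mem_insert _ _)
      have hyH : y ∈ H := Subgroup.subset_closure (Set.mem_insert_of_mem _ rfl)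
      have hHtop : H ≠ ⊤ := ne_top_of_isSolvable hq4 H hsol
      have hHbot : H ≠ ⊥ := by
        intro h
        rw [h, Subgroup.mem_bot] at hwH
        exact hw1 hwH
      rcases subgroup_le_cases3 p hp hodd hF H hHtop hHbot with ⟨c', hc'⟩ | ⟨g₁, hg₁, ht₁, -, hle⟩ | hall
      · exfalso
        apply hw1
        apply eq_one_of_mul_self_of_odd (MulAut.conj c' • Bbar F) _ w (hc' hwH) hww
        rw [card_conj_smul]
        exact card_Bbar_odd hcen hmod8
      · obtain ⟨-, -, -, hinv₁⟩ := torus_normalizer g₁ hg₁ ht₁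
        by_cases hyT : y ∈ Tor g₁
        · by_cases hwT₁ : w ∈ Tor g₁
          · left; right
            have hTT : Tor (wS : SpecialLinearGroup (Fin 2) F) = Tor g₁ := Tor_eq_of_mem g₁ hg₁ wS hwT₁ hws
            show y ∈ T
            rw [hT, hTT]
            exact hyT
          · have h5 := (hinv₁ w (hle hwH) hwT₁).2 y hyT
            rw [hwi] at h5
            have hwyy : (w * y) * (w * y) = 1 := by
              have : (w * y) * (w * y) = (w * y * w) * y := by group
              rw [this, h5, inv_mul_cancel]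
            by_cases hwy1 : w * y = 1
            · left; right
              have : y = w⁻¹ * (w * y) := by group
              rw [this, hwy1, mul_one, hwi]
              exact hwT
            · left; left; right
              exact (hmemB y).2 (trsq_of_sq_eq_one _ hwyy hwy1)
        · left; left; left
          have hyy := (hinv₁ y (hle hyH) hyT).1
          have hy1 : y ≠ 1 := fun h => hyT (by rw [h]; exact (Tor g₁).one_mem)
          exact (hmemA y).2 (trsq_of_sq_eq_one y hyy hy1)
      · have e1 := trsq_of_sq_or_cube h3 _ (hall _ hyH)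
        have e2 := trsq_of_sq_or_cube h3 _ (hall _ (H.mul_mem hwH hyH))
        rcases e1 with e1 | e1
        · left; left; left
          exact (hmemA y).2 e1
        · rcases e2 with e2 | e2
          · left; left; right
            exact (hmemB y).2 e2
          · right
            exact (hmemC y).2 ⟨e1, e2⟩
    · rintro (((hy | hy) | hy) | hy)
      · exact isSolvable_closure_pair w y hww (sq_eq_one_of_trsq_zero y ((hmemA y).1 hy))
      · have hwy := sq_eq_one_of_trsq_zero _ ((hmemB y).1 hy)
        apply isSolvable_of_le _ (isSolvable_closure_pair w (w * y) hww hwy)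
        rw [Subgroup.closure_le]
        intro t ht
        rcases ht with ht | ht
        · rw [ht]
          exact Subgroup.subset_closure (Set.mem_insert _ _)
        · have h5 : w⁻¹ * (w * y) ∈ Subgroup.closure
              ({w, w * y} : Set (ProjectiveSpecialLinearGroup (Fin 2) F)) := by
            exact Subgroup.mul_mem _ (Subgroup.inv_mem _ (Subgroup.subset_closure (Set.mem_insert _ _)))
              (Subgroup.subset_closure (Set.mem_insert_of_mem _ rfl))
          have e : w⁻¹ * (w * y) = y := by group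
          rw [e] at h5
          rw [Set.mem_singleton_iff.1 ht]
          exact h5
      · exact isSolvable_closure_of_mem (isSolvable_normalizer_Tor wS hws hwt) (hTN hwT) (hTN hy)
      · obtain ⟨hy1, hy2⟩ := (hmemC y).1 hy
        exact isSolvable_closure_of_A4_rel w y hww (cube_eq_one_of_trsq_one y hy1)
          (cube_eq_one_of_trsq_one _ hy2)
  rw [Nat.card_congr (Equiv.subtypeEquivRight hiff)]
  -- the count
  have hcA : A.ncard * 2 = Fintype.card F * (Fintype.card F - 1) := card_Aset hnsq hcen
  have hcB : B.ncard = A.ncard := by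
    rw [hB, Set.ncard_image_of_injective _ (mul_right_injective w)]
  have hcC : C.ncard = 2 * (Fintype.card F + 1) := card_Cset h3 hnsq hcen
  have e1 := Set.ncard_union_add_ncard_inter A B
  have e2 := Set.ncard_union_add_ncard_inter (A ∪ B) (T : Set (ProjectiveSpecialLinearGroup (Fin 2) F))
  rw [hAB] at e1
  rw [hABT] at e2
  have e3 : ((N : Set (ProjectiveSpecialLinearGroup (Fin 2) F)) \
      (T : Set (ProjectiveSpecialLinearGroup (Fin 2) F))).ncard =
      (N : Set (ProjectiveSpecialLinearGroup (Fin 2) F)).ncard -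
        (T : Set (ProjectiveSpecialLinearGroup (Fin 2) F)).ncard :=
    Set.ncard_sdiff (by exact hTN)
  have c3 : (N : Set (ProjectiveSpecialLinearGroup (Fin 2) F)).ncard = Nat.card N := rfl
  have c4 : (T : Set (ProjectiveSpecialLinearGroup (Fin 2) F)).ncard = Nat.card T := rfl
  have e4 : ({w, 1} : Set (ProjectiveSpecialLinearGroup (Fin 2) F)).ncard = 2 := Set.ncard_pair hw1
  rw [e3, c3, c4, hcardN, hcB] at e1
  rw [e4, c4] at e2
  show Set.ncard (((A ∪ B) ∪ (T : Set (ProjectiveSpecialLinearGroup (Fin 2) F))) ∪ C) = _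
  rw [Set.ncard_union_eq hCdisj, hcC, ← hF]
  obtain ⟨k, hk⟩ : ∃ k, Fintype.card F = k + 1 := ⟨Fintype.card F - 1, by omega⟩
  rw [hk] at hcA ⊢
  have e5 : k + 1 - 1 = k := by omega
  rw [e5] at hcA
  have e6 : (k + 1) * (k + 1 + 1) = (k + 1) * k + 2 * (k + 1) := by ring
  rw [e6, ← hcA]
  have hTpos : 0 < Nat.card T := Nat.card_pos
  omega

end Cfsg.Agent.Lib.Helper9.Sl3
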