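import Mathlib
import Cfsg.Prelude.Def_Classical
import Cfsg.Agent.Lib.Helper9.Sp63Ord
import Cfsg.Agent.Lib.Helper22.Sp63Pow

/-!
# The prime graph of `PSp(6,3)`  (helper9; L side of S3664 assembled)

`psp63_graph` : vertices `2, 3, 5, 7, 13`, edges `2-3, 2-5, 2-7, 3-5` (from helper22's `Sp63Pow` and helper9's `Sp63Ord`), and
`row_of_hside` : the conclusion of S3664 from any family of groups of unbounded order with that prime graph.
-/

set_option autoImplicit false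

namespace Cfsg.Agent.Lib.Helper9.Sp63Graph

variable {F : Type*} [Field F] [Fintype F]

/-- the prime graph of `PSp(6,3)` -/
theorem psp63_graph (hF : Fintype.card F = 3) :
    (∀ p : ℕ, p.Prime → (p ∣ Nat.card (Cfsg.PSp 3 F) ↔ p ∈ ({2, 3, 5, 7, 13} : Finset ℕ))) ∧
    (∀ p q : ℕ, p.Prime → q.Prime → p ≠ q →
      ((∃ g : Cfsg.PSp 3 F, orderOf g = p * q) ↔ p * q ∈ ({6, 10, 14, 15} : Finset ℕ))) := by
  refine ⟨fun p hp => Cfsg.Agent.Lib.Helper9.Sp63Ord.prime_dvd_card_iff hF p hp, ?_⟩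
  intro p q hp hq hpq
  constructor
  · intro h
    have h1 := Cfsg.Agent.Lib.Helper22.Sp63Pow.mul_mem_of_orderOf hF p q hp hq hpq h
    simp only [Finset.mem_insert, Finset.mem_singleton] at h1 ⊢
    tauto
  · intro h
    apply Cfsg.Agent.Lib.Helper9.Sp63Ord.exists_orderOf hF (p * q)
    simp only [Finset.mem_insert, Finset.mem_singleton] at h ⊢
    tauto

/-- witnesses in the shape of helper3's skeleton -/
theorem psp63_wit (hF : Fintype.card F = 3) :
    ∀ n ∈ ({6, 10, 13, 14, 15} : Finset ℕ), ∃ x : Cfsg.PSp 3 F, orderOf x = n := by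
  intro n hn
  simp only [Finset.mem_insert, Finset.mem_singleton] at hn
  rcases hn with rfl | rfl | rfl | rfl | rfl
  · exact Cfsg.Agent.Lib.Helper9.Sp63Ord.exists_orderOf hF 6 (by simp)
  · exact Cfsg.Agent.Lib.Helper9.Sp63Ord.exists_orderOf hF 10 (by simp)
  · exact Cfsg.Agent.Lib.Helper9.Sp63Ord.exists_orderOf_prime hF 13 (by simp)
  · exact Cfsg.Agent.Lib.Helper9.Sp63Ord.exists_orderOf hF 14 (by simp)
  · exact Cfsg.Agent.Lib.Helper9.Sp63Ord.exists_orderOf hF 15 (by simp)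

/-- exponent bounds in the shape of helper3's skeleton -/
theorem psp63_upper (hF : Fintype.card F = 3) (x : Cfsg.PSp 3 F) :
    ∃ n ∈ ({6, 7, 8, 9, 12, 13, 14, 15, 18, 20, 24, 30, 36} : Finset ℕ), x ^ n = 1 := by
  obtain ⟨k, hk, h⟩ := Cfsg.Agent.Lib.Helper22.Sp63Pow.psp6_pow hF x
  refine ⟨k, ?_, h⟩
  simp only [Finset.mem_insert, Finset.mem_singleton] at hk ⊢
  tauto

/-- **S3664 from the H side**: any group with vertices `2, 3, 5, 7, 13` and edges `6, 10, 14, 15` has the prime graph of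
`PSp(6,3)` -/
theorem row_of_hside (hF : Fintype.card F = 3) (N : ℕ)
    (hH : ∃ (H : Type) (_ : Group H) (_ : Finite H), N < Nat.card H ∧
      (∀ p : ℕ, p.Prime → (p ∣ Nat.card H ↔ p ∈ ({2, 3, 5, 7, 13} : Finset ℕ))) ∧
      (∀ p q : ℕ, p.Prime → q.Prime → p ≠ q →
        ((∃ g : H, orderOf g = p * q) ↔ p * q ∈ ({6, 10, 14, 15} : Finset ℕ)))) :
    ∃ (H : Type) (_ : Group H) (_ : Finite H), N < Nat.card H ∧
      ((∀ p : ℕ, p.Prime → (p ∣ Nat.card (Cfsg.PSp 3 F) ↔ p ∣ Nat.card H)) ∧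
      (∀ p q : ℕ, p.Prime → q.Prime → p ≠ q →
        ((∃ g : (Cfsg.PSp 3 F), orderOf g = p * q) ↔ (∃ g : H, orderOf g = p * q)))) := by
  obtain ⟨H, iG, iF, hN, hv, he⟩ := hH
  obtain ⟨lv, le⟩ := psp63_graph hF
  refine ⟨H, iG, iF, hN, ?_, ?_⟩
  · intro p hp
    rw [lv p hp, hv p hp]
  · intro p q hp hq hpq
    rw [le p q hp hq hpq, he p q hp hq hpq]

end Cfsg.Agent.Lib.Helper9.Sp63Graph
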