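import Mathlib
import Cfsg.Agent.Lib.Helper9.SpGenD
import Cfsg.Agent.Lib.Helper8.ChevTg2

/-!
# Two-generation of the symplectic group: fields with more than two elements
-/

set_option autoImplicit false

namespace Cfsg.Agent.Lib.Helper9.SpGen

open Matrix Cfsg.Agent.Lib.Helper6

section big
variable {n : ℕ} {F : Type*} [Field F]

local notation "ff" => Cfsg.sympForm (n + 2) F
local notation "VV" => (Fin (n + 2) ⊕ Fin (n + 2) → F)
local notation "GG" => Matrix.symplecticGroup (Fin (n + 2)) F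

theorem zero_ne_one_fin : (0 : Fin (n + 2)) ≠ 1 := by
  intro h
  have := congrArg Fin.val h
  simp at this

theorem form_e0_f1 : ff (e 0 : VV) (f 1 : VV) = 0 := by
  rw [form_e_left, f_inr, if_neg zero_ne_one_fin, neg_zero]

theorem form_e1_f1 : ff (e 1 : VV) (f 1 : VV) = -1 := by
  rw [form_e_left, f_inr, if_pos rfl]

theorem form_e1_e0 : ff (e 1 : VV) (e 0 : VV) = 0 := by
  rw [form_e_left, e_inr, neg_zero]

/-- the one-parameter group of short root elements -/
def xs (n : ℕ) (F : Type*) [Field F] (t : F) : Matrix.symplecticGroup (Fin (n + 2)) F :=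
  S (e 0 : Fin (n + 2) ⊕ Fin (n + 2) → F) (t • (f 1 : Fin (n + 2) ⊕ Fin (n + 2) → F))

theorem form_e0_tf1 (t : F) : ff (e 0 : VV) (t • (f 1 : VV)) = 0 := by
  rw [sympForm_smul_right, form_e0_f1, mul_zero]

theorem xs_add (t s : F) : xs n F t * xs n F s = xs n F (t + s) := by
  unfold xs
  rw [S_add_right (form_e0_tf1 t) (form_e0_tf1 s), add_smul]
  rw [sympForm_smul_left, sympForm_smul_right, sympForm_self, mul_zero, mul_zero]

theorem act_xs_e1 (t : F) : act (xs n F t) (e 1 : VV) = (e 1 : VV) + (-t) • (e 0 : VV) := by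
  unfold xs
  rw [act_S (form_e0_tf1 t), sympForm_smul_right, form_e1_f1, form_e1_e0, zero_smul, add_zero,
    mul_neg, mul_one]

/-- torus parameters: `z` at position `i`, trivial elsewhere -/
def dd (n : ℕ) {F : Type*} [Field F] (i : Fin (n + 2)) (z : Fˣ) : Fin (n + 2) → Fˣ :=
  Function.update 1 i z

theorem dd_same (i : Fin (n + 2)) (z : Fˣ) : dd n i z i = z := by
  unfold dd
  rw [Function.update_self]

theorem dd_ne {i j : Fin (n + 2)} (h : j ≠ i) (z : Fˣ) : dd n i z j = 1 := by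
  unfold dd
  rw [Function.update_of_ne h, Pi.one_apply]

theorem rot_dd0 (z : Fˣ) : rot (dd n 0 z) = dd n 1 z := by
  funext i
  refine Fin.cases ?_ ?_ i
  · simp only [rot, Fin.cases_zero]
    rw [dd_ne (Fin.last_pos.ne') z, dd_ne zero_ne_one_fin z, inv_one]
  · intro j
    simp only [rot, Fin.cases_succ]
    by_cases hj : j = 0
    · rw [hj, Fin.castSucc_zero, dd_same, Fin.succ_zero_eq_one, dd_same]
    · have h1 : j.castSucc ≠ 0 := by
        intro h
        apply hj
        rwa [Fin.castSucc_eq_zero_iff] at h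
      have h2 : j.succ ≠ 1 := by
        intro h
        apply hj
        rw [← Fin.succ_zero_eq_one, Fin.succ_inj] at h
        exact h
      rw [dd_ne h1, dd_ne h2]

theorem dd_pow (i : Fin (n + 2)) (z : Fˣ) (k : ℕ) : (dd n i z) ^ k = dd n i (z ^ k) := by
  funext j
  rw [Pi.pow_apply]
  by_cases h : j = i
  · rw [h, dd_same, dd_same]
  · rw [dd_ne h, dd_ne h, one_pow]

theorem dd_one (i : Fin (n + 2)) : dd n i (1 : Fˣ) = 1 := by
  funext j
  by_cases h : j = i
  · rw [h, dd_same, Pi.one_apply]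
  · rw [dd_ne h, Pi.one_apply]

variable [Fintype F]

theorem main_big (hq : 2 < Fintype.card F) :
    ∃ a b : Matrix.symplecticGroup (Fin (n + 2)) F,
      Subgroup.closure ({a, b} : Set (Matrix.symplecticGroup (Fin (n + 2)) F)) = ⊤ := by
  classical
  -- a generator of the multiplicative group
  obtain ⟨z, hz⟩ := IsCyclic.exists_generator (α := Fˣ)
  have hcardU : Fintype.card Fˣ = Fintype.card F - 1 := Fintype.card_units F
  have hz1 : z ≠ 1 := by
    intro h
    have hsub : ∀ u : Fˣ, u = 1 := by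
      intro u
      have := hz u
      rw [h, Subgroup.zpowers_one_eq_bot, Subgroup.mem_bot] at this
      exact this
    have : Fintype.card Fˣ ≤ 1 := Fintype.card_le_one_iff.mpr (fun a b => by rw [hsub a, hsub b])
    omega
  have hzF1 : (z : F) ≠ 1 := by
    intro h
    apply hz1
    exact Units.ext h
  have hzinvF1 : ((z⁻¹ : Fˣ) : F) ≠ 1 := by
    intro h
    apply hz1
    have : z⁻¹ = 1 := Units.ext h
    rwa [inv_eq_one] at this
  have hgen : ∀ t : F, t ≠ 0 → ∃ j : ℕ, t = (z : F) ^ j := by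
    intro t ht
    have := hz (Units.mk0 t ht)
    rw [← mem_powers_iff_mem_zpowers] at this
    obtain ⟨j, hj⟩ := this
    refine ⟨j, ?_⟩
    have := congrArg Units.val hj
    rw [Units.val_pow_eq_pow_val, Units.val_mk0] at this
    exact this.symm
  set c := cox (n + 1) F with hc
  set h₁ : GG := tor (dd n 1 z) with hh₁
  set h₀ : GG := tor (dd n 0 z) with hh₀
  set u : GG := T (e 0 : VV) 1 with hu
  refine ⟨h₁ * u, c * xs n F 1, ?_⟩
  set L := Subgroup.closure ({h₁ * u, c * xs n F 1} : Set GG) with hL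
  have haL : h₁ * u ∈ L := Subgroup.subset_closure (by simp)
  have hbL : c * xs n F 1 ∈ L := Subgroup.subset_closure (by simp)
  -- basic actions
  have a1 : act h₁ (e 0 : VV) = (e 0 : VV) := by
    rw [hh₁, act_tor_e, dd_ne zero_ne_one_fin, Units.val_one, one_smul]
  have a2 : act h₁ (f 1 : VV) = ((z⁻¹ : Fˣ) : F) • (f 1 : VV) := by
    rw [hh₁, act_tor_f, dd_same]
  have a3 : act h₁ (e 1 : VV) = (z : F) • (e 1 : VV) := by
    rw [hh₁, act_tor_e, dd_same]
  have a4 : act c (e 0 : VV) = (e 1 : VV) := by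
    have := act_cox_e_castSucc (F := F) (0 : Fin (n + 1))
    rw [Fin.castSucc_zero, Fin.succ_zero_eq_one] at this
    exact this
  set y : VV := act c (f 1 : VV) with hy
  have y1 : y (Sum.inl 1) = 0 := by
    have := act_cox_inl_succ (F := F) (f 1 : VV) (0 : Fin (n + 1))
    rw [Fin.succ_zero_eq_one] at this
    rw [hy, hc, this, f_inl]
  have y2 : y (Sum.inr 1) = 0 := by
    have := act_cox_inr_succ (F := F) (f 1 : VV) (0 : Fin (n + 1))
    rw [Fin.succ_zero_eq_one, Fin.castSucc_zero] at this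
    rw [hy, hc, this, f_inr, if_neg zero_ne_one_fin]
  have a5 : act h₁ y = y := by
    rw [hh₁]
    apply act_tor_fix
    intro i hi
    have : i = 1 := by
      by_contra hne
      exact hi (dd_ne hne z)
    rw [this]
    exact ⟨y1, y2⟩
  have a6 : ff (e 1 : VV) y = 0 := by
    rw [form_e_left, y2, neg_zero]
  -- commutation of `h₁` and `u`
  have hcomm_hu : Commute h₁ u := by
    have : h₁ * u * h₁⁻¹ = u := by rw [hu, conj_T, a1]
    exact (mul_inv_eq_iff_eq_mul.mp this)
  have hq1 : 1 ≤ Fintype.card F := by omega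
  have hN : h₁ ^ (Fintype.card F - 1) = 1 := by
    rw [hh₁, tor_pow, dd_pow, ← hcardU, pow_card_eq_one, dd_one, tor_one]
  have hM : u ^ (Fintype.card F) = 1 := by
    rw [hu, T_pow, Nat.cast_card_eq_zero, zero_mul, T_zero]
  have hco : Nat.Coprime (Fintype.card F - 1) (Fintype.card F) := by
    have : Fintype.card F = (Fintype.card F - 1) + 1 := by omega
    rw [this, Nat.add_sub_cancel]
    exact (Nat.coprime_self_add_right.mpr (Nat.coprime_one_right _))
  obtain ⟨hh₁L, huL⟩ := mem_of_comm_coprime h₁ u hcomm_hu _ _ hN hM hco L haL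
  -- the two-generation trick
  have hx : ∀ t : F, h₁ * xs n F t * h₁⁻¹ = xs n F (((z⁻¹ : Fˣ) : F) * t) := by
    intro t
    unfold xs
    rw [conj_S, a1, act_smul, a2, smul_smul, mul_comm]
  have hx' : ∀ t : F, h₁ * (c * xs n F t * c⁻¹) * h₁⁻¹ = c * xs n F ((z : F) * t) * c⁻¹ := by
    intro t
    unfold xs
    rw [conj_S, conj_S, conj_S, a4, a3, act_smul, act_smul, ← hy, act_smul, a5]
    have h0 : ff (e 1 : VV) (t • y) = 0 := by rw [sympForm_smul_right, a6, mul_zero]
    rw [S_smul_comm h0, smul_smul]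
  have hcomm : h₁ * (c * h₁ * c⁻¹) = (c * h₁ * c⁻¹) * h₁ := by
    rw [hh₁, hc, conj_tor, tor_comm]
  obtain ⟨hcL, hxL, -⟩ := Cfsg.Agent.Lib.Helper8.Chev.two_gen_trick
    (x := xs n F) (x' := fun t => c * xs n F t * c⁻¹) (h := h₁) (c := c)
    (α := ((z⁻¹ : Fˣ) : F)) (μ := (z : F))
    xs_add (fun t s => by
      show c * xs n F t * c⁻¹ * (c * xs n F s * c⁻¹) = c * xs n F (t + s) * c⁻¹
      rw [← xs_add]
      group)
    (fun t => rfl) hx hx' hcomm hzinvF1 hzF1 hgen L hh₁L hbL
  -- `h₀ ∈ L`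
  have hh₀L : h₀ ∈ L := by
    have : c * h₀ * c⁻¹ = h₁ := by rw [hh₀, hh₁, hc, conj_tor, rot_dd0]
    have e1 : h₀ = c⁻¹ * h₁ * c := by
      rw [← this]
      group
    rw [e1]
    exact L.mul_mem (L.mul_mem (L.inv_mem hcL) hh₁L) hcL
  -- all transvections along `e 0`
  have hsq : ∀ t : F, T (e 0 : VV) (t ^ 2) ∈ L := by
    intro t
    by_cases ht : t = 0
    · rw [ht, zero_pow (by norm_num), T_zero]
      exact L.one_mem
    · obtain ⟨j, hj⟩ := hgen t ht
      have e1 : h₀ ^ j * u * (h₀ ^ j)⁻¹ = T (e 0 : VV) (t ^ 2) := by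
        rw [hu, conj_T, hh₀, tor_pow, dd_pow, act_tor_e, dd_same, T_smul, mul_one,
          Units.val_pow_eq_pow_val, ← hj]
      rw [← e1]
      exact L.mul_mem (L.mul_mem (L.pow_mem hh₀L j) huL) (L.inv_mem (L.pow_mem hh₀L j))
  have hT : ∀ t : F, T (e 0 : VV) t ∈ L := by
    intro t
    by_cases h2 : ringChar F = 2
    · obtain ⟨r, hr⟩ := FiniteField.isSquare_of_char_two h2 t
      rw [hr, ← pow_two]
      exact hsq r
    · have h2' : (2 : F) ≠ 0 := Ring.two_ne_zero h2
      have e1 : t = ((t + 1) / 2) ^ 2 + (-(((t - 1) / 2) ^ 2)) := by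
        field_simp
        ring
      rw [e1, ← T_add, ← T_inv]
      exact L.mul_mem (hsq _) (L.inv_mem (hsq _))
  exact final L hcL hT (xs n F 1) (hxL 1) (-1) (neg_ne_zero.mpr one_ne_zero) (act_xs_e1 1)

end big

end Cfsg.Agent.Lib.Helper9.SpGen
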