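import Mathlib
import Cfsg.Agent.Lib.Helper9.SpGenD

/-!
# Two-generation of the symplectic group: the field with two elements
-/

set_option autoImplicit false

namespace Cfsg.Agent.Lib.Helper9.SpGen

open Matrix Cfsg.Agent.Lib.Helper6

section plane
variable {m : ℕ} {F : Type*} [Field F]

local notation "ff" => Cfsg.sympForm m F
local notation "VV" => (Fin m ⊕ Fin m → F)
local notation "GG" => Matrix.symplecticGroup (Fin m) F

/-- an element of order three (in characteristic two) acting on one hyperbolic plane -/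
def uu (F : Type*) [Field F] (i : Fin m) : Matrix.symplecticGroup (Fin m) F :=
  T (e i : Fin m ⊕ Fin m → F) 1 * T (f i : Fin m ⊕ Fin m → F) 1

theorem form_ei_fi (i : Fin m) : ff (e i : VV) (f i : VV) = -1 := by
  rw [form_e_left, f_inr, if_pos rfl]

theorem form_fi_ei (i : Fin m) : ff (f i : VV) (e i : VV) = 1 := by
  rw [form_f_left, e_inl, if_pos rfl]

theorem act_uu_f (i : Fin m) : act (uu F i) (f i : VV) = (f i : VV) + (e i : VV) := by
  unfold uu
  have inner : act (T (f i : VV) 1) (f i : VV) = (f i : VV) := by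
    rw [act_T, sympForm_self, mul_zero, zero_smul, add_zero]
  rw [act_mul, inner, act_T, form_fi_ei, mul_one, one_smul]

theorem act_uu_e (i : Fin m) : act (uu F i) (e i : VV) = - (f i : VV) := by
  unfold uu
  have inner : act (T (f i : VV) 1) (e i : VV) = (e i : VV) + (-1 : F) • (f i : VV) := by
    rw [act_T, form_ei_fi, mul_neg, mul_one]
  rw [act_mul, inner, act_T]
  simp only [sympForm_add_left, sympForm_smul_left, sympForm_self, form_fi_ei]
  funext c
  simp only [Pi.add_apply, Pi.smul_apply, Pi.neg_apply, smul_eq_mul]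
  ring

theorem act_uu_fix (i : Fin m) (v : VV) (h1 : v (Sum.inl i) = 0) (h2 : v (Sum.inr i) = 0) :
    act (uu F i) v = v := by
  unfold uu
  have inner : act (T (f i : VV) 1) v = v := by
    rw [act_T, form_f_right, h1, neg_zero, mul_zero, zero_smul, add_zero]
  rw [act_mul, inner, act_T, form_e_right, h2, mul_zero, zero_smul, add_zero]

theorem uu_cube (h2 : (1 : F) + 1 = 0) (i : Fin m) : uu F i ^ 3 = 1 := by
  set Te : GG := T (e i : VV) 1 with hTe
  set Tf : GG := T (f i : VV) 1 with hTf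
  have he : Te * Te = 1 := by rw [hTe, T_add, h2, T_zero]
  have hf : Tf * Tf = 1 := by rw [hTf, T_add, h2, T_zero]
  have hei : Te⁻¹ = Te := inv_eq_of_mul_eq_one_right he
  have hfi : Tf⁻¹ = Tf := inv_eq_of_mul_eq_one_right hf
  have b1 : Te * Tf * Te⁻¹ = T ((f i : VV) + (e i : VV)) 1 := by
    rw [hTf, conj_T, hTe, act_T, form_fi_ei, mul_one, one_smul]
  have b2 : Tf⁻¹ * Te * Tf = T ((f i : VV) + (e i : VV)) 1 := by
    have : Tf⁻¹ * Te * Tf = Tf⁻¹ * Te * (Tf⁻¹)⁻¹ := by rw [inv_inv]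
    rw [this, hTe, conj_T, hTf, T_inv, act_T, form_ei_fi]
    congr 1
    rw [add_comm]
    congr 1
    rw [show (-1 : F) * -1 = 1 by ring, one_smul]
  have braid : Te * Tf * Te = Tf * Te * Tf := by
    have := b1.trans b2.symm
    rw [hei, hfi] at this
    exact this
  have huu : uu F i = Te * Tf := rfl
  rw [huu]
  calc (Te * Tf) ^ 3 = (Te * Tf * Te) * (Tf * Te * Tf) := by
        rw [pow_succ, pow_two]
        group
    _ = (Tf * Te * Tf) * (Tf * Te * Tf) := by rw [braid]
    _ = Tf * Te * (Tf * Tf) * Te * Tf := by group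
    _ = Tf * (Te * Te) * Tf := by
        rw [hf]
        group
    _ = 1 := by rw [he, mul_one, hf]

theorem conj_uu {n : ℕ} (F : Type*) [Field F] (g : Matrix.symplecticGroup (Fin n) F) (i j : Fin n)
    (he : act g (e i : Fin n ⊕ Fin n → F) = e j) (hf : act g (f i : Fin n ⊕ Fin n → F) = f j) :
    g * uu F i * g⁻¹ = uu F j := by
  unfold uu
  rw [← he, ← hf, ← conj_T, ← conj_T]
  group

end plane

section two
variable {n : ℕ} {F : Type*} [Field F]

local notation "ff" => Cfsg.sympForm (n + 3) F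
local notation "VV" => (Fin (n + 3) ⊕ Fin (n + 3) → F)
local notation "GG" => Matrix.symplecticGroup (Fin (n + 3)) F

theorem fin3_ne01 : (0 : Fin (n + 3)) ≠ 1 := by
  intro h
  have := congrArg Fin.val h
  simp at this

theorem fin3_ne02 : (0 : Fin (n + 3)) ≠ 2 := by
  intro h
  have := congrArg Fin.val h
  rw [Fin.val_zero, Fin.val_two] at this
  omega

theorem fin3_ne12 : (1 : Fin (n + 3)) ≠ 2 := by
  intro h
  have := congrArg Fin.val h
  rw [Fin.val_one, Fin.val_two] at this
  omega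

variable [Fintype F]

theorem main_two (hq : Fintype.card F = 2) :
    ∃ a b : Matrix.symplecticGroup (Fin (n + 3)) F,
      Subgroup.closure ({a, b} : Set (Matrix.symplecticGroup (Fin (n + 3)) F)) = ⊤ := by
  classical
  have h2 : (1 : F) + 1 = 0 := by
    have := Nat.cast_card_eq_zero F
    rw [hq] at this
    rw [← this]
    norm_num
  have h01 : ∀ t : F, t = 0 ∨ t = 1 := by
    intro t
    by_cases ht : t = 0
    · exact Or.inl ht
    · right
      have hcardU : Fintype.card Fˣ = 1 := by rw [Fintype.card_units, hq]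
      have : Units.mk0 t ht = 1 := (Fintype.card_le_one_iff.mp hcardU.le) _ _
      have := congrArg Units.val this
      rwa [Units.val_mk0, Units.val_one] at this
  set c := cox (n + 2) F with hc
  set Sg : GG := S (f 1 : VV) (e 0 : VV) with hSg
  set u₂ : GG := uu F 2 with hu₂
  set u₁ : GG := uu F 1 with hu₁
  refine ⟨u₂ * Sg, c, ?_⟩
  set L := Subgroup.closure ({u₂ * Sg, c} : Set GG) with hL
  have haL : u₂ * Sg ∈ L := Subgroup.subset_closure (by simp)
  have hcL : c ∈ L := Subgroup.subset_closure (by simp)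
  -- forms
  have g1 : ff (f 1 : VV) (e 0 : VV) = 0 := by
    rw [form_f_left, e_inl, if_neg fin3_ne01.symm]
  have g2 : ff (e 1 : VV) (e 0 : VV) = 0 := by
    rw [form_e_left, e_inr, neg_zero]
  -- `Sg` is an involution
  have hSg2 : Sg ^ 2 = 1 := by
    rw [pow_two, hSg, S_add_right g1 g1 (sympForm_self _)]
    have : (e 0 : VV) + (e 0 : VV) = 0 := by
      rw [← two_smul F, show (2 : F) = 1 + 1 by norm_num, h2, zero_smul]
    rw [this, S_zero_right]
  have hu2 : u₂ ^ 3 = 1 := uu_cube h2 2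
  have hcomm : Commute u₂ Sg := by
    have : u₂ * Sg * u₂⁻¹ = Sg := by
      rw [hSg, conj_S, hu₂, act_uu_fix 2 (f 1 : VV) (f_inl _ _) (by rw [f_inr, if_neg fin3_ne12.symm]),
        act_uu_fix 2 (e 0 : VV) (by rw [e_inl, if_neg fin3_ne02.symm]) (e_inr _ _)]
    exact mul_inv_eq_iff_eq_mul.mp this
  obtain ⟨hu₂L, hSgL⟩ := mem_of_comm_coprime u₂ Sg hcomm 3 2 hu2 hSg2 (by norm_num) L haL
  -- `u₁ ∈ L`
  have c1 : act c (e 1 : VV) = (e 2 : VV) := by
    have := act_cox_e_castSucc (F := F) (1 : Fin (n + 2))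
    rw [Fin.castSucc_one, Fin.succ_one_eq_two] at this
    exact this
  have c2 : act c (f 1 : VV) = (f 2 : VV) := by
    have := act_cox_f_castSucc (F := F) (1 : Fin (n + 2))
    rw [Fin.castSucc_one, Fin.succ_one_eq_two] at this
    exact this
  have hu₁L : u₁ ∈ L := by
    have : c * u₁ * c⁻¹ = u₂ := conj_uu F c 1 2 c1 c2
    have e1 : u₁ = c⁻¹ * u₂ * c := by
      rw [← this]
      group
    rw [e1]
    exact L.mul_mem (L.mul_mem (L.inv_mem hcL) hu₂L) hcL
  -- the conjugates of `Sg`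
  have hfix0 : act u₁ (e 0 : VV) = (e 0 : VV) :=
    act_uu_fix 1 (e 0 : VV) (by rw [e_inl, if_neg fin3_ne01.symm]) (e_inr _ _)
  have hSg₁ : S ((f 1 : VV) + (e 1 : VV)) (e 0 : VV) ∈ L := by
    have : u₁ * Sg * u₁⁻¹ = S ((f 1 : VV) + (e 1 : VV)) (e 0 : VV) := by
      rw [hSg, conj_S, hu₁, act_uu_f, hfix0]
    rw [← this]
    exact L.mul_mem (L.mul_mem hu₁L hSgL) (L.inv_mem hu₁L)
  have hSg₂ : S (e 1 : VV) (e 0 : VV) ∈ L := by
    have : u₁ * S ((f 1 : VV) + (e 1 : VV)) (e 0 : VV) * u₁⁻¹ = S (e 1 : VV) (e 0 : VV) := by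
      rw [conj_S, hu₁, act_add, act_uu_f, act_uu_e, hfix0]
      congr 1
      abel
    rw [← this]
    exact L.mul_mem (L.mul_mem hu₁L hSg₁) (L.inv_mem hu₁L)
  have hTm : T (e 0 : VV) (-1) ∈ L := by
    have := S_mul_left g1 g2
    rw [form_ei_fi] at this
    have e1 : T (e 0 : VV) (-1) = S (f 1 : VV) (e 0 : VV) * S (e 1 : VV) (e 0 : VV) *
        (S ((f 1 : VV) + (e 1 : VV)) (e 0 : VV))⁻¹ := by
      rw [this]
      group
    rw [e1]
    exact L.mul_mem (L.mul_mem hSgL hSg₂) (L.inv_mem hSg₁)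
  have hT : ∀ t : F, T (e 0 : VV) t ∈ L := by
    intro t
    rcases h01 t with ht | ht
    · rw [ht, T_zero]
      exact L.one_mem
    · have : T (e 0 : VV) t = (T (e 0 : VV) (-1))⁻¹ := by rw [T_inv, neg_neg, ht]
      rw [this]
      exact L.inv_mem hTm
  have hact : act Sg (e 1 : VV) = (e 1 : VV) + (-1 : F) • (e 0 : VV) := by
    rw [hSg, act_S g1, g2, zero_smul, add_zero, form_ei_fi]
  exact final (n := n + 1) L hcL hT Sg hSgL (-1) (neg_ne_zero.mpr one_ne_zero) hact

end two

end Cfsg.Agent.Lib.Helper9.SpGen
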