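import Cfsg.Agent.Lib.Helper28.SylAlt.Defs

/-!
# S2221 piece [O1]: `indecomp_Y_odd`

For odd `m ≥ 3` and a `2`-group `T ≤ Perm (Fin m)` fixing `a` and transitive on the other points,
the centre of `Y T` has order at most `2`, so `Y T` is not a non-trivial direct product.
-/

set_option autoImplicit false

namespace Cfsg.Agent.Lib.Helper28.SylAlt

open SW Equiv

namespace Helper9

/-- a finite `2`-group whose centre is contained in `{1, z₀}` is not a non-trivial direct product
(own copy, so that this file only depends on the definitions) -/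
theorem not_decomp_of_center' {H : Type*} [Group H] [Finite H] (hH : IsPGroup 2 H) (z₀ : H)
    (hc : ∀ z ∈ Subgroup.center H, z = 1 ∨ z = z₀) : ¬ Decomp H := by
  rintro ⟨A, B, hA, hB, hAB, hinf, hsup⟩
  have key : ∀ (A B : Subgroup H), A ≠ ⊥ → (∀ a ∈ A, ∀ b ∈ B, a * b = b * a) → A ⊔ B = ⊤ →
      ∃ x ∈ A, x ≠ 1 ∧ x ∈ Subgroup.center H := by
    intro A B hA hAB hsup
    have : Nontrivial A := (Subgroup.nontrivial_iff_ne_bot A).mpr hA
    have : Nontrivial (Subgroup.center A) := (hH.to_subgroup A).center_nontrivial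
    obtain ⟨⟨x, hx⟩, hx1⟩ := exists_ne (1 : Subgroup.center A)
    refine ⟨x.1, x.2, ?_, ?_⟩
    · intro h
      apply hx1
      apply Subtype.ext
      apply Subtype.ext
      exact h
    · have hle : A ⊔ B ≤ Subgroup.centralizer ({x.1} : Set H) := by
        refine sup_le ?_ ?_
        · intro a ha
          rw [Subgroup.mem_centralizer_iff]
          intro y hy
          rw [Set.mem_singleton_iff] at hy
          subst hy
          have := Subgroup.mem_center_iff.mp hx ⟨a, ha⟩
          exact (congrArg Subtype.val this).symm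
        · intro b hb
          rw [Subgroup.mem_centralizer_iff]
          intro y hy
          rw [Set.mem_singleton_iff] at hy
          subst hy
          exact hAB x.1 x.2 b hb
      rw [hsup] at hle
      rw [Subgroup.mem_center_iff]
      intro g
      have := hle (Subgroup.mem_top g)
      rw [Subgroup.mem_centralizer_iff] at this
      exact (this x.1 rfl).symm
  obtain ⟨x, hxA, hx1, hxc⟩ := key A B hA hAB hsup
  obtain ⟨y, hyB, hy1, hyc⟩ := key B A hB (fun b hb a ha => (hAB a ha b hb).symm)
    (by rw [sup_comm]; exact hsup)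
  have hx0 : x = z₀ := (hc x hxc).resolve_left hx1
  have hy0 : y = z₀ := (hc y hyc).resolve_left hy1
  have : x ∈ A ⊓ B := ⟨hxA, by rw [hx0, ← hy0]; exact hyB⟩
  rw [hinf, Subgroup.mem_bot] at this
  exact hx1 this

variable {m : ℕ}

theorem mul_self_of_t (w : SW m) (hw : w.t = 1) : w * w = 1 := by
  ext i
  · simp [hw, CharTwo.add_self_eq_zero]
  · simp [hw]

theorem pow_t (z : SW m) (n : ℕ) : (z ^ n).t = z.t ^ n := map_pow tHom z n

/-- `Y T` is a `2`-group when `T` is -/
theorem isPGroup_Y (T : Subgroup (Perm (Fin m))) (hT : IsPGroup 2 T) : IsPGroup 2 ↥(Y T) := by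
  rintro ⟨z, hz⟩
  obtain ⟨k, hk⟩ := hT ⟨z.t, (mem_Y.mp hz).1⟩
  have hk' : z.t ^ 2 ^ k = 1 := by
    have := congrArg Subtype.val hk
    simpa using this
  refine ⟨k + 1, ?_⟩
  apply Subtype.ext
  rw [SubgroupClass.coe_pow]
  show z ^ 2 ^ (k + 1) = 1
  rw [pow_succ, pow_mul, pow_two]
  exact mul_self_of_t _ (by rw [pow_t, hk'])

/-- a sum over `Fin m` of a function that is constant off `a`, for odd `m`, in `ZMod 2` -/
theorem sum_of_const_off (hodd : Odd m) (a : Fin m) (v : Fin m → ZMod 2) (c : ZMod 2)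
    (h : ∀ x, x ≠ a → v x = c) : ∑ x, v x = v a := by
  classical
  rw [← Finset.add_sum_erase Finset.univ v (Finset.mem_univ a)]
  have h1 : ∑ x ∈ Finset.univ.erase a, v x = ∑ _x ∈ Finset.univ.erase a, c := by
    refine Finset.sum_congr rfl ?_
    intro x hx
    exact h x (Finset.ne_of_mem_erase hx)
  rw [h1, Finset.sum_const, Finset.card_erase_of_mem (Finset.mem_univ a), Finset.card_univ,
    Fintype.card_fin, nsmul_eq_mul]
  have h2 : ((m - 1 : ℕ) : ZMod 2) = 0 := by
    rw [ZMod.natCast_eq_zero_iff]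
    obtain ⟨k, hk⟩ := hodd
    exact ⟨k, by omega⟩
  rw [h2, zero_mul, add_zero]

end Helper9

variable {m : ℕ}

theorem indecomp_Y_odd (T : Subgroup (Perm (Fin m))) (hT : IsPGroup 2 T) (hm : 3 ≤ m)
    (hodd : Odd m) (a : Fin m) (ha : ∀ t ∈ T, t a = a)
    (htr : ∀ i j, i ≠ a → j ≠ a → ∃ t ∈ T, t i = j) : ¬ Decomp ↥(Y T) := by
  classical
  -- the candidate central involution
  let v₀ : Fin m → ZMod 2 := fun x => if x = a then 0 else 1
  have hv₀a : v₀ a = 0 := by simp [v₀]
  have hv₀ : ∑ i, v₀ i = 0 := by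
    rw [Helper9.sum_of_const_off hodd a v₀ 1 (fun x hx => by simp [v₀, hx]), hv₀a]
  have hz₀ : vec v₀ ∈ Y T := mem_Y.mpr ⟨by simp, hv₀⟩
  refine Helper9.not_decomp_of_center' (Helper9.isPGroup_Y T hT) ⟨vec v₀, hz₀⟩ ?_
  rintro ⟨z, hz⟩ hcen
  rw [Subgroup.mem_center_iff] at hcen
  obtain ⟨hzt, hzv⟩ := mem_Y.mp hz
  -- step 1: the permutation part is trivial
  have ht1 : z.t = 1 := by
    by_contra hne
    obtain ⟨i, hi⟩ : ∃ i, z.t i ≠ i := by
      by_contra hall
      push Not at hall
      exact hne (Equiv.ext hall)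
    obtain ⟨k, hki, hkj⟩ : ∃ k, k ≠ i ∧ k ≠ z.t i := by
      have hcard : ({i, z.t i} : Finset (Fin m)).card < (Finset.univ : Finset (Fin m)).card := by
        rw [Finset.card_univ, Fintype.card_fin]
        exact lt_of_le_of_lt (Finset.card_le_two) (by omega)
      obtain ⟨k, -, hk⟩ := Finset.exists_mem_notMem_of_card_lt_card hcard
      simp only [Finset.mem_insert, Finset.mem_singleton, not_or] at hk
      exact ⟨k, hk.1, hk.2⟩
    let w : Fin m → ZMod 2 := Pi.single i 1 + Pi.single k 1
    have hw : ∑ x, w x = 0 := by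
      simp only [w, Pi.add_apply, Finset.sum_add_distrib, Finset.sum_pi_single',
        Finset.mem_univ, if_true]
      exact CharTwo.add_self_eq_zero 1
    have hwY : vec w ∈ Y T := mem_Y.mpr ⟨by simp, hw⟩
    have h := congrArg Subtype.val (hcen ⟨vec w, hwY⟩)
    have h' : vec w * z = z * vec w := h
    have h2 := congrArg (fun q : SW m => q.v (z.t i)) h'
    simp only [mul_v, vec_v, vec_t, inv_one, Perm.coe_one, id_eq] at h2
    have hinv : z.t⁻¹ (z.t i) = i := Equiv.Perm.inv_eq_iff_eq.mpr rfl
    have hwj : w (z.t i) = 0 := by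
      simp [w, hi, hkj.symm]
    have hwi : w i = 1 := by
      simp [w, hki.symm]
    rw [hinv, hwj, hwi, zero_add] at h2
    have : (1 : ZMod 2) = 0 := by
      have := h2
      have h3 : z.v (z.t i) = z.v (z.t i) + 1 := this
      exact (left_eq_add.mp h3)
    exact one_ne_zero this
  -- step 2: the vector part is `T`-invariant
  have hinvar : ∀ s ∈ T, ∀ x, z.v (s⁻¹ x) = z.v x := by
    intro s hs x
    have hsY : prm s ∈ Y T := mem_Y.mpr ⟨by simpa using hs, by simp⟩
    have h := congrArg Subtype.val (hcen ⟨prm s, hsY⟩)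
    have h' : prm s * z = z * prm s := h
    have h2 := congrArg (fun q : SW m => q.v x) h'
    simpa [ht1] using h2
  have hconst : ∀ i j, i ≠ a → j ≠ a → z.v i = z.v j := by
    intro i j hi hj
    obtain ⟨s, hs, hsij⟩ := htr i j hi hj
    have := hinvar s hs j
    rw [← hsij] at this ⊢
    have hinv : s⁻¹ (s i) = i := Equiv.Perm.inv_eq_iff_eq.mpr rfl
    rw [hinv] at this
    exact this
  by_cases hone : ∃ i, i ≠ a ∧ z.v i = 1
  · right
    obtain ⟨i₀, hi₀, hvi₀⟩ := hone
    have hall : ∀ x, x ≠ a → z.v x = 1 := fun x hx => (hconst x i₀ hx hi₀).trans hvi₀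
    have hza : z.v a = 0 := by
      rw [← Helper9.sum_of_const_off hodd a z.v 1 hall]
      exact hzv
    apply Subtype.ext
    show z = vec v₀
    ext x
    · by_cases hx : x = a
      · subst hx
        rw [hza]
        simp [v₀]
      · rw [hall x hx]
        simp [v₀, hx]
    · rw [ht1]
      simp
  · left
    push Not at hone
    have hall : ∀ x, x ≠ a → z.v x = 0 := by
      intro x hx
      have h1 := hone x hx
      have h01 : ∀ c : ZMod 2, c ≠ 1 → c = 0 := by decide
      exact h01 _ h1
    have hza : z.v a = 0 := by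
      rw [← Helper9.sum_of_const_off hodd a z.v 0 hall]
      exact hzv
    apply Subtype.ext
    show z = 1
    ext x
    · by_cases hx : x = a
      · subst hx
        rw [hza]
        simp
      · rw [hall x hx]
        simp
    · rw [ht1]
      simp

end Cfsg.Agent.Lib.Helper28.SylAlt
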