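import Cfsg.Agent.Lib.Helper28.SylAlt.Defs

/-!
# S2221 piece [S2]: a Sylow 2-subgroup of `Perm (Fin m)` is orbit-closed (`syl_OC`)
-/

set_option autoImplicit false

namespace Cfsg.Agent.Lib.Helper28.SylAlt

open Equiv

namespace Helper9

variable {α : Type*}

/-- restriction of the elements of a subgroup `T` of `Perm α` to a `T`-invariant set `p`
(identity outside `p`), as a homomorphism -/
noncomputable def res (p : α → Prop) [DecidablePred p] (T : Subgroup (Perm α))
    (hinv : ∀ s ∈ T, ∀ x, p x ↔ p (s x)) : T →* Perm α where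
  toFun s := Perm.ofSubtype (Perm.subtypePerm (s : Perm α) (fun x => (hinv s s.2 x).symm))
  map_one' := by
    ext x
    by_cases hx : p x
    · rw [Perm.ofSubtype_apply_of_mem _ hx]; simp
    · rw [Perm.ofSubtype_apply_of_not_mem _ hx]; simp
  map_mul' s s' := by
    ext x
    by_cases hx : p x
    · have hx' : p ((s' : Perm α) x) := (hinv s' s'.2 x).mp hx
      rw [Perm.ofSubtype_apply_of_mem _ hx, Perm.mul_apply,
        Perm.ofSubtype_apply_of_mem (p := p) (Perm.subtypePerm (s' : Perm α) _) hx,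
        Perm.subtypePerm_apply, Perm.subtypePerm_apply]
      simp only [Subgroup.coe_mul, Perm.mul_apply]
      rw [Perm.ofSubtype_apply_of_mem _ hx', Perm.subtypePerm_apply]
    · rw [Perm.ofSubtype_apply_of_not_mem _ hx, Perm.mul_apply,
        Perm.ofSubtype_apply_of_not_mem _ hx, Perm.ofSubtype_apply_of_not_mem _ hx]

theorem res_of_mem (p : α → Prop) [DecidablePred p] (T : Subgroup (Perm α))
    (hinv : ∀ s ∈ T, ∀ x, p x ↔ p (s x)) (s : T) {x : α} (hx : p x) :
    res p T hinv s x = (s : Perm α) x := by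
  show Perm.ofSubtype (Perm.subtypePerm (s : Perm α) (fun x => (hinv s s.2 x).symm)) x = _
  rw [Perm.ofSubtype_apply_of_mem _ hx]
  simp

theorem res_of_not_mem (p : α → Prop) [DecidablePred p] (T : Subgroup (Perm α))
    (hinv : ∀ s ∈ T, ∀ x, p x ↔ p (s x)) (s : T) {x : α} (hx : ¬ p x) :
    res p T hinv s x = x := by
  show Perm.ofSubtype (Perm.subtypePerm (s : Perm α) (fun x => (hinv s s.2 x).symm)) x = _
  rw [Perm.ofSubtype_apply_of_not_mem _ hx]

/-- a Sylow `2`-subgroup of `Perm α` contains the restriction of each of its elements to each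
invariant set -/
theorem res_mem_of_sylow [Finite α] (p : α → Prop) [DecidablePred p] (T : Sylow 2 (Perm α))
    (hinv : ∀ s ∈ T, ∀ x, p x ↔ p (s x)) (t : (T : Subgroup (Perm α))) :
    res p (T : Subgroup (Perm α)) hinv t ∈ T := by
  classical
  have hinv' : ∀ s ∈ T, ∀ x, ¬ p x ↔ ¬ p (s x) := fun s hs x => not_congr (hinv s hs x)
  set f := res p (T : Subgroup (Perm α)) hinv with hf
  set g := res (fun x => ¬ p x) (T : Subgroup (Perm α)) hinv' with hg
  have hcomm : ∀ a b : (T : Subgroup (Perm α)), Commute (f a) (g b) := by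
    intro a b
    ext x
    by_cases hx : p x
    · rw [Perm.mul_apply, Perm.mul_apply, hg,
        res_of_not_mem (fun x => ¬ p x) _ hinv' b (not_not.mpr hx), hf,
        res_of_mem p _ hinv a hx,
        res_of_not_mem (fun x => ¬ p x) _ hinv' b (not_not.mpr ((hinv a a.2 x).mp hx))]
    · rw [Perm.mul_apply, Perm.mul_apply, hf, res_of_not_mem p _ hinv a hx, hg,
        res_of_mem (fun x => ¬ p x) _ hinv' b hx,
        res_of_not_mem p _ hinv a ((hinv' b b.2 x).mp hx)]
  let Φ : ↥(T : Subgroup (Perm α)) × ↥(T : Subgroup (Perm α)) →* Perm α :=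
    MonoidHom.noncommCoprod f g hcomm
  have hΦ : ∀ a b, Φ (a, b) = f a * g b := fun a b => rfl
  have hdiag : ∀ s : (T : Subgroup (Perm α)), Φ (s, s) = (s : Perm α) := by
    intro s
    rw [hΦ]
    ext x
    by_cases hx : p x
    · rw [Perm.mul_apply, hg, res_of_not_mem (fun x => ¬ p x) _ hinv' s (not_not.mpr hx), hf,
        res_of_mem p _ hinv s hx]
    · rw [Perm.mul_apply, hg, res_of_mem (fun x => ¬ p x) _ hinv' s hx, hf,
        res_of_not_mem p _ hinv s ((hinv' s s.2 x).mp hx)]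
  have hTle : (T : Subgroup (Perm α)) ≤ Φ.range := by
    intro s hs
    exact ⟨(⟨s, hs⟩, ⟨s, hs⟩), hdiag ⟨s, hs⟩⟩
  have hP : IsPGroup 2 Φ.range := by
    have hTT : IsPGroup 2 (↥(T : Subgroup (Perm α)) × ↥(T : Subgroup (Perm α))) := by
      intro ab
      obtain ⟨k1, hk1⟩ := T.isPGroup' ab.1
      obtain ⟨k2, hk2⟩ := T.isPGroup' ab.2
      refine ⟨k1 + k2, ?_⟩
      ext1
      · rw [Prod.pow_fst, pow_add, pow_mul, hk1, one_pow]; rfl
      · rw [Prod.pow_snd, pow_add, mul_comm, pow_mul, hk2, one_pow]; rfl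
    exact hTT.of_surjective Φ.rangeRestrict Φ.rangeRestrict_surjective
  have hEq : Φ.range = (T : Subgroup (Perm α)) := T.is_maximal' hP hTle
  have : Φ (t, 1) ∈ Φ.range := ⟨(t, 1), rfl⟩
  rw [hEq, hΦ, map_one, mul_one] at this
  exact this

end Helper9

variable {m : ℕ}

theorem syl_OC (T : Sylow 2 (Perm (Fin m))) : OC (T : Subgroup (Perm (Fin m))) := by
  classical
  intro t ht i
  have hinv : ∀ s ∈ T, ∀ x, x ∈ orb (T : Subgroup (Perm (Fin m))) i ↔
      s x ∈ orb (T : Subgroup (Perm (Fin m))) i := by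
    intro s hs x
    constructor
    · rintro ⟨u, hu, rfl⟩
      exact ⟨s * u, mul_mem hs hu, rfl⟩
    · rintro ⟨u, hu, hux⟩
      refine ⟨s⁻¹ * u, mul_mem (inv_mem hs) hu, ?_⟩
      rw [Perm.mul_apply, hux]
      simp
  refine ⟨Helper9.res (· ∈ orb (T : Subgroup (Perm (Fin m))) i) T hinv ⟨t, ht⟩,
    Helper9.res_mem_of_sylow _ T hinv ⟨t, ht⟩, ?_, ?_⟩
  · intro j hj
    exact Helper9.res_of_mem _ _ hinv ⟨t, ht⟩ hj
  · intro j hj
    exact Helper9.res_of_not_mem _ _ hinv ⟨t, ht⟩ hj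

end Cfsg.Agent.Lib.Helper28.SylAlt
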