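import Mathlib
import Cfsg.Prelude.Def_Balance
import Cfsg.Agent.Lib.Helper9.Signalizer2

set_option autoImplicit false

namespace Cfsg.Agent.Lib.Helper9

open Cfsg Cfsg.Agent.Lib.Helper12 Cfsg.Agent.Lib.Helper1

section Family

variable {G : Type*} [Group G]

/-- `A`-invariant subgroups of members of the family are members. -/
theorem signalizerFamily_of_le {p : ℕ} {A : Subgroup G} {θ : G → Subgroup G} {U V : Subgroup G}
    (hU : U ∈ Cfsg.signalizerFamily p A θ) (hVU : V ≤ U)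
    (hVA : ∀ b ∈ A, ∀ v ∈ V, b * v * b⁻¹ ∈ V) : V ∈ Cfsg.signalizerFamily p A θ := by
  obtain ⟨hs, hp, -, hθ⟩ := hU
  refine ⟨?_, ?_, hVA, ?_⟩
  · have := hs
    exact Group.isSolvable_of_isSolvable_injective (f := Subgroup.inclusion hVU)
      (Subgroup.inclusion_injective hVU)
  · intro hdvd
    exact hp (hdvd.trans (Subgroup.card_dvd_of_le hVU))
  · intro a ha ha1
    exact (inf_le_inf_right _ hVU).trans (hθ a ha ha1)

/-- The values of a solvable signalizer functor are members of its family. -/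
theorem theta_mem_signalizerFamily {p : ℕ} {A : Subgroup G} {θ : G → Subgroup G}
    (hθ : Cfsg.IsSolvableSignalizerFunctor p A θ) {a : G} (ha : a ∈ A) (ha1 : a ≠ 1) :
    θ a ∈ Cfsg.signalizerFamily p A θ := by
  obtain ⟨⟨-, h2, h3, h4⟩, hs⟩ := hθ
  exact ⟨hs a ha ha1, h2 a ha ha1, h3 a ha ha1, fun b hb hb1 => h4 a ha ha1 b hb hb1⟩

theorem mem_theta_of_mem_signalizerInf {A : Subgroup G} {θ : G → Subgroup G} {c a : G}
    (hc : c ∈ Cfsg.signalizerInf A θ) (ha : a ∈ A) (ha1 : a ≠ 1) : c ∈ θ a := by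
  unfold Cfsg.signalizerInf at hc
  rw [Subgroup.mem_iInf] at hc
  exact hc ⟨a, ha, ha1⟩

theorem mem_signalizerInf_iff {A : Subgroup G} {θ : G → Subgroup G} {c : G} :
    c ∈ Cfsg.signalizerInf A θ ↔ ∀ a ∈ A, a ≠ 1 → c ∈ θ a := by
  unfold Cfsg.signalizerInf
  rw [Subgroup.mem_iInf]
  exact ⟨fun h a ha ha1 => h ⟨a, ha, ha1⟩, fun h a => h a.1 a.2.1 a.2.2⟩

/-- Elements of `θ(C_G(A))` commute with `A`. -/
theorem commute_of_mem_signalizerInf {p : ℕ} {A : Subgroup G} {θ : G → Subgroup G}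
    (hθ : Cfsg.IsSignalizerFunctor p A θ) {c b : G} (hc : c ∈ Cfsg.signalizerInf A θ)
    (hb : b ∈ A) : b * c = c * b := by
  by_cases hb1 : b = 1
  · rw [hb1]; simp
  · have h1 := hθ.1 b hb hb1 (mem_theta_of_mem_signalizerInf hc hb hb1)
    rw [Subgroup.mem_centralizer_iff] at h1
    exact h1 b rfl

/-- Conjugation by `θ(C_G(A))` preserves the family. -/
theorem conj_mem_signalizerFamily {p : ℕ} {A : Subgroup G} {θ : G → Subgroup G}
    (hθ : Cfsg.IsSignalizerFunctor p A θ) {c : G} (hc : c ∈ Cfsg.signalizerInf A θ)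
    {U : Subgroup G} (hU : U ∈ Cfsg.signalizerFamily p A θ) :
    U.map (MulAut.conj c).toMonoidHom ∈ Cfsg.signalizerFamily p A θ := by
  obtain ⟨hs, hp, hUA, hUθ⟩ := hU
  refine ⟨?_, ?_, ?_, ?_⟩
  · have := hs
    exact Group.isSolvable_of_surjective
      (f := (U.equivMapOfInjective _ (MulAut.conj c).injective).toMonoidHom)
      (U.equivMapOfInjective _ (MulAut.conj c).injective).surjective
  · rw [card_conjMap]; exact hp
  · intro b hb v hv
    rw [mem_conjMap] at hv ⊢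
    have hcb := commute_of_mem_signalizerInf hθ hc hb
    have e : c⁻¹ * (b * v * b⁻¹) * c = b * (c⁻¹ * v * c) * b⁻¹ := by
      have h1 : c⁻¹ * b = b * c⁻¹ := by
        calc c⁻¹ * b = c⁻¹ * (b * c) * c⁻¹ := by group
          _ = c⁻¹ * (c * b) * c⁻¹ := by rw [hcb]
          _ = b * c⁻¹ := by group
      have h2 : b⁻¹ * c = c * b⁻¹ := by
        calc b⁻¹ * c = b⁻¹ * (c * b) * b⁻¹ := by group
          _ = b⁻¹ * (b * c) * b⁻¹ := by rw [hcb]
          _ = c * b⁻¹ := by group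
      calc c⁻¹ * (b * v * b⁻¹) * c = (c⁻¹ * b) * v * (b⁻¹ * c) := by group
        _ = (b * c⁻¹) * v * (c * b⁻¹) := by rw [h1, h2]
        _ = b * (c⁻¹ * v * c) * b⁻¹ := by group
    rw [e]
    exact hUA b hb _ hv
  · intro a ha ha1 x hx
    obtain ⟨hx1, hx2⟩ := Subgroup.mem_inf.mp hx
    rw [mem_conjMap] at hx1
    have hca : c ∈ θ a := mem_theta_of_mem_signalizerInf hc ha ha1
    have hac := commute_of_mem_signalizerInf hθ hc ha
    have h3 : c⁻¹ * x * c ∈ Subgroup.centralizer ({a} : Set G) := by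
      rw [Subgroup.mem_centralizer_iff] at hx2 ⊢
      intro y hy
      rw [Set.mem_singleton_iff] at hy; subst hy
      have hxa := hx2 y rfl
      have h1 : c⁻¹ * y = y * c⁻¹ := by
        calc c⁻¹ * y = c⁻¹ * (y * c) * c⁻¹ := by group
          _ = c⁻¹ * (c * y) * c⁻¹ := by rw [hac]
          _ = y * c⁻¹ := by group
      calc y * (c⁻¹ * x * c) = (y * c⁻¹) * x * c := by group
        _ = (c⁻¹ * y) * x * c := by rw [h1]
        _ = c⁻¹ * (y * x) * c := by group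
        _ = c⁻¹ * (x * y) * c := by rw [hxa]
        _ = c⁻¹ * x * (y * c) := by group
        _ = c⁻¹ * x * (c * y) := by rw [hac]
        _ = c⁻¹ * x * c * y := by group
    have h4 : c⁻¹ * x * c ∈ θ a := hUθ a ha ha1 (Subgroup.mem_inf.mpr ⟨hx1, h3⟩)
    have : x = c * (c⁻¹ * x * c) * c⁻¹ := by group
    rw [this]
    exact (θ a).mul_mem ((θ a).mul_mem hca h4) ((θ a).inv_mem hca)

end Family

section Trans

variable {G : Type*} [Group G] [Finite G]

/-- maximal `q`-members of the family -/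
def IsMaxQ (p : ℕ) (A : Subgroup G) (θ : G → Subgroup G) (q : ℕ) (Q : Subgroup G) : Prop :=
  Q ∈ Cfsg.signalizerFamily p A θ ∧ IsPGroup q ↥Q ∧
    ∀ R ∈ Cfsg.signalizerFamily p A θ, IsPGroup q ↥R → Q ≤ R → R = Q

omit [Finite G] in
theorem card_lt_card_of_lt' {H K : Subgroup G} [Finite K] (h : H < K) :
    Nat.card H < Nat.card K := by
  rcases lt_or_ge (Nat.card H) (Nat.card K) with h1 | h1
  · exact h1
  · exfalso
    have hfin : Finite ↥K := inferInstance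
    have := Subgroup.eq_of_le_of_card_ge h.le h1
    exact h.ne this

theorem exists_isMaxQ_ge {p : ℕ} {A : Subgroup G} {θ : G → Subgroup G} {q : ℕ} :
    ∀ (n : ℕ) (R : Subgroup G), Nat.card G - Nat.card R = n →
      R ∈ Cfsg.signalizerFamily p A θ → IsPGroup q ↥R → ∃ Q, IsMaxQ p A θ q Q ∧ R ≤ Q := by
  intro n
  induction n using Nat.strong_induction_on with
  | _ n ih =>
    intro R hn hR hRq
    by_cases hmax : ∀ R' ∈ Cfsg.signalizerFamily p A θ, IsPGroup q ↥R' → R ≤ R' → R' = R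
    · exact ⟨R, ⟨hR, hRq, hmax⟩, le_rfl⟩
    · push Not at hmax
      obtain ⟨R', hR', hR'q, hle, hne⟩ := hmax
      have hlt : R < R' := lt_of_le_of_ne hle (Ne.symm hne)
      have h1 := card_lt_card_of_lt' hlt
      have h2 : Nat.card R' ≤ Nat.card G := Subgroup.card_le_card_group R'
      obtain ⟨Q, hQ, hR'Q⟩ := ih (Nat.card G - Nat.card R') (by omega) R' rfl hR' hR'q
      exact ⟨Q, hQ, hle.trans hR'Q⟩

theorem IsMaxQ.conj {p : ℕ} {A : Subgroup G} {θ : G → Subgroup G} {q : ℕ} {Q : Subgroup G}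
    (hθ : Cfsg.IsSignalizerFunctor p A θ) (hQ : IsMaxQ p A θ q Q) {c : G}
    (hc : c ∈ Cfsg.signalizerInf A θ) : IsMaxQ p A θ q (Q.map (MulAut.conj c).toMonoidHom) := by
  refine ⟨conj_mem_signalizerFamily hθ hc hQ.1, isPGroup_conjMap hQ.2.1 c, ?_⟩
  intro R hR hRq hle
  have hc' : c⁻¹ ∈ Cfsg.signalizerInf A θ := Subgroup.inv_mem _ hc
  have h1 := hQ.2.2 _ (conj_mem_signalizerFamily hθ hc' hR) (isPGroup_conjMap hRq c⁻¹)
    (by rw [← conjMap_le_iff]; exact hle)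
  rw [← h1, conjMap_conjMap_inv]

theorem conj_invariant_of_le_normalizer {A U : Subgroup G}
    (h : A ≤ Subgroup.normalizer (U : Set G)) : ∀ b ∈ A, ∀ u ∈ U, b * u * b⁻¹ ∈ U :=
  fun b hb u hu => (Subgroup.mem_normalizer_iff.mp (h hb) u).mp hu

/-- **Transitivity theorem**, inductive form. -/
theorem transitivity_aux {p : ℕ} [Fact p.Prime] {A : Subgroup G}
    (hA : Cfsg.IsElementaryAbelian p A) (hA3 : p ^ 3 ≤ Nat.card ↥A) {θ : G → Subgroup G}
    (hθ : Cfsg.IsSolvableSignalizerFunctor p A θ) {q : ℕ} [Fact q.Prime] (hqp : q ≠ p) :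
    ∀ (n : ℕ) (Q₁ Q₂ : Subgroup G), IsMaxQ p A θ q Q₁ → IsMaxQ p A θ q Q₂ →
      Nat.card G - Nat.card ↥(Q₁ ⊓ Q₂) = n →
      ∃ c ∈ Cfsg.signalizerInf A θ, Q₁.map (MulAut.conj c).toMonoidHom = Q₂ := by
  intro n
  induction n using Nat.strong_induction_on with
  | _ n ih =>
    intro Q₁ Q₂ hQ₁ hQ₂ hn
    set D := Q₁ ⊓ Q₂ with hD
    by_cases hD₁ : D = Q₁
    · have hle : Q₁ ≤ Q₂ := by rw [← hD₁]; exact inf_le_right
      have := hQ₁.2.2 Q₂ hQ₂.1 hQ₂.2.1 hle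
      exact ⟨1, Subgroup.one_mem _, by rw [conjMap_one, this]⟩
    by_cases hD₂ : D = Q₂
    · have hle : Q₂ ≤ Q₁ := by rw [← hD₂]; exact inf_le_left
      have := hQ₂.2.2 Q₁ hQ₁.1 hQ₁.2.1 hle
      exact ⟨1, Subgroup.one_mem _, by rw [conjMap_one, this]⟩
    have hAQ₁ : A ≤ Subgroup.normalizer (Q₁ : Set G) :=
      le_normalizer_of_forall_conj_mem hQ₁.1.2.2.1
    have hAQ₂ : A ≤ Subgroup.normalizer (Q₂ : Set G) :=
      le_normalizer_of_forall_conj_mem hQ₂.1.2.2.1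
    obtain ⟨a, ha, ha1, hX₁, hX₂⟩ := exists_centralizer_normalizer_not_le hA hA3 hqp
      hQ₁.2.1 hQ₂.2.1 hAQ₁ hAQ₂ hD₁ hD₂
    rw [← hD] at hX₁ hX₂
    have hcomm := isElementaryAbelian_comm hA
    -- A normalizes D
    have hDinv : ∀ b ∈ A, ∀ u ∈ D, b * u * b⁻¹ ∈ D := fun b hb u hu =>
      Subgroup.mem_inf.mpr ⟨hQ₁.1.2.2.1 b hb u (Subgroup.mem_inf.mp hu).1,
        hQ₂.1.2.2.1 b hb u (Subgroup.mem_inf.mp hu).2⟩
    have hAD : A ≤ Subgroup.normalizer (D : Set G) := le_normalizer_of_forall_conj_mem hDinv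
    have hNDinv : ∀ b ∈ A, ∀ u ∈ Subgroup.normalizer (D : Set G),
        b * u * b⁻¹ ∈ Subgroup.normalizer (D : Set G) := fun b hb u hu =>
      Subgroup.mul_mem _ (Subgroup.mul_mem _ (hAD hb) hu) (Subgroup.inv_mem _ (hAD hb))
    have hCainv : ∀ b ∈ A, ∀ u ∈ Subgroup.centralizer ({a} : Set G),
        b * u * b⁻¹ ∈ Subgroup.centralizer ({a} : Set G) := by
      intro b hb u hu
      rw [Subgroup.mem_centralizer_iff] at hu ⊢
      intro y hy
      rw [Set.mem_singleton_iff] at hy; subst hy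
      have hab : y * b = b * y := hcomm y ha b hb
      have hua := hu y rfl
      have hab' : b⁻¹ * y = y * b⁻¹ := by
        calc b⁻¹ * y = b⁻¹ * (y * b) * b⁻¹ := by group
          _ = b⁻¹ * (b * y) * b⁻¹ := by rw [hab]
          _ = y * b⁻¹ := by group
      calc y * (b * u * b⁻¹) = (y * b) * u * b⁻¹ := by group
        _ = b * (y * u) * b⁻¹ := by rw [hab]; group
        _ = b * (u * y) * b⁻¹ := by rw [hua]
        _ = b * u * (y * b⁻¹) := by group
        _ = b * u * (b⁻¹ * y) := by rw [hab']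
        _ = b * u * b⁻¹ * y := by group
    -- members
    have hDmem : D ∈ Cfsg.signalizerFamily p A θ := signalizerFamily_of_le hQ₁.1 inf_le_left hDinv
    set Y := θ a ⊓ Subgroup.normalizer (D : Set G) with hY
    have hYmem : Y ∈ Cfsg.signalizerFamily p A θ :=
      signalizerFamily_of_le (theta_mem_signalizerFamily hθ ha ha1) inf_le_left
        (fun b hb u hu => Subgroup.mem_inf.mpr
          ⟨hθ.1.2.2.1 a ha ha1 b hb u (Subgroup.mem_inf.mp hu).1,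
            hNDinv b hb u (Subgroup.mem_inf.mp hu).2⟩)
    set H := D ⊔ Y with hH
    have hHmem : H ∈ Cfsg.signalizerFamily p A θ :=
      signalizerFamily_sup hA hDmem hYmem inf_le_right
    have hAH : A ≤ Subgroup.normalizer (H : Set G) :=
      le_normalizer_of_forall_conj_mem hHmem.2.2.1
    have hact : CoprimeAct A H := coprimeAct_of_exponent hcomm hA.2 hAH hHmem.2.1
    -- the subgroups U_i
    have key : ∀ Q : Subgroup G, IsMaxQ p A θ q Q → D ≤ Q →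
        ¬ (Subgroup.normalizer (D : Set G) ⊓ Q ⊓ Subgroup.centralizer {a} ≤ D) →
        ∃ U : Subgroup G, U ≤ H ∧ U ≤ Q ∧ IsPGroup q ↥U ∧ A ≤ Subgroup.normalizer (U : Set G) ∧
          Nat.card D < Nat.card U := by
      intro Q hQ hDQ hX
      set X := Subgroup.normalizer (D : Set G) ⊓ Q ⊓ Subgroup.centralizer {a} with hXdef
      have hXQ : X ≤ Q := inf_le_left.trans inf_le_right
      have hXY : X ≤ Y := by
        intro x hx
        obtain ⟨⟨hx1, hx2⟩, hx3⟩ := hx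
        exact Subgroup.mem_inf.mpr
          ⟨hQ.1.2.2.2 a ha ha1 (Subgroup.mem_inf.mpr ⟨hx2, hx3⟩), hx1⟩
      have hXinv : ∀ b ∈ A, ∀ u ∈ X, b * u * b⁻¹ ∈ X := by
        intro b hb u hu
        obtain ⟨⟨hu1, hu2⟩, hu3⟩ := hu
        exact Subgroup.mem_inf.mpr ⟨Subgroup.mem_inf.mpr ⟨hNDinv b hb u hu1,
          hQ.1.2.2.1 b hb u hu2⟩, hCainv b hb u hu3⟩
      have hUle : D ⊔ X ≤ Q := sup_le hDQ hXQ
      refine ⟨D ⊔ X, sup_le_sup_left hXY D, hUle, hQ.2.1.to_le hUle, ?_, ?_⟩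
      · intro b hb
        apply mem_normalizer_of_conjMap_eq_self
        apply conjMap_eq_of_le
        rw [Subgroup.map_sup]
        apply sup_le_sup
        · rintro _ ⟨u, hu, rfl⟩
          simpa [MulAut.conj_apply] using hDinv b hb u hu
        · rintro _ ⟨u, hu, rfl⟩
          simpa [MulAut.conj_apply] using hXinv b hb u hu
      · apply card_lt_card_of_lt'
        refine lt_of_le_of_ne le_sup_left ?_
        intro heq
        apply hX
        rw [heq]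
        exact le_sup_right
    obtain ⟨U₁, hU₁H, hU₁Q, hU₁q, hAU₁, hU₁c⟩ := key Q₁ hQ₁ inf_le_left hX₁
    obtain ⟨U₂, hU₂H, hU₂Q, hU₂q, hAU₂, hU₂c⟩ := key Q₂ hQ₂ inf_le_right hX₂
    obtain ⟨R₁, hU₁R₁, hAR₁⟩ := hact.exists_invariant_sylSet_ge _ U₁ rfl hU₁H hU₁q hAU₁
    obtain ⟨R₂, hU₂R₂, hAR₂⟩ := hact.exists_invariant_sylSet_ge _ U₂ rfl hU₂H hU₂q hAU₂
    obtain ⟨c, hc, hcR⟩ := hact.exists_conj_sylSet R₂ R₁ hAR₂ hAR₁
    have hcI : c ∈ Cfsg.signalizerInf A θ := by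
      rw [mem_signalizerInf_iff]
      intro b hb hb1
      apply hHmem.2.2.2 b hb hb1
      refine Subgroup.mem_inf.mpr ⟨(Subgroup.mem_inf.mp hc).1, ?_⟩
      exact Subgroup.centralizer_le (Set.singleton_subset_iff.mpr hb) (Subgroup.mem_inf.mp hc).2
    have hR₁mem : R₁.1 ∈ Cfsg.signalizerFamily p A θ :=
      signalizerFamily_of_le hHmem R₁.2.1 (conj_invariant_of_le_normalizer hAR₁)
    have hR₁q : IsPGroup q ↥R₁.1 := IsPGroup.of_card R₁.2.2
    obtain ⟨Q₃, hQ₃, hR₁Q₃⟩ := exists_isMaxQ_ge _ R₁.1 rfl hR₁mem hR₁q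
    have hGle : ∀ K : Subgroup G, Nat.card K ≤ Nat.card G := fun K => Subgroup.card_le_card_group K
    -- first pair
    have hU₁le : U₁ ≤ Q₁ ⊓ Q₃ := le_inf hU₁Q (hU₁R₁.trans hR₁Q₃)
    have h1c : Nat.card D < Nat.card ↥(Q₁ ⊓ Q₃) :=
      lt_of_lt_of_le hU₁c (Subgroup.card_le_of_le hU₁le)
    obtain ⟨c₁, hc₁, hc₁Q⟩ := ih (Nat.card G - Nat.card ↥(Q₁ ⊓ Q₃))
      (by have := hGle (Q₁ ⊓ Q₃); omega) Q₁ Q₃ hQ₁ hQ₃ rfl
    -- second pair
    have hQ₂' := hQ₂.conj hθ.1 hcI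
    have hU₂le : U₂.map (MulAut.conj c).toMonoidHom ≤
        Q₂.map (MulAut.conj c).toMonoidHom ⊓ Q₃ := by
      refine le_inf (conjMap_mono hU₂Q c) ?_
      refine le_trans (conjMap_mono hU₂R₂ c) ?_
      rw [conjMap_eq_smul, hcR]
      exact hR₁Q₃
    have h2c : Nat.card D < Nat.card ↥(Q₂.map (MulAut.conj c).toMonoidHom ⊓ Q₃) := by
      refine lt_of_lt_of_le ?_ (Subgroup.card_le_of_le hU₂le)
      rw [card_conjMap]; exact hU₂c
    obtain ⟨c₂, hc₂, hc₂Q⟩ := ih (Nat.card G - Nat.card ↥(Q₂.map (MulAut.conj c).toMonoidHom ⊓ Q₃))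
      (by have := hGle (Q₂.map (MulAut.conj c).toMonoidHom ⊓ Q₃); omega) _ Q₃ hQ₂' hQ₃ rfl
    refine ⟨(c₂ * c)⁻¹ * c₁, Subgroup.mul_mem _ (Subgroup.inv_mem _ (Subgroup.mul_mem _ hc₂ hcI)) hc₁,
      ?_⟩
    rw [conjMap_mul, hc₁Q, ← hc₂Q, (conjMap_mul Q₂ c₂ c).symm, conjMap_inv_conjMap]

/-- **S1283**: the Transitivity Theorem. -/
theorem transitivity {p : ℕ} [Fact p.Prime] {A : Subgroup G}
    (hA : Cfsg.IsElementaryAbelian p A) (hA3 : p ^ 3 ≤ Nat.card ↥A) {θ : G → Subgroup G}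
    (hθ : Cfsg.IsSolvableSignalizerFunctor p A θ) {q : ℕ} [Fact q.Prime]
    (hq : ∃ a ∈ A, a ≠ 1 ∧ q ∣ Nat.card ↥(θ a)) {Q₁ Q₂ : Subgroup G}
    (hQ₁ : IsMaxQ p A θ q Q₁) (hQ₂ : IsMaxQ p A θ q Q₂) :
    ∃ c ∈ Cfsg.signalizerInf A θ, Q₁.map (MulAut.conj c).toMonoidHom = Q₂ := by
  have hqp : q ≠ p := by
    rintro rfl
    obtain ⟨a, ha, ha1, hdvd⟩ := hq
    exact hθ.1.2.1 a ha ha1 hdvd
  exact transitivity_aux hA hA3 hθ hqp _ Q₁ Q₂ hQ₁ hQ₂ rfl

end Trans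

end Cfsg.Agent.Lib.Helper9

namespace Cfsg.Agent.Lib.Helper9

open Cfsg Cfsg.Agent.Lib.Helper12 Cfsg.Agent.Lib.Helper1

section Consequences

variable {G : Type*} [Group G] [Finite G]

/-- A `p`-group of order prime to `p` is trivial. -/
theorem eq_bot_of_isPGroup_of_not_dvd {p : ℕ} [hp : Fact p.Prime] {U : Subgroup G}
    (h1 : IsPGroup p ↥U) (h2 : ¬ p ∣ Nat.card ↥U) : U = ⊥ := by
  obtain ⟨k, hk⟩ := IsPGroup.iff_card.mp h1
  rw [hk] at h2
  have hk0 : k = 0 := by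
    by_contra h
    exact h2 (dvd_pow_self p h)
  rw [hk0, pow_zero] at hk
  exact Subgroup.card_eq_one.mp hk

/-- Every member of the family which is a `q`-group lies in a conjugate (under `θ(C_G(A))`) of a
given maximal `q`-member. -/
theorem exists_conj_ge_of_isMaxQ {p : ℕ} [Fact p.Prime] {A : Subgroup G}
    (hA : Cfsg.IsElementaryAbelian p A) (hA3 : p ^ 3 ≤ Nat.card ↥A) {θ : G → Subgroup G}
    (hθ : Cfsg.IsSolvableSignalizerFunctor p A θ) {q : ℕ} [Fact q.Prime] (hqp : q ≠ p)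
    {Q : Subgroup G} (hQ : IsMaxQ p A θ q Q) {R : Subgroup G}
    (hR : R ∈ Cfsg.signalizerFamily p A θ) (hRq : IsPGroup q ↥R) :
    ∃ c ∈ Cfsg.signalizerInf A θ, R ≤ Q.map (MulAut.conj c).toMonoidHom := by
  obtain ⟨Q', hQ', hRQ'⟩ := exists_isMaxQ_ge _ R rfl hR hRq
  obtain ⟨c, hc, hcQ⟩ := transitivity_aux hA hA3 hθ hqp _ Q Q' hQ hQ' rfl
  exact ⟨c, hc, by rw [hcQ]; exact hRQ'⟩

/-- **S1285**: a solvable signalizer functor all of whose values are `q`-groups is complete. -/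
theorem complete_of_forall_isPGroup {p : ℕ} [Fact p.Prime] {A : Subgroup G}
    (hA : Cfsg.IsElementaryAbelian p A) (hA3 : p ^ 3 ≤ Nat.card ↥A) {θ : G → Subgroup G}
    (hθ : Cfsg.IsSolvableSignalizerFunctor p A θ) {q : ℕ} [Fact q.Prime]
    (hq : ∀ a ∈ A, a ≠ 1 → IsPGroup q ↥(θ a)) : Cfsg.IsCompleteSignalizerFunctor p A θ := by
  refine ⟨hθ.1, ?_⟩
  by_cases hqp : q = p
  · subst hqp
    refine ⟨⊥, fun b _ x hx => by rw [Subgroup.mem_bot] at hx ⊢; rw [hx]; group, ?_, ?_⟩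
    · rw [Subgroup.card_bot]
      exact (Fact.out : q.Prime).one_lt.ne' ∘ Nat.dvd_one.mp
    · intro a ha ha1
      rw [eq_bot_of_isPGroup_of_not_dvd (hq a ha ha1) (hθ.1.2.1 a ha ha1), bot_inf_eq]
  · -- A is nontrivial
    have hAnt : ∃ a₀ ∈ A, a₀ ≠ 1 := by
      have h1 : 1 < Nat.card ↥A := by
        have hp2 : 2 ≤ p := (Fact.out : p.Prime).two_le
        have : 2 ^ 3 ≤ p ^ 3 := Nat.pow_le_pow_left hp2 3
        omega
      have hnt : Nontrivial ↥A := Finite.one_lt_card_iff_nontrivial.mp h1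
      obtain ⟨⟨a, ha⟩, hne⟩ := exists_ne (1 : ↥A)
      exact ⟨a, ha, fun h => hne (Subtype.ext h)⟩
    obtain ⟨a₀, ha₀, ha₀1⟩ := hAnt
    obtain ⟨Q, hQ, -⟩ := exists_isMaxQ_ge (p := p) (A := A) (θ := θ) (q := q) _ (θ a₀) rfl
      (theta_mem_signalizerFamily hθ ha₀ ha₀1) (hq a₀ ha₀ ha₀1)
    have hle : ∀ a ∈ A, a ≠ 1 → θ a ≤ Q := by
      intro a ha ha1
      obtain ⟨c, hc, hcQ⟩ := exists_conj_ge_of_isMaxQ hA hA3 hθ hqp hQ
        (theta_mem_signalizerFamily hθ ha ha1) (hq a ha ha1)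
      have hca : c ∈ θ a := mem_theta_of_mem_signalizerInf hc ha ha1
      intro x hx
      have h1 : c * x * c⁻¹ ∈ Q.map (MulAut.conj c).toMonoidHom :=
        hcQ ((θ a).mul_mem ((θ a).mul_mem hca hx) ((θ a).inv_mem hca))
      rw [mem_conjMap] at h1
      have : c⁻¹ * (c * x * c⁻¹) * c = x := by group
      rwa [this] at h1
    refine ⟨Q, hQ.1.2.2.1, hQ.1.2.1, ?_⟩
    intro a ha ha1
    exact le_antisymm (hQ.1.2.2.2 a ha ha1) (le_inf (hle a ha ha1) (hθ.1.1 a ha ha1))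

end Consequences

end Cfsg.Agent.Lib.Helper9

namespace Cfsg.Agent.Lib.Helper9

open Cfsg Cfsg.Agent.Lib.Helper12 Cfsg.Agent.Lib.Helper1

section Sylow

variable {G : Type*} [Group G] [Finite G]

/-- A `q`-subgroup of `K` containing an element of `SylSet q K` equals it. -/
theorem eq_of_sylSet_le {q : ℕ} [hq : Fact q.Prime] {K : Subgroup G} (R : SylSet q K)
    {P : Subgroup G} (hP : IsPGroup q ↥P) (hPK : P ≤ K) (hRP : R.1 ≤ P) : P = R.1 := by
  symm
  apply Subgroup.eq_of_le_of_card_ge hRP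
  obtain ⟨k, hk⟩ := IsPGroup.iff_card.mp hP
  rw [hk, R.2.2]
  have hdvd : q ^ k ∣ Nat.card K := hk ▸ Subgroup.card_dvd_of_le hPK
  have hK0 : Nat.card K ≠ 0 := Nat.card_pos.ne'
  exact Nat.pow_le_pow_right hq.out.pos ((hq.out.pow_dvd_iff_le_factorization hK0).mp hdvd)

/-- **S1284 (a)**. -/
theorem exists_conj_inf_sylow {p : ℕ} [Fact p.Prime] {A : Subgroup G}
    (hA : Cfsg.IsElementaryAbelian p A) (hA3 : p ^ 3 ≤ Nat.card ↥A) {θ : G → Subgroup G}
    (hθ : Cfsg.IsSolvableSignalizerFunctor p A θ) {q : ℕ} [Fact q.Prime] (hqp : q ≠ p)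
    {Q : Subgroup G} (hQ : IsMaxQ p A θ q Q) {H : Subgroup G}
    (hH : H ∈ Cfsg.signalizerFamily p A θ) :
    ∃ c ∈ Cfsg.signalizerInf A θ, ∃ R : SylSet q H,
      R.1 = Q.map (MulAut.conj c).toMonoidHom ⊓ H := by
  have hAH : A ≤ Subgroup.normalizer (H : Set G) := le_normalizer_of_forall_conj_mem hH.2.2.1
  have hact : CoprimeAct A H :=
    coprimeAct_of_exponent (isElementaryAbelian_comm hA) hA.2 hAH hH.2.1
  obtain ⟨R, hAR⟩ := hact.exists_invariant_sylSet q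
  have hRmem : R.1 ∈ Cfsg.signalizerFamily p A θ :=
    signalizerFamily_of_le hH R.2.1 (conj_invariant_of_le_normalizer hAR)
  have hRq : IsPGroup q ↥R.1 := IsPGroup.of_card R.2.2
  obtain ⟨c, hc, hcQ⟩ := exists_conj_ge_of_isMaxQ hA hA3 hθ hqp hQ hRmem hRq
  refine ⟨c, hc, R, ?_⟩
  symm
  exact eq_of_sylSet_le R ((isPGroup_conjMap hQ.2.1 c).to_le inf_le_left) inf_le_right
    (le_inf hcQ R.2.1)

/-- **S1284**. -/
theorem sylow_of_isMaxQ {p : ℕ} [Fact p.Prime] {A : Subgroup G}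
    (hA : Cfsg.IsElementaryAbelian p A) (hA3 : p ^ 3 ≤ Nat.card ↥A) {θ : G → Subgroup G}
    (hθ : Cfsg.IsSolvableSignalizerFunctor p A θ) {q : ℕ} [Fact q.Prime]
    (hq : ∃ a ∈ A, a ≠ 1 ∧ q ∣ Nat.card ↥(θ a)) {Q : Subgroup G} (hQ : IsMaxQ p A θ q Q) :
    (∀ H : Subgroup G, H ∈ Cfsg.signalizerFamily p A θ → ∃ c ∈ Cfsg.signalizerInf A θ,
      ∃ S : Sylow q ↥H, (S : Subgroup ↥H).map H.subtype = Q.map (MulAut.conj c).toMonoidHom ⊓ H) ∧
    (∀ B : Subgroup G, B ≤ A → B ≠ ⊥ → ∃ S : Sylow q ↥(Cfsg.signalizerInf B θ),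
      (S : Subgroup ↥(Cfsg.signalizerInf B θ)).map (Cfsg.signalizerInf B θ).subtype =
        Q ⊓ Subgroup.centralizer (B : Set G)) := by
  have hqp : q ≠ p := by
    rintro rfl
    obtain ⟨a, ha, ha1, hdvd⟩ := hq
    exact hθ.1.2.1 a ha ha1 hdvd
  constructor
  · intro H hH
    obtain ⟨c, hc, R, hR⟩ := exists_conj_inf_sylow hA hA3 hθ hqp hQ hH
    exact ⟨c, hc, R.toSylow, by rw [R.toSylow_map, hR]⟩
  · intro B hBA hB
    set IB := Cfsg.signalizerInf B θ with hIB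
    obtain ⟨b₀, hb₀⟩ := Subgroup.ne_bot_iff_exists_ne_one.mp hB
    have hb₀B : (b₀ : G) ∈ B := b₀.2
    have hb₀1 : (b₀ : G) ≠ 1 := fun h => hb₀ (Subtype.ext h)
    -- IB is a member of the family
    have hIBle : IB ≤ θ (b₀ : G) := fun x hx =>
      mem_theta_of_mem_signalizerInf hx hb₀B hb₀1
    have hIBinv : ∀ b ∈ A, ∀ v ∈ IB, b * v * b⁻¹ ∈ IB := by
      intro b hb v hv
      rw [hIB, mem_signalizerInf_iff] at hv ⊢
      intro a ha ha1
      exact hθ.1.2.2.1 a (hBA ha) ha1 b hb v (hv a ha ha1)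
    have hIBmem : IB ∈ Cfsg.signalizerFamily p A θ :=
      signalizerFamily_of_le (theta_mem_signalizerFamily hθ (hBA hb₀B) hb₀1) hIBle hIBinv
    obtain ⟨c, hc, R, hR⟩ := exists_conj_inf_sylow hA hA3 hθ hqp hQ hIBmem
    -- c lies in IB
    have hcIB : c ∈ IB := by
      rw [hIB, mem_signalizerInf_iff]
      intro a ha ha1
      exact mem_theta_of_mem_signalizerInf hc (hBA ha) ha1
    -- IB ≤ C(B)
    have hIBC : IB ≤ Subgroup.centralizer (B : Set G) := by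
      intro x hx
      rw [Subgroup.mem_centralizer_iff]
      intro b hb
      by_cases hb1 : b = 1
      · rw [hb1]; simp
      · have h1 := hθ.1.1 b (hBA hb) hb1 (mem_theta_of_mem_signalizerInf hx hb hb1)
        rw [Subgroup.mem_centralizer_iff] at h1
        exact h1 b rfl
    have hQC : Q ⊓ Subgroup.centralizer (B : Set G) = Q ⊓ IB := by
      apply le_antisymm
      · refine le_inf inf_le_left ?_
        intro x hx
        rw [hIB, mem_signalizerInf_iff]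
        intro a ha ha1
        apply hQ.1.2.2.2 a (hBA ha) ha1
        refine Subgroup.mem_inf.mpr ⟨(Subgroup.mem_inf.mp hx).1, ?_⟩
        exact Subgroup.centralizer_le (Set.singleton_subset_iff.mpr ha) (Subgroup.mem_inf.mp hx).2
      · exact inf_le_inf_left _ hIBC
    -- conjugate back by c⁻¹
    have hconj : (Q.map (MulAut.conj c).toMonoidHom ⊓ IB).map (MulAut.conj c⁻¹).toMonoidHom =
        Q ⊓ IB := by
      ext x
      rw [mem_conjMap, inv_inv, Subgroup.mem_inf, Subgroup.mem_inf, mem_conjMap]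
      have e : c⁻¹ * (c * x * c⁻¹) * c = x := by group
      rw [e]
      constructor
      · rintro ⟨h1, h2⟩
        refine ⟨h1, ?_⟩
        have : x = c⁻¹ * (c * x * c⁻¹) * c := by group
        rw [this]
        exact IB.mul_mem (IB.mul_mem (IB.inv_mem hcIB) h2) hcIB
      · rintro ⟨h1, h2⟩
        exact ⟨h1, IB.mul_mem (IB.mul_mem hcIB h2) (IB.inv_mem hcIB)⟩
    have hcard : Nat.card ↥(Q ⊓ IB) = q ^ (Nat.card IB).factorization q := by
      rw [← hconj, card_conjMap, ← hR, R.2.2]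
    let R' : SylSet q IB := ⟨Q ⊓ IB, inf_le_right, hcard⟩
    exact ⟨R'.toSylow, by rw [R'.toSylow_map, hQC]⟩

end Sylow

end Cfsg.Agent.Lib.Helper9
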