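import Mathlib

set_option autoImplicit false

/-!
# A transvection is a product of two regular unipotent maps (dimension at least 3)

Farm-out lemma for S2522.  Basis-free: a regular nilpotent `N` on `V` with kernel `K a`,
range inside `ker α` and `ker N² ≤ ker α` is built by induction on the dimension, from a
regular nilpotent map on the hyperplane `ker α`.
-/

namespace Cfsg.Agent.Lib.Helper9.Transv

open Module

universe u

variable {K : Type*} [Field K]

section step

variable {V : Type*} [AddCommGroup V] [Module K V]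

/-- The projection `v ↦ v - α v • w` onto `ker α` (where `α w = 1`). -/
noncomputable def proj (α : Module.Dual K V) (w : V) (hw : α w = 1) :
    V →ₗ[K] LinearMap.ker α :=
  LinearMap.codRestrict (LinearMap.ker α) (LinearMap.id - α.smulRight w)
    (fun v => LinearMap.mem_ker.mpr (by simp [hw]))

theorem proj_coe (α : Module.Dual K V) (w : V) (hw : α w = 1) (v : V) :
    ((proj α w hw v : LinearMap.ker α) : V) = v - α v • w := by
  show ((LinearMap.id : V →ₗ[K] V) - α.smulRight w) v = _
  simp

theorem proj_of_ker (α : Module.Dual K V) (w : V) (hw : α w = 1) (x : LinearMap.ker α) :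
    proj α w hw (x : V) = x := by
  apply Subtype.ext
  rw [proj_coe]
  have : α (x : V) = 0 := x.2
  simp [this]

/-- The extension of `NW : End (ker α)` to `V` sending `w` to `c`. -/
noncomputable def mkN (α : Module.Dual K V) (w : V) (hw : α w = 1)
    (NW : Module.End K (LinearMap.ker α)) (c : V) : Module.End K V :=
  (LinearMap.ker α).subtype ∘ₗ NW ∘ₗ proj α w hw + α.smulRight c

theorem mkN_apply (α : Module.Dual K V) (w : V) (hw : α w = 1)
    (NW : Module.End K (LinearMap.ker α)) (c : V) (v : V) :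
    mkN α w hw NW c v = ((NW (proj α w hw v) : LinearMap.ker α) : V) + α v • c := by
  simp [mkN]

theorem mkN_coe (α : Module.Dual K V) (w : V) (hw : α w = 1)
    (NW : Module.End K (LinearMap.ker α)) (c : V) (x : LinearMap.ker α) :
    mkN α w hw NW c (x : V) = ((NW x : LinearMap.ker α) : V) := by
  rw [mkN_apply, proj_of_ker]
  have : α (x : V) = 0 := x.2
  simp [this]

theorem alpha_mkN (α : Module.Dual K V) (w : V) (hw : α w = 1)
    (NW : Module.End K (LinearMap.ker α)) (c : V) (hc : α c = 0) (v : V) :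
    α (mkN α w hw NW c v) = 0 := by
  rw [mkN_apply, map_add, map_smul, hc]
  have : α ((NW (proj α w hw v) : LinearMap.ker α) : V) = 0 := (NW (proj α w hw v)).2
  simp [this]

theorem mkN_pow_coe (α : Module.Dual K V) (w : V) (hw : α w = 1)
    (NW : Module.End K (LinearMap.ker α)) (c : V) (j : ℕ) (x : LinearMap.ker α) :
    (mkN α w hw NW c ^ j) (x : V) = (((NW ^ j) x : LinearMap.ker α) : V) := by
  induction j generalizing x with
  | zero => simp
  | succ j ih =>
    rw [pow_succ, pow_succ, Module.End.mul_apply, Module.End.mul_apply, mkN_coe, ih]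

theorem step (α : Module.Dual K V) (a : V) (hαa : α a = 0) (w : V) (hw : α w = 1)
    (NW : Module.End K (LinearMap.ker α)) (k : ℕ) (hk : NW ^ k = 0)
    (hker : ∀ x : LinearMap.ker α, NW x = 0 → ∃ t : K, (x : V) = t • a)
    (hNa : NW ⟨a, LinearMap.mem_ker.mpr hαa⟩ = 0)
    (c : LinearMap.ker α) (hc : c ∉ LinearMap.range NW)
    (hca : (∃ y, NW y = ⟨a, LinearMap.mem_ker.mpr hαa⟩) ∨ (c : V) = a) :
    mkN α w hw NW (c : V) ^ (k + 1) = 0 ∧
      (∀ v, mkN α w hw NW (c : V) v = 0 → ∃ t : K, v = t • a) ∧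
      mkN α w hw NW (c : V) a = 0 ∧ (∃ y, mkN α w hw NW (c : V) y = a) ∧
      (∀ v, α (mkN α w hw NW (c : V) v) = 0) ∧
      ((∃ y, NW y = ⟨a, LinearMap.mem_ker.mpr hαa⟩) →
        ∀ v, mkN α w hw NW (c : V) (mkN α w hw NW (c : V) v) = 0 → α v = 0) := by
  have hcα : α (c : V) = 0 := c.2
  have hα0 : ∀ v, α (mkN α w hw NW (c : V) v) = 0 := alpha_mkN α w hw NW c hcα
  -- key: if `s • c` lies in the range of `NW` (as a vector) then `s = 0`
  have key : ∀ (s : K) (z : LinearMap.ker α), s • (c : V) = ((NW z : LinearMap.ker α) : V) →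
      s = 0 := by
    intro s z hz
    by_contra hs
    apply hc
    refine ⟨s⁻¹ • z, ?_⟩
    apply Subtype.ext
    rw [map_smul, Submodule.coe_smul, ← hz, smul_smul, inv_mul_cancel₀ hs, one_smul]
  refine ⟨?_, ?_, ?_, ?_, hα0, ?_⟩
  · -- nilpotent
    apply LinearMap.ext
    intro v
    rw [pow_succ, Module.End.mul_apply]
    have h1 : mkN α w hw NW (c : V) v =
        ((⟨mkN α w hw NW (c : V) v, LinearMap.mem_ker.mpr (hα0 v)⟩ : LinearMap.ker α) : V) := rfl
    rw [h1, mkN_pow_coe, hk]
    simp
  · -- kernel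
    intro v hv
    rw [mkN_apply] at hv
    have hs : α v = 0 := by
      apply key (α v) (- proj α w hw v)
      rw [map_neg, Submodule.coe_neg]
      exact eq_neg_of_add_eq_zero_right hv
    have hv2 : mkN α w hw NW (c : V) ((⟨v, LinearMap.mem_ker.mpr hs⟩ : LinearMap.ker α) : V) =
        0 := by
      show mkN α w hw NW (c : V) v = 0
      rw [mkN_apply]; exact hv
    rw [mkN_coe] at hv2
    have hv3 : NW ⟨v, LinearMap.mem_ker.mpr hs⟩ = 0 := Subtype.ext hv2
    exact hker _ hv3
  · -- N a = 0
    have := mkN_coe α w hw NW (c : V) ⟨a, LinearMap.mem_ker.mpr hαa⟩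
    rw [hNa] at this
    simpa using this
  · -- a in range
    rcases hca with ⟨y, hy⟩ | hca
    · refine ⟨(y : V), ?_⟩
      rw [mkN_coe, hy]
    · refine ⟨w, ?_⟩
      rw [mkN_apply, hw, one_smul, hca]
      have : proj α w hw w = 0 := by
        apply Subtype.ext
        rw [proj_coe, hw]
        simp
      rw [this]
      simp
  · -- ker N² ≤ ker α
    rintro ⟨y, hy⟩ v hv
    have h1 : mkN α w hw NW (c : V) v =
        ((⟨mkN α w hw NW (c : V) v, LinearMap.mem_ker.mpr (hα0 v)⟩ : LinearMap.ker α) : V) := rfl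
    rw [h1, mkN_coe] at hv
    have hv3 : NW ⟨mkN α w hw NW (c : V) v, LinearMap.mem_ker.mpr (hα0 v)⟩ = 0 :=
      Subtype.ext hv
    obtain ⟨t, ht⟩ := hker _ hv3
    have ht' : mkN α w hw NW (c : V) v = t • a := ht
    rw [mkN_apply] at ht'
    apply key (α v) (t • y - proj α w hw v)
    rw [map_sub, map_smul, hy, Submodule.coe_sub, Submodule.coe_smul]
    show α v • (c : V) = t • a - _
    rw [← ht']
    abel

end step

section induction

/-- A nonzero functional has a vector of value `1`. -/
theorem exists_apply_eq_one {V : Type*} [AddCommGroup V] [Module K V] (α : Module.Dual K V)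
    (hα : α ≠ 0) : ∃ w : V, α w = 1 := by
  obtain ⟨w0, hw0⟩ : ∃ w0, α w0 ≠ 0 := by
    by_contra h
    push Not at h
    exact hα (LinearMap.ext h)
  refine ⟨(α w0)⁻¹ • w0, ?_⟩
  rw [map_smul, smul_eq_mul, inv_mul_cancel₀ hw0]

/-- The kernel of a nonzero functional is a hyperplane. -/
theorem finrank_ker_add_one {V : Type*} [AddCommGroup V] [Module K V] [FiniteDimensional K V]
    (α : Module.Dual K V) (hα : α ≠ 0) : finrank K (LinearMap.ker α) + 1 = finrank K V := by
  obtain ⟨w, hw⟩ := exists_apply_eq_one α hα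
  have hr : LinearMap.range α = ⊤ := by
    rw [LinearMap.range_eq_top]
    intro r
    exact ⟨r • w, by rw [map_smul, hw, smul_eq_mul, mul_one]⟩
  have h := LinearMap.finrank_range_add_finrank_ker α
  rw [hr, finrank_top, finrank_self] at h
  omega

/-- An endomorphism of a finite-dimensional space killing a nonzero vector is not onto. -/
theorem exists_not_mem_range {W : Type*} [AddCommGroup W] [Module K W] [FiniteDimensional K W]
    (N : Module.End K W) (a : W) (ha : a ≠ 0) (hNa : N a = 0) :
    ∃ c : W, c ∉ LinearMap.range N := by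
  by_contra h
  push Not at h
  have hsurj : Function.Surjective N := fun c => h c
  have hinj : Function.Injective N := LinearMap.injective_iff_surjective.mpr hsurj
  exact ha (hinj (by rw [hNa, map_zero]))

theorem exists_regular_nilpotent (m : ℕ) :
    ∀ (W : Type u) [AddCommGroup W] [Module K W] [FiniteDimensional K W],
      finrank K W = m + 1 → ∀ a : W, a ≠ 0 →
      ∃ N : Module.End K W, N ^ (m + 1) = 0 ∧ (∀ v, N v = 0 → ∃ t : K, v = t • a) ∧ N a = 0 ∧
        (1 ≤ m → ∃ y, N y = a) := by
  induction m with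
  | zero =>
    intro W _ _ _ hW a ha
    refine ⟨0, by simp, ?_, by simp, by omega⟩
    intro v _
    obtain ⟨t, ht⟩ := (finrank_eq_one_iff_of_nonzero' a ha).mp (by simpa using hW) v
    exact ⟨t, ht.symm⟩
  | succ m ih =>
    intro V _ _ _ hV a ha
    -- a nonzero functional killing `a`
    obtain ⟨α, hαa, hα⟩ : ∃ α : Module.Dual K V, α a = 0 ∧ α ≠ 0 := by
      have hlt : finrank K K < finrank K (Module.Dual K V) := by
        rw [Subspace.dual_finrank_eq, finrank_self, hV]; omega
      have hne := LinearMap.ker_ne_bot_of_finrank_lt (f := Module.Dual.eval K V a) hlt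
      obtain ⟨α, hαmem, hα0⟩ := Submodule.exists_mem_ne_zero_of_ne_bot hne
      exact ⟨α, by simpa using hαmem, hα0⟩
    obtain ⟨w, hw⟩ := exists_apply_eq_one α hα
    have hfr : finrank K (LinearMap.ker α) = m + 1 := by
      have := finrank_ker_add_one α hα
      omega
    have ha' : (⟨a, LinearMap.mem_ker.mpr hαa⟩ : LinearMap.ker α) ≠ 0 := by
      intro h
      exact ha (congrArg Subtype.val h)
    obtain ⟨NW, hk, hker, hNa, hrange⟩ := ih (LinearMap.ker α) hfr _ ha'
    have hker' : ∀ x : LinearMap.ker α, NW x = 0 → ∃ t : K, (x : V) = t • a := by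
      intro x hx
      obtain ⟨t, ht⟩ := hker x hx
      exact ⟨t, by rw [ht]; rfl⟩
    obtain ⟨c, hc, hca⟩ : ∃ c : LinearMap.ker α, c ∉ LinearMap.range NW ∧
        ((∃ y, NW y = ⟨a, LinearMap.mem_ker.mpr hαa⟩) ∨ (c : V) = a) := by
      by_cases hy : ∃ y, NW y = ⟨a, LinearMap.mem_ker.mpr hαa⟩
      · obtain ⟨c, hc⟩ := exists_not_mem_range NW _ ha' hNa
        exact ⟨c, hc, Or.inl hy⟩
      · refine ⟨⟨a, LinearMap.mem_ker.mpr hαa⟩, ?_, Or.inr rfl⟩
        rintro ⟨y, hy'⟩
        exact hy ⟨y, hy'⟩
    obtain ⟨h1, h2, h3, h4, -, -⟩ := step α a hαa w hw NW (m + 1) hk hker' hNa c hc hca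
    exact ⟨mkN α w hw NW (c : V), h1, h2, h3, fun _ => h4⟩

end induction

/-- **Transvection case of S2522.**  In dimension at least `3`, a transvection `1 + a ⊗ α`
is a product of two regular unipotent maps. -/
theorem transvection_eq_mul {K : Type*} [Field K] {V : Type*} [AddCommGroup V] [Module K V]
    [FiniteDimensional K V] (hn : 3 ≤ Module.finrank K V) (a : V) (α : Module.Dual K V)
    (ha : a ≠ 0) (hα : α ≠ 0) (hαa : α a = 0) :
    ∃ A B : Module.End K V, (1 : Module.End K V) + α.smulRight a = A * B ∧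
      ((∃ k : ℕ, (A - 1) ^ k = 0) ∧ ∃ p : V, ∀ v : V, A v = v → ∃ t : K, v = t • p) ∧
      ((∃ k : ℕ, (B - 1) ^ k = 0) ∧ ∃ p : V, ∀ v : V, B v = v → ∃ t : K, v = t • p) := by
  obtain ⟨w, hw⟩ := exists_apply_eq_one α hα
  have hfr : finrank K (LinearMap.ker α) = (finrank K V - 3) + 1 + 1 := by
    have := finrank_ker_add_one α hα
    omega
  have ha' : (⟨a, LinearMap.mem_ker.mpr hαa⟩ : LinearMap.ker α) ≠ 0 := by
    intro h
    exact ha (congrArg Subtype.val h)
  obtain ⟨NW, hk, hker, hNa, hrange⟩ :=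
    exists_regular_nilpotent (K := K) ((finrank K V - 3) + 1) (LinearMap.ker α) hfr _ ha'
  have hker' : ∀ x : LinearMap.ker α, NW x = 0 → ∃ t : K, (x : V) = t • a := by
    intro x hx
    obtain ⟨t, ht⟩ := hker x hx
    exact ⟨t, by rw [ht]; rfl⟩
  have hy := hrange (by omega)
  obtain ⟨c, hc⟩ := exists_not_mem_range NW _ ha' hNa
  obtain ⟨h1, h2, h3, -, h5, h6⟩ :=
    step α a hαa w hw NW _ hk hker' hNa c hc (Or.inl hy)
  have h6 := h6 hy
  set N : Module.End K V := mkN α w hw NW (c : V) with hN
  set T : Module.End K V := α.smulRight a with hT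
  have hnil : IsNilpotent N := ⟨_, h1⟩
  obtain ⟨u, hu⟩ := hnil.isUnit_one_add
  have hAC : (1 + N) * ((u⁻¹ : (Module.End K V)ˣ) : Module.End K V) = 1 := by
    rw [← hu]; exact u.mul_inv
  have hCA : ((u⁻¹ : (Module.End K V)ˣ) : Module.End K V) * (1 + N) = 1 := by
    rw [← hu]; exact u.inv_mul
  set C : Module.End K V := ((u⁻¹ : (Module.End K V)ˣ) : Module.End K V) with hC
  have hNT : N * T = 0 := by
    apply LinearMap.ext
    intro v
    simp [hT, Module.End.mul_apply, h3]
  have hTN : T * N = 0 := by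
    apply LinearMap.ext
    intro v
    simp [hT, Module.End.mul_apply, h5]
  have hTT : T * T = 0 := by
    apply LinearMap.ext
    intro v
    simp [hT, Module.End.mul_apply, hαa]
  have hcomm : Commute N C := by
    have h0 : Commute N ((u : (Module.End K V)ˣ) : Module.End K V) := by
      rw [hu]
      exact (Commute.one_right N).add_right (Commute.refl N)
    exact h0.units_inv_right
  have hX : C - 1 = -(C * N) := by
    have : C - 1 = C - C * (1 + N) := by rw [hCA]
    rw [this, mul_add, mul_one]; abel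
  have hXnil : IsNilpotent (C - 1) := by
    rw [hX]
    refine IsNilpotent.neg ?_
    exact (hcomm.symm).isNilpotent_mul_left hnil
  have hXT : (C - 1) * T = 0 := by
    rw [hX, neg_mul, mul_assoc, hNT, mul_zero, neg_zero]
  have hTX : T * (C - 1) = 0 := by
    rw [hX, mul_neg, hcomm.symm.eq, ← mul_assoc, hTN, zero_mul, neg_zero]
  refine ⟨1 + N, C + T, ?_, ⟨⟨finrank K V - 3 + 1 + 1 + 1, ?_⟩, a, ?_⟩, ⟨?_, a, ?_⟩⟩
  · rw [mul_add, hAC, add_mul, one_mul, hNT, add_zero]
  · rw [add_sub_cancel_left]; exact h1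
  · intro v hv
    apply h2
    have : (1 + N) v = v + N v := by simp
    rw [this] at hv
    exact left_eq_add.mp hv.symm
  · have hB : C + T - 1 = (C - 1) + T := by abel
    have hTnil : IsNilpotent T := ⟨2, by rw [pow_two]; exact hTT⟩
    have hc2 : Commute (C - 1) T := by
      show (C - 1) * T = T * (C - 1)
      rw [hXT, hTX]
    obtain ⟨k, hk⟩ := hc2.isNilpotent_add hXnil hTnil
    exact ⟨k, by rw [hB]; exact hk⟩
  · intro v hv
    have hv1 : C v + α v • a = v := by
      have : (C + T) v = C v + α v • a := by simp [hT]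
      rw [← this]; exact hv
    have hv2 : (1 + N) (C v) = v := by
      have := congrArg (fun f : Module.End K V => f v) hAC
      simpa [Module.End.mul_apply] using this
    have hv3 : N v = α v • a := by
      have h7 : (1 + N) (C v + α v • a) = (1 + N) v := by rw [hv1]
      rw [map_add, hv2, map_smul] at h7
      have h8 : (1 + N) a = a := by simp [h3]
      have h9 : (1 + N) v = v + N v := by simp
      rw [h8, h9] at h7
      exact (add_left_cancel h7).symm
    have hv4 : N (N v) = 0 := by rw [hv3, map_smul, h3, smul_zero]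
    have hv5 : α v = 0 := h6 v hv4
    apply h2
    rw [hv3, hv5, zero_smul]

end Cfsg.Agent.Lib.Helper9.Transv
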