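import Mathlib
import Cfsg.Prelude
import Cfsg.Agent.H5.Cores
import Cfsg.Agent.Lib.Helper17.Coprime

/-!
# Helper9 library TwoCon1: `2`-constrained groups with trivial core, internal form

For a subgroup `H` of `G`, `O2 H` is `O_2(H)` as a subgroup of `G`, and `Char2 H` says
`C_H(O_2(H)) ≤ O_2(H)`; this is equivalent to `H` being `2`-constrained with `O(H) = 1`
(`char2_of_isPConstrained`, `isPConstrained_of_char2`).
-/

set_option autoImplicit false

namespace Cfsg.Agent.Lib.Helper9.TwoCon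

open Cfsg

section types

variable {X : Type*} [Group X]

theorem pPrimePCore_eq_pCore_of_bot' {p : ℕ} (h : Cfsg.pPrimeCore p X = ⊥) :
    Cfsg.pPrimePCore p X = Cfsg.pCore p X := by
  apply le_antisymm
  · apply Cfsg.H5.le_pCore
    · unfold Cfsg.pPrimePCore; exact Subgroup.Normal.comap (Cfsg.H5.pCore_normal p _) _
    · unfold Cfsg.pPrimePCore
      apply IsPGroup.comap_of_ker_isPGroup (Cfsg.H5.pCore_isPGroup p _)
      rw [QuotientGroup.ker_mk', h]
      exact IsPGroup.of_bot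
  · unfold Cfsg.pPrimePCore
    rw [← Subgroup.map_le_iff_le_comap]
    apply Cfsg.H5.le_pCore
    · exact Subgroup.Normal.map (Cfsg.H5.pCore_normal p X) _ (QuotientGroup.mk'_surjective _)
    · exact (Cfsg.H5.pCore_isPGroup p X).map _

/-- a `2`-constrained group with trivial core has `C(O_2) ≤ O_2` -/
theorem centralizer_pCore_le [Finite X] (hc : Cfsg.IsPConstrained 2 X) (hO : Cfsg.oddCore X = ⊥) :
    Subgroup.centralizer ((Cfsg.pCore 2 X : Subgroup X) : Set X) ≤ Cfsg.pCore 2 X := by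
  have : Fact (Nat.Prime 2) := ⟨Nat.prime_two⟩
  have hO' : Cfsg.pPrimeCore 2 X = ⊥ := hO
  have heq := pPrimePCore_eq_pCore_of_bot' hO'
  obtain ⟨P⟩ : Nonempty (Sylow 2 ↥(Cfsg.pPrimePCore 2 X)) := inferInstance
  have hP := hc P
  have hR2 : IsPGroup 2 ↥(Cfsg.pPrimePCore 2 X) := by
    rw [heq]; exact Cfsg.H5.pCore_isPGroup 2 X
  have hPtop : (P : Subgroup ↥(Cfsg.pPrimePCore 2 X)) = ⊤ := by
    have := P.is_maximal' (Q := ⊤) (by
      intro g
      obtain ⟨k, hk⟩ := hR2 g.1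
      exact ⟨k, Subtype.ext (by simpa using hk)⟩) le_top
    exact this.symm
  rw [hPtop, ← MonoidHom.range_eq_map, Subgroup.range_subtype, heq] at hP
  exact hP

/-- conversely -/
theorem isPConstrained_of_centralizer_pCore_le [Finite X]
    (h : Subgroup.centralizer ((Cfsg.pCore 2 X : Subgroup X) : Set X) ≤ Cfsg.pCore 2 X) :
    Cfsg.IsPConstrained 2 X ∧ Cfsg.oddCore X = ⊥ := by
  have : Fact (Nat.Prime 2) := ⟨Nat.prime_two⟩
  have hQn : (Cfsg.pCore 2 X).Normal := Cfsg.H5.pCore_normal 2 X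
  have hOn : (Cfsg.pPrimeCore 2 X).Normal := Cfsg.H5.pPrimeCore_normal 2 X
  have hdisj : Cfsg.pCore 2 X ⊓ Cfsg.pPrimeCore 2 X = ⊥ := by
    apply disjoint_iff.mp
    apply Subgroup.disjoint_of_coprime_natCard
    obtain ⟨n, hn⟩ := IsPGroup.iff_card.mp (Cfsg.H5.pCore_isPGroup 2 X)
    rw [hn]
    exact Nat.Coprime.pow_left n (Cfsg.H5.coprime_card_pPrimeCore 2 X).symm
  have hcomm : ⁅Cfsg.pCore 2 X, Cfsg.pPrimeCore 2 X⁆ = ⊥ := by
    rw [eq_bot_iff, ← hdisj]
    exact Subgroup.commutator_le_inf _ _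
  have hO : Cfsg.pPrimeCore 2 X = ⊥ := by
    rw [eq_bot_iff, ← hdisj]
    refine le_inf ?_ le_rfl
    refine le_trans ?_ h
    rw [Subgroup.commutator_comm] at hcomm
    exact Subgroup.commutator_eq_bot_iff_le_centralizer.mp hcomm
  refine ⟨?_, hO⟩
  have heq := pPrimePCore_eq_pCore_of_bot' hO
  intro P
  have hR2 : IsPGroup 2 ↥(Cfsg.pPrimePCore 2 X) := by
    rw [heq]; exact Cfsg.H5.pCore_isPGroup 2 X
  have hPtop : (P : Subgroup ↥(Cfsg.pPrimePCore 2 X)) = ⊤ := by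
    have := P.is_maximal' (Q := ⊤) (by
      intro g
      obtain ⟨k, hk⟩ := hR2 g.1
      exact ⟨k, Subtype.ext (by simpa using hk)⟩) le_top
    exact this.symm
  rw [hPtop, ← MonoidHom.range_eq_map, Subgroup.range_subtype, heq]
  exact h

end types

section subgroups

variable {G : Type*} [Group G]

/-- `O_2(H)` as a subgroup of `G` -/
def O2 (H : Subgroup G) : Subgroup G := (Cfsg.pCore 2 ↥H).map H.subtype

theorem O2_le (H : Subgroup G) : O2 H ≤ H := by
  unfold O2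
  exact Subgroup.map_subtype_le _

theorem O2_isPGroup (H : Subgroup G) : IsPGroup 2 (O2 H) := by
  unfold O2
  exact (Cfsg.H5.pCore_isPGroup 2 ↥H).map _

theorem conj_mem_O2 {H : Subgroup G} {h x : G} (hh : h ∈ H) (hx : x ∈ O2 H) :
    h * x * h⁻¹ ∈ O2 H := by
  unfold O2 at hx ⊢
  obtain ⟨y, hy, rfl⟩ := hx
  have := (Cfsg.H5.pCore_normal 2 ↥H).conj_mem y hy ⟨h, hh⟩
  exact ⟨_, this, rfl⟩

theorem le_normalizer_O2 (H : Subgroup G) : H ≤ Subgroup.normalizer ((O2 H : Subgroup G) : Set G) := by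
  intro h hh
  rw [Subgroup.mem_normalizer_iff]
  intro x
  constructor
  · exact fun hx => conj_mem_O2 hh hx
  · intro hx
    have := conj_mem_O2 (H.inv_mem hh) hx
    have e : h⁻¹ * (h * x * h⁻¹) * h⁻¹⁻¹ = x := by group
    rwa [e] at this

theorem le_O2 {H Q : Subgroup G} (hQH : Q ≤ H) (hn : ∀ h ∈ H, ∀ x ∈ Q, h * x * h⁻¹ ∈ Q)
    (hQ : IsPGroup 2 Q) : Q ≤ O2 H := by
  have hnorm : (Q.subgroupOf H).Normal := by
    constructor
    intro x hx h
    rw [Subgroup.mem_subgroupOf] at hx ⊢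
    exact hn h.1 h.2 x hx
  have hp : IsPGroup 2 (Q.subgroupOf H) := hQ.comap_subtype
  have h := Cfsg.H5.le_pCore hnorm hp
  intro x hx
  exact ⟨⟨x, hQH hx⟩, h (Subgroup.mem_subgroupOf.mpr hx), rfl⟩

/-- `C_H(O_2(H)) ≤ O_2(H)` -/
def Char2 (H : Subgroup G) : Prop :=
  H ⊓ Subgroup.centralizer ((O2 H : Subgroup G) : Set G) ≤ O2 H

theorem char2_of_isPConstrained [Finite G] {H : Subgroup G} (hc : Cfsg.IsPConstrained 2 ↥H)
    (hO : Cfsg.oddCore ↥H = ⊥) : Char2 H := by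
  have h := centralizer_pCore_le hc hO
  intro x hx
  obtain ⟨hxH, hxc⟩ := Subgroup.mem_inf.mp hx
  have : (⟨x, hxH⟩ : ↥H) ∈ Subgroup.centralizer ((Cfsg.pCore 2 ↥H : Subgroup ↥H) : Set ↥H) := by
    rw [Subgroup.mem_centralizer_iff]
    intro y hy
    apply Subtype.ext
    have hy' : (y : G) ∈ O2 H := ⟨y, hy, rfl⟩
    exact Subgroup.mem_centralizer_iff.mp hxc _ hy'
  exact ⟨_, h this, rfl⟩

theorem isPConstrained_of_char2 [Finite G] {H : Subgroup G} (h : Char2 H) :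
    Cfsg.IsPConstrained 2 ↥H ∧ Cfsg.oddCore ↥H = ⊥ := by
  apply isPConstrained_of_centralizer_pCore_le
  intro x hx
  have hx' : (x : G) ∈ H ⊓ Subgroup.centralizer ((O2 H : Subgroup G) : Set G) := by
    refine Subgroup.mem_inf.mpr ⟨x.2, ?_⟩
    rw [Subgroup.mem_centralizer_iff]
    rintro _ ⟨y, hy, rfl⟩
    exact congrArg Subtype.val (Subgroup.mem_centralizer_iff.mp hx y hy)
  obtain ⟨y, hy, hyx⟩ := h hx'
  have : y = x := Subtype.ext hyx
  rwa [← this]

end subgroups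

end Cfsg.Agent.Lib.Helper9.TwoCon
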