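import Cfsg.Agent.Lib.Helper9.TwoCon3

/-!
# Helper9 library TwoCon4: a Sylow `2`-subgroup normalizes no odd-order subgroup (main statement)
-/

set_option autoImplicit false

namespace Cfsg.Agent.Lib.Helper9.TwoCon

open Cfsg

variable {G : Type*} [Group G] [Finite G]

/-- If all involution centralizers are `Char2` and `S ∈ Syl₂(G)` has an abelian normal subgroup
containing a subgroup of exponent `2` and order `> 4`, then `S` normalizes no nontrivial
subgroup of odd order. -/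
theorem eq_bot_of_sylow_le_normalizer (S : Sylow 2 G) (A : Subgroup G)
    (hAS : A ≤ (S : Subgroup G)) (hSA : (S : Subgroup G) ≤ Subgroup.normalizer (A : Set G))
    (hAc : ∀ a ∈ A, ∀ b ∈ A, a * b = b * a)
    (B : Subgroup G) (hBA : B ≤ A) (hB2 : ∀ b ∈ B, b ^ 2 = 1) (hB4 : 4 < Nat.card B)
    (hinv : ∀ t : G, orderOf t = 2 → Char2 (Subgroup.centralizer ({t} : Set G)))
    (X : Subgroup G) (hXodd : Odd (Nat.card X))
    (hSX : (S : Subgroup G) ≤ Subgroup.normalizer (X : Set G)) : X = ⊥ := by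
  have : Fact (Nat.Prime 2) := ⟨Nat.prime_two⟩
  let Ω : Subgroup G :=
    { carrier := {x | x ∈ A ∧ x ^ 2 = 1}
      one_mem' := ⟨A.one_mem, one_pow 2⟩
      mul_mem' := by
        rintro x y ⟨hx, hx2⟩ ⟨hy, hy2⟩
        refine ⟨A.mul_mem hx hy, ?_⟩
        have hc : Commute x y := hAc x hx y hy
        rw [hc.mul_pow, hx2, hy2, one_mul]
      inv_mem' := by
        rintro x ⟨hx, hx2⟩
        exact ⟨A.inv_mem hx, by rw [inv_pow, hx2, inv_one]⟩ }
  have hΩA : Ω ≤ A := fun x hx => hx.1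
  have hΩS : Ω ≤ (S : Subgroup G) := hΩA.trans hAS
  have hΩ2 : ∀ x ∈ Ω, x * x = 1 := fun x hx => by rw [← pow_two]; exact hx.2
  have hΩn : ∀ s ∈ (S : Subgroup G), ∀ x ∈ Ω, s * x * s⁻¹ ∈ Ω := by
    intro s hs x hx
    refine ⟨(Subgroup.mem_normalizer_iff.mp (hSA hs) x).mp hx.1, ?_⟩
    rw [conj_pow, hx.2]; group
  have hΩ4 : 4 < Nat.card Ω :=
    lt_of_lt_of_le hB4 (Subgroup.card_le_of_le (fun b hb => ⟨hBA hb, hB2 b hb⟩))
  have : Group.IsNilpotent ↥(S : Subgroup G) := S.isPGroup'.isNilpotent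
  set N : Subgroup ↥(S : Subgroup G) := Ω.subgroupOf (S : Subgroup G) with hN
  have hNn : N.Normal := by
    constructor
    intro x hx s
    rw [hN, Subgroup.mem_subgroupOf] at hx ⊢
    exact hΩn s.1 s.2 x hx
  have hNcard : Nat.card N = Nat.card Ω :=
    Nat.card_congr (Subgroup.subgroupOfEquivOfLe hΩS).toEquiv
  have hNbot : N ≠ ⊥ := by
    intro h
    rw [h, Subgroup.card_bot] at hNcard
    omega
  obtain ⟨⟨z', hz'⟩, hz'1⟩ := (Subgroup.ne_bot_iff_exists_ne_one).mp
    (Cfsg.Agent.Lib.Helper1.inf_center_ne_bot_of_normal N hNbot)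
  obtain ⟨hz'N, hz'c⟩ := Subgroup.mem_inf.mp hz'
  have hzΩ : (z' : G) ∈ Ω := Subgroup.mem_subgroupOf.mp hz'N
  have hz1 : (z' : G) ≠ 1 := by
    intro h
    apply hz'1
    exact Subtype.ext (Subtype.ext h)
  have hz'1' : z' ≠ 1 := fun h => hz1 (by rw [h]; rfl)
  have hzc : ∀ s ∈ (S : Subgroup G), (z' : G) * s = s * (z' : G) := by
    intro s hs
    have := Subgroup.mem_center_iff.mp hz'c ⟨s, hs⟩
    exact (congrArg Subtype.val this).symm
  have hz2 : (z' : G) * (z' : G) = 1 := hΩ2 _ hzΩ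
  have hz'2 : z' * z' = 1 := Subtype.ext hz2
  -- the quotient by `⟨z⟩`
  set Zs : Subgroup ↥(S : Subgroup G) := Subgroup.zpowers z' with hZs
  have hZc : Zs ≤ Subgroup.center ↥(S : Subgroup G) := Subgroup.zpowers_le.mpr hz'c
  have hZn : Zs.Normal := ⟨fun x hx g => by
    have := Subgroup.mem_center_iff.mp (hZc hx) g
    rw [this, mul_inv_cancel_right]; exact hx⟩
  have hZcard : Nat.card Zs ≤ 2 := by
    rw [hZs, Nat.card_zpowers]
    apply Nat.le_of_dvd two_pos
    apply orderOf_dvd_of_pow_eq_one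
    rw [pow_two]; exact hz'2
  set Nbar : Subgroup (↥(S : Subgroup G) ⧸ Zs) := N.map (QuotientGroup.mk' Zs) with hNbar
  have hNbarn : Nbar.Normal := Subgroup.Normal.map hNn _ (QuotientGroup.mk'_surjective Zs)
  have hNbarbot : Nbar ≠ ⊥ := by
    intro h
    have h1 : N ≤ (QuotientGroup.mk' Zs).ker := (Subgroup.map_eq_bot_iff _).mp h
    rw [QuotientGroup.ker_mk'] at h1
    have := Subgroup.card_le_of_le h1
    omega
  obtain ⟨⟨abar, habar⟩, habar1⟩ := (Subgroup.ne_bot_iff_exists_ne_one).mp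
    (Cfsg.Agent.Lib.Helper1.inf_center_ne_bot_of_normal Nbar hNbarbot)
  obtain ⟨habarN, habarc⟩ := Subgroup.mem_inf.mp habar
  obtain ⟨a', ha'N, ha'bar⟩ := habarN
  have haΩ : (a' : G) ∈ Ω := Subgroup.mem_subgroupOf.mp ha'N
  have ha'Z : a' ∉ Zs := by
    intro h
    apply habar1
    apply Subtype.ext
    show abar = 1
    rw [← ha'bar]
    exact (QuotientGroup.eq_one_iff a').mpr h
  have hconj : ∀ s ∈ (S : Subgroup G), s * (a' : G) * s⁻¹ = (a' : G) ∨
      s * (a' : G) * s⁻¹ = (a' : G) * (z' : G) := by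
    intro s hs
    have h1 := Subgroup.mem_center_iff.mp habarc (QuotientGroup.mk' Zs ⟨s, hs⟩)
    rw [← ha'bar] at h1
    have h2 : (QuotientGroup.mk' Zs) ((⟨s, hs⟩ : ↥(S : Subgroup G)) * a' * ⟨s, hs⟩⁻¹ * a'⁻¹) = 1 := by
      rw [map_mul, map_mul, map_mul, map_inv, map_inv, h1]
      group
    have h3 : (⟨s, hs⟩ : ↥(S : Subgroup G)) * a' * ⟨s, hs⟩⁻¹ * a'⁻¹ ∈ Zs :=
      (QuotientGroup.eq_one_iff _).mp h2
    rcases eq_one_or_eq_of_mem_zpowers hz'2 h3 with h4 | h4
    · left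
      have h5 : s * (a' : G) * s⁻¹ * (a' : G)⁻¹ = 1 := by
        have := congrArg Subtype.val h4
        simpa using this
      calc s * (a' : G) * s⁻¹ = (s * (a' : G) * s⁻¹ * (a' : G)⁻¹) * (a' : G) := by group
        _ = (a' : G) := by rw [h5, one_mul]
    · right
      have h5 : s * (a' : G) * s⁻¹ * (a' : G)⁻¹ = (z' : G) := by
        have := congrArg Subtype.val h4
        simpa using this
      calc s * (a' : G) * s⁻¹ = (s * (a' : G) * s⁻¹ * (a' : G)⁻¹) * (a' : G) := by group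
        _ = (z' : G) * (a' : G) := by rw [h5]
        _ = (a' : G) * (z' : G) := hAc _ (hΩA hzΩ) _ (hΩA haΩ)
  -- abbreviations
  obtain ⟨z, hzdef⟩ : ∃ z : G, z = (z' : G) := ⟨_, rfl⟩
  obtain ⟨a, hadef⟩ : ∃ a : G, a = (a' : G) := ⟨_, rfl⟩
  rw [← hzdef] at hzΩ hz1 hzc hz2 hconj
  rw [← hadef] at haΩ hconj
  have ha1 : a ≠ 1 := by
    intro h
    apply ha'Z
    have : a' = 1 := Subtype.ext (by rw [← hadef, h]; rfl)
    rw [this]; exact Zs.one_mem
  have haz : a ≠ z := by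
    intro h
    apply ha'Z
    have : a' = z' := Subtype.ext (by rw [← hadef, ← hzdef, h])
    rw [this]; exact Subgroup.mem_zpowers z'
  have ha2 : a * a = 1 := hΩ2 _ haΩ
  have hcomm : a * z = z * a := hAc _ (hΩA haΩ) _ (hΩA hzΩ)
  have hzS : z ∈ (S : Subgroup G) := hΩS hzΩ
  have haS : a ∈ (S : Subgroup G) := hΩS haΩ
  have hoz : orderOf z = 2 := orderOf_eq_prime (by rw [pow_two]; exact hz2) hz1
  have hoa : orderOf a = 2 := orderOf_eq_prime (by rw [pow_two]; exact ha2) ha1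
  have haz2 : (a * z) * (a * z) = 1 := by
    calc (a * z) * (a * z) = a * (z * a) * z := by group
      _ = a * (a * z) * z := by rw [hcomm]
      _ = (a * a) * (z * z) := by group
      _ = 1 := by rw [ha2, hz2, one_mul]
  have haz1 : a * z ≠ 1 := by
    intro h
    apply haz
    calc a = (a * z) * z⁻¹ := by group
      _ = z⁻¹ := by rw [h, one_mul]
      _ = z := inv_eq_of_mul_eq_one_left hz2
  have hoaz : orderOf (a * z) = 2 := orderOf_eq_prime (by rw [pow_two]; exact haz2) haz1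
  have hzconj : ∀ s ∈ (S : Subgroup G), s * z * s⁻¹ = z := by
    intro s hs
    rw [← hzc s hs]; group
  have hfz := inf_centralizer_eq_bot S hXodd hSX (hinv z hoz)
    (relIndex_centralizer_dvd_two hzc hz2 (fun s hs => Or.inl (hzconj s hs)))
  have hfa := inf_centralizer_eq_bot S hXodd hSX (hinv a hoa)
    (relIndex_centralizer_dvd_two hzc hz2 hconj)
  have hfaz := inf_centralizer_eq_bot S hXodd hSX (hinv (a * z) hoaz)
    (relIndex_centralizer_dvd_two hzc hz2 (fun s hs => by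
      have e : s * (a * z) * s⁻¹ = (s * a * s⁻¹) * (s * z * s⁻¹) := by group
      rw [e, hzconj s hs]
      rcases hconj s hs with h | h
      · left; rw [h]
      · right; rw [h]))
  have hiz := inverts_of_fpf hz2 (hSX hzS) hfz
  have hia := inverts_of_fpf ha2 (hSX haS) hfa
  rw [eq_bot_iff]
  intro x hx
  have hmem : x ∈ X ⊓ Subgroup.centralizer ({a * z} : Set G) := by
    refine Subgroup.mem_inf.mpr ⟨hx, ?_⟩
    rw [mem_centralizer_singleton]
    have h1 : (a * z) * x * (a * z)⁻¹ = x := by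
      calc (a * z) * x * (a * z)⁻¹ = a * (z * x * z⁻¹) * a⁻¹ := by group
        _ = a * x⁻¹ * a⁻¹ := by rw [hiz x hx]
        _ = (a * x * a⁻¹)⁻¹ := by group
        _ = x := by rw [hia x hx, inv_inv]
    calc (a * z) * x = ((a * z) * x * (a * z)⁻¹) * (a * z) := by group
      _ = x * (a * z) := by rw [h1]
  rw [hfaz] at hmem
  exact hmem

end Cfsg.Agent.Lib.Helper9.TwoCon
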