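import Mathlib
import Cfsg.Agent.Lib.Helper28.BSGSPerm
import Cfsg.Agent.Lib.Helper7.U34Defs
import Cfsg.Agent.Lib.Helper7.U34Cert
import Cfsg.Agent.Lib.Helper7.U34Cert2
import Cfsg.Agent.Lib.Helper9.U34PB0

/-!
# S3663, piece PB (helper9): the bridge `Γ ≃* genGroup 832 10 gens`

`Γ = ⟨gP, gT, gD⟩ ≤ GL₁₂(𝔽₅)` permutes the 832 orbit vectors as helper7's tables say.  The relation
`R = {(g, σ) | g *ᵥ ov j = ov (σ j) for all j}` is a subgroup of `GL × Perm`; the closure `K` of the three generator pairs lies in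
it, projects onto `Γ` and onto the permutation group, and both projections are injective on `R`.
-/

set_option autoImplicit false
set_option maxRecDepth 100000

namespace Cfsg.Agent.Lib.Helper9.U34PB

open Matrix Cfsg.Agent.Lib.Helper28.BSGS Cfsg.Agent.Lib.Helper7.U34 Cfsg.Agent.Lib.Helper9.U34PB0

/-- the ambient matrix group -/
abbrev GL12 := GL (Fin 12) (ZMod 5)
/-- the ambient permutation group -/
abbrev P832 := Equiv.Perm (Fin 832)

/-- the orbit vectors -/
def ov (j : Fin 832) : V12 := vecOf (orbL.getD j.val [])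

theorem orb_mem (j : ℕ) (hj : j < 832) : orbL.getD j [] ∈ orbL := by
  rw [List.getD_eq_getElem _ _ (by rw [orb_len]; exact hj)]
  exact List.getElem_mem _

theorem orb_row_length (j : ℕ) (hj : j < 832) : (orbL.getD j []).length = 12 := by
  have h := orb_wf
  rw [List.all_eq_true] at h
  simpa using h _ (orb_mem j hj)

theorem orb_row_lt (j : ℕ) (hj : j < 832) : ∀ x ∈ orbL.getD j [], x < 5 := by
  have h := orb_lt
  rw [List.all_eq_true] at h
  have h2 := h _ (orb_mem j hj)
  rw [List.all_eq_true] at h2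
  intro x hx
  simpa using h2 x hx

theorem ov_injective : Function.Injective ov := by
  intro i j h
  have h1 := vecOf_inj _ _ (orb_row_length i.val i.isLt) (orb_row_length j.val j.isLt)
    (orb_row_lt i.val i.isLt) (orb_row_lt j.val j.isLt) h
  have hi : i.val < orbL.length := by rw [orb_len]; exact i.isLt
  have hj : j.val < orbL.length := by rw [orb_len]; exact j.isLt
  rw [List.getD_eq_getElem _ _ hi, List.getD_eq_getElem _ _ hj] at h1
  exact Fin.ext ((List.Nodup.getElem_inj_iff orb_nodup).mp h1)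

/-- the relation subgroup -/
def R : Subgroup (GL12 × P832) where
  carrier := {x | ∀ j : Fin 832, (x.1 : Matrix (Fin 12) (Fin 12) (ZMod 5)) *ᵥ ov j = ov (x.2 j)}
  mul_mem' := by
    intro a b ha hb j
    show ((a.1 * b.1 : GL12) : Matrix (Fin 12) (Fin 12) (ZMod 5)) *ᵥ ov j = ov ((a.2 * b.2) j)
    rw [Units.val_mul, ← Matrix.mulVec_mulVec, hb j, ha (b.2 j)]
    rfl
  one_mem' := by
    intro j
    show ((1 : GL12) : Matrix (Fin 12) (Fin 12) (ZMod 5)) *ᵥ ov j = ov ((1 : P832) j)
    rw [Units.val_one, Matrix.one_mulVec]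
    rfl
  inv_mem' := by
    intro a ha j
    show ((a.1⁻¹ : GL12) : Matrix (Fin 12) (Fin 12) (ZMod 5)) *ᵥ ov j = ov (a.2⁻¹ j)
    have h := ha (a.2⁻¹ j)
    have hh : a.2 (a.2⁻¹ j) = j := by rw [Equiv.Perm.inv_def]; exact Equiv.apply_symm_apply _ _
    rw [hh] at h
    rw [← h, Matrix.mulVec_mulVec, ← Units.val_mul, inv_mul_cancel, Units.val_one, Matrix.one_mulVec]

theorem mem_R (x : GL12 × P832) :
    x ∈ R ↔ ∀ j : Fin 832, (x.1 : Matrix (Fin 12) (Fin 12) (ZMod 5)) *ᵥ ov j = ov (x.2 j) := Iff.rfl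

/-- a generator acting as its table lies in `R` -/
theorem mem_R_of_act (g : GL12) (A : List (List ℕ)) (t ti : ℕ) (hg : (g : Matrix (Fin 12) (Fin 12) (ZMod 5)) = toMat A)
    (hA : wfB A = true) (hact : actOK A t = true) (hp : pairOK 832 10 t ti = true) :
    (g, permOf 832 10 t ti) ∈ R := by
  rw [mem_R]
  intro j
  dsimp only
  unfold ov
  rw [hg, mulVec_toMat A _ hA (orb_row_length j.val j.isLt), permOf_apply hp]
  unfold actOK at hact
  rw [List.all_eq_true] at hact
  have h := hact j.val (List.mem_range.mpr j.isLt)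
  rw [eq_of_beq h]

theorem pair_all : pairOK 832 10 tP tPi = true ∧ pairOK 832 10 tT tTi = true ∧ pairOK 832 10 tD tDi = true := by
  have h := gensOK_spec 832 10 gens_ok
  exact ⟨h (tP, tPi) (by simp [gens]), h (tT, tTi) (by simp [gens]), h (tD, tDi) (by simp [gens])⟩

/-- the permutations of the three generators -/
noncomputable def sP : P832 := permOf 832 10 tP tPi
noncomputable def sT : P832 := permOf 832 10 tT tTi
noncomputable def sD : P832 := permOf 832 10 tD tDi

theorem pP_mem : (gP, sP) ∈ R := mem_R_of_act gP rP tP tPi gP_val wf_all.1 actP_ok pair_all.1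
theorem pT_mem : (gT, sT) ∈ R := mem_R_of_act gT rT tT tTi gT_val wf_all.2.2.1 actT_ok pair_all.2.1
theorem pD_mem : (gD, sD) ∈ R := mem_R_of_act gD rD tD tDi gD_val wf_all.2.2.2.2.1 actD_ok pair_all.2.2

/-- the closure of the three generator pairs -/
noncomputable def K : Subgroup (GL12 × P832) := Subgroup.closure {(gP, sP), (gT, sT), (gD, sD)}

theorem K_le_R : K ≤ R := by
  unfold K
  rw [Subgroup.closure_le]
  intro x hx
  simp only [Set.mem_insert_iff, Set.mem_singleton_iff] at hx
  rcases hx with rfl | rfl | rfl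
  · exact pP_mem
  · exact pT_mem
  · exact pD_mem

theorem K_map_fst : K.map (MonoidHom.fst GL12 P832) = Gam := by
  unfold K Gam
  rw [MonoidHom.map_closure]
  congr 1
  simp [Set.image_insert_eq]

theorem genGroup_eq : genGroup 832 10 gens = Subgroup.closure {sP, sT, sD} := by
  unfold genGroup
  congr 1
  ext s
  simp [semGens, gens, sP, sT, sD]

theorem K_map_snd : K.map (MonoidHom.snd GL12 P832) = genGroup 832 10 gens := by
  rw [genGroup_eq]
  unfold K
  rw [MonoidHom.map_closure]
  congr 1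
  simp [Set.image_insert_eq]

theorem snd_eq_one_of_fst (x : GL12 × P832) (hx : x ∈ R) (h : x.1 = 1) : x.2 = 1 := by
  ext j
  have h1 := hx j
  rw [h, Units.val_one, Matrix.one_mulVec] at h1
  have h2 := ov_injective h1
  rw [← h2]
  rfl

theorem basis_lt : ∀ c : Fin 12, basisIdx.getD c.val 0 < 832 := by decide

theorem bM_all : wfB bM = true ∧ wfB bMi = true ∧ (mmL bM bMi == idL) = true ∧ (mmL bMi bM == idL) = true := by
  have h := bM_ok
  simp only [Bool.and_eq_true] at h
  obtain ⟨⟨⟨h1, h2⟩, h3⟩, h4⟩ := h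
  exact ⟨h1, h2, h3, h4⟩

theorem bM_col (c : Fin 12) : (fun k : Fin 12 => toMat bM k c) = ov ⟨basisIdx.getD c.val 0, basis_lt c⟩ := by
  have h := bM_cols
  rw [List.all_eq_true] at h
  have h1 := eq_of_beq (h c.val (List.mem_range.mpr c.isLt))
  funext k
  unfold ov vecOf toMat
  show (((bM.getD k.val []).getD c.val 0 : ℕ) : ZMod 5) = _
  rw [← colL_getD bM bM_all.1 c.val k.val k.isLt, h1]

theorem fst_eq_one_of_snd (x : GL12 × P832) (hx : x ∈ R) (h : x.2 = 1) : x.1 = 1 := by
  have h1 : ∀ j : Fin 832, (x.1 : Matrix (Fin 12) (Fin 12) (ZMod 5)) *ᵥ ov j = ov j := by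
    intro j
    have := hx j
    rw [h] at this
    exact this
  have h2 : (x.1 : Matrix (Fin 12) (Fin 12) (ZMod 5)) * toMat bM = toMat bM := by
    ext i c
    have h3 := congrFun (h1 ⟨basisIdx.getD c.val 0, basis_lt c⟩) i
    rw [← bM_col c] at h3
    exact h3
  have h4 : toMat bM * toMat bMi = 1 := by
    rw [toMat_mmL bM bMi bM_all.1 bM_all.2.1, eq_of_beq bM_all.2.2.1, toMat_idL]
  have h5 : (x.1 : Matrix (Fin 12) (Fin 12) (ZMod 5)) = 1 := by
    calc (x.1 : Matrix (Fin 12) (Fin 12) (ZMod 5))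
        = (x.1 : Matrix (Fin 12) (Fin 12) (ZMod 5)) * (toMat bM * toMat bMi) := by rw [h4, mul_one]
      _ = toMat bM * toMat bMi := by rw [← mul_assoc, h2]
      _ = 1 := h4
  exact Units.ext h5

/-- first projection on `K` -/
noncomputable def f1 : ↥K →* GL12 := (MonoidHom.fst GL12 P832).comp K.subtype
/-- second projection on `K` -/
noncomputable def f2 : ↥K →* P832 := (MonoidHom.snd GL12 P832).comp K.subtype

theorem f1_injective : Function.Injective f1 := by
  rw [injective_iff_map_eq_one]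
  intro x hx
  have h1 : x.1.1 = 1 := hx
  have h2 : x.1.2 = 1 := snd_eq_one_of_fst x.1 (K_le_R x.2) h1
  exact Subtype.ext (Prod.ext h1 h2)

theorem f2_injective : Function.Injective f2 := by
  rw [injective_iff_map_eq_one]
  intro x hx
  have h2 : x.1.2 = 1 := hx
  have h1 : x.1.1 = 1 := fst_eq_one_of_snd x.1 (K_le_R x.2) h2
  exact Subtype.ext (Prod.ext h1 h2)

theorem f1_range : f1.range = Gam := by
  unfold f1
  rw [MonoidHom.range_comp, Subgroup.range_subtype, K_map_fst]

theorem f2_range : f2.range = genGroup 832 10 gens := by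
  unfold f2
  rw [MonoidHom.range_comp, Subgroup.range_subtype, K_map_snd]

/-- **PB**: the bridge -/
theorem gam_equiv : Nonempty (↥Gam ≃* ↥(genGroup 832 10 gens)) := by
  let e1 : ↥K ≃* ↥Gam := (MonoidHom.ofInjective f1_injective).trans (MulEquiv.subgroupCongr f1_range)
  let e2 : ↥K ≃* ↥(genGroup 832 10 gens) :=
    (MonoidHom.ofInjective f2_injective).trans (MulEquiv.subgroupCongr f2_range)
  exact ⟨e1.symm.trans e2⟩

end Cfsg.Agent.Lib.Helper9.U34PB
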