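import Cfsg.Agent.Lib.Helper9.U35MinPerm

/-!
# S2149 (helper9): certificates for the two actions

Transitivity of `rho` (126 points), of the stabiliser of the point `0` on the other 125 points, of `sig` (50 points);
the elements `u1 = bababab`, `u2 = abab⁻¹ab⁻⁴ab⁻¹ab`, `t = bab³ab³ab⁻²` of the stabiliser of `0` and the identities
between their images.
-/

set_option autoImplicit false
set_option linter.unusedSimpArgs false

namespace Cfsg.Agent.Lib.Helper9.U35Min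

open scoped commutatorElement
open Data

section tree
variable {G : Type*} [Group G] {n : ℕ}

/-- transitivity from a spanning tree: `par x` is the parent of `x ≠ b`, reached from it by `p (lab x)` -/
theorem reach_tree {ι : Type*} (σ : G →* Equiv.Perm (Fin n)) (p : ι → Equiv.Perm (Fin n))
    (hp : ∀ i, ∃ g, σ g = p i) (b : Fin n) (par : Fin n → Fin n) (lab : Fin n → ι)
    (h1 : ∀ x, x ≠ b → p (lab x) (par x) = x) (N : ℕ) (h2 : ∀ x, par^[N] x = b) :
    ∀ x, ∃ g, σ g b = x := by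
  have key : ∀ k x, (∃ g, σ g b = par^[k] x) → ∃ g, σ g b = x := by
    intro k
    induction k with
    | zero => intro x h; simpa using h
    | succ k ih =>
      intro x h
      rw [Function.iterate_succ_apply] at h
      obtain ⟨g1, hg1⟩ := ih (par x) h
      by_cases hx : x = b
      · exact ⟨1, by simp [hx]⟩
      · obtain ⟨g0, hg0⟩ := hp (lab x)
        refine ⟨g0 * g1, ?_⟩
        rw [map_mul, Equiv.Perm.mul_apply, hg1, hg0, h1 x hx]
  intro x
  exact key N x ⟨1, by simp [h2 x]⟩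

/-- transitivity of the stabiliser of `b` on the other points from a spanning tree rooted at `c` -/
theorem stab_tree {κ : Type*} (σ : G →* Equiv.Perm (Fin n)) (b c : Fin n)
    (t : κ → Equiv.Perm (Fin n)) (ht : ∀ k, ∃ g, σ g = t k) (htb : ∀ k, t k b = b)
    (par : Fin n → Fin n) (lab : Fin n → κ)
    (h1 : ∀ y, y ≠ b → y ≠ c → t (lab y) (par y) = y) (N : ℕ) (h2 : ∀ y, y ≠ b → par^[N] y = c) :
    ∀ y, y ≠ b → ∃ g, σ g b = b ∧ σ g c = y := by
  have key : ∀ k y, y ≠ b → (∃ g, σ g b = b ∧ σ g c = par^[k] y) → ∃ g, σ g b = b ∧ σ g c = y := by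
    intro k
    induction k with
    | zero => intro y _ h; simpa using h
    | succ k ih =>
      intro y hyb h
      rw [Function.iterate_succ_apply] at h
      by_cases hyc : y = c
      · exact ⟨1, by simp, by simp [hyc]⟩
      · have hpar : par y ≠ b := by
          intro hp
          have := h1 y hyb hyc
          rw [hp, htb] at this
          exact hyb this.symm
        obtain ⟨g1, hg1b, hg1⟩ := ih (par y) hpar h
        obtain ⟨g0, hg0⟩ := ht (lab y)
        refine ⟨g0 * g1, ?_, ?_⟩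
        · rw [map_mul, Equiv.Perm.mul_apply, hg1b, hg0, htb]
        · rw [map_mul, Equiv.Perm.mul_apply, hg1, hg0, h1 y hyb hyc]
  intro y hy
  exact key N y hy ⟨1, by simp, by simp [h2 y hy]⟩

end tree

/-! ### the action on 126 points -/

/-- `a`, `b`, `b⁻¹` -/
def p3 (i : Fin 3) : Equiv.Perm (Fin 126) := if i = 0 then a126 else if i = 1 then b126 else b126⁻¹

theorem hp3 : ∀ i, ∃ g : P, rho g = p3 i := by
  intro i
  fin_cases i
  · exact ⟨pa, rho_a⟩
  · exact ⟨pb, rho_b⟩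
  · exact ⟨pb⁻¹, by rw [map_inv, rho_b]; rfl⟩

def par1 (x : Fin 126) : Fin 126 := ⟨lk 7 tPar1 x.val % 126, Nat.mod_lt _ (by norm_num)⟩
def lab1 (x : Fin 126) : Fin 3 := ⟨lk 2 tLab1 x.val % 3, Nat.mod_lt _ (by norm_num)⟩

theorem tree1_h1 : ∀ x : Fin 126, x ≠ 0 → p3 (lab1 x) (par1 x) = x := by decide +kernel
theorem tree1_h2 : ∀ x : Fin 126, par1^[10] x = 0 := by decide +kernel

/-- `P` is transitive on the 126 points -/
theorem rho_trans : ∀ x : Fin 126, ∃ g : P, rho g 0 = x :=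
  reach_tree rho p3 hp3 0 par1 lab1 tree1_h1 10 tree1_h2

/-- the words `u1, u2, t` in `P` -/
def u1P : P := pb * pa * pb * pa * pb * pa * pb
def u2P : P := pa * pb * pa * pb⁻¹ * pa * pb⁻¹ * pb⁻¹ * pb⁻¹ * pb⁻¹ * pa * pb⁻¹ * pa * pb
def tP : P := pb * pa * pb * pb * pb * pa * pb * pb * pb * pa * pb⁻¹ * pb⁻¹

/-- their images -/
def U1 : Equiv.Perm (Fin 126) := b126 * a126 * b126 * a126 * b126 * a126 * b126
def U2 : Equiv.Perm (Fin 126) := a126 * b126 * a126 * b126⁻¹ * a126 * b126⁻¹ * b126⁻¹ * b126⁻¹ * b126⁻¹ * a126 * b126⁻¹ * a126 * b126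
def T : Equiv.Perm (Fin 126) := b126 * a126 * b126 * b126 * b126 * a126 * b126 * b126 * b126 * a126 * b126⁻¹ * b126⁻¹

theorem rho_u1 : rho u1P = U1 := by simp only [u1P, U1, map_mul, map_inv, rho_a, rho_b]
theorem rho_u2 : rho u2P = U2 := by simp only [u2P, U2, map_mul, map_inv, rho_a, rho_b]
theorem rho_t : rho tP = T := by simp only [tP, T, map_mul, map_inv, rho_a, rho_b]

theorem U1_fix : U1 0 = 0 := by decide +kernel
theorem U2_fix : U2 0 = 0 := by decide +kernel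
theorem T_fix : T 0 = 0 := by decide +kernel

theorem U1_pow : U1 ^ 5 = 1 := by
  have h : U1 * U1 * U1 * U1 * U1 = 1 := by apply Equiv.ext; decide +kernel
  rw [← h]; simp only [pow_succ, pow_zero, one_mul]

theorem U2_pow : U2 ^ 5 = 1 := by
  have h : U2 * U2 * U2 * U2 * U2 = 1 := by apply Equiv.ext; decide +kernel
  rw [← h]; simp only [pow_succ, pow_zero, one_mul]

theorem U_nc : U1 * U2 ≠ U2 * U1 := by
  intro h
  have h1 : (U1 * U2) 1 = (U2 * U1) 1 := by rw [h]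
  revert h1
  decide +kernel

/-- `z = [u1, u2]` -/
def ZZ : Equiv.Perm (Fin 126) := U1 * U2 * U1⁻¹ * U2⁻¹

theorem ZZ_eq : ⁅U1, U2⁆ = ZZ := rfl

theorem T_U1 : T ^ 2 * U1 * (T ^ 2)⁻¹ = ⁅U1, U2⁆ ^ 4 * U1 ^ 2 := by
  have h : T * T * U1 * (T * T)⁻¹ = ZZ * ZZ * ZZ * ZZ * (U1 * U1) := by apply Equiv.ext; decide +kernel
  rw [ZZ_eq]
  simp only [pow_succ, pow_zero, one_mul]
  exact h

theorem T_U2 : T ^ 2 * U2 * (T ^ 2)⁻¹ = ⁅U1, U2⁆ ^ 0 * U2 ^ 2 := by
  have h : T * T * U2 * (T * T)⁻¹ = U2 * U2 := by apply Equiv.ext; decide +kernel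
  simp only [pow_succ, pow_zero, one_mul]
  exact h

/-- `u1, u2, u1⁻¹, u2⁻¹` -/
def q4 (i : Fin 4) : Equiv.Perm (Fin 126) :=
  if i = 0 then U1 else if i = 1 then U2 else if i = 2 then U1⁻¹ else U2⁻¹

theorem hq4 : ∀ i, ∃ g : P, rho g = q4 i := by
  intro i
  fin_cases i
  · exact ⟨u1P, rho_u1⟩
  · exact ⟨u2P, rho_u2⟩
  · exact ⟨u1P⁻¹, by rw [map_inv, rho_u1]; rfl⟩
  · exact ⟨u2P⁻¹, by rw [map_inv, rho_u2]; rfl⟩

theorem q4_fix : ∀ k, q4 k 0 = 0 := by decide +kernel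

def par2 (x : Fin 126) : Fin 126 := ⟨lk 7 tPar2 x.val % 126, Nat.mod_lt _ (by norm_num)⟩
def lab2 (x : Fin 126) : Fin 4 := ⟨lk 2 tLab2 x.val % 4, Nat.mod_lt _ (by norm_num)⟩

theorem tree2_h1 : ∀ y : Fin 126, y ≠ 0 → y ≠ 1 → q4 (lab2 y) (par2 y) = y := by decide +kernel
theorem tree2_h2 : ∀ y : Fin 126, y ≠ 0 → par2^[6] y = 1 := by decide +kernel

/-- the stabiliser of `0` is transitive on the other 125 points -/
theorem rho_stab_trans : ∀ y : Fin 126, y ≠ 0 → ∃ g : P, rho g 0 = 0 ∧ rho g 1 = y :=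
  stab_tree rho 0 1 q4 hq4 q4_fix par2 lab2 tree2_h1 6 tree2_h2

/-! ### the action on 50 points -/

def r3 (i : Fin 3) : Equiv.Perm (Fin 50) := if i = 0 then a50 else if i = 1 then b50 else b50⁻¹

theorem hr3 : ∀ i, ∃ g : P, sig g = r3 i := by
  intro i
  fin_cases i
  · exact ⟨pa, sig_a⟩
  · exact ⟨pb, sig_b⟩
  · exact ⟨pb⁻¹, by rw [map_inv, sig_b]; rfl⟩

def par3 (x : Fin 50) : Fin 50 := ⟨lk 6 sPar x.val % 50, Nat.mod_lt _ (by norm_num)⟩
def lab3 (x : Fin 50) : Fin 3 := ⟨lk 2 sLab x.val % 3, Nat.mod_lt _ (by norm_num)⟩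

theorem tree3_h1 : ∀ x : Fin 50, x ≠ 0 → r3 (lab3 x) (par3 x) = x := by decide +kernel
theorem tree3_h2 : ∀ x : Fin 50, par3^[10] x = 0 := by decide +kernel

/-- `P` is transitive on the 50 points -/
theorem sig_trans : ∀ x : Fin 50, ∃ g : P, sig g 0 = x :=
  reach_tree sig r3 hr3 0 par3 lab3 tree3_h1 10 tree3_h2

end Cfsg.Agent.Lib.Helper9.U35Min
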