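import Mathlib

/-! S2149 (helper9): packed tables for the actions of PSU₃(5) on 126 and on 50 points (generated). -/

set_option autoImplicit false

namespace Cfsg.Agent.Lib.Helper9.U35Min.Data

def tA : ℕ := 0x3ebb684c73f51b22915a0f4ab16dd37643038e249381103ba0a4c7949aae86228ca1f59844317aca50d98be05960cbd8e37ad4b63096af01245ff8c8e1fdc9eefb40e80d547739cbe01d4f76db68675e5b5b3706b1b9127a4d39a88ae1f507a64afe6342de14dda553c53ee595880
def tB : ℕ := 0x207937b43bf7a7fd5c4c05cf40c4b4615ea3e49ad07371875516a620c80d1c4478cbe68034ef2959c42a584597937a56be275bf6e0576bcc96c7a308494ba59b82c7b1e50d274bd77c167d9a9c1075c5626ae66ea44c2a2f96e0893ec6a44e22c55951bba620c5a4ed8ce73daf073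
def tBi : ℕ := 0xae987d7e46a70127000672269263d3205817ed099474a668f601aefdbf48821422599f127164ddb0531509c974b41d7852611c6eb37df0afbb1187b8c26a1a3d43efafcdd681e90a23e76a0fce4161b867a5ec0d750f7582895ad8db825bad5db36ee583505c8af3bd517bcd3955
def tPar1 : ℕ := 0x206987b7e467bb3d700065ca6926133242a17e209041713b54a4caf49bf4884544a1f9c044ee4d5b0431581c594b43d6a37a91c6e896af0116b1a2c8e14dc19b8240f80d546779d7e0167f7a9ce867c45a6a566ea450135a4d35a90dc6f44fa64b36d1bba615cda553cc97e5af000
def tLab1 : ℕ := 0x965895951246220456418999914815009821a1022289089a91066205a840928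
def tPar2 : ℕ := 0x28470d7e801ebdc0d4a16bb09bba9069e4bd347366830f3f8cd72c7e24aa114b48f207def78606eb39351d5bc3729154c558e6b471faff08fadd8e5a03f110d04fa48af3103539d612ce1aa69d7ef680e15def08c56a62be79f76f5eb91460c2a926ab6672ffbda31a844f5b5c080
def tLab2 : ℕ := 0x5f99b5a8d7ee8d09ca2c1af4e521f37885623f9336036806d9a4adfd27dd0
def sA : ℕ := 0xc70beeaacaeda298a17de8e79a09646da75c5924594d05585d434c3ce1c61442ca2480c2001
def sB : ℕ := 0xc2db319a4bee761ae2aa76d85e3a657285a07de38b28950869564f1874d24500c134c005102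
def sBi : ℕ := 0xbb1aeac2f9e57dc92d7ac826a1a658a5d8d13e285b4132ca24839714459551230d0811c0183
def sPar : ℕ := 0xbadb2a9a49e57e18a279e6d85da6586da5913d238b2892c824834c1841c61440c1081000000
def sLab : ℕ := 0x69a5624a95094aa650900a590
def depth1 : ℕ := 10
def depth2 : ℕ := 6
def depth3 : ℕ := 10

end Cfsg.Agent.Lib.Helper9.U35Min.Data
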