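import Cfsg.Agent.Lib.Helper9.U35MinCert
import Cfsg.Agent.Lib.Helper12.U35MinIndex
import Cfsg.Agent.Lib.Helper12.U35MinG
import Cfsg.Agent.Lib.Helper4.TC.U35Iso

/-!
# S2149 (helper9): both halves for the presented group `P` of order 126000
-/

set_option autoImplicit false
set_option linter.style.haveILetI false

namespace Cfsg.Agent.Lib.Helper9.U35Min

open scoped commutatorElement
open Cfsg.Agent.Helper4.TC

theorem simple_P : IsSimpleGroup P := U35PS.main.1

theorem card_P : Nat.card P = 126000 := U35PS.main.2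

theorem finite_P : Finite P := Nat.finite_of_card_ne_zero (by rw [card_P]; norm_num)

theorem a126_ne_one : a126 ≠ 1 := by
  intro h
  have h1 : a126 1 = (1 : Equiv.Perm (Fin 126)) 1 := by rw [h]
  revert h1
  decide +kernel

theorem rho_inj : Function.Injective rho := by
  haveI := simple_P
  rw [← MonoidHom.ker_eq_bot_iff]
  rcases IsSimpleGroup.eq_bot_or_eq_top_of_normal rho.ker inferInstance with h | h
  · exact h
  · exfalso
    apply a126_ne_one
    have : pa ∈ rho.ker := by rw [h]; trivial
    rw [MonoidHom.mem_ker, rho_a] at this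
    exact this

/-- the action of `P` on the 126 points -/
@[reducible] def actP : MulAction P (Fin 126) := MulAction.compHom (Fin 126) rho

theorem smul_eq (g : P) (x : Fin 126) : (letI := actP; g • x) = rho g x := rfl

theorem two_trans : (letI := actP; MulAction.IsMultiplyPretransitive P (Fin 126) 2) := by
  letI := actP
  apply two_pretransitive_of (0 : Fin 126)
  · intro x
    obtain ⟨g, hg⟩ := rho_trans x
    exact ⟨g, hg⟩
  · intro y y' hy hy'
    obtain ⟨g1, h10, h11⟩ := rho_stab_trans y hy
    obtain ⟨g2, h20, h21⟩ := rho_stab_trans y' hy'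
    refine ⟨g2 * g1⁻¹, ?_, ?_⟩
    · show rho (g2 * g1⁻¹) 0 = 0
      rw [map_mul, map_inv, Equiv.Perm.mul_apply]
      have : (rho g1)⁻¹ 0 = 0 := by
        rw [Equiv.Perm.inv_eq_iff_eq]; exact h10.symm
      rw [this, h20]
    · show rho (g2 * g1⁻¹) y = y'
      rw [map_mul, map_inv, Equiv.Perm.mul_apply]
      have : (rho g1)⁻¹ y = 1 := by
        rw [Equiv.Perm.inv_eq_iff_eq]; exact h11.symm
      rw [this, h21]

theorem lower : ∀ H : Subgroup P, H ≠ ⊤ → 50 ≤ H.index := by
  haveI := simple_P
  haveI := finite_P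
  letI := actP
  haveI := two_trans
  intro H hH
  refine min_index (G := P) card_P (Ω := Fin 126) (by simp) (0 : Fin 126) u1P u2P tP ?_ ?_ ?_ ?_ ?_ ?_ ?_ ?_ H hH
  · show rho u1P 0 = 0
    rw [rho_u1]; exact U1_fix
  · show rho u2P 0 = 0
    rw [rho_u2]; exact U2_fix
  · show rho tP 0 = 0
    rw [rho_t]; exact T_fix
  · apply rho_inj
    rw [map_pow, rho_u1, U1_pow, map_one]
  · apply rho_inj
    rw [map_pow, rho_u2, U2_pow, map_one]
  · intro h
    apply U_nc
    have := congrArg rho h
    rwa [map_mul, map_mul, rho_u1, rho_u2] at this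
  · refine ⟨4, ?_⟩
    apply rho_inj
    rw [map_mul, map_mul, map_inv, map_pow, map_mul, map_pow, map_pow, map_commutatorElement,
      rho_t, rho_u1, rho_u2]
    exact T_U1
  · refine ⟨0, ?_⟩
    apply rho_inj
    rw [map_mul, map_mul, map_inv, map_pow, map_mul, map_pow, map_pow, map_commutatorElement,
      rho_t, rho_u1, rho_u2]
    exact T_U2

theorem upper : ∃ H : Subgroup P, H.index = 50 := exists_index_fifty sig sig_trans

end Cfsg.Agent.Lib.Helper9.U35Min
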