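import Cfsg.Agent.Lib.Helper7.U62M.Defs
import Cfsg.Agent.Lib.Helper7.U62M.CertData
import Cfsg.Agent.Lib.Helper23.U62MCLA
import Cfsg.Agent.Lib.Helper11.U62MWord
import Cfsg.Agent.Lib.Helper4.TC.MatSU

set_option autoImplicit false
set_option maxRecDepth 100000
set_option linter.unusedVariables false

/-! S2091-[CL-B] (helper9; port of helper6's `Fi22M.CLB`; a spare copy of the piece of helper11), tools: the
certificates of `U62M.CertData` hold in `P ≅ PSU₆(2)`.  Every identity is a word identity, checked by helper4's unitary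
matrices (`P_word_eq_one` of helper11: the matrix of the word is scalar; powers are taken at the level of matrices). -/

namespace Cfsg.Agent.Lib.Helper7.U62M

open Cfsg Cfsg.Agent.Helper4.TC

namespace CLBAlt

/-- the element of `P` of a code word -/
noncomputable def pw (w : List ℕ) : P := evc (PresentedGroup.of (rels := RP)) dec w

theorem pw_nil : pw [] = 1 := rfl

theorem pw_append (u v : List ℕ) : pw (u ++ v) = pw v * pw u := evc_append _ _ u v

theorem pw_invW (w : List ℕ) : pw (invW w) = (pw w)⁻¹ := evc_invW _ U62QCod.coding w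

theorem pw_enc (i : Gen) : pw [enc i] = PresentedGroup.of i := by
  unfold pw
  rw [evc_cons, evc_nil, one_mul]
  have h : dec (enc i) = (i, true) := U62QCod.coding.dec_enc i
  rw [h]
  rfl

/-- the word check: the matrix of the word is scalar -/
noncomputable def chk (w : List ℕ) : Bool := isScal (MatD.evM (dlM U62Mat.DQ U62Mat.DQ) (w.map dec))

theorem pw_eq_one (w : List ℕ) (h : chk w = true) : pw w = 1 := P_word_eq_one w h

/-- the matrix of a code word -/
noncomputable def mw (w : List ℕ) : MatD 6 Cfsg.Agent.Lib.Helper6.FFour.K4 :=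
  MatD.evM (dlM U62Mat.DQ U62Mat.DQ) (w.map dec)

/-- powers at the level of data -/
def powM (X : MatD 6 Cfsg.Agent.Lib.Helper6.FFour.K4) : ℕ → MatD 6 Cfsg.Agent.Lib.Helper6.FFour.K4
  | 0 => MatD.one
  | k + 1 => (powM X k).mul X

theorem toMatE_powM (X : MatD 6 Cfsg.Agent.Lib.Helper6.FFour.K4) (k : ℕ) :
    (powM X k).toMatE (Equiv.refl (Fin 6)) = (X.toMatE (Equiv.refl (Fin 6))) ^ k := by
  induction k with
  | zero => rw [pow_zero]; exact MatD.toMatE_one _
  | succ k ih => rw [pow_succ, ← ih]; exact MatD.toMatE_mul _ _ _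

/-- the power check: the power of the matrix of the word is scalar -/
noncomputable def chkP (w : List ℕ) (k : ℕ) : Bool := isScal (powM (mw w) k)

open Cfsg.Agent.Lib.Helper6.FFour in
theorem pw_pow_eq_one (w : List ℕ) (k : ℕ) (h : chkP w k = true) : pw w ^ k = 1 := by
  obtain ⟨φ, hφ, hbij⟩ := U62Iso.exists_iso
  apply hbij.1
  unfold pw
  rw [map_one, map_pow, Schur.map_evc]
  have h1 : (fun a => φ (PresentedGroup.of (rels := RP) a)) =
      fun a => (QuotientGroup.mk' (Subgroup.center ↥(Cfsg.SU 6 K4 2)))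
        (suOf U62Mat.DQ U62Mat.hinvQ U62Mat.hunitQ a) := by
    funext a
    exact hφ a
  rw [h1, ← Schur.map_evc, ← map_pow]
  refine (QuotientGroup.eq_one_iff _).mpr ?_
  refine mem_center_of_scalar _ ((powM (mw w) k).entry 0 0) ?_
  have h2 : mat (evc (suOf U62Mat.DQ U62Mat.hinvQ U62Mat.hunitQ) dec w) =
      (mw w).toMatE (Equiv.refl (Fin 6)) := mat_ev_su U62Mat.DQ U62Mat.hinvQ U62Mat.hunitQ (w.map dec)
  rw [mat_pow, h2, ← toMatE_powM, ← toMatE_scalD]
  exact congrArg _ (of_decide_eq_true h)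

/-- repetition of a word -/
def rep : ℕ → List ℕ → List ℕ
  | 0, _ => []
  | n + 1, w => w ++ rep n w

theorem pw_rep (n : ℕ) (w : List ℕ) : pw (rep n w) = pw w ^ n := by
  induction n with
  | zero => rw [pow_zero]; rfl
  | succ n ih => rw [rep, pw_append, ih, pow_succ]

/-- the letter `c` -/
def aW : List ℕ := [0]

theorem pw_aW : pw aW = PresentedGroup.of (rels := RP) Cfsg.Agent.Helper4.Pres.U62Q.Gen.c := pw_enc .c

/-- the word of `w * a * w⁻¹ * a⁻¹` -/
def commA (w : List ℕ) : List ℕ := invW aW ++ invW w ++ aW ++ w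

theorem pw_commA (w : List ℕ) :
    pw (commA w) = pw w * PresentedGroup.of .c * (pw w)⁻¹ * (PresentedGroup.of .c)⁻¹ := by
  unfold commA
  rw [pw_append, pw_append, pw_append, pw_invW, pw_invW, pw_aW]
  group

theorem commute_of_commA (w : List ℕ) (h : chk (commA w) = true) :
    pw w * PresentedGroup.of (rels := RP) .c = PresentedGroup.of .c * pw w := by
  have h1 := pw_eq_one _ h
  rw [pw_commA] at h1
  calc pw w * PresentedGroup.of (rels := RP) .c
      = (pw w * PresentedGroup.of .c * (pw w)⁻¹ * (PresentedGroup.of .c)⁻¹) *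
          (PresentedGroup.of .c * pw w) := by group
    _ = PresentedGroup.of .c * pw w := by rw [h1, one_mul]

/-- the certificate check: `u ^ m₂ = 1`, `(h * u⁻¹) ^ m₁ = 1`, `u` and `h` commute with `a` -/
noncomputable def oddOK (hW uW : List ℕ) (m2 m1 : ℕ) : Bool :=
  decide (m2 % 2 = 1) && decide (m1 % 2 = 1) && chkP uW m2 && chkP (invW uW ++ hW) m1 &&
    chk (commA uW) && chk (commA hW)

theorem mem_oddCent_of {c h u : P} {m1 m2 : ℕ} (hm1 : Odd m1) (hm2 : Odd m2)
    (hu : u ^ m2 = 1) (hhu : (h * u⁻¹) ^ m1 = 1) (huc : u * c = c * u) (hhc : h * c = c * h) :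
    h ∈ oddCent c := by
  have e : h = (h * u⁻¹) * u := by group
  rw [e]
  refine Subgroup.mul_mem _ (Subgroup.subset_closure ⟨?_, m1, hm1, hhu⟩)
    (Subgroup.subset_closure ⟨huc, m2, hm2, hu⟩)
  have huc' : u⁻¹ * c = c * u⁻¹ := by
    calc u⁻¹ * c = u⁻¹ * (c * u) * u⁻¹ := by group
      _ = u⁻¹ * (u * c) * u⁻¹ := by rw [huc]
      _ = c * u⁻¹ := by group
  calc h * u⁻¹ * c = h * (u⁻¹ * c) := by group
    _ = h * (c * u⁻¹) := by rw [huc']
    _ = (h * c) * u⁻¹ := by group
    _ = (c * h) * u⁻¹ := by rw [hhc]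
    _ = c * (h * u⁻¹) := by group

theorem mem_of_oddOK (hW uW : List ℕ) (m2 m1 : ℕ) (h : oddOK hW uW m2 m1 = true) :
    pw hW ∈ oddCent (PresentedGroup.of (rels := RP) .c) := by
  unfold oddOK at h
  simp only [Bool.and_eq_true, decide_eq_true_eq] at h
  obtain ⟨⟨⟨⟨⟨h1, h2⟩, h3⟩, h4⟩, h5⟩, h6⟩ := h
  refine mem_oddCent_of (u := pw uW) (m1 := m1) (m2 := m2) (Nat.odd_iff.mpr h2) (Nat.odd_iff.mpr h1)
    ?_ ?_ (commute_of_commA uW h5) (commute_of_commA hW h6)
  · exact pw_pow_eq_one _ _ h3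
  · have e : pw hW * (pw uW)⁻¹ = pw (invW uW ++ hW) := by rw [pw_append, pw_invW]
    rw [e]
    exact pw_pow_eq_one _ _ h4

/-! ### the data -/

/-- the word of `(gw j)⁻¹ * s i * gw j` -/
def hComm (i j : Gen) : List ℕ := gwW j ++ [enc i] ++ invW (gwW j)

theorem pw_hComm (i j : Gen) :
    pw (hComm i j) = (pw (gwW j))⁻¹ * PresentedGroup.of i * pw (gwW j) := by
  unfold hComm
  rw [pw_append, pw_append, pw_invW, pw_enc, mul_assoc]

/-- the word of `(gw j)⁻¹ * s i * s j * gw i` -/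
def hEdge (i j : Gen) : List ℕ := gwW i ++ [enc j] ++ [enc i] ++ invW (gwW j)

theorem pw_hEdge (i j : Gen) :
    pw (hEdge i j) = (pw (gwW j))⁻¹ * PresentedGroup.of i * PresentedGroup.of j * pw (gwW i) := by
  unfold hEdge
  rw [pw_append, pw_append, pw_append, pw_invW, pw_enc, pw_enc]
  group

/-- the word of `(s i)⁻¹ * (gw i * a * (gw i)⁻¹)` -/
def hGw (i : Gen) : List ℕ := invW (gwW i) ++ aW ++ gwW i ++ invW [enc i]

theorem pw_hGw (i : Gen) :
    pw (hGw i) = (PresentedGroup.of i)⁻¹ * (pw (gwW i) * PresentedGroup.of .c * (pw (gwW i))⁻¹) := by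
  unfold hGw
  rw [pw_append, pw_append, pw_append, pw_invW, pw_invW, pw_enc, pw_aW]
  group

/-- the word of `a⁻¹ * (x * y * x⁻¹ * y⁻¹)` -/
def hXY : List ℕ := invW yW ++ invW xW ++ yW ++ xW ++ invW aW

theorem pw_hXY :
    pw hXY = (PresentedGroup.of .c)⁻¹ * (pw xW * pw yW * (pw xW)⁻¹ * (pw yW)⁻¹) := by
  unfold hXY
  rw [pw_append, pw_append, pw_append, pw_append, pw_invW, pw_invW, pw_invW, pw_aW]
  group


end CLBAlt

end Cfsg.Agent.Lib.Helper7.U62M
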