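import Mathlib
import Cfsg.Agent.Lib.Helper9.USubDefs

/-!
# Unitary subfield subgroups: identities between transvections and Siegel elements
-/

set_option autoImplicit false
set_option linter.unusedSectionVars false
set_option linter.unusedVariables false

namespace Cfsg.Agent.Lib.Helper9.USub

open Matrix Cfsg.Agent.Lib.Helper6 Cfsg.Agent.S0779 Cfsg.Agent.S0781
open Cfsg.Agent.Lib.Helper6.SUG Cfsg.Agent.Lib.Helper13 Cfsg.Agent.Lib.Helper9.SUGen

section ids
variable {F : Type*} [Field F] [Fintype F] {q q₀ n : ℕ}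

local notation "hh" => Cfsg.hermForm n F q

/-- a transvection with centre `u + l v`, `u ⟂ v` isotropic -/
theorem tv_add_smul (hF : Fintype.card F = q ^ 2) (u v : Fin n → F) (huu : hh u u = 0)
    (huv : hh u v = 0) (hvv : hh v v = 0) (l c : F) (hc : c ^ q = -c)
    (hiso : hh (u + l • v) (u + l • v) = 0) (hc' : (c * (l * l ^ q)) ^ q = -(c * (l * l ^ q))) :
    tv hF (u + l • v) c hiso hc =
      tv hF u c huu hc * tv hF v (c * (l * l ^ q)) hvv hc' * sg hF u v huu huv hvv (c * l) := by
  have hvu : hh v u = 0 := herm_swap_zero hF huv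
  apply ext_av
  intro x
  rw [av_mul, av_mul, av_tv, av_tv, av_tv, av_sg]
  simp only [herm_add_left, herm_sub_left', herm_smul_left, herm_add_right hF, herm_smul_right,
    huu, huv, hvv, hvu, mul_pow, hc]
  module

/-- rescaling the centre of a transvection -/
theorem tv_smul_eq (hF : Fintype.card F = q ^ 2) (v : Fin n → F) (hvv : hh v v = 0) (l c : F)
    (hc : c ^ q = -c) (hlv : hh (l • v) (l • v) = 0)
    (hc' : (c * (l * l ^ q)) ^ q = -(c * (l * l ^ q))) :
    tv hF (l • v) c hlv hc = tv hF v (c * (l * l ^ q)) hvv hc' := by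
  apply ext_av
  intro x
  rw [av_tv, av_tv, herm_smul_right]
  module

/-- the inverse of a Siegel element -/
theorem sg_inv (hF : Fintype.card F = q ^ 2) (u a : Fin n → F) (huu : hh u u = 0)
    (hua : hh u a = 0) (haa : hh a a = 0) (t : F) :
    (sg hF u a huu hua haa t)⁻¹ = sg hF u a huu hua haa (-t) := by
  apply inv_eq_of_mul_eq_one_right
  rw [sg_add, add_neg_cancel]
  apply ext_av
  intro x
  rw [av_sg, av_one, zero_pow (q_pos hF).ne']
  simp

/-- the Levi commutator `[x₁₂(t), x₂₃(s)] = x₁₃(-ts)` -/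
theorem sg_levi_comm (hF : Fintype.card F = q ^ 2) (a b c d : Fin n → F) (haa : hh a a = 0)
    (hab : hh a b = 0) (hbb : hh b b = 0) (hcc : hh c c = 0) (hcd : hh c d = 0) (hdd : hh d d = 0)
    (had : hh a d = 0) (hac : hh a c = 0) (hbd : hh b d = 0) (hbc : hh b c = 1) (t s : F) :
    sg hF a b haa hab hbb t * sg hF c d hcc hcd hdd s * (sg hF a b haa hab hbb t)⁻¹ *
      (sg hF c d hcc hcd hdd s)⁻¹ = sg hF a d haa had hdd (-(t * s)) := by
  have hba : hh b a = 0 := herm_swap_zero hF hab
  have hdc : hh d c = 0 := herm_swap_zero hF hcd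
  have hda : hh d a = 0 := herm_swap_zero hF had
  have hca : hh c a = 0 := herm_swap_zero hF hac
  have hdb : hh d b = 0 := herm_swap_zero hF hbd
  have hcb : hh c b = 1 := by rw [← herm_conj hF, hbc, one_pow]
  rw [sg_inv, sg_inv]
  apply ext_av
  intro x
  rw [av_mul, av_mul, av_mul, av_sg, av_sg, av_sg, av_sg, av_sg]
  simp only [herm_add_left, herm_sub_left', herm_smul_left, haa, hab, hbb, hcc, hcd, hdd, had, hac,
    hbd, hbc, hba, hdc, hda, hca, hdb, hcb, neg_pow_q hF, mul_pow]
  module

/-- a Siegel element with rational vectors and rational parameter is rational -/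
theorem ratSU_sg (hF : Fintype.card F = q ^ 2) (K : Subfield F) (u v : Fin n → K) (c : F)
    (hcK : c ∈ K) (huu : hh (rvec K u) (rvec K u) = 0) (huv : hh (rvec K u) (rvec K v) = 0)
    (hvv : hh (rvec K v) (rvec K v) = 0) :
    RatSU K (sg hF (rvec K u) (rvec K v) huu huv hvv c) := by
  apply RatSU.of_av
  intro j
  refine ⟨fun i => (Pi.single j (1 : K) : Fin n → K) i + (⟨c, hcK⟩ * (u j) ^ q) * v i -
    (⟨c, hcK⟩ ^ q * (v j) ^ q) * u i, ?_⟩
  rw [av_sg, herm_single_left', herm_single_left']
  funext i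
  simp only [rvec, Pi.add_apply, Pi.sub_apply, Pi.smul_apply, smul_eq_mul]
  by_cases hij : i = j
  · subst hij
    simp
  · simp [hij]

end ids

end Cfsg.Agent.Lib.Helper9.USub
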