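import Mathlib
import Cfsg.Agent.Lib.Helper9.USubDefs
import Cfsg.Agent.Lib.Helper9.SURUB

/-!
# Unitary subfield subgroups: the rational isotropic vectors control `SU_n`
-/

set_option autoImplicit false
set_option linter.unusedSectionVars false
set_option linter.unusedVariables false

namespace Cfsg.Agent.Lib.Helper9.USub

open Matrix Cfsg.Agent.Lib.Helper6 Cfsg.Agent.S0779 Cfsg.Agent.S0781
open Cfsg.Agent.Lib.Helper6.SUG Cfsg.Agent.Lib.Helper13 Cfsg.Agent.Lib.Helper9.SUGen
open Cfsg.Agent.Lib.Helper9.SURU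

section a5
variable {F : Type*} [Field F] [Fintype F] {q q₀ : ℕ}

theorem rvec_up (K : Subfield F) {n : ℕ} (u : Fin n → K) : rvec K (up u) = up (rvec K u) := by
  funext j
  refine Fin.cases ?_ (fun j' => ?_) j
  · simp [rvec, up]
  · simp [rvec, up]

theorem Hyp_u0_ne' (hF : Fintype.card F = q ^ 2) (C : Hyp F q) : C.u0 ≠ 0 := by
  intro h0
  have h1 := C.huu
  rw [h0, zero_mul, zero_add] at h1
  have h2 : C.u1 = 0 := by
    rcases mul_eq_zero.mp h1 with h | h
    · exact h
    · exact pow_eq_zero_iff (q_pos hF).ne' |>.mp h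
  have h3 := C.huv
  rw [h0, h2, zero_mul, zero_mul, zero_add] at h3
  exact zero_ne_one h3

/-- all isotropic vectors are `XL` as soon as the rational ones are -/
theorem all_XL_of_rat {K : Subfield F} [Fintype K] (D : SubD q q₀ K) (hq : q ≠ 2) :
    ∀ n : ℕ, 2 ≤ n → ∀ L : Subgroup ↥(Cfsg.SU n F q),
      (∀ u : Fin n → K, Cfsg.hermForm n F q (rvec K u) (rvec K u) = 0 → XL L (rvec K u)) →
      ∀ a : Fin n → F, Cfsg.hermForm n F q a a = 0 → XL L a := by
  obtain ⟨C₀⟩ := exists_hyp D.hK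
  intro n hn
  induction n, hn using Nat.le_induction with
  | base =>
    intro L h v hvv
    have he : XL L (ev (upHyp D C₀) 2 0) := by
      rw [← rvec_ev D]
      apply h
      rw [rvec_ev D]
      exact herm_ev_ev _ 0 (by omega)
    have hf : XL L (fv (upHyp D C₀) 2 0) := by
      rw [← rvec_fv D]
      apply h
      rw [rvec_fv D]
      exact herm_fv_fv _ 0 (by omega)
    have hef := herm_ev_fv (upHyp D C₀) (n := 2) 0 (by omega)
    obtain ⟨α, hα⟩ : ∃ α : F, α = v 0 * (upHyp D C₀).v0 ^ q + v 1 * (upHyp D C₀).v1 ^ q := ⟨_, rfl⟩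
    obtain ⟨β, hβ⟩ : ∃ β : F, β = v 0 * (upHyp D C₀).u0 ^ q + v 1 * (upHyp D C₀).u1 ^ q := ⟨_, rfl⟩
    have hv : v = α • ev (upHyp D C₀) 2 0 + β • fv (upHyp D C₀) 2 0 := by
      rw [hα, hβ, ← pl_expand (upHyp D C₀) D.hF]
      funext j
      fin_cases j <;> simp [pl]
    rw [hv] at hvv ⊢
    rw [herm_plane D.hF (herm_ev_ev _ 0 (by omega)) (herm_fv_fv _ 0 (by omega)) hef] at hvv
    exact plane_iso D.hF he hf hef α β (by linear_combination hvv)
  | succ n hn ih =>
    intro L h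
    have hall : ∀ v : Fin n → F, Cfsg.hermForm n F q v v = 0 → XL (L.comap embSU) v := by
      apply ih
      intro u huu
      apply XL_comap D.hF
      rw [← rvec_up]
      apply h
      rw [rvec_up, herm_up]
      exact huu
    have hxw : XL L (ev (upHyp D C₀) (n + 1) 0) := by
      rw [← rvec_ev D]
      apply h
      rw [rvec_ev D]
      exact herm_ev_ev _ 0 (by omega)
    have hxw0 : ev (upHyp D C₀) (n + 1) 0 0 ≠ 0 := by
      have : ev (upHyp D C₀) (n + 1) 0 0 = (upHyp D C₀).u0 := by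
        simp [ev, pl]
      rw [this]
      exact Hyp_u0_ne' D.hF _
    exact step1 D.hF n hn (fun h' => hq h'.2) L hall _ hxw hxw0

/-- **FO-A5** -/
theorem top_of_rat_XL {K : Subfield F} [Fintype K] (D : SubD q q₀ K) {n : ℕ} (hn : 2 ≤ n)
    (hq : q ≠ 2) (L : Subgroup ↥(Cfsg.SU n F q))
    (h : ∀ u : Fin n → K, Cfsg.hermForm n F q (rvec K u) (rvec K u) = 0 → XL L (rvec K u)) :
    L = ⊤ :=
  top_of_forall D.hF (by omega) (fun h' => hq h'.2) L (all_XL_of_rat D hq n hn L h)

end a5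

end Cfsg.Agent.Lib.Helper9.USub
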