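import Mathlib
import Cfsg.Agent.Lib.Helper9.USubDefs
import Cfsg.Agent.Lib.Helper16.FieldAutGU
import Cfsg.Agent.Lib.Helper6.SUGen5

/-!
# Unitary subfield subgroups: rational transitivity on isotropic vectors
-/

set_option autoImplicit false
set_option linter.unusedSectionVars false
set_option linter.unusedVariables false

namespace Cfsg.Agent.Lib.Helper9.USub

open Matrix Cfsg.Agent.Lib.Helper6 Cfsg.Agent.S0779 Cfsg.Agent.S0781
open Cfsg.Agent.Lib.Helper6.SUG Cfsg.Agent.Lib.Helper13 Cfsg.Agent.Lib.Helper9.SUGen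

section trans
variable {F : Type*} [Field F] [Fintype F] {q q₀ n : ℕ}

local notation "hh" => Cfsg.hermForm n F q

/-- the matrix of an element of `SU n K q₀`, over `F`, preserves the form -/
theorem lift_pres {K : Subfield F} [Fintype K] (D : SubD q q₀ K) (t : ↥(Cfsg.SU n K q₀))
    (x y : Fin n → F) :
    hh (rmat K ((t : Matrix.SpecialLinearGroup (Fin n) K) : Matrix (Fin n) (Fin n) K) *ᵥ x)
      (rmat K ((t : Matrix.SpecialLinearGroup (Fin n) K) : Matrix (Fin n) (Fin n) K) *ᵥ y) =
      hh x y := by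
  have hpow : ∀ x : K, (x : F) ^ q = ((x ^ q₀ : K) : F) := by
    intro x
    rw [D.fr]
    push_cast
    rfl
  have h1 : ((t : Matrix.SpecialLinearGroup (Fin n) K) : Matrix (Fin n) (Fin n) K)ᵀ *
      ((t : Matrix.SpecialLinearGroup (Fin n) K) : Matrix (Fin n) (Fin n) K).map (conjQ D.hK) =
      1 := (Cfsg.Agent.Lib.Helper16.pres_iff D.hK _).mp (fun x y => t.2 x y)
  have h2 := Cfsg.Agent.Lib.Helper16.key_identity K D.hF D.hK hpow (1 : F)
    ((t : Matrix.SpecialLinearGroup (Fin n) K) : Matrix (Fin n) (Fin n) K)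
  rw [h1, one_smul, one_pow, one_smul] at h2
  have h3 : (1 : Matrix (Fin n) (Fin n) K).map K.subtype = 1 := by
    ext i j
    by_cases hij : i = j
    · subst hij
      simp
    · simp [hij]
  rw [h3] at h2
  exact (Cfsg.Agent.Lib.Helper16.pres_iff D.hF _).mpr h2 x y

/-- an element of `SU n K q₀` as an element of `SU n F q` -/
def liftSU {K : Subfield F} [Fintype K] (D : SubD q q₀ K) (t : ↥(Cfsg.SU n K q₀)) :
    ↥(Cfsg.SU n F q) :=
  mkSU (rmat K ((t : Matrix.SpecialLinearGroup (Fin n) K) : Matrix (Fin n) (Fin n) K))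
    (by
      unfold rmat
      rw [← RingHom.mapMatrix_apply, ← RingHom.map_det,
        (t : Matrix.SpecialLinearGroup (Fin n) K).2, map_one])
    (lift_pres D t)

theorem av_liftSU {K : Subfield F} [Fintype K] (D : SubD q q₀ K) (t : ↥(Cfsg.SU n K q₀))
    (x : Fin n → K) : av (liftSU D t) (rvec K x) = rvec K (av t x) := by
  unfold liftSU av mkSU
  exact rmat_mulVec K _ x

theorem ratSU_liftSU {K : Subfield F} [Fintype K] (D : SubD q q₀ K) (t : ↥(Cfsg.SU n K q₀)) :
    RatSU K (liftSU D t) := by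
  intro i j
  unfold liftSU mkSU
  exact Subtype.property _

/-- **FO-T**: rational transitivity on the nonzero isotropic vectors -/
theorem rat_trans {K : Subfield F} [Fintype K] (D : SubD q q₀ K) (hn : 3 ≤ n) (p u : Fin n → K)
    (hp : p ≠ 0) (hu : u ≠ 0) (hpp : hh (rvec K p) (rvec K p) = 0)
    (huu : hh (rvec K u) (rvec K u) = 0) :
    ∃ g : ↥(Cfsg.SU n F q), RatSU K g ∧ av g (rvec K p) = rvec K u := by
  have hpp' : Cfsg.hermForm n K q₀ p p = 0 := by
    have := herm_rvec D p p
    rw [hpp] at this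
    exact_mod_cast this.symm
  have huu' : Cfsg.hermForm n K q₀ u u = 0 := by
    have := herm_rvec D u u
    rw [huu] at this
    exact_mod_cast this.symm
  obtain ⟨t, -, ht⟩ := rel_iso D.hK hn p u hp hu hpp' huu'
  exact ⟨liftSU D t, ratSU_liftSU D t, by rw [av_liftSU, ht]⟩

end trans

end Cfsg.Agent.Lib.Helper9.USub
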