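import Mathlib
import Cfsg.Agent.Lib.Helper9.USubDefs
import Cfsg.Agent.Lib.Helper9.USubA
import Cfsg.Agent.Lib.Helper9.USubA5
import Cfsg.Agent.Lib.Helper9.USubF
import Cfsg.Agent.Lib.Helper9.USubT
import Cfsg.Agent.Lib.Helper28.S5639FOALG

/-!
# Unitary subfield subgroups, side A: a good overgroup of the rational group is everything
-/

set_option autoImplicit false
set_option linter.unusedSectionVars false
set_option linter.unusedVariables false

namespace Cfsg.Agent.Lib.Helper9.USub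

open Matrix Cfsg.Agent.Lib.Helper6 Cfsg.Agent.S0779 Cfsg.Agent.S0781
open Cfsg.Agent.Lib.Helper6.SUG Cfsg.Agent.Lib.Helper13 Cfsg.Agent.Lib.Helper9.SUGen

variable {F : Type*} [Field F] [Fintype F] {q q₀ n : ℕ}

local notation "hh" => Cfsg.hermForm n F q

section sideA
variable {K : Subfield F} [Fintype K] (D : SubD q q₀ K) (C₀ : Hyp K q₀)

/-- the rational frame vectors `e i` -/
def fe (K : Subfield F) [Fintype K] (C₀ : Hyp K q₀) (n i : ℕ) : Fin n → K := ev C₀ n (2 * i)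

/-- the rational frame vectors `f i` -/
def ff (K : Subfield F) [Fintype K] (C₀ : Hyp K q₀) (n i : ℕ) : Fin n → K := fv C₀ n (2 * i)

include D in
theorem herm_fe_fe (i j : ℕ) (hi : 2 * i + 1 < n) :
    hh (rvec K (fe K C₀ n i)) (rvec K (fe K C₀ n j)) = 0 := by
  unfold fe
  rw [rvec_ev D, rvec_ev D]
  by_cases hij : i = j
  · subst hij
    exact herm_ev_ev _ _ hi
  · exact herm_ev_ev_far _ D.hF _ _ hi (by omega)

include D in
theorem herm_ff_ff (i j : ℕ) (hi : 2 * i + 1 < n) :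
    hh (rvec K (ff K C₀ n i)) (rvec K (ff K C₀ n j)) = 0 := by
  unfold ff
  rw [rvec_fv D, rvec_fv D]
  by_cases hij : i = j
  · subst hij
    exact herm_fv_fv _ _ hi
  · exact herm_fv_fv_far _ D.hF _ _ hi (by omega)

include D in
theorem herm_fe_ff_ne (i j : ℕ) (hi : 2 * i + 1 < n) (hij : i ≠ j) :
    hh (rvec K (fe K C₀ n i)) (rvec K (ff K C₀ n j)) = 0 := by
  unfold fe ff
  rw [rvec_ev D, rvec_fv D]
  exact herm_ev_fv_far _ D.hF _ _ hi (by omega)

include D in
theorem herm_ff_fe_ne (i j : ℕ) (hi : 2 * i + 1 < n) (hij : i ≠ j) :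
    hh (rvec K (ff K C₀ n i)) (rvec K (fe K C₀ n j)) = 0 := by
  unfold fe ff
  rw [rvec_ev D, rvec_fv D]
  exact herm_fv_ev_far _ D.hF _ _ hi (by omega)

include D in
theorem herm_fe_ff (i : ℕ) (hi : 2 * i + 1 < n) :
    hh (rvec K (fe K C₀ n i)) (rvec K (ff K C₀ n i)) = 1 := by
  unfold fe ff
  rw [rvec_ev D, rvec_fv D]
  exact herm_ev_fv _ _ hi

include D in
theorem herm_ff_fe (i : ℕ) (hi : 2 * i + 1 < n) :
    hh (rvec K (ff K C₀ n i)) (rvec K (fe K C₀ n i)) = 1 := by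
  unfold fe ff
  rw [rvec_ev D, rvec_fv D]
  exact herm_fv_ev _ D.hF _ hi

include D in
theorem fe_ne_zero (i : ℕ) (hi : 2 * i + 1 < n) : fe K C₀ n i ≠ 0 := by
  intro h
  have := herm_fe_ff D C₀ i hi
  rw [h, rvec_zero, herm_zero_left] at this
  exact zero_ne_one this

end sideA

section sideA2
variable {K : Subfield F} [Fintype K] (D : SubD q q₀ K) (C₀ : Hyp K q₀)

/-- all transvections with rational isotropic centre and parameter `a` lie in `L` -/
def PA (K : Subfield F) (L : Subgroup ↥(Cfsg.SU n F q)) (a : F) : Prop :=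
  ∀ (u : Fin n → K) (A : ↥(Cfsg.SU n F q)), hh (rvec K u) (rvec K u) = 0 →
    ((A : Matrix.SpecialLinearGroup (Fin n) F) : Matrix (Fin n) (Fin n) F) =
      Cfsg.unitaryTransvection n q (rvec K u) a → A ∈ L

theorem PA.tv_mem (hF : Fintype.card F = q ^ 2) {L : Subgroup ↥(Cfsg.SU n F q)} {a : F}
    (h : PA K L a) (u : Fin n → K) (huu : hh (rvec K u) (rvec K u) = 0) (ha : a ^ q = -a) :
    tv hF (rvec K u) a huu ha ∈ L := h u _ huu rfl

include D in
/-- one rational centre suffices -/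
theorem PA_of_one (hn : 3 ≤ n) (L : Subgroup ↥(Cfsg.SU n F q))
    (hL : ∀ g : ↥(Cfsg.SU n F q), RatSU K g → g ∈ L) (a : F) (ha : a ^ q = -a)
    (p : Fin n → K) (hp : p ≠ 0) (hpp : hh (rvec K p) (rvec K p) = 0)
    (h : tv D.hF (rvec K p) a hpp ha ∈ L) : PA K L a := by
  intro u A huu hA
  have hAe : A = tv D.hF (rvec K u) a huu ha := by
    apply Subtype.ext
    apply Subtype.ext
    exact hA
  rw [hAe]
  by_cases hu : u = 0
  · subst hu
    have : tv D.hF (rvec K (0 : Fin n → K)) a huu ha = 1 := by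
      apply ext_av
      intro x
      rw [av_tv, av_one, rvec_zero, smul_zero, add_zero]
    rw [this]
    exact L.one_mem
  · obtain ⟨g, hg, hgp⟩ := rat_trans D hn p u hp hu hpp huu
    have h1 := conj_tv D.hF g (rvec K p) a hpp ha
    have h2 : g * tv D.hF (rvec K p) a hpp ha * g⁻¹ ∈ L :=
      L.mul_mem (L.mul_mem (hL g hg) h) (L.inv_mem (hL g hg))
    rw [h1] at h2
    convert h2 using 2
    exact hgp.symm

/-- the Siegel parameter set relative to the frame -/
def CP (K : Subfield F) [Fintype K] (C₀ : Hyp K q₀) (L : Subgroup ↥(Cfsg.SU n F q)) (c : F) :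
    Prop :=
  ∀ (i j : ℕ) (A : ↥(Cfsg.SU n F q)), i < 3 → j < 3 → i ≠ j →
    (∀ x, av A x = x + (c * hh x (rvec K (fe K C₀ n i))) • rvec K (ff K C₀ n j) -
      (c ^ q * hh x (rvec K (ff K C₀ n j))) • rvec K (fe K C₀ n i)) → A ∈ L

include D in
theorem CP.sg_mem (hn : 6 ≤ n) {L : Subgroup ↥(Cfsg.SU n F q)} {c : F} (h : CP K C₀ L c)
    (i j : ℕ) (hi : i < 3) (hj : j < 3) (hij : i ≠ j) :
    sg D.hF (rvec K (fe K C₀ n i)) (rvec K (ff K C₀ n j))
      (herm_fe_fe D C₀ i i (by omega)) (herm_fe_ff_ne D C₀ i j (by omega) hij)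
      (herm_ff_ff D C₀ j j (by omega)) c ∈ L :=
  h i j _ hi hj hij (fun x => av_sg D.hF _ _ _ _ _ c x)

include D in
theorem CP.intro (hn : 6 ≤ n) {L : Subgroup ↥(Cfsg.SU n F q)} {c : F}
    (h : ∀ (i j : ℕ) (hi : i < 3) (hj : j < 3) (hij : i ≠ j),
      sg D.hF (rvec K (fe K C₀ n i)) (rvec K (ff K C₀ n j))
        (herm_fe_fe D C₀ i i (by omega)) (herm_fe_ff_ne D C₀ i j (by omega) hij)
        (herm_ff_ff D C₀ j j (by omega)) c ∈ L) : CP K C₀ L c := by
  intro i j A hi hj hij hA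
  have : A = sg D.hF (rvec K (fe K C₀ n i)) (rvec K (ff K C₀ n j))
      (herm_fe_fe D C₀ i i (by omega)) (herm_fe_ff_ne D C₀ i j (by omega) hij)
      (herm_ff_ff D C₀ j j (by omega)) c := by
    apply ext_av
    intro x
    rw [hA, av_sg]
  rw [this]
  exact h i j hi hj hij

include D in
theorem CP_rat (hn : 6 ≤ n) (L : Subgroup ↥(Cfsg.SU n F q))
    (hL : ∀ g : ↥(Cfsg.SU n F q), RatSU K g → g ∈ L) (k : K) : CP K C₀ L (k : F) := by
  apply CP.intro D C₀ hn
  intro i j hi hj hij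
  exact hL _ (ratSU_sg D.hF K _ _ _ k.2 _ _ _)

include D in
theorem CP_add (hn : 6 ≤ n) (L : Subgroup ↥(Cfsg.SU n F q)) (a b : F) (ha : CP K C₀ L a)
    (hb : CP K C₀ L b) : CP K C₀ L (a + b) := by
  apply CP.intro D C₀ hn
  intro i j hi hj hij
  rw [← sg_add]
  exact L.mul_mem (ha.sg_mem D C₀ hn i j hi hj hij) (hb.sg_mem D C₀ hn i j hi hj hij)

include D in
theorem CP_neg (hn : 6 ≤ n) (L : Subgroup ↥(Cfsg.SU n F q)) (a : F) (ha : CP K C₀ L a) :
    CP K C₀ L (-a) := by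
  apply CP.intro D C₀ hn
  intro i j hi hj hij
  rw [← sg_inv]
  exact L.inv_mem (ha.sg_mem D C₀ hn i j hi hj hij)

include D in
theorem CP_mul (hn : 6 ≤ n) (L : Subgroup ↥(Cfsg.SU n F q)) (a b : F) (ha : CP K C₀ L a)
    (hb : CP K C₀ L b) : CP K C₀ L (a * b) := by
  have key : CP K C₀ L (-(a * b)) := by
    apply CP.intro D C₀ hn
    intro i k hi hk hik
    obtain ⟨j, hj, hij, hjk⟩ : ∃ j, j < 3 ∧ i ≠ j ∧ j ≠ k := ⟨3 - i - k, by omega, by omega, by omega⟩
    have h1 := sg_levi_comm D.hF (rvec K (fe K C₀ n i)) (rvec K (ff K C₀ n j))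
      (rvec K (fe K C₀ n j)) (rvec K (ff K C₀ n k))
      (herm_fe_fe D C₀ i i (by omega)) (herm_fe_ff_ne D C₀ i j (by omega) hij)
      (herm_ff_ff D C₀ j j (by omega)) (herm_fe_fe D C₀ j j (by omega))
      (herm_fe_ff_ne D C₀ j k (by omega) hjk) (herm_ff_ff D C₀ k k (by omega))
      (herm_fe_ff_ne D C₀ i k (by omega) hik) (herm_fe_fe D C₀ i j (by omega))
      (herm_ff_ff D C₀ j k (by omega)) (herm_ff_fe D C₀ j (by omega)) a b
    rw [← h1]
    have hA := ha.sg_mem D C₀ hn i j hi hj hij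
    have hB := hb.sg_mem D C₀ hn j k hj hk hjk
    exact L.mul_mem (L.mul_mem (L.mul_mem hA hB) (L.inv_mem hA)) (L.inv_mem hB)
  have := CP_neg D C₀ hn L _ key
  rwa [neg_neg] at this

end sideA2

section sideA3
variable {K : Subfield F} [Fintype K] (D : SubD q q₀ K) (C₀ : Hyp K q₀)

include D in
theorem CP_of_PA (hn : 6 ≤ n) (L : Subgroup ↥(Cfsg.SU n F q)) (a : F) (ha : a ^ q = -a)
    (hPA : PA K L a) (l : K) : CP K C₀ L (a * (l : F)) := by
  apply CP.intro D C₀ hn
  intro i j hi hj hij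
  have hee := herm_fe_fe (n := n) D C₀ i i (by omega)
  have hef := herm_fe_ff_ne (n := n) D C₀ i j (by omega) hij
  have hff := herm_ff_ff (n := n) D C₀ j j (by omega)
  have hfe := herm_ff_fe_ne (n := n) D C₀ j i (by omega) (Ne.symm hij)
  have hsum : rvec K (fe K C₀ n i) + (l : F) • rvec K (ff K C₀ n j) =
      rvec K (fe K C₀ n i + l • ff K C₀ n j) := by
    rw [rvec_add, rvec_smul]
  have hiso : hh (rvec K (fe K C₀ n i) + (l : F) • rvec K (ff K C₀ n j))
      (rvec K (fe K C₀ n i) + (l : F) • rvec K (ff K C₀ n j)) = 0 := by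
    rw [herm_add_left, herm_add_right D.hF, herm_add_right D.hF, herm_smul_left, herm_smul_left,
      herm_smul_right, herm_smul_right, hee, hef, hff, hfe]
    ring
  have hc' : (a * ((l : F) * (l : F) ^ q)) ^ q = -(a * ((l : F) * (l : F) ^ q)) := by
    rw [mul_pow, mul_pow, pow_q_q D.hF, ha]
    ring
  have h1 := tv_add_smul D.hF _ _ hee hef hff (l : F) a ha hiso hc'
  -- the three transvections lie in `L`
  have m1 : tv D.hF (rvec K (fe K C₀ n i) + (l : F) • rvec K (ff K C₀ n j)) a hiso ha ∈ L := by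
    apply hPA (fe K C₀ n i + l • ff K C₀ n j)
    · rw [← hsum]
      exact hiso
    · rw [← hsum]
      rfl
  have m2 : tv D.hF (rvec K (fe K C₀ n i)) a hee ha ∈ L := hPA.tv_mem D.hF _ hee ha
  have hlf : hh ((l : F) • rvec K (ff K C₀ n j)) ((l : F) • rvec K (ff K C₀ n j)) = 0 := by
    rw [herm_smul_left, herm_smul_right, hff]
    ring
  have m3 : tv D.hF (rvec K (ff K C₀ n j)) (a * ((l : F) * (l : F) ^ q)) hff hc' ∈ L := by
    rw [← tv_smul_eq D.hF _ hff (l : F) a ha hlf hc']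
    apply hPA (l • ff K C₀ n j)
    · rw [rvec_smul]
      exact hlf
    · rw [rvec_smul]
      rfl
  have h2 : sg D.hF (rvec K (fe K C₀ n i)) (rvec K (ff K C₀ n j)) hee hef hff (a * (l : F)) =
      (tv D.hF (rvec K (fe K C₀ n i)) a hee ha *
        tv D.hF (rvec K (ff K C₀ n j)) (a * ((l : F) * (l : F) ^ q)) hff hc')⁻¹ *
      tv D.hF (rvec K (fe K C₀ n i) + (l : F) • rvec K (ff K C₀ n j)) a hiso ha := by
    rw [h1]
    group
  rw [h2]
  exact L.mul_mem (L.inv_mem (L.mul_mem m2 m3)) m1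

include D in
/-- **Side A**: a good subgroup containing the rational elements is everything. -/
theorem top_of_good (r : ℕ) (hr : r.Prime) (hcard : Fintype.card F = Nat.card K ^ r)
    (hn : 6 ≤ n) (L : Subgroup ↥(Cfsg.SU n F q))
    (hL : ∀ g : ↥(Cfsg.SU n F q), RatSU K g → g ∈ L) (hG : Good K L) : L = ⊤ := by
  obtain ⟨C₀⟩ := exists_hyp D.hK
  obtain ⟨p, b, hp, hpp, hb, hbK, hA⟩ := hG
  have hPAb : PA K L b := PA_of_one D (by omega) L hL b hb p hp hpp (hA _ rfl)
  -- the Siegel parameter set is everything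
  have hcard' : Nat.card F = Nat.card K ^ r := by rw [Nat.card_eq_fintype_card]; exact hcard
  have hCP : ∀ y : F, CP K C₀ L y := by
    apply Cfsg.Agent.Lib.Helper28.S5639.forall_mem_of_subring K r hr hcard' {c | CP K C₀ L c}
      (fun k => CP_rat D C₀ hn L hL k) (fun a b ha hb => CP_add D C₀ hn L a b ha hb)
      (fun a b ha hb => CP_mul D C₀ hn L a b ha hb) b ?_ hbK
    have := CP_of_PA D C₀ hn L b hb hPAb 1
    simpa using this
  -- every trace-zero parameter at the centre `e 0`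
  have hPA : ∀ a : F, a ^ q = -a → PA K L a := by
    intro a ha
    obtain ⟨t, ht⟩ := exists_sub_pow D.hF a ha
    have hee := herm_fe_fe (n := n) D C₀ 0 0 (by omega)
    have hef := herm_fe_ff_ne (n := n) D C₀ 0 1 (by omega) (by omega)
    have hff := herm_ff_ff (n := n) D C₀ 1 1 (by omega)
    have hee1 := herm_fe_fe (n := n) D C₀ 0 1 (by omega)
    have he1 := herm_fe_fe (n := n) D C₀ 1 1 (by omega)
    have hfe1 := herm_ff_fe (n := n) D C₀ 1 (by omega)
    have hc : a = t * (1 : F) ^ q - t ^ q * 1 := by rw [one_pow, mul_one, mul_one, ht]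
    have h1 := sg_comm D.hF (rvec K (fe K C₀ n 0)) (rvec K (ff K C₀ n 1)) (rvec K (fe K C₀ n 1))
      hee hef hff hee1 he1 hfe1 t 1 a ha hc
    have m1 := (hCP t).sg_mem D C₀ hn 0 1 (by omega) (by omega) (by omega)
    have m2 : sg D.hF (rvec K (fe K C₀ n 0)) (rvec K (fe K C₀ n 1)) hee hee1 he1 1 ∈ L :=
      hL _ (ratSU_sg D.hF K _ _ _ K.one_mem _ _ _)
    have h2 : tv D.hF (rvec K (fe K C₀ n 0)) a hee ha =
        sg D.hF (rvec K (fe K C₀ n 0)) (rvec K (ff K C₀ n 1)) hee hef hff t *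
          sg D.hF (rvec K (fe K C₀ n 0)) (rvec K (fe K C₀ n 1)) hee hee1 he1 1 *
        (sg D.hF (rvec K (fe K C₀ n 0)) (rvec K (fe K C₀ n 1)) hee hee1 he1 1 *
          sg D.hF (rvec K (fe K C₀ n 0)) (rvec K (ff K C₀ n 1)) hee hef hff t)⁻¹ := by
      rw [h1]
      group
    apply PA_of_one D (by omega) L hL a ha (fe K C₀ n 0) (fe_ne_zero D C₀ 0 (by omega)) hee
    rw [h2]
    exact L.mul_mem (L.mul_mem m1 m2) (L.inv_mem (L.mul_mem m2 m1))
  -- conclusion
  have hq2 : q ≠ 2 := by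
    intro hq
    have h1 : 1 < Fintype.card K := Fintype.one_lt_card
    have h2 : Fintype.card K ^ 2 ≤ Fintype.card K ^ r :=
      Nat.pow_le_pow_right (by omega) hr.two_le
    rw [Nat.card_eq_fintype_card] at hcard
    rw [← hcard, D.hF, hq, D.hK] at h2
    rw [D.hK] at h1
    have h3 : 2 ≤ q₀ := by
      by_contra hlt
      push Not at hlt
      interval_cases q₀ <;> omega
    nlinarith
  apply top_of_rat_XL D (by omega) hq2 L
  intro u huu
  apply XL.intro D.hF huu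
  intro c hc
  exact (hPA c hc).tv_mem D.hF u huu hc

end sideA3


end Cfsg.Agent.Lib.Helper9.USub
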