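import Mathlib
import Cfsg.Agent.Lib.Helper9.USubDefs

/-!
# Unitary subfield subgroups: strictness
-/

set_option autoImplicit false
set_option linter.unusedSectionVars false
set_option linter.unusedVariables false

namespace Cfsg.Agent.Lib.Helper9.USub

open Matrix Cfsg.Agent.Lib.Helper6 Cfsg.Agent.S0779 Cfsg.Agent.S0781
open Cfsg.Agent.Lib.Helper6.SUG Cfsg.Agent.Lib.Helper13 Cfsg.Agent.Lib.Helper9.SUGen

section strict
variable {F : Type*} [Field F] [Fintype F] {q q₀ n : ℕ}

local notation "hh" => Cfsg.hermForm n F q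

/-- **FO-S**: a transvection with rational centre and non-rational parameter is not in the
subfield group -/
theorem tv_not_mem_subfield {K : Subfield F} [Fintype K] (D : SubD q q₀ K)
    (p : Fin n → K) (hp : p ≠ 0) (hpp : hh (rvec K p) (rvec K p) = 0) (b : F) (hb : b ^ q = -b)
    (hbK : b ∉ K) :
    suGL n F q (tv D.hF (rvec K p) b hpp hb) ∉
      Cfsg.Geo.subfieldSubgroup K (1 : GL (Fin n) F) := by
  classical
  intro hmem
  obtain ⟨l, B, hB⟩ := exists_eq_of_mem_subfieldSubgroup K 1 _ hmem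
  rw [inv_one, one_mul, mul_one] at hB
  have hent : ∀ i j : Fin n, (if i = j then (1 : F) else 0) + b * (p i : F) * (p j : F) ^ q =
      l * (B i j : F) := by
    intro i j
    have h1 := congrFun (congrFun hB i) j
    rw [Matrix.smul_apply, smul_eq_mul] at h1
    change _ = l * (B i j : F) at h1
    rw [← h1]
    have h2 : ((suGL n F q (tv D.hF (rvec K p) b hpp hb) : GL (Fin n) F) :
        Matrix (Fin n) (Fin n) F) i j = av (tv D.hF (rvec K p) b hpp hb) (Pi.single j 1) i := by
      rw [av_single]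
      rfl
    rw [h2, av_tv, herm_single_left']
    simp only [Pi.add_apply, Pi.smul_apply, smul_eq_mul, rvec, Pi.single_apply]
    ring
  have hb0 : b ≠ 0 := fun h => hbK (h ▸ K.zero_mem)
  obtain ⟨i₀, hi₀⟩ : ∃ i, p i ≠ 0 := by
    by_contra hne
    push Not at hne
    exact hp (funext hne)
  obtain ⟨i₁, hi₁, hne⟩ : ∃ i, p i ≠ 0 ∧ i ≠ i₀ := by
    by_contra hne
    push Not at hne
    have h1 : hh (rvec K p) (rvec K p) = (p i₀ : F) * (p i₀ : F) ^ q := by
      simp only [Cfsg.hermForm, rvec]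
      rw [Finset.sum_eq_single i₀]
      · intro j _ hj
        have : p j = 0 := by
          by_contra h
          exact hj (hne j h)
        rw [this]
        simp
      · intro h
        exact absurd (Finset.mem_univ _) h
    rw [hpp] at h1
    have h2 : (p i₀ : F) ≠ 0 := by
      intro h
      apply hi₀
      exact_mod_cast h
    rcases mul_eq_zero.mp h1.symm with h | h
    · exact h2 h
    · exact h2 (pow_eq_zero_iff (q_pos D.hF).ne' |>.mp h)
  have h0 : (p i₀ : F) ≠ 0 := by
    intro h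
    apply hi₀
    exact_mod_cast h
  have h1 : (p i₁ : F) ≠ 0 := by
    intro h
    apply hi₁
    exact_mod_cast h
  have e1 := hent i₀ i₁
  rw [if_neg (Ne.symm hne), zero_add] at e1
  have e0 := hent i₀ i₀
  rw [if_pos rfl] at e0
  -- `b = k'⁻¹` with `k'` rational
  have hc1 : b * (p i₀ : F) * (p i₁ : F) ^ q ≠ 0 :=
    mul_ne_zero (mul_ne_zero hb0 h0) (pow_ne_zero _ h1)
  have hk1 : (B i₀ i₁ : F) ≠ 0 := by
    intro h
    rw [h, mul_zero] at e1
    exact hc1 e1
  have hl : l = b * ((p i₀ : F) * (p i₁ : F) ^ q / (B i₀ i₁ : F)) := by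
    field_simp
    linear_combination -e1
  have key : b * ((p i₀ : F) * (p i₁ : F) ^ q / (B i₀ i₁ : F) * (B i₀ i₀ : F) -
      (p i₀ : F) * (p i₀ : F) ^ q) = 1 := by
    rw [hl] at e0
    linear_combination -e0
  have hk'K : ((p i₀ : F) * (p i₁ : F) ^ q / (B i₀ i₁ : F) * (B i₀ i₀ : F) -
      (p i₀ : F) * (p i₀ : F) ^ q) ∈ K := by
    apply K.sub_mem
    · exact K.mul_mem (K.div_mem (K.mul_mem (p i₀).2 (K.pow_mem (p i₁).2 q)) (B i₀ i₁).2)
        (B i₀ i₀).2
    · exact K.mul_mem (p i₀).2 (K.pow_mem (p i₀).2 q)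
  apply hbK
  have : b = ((p i₀ : F) * (p i₁ : F) ^ q / (B i₀ i₁ : F) * (B i₀ i₀ : F) -
      (p i₀ : F) * (p i₀ : F) ^ q)⁻¹ := eq_inv_of_mul_eq_one_left key
  rw [this]
  exact K.inv_mem hk'K

end strict

end Cfsg.Agent.Lib.Helper9.USub
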