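import Mathlib
import Cfsg.Agent.Lib.Helper9.USubMain
import Cfsg.Agent.Lib.Helper9.USubS
import Cfsg.Agent.Lib.Helper24.S5658FOP
import Cfsg.Agent.Lib.Helper7.S5658BMain

/-!
# The unitary subfield subgroups `GU_n(q₀)·scalars ∩ SU_n(q)` are maximal in `SU_n(q)`
(`q = q₀ ^ r`, `r` an odd prime, `n ≥ 13`)
-/

set_option autoImplicit false
set_option linter.unusedSectionVars false
set_option linter.unusedVariables false

namespace Cfsg.Agent.Lib.Helper9.USub

open Matrix Cfsg.Agent.Lib.Helper6 Cfsg.Agent.S0779 Cfsg.Agent.S0781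
open Cfsg.Agent.Lib.Helper6.SUG Cfsg.Agent.Lib.Helper13 Cfsg.Agent.Lib.Helper9.SUGen

variable {F : Type*} [Field F] [Fintype F] {q q₀ n : ℕ}

local notation "hh" => Cfsg.hermForm n F q

/-- the case P = 1 -/
theorem usub_maximal_one {K : Subfield F} [Fintype K] (D : SubD q q₀ K) (r : ℕ) (hr : r.Prime)
    (hcard : Fintype.card F = Nat.card K ^ r) (hn : 13 ≤ n) :
    Cfsg.Geo.IsMaximalIn (Cfsg.GU n F q ⊓ Cfsg.Geo.specialLinear (Fin n) F)
      (Cfsg.Geo.subfieldSubgroup K (1 : GL (Fin n) F) ⊓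
        (Cfsg.GU n F q ⊓ Cfsg.Geo.specialLinear (Fin n) F)) := by
  classical
  obtain ⟨C₀⟩ := exists_hyp D.hK
  refine ⟨lt_of_le_of_ne inf_le_right ?_, ?_⟩
  · intro heq
    obtain ⟨b, hb, hbK⟩ := SubD_exists_param D r hr hcard
    have hee := herm_fe_fe (n := n) D C₀ 0 0 (by omega)
    have h1 : suGL n F q (tv D.hF (rvec K (fe K C₀ n 0)) b hee hb) ∈
        Cfsg.Geo.subfieldSubgroup K (1 : GL (Fin n) F) ⊓
          (Cfsg.GU n F q ⊓ Cfsg.Geo.specialLinear (Fin n) F) := by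
      rw [heq]
      exact suGL_mem _
    exact tv_not_mem_subfield D _ (fe_ne_zero D C₀ 0 (by omega)) hee b hb hbK h1.1
  · intro M hHM hMS
    by_cases hMH : M ≤ Cfsg.Geo.subfieldSubgroup K (1 : GL (Fin n) F) ⊓
        (Cfsg.GU n F q ⊓ Cfsg.Geo.specialLinear (Fin n) F)
    · exact Or.inl (le_antisymm hMH hHM)
    right
    obtain ⟨g, hgM, hgH⟩ := SetLike.not_le_iff_exists.mp hMH
    have hgS := hMS hgM
    have hgK : g ∉ Cfsg.Geo.subfieldSubgroup K (1 : GL (Fin n) F) := fun hk => hgH ⟨hk, hgS⟩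
    obtain ⟨g', hg'⟩ := exists_suGL_eq g hgS
    have hL : ∀ x : ↥(Cfsg.SU n F q), RatSU K x → x ∈ M.comap (suGL n F q) := by
      intro x hx
      rw [Subgroup.mem_comap]
      exact hHM ⟨hx.mem_subfield, suGL_mem _⟩
    have hgL : g' ∈ M.comap (suGL n F q) := by
      rw [Subgroup.mem_comap, hg']
      exact hgM
    have hG := Cfsg.Agent.Lib.Helper7.S5658B.good_of_not_mem D hn (M.comap (suGL n F q)) hL g' hgL
      (by rw [hg']; exact hgK)
    have htop := top_of_good D r hr hcard (by omega) (M.comap (suGL n F q)) hL hG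
    refine le_antisymm hMS ?_
    intro s hs
    obtain ⟨s', hs'⟩ := exists_suGL_eq s hs
    have : s' ∈ M.comap (suGL n F q) := by rw [htop]; exact Subgroup.mem_top _
    rw [Subgroup.mem_comap, hs'] at this
    exact this

/-- **S5658** -/
theorem usub_maximal (hF : Fintype.card F = q ^ 2) (hn : 13 ≤ n) (F₀ : Subfield F) (r : ℕ)
    (hr : r.Prime) (hro : Odd r) (hcard : Fintype.card F = Nat.card F₀ ^ r)
    (P : Matrix.GeneralLinearGroup (Fin n) F)
    (hP : Cfsg.Geo.IsFormRationalStructure (Cfsg.hermForm n F q) F₀ 1 P) :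
    Cfsg.Geo.IsMaximalIn (Cfsg.GU n F q ⊓ Cfsg.Geo.specialLinear (Fin n) F)
      (Cfsg.Geo.subfieldSubgroup F₀ P ⊓
        (Cfsg.GU n F q ⊓ Cfsg.Geo.specialLinear (Fin n) F)) := by
  classical
  have : Fintype F₀ := Fintype.ofFinite F₀
  obtain ⟨q₀, D, -⟩ := exists_subD hF F₀ r hr hro hcard
  exact Cfsg.Agent.Lib.Helper24.S5658FOP.isMaximalIn_of_one D P hP
    (usub_maximal_one D r hr hcard hn)

end Cfsg.Agent.Lib.Helper9.USub
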