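import Mathlib
import Cfsg.Agent.Lib.Helper9.ZStar
import Cfsg.Agent.Lib.Helper9.Isolated2
import Cfsg.Agent.Lib.Helper1.CoprimeSylow

/-!
Applications of the `Z*`-theorem to isolated involutions: invariant Sylow subgroups.
-/

set_option autoImplicit false

namespace Cfsg.Agent.Lib.Helper9

open Cfsg Subgroup
open Pointwise
open Cfsg.Agent.Lib.Helper1

universe u

variable {G : Type u} [Group G] [Finite G]

/-- An isolated involution normalizes every subgroup containing `O(G)`. -/
theorem isolated_mem_normalizer_of_core_le {z : G} (hz : IsIsolatedInvolution z)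
    {M : Subgroup G} (hKM : pPrimeCore 2 G ≤ M) : z ∈ normalizer (M : Set G) := by
  have key : ∀ m ∈ M, z * m * z⁻¹ ∈ M := by
    intro m hm
    have h1 : z * m * z⁻¹ * m⁻¹ ∈ M := hKM (zstar hz m)
    have : z * m * z⁻¹ = z * m * z⁻¹ * m⁻¹ * m := by group
    rw [this]
    exact M.mul_mem h1 hm
  rw [Subgroup.mem_normalizer_iff]
  intro m
  refine ⟨key m, fun h => ?_⟩
  have hzinv : z⁻¹ = z := inv_eq_self_of_sq (isolated_sq hz)
  have := key _ h
  rw [hzinv] at this
  have e : z * (z * m * z) * z = (z * z) * m * (z * z) := by group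
  rw [e, isolated_sq hz, one_mul, mul_one] at this
  exact this

/-- `|K ⊔ P|` is odd when `K` is normal of odd order and `P` is a `p`-group, `p` odd. -/
theorem odd_card_sup_of_odd {K P : Subgroup G} [K.Normal] (hK : Odd (Nat.card K)) {p : ℕ}
    [Fact p.Prime] (hp : p ≠ 2) (hP : IsPGroup p P) : Odd (Nat.card ↥(K ⊔ P)) := by
  have h1 : Nat.card ↥(K ⊔ P) = Nat.card K * K.relIndex (K ⊔ P) := by
    rw [Subgroup.relIndex, ← Subgroup.card_mul_index (K.subgroupOf (K ⊔ P)),
      Nat.card_congr (Subgroup.subgroupOfEquivOfLe (le_sup_left : K ≤ K ⊔ P)).toEquiv]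
  rw [h1, Subgroup.relIndex_sup_left]
  refine hK.mul ?_
  obtain ⟨n, hn⟩ := IsPGroup.iff_card.mp hP
  have hdvd : K.relIndex P ∣ p ^ n := hn ▸ Subgroup.relIndex_dvd_card K P
  obtain ⟨k, -, hk⟩ := (Nat.dvd_prime_pow (Fact.out : p.Prime)).mp hdvd
  rw [hk]
  exact ((Fact.out : p.Prime).odd_of_ne_two hp).pow

theorem coprimeAct_zpowers_of_odd {z : G} (hz2 : orderOf z = 2) {M : Subgroup G}
    (hzM : z ∈ normalizer (M : Set G)) (hM : Odd (Nat.card M)) :
    CoprimeAct (zpowers z) M where
  norm := by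
    rw [Subgroup.zpowers_le]; exact hzM
  cop := by
    rw [Nat.card_zpowers, hz2]
    exact (Nat.coprime_two_left).mpr hM
  solv := Or.inl inferInstance

/-- An isolated involution normalizing a `p`-subgroup `Q` (`p` odd) normalizes a Sylow
`p`-subgroup of `G` containing `Q`. -/
theorem isolated_exists_invariant_sylow_ge {z : G} (hz : IsIsolatedInvolution z) {p : ℕ}
    [Fact p.Prime] (hp : p ≠ 2) {Q : Subgroup G} (hQ : IsPGroup p Q)
    (hzQ : z ∈ normalizer (Q : Set G)) :
    ∃ P : Sylow p G, Q ≤ P ∧ z ∈ normalizer ((P : Subgroup G) : Set G) := by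
  obtain ⟨P₀, hQP₀⟩ := hQ.exists_le_sylow
  have hKn : (pPrimeCore 2 G).Normal := Cfsg.Agent.Lib.Helper1.pPrimeCore_normal 2
  have hKodd : Odd (Nat.card (pPrimeCore 2 G)) :=
    Nat.coprime_two_right.mp (Cfsg.Agent.Lib.Helper1.pPrimeCore_coprime 2)
  set M := pPrimeCore 2 G ⊔ (P₀ : Subgroup G) with hM
  have hzM : z ∈ normalizer (M : Set G) := isolated_mem_normalizer_of_core_le hz le_sup_left
  have hModd : Odd (Nat.card M) := odd_card_sup_of_odd hKodd hp P₀.isPGroup'
  have hact := coprimeAct_zpowers_of_odd hz.1 hzM hModd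
  have hzQ' : zpowers z ≤ normalizer (Q : Set G) := by
    rw [Subgroup.zpowers_le]; exact hzQ
  obtain ⟨R, hQR, hzR⟩ := hact.exists_invariant_sylow_ge Q (hQP₀.trans le_sup_right) hQ hzQ'
  -- `R.map` is a Sylow subgroup of `G`
  have hcard : Nat.card ((R : Subgroup M).map M.subtype) = p ^ (Nat.card G).factorization p := by
    rw [← Nat.card_congr ((R : Subgroup M).equivMapOfInjective _ M.subtype_injective).toEquiv,
      R.card_eq_multiplicity]
    congr 1
    apply le_antisymm
    · exact (Nat.factorization_le_iff_dvd Nat.card_pos.ne' Nat.card_pos.ne').mpr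
        (Subgroup.card_subgroup_dvd_card M) p
    · have h1 : Nat.card (P₀ : Subgroup G) ∣ Nat.card M := Subgroup.card_dvd_of_le le_sup_right
      rw [P₀.card_eq_multiplicity] at h1
      exact (Nat.Prime.pow_dvd_iff_le_factorization Fact.out Nat.card_pos.ne').mp h1
  refine ⟨Sylow.ofCard _ hcard, ?_, ?_⟩
  · rw [Sylow.coe_ofCard]; exact hQR
  · rw [Sylow.coe_ofCard]; exact hzR (Subgroup.mem_zpowers z)

/-- `G = O(G) C_G(z)` for an isolated involution: every conjugate of `z` is an `O(G)`-conjugate. -/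
theorem isolated_exists_core_conj {z : G} (hz : IsIsolatedInvolution z) (g : G) :
    ∃ y ∈ pPrimeCore 2 G, y * z * y⁻¹ = g * z * g⁻¹ := by
  obtain ⟨k, hk⟩ := isolated_conj_pow hz g
  refine ⟨(z * (g * z * g⁻¹)) ^ k, ?_, hk⟩
  apply Subgroup.pow_mem
  have hzinv : z⁻¹ = z := inv_eq_self_of_sq (isolated_sq hz)
  have := zstar hz g
  rw [hzinv] at this
  have e : z * (g * z * g⁻¹) = z * g * z * g⁻¹ := by group
  rw [e]; exact this

/-- The `p`-part of `|K ⊔ P|` is `|P|` for a Sylow `p`-subgroup `P` of `G`. -/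
theorem sylow_card_eq_pow_factorization_sup {p : ℕ} [Fact p.Prime] (P : Sylow p G)
    (K : Subgroup G) :
    Nat.card (P : Subgroup G) = p ^ (Nat.card ↥(K ⊔ (P : Subgroup G))).factorization p := by
  rw [P.card_eq_multiplicity]
  congr 1
  apply le_antisymm
  · have h1 : Nat.card (P : Subgroup G) ∣ Nat.card ↥(K ⊔ (P : Subgroup G)) :=
      Subgroup.card_dvd_of_le le_sup_right
    rw [P.card_eq_multiplicity] at h1
    exact (Nat.Prime.pow_dvd_iff_le_factorization Fact.out Nat.card_pos.ne').mp h1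
  · exact (Nat.factorization_le_iff_dvd Nat.card_pos.ne' Nat.card_pos.ne').mpr
      (Subgroup.card_subgroup_dvd_card _) p

/-- Two Sylow `p`-subgroups (`p` odd) normalized by an isolated involution `z` are conjugate
under `C_G(z)`. -/
theorem isolated_sylow_conj {z : G} (hz : IsIsolatedInvolution z) {p : ℕ} [Fact p.Prime]
    (hp : p ≠ 2) (P P' : Sylow p G) (hzP : z ∈ normalizer ((P : Subgroup G) : Set G))
    (hzP' : z ∈ normalizer ((P' : Subgroup G) : Set G)) :
    ∃ c ∈ centralizer ({z} : Set G), MulAut.conj c • (P : Subgroup G) = P' := by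
  obtain ⟨g, hg⟩ := MulAction.exists_smul_eq G P P'
  have hg' : MulAut.conj g • (P : Subgroup G) = P' := by
    have := congrArg (fun S : Sylow p G => (S : Subgroup G)) hg
    simpa [Sylow.coe_subgroup_smul] using this
  obtain ⟨y, hyK, hy⟩ := isolated_exists_core_conj hz g
  have hcC : y⁻¹ * g ∈ centralizer ({z} : Set G) := by
    have := mem_centralizer_singleton_of_conj_eq (z := z) (g := y) (k := g) hy.symm
    exact this
  set c := y⁻¹ * g with hc
  have hKn : (pPrimeCore 2 G).Normal := Cfsg.Agent.Lib.Helper1.pPrimeCore_normal 2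
  have hKodd : Odd (Nat.card (pPrimeCore 2 G)) :=
    Nat.coprime_two_right.mp (Cfsg.Agent.Lib.Helper1.pPrimeCore_coprime 2)
  set M := pPrimeCore 2 G ⊔ (P' : Subgroup G) with hM
  have hzM : z ∈ normalizer (M : Set G) := isolated_mem_normalizer_of_core_le hz le_sup_left
  have hModd : Odd (Nat.card M) := odd_card_sup_of_odd hKodd hp P'.isPGroup'
  have hact := coprimeAct_zpowers_of_odd hz.1 hzM hModd
  -- `P'' = c P c⁻¹ = y⁻¹ P' y`
  have hP'' : MulAut.conj c • (P : Subgroup G) = MulAut.conj y⁻¹ • (P' : Subgroup G) := by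
    rw [← hg', smul_smul, ← map_mul]
  have hcz : c * z * c⁻¹ = z := by
    rw [Subgroup.mem_centralizer_iff] at hcC
    have := hcC z rfl
    rw [← this]; group
  have hcz' : c⁻¹ * z * c = z := by
    conv_lhs => rw [← hcz]
    group
  have hP''M : MulAut.conj c • (P : Subgroup G) ≤ M := by
    rw [hP'', conj_smul_le_iff]
    intro x hx
    have hyM : y ∈ M := le_sup_left (a := pPrimeCore 2 G) hyK
    exact M.mul_mem (M.mul_mem (M.inv_mem hyM) (le_sup_right (a := pPrimeCore 2 G) hx))
      (M.inv_mem (M.inv_mem hyM))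
  have hzP'' : zpowers z ≤ normalizer ((MulAut.conj c • (P : Subgroup G) : Subgroup G) : Set G) := by
    rw [Subgroup.zpowers_le]
    have key : ∀ x ∈ MulAut.conj c • (P : Subgroup G), z * x * z⁻¹ ∈ MulAut.conj c • (P : Subgroup G) := by
      intro x hx
      rw [mem_conj_smul] at hx ⊢
      have h1 : z * (c⁻¹ * x * c) * z⁻¹ ∈ (P : Subgroup G) :=
        (Subgroup.mem_normalizer_iff.mp hzP _).mp hx
      have e : c⁻¹ * (z * x * z⁻¹) * c = z * (c⁻¹ * x * c) * z⁻¹ := by
        have h2 : c⁻¹ * z = z * c⁻¹ := by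
          have := hcz'
          calc c⁻¹ * z = c⁻¹ * z * c * c⁻¹ := by group
            _ = z * c⁻¹ := by rw [this]
        have h3 : z⁻¹ * c = c * z⁻¹ := by
          have : c * z = z * c := by
            calc c * z = c * z * c⁻¹ * c := by group
              _ = z * c := by rw [hcz]
          calc z⁻¹ * c = z⁻¹ * (c * z) * z⁻¹ := by group
            _ = z⁻¹ * (z * c) * z⁻¹ := by rw [this]
            _ = c * z⁻¹ := by group
        calc c⁻¹ * (z * x * z⁻¹) * c = (c⁻¹ * z) * x * (z⁻¹ * c) := by group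
          _ = (z * c⁻¹) * x * (c * z⁻¹) := by rw [h2, h3]
          _ = z * (c⁻¹ * x * c) * z⁻¹ := by group
      rw [e]; exact h1
    have hzinv : z⁻¹ = z := inv_eq_self_of_sq (isolated_sq hz)
    rw [Subgroup.mem_normalizer_iff]
    intro x
    refine ⟨key x, fun h => ?_⟩
    have := key _ h
    rw [hzinv] at this
    have e : z * (z * x * z) * z = (z * z) * x * (z * z) := by group
    rw [e, isolated_sq hz, one_mul, mul_one] at this
    exact this
  have hzP'z : zpowers z ≤ normalizer ((P' : Subgroup G) : Set G) := by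
    rw [Subgroup.zpowers_le]; exact hzP'
  have hcardP' := sylow_card_eq_pow_factorization_sup P' (pPrimeCore 2 G)
  let X'' : SylSet p M := ⟨MulAut.conj c • (P : Subgroup G), hP''M, by
    rw [card_conj_smul, ← hcardP', P.card_eq_multiplicity, P'.card_eq_multiplicity]⟩
  let X' : SylSet p M := ⟨(P' : Subgroup G), le_sup_right, hcardP'⟩
  obtain ⟨m, hm, hmP⟩ := hact.exists_conj_sylSet X'' X' hzP'' hzP'z
  obtain ⟨-, hmC⟩ := Subgroup.mem_inf.mp hm
  have hmz : m ∈ centralizer ({z} : Set G) := by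
    rw [Subgroup.mem_centralizer_iff] at hmC ⊢
    intro x hx
    rw [Set.mem_singleton_iff] at hx
    subst hx
    exact hmC x (Subgroup.mem_zpowers x)
  refine ⟨m * c, Subgroup.mul_mem _ hmz hcC, ?_⟩
  rw [map_mul, mul_smul]
  exact hmP

omit [Finite G] in
/-- For an involution `z` normalizing a subgroup `P` of odd order, the index of `C_P(z)` in `P`
is the number of elements of `P` inverted by `z`. -/
theorem relIndex_inf_centralizer_eq_card_inverted {z : G} (hz : z * z = 1) {P : Subgroup G}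
    [Finite P] (hzP : z ∈ normalizer (P : Set G)) (hodd : Odd (Nat.card P)) :
    (P ⊓ centralizer ({z} : Set G)).relIndex P =
      Nat.card {x : G // x ∈ P ∧ z * x * z⁻¹ = x⁻¹} := by
  have hzinv : z⁻¹ = z := inv_eq_self_of_sq hz
  rw [Subgroup.relIndex, Subgroup.index]
  have hmem : ∀ x : P, (x : G) * z * (x : G)⁻¹ * z⁻¹ ∈ P ∧
      z * ((x : G) * z * (x : G)⁻¹ * z⁻¹) * z⁻¹ = ((x : G) * z * (x : G)⁻¹ * z⁻¹)⁻¹ := by
    intro x
    constructor
    · have h1 : z * (x : G)⁻¹ * z⁻¹ ∈ P :=
        (Subgroup.mem_normalizer_iff.mp hzP _).mp (P.inv_mem x.2)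
      have : (x : G) * z * (x : G)⁻¹ * z⁻¹ = (x : G) * (z * (x : G)⁻¹ * z⁻¹) := by group
      rw [this]; exact P.mul_mem x.2 h1
    · rw [hzinv]
      have e1 : z * ((x : G) * z * (x : G)⁻¹ * z) * z = z * (x : G) * z * (x : G)⁻¹ * (z * z) := by
        group
      rw [e1, hz, mul_one]
      simp only [mul_inv_rev, inv_inv, hzinv]
      group
  let f : (↥P ⧸ (P ⊓ centralizer ({z} : Set G)).subgroupOf P) →
      {x : G // x ∈ P ∧ z * x * z⁻¹ = x⁻¹} :=
    fun q => Quotient.liftOn' q (fun x : P => ⟨(x : G) * z * (x : G)⁻¹ * z⁻¹, hmem x⟩) (by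
      intro x y hxy
      rw [QuotientGroup.leftRel_apply, Subgroup.mem_subgroupOf, Subgroup.mem_inf] at hxy
      obtain ⟨-, hc⟩ := hxy
      rw [Subgroup.mem_centralizer_iff] at hc
      have h := hc z rfl
      apply Subtype.ext
      show (x : G) * z * (x : G)⁻¹ * z⁻¹ = (y : G) * z * (y : G)⁻¹ * z⁻¹
      have h' : z * ((x : G)⁻¹ * (y : G)) = ((x : G)⁻¹ * (y : G)) * z := by
        simpa using h
      have : (x : G) * z * (x : G)⁻¹ = (y : G) * z * (y : G)⁻¹ := by
        calc (x : G) * z * (x : G)⁻¹ = (x : G) * (z * ((x : G)⁻¹ * (y : G))) * (y : G)⁻¹ := by group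
          _ = (x : G) * (((x : G)⁻¹ * (y : G)) * z) * (y : G)⁻¹ := by rw [h']
          _ = (y : G) * z * (y : G)⁻¹ := by group
      rw [this])
  have hf : Function.Bijective f := by
    constructor
    · intro q₁ q₂
      induction q₁ using Quotient.inductionOn' with | _ x => ?_
      induction q₂ using Quotient.inductionOn' with | _ y => ?_
      intro h
      have h' : (x : G) * z * (x : G)⁻¹ * z⁻¹ = (y : G) * z * (y : G)⁻¹ * z⁻¹ :=
        congrArg Subtype.val h
      have h'' : (x : G) * z * (x : G)⁻¹ = (y : G) * z * (y : G)⁻¹ := mul_right_cancel h'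
      apply Quotient.sound'
      rw [QuotientGroup.leftRel_apply, Subgroup.mem_subgroupOf, Subgroup.mem_inf]
      refine ⟨(x⁻¹ * y).2, ?_⟩
      rw [Subgroup.mem_centralizer_iff]
      intro w hw
      rw [Set.mem_singleton_iff] at hw
      subst hw
      show w * (((x⁻¹ * y : P) : G)) = ((x⁻¹ * y : P) : G) * w
      rw [Subgroup.coe_mul, Subgroup.coe_inv]
      calc w * ((x : G)⁻¹ * (y : G)) = (x : G)⁻¹ * ((x : G) * w * (x : G)⁻¹) * (y : G) := by group
        _ = (x : G)⁻¹ * ((y : G) * w * (y : G)⁻¹) * (y : G) := by rw [h'']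
        _ = (x : G)⁻¹ * (y : G) * w := by group
    · rintro ⟨k, hkP, hk⟩
      have hkodd : Odd (orderOf k) := by
        have h1 : orderOf k ∣ Nat.card P := by
          have := orderOf_dvd_natCard (⟨k, hkP⟩ : P)
          rwa [← Subgroup.orderOf_coe] at this
        exact Odd.of_dvd_nat hodd h1
      obtain ⟨n, hn⟩ := hkodd
      have hmP : k ^ (n + 1) ∈ P := P.pow_mem hkP _
      refine ⟨Quotient.mk'' ⟨k ^ (n + 1), hmP⟩, ?_⟩
      apply Subtype.ext
      show k ^ (n + 1) * z * (k ^ (n + 1))⁻¹ * z⁻¹ = k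
      have h1 : z * (k ^ (n + 1))⁻¹ * z⁻¹ = k ^ (n + 1) := by
        have h0 : z * k⁻¹ * z⁻¹ = k := by
          have := congrArg (·⁻¹) hk
          simpa [mul_assoc] using this
        rw [← inv_pow, ← conj_pow, h0]
      calc k ^ (n + 1) * z * (k ^ (n + 1))⁻¹ * z⁻¹
          = k ^ (n + 1) * (z * (k ^ (n + 1))⁻¹ * z⁻¹) := by group
        _ = k ^ (n + 1) * k ^ (n + 1) := by rw [h1]
        _ = k ^ (orderOf k) * k := by rw [hn, ← pow_add, ← pow_succ]; congr 1; omega
        _ = k := by rw [pow_orderOf_eq_one, one_mul]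
  exact Nat.card_congr (Equiv.ofBijective f hf)

/-- For a Sylow `p`-subgroup `P` (`p` odd) normalized by an isolated involution `z`,
`C_P(z)` is a Sylow `p`-subgroup of `C_G(z)`. -/
theorem isolated_card_sylow_inf_centralizer {z : G} (hz : IsIsolatedInvolution z) {p : ℕ}
    [Fact p.Prime] (hp : p ≠ 2) (P : Sylow p G)
    (hzP : z ∈ normalizer ((P : Subgroup G) : Set G)) :
    Nat.card ↥((P : Subgroup G) ⊓ centralizer ({z} : Set G)) =
      p ^ (Nat.card (centralizer ({z} : Set G))).factorization p := by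
  obtain ⟨R⟩ : Nonempty (Sylow p (centralizer ({z} : Set G))) := inferInstance
  have hR' : IsPGroup p ((R : Subgroup (centralizer ({z} : Set G))).map
      (centralizer ({z} : Set G)).subtype) := R.isPGroup'.map _
  have hR'C : (R : Subgroup (centralizer ({z} : Set G))).map
      (centralizer ({z} : Set G)).subtype ≤ centralizer ({z} : Set G) :=
    Subgroup.map_subtype_le _
  have hzR' : z ∈ normalizer (((R : Subgroup (centralizer ({z} : Set G))).map
      (centralizer ({z} : Set G)).subtype : Subgroup G) : Set G) := by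
    rw [Subgroup.mem_normalizer_iff]
    intro x
    have key : ∀ x ∈ centralizer ({z} : Set G), z * x * z⁻¹ = x := by
      intro x hx
      rw [Subgroup.mem_centralizer_iff] at hx
      have := hx z rfl
      rw [this]; group
    constructor
    · intro hx
      rw [key x (hR'C hx)]; exact hx
    · intro hx
      have h1 := hR'C hx
      have h2 : x ∈ centralizer ({z} : Set G) := by
        have h3 : z ∈ centralizer ({z} : Set G) := by
          rw [Subgroup.mem_centralizer_iff]; intro y hy
          rw [Set.mem_singleton_iff] at hy; rw [hy]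
        have := Subgroup.mul_mem _ (Subgroup.mul_mem _ (Subgroup.inv_mem _ h3) h1) h3
        convert this using 1; group
      rw [key x h2] at hx; exact hx
  obtain ⟨P', hR'P', hzP'⟩ := isolated_exists_invariant_sylow_ge hz hp hR' hzR'
  have hmax : ((P' : Subgroup G) ⊓ centralizer ({z} : Set G)).subgroupOf
      (centralizer ({z} : Set G)) = R := by
    apply R.is_maximal'
    · have : IsPGroup p ↥((P' : Subgroup G) ⊓ centralizer ({z} : Set G)) :=
        P'.isPGroup'.to_le inf_le_left
      exact this.comap_subtype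
    · intro x hx
      rw [Subgroup.mem_subgroupOf, Subgroup.mem_inf]
      exact ⟨hR'P' (Subgroup.mem_map_of_mem _ hx), x.2⟩
  have hcard' : Nat.card ↥((P' : Subgroup G) ⊓ centralizer ({z} : Set G)) =
      p ^ (Nat.card (centralizer ({z} : Set G))).factorization p := by
    rw [← Nat.card_congr (Subgroup.subgroupOfEquivOfLe
      (inf_le_right : (P' : Subgroup G) ⊓ centralizer ({z} : Set G) ≤ _)).toEquiv, hmax]
    exact R.card_eq_multiplicity
  obtain ⟨c, hcC, hcP⟩ := isolated_sylow_conj hz hp P P' hzP hzP'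
  rw [← hcard', ← hcP, ← card_conj_smul c ((P : Subgroup G) ⊓ centralizer ({z} : Set G)),
    Subgroup.smul_inf, Subgroup.conj_smul_eq_self_of_mem hcC]

theorem isolated_sylow_inf_centralizer_not_dvd {z : G} (hz : IsIsolatedInvolution z) {p : ℕ}
    [Fact p.Prime] (hp : p ≠ 2) (P : Sylow p G)
    (hzP : z ∈ normalizer ((P : Subgroup G) : Set G)) :
    ¬ p ∣ ((P : Subgroup G) ⊓ centralizer ({z} : Set G)).relIndex
      (centralizer ({z} : Set G)) := by
  have hcard := isolated_card_sylow_inf_centralizer hz hp P hzP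
  have hcard2 : Nat.card (((P : Subgroup G) ⊓ centralizer ({z} : Set G)).subgroupOf
      (centralizer ({z} : Set G))) = p ^ (Nat.card (centralizer ({z} : Set G))).factorization p := by
    rw [Nat.card_congr (Subgroup.subgroupOfEquivOfLe
      (inf_le_right : (P : Subgroup G) ⊓ centralizer ({z} : Set G) ≤ _)).toEquiv, hcard]
  exact (Sylow.ofCard _ hcard2).not_dvd_index

end Cfsg.Agent.Lib.Helper9
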