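import Mathlib
import Cfsg.Prelude.Def_FusionSystem
import Cfsg.Agent.Lib.Helper9.ZStarGen

/-!
Glauberman's `Z*`-theorem in fusion language: `Z(F_S(G)) = S ∩ Z*(G)`.
-/

set_option autoImplicit false

namespace Cfsg.Agent.Lib.Helper9

open Cfsg Cfsg.Agent.Lib.Helper1
open Pointwise

universe u

variable {G : Type u} [Group G] [Finite G]

/-- `S ∩ Z*(G)`. -/
def zstarInf (S : Sylow 2 G) : Subgroup G :=
  (S : Subgroup G) ⊓ (Subgroup.center (G ⧸ pPrimeCore 2 G)).comap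
    (QuotientGroup.mk' (pPrimeCore 2 G))

theorem sylow_inf_pPrimeCore (S : Sylow 2 G) : (S : Subgroup G) ⊓ pPrimeCore 2 G = ⊥ := by
  have h2 : Fact (Nat.Prime 2) := ⟨Nat.prime_two⟩
  rw [← disjoint_iff]
  apply Subgroup.disjoint_of_coprime_natCard
  obtain ⟨n, hn⟩ := IsPGroup.iff_card.mp S.isPGroup'
  rw [hn]
  exact Nat.Coprime.pow_left n (pPrimeCore_coprime 2).symm

theorem mem_zstarInf_iff (S : Sylow 2 G) {x : G} :
    x ∈ zstarInf S ↔ x ∈ (S : Subgroup G) ∧ ∀ g : G, g * x * g⁻¹ * x⁻¹ ∈ pPrimeCore 2 G := by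
  have hNn : (pPrimeCore 2 G).Normal := Cfsg.Agent.Lib.Helper1.pPrimeCore_normal 2
  rw [zstarInf, Subgroup.mem_inf, Subgroup.mem_comap, Subgroup.mem_center_iff]
  constructor
  · rintro ⟨hxS, hc⟩
    refine ⟨hxS, fun g => ?_⟩
    rw [← QuotientGroup.eq_one_iff]
    have := hc (QuotientGroup.mk g)
    simp only [QuotientGroup.mk_mul, QuotientGroup.mk_inv]
    rw [QuotientGroup.mk'_apply] at this
    rw [this, mul_inv_cancel_right, mul_inv_cancel]
  · rintro ⟨hxS, hc⟩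
    refine ⟨hxS, fun g' => ?_⟩
    obtain ⟨g, rfl⟩ := QuotientGroup.mk_surjective g'
    have := (QuotientGroup.eq_one_iff _).mpr (hc g)
    simp only [QuotientGroup.mk_mul, QuotientGroup.mk_inv] at this
    rw [QuotientGroup.mk'_apply]
    have h1 := congrArg (· * ((QuotientGroup.mk x : G ⧸ pPrimeCore 2 G) * QuotientGroup.mk g)) this
    simpa [mul_assoc] using h1

/-- Elements of `S ∩ Z*(G)` are weakly closed in `S`. -/
theorem zstarInf_weakly_closed (S : Sylow 2 G) {x : G} (hx : x ∈ zstarInf S) (g : G)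
    (hg : g * x * g⁻¹ ∈ (S : Subgroup G)) : g * x * g⁻¹ = x := by
  obtain ⟨hxS, hc⟩ := (mem_zstarInf_iff S).mp hx
  have h1 : g * x * g⁻¹ * x⁻¹ ∈ (S : Subgroup G) ⊓ pPrimeCore 2 G :=
    Subgroup.mem_inf.mpr ⟨Subgroup.mul_mem _ hg (Subgroup.inv_mem _ hxS), hc g⟩
  rw [sylow_inf_pPrimeCore, Subgroup.mem_bot] at h1
  exact mul_inv_eq_one.mp h1

/-- In any conjugate of `S` containing it, an element of `S ∩ Z*(G)` is the only conjugate of
itself. -/
theorem zstarInf_unique_conj (S : Sylow 2 G) {x : G} (hx : x ∈ zstarInf S) (h a : G)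
    (hxh : h⁻¹ * x * h ∈ (S : Subgroup G)) (hah : h⁻¹ * (a * x * a⁻¹) * h ∈ (S : Subgroup G)) :
    a * x * a⁻¹ = x := by
  have h1 : h⁻¹ * x * h = x := by
    have := zstarInf_weakly_closed S hx h⁻¹ (by simpa using hxh)
    simpa using this
  have h2 : h⁻¹ * (a * x * a⁻¹) * h = x := by
    have e : h⁻¹ * (a * x * a⁻¹) * h = (h⁻¹ * a) * x * (h⁻¹ * a)⁻¹ := by group
    rw [e] at hah ⊢
    exact zstarInf_weakly_closed S hx _ hah
  have h3 : h⁻¹ * (a * x * a⁻¹) * h = h⁻¹ * x * h := by rw [h1, h2]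
  have := congrArg (fun w => h * w * h⁻¹) h3
  simpa [mul_assoc] using this

/-- `S ∩ Z*(G)` is central in `S`. -/
theorem zstarInf_commute (S : Sylow 2 G) {x s : G} (hx : x ∈ zstarInf S)
    (hs : s ∈ (S : Subgroup G)) : s * x * s⁻¹ = x := by
  obtain ⟨hxS, -⟩ := (mem_zstarInf_iff S).mp hx
  exact zstarInf_weakly_closed S hx s
    (Subgroup.mul_mem _ (Subgroup.mul_mem _ hs hxS) (Subgroup.inv_mem _ hs))

/-- Two `p`-subgroups `A`, `B` of a subgroup `C` can be brought into one conjugate of a Sylow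
`p`-subgroup `S` of `G` after conjugating `B` by an element of `C`. -/
theorem exists_conj_common_sylow {p : ℕ} [Fact p.Prime] (S : Sylow p G) {A B C : Subgroup G}
    (hA : IsPGroup p A) (hB : IsPGroup p B) (hAC : A ≤ C) (hBC : B ≤ C) :
    ∃ c ∈ C, ∃ h : G, (∀ a ∈ A, h⁻¹ * a * h ∈ (S : Subgroup G)) ∧
      ∀ b ∈ B, h⁻¹ * (c * b * c⁻¹) * h ∈ (S : Subgroup G) := by
  obtain ⟨R, hR⟩ := (hA.comap_subtype (K := C)).exists_le_sylow
  obtain ⟨R₂, hR₂⟩ := (hB.comap_subtype (K := C)).exists_le_sylow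
  obtain ⟨c, hc⟩ := MulAction.exists_smul_eq C R₂ R
  have hR' : IsPGroup p ((R : Subgroup C).map C.subtype) := R.isPGroup'.map _
  obtain ⟨S₁, hS₁⟩ := hR'.exists_le_sylow
  obtain ⟨h, hh⟩ := MulAction.exists_smul_eq G S S₁
  have hmem : ∀ y ∈ (S₁ : Subgroup G), h⁻¹ * y * h ∈ (S : Subgroup G) := by
    intro y hy
    rw [← hh, Sylow.coe_subgroup_smul] at hy
    obtain ⟨w, hw, rfl⟩ := hy
    simp only [MulDistribMulAction.toMonoidEnd_apply, MulDistribMulAction.toMonoidHom_apply,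
      MulAut.smul_def, MulAut.conj_apply]
    have : h⁻¹ * (h * w * h⁻¹) * h = w := by group
    rw [this]; exact hw
  refine ⟨c, c.2, h, ?_, ?_⟩
  · intro a ha
    apply hmem
    apply hS₁
    refine ⟨⟨a, hAC ha⟩, hR ?_, rfl⟩
    rw [Subgroup.mem_comap]; exact ha
  · intro b hb
    apply hmem
    apply hS₁
    have hb' : (⟨b, hBC hb⟩ : C) ∈ (R₂ : Subgroup C) := by
      apply hR₂
      rw [Subgroup.mem_comap]; exact hb
    have : c * ⟨b, hBC hb⟩ * c⁻¹ ∈ (R : Subgroup C) := by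
      rw [← hc, Sylow.coe_subgroup_smul]
      exact ⟨⟨b, hBC hb⟩, hb', rfl⟩
    exact ⟨c * ⟨b, hBC hb⟩ * c⁻¹, this, rfl⟩

/-- `S ∩ Z*(G)` is central in the fusion system of `G` on `S`. -/
theorem zstarInf_isCentral (S : Sylow 2 G) :
    (groupFusionSystem (S : Subgroup G)).IsCentral (zstarInf S) := by
  have hTS : zstarInf S ≤ (S : Subgroup G) := inf_le_left
  refine ⟨hTS, ?_⟩
  rintro P φ ⟨hPS, hφS, g, hg⟩
  have h2 : Fact (Nat.Prime 2) := ⟨Nat.prime_two⟩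
  have hTC : zstarInf S ≤ Subgroup.centralizer (P : Set G) := by
    intro x hx
    rw [Subgroup.mem_centralizer_iff]
    intro y hy
    have := zstarInf_commute S hx (hPS hy)
    calc y * x = (y * x * y⁻¹) * y := by group
      _ = x * y := by rw [this]
  have hT'C : (zstarInf S).map (MulAut.conj g⁻¹).toMonoidHom ≤
      Subgroup.centralizer (P : Set G) := by
    rintro _ ⟨x, hx, rfl⟩
    rw [Subgroup.mem_centralizer_iff]
    intro y hy
    have hgy : g * y * g⁻¹ ∈ (S : Subgroup G) := by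
      have := hφS ⟨y, hy⟩
      rwa [hg] at this
    have := zstarInf_commute S hx hgy
    simp only [MulEquiv.coe_toMonoidHom, MulAut.conj_apply, inv_inv]
    have e : (g * y * g⁻¹) * x = x * (g * y * g⁻¹) := by
      calc (g * y * g⁻¹) * x = ((g * y * g⁻¹) * x * (g * y * g⁻¹)⁻¹) * (g * y * g⁻¹) := by group
        _ = x * (g * y * g⁻¹) := by rw [this]
    calc y * (g⁻¹ * x * g) = g⁻¹ * ((g * y * g⁻¹) * x) * g := by group
      _ = g⁻¹ * (x * (g * y * g⁻¹)) * g := by rw [e]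
      _ = g⁻¹ * x * g * y := by group
  have hTp : IsPGroup 2 (zstarInf S) := S.isPGroup'.to_le hTS
  have hT'p : IsPGroup 2 ((zstarInf S).map (MulAut.conj g⁻¹).toMonoidHom) := hTp.map _
  obtain ⟨c, hcC, h, hh1, hh2⟩ := exists_conj_common_sylow S hTp hT'p hTC hT'C
  have key : ∀ x ∈ zstarInf S, (c * g⁻¹) * x * (c * g⁻¹)⁻¹ = x := by
    intro x hx
    apply zstarInf_unique_conj S hx h (c * g⁻¹) (hh1 x hx)
    have := hh2 (g⁻¹ * x * g) ⟨x, hx, by simp⟩
    have e : c * g⁻¹ * x * (c * g⁻¹)⁻¹ = c * (g⁻¹ * x * g) * c⁻¹ := by group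
    rw [e]; exact this
  have hg'T : ∀ x ∈ zstarInf S, (g * c⁻¹) * x * (g * c⁻¹)⁻¹ = x := by
    intro x hx
    have := key x hx
    calc (g * c⁻¹) * x * (g * c⁻¹)⁻¹
        = (g * c⁻¹) * ((c * g⁻¹) * x * (c * g⁻¹)⁻¹) * (g * c⁻¹)⁻¹ := by rw [this]
      _ = x := by group
  have hg'P : ∀ y ∈ P, (g * c⁻¹) * y * (g * c⁻¹)⁻¹ = g * y * g⁻¹ := by
    intro y hy
    rw [Subgroup.mem_centralizer_iff] at hcC
    have h1 := hcC y hy
    have h3 : c⁻¹ * y * c = y := by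
      calc c⁻¹ * y * c = c⁻¹ * (y * c) := by group
        _ = c⁻¹ * (c * y) := by rw [h1]
        _ = y := by group
    calc (g * c⁻¹) * y * (g * c⁻¹)⁻¹ = g * (c⁻¹ * y * c) * g⁻¹ := by group
      _ = g * y * g⁻¹ := by rw [h3]
  have hle : P ⊔ zstarInf S ≤
      (S : Subgroup G).comap (MulAut.conj (g * c⁻¹)).toMonoidHom := by
    apply sup_le
    · intro y hy
      rw [Subgroup.mem_comap]
      simp only [MulEquiv.coe_toMonoidHom, MulAut.conj_apply]
      rw [hg'P y hy]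
      have := hφS ⟨y, hy⟩
      rwa [hg] at this
    · intro y hy
      rw [Subgroup.mem_comap]
      simp only [MulEquiv.coe_toMonoidHom, MulAut.conj_apply]
      rw [hg'T y hy]
      exact hTS hy
  refine ⟨conjHom (P ⊔ zstarInf S) (g * c⁻¹),
    ⟨sup_le hPS hTS, fun x => ?_, g * c⁻¹, fun x => rfl⟩, fun x => ?_, fun x => ?_⟩
  · have := hle x.2
    rw [Subgroup.mem_comap] at this
    exact this
  · show (g * c⁻¹) * (x : G) * (g * c⁻¹)⁻¹ = φ x
    rw [hg, hg'P _ x.2]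
  · show (g * c⁻¹) * (x : G) * (g * c⁻¹)⁻¹ = x
    exact hg'T _ x.2

/-- A subgroup central in the fusion system of `G` on `S` lies in `S ∩ Z*(G)`. -/
theorem le_zstarInf_of_isCentral (S : Sylow 2 G) {Q : Subgroup G}
    (hQ : (groupFusionSystem (S : Subgroup G)).IsCentral Q) : Q ≤ zstarInf S := by
  obtain ⟨hQS, hext⟩ := hQ
  have hwc : ∀ x ∈ Q, ∀ g : G, g * x * g⁻¹ ∈ (S : Subgroup G) → g * x * g⁻¹ = x := by
    intro x hxQ g hg
    have hzS : Subgroup.zpowers x ≤ (S : Subgroup G) := by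
      rw [Subgroup.zpowers_le]; exact hQS hxQ
    have hφ : conjHom (Subgroup.zpowers x) g ∈
        (groupFusionSystem (S : Subgroup G)).Hom (Subgroup.zpowers x) := by
      refine ⟨hzS, ?_, g, fun y => rfl⟩
      rintro ⟨y, hy⟩
      obtain ⟨k, rfl⟩ := Subgroup.mem_zpowers_iff.mp hy
      show g * x ^ k * g⁻¹ ∈ (S : Subgroup G)
      rw [← conj_zpow]
      exact Subgroup.zpow_mem _ hg k
    obtain ⟨ψ, -, hψ1, hψ2⟩ := hext _ _ hφ
    have h1 := hψ1 ⟨x, Subgroup.mem_zpowers x⟩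
    have h3 := hψ2 ⟨x, hxQ⟩
    have e : (Subgroup.inclusion le_sup_left ⟨x, Subgroup.mem_zpowers x⟩ :
        ↥(Subgroup.zpowers x ⊔ Q)) = Subgroup.inclusion le_sup_right ⟨x, hxQ⟩ := rfl
    rw [e, h3] at h1
    exact h1.symm
  intro x hxQ
  rw [mem_zstarInf_iff]
  refine ⟨hQS hxQ, fun g => ?_⟩
  have := weakly_closed_zstar S Q hQS hwc x hxQ g⁻¹
  have hNn : (pPrimeCore 2 G).Normal := Cfsg.Agent.Lib.Helper1.pPrimeCore_normal 2
  have h1 := hNn.conj_mem _ this g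
  have e : g * (x * g⁻¹ * x⁻¹ * g⁻¹⁻¹) * g⁻¹ = g * x * g⁻¹ * x⁻¹ := by group
  rw [e] at h1
  exact h1

theorem groupFusionSystem_center_eq (S : Sylow 2 G) :
    (groupFusionSystem (S : Subgroup G)).center = zstarInf S := by
  apply le_antisymm
  · apply sSup_le
    intro Q hQ
    exact le_zstarInf_of_isCentral S hQ
  · exact le_sSup (zstarInf_isCentral S)

end Cfsg.Agent.Lib.Helper9
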