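import Mathlib
import Cfsg.Agent.Lib.Helper9.ZStarGen
import Cfsg.Agent.Lib.Helper9.ZStarFusion
import Cfsg.Agent.Lib.Helper1.Coprime

/-!
`Z*`-type results for subgroups all of whose *cyclic subgroups* are weakly closed.
-/

set_option autoImplicit false

namespace Cfsg.Agent.Lib.Helper9

open Cfsg Cfsg.Agent.Lib.Helper1
open Pointwise

universe u

/-- A finite group without subgroups of index `2` has only trivial homomorphisms into
`2`-groups. -/
theorem hom_eq_one_of_no_index_two {K P : Type*} [Group K] [Finite K] [Group P]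
    (hK : ∀ M : Subgroup K, M.index ≠ 2) (hP : IsPGroup 2 P) (f : K →* P) (k : K) : f k = 1 := by
  have h2 : Fact (Nat.Prime 2) := ⟨Nat.prime_two⟩
  by_contra hne
  have hR : IsPGroup 2 f.range := hP.to_subgroup _
  have hfin : Finite f.range := Finite.of_surjective f.rangeRestrict f.rangeRestrict_surjective
  obtain ⟨j, hj⟩ := IsPGroup.iff_card.mp hR
  have hj0 : j ≠ 0 := by
    rintro rfl
    rw [pow_zero] at hj
    have hsub := (Nat.card_eq_one_iff_unique.mp hj).1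
    have : (⟨f k, k, rfl⟩ : f.range) = 1 := Subsingleton.elim _ _
    exact hne (congrArg Subtype.val this)
  obtain ⟨j', rfl⟩ := Nat.exists_eq_succ_of_ne_zero hj0
  have hdvd : 2 ^ j' ∣ Nat.card f.range := by
    rw [hj]; exact pow_dvd_pow 2 (Nat.le_succ j')
  obtain ⟨M', hM'⟩ := Sylow.exists_subgroup_card_pow_prime 2 hdvd
  have hidx : M'.index = 2 := by
    have h1 := Subgroup.card_mul_index M'
    rw [hM', hj, pow_succ] at h1
    exact Nat.eq_of_mul_eq_mul_left (pow_pos (by norm_num) j') h1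
  have hsurj : Function.Surjective f.rangeRestrict := f.rangeRestrict_surjective
  have := Subgroup.index_comap_of_surjective M' hsurj
  exact hK _ (this.trans hidx)

variable {G : Type u} [Group G] [Finite G]

/-- If `G = K S`, `K` has no subgroup of index `2`, `S` centralizes `x` and all commutators
`[g, x]` lie in a central `2`-subgroup `D`, then `x` is central. -/
theorem mem_center_of_commutator_mem (K S D : Subgroup G) (hKS : K ⊔ S = ⊤)
    (hK : ∀ M : Subgroup K, M.index ≠ 2) (hD : D ≤ Subgroup.center G) (hDp : IsPGroup 2 D)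
    (x : G) (hxS : ∀ s ∈ S, s * x = x * s) (hx : ∀ g : G, g * x * g⁻¹ * x⁻¹ ∈ D) :
    x ∈ Subgroup.center G := by
  let φ : G →* ↥D :=
    { toFun := fun g => ⟨g * x * g⁻¹ * x⁻¹, hx g⟩
      map_one' := by apply Subtype.ext; simp
      map_mul' := by
        intro a b
        apply Subtype.ext
        show (a * b) * x * (a * b)⁻¹ * x⁻¹ = (a * x * a⁻¹ * x⁻¹) * (b * x * b⁻¹ * x⁻¹)
        have hc := Subgroup.mem_center_iff.mp (hD (hx b))
        calc (a * b) * x * (a * b)⁻¹ * x⁻¹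
            = a * ((b * x * b⁻¹ * x⁻¹) * (x * a⁻¹ * x⁻¹)) := by group
          _ = a * ((x * a⁻¹ * x⁻¹) * (b * x * b⁻¹ * x⁻¹)) := by rw [hc]
          _ = _ := by group }
  have hφK : K ≤ φ.ker := by
    intro k hk
    rw [MonoidHom.mem_ker]
    exact hom_eq_one_of_no_index_two hK hDp (φ.comp K.subtype) ⟨k, hk⟩
  have hφS : S ≤ φ.ker := by
    intro s hs
    rw [MonoidHom.mem_ker]
    apply Subtype.ext
    show s * x * s⁻¹ * x⁻¹ = 1
    rw [hxS s hs]; group
  have hker : φ.ker = ⊤ := by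
    rw [eq_top_iff, ← hKS]
    exact sup_le hφK hφS
  rw [Subgroup.mem_center_iff]
  intro g
  have hg : g ∈ φ.ker := by rw [hker]; trivial
  rw [MonoidHom.mem_ker] at hg
  have h1 : g * x * g⁻¹ * x⁻¹ = 1 := congrArg Subtype.val hg
  have := congrArg (· * (x * g)) h1
  simpa [mul_assoc] using this

/-- Inductive `Z*`-argument with `O(G) = 1`: `Q ≤ S` such that conjugates in `S` of `x ∈ Q` lie in
`x ⟨x²⟩`, together with a finishing hypothesis. -/
theorem cyclic_weakly_closed_le_center_aux (hO : pPrimeCore 2 G = ⊥) (S : Sylow 2 G)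
    (Q : Subgroup G) (hQS : Q ≤ S)
    (ha : ∀ x ∈ Q, ∀ g : G, g * x * g⁻¹ ∈ (S : Subgroup G) →
      g * x * g⁻¹ * x⁻¹ ∈ Subgroup.zpowers (x ^ 2))
    (hfin : ∀ x ∈ Q, x ^ 2 ∈ Subgroup.center G →
      (∀ g : G, g * x * g⁻¹ * x⁻¹ ∈ Subgroup.zpowers (x ^ 2)) → x ∈ Subgroup.center G) :
    ∀ n : ℕ, ∀ x ∈ Q, orderOf x = n → x ∈ Subgroup.center G := by
  intro n
  induction n using Nat.strong_induction_on with
  | _ n ih =>
  intro x hxQ hn
  by_cases hx1 : x = 1
  · rw [hx1]; exact Subgroup.one_mem _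
  have h2 : Fact (Nat.Prime 2) := ⟨Nat.prime_two⟩
  obtain ⟨k, hk⟩ := (IsPGroup.iff_orderOf.mp S.isPGroup') ⟨x, hQS hxQ⟩
  rw [Subgroup.orderOf_mk] at hk
  have hk0 : k ≠ 0 := by
    rintro rfl
    rw [pow_zero, orderOf_eq_one_iff] at hk
    exact hx1 hk
  obtain ⟨k', rfl⟩ := Nat.exists_eq_succ_of_ne_zero hk0
  have hd : orderOf (x ^ 2) = 2 ^ k' := by
    rw [orderOf_pow' _ (by norm_num : (2 : ℕ) ≠ 0), hk]
    have : Nat.gcd (2 ^ (k' + 1)) 2 = 2 := by
      apply Nat.gcd_eq_right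
      exact dvd_pow_self 2 (Nat.succ_ne_zero k')
    rw [this, pow_succ, Nat.mul_div_cancel _ (by norm_num : 0 < 2)]
  have hdQ : x ^ 2 ∈ Q := Q.pow_mem hxQ 2
  have hdc : x ^ 2 ∈ Subgroup.center G := by
    apply ih (2 ^ k') _ (x ^ 2) hdQ hd
    rw [← hn, hk]
    exact Nat.pow_lt_pow_right (by norm_num) (Nat.lt_succ_self k')
  set D := Subgroup.zpowers (x ^ 2) with hD
  have hDc : D ≤ Subgroup.center G := by
    rw [hD, Subgroup.zpowers_le]; exact hdc
  have hDS : D ≤ (S : Subgroup G) := by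
    rw [hD, Subgroup.zpowers_le]; exact hQS hdQ
  have hDn : D.Normal := by
    constructor
    intro d hd' g
    have := Subgroup.mem_center_iff.mp (hDc hd') g
    have e : g * d * g⁻¹ = d := by rw [this, mul_inv_cancel_right]
    rw [e]; exact hd'
  have hDp : IsPGroup 2 D := S.isPGroup'.to_le hDS
  by_cases hxD : x ∈ D
  · exact hDc hxD
  have hO' := pPrimeCore_quotient_central_eq_bot hO D hDc hDp
  have hx2 : orderOf (QuotientGroup.mk x : G ⧸ D) = 2 := by
    apply orderOf_eq_prime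
    · rw [← QuotientGroup.mk_pow]
      exact (QuotientGroup.eq_one_iff _).mpr (Subgroup.mem_zpowers _)
    · intro h
      exact hxD ((QuotientGroup.eq_one_iff x).mp h)
  let S' : Sylow 2 (G ⧸ D) := S.mapSurjective (QuotientGroup.mk'_surjective D)
  have hS' : (S' : Subgroup (G ⧸ D)) = (S : Subgroup G).map (QuotientGroup.mk' D) := rfl
  have hxS' : (QuotientGroup.mk x : G ⧸ D) ∈ S' := by
    show (QuotientGroup.mk x : G ⧸ D) ∈ (S' : Subgroup (G ⧸ D))
    rw [hS']
    exact ⟨x, hQS hxQ, rfl⟩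
  have hwc : ∀ g' : G ⧸ D, g' * (QuotientGroup.mk x : G ⧸ D) * g'⁻¹ ∈ S' →
      g' * (QuotientGroup.mk x : G ⧸ D) * g'⁻¹ = QuotientGroup.mk x := by
    intro g' hg'
    obtain ⟨g, rfl⟩ := QuotientGroup.mk_surjective g'
    have hg'' : (QuotientGroup.mk g : G ⧸ D) * (QuotientGroup.mk x : G ⧸ D) *
        (QuotientGroup.mk g : G ⧸ D)⁻¹ ∈ (S : Subgroup G).map (QuotientGroup.mk' D) := hg'
    obtain ⟨s, hs, hs'⟩ := hg''
    have h1 : s⁻¹ * (g * x * g⁻¹) ∈ D := by
      rw [← QuotientGroup.eq]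
      exact hs'
    have h3 : g * x * g⁻¹ ∈ (S : Subgroup G) := by
      have : g * x * g⁻¹ = s * (s⁻¹ * (g * x * g⁻¹)) := by group
      rw [this]
      exact Subgroup.mul_mem _ hs (hDS h1)
    have h4 := ha x hxQ g h3
    have h5 : (QuotientGroup.mk (g * x * g⁻¹ * x⁻¹) : G ⧸ D) = 1 :=
      (QuotientGroup.eq_one_iff _).mpr h4
    rw [QuotientGroup.mk_mul, QuotientGroup.mk_inv] at h5
    rw [← QuotientGroup.mk_inv, ← QuotientGroup.mk_mul, ← QuotientGroup.mk_mul]
    exact mul_inv_eq_one.mp h5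
  have hcen := isolated_mem_center (isolated_of_weakly_closed S' hx2 hxS' hwc) hO'
  apply hfin x hxQ hdc
  intro g
  rw [← QuotientGroup.eq_one_iff]
  have := Subgroup.mem_center_iff.mp hcen (QuotientGroup.mk g)
  simp only [QuotientGroup.mk_mul, QuotientGroup.mk_inv]
  rw [this, mul_inv_cancel_right, mul_inv_cancel]

/-- If an abelian subgroup `Z` of a Sylow `2`-subgroup is central modulo `O(G)`, then
`G = O(G) C_G(Z)`. -/
theorem factor_of_central_mod_core (S : Sylow 2 G) (Z : Subgroup G) (hZS : Z ≤ S)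
    (hZab : ∀ a ∈ Z, ∀ b ∈ Z, a * b = b * a)
    (hZc : ∀ z ∈ Z, ∀ g : G, g * z * g⁻¹ * z⁻¹ ∈ pPrimeCore 2 G) (h : G) :
    ∃ o ∈ pPrimeCore 2 G, ∃ c ∈ Subgroup.centralizer (Z : Set G), h = o * c := by
  have h2 : Fact (Nat.Prime 2) := ⟨Nat.prime_two⟩
  have hNn : (pPrimeCore 2 G).Normal := Cfsg.Agent.Lib.Helper1.pPrimeCore_normal 2
  have hZN : Z ⊓ pPrimeCore 2 G = ⊥ := by
    rw [eq_bot_iff, ← sylow_inf_pPrimeCore S]
    exact inf_le_inf_right _ hZS
  have hact : CoprimeAct Z (pPrimeCore 2 G) :=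
    { norm := by
        rw [Subgroup.normalizer_eq_top_iff.mpr hNn]; exact le_top
      cop := by
        obtain ⟨n, hn⟩ := IsPGroup.iff_card.mp (S.isPGroup'.to_le hZS)
        rw [hn]
        exact Nat.Coprime.pow_left n (pPrimeCore_coprime 2).symm
      solv := Or.inl (Group.isSolvable_of_comm
        (fun a b => Subtype.ext (hZab a a.2 b b.2))) }
  have hB : MulAut.conj h • Z ≤ Z ⊔ pPrimeCore 2 G := by
    rw [conj_smul_le_iff]
    intro z hz
    have : h * z * h⁻¹ = (h * z * h⁻¹ * z⁻¹) * z := by group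
    rw [this]
    exact Subgroup.mul_mem _ (le_sup_right (a := Z) (hZc z hz h)) (le_sup_left (b := pPrimeCore 2 G) hz)
  obtain ⟨k, hk, hkZ⟩ := hact.exists_conj_eq (MulAut.conj h • Z) hB (card_conj_smul h Z)
  refine ⟨k, hk, k⁻¹ * h, ?_, by group⟩
  have hnorm : ∀ z ∈ Z, (k⁻¹ * h) * z * (k⁻¹ * h)⁻¹ ∈ Z := by
    intro z hz
    have h1 : h * z * h⁻¹ ∈ MulAut.conj k • Z := by
      rw [hkZ, mem_conj_smul]
      have : h⁻¹ * (h * z * h⁻¹) * h = z := by group
      rw [this]; exact hz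
    rw [mem_conj_smul] at h1
    have : (k⁻¹ * h) * z * (k⁻¹ * h)⁻¹ = k⁻¹ * (h * z * h⁻¹) * k := by group
    rw [this]; exact h1
  rw [Subgroup.mem_centralizer_iff]
  intro z hz
  have h1 := hnorm z hz
  have h3 : (k⁻¹ * h) * z * (k⁻¹ * h)⁻¹ * z⁻¹ ∈ Z ⊓ pPrimeCore 2 G :=
    Subgroup.mem_inf.mpr ⟨Subgroup.mul_mem _ h1 (Subgroup.inv_mem _ hz), hZc z hz _⟩
  rw [hZN, Subgroup.mem_bot] at h3
  have h4 : (k⁻¹ * h) * z * (k⁻¹ * h)⁻¹ = z := mul_inv_eq_one.mp h3
  calc z * (k⁻¹ * h) = ((k⁻¹ * h) * z * (k⁻¹ * h)⁻¹) * (k⁻¹ * h) := by rw [h4]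
    _ = (k⁻¹ * h) * z := by group

/-- A normal subgroup of `2`-power index together with a Sylow `2`-subgroup generates `G`. -/
theorem sup_sylow_eq_top_of_index_pow (S : Sylow 2 G) (K : Subgroup G)
    (hKidx : ∃ a : ℕ, K.index = 2 ^ a) : K ⊔ (S : Subgroup G) = ⊤ := by
  have h2 : Fact (Nat.Prime 2) := ⟨Nat.prime_two⟩
  obtain ⟨a, ha⟩ := hKidx
  have h1 : (K ⊔ (S : Subgroup G)).index ∣ 2 ^ a := ha ▸ Subgroup.index_dvd_of_le le_sup_left
  have h3 : (K ⊔ (S : Subgroup G)).index ∣ (S : Subgroup G).index :=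
    Subgroup.index_dvd_of_le le_sup_right
  obtain ⟨b, -, hb⟩ := (Nat.dvd_prime_pow Nat.prime_two).mp h1
  rcases b with _ | b
  · rw [pow_zero] at hb
    exact Subgroup.index_eq_one.mp hb
  · exfalso
    apply S.not_dvd_index
    rw [hb] at h3
    exact (dvd_pow_self 2 (Nat.succ_ne_zero b)).trans h3

/-- **`Z*` for cyclic weak closure**: let `Z ≤ Z(S)` be such that every subgroup of `Z` is weakly
closed in the Sylow `2`-subgroup `S`, and let `K` be a normal subgroup of `2`-power index without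
subgroups of index `2`.  Then `Z` is central modulo `O(G)`. -/
theorem central_mod_core_of_cyclic_weakly_closed (S : Sylow 2 G) (Z : Subgroup G) (hZS : Z ≤ S)
    (hZcent : ∀ z ∈ Z, ∀ s ∈ (S : Subgroup G), s * z = z * s)
    (hwc : ∀ Z₀ : Subgroup G, Z₀ ≤ Z → IsWeaklyClosed Z₀ (S : Subgroup G))
    (K : Subgroup G) [K.Normal] (hKidx : ∃ a : ℕ, K.index = 2 ^ a)
    (hK : ∀ M : Subgroup K, M.index ≠ 2) :
    ∀ z ∈ Z, ∀ g : G, g * z * g⁻¹ * z⁻¹ ∈ pPrimeCore 2 G := by
  have h2 : Fact (Nat.Prime 2) := ⟨Nat.prime_two⟩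
  have hNn : (pPrimeCore 2 G).Normal := Cfsg.Agent.Lib.Helper1.pPrimeCore_normal 2
  have hO' : pPrimeCore 2 (G ⧸ pPrimeCore 2 G) = ⊥ :=
    Cfsg.Agent.Lib.Helper10.pPrimeCore_quotient_eq_bot 2
  let S' : Sylow 2 (G ⧸ pPrimeCore 2 G) :=
    S.mapSurjective (QuotientGroup.mk'_surjective (pPrimeCore 2 G))
  have hS' : (S' : Subgroup (G ⧸ pPrimeCore 2 G)) =
      (S : Subgroup G).map (QuotientGroup.mk' (pPrimeCore 2 G)) := rfl
  have hQS' : Z.map (QuotientGroup.mk' (pPrimeCore 2 G)) ≤ S' := by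
    show Z.map (QuotientGroup.mk' (pPrimeCore 2 G)) ≤ (S' : Subgroup (G ⧸ pPrimeCore 2 G))
    rw [hS']
    exact Subgroup.map_mono hZS
  -- `K̄ S̄ = Ḡ`
  have hKS' : K.map (QuotientGroup.mk' (pPrimeCore 2 G)) ⊔ (S' : Subgroup (G ⧸ pPrimeCore 2 G)) = ⊤ := by
    rw [hS', ← Subgroup.map_sup, sup_sylow_eq_top_of_index_pow S K hKidx]
    exact Subgroup.map_top_of_surjective _ (QuotientGroup.mk'_surjective _)
  -- `K̄` has no subgroup of index two
  have hK' : ∀ M : Subgroup ↥(K.map (QuotientGroup.mk' (pPrimeCore 2 G))), M.index ≠ 2 := by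
    intro M hM
    have hsurj := (QuotientGroup.mk' (pPrimeCore 2 G)).subgroupMap_surjective K
    have := Subgroup.index_comap_of_surjective M hsurj
    exact hK _ (this.trans hM)
  -- hypothesis (a)
  have ha : ∀ x' ∈ Z.map (QuotientGroup.mk' (pPrimeCore 2 G)), ∀ g' : G ⧸ pPrimeCore 2 G,
      g' * x' * g'⁻¹ ∈ (S' : Subgroup (G ⧸ pPrimeCore 2 G)) →
      g' * x' * g'⁻¹ * x'⁻¹ ∈ Subgroup.zpowers (x' ^ 2) := by
    rintro _ ⟨x, hxZ, rfl⟩ g' hg'
    obtain ⟨g, rfl⟩ := QuotientGroup.mk_surjective g'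
    rw [hS'] at hg'
    obtain ⟨s, hs, hs'⟩ := hg'
    have h1 : s⁻¹ * (g * x * g⁻¹) ∈ pPrimeCore 2 G := by
      rw [← QuotientGroup.eq]
      exact hs'
    have hy : g * x * g⁻¹ ∈ (S : Subgroup G) ⊔ pPrimeCore 2 G := by
      have : g * x * g⁻¹ = s * (s⁻¹ * (g * x * g⁻¹)) := by group
      rw [this]
      exact Subgroup.mul_mem _ (le_sup_left (b := pPrimeCore 2 G) hs)
        (le_sup_right (a := (S : Subgroup G)) h1)
    obtain ⟨k, hk⟩ := (IsPGroup.iff_orderOf.mp S.isPGroup') ⟨x, hZS hxZ⟩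
    rw [Subgroup.orderOf_mk] at hk
    have hyp : IsPGroup 2 (Subgroup.zpowers (g * x * g⁻¹)) := by
      apply IsPGroup.of_card (n := k)
      rw [Nat.card_zpowers, orderOf_conj_eq, hk]
    obtain ⟨n, hn, hny⟩ := exists_conj_mem_sylow_of_mem_sup S (pPrimeCore 2 G) hy hyp
    have e1 : n * (g * x * g⁻¹) * n⁻¹ = (n * g) * x * (n * g)⁻¹ := by group
    rw [e1] at hny
    -- weak closure of `⟨x⟩`
    have hZ₀ : Subgroup.zpowers x ≤ Z := by rw [Subgroup.zpowers_le]; exact hxZ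
    have hmapS : (Subgroup.zpowers x).map (MulAut.conj (n * g)).toMonoidHom ≤ (S : Subgroup G) := by
      rintro _ ⟨y, hy', rfl⟩
      obtain ⟨i, rfl⟩ := Subgroup.mem_zpowers_iff.mp hy'
      simp only [MulEquiv.coe_toMonoidHom, MulAut.conj_apply]
      rw [← conj_zpow]
      exact Subgroup.zpow_mem _ hny i
    have heq := (hwc _ hZ₀).2 (n * g) hmapS
    have hmem : (n * g) * x * (n * g)⁻¹ ∈ Subgroup.zpowers x := by
      rw [← heq]
      exact ⟨x, Subgroup.mem_zpowers x, by simp only [MulEquiv.coe_toMonoidHom, MulAut.conj_apply]⟩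
    have hfin : IsOfFinOrder x := isOfFinOrder_of_finite x
    obtain ⟨j, hj⟩ := (hfin.mem_powers_iff_mem_zpowers.mpr hmem)
    have hj' : x ^ j = (n * g) * x * (n * g)⁻¹ := hj
    -- `j` is odd unless `x = 1`
    have hcomm : (n * g) * x * (n * g)⁻¹ * x⁻¹ ∈ Subgroup.zpowers (x ^ 2) := by
      by_cases hx1 : x = 1
      · rw [hx1]; simp
      have hk0 : k ≠ 0 := by
        rintro rfl
        rw [pow_zero, orderOf_eq_one_iff] at hk
        exact hx1 hk
      have hord : orderOf (x ^ j) = orderOf x := by rw [hj', orderOf_conj_eq]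
      have hgcd : Nat.gcd (orderOf x) j = 1 := by
        rw [orderOf_pow] at hord
        have hpos : 0 < orderOf x := orderOf_pos x
        rcases Nat.div_eq_self.mp hord with h | h
        · omega
        · exact h
      have hjodd : Odd j := by
        rcases Nat.even_or_odd j with hev | hod
        · exfalso
          have h2j : 2 ∣ j := even_iff_two_dvd.mp hev
          have h2o : 2 ∣ orderOf x := by rw [hk]; exact dvd_pow_self 2 hk0
          have := Nat.dvd_gcd h2o h2j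
          rw [hgcd] at this
          omega
        · exact hod
      obtain ⟨i, hi⟩ := hjodd
      have e2 : x ^ (2 * i + 1) * x⁻¹ = (x ^ 2) ^ i := by
        rw [pow_succ (n := 2 * i), mul_inv_cancel_right, pow_mul]
      rw [← hj', hi, e2]
      exact Subgroup.pow_mem _ (Subgroup.mem_zpowers _) i
    have hn1 : (QuotientGroup.mk n : G ⧸ pPrimeCore 2 G) = 1 :=
      (QuotientGroup.eq_one_iff n).mpr hn
    have h5 := Subgroup.mem_map_of_mem (QuotientGroup.mk' (pPrimeCore 2 G)) hcomm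
    rw [MonoidHom.map_zpowers] at h5
    simp only [map_mul, map_inv, map_pow, QuotientGroup.mk'_apply, hn1, one_mul] at h5
    exact h5
  -- the finishing hypothesis
  have hfin : ∀ x' ∈ Z.map (QuotientGroup.mk' (pPrimeCore 2 G)),
      x' ^ 2 ∈ Subgroup.center (G ⧸ pPrimeCore 2 G) →
      (∀ g' : G ⧸ pPrimeCore 2 G, g' * x' * g'⁻¹ * x'⁻¹ ∈ Subgroup.zpowers (x' ^ 2)) →
      x' ∈ Subgroup.center (G ⧸ pPrimeCore 2 G) := by
    intro x' hx' hx2c hall
    apply mem_center_of_commutator_mem _ (S' : Subgroup (G ⧸ pPrimeCore 2 G))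
      (Subgroup.zpowers (x' ^ 2)) hKS' hK' _ _ x' _ hall
    · rw [Subgroup.zpowers_le]; exact hx2c
    · apply S'.isPGroup'.to_le
      rw [Subgroup.zpowers_le]
      exact Subgroup.pow_mem _ (hQS' hx') 2
    · intro s' hs'
      rw [hS'] at hs'
      obtain ⟨s, hs, rfl⟩ := hs'
      obtain ⟨x, hxZ, rfl⟩ := hx'
      rw [← map_mul, ← map_mul, hZcent x hxZ s hs]
  intro z hz g
  have hcen := cyclic_weakly_closed_le_center_aux hO' S' _ hQS' ha hfin _
    (QuotientGroup.mk' (pPrimeCore 2 G) z) (Subgroup.mem_map_of_mem _ hz) rfl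
  rw [← QuotientGroup.eq_one_iff]
  have := Subgroup.mem_center_iff.mp hcen (QuotientGroup.mk g)
  simp only [QuotientGroup.mk_mul, QuotientGroup.mk_inv]
  rw [QuotientGroup.mk'_apply] at this
  rw [this, mul_inv_cancel_right, mul_inv_cancel]

end Cfsg.Agent.Lib.Helper9
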